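import Mathlib
import Groth.Prelude.Def_RatFun

/-! The ring of rational functions: basic API. -/

universe u

open CategoryTheory AlgebraicGeometry TopologicalSpace Opposite

namespace Groth.Agent.H9Misc.RatFunLib

variable (X : Scheme.{u})

instance : IsCofiltered (RatFun.IsDenseOpen X).FullSubcategory where
  cone_objs U V :=
    ⟨⟨U.1 ⊓ V.1, U.2.inter_of_isOpen_left V.2 U.1.isOpen⟩,
      ObjectProperty.homMk (homOfLE inf_le_left), ObjectProperty.homMk (homOfLE inf_le_right), trivial⟩
  cone_maps U V f g := ⟨U, 𝟙 _, ObjectProperty.hom_ext _ (Subsingleton.elim _ _)⟩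
  nonempty := ⟨⟨⊤, dense_univ⟩⟩

variable {X}

/-- Restriction of sections. -/
abbrev res {V W : X.Opens} (h : W ≤ V) (s : Γ(X, V)) : Γ(X, W) := (X.presheaf.map (homOfLE h).op).hom s

lemma res_res {U V W : X.Opens} (h : W ≤ V) (h' : V ≤ U) (s : Γ(X, U)) :
    res h (res h' s) = res (h.trans h') s :=
  (ConcreteCategory.congr_hom (X.presheaf.map_comp (homOfLE h').op (homOfLE h).op) s).symm

lemma toRing_res {V W : X.Opens} (hV : Dense (V : Set X)) (hW : Dense (W : Set X)) (h : W ≤ V)
    (s : Γ(X, V)) : RatFun.toRing X W hW (res h s) = RatFun.toRing X V hV s :=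
  ConcreteCategory.congr_hom (Limits.colimit.w (RatFun.sectionsOnDense X)
    (ObjectProperty.homMk (homOfLE h) : (⟨W, hW⟩ : (RatFun.IsDenseOpen X).FullSubcategory) ⟶ ⟨V, hV⟩).op) s

lemma exists_rep (r : RatFun.ring X) :
    ∃ (V : X.Opens) (hV : Dense (V : Set X)) (s : Γ(X, V)), RatFun.toRing X V hV s = r := by
  obtain ⟨⟨V, hV⟩, s, hs⟩ := Limits.Concrete.colimit_exists_rep (RatFun.sectionsOnDense X) r
  exact ⟨V, hV, s, hs⟩

lemma eq_zero_iff {V : X.Opens} (hV : Dense (V : Set X)) (s : Γ(X, V)) :
    RatFun.toRing X V hV s = 0 ↔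
      ∃ (W : X.Opens) (_ : Dense (W : Set X)) (h : W ≤ V), res h s = 0 := by
  constructor
  · intro hs
    obtain ⟨⟨W, hW⟩, f, g, e⟩ := Limits.Concrete.colimit_exists_of_rep_eq
      (RatFun.sectionsOnDense X) (i := op ⟨V, hV⟩) (j := op ⟨V, hV⟩) s (0 : Γ(X, V))
      (hs.trans (map_zero (RatFun.toRing X V hV).hom).symm)
    refine ⟨W, hW, leOfHom f.unop.hom, e.trans ?_⟩
    exact map_zero (X.presheaf.map g.unop.hom.op).hom
  · rintro ⟨W, hW, h, e⟩
    rw [← toRing_res hV hW h s, e, map_zero]

/-- A family of germs, one at a point of every dense open, gives a map out of `R(X)`. -/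
noncomputable def germHom (x : X) (hx : ∀ V : X.Opens, Dense (V : Set X) → x ∈ V) :
    RatFun.ring X ⟶ X.presheaf.stalk x :=
  Limits.colimit.desc (RatFun.sectionsOnDense X)
    { pt := X.presheaf.stalk x
      ι :=
        { app := fun V => X.presheaf.germ V.unop.1 x (hx _ V.unop.2)
          naturality := fun V W f => (X.presheaf.germ_res f.unop.hom x (hx _ W.unop.2)).trans
            (Category.comp_id _).symm } }

lemma germHom_toRing (x : X) (hx : ∀ V : X.Opens, Dense (V : Set X) → x ∈ V) (V : X.Opens)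
    (hV : Dense (V : Set X)) (s : Γ(X, V)) :
    germHom x hx (RatFun.toRing X V hV s) = X.presheaf.germ V x (hx V hV) s :=
  ConcreteCategory.congr_hom (Limits.colimit.ι_desc (F := RatFun.sectionsOnDense X) _
    (op (⟨V, hV⟩ : (RatFun.IsDenseOpen X).FullSubcategory))) s

/-- The stalk at a maximal point of a locally Noetherian scheme is Artinian. -/
lemma isArtinianRing_stalk [IsLocallyNoetherian X] (η : X) (hη : ∀ y, y ⤳ η → y = η) :
    IsArtinianRing (X.presheaf.stalk η) := by
  rw [isArtinianRing_iff_krullDimLE_zero]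
  have hsub : Subsingleton (Spec (X.presheaf.stalk η)) := by
    refine ⟨fun a b => (X.fromSpecStalk η).isEmbedding.injective ?_⟩
    have : ∀ c, X.fromSpecStalk η c = η := fun c => hη _ (by
      have h : X.fromSpecStalk η c ∈ Set.range (X.fromSpecStalk η) := ⟨c, rfl⟩
      rw [Scheme.range_fromSpecStalk] at h
      exact h)
    exact (this a).trans (this b).symm
  rw [Ring.krullDimLE_zero_iff]
  intro I hI
  obtain ⟨M, hM, hIM⟩ := I.exists_le_maximal hI.ne_top
  have hPM : (⟨I, hI⟩ : PrimeSpectrum (X.presheaf.stalk η)) = ⟨M, hM.isPrime⟩ := hsub.elim _ _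
  obtain rfl : I = M := congrArg PrimeSpectrum.asIdeal hPM
  exact hM

lemma genericPoint_mem [IrreducibleSpace X] (V : X.Opens) (hV : Dense (V : Set X)) :
    genericPoint X ∈ V :=
  (genericPoint_spec X).mem_open_set_iff V.isOpen |>.2 (by simpa using hV.nonempty)

lemma eq_genericPoint [IrreducibleSpace X] (y : X) (h : y ⤳ genericPoint X) : y = genericPoint X :=
  (h.antisymm (genericPoint_specializes y)).eq

theorem bijective_germHom [IrreducibleSpace X] :
    Function.Bijective (germHom (genericPoint X) genericPoint_mem) := by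
  have hd : ∀ V : X.Opens, genericPoint X ∈ V → Dense (V : Set X) := fun V hV =>
    V.isOpen.dense ⟨_, hV⟩
  constructor
  · rw [injective_iff_map_eq_zero]
    intro r hr
    obtain ⟨V, hV, s, rfl⟩ := exists_rep r
    rw [germHom_toRing] at hr
    obtain ⟨W, hW, i, j, e⟩ := X.presheaf.germ_eq _ (genericPoint_mem V hV) (genericPoint_mem V hV)
      s (0 : Γ(X, V)) (hr.trans (map_zero _).symm)
    exact (eq_zero_iff hV s).2 ⟨W, hd W hW, leOfHom i, e.trans (map_zero _)⟩
  · intro t
    obtain ⟨V, hV, s, rfl⟩ := X.presheaf.exists_germ_eq t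
    exact ⟨RatFun.toRing X V (hd V hV) s, germHom_toRing _ _ _ _ _⟩

section Noetherian

variable [IsNoetherian X]

/-- The generic point of a component. -/
noncomputable abbrev gp (Z : irreducibleComponents (X : Type u)) : X := Z.property.1.genericPoint

lemma closure_gp (Z : irreducibleComponents (X : Type u)) : closure {gp Z} = Z.1 :=
  Z.property.1.closure_genericPoint (isClosed_of_mem_irreducibleComponents _ Z.2)

lemma gp_max (Z : irreducibleComponents (X : Type u)) (y : X) (h : y ⤳ gp Z) : y = gp Z := by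
  have h1 : Z.1 ⊆ closure {y} := by
    rw [← closure_gp Z]
    exact specializes_iff_closure_subset.1 h
  have h2 : closure {y} ⊆ Z.1 := Z.2.2 isIrreducible_singleton.closure h1
  exact (h.antisymm (specializes_iff_closure_subset.2 (by rw [closure_gp]; exact h2))).eq

lemma finite_comp : Finite (irreducibleComponents (X : Type u)) :=
  NoetherianSpace.finite_irreducibleComponents.to_subtype

/-- The open set of points on the component `Z` only. -/
noncomputable def only (Z : irreducibleComponents (X : Type u)) : X.Opens :=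
  ⟨(⋃ Z' : {Z' : irreducibleComponents (X : Type u) // Z' ≠ Z}, Z'.1.1)ᶜ, by
    have := finite_comp (X := X)
    exact (isClosed_iUnion_of_finite fun Z' => isClosed_of_mem_irreducibleComponents _ Z'.1.2).isOpen_compl⟩

lemma mem_only {Z : irreducibleComponents (X : Type u)} {x : X} :
    x ∈ only Z ↔ ∀ Z' : irreducibleComponents (X : Type u), Z' ≠ Z → x ∉ Z'.1 := by
  show x ∈ (⋃ Z' : {Z' : irreducibleComponents (X : Type u) // Z' ≠ Z}, Z'.1.1)ᶜ ↔ _
  simp

lemma gp_mem_only (Z : irreducibleComponents (X : Type u)) : gp Z ∈ only Z := by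
  rw [mem_only]
  intro Z' hne hmem
  refine hne (Subtype.ext (le_antisymm ?_ ?_))
  · refine Z.2.2 Z'.2.1 ?_
    rw [← closure_gp Z]
    exact closure_minimal (Set.singleton_subset_iff.2 hmem) (isClosed_of_mem_irreducibleComponents _ Z'.2)
  · rw [← closure_gp Z]
    exact closure_minimal (Set.singleton_subset_iff.2 hmem) (isClosed_of_mem_irreducibleComponents _ Z'.2)

lemma mem_of_only {Z : irreducibleComponents (X : Type u)} {x : X} (hx : x ∈ only Z) : x ∈ Z.1 := by
  by_contra h
  exact mem_only.1 hx ⟨_, irreducibleComponent_mem_irreducibleComponents x⟩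
    (fun e => h (by rw [← e]; exact mem_irreducibleComponent)) mem_irreducibleComponent

lemma gp_mem_dense (Z : irreducibleComponents (X : Type u)) (V : X.Opens) (hV : Dense (V : Set X)) :
    gp Z ∈ V := by
  obtain ⟨x, hx, hxV⟩ := hV.inter_open_nonempty _ (only Z).isOpen ⟨_, gp_mem_only Z⟩
  have : gp Z ⤳ x := by
    rw [specializes_iff_mem_closure, closure_gp]
    exact mem_of_only hx
  exact this.mem_open V.isOpen hxV

lemma dense_of_gp_mem (V : X.Opens) (h : ∀ Z : irreducibleComponents (X : Type u), gp Z ∈ V) :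
    Dense (V : Set X) := by
  intro x
  let Z : irreducibleComponents (X : Type u) := ⟨_, irreducibleComponent_mem_irreducibleComponents x⟩
  have : x ∈ closure {gp Z} := by rw [closure_gp]; exact mem_irreducibleComponent
  exact closure_mono (by simpa using h Z) this

variable (X)

/-- The product of the germs at the generic points. -/
noncomputable def germsHom :
    RatFun.ring X →+* (∀ Z : irreducibleComponents (X : Type u), X.presheaf.stalk (gp Z)) :=
  RingHom.pi fun Z => (germHom (gp Z) (gp_mem_dense Z)).hom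

theorem bijective_germsHom : Function.Bijective (germsHom X) := by
  constructor
  · rw [injective_iff_map_eq_zero]
    intro r hr
    obtain ⟨V, hV, s, rfl⟩ := exists_rep r
    have h : ∀ Z : irreducibleComponents (X : Type u), ∃ (W : X.Opens) (_ : gp Z ∈ W) (i : W ≤ V),
        res i s = 0 := fun Z => by
      have h0 : germHom (gp Z) (gp_mem_dense Z) (RatFun.toRing X V hV s) = 0 := congrFun hr Z
      rw [germHom_toRing] at h0
      obtain ⟨W, hW, i, j, e⟩ := X.presheaf.germ_eq _ (gp_mem_dense Z V hV) (gp_mem_dense Z V hV)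
        s (0 : Γ(X, V)) (h0.trans (map_zero _).symm)
      exact ⟨W, hW, leOfHom i, e.trans (map_zero _)⟩
    choose W hW hWV e using h
    refine (eq_zero_iff hV s).2 ⟨iSup W, dense_of_gp_mem _ fun Z => Opens.mem_iSup.2 ⟨Z, hW Z⟩,
      iSup_le hWV, ?_⟩
    refine X.sheaf.eq_of_locally_eq' W (iSup W) (fun Z => homOfLE (le_iSup W Z)) le_rfl _ _ fun Z => ?_
    exact (res_res (le_iSup W Z) (iSup_le hWV) s).trans ((e Z).trans (map_zero _).symm)
  · intro t
    have h : ∀ Z : irreducibleComponents (X : Type u), ∃ (U : X.Opens) (h : gp Z ∈ U) (s : Γ(X, U)),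
        U ≤ only Z ∧ X.presheaf.germ U (gp Z) h s = t Z := fun Z => by
      obtain ⟨U, hU, s, hs⟩ := X.presheaf.exists_germ_eq (t Z)
      refine ⟨U ⊓ only Z, ⟨hU, gp_mem_only Z⟩, res inf_le_left s, inf_le_right, ?_⟩
      exact (ConcreteCategory.congr_hom
        (X.presheaf.germ_res (homOfLE inf_le_left) (gp Z) ⟨hU, gp_mem_only Z⟩) s).trans hs
    choose U hU s hle hs using h
    obtain ⟨g, hg, -⟩ := X.sheaf.existsUnique_gluing' U (iSup U) (fun Z => homOfLE (le_iSup U Z))
      le_rfl s (fun Z Z' => by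
        by_cases hZ : Z = Z'
        · subst hZ; rfl
        · have hb : U Z ⊓ U Z' = ⊥ := by
            ext x
            refine ⟨fun hx => ?_, False.elim⟩
            exact mem_only.1 (hle Z hx.1) Z' (Ne.symm hZ) (mem_of_only (hle Z' hx.2))
          have : Subsingleton Γ(X, U Z ⊓ U Z') := by rw [hb]; infer_instance
          exact Subsingleton.elim (α := Γ(X, U Z ⊓ U Z')) _ _)
    have hd : Dense ((iSup U : X.Opens) : Set X) :=
      dense_of_gp_mem _ fun Z => Opens.mem_iSup.2 ⟨Z, hU Z⟩
    refine ⟨RatFun.toRing X _ hd g, funext fun Z => ?_⟩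
    refine (germHom_toRing _ _ _ _ _).trans ?_
    rw [← hs Z, ← hg Z]
    exact (ConcreteCategory.congr_hom
      (X.presheaf.germ_res (homOfLE (le_iSup U Z)) (gp Z) (hU Z)) g).symm

theorem isArtinianRing_ring : IsArtinianRing (RatFun.ring X) := by
  have := finite_comp (X := X)
  have : ∀ Z : irreducibleComponents (X : Type u), IsArtinianRing (X.presheaf.stalk (gp Z)) :=
    fun Z => isArtinianRing_stalk _ (gp_max Z)
  exact (RingEquiv.ofBijective _ (bijective_germsHom X)).symm.isArtinianRing

end Noetherian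

end Groth.Agent.H9Misc.RatFunLib
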