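import Groth.Agent.H9Misc.SectCmp.DegreeOne

/-! The comparison maps from cohomology of preimages to sections of higher direct images. -/

universe u

set_option backward.isDefEq.respectTransparency false
set_option backward.isDefEq.respectTransparency.types false
set_option linter.style.haveILetI false

open CategoryTheory CategoryTheory.Limits AlgebraicGeometry AlgebraicGeometry.Scheme.Modules TopologicalSpace Opposite
  CategoryTheory.Abelian

namespace Groth.Agent.H9Misc.SectCmp

set_option maxHeartbeats 600000

open Groth.Agent.QCoh

variable {X Y : Scheme.{u}}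

variable (f : X ⟶ Y) [HasInjectiveResolutions X.Modules] {Δ : RDer.DerivedLES (pushforward f)}
  (E : CohCmp.SectCmp f Δ)

include E in
/-- The comparison is locally injective. -/
theorem locally_zero (F : X.Modules) (p : ℕ) (V : Y.Opens) (x : Coh.HHon X F (f ⁻¹ᵁ V) p)
    (hx : E.ε V F p x = 0) (y : Y) (hy : y ∈ V) :
    ∃ (W : Y.Opens) (hWV : W ≤ V), y ∈ W ∧ CohPull.resLE F (f.preimage_mono hWV) p x = 0 := by
  haveI := SpObjSS.enoughInjectives_of_hasInjectiveResolutions (C := X.Modules)
  have h : ∀ q, LocallyZero f E q := fun q => by
    induction q with
    | zero => exact fun F V x hx y hy => ⟨V, le_rfl, hy, locally_zero_zero f E F V x hx⟩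
    | succ q ih =>
      cases q with
      | succ q => exact locally_zero_step f E q ih
      | zero => exact locally_zero_one f E
  exact h p F V x hx y hy

end Groth.Agent.H9Misc.SectCmp
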