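import Groth.Agent.H9Misc.LocFreeNat

/-! Finite locally free tensor factors commute with internal homs and direct images. -/

set_option linter.style.haveILetI false
set_option linter.unusedSectionVars false
set_option backward.isDefEq.respectTransparency false
set_option backward.isDefEq.respectTransparency.types false
set_option maxHeartbeats 600000

universe u

open CategoryTheory CategoryTheory.Limits AlgebraicGeometry

noncomputable section

namespace Groth.Agent.H9Misc.LocFreeHomTensor

open Groth.Agent Groth.Agent.SheafHomX Groth.Agent.SheafHomY LocFreeNat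

variable {X Y : Scheme.{u}}

/-- `M ⊗ A ≅ A ⊗ M`. -/
def σ (M A : X.Modules) : ((DCoh.tensorBi (X := X)).obj M).obj A ≅ ((DCoh.tensorBi (X := X)).obj A).obj M :=
  ((KFlatLib.tensorBiFlipIso X).app A).app M

theorem σ_naturality_left {M M' : X.Modules} (g : M ⟶ M') (A : X.Modules) :
    ((DCoh.tensorBi (X := X)).map g).app A ≫ (σ M' A).hom = (σ M A).hom ≫ ((DCoh.tensorBi (X := X)).obj A).map g :=
  ((KFlatLib.tensorBiFlipIso X).hom.app A).naturality g

theorem σ_naturality_right (M : X.Modules) {A A' : X.Modules} (g : A ⟶ A') :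
    ((DCoh.tensorBi (X := X)).obj M).map g ≫ (σ M A').hom = (σ M A).hom ≫ ((DCoh.tensorBi (X := X)).map g).app M :=
  congr_app ((KFlatLib.tensorBiFlipIso X).hom.naturality g) M

/-- The double dual. -/
def dd : X.Modules ⥤ X.Modules where
  obj E := dual (dual E)
  map h := (homMap ((homMap h).app (Coh.structureModule X))).app (Coh.structureModule X)
  map_id E := by rw [homMap_id, homMap_id]
  map_comp f g := by rw [← homMap_comp, homMap_comp]

instance : (dd (X := X)).Additive where
  map_add {E E' f g} := by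
    show (homMap ((homMap (f + g)).app _)).app _ = _
    rw [homMap_add, homMap_add]
    rfl

/-- The map to the double dual of one module. -/
def bidualApp (E : X.Modules) : E ⟶ dual (dual E) :=
  (adj (dual E)).homEquiv E (Coh.structureModule X) ((σ E (dual E)).hom ≫ (adj E).counit.app (Coh.structureModule X))

/-- The map to the double dual. -/
def bidual : 𝟭 X.Modules ⟶ dd where
  app E := bidualApp E
  naturality E E' h := by
    show h ≫ bidualApp E' = bidualApp E ≫ (homMap ((homMap h).app (Coh.structureModule X))).app (Coh.structureModule X)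
    refine hom_ext ?_
    rw [bidualApp, bidualApp, Adjunction.homEquiv_naturality_left_symm, homEquiv_homMap, Equiv.symm_apply_apply, Equiv.symm_apply_apply]
    have h2 : ((DCoh.tensorBi (X := X)).map ((homMap h).app (Coh.structureModule X))).app E ≫
      (adj E).counit.app (Coh.structureModule X) =
      ((DCoh.tensorBi (X := X)).obj (dual E')).map h ≫ (adj E').counit.app (Coh.structureModule X) :=
      (conjugateEquiv_counit _ _ _ _ : (ten E).map ((homMap h).app (Coh.structureModule X)) ≫
          (adj E).counit.app (Coh.structureModule X) =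
        ((DCoh.tensorBi (X := X)).flip.map h).app (dual E') ≫ (adj E').counit.app (Coh.structureModule X))
    show ((DCoh.tensorBi (X := X)).map h).app (dual E') ≫ (σ E' (dual E')).hom ≫ _ =
      ((DCoh.tensorBi (X := X)).obj E).map ((homMap h).app (Coh.structureModule X)) ≫ (σ E (dual E)).hom ≫ _
    rw [← Category.assoc, σ_naturality_left, ← Category.assoc (((DCoh.tensorBi (X := X)).obj E).map _),
      σ_naturality_right, Category.assoc, Category.assoc, h2]

theorem isIso_bidual_structure : IsIso (bidual.app (Coh.structureModule X)) := by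
  let O := Coh.structureModule X
  haveI : (hom O).Full := Functor.Full.of_iso (SheafHomX.unitIso X).symm
  haveI : (hom O).Faithful := Functor.Faithful.of_iso (SheafHomX.unitIso X).symm
  haveI : IsIso ((adj O).counit.app O) := inferInstance
  let eD : dual O ≅ O := (SheafHomX.unitIso X).app O
  let e : ten (dual O) ≅ 𝟭 X.Modules := (DCoh.tensorBi (X := X)).flip.mapIso eD ≪≫ KFlatLib.tensorStructureIso X
  haveI : (ten (dual O)).Full := Functor.Full.of_iso e.symm
  haveI : (ten (dual O)).Faithful := Functor.Faithful.of_iso e.symm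
  haveI : IsIso ((adj (dual O)).unit.app O) := inferInstance
  show IsIso ((adj (dual O)).homEquiv _ _ ((σ O (dual O)).hom ≫ (adj O).counit.app (Coh.structureModule X)))
  rw [Adjunction.homEquiv_unit]
  infer_instance

theorem isIso_bidual {E : X.Modules} (hE : FlatMod.IsFinLocFree E) : IsIso (bidual.app E) := by
  haveI := isIso_bidual_structure (X := X)
  refine isIso_of_structure (𝟙 X) (localIso_id X) (fun U P Q h hh => ?_) bidual hE
  haveI := hh
  haveI := isIso_restrict_homMap U.ι h (Coh.structureModule X)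
  exact isIso_restrict_homMap U.ι ((homMap h).app (Coh.structureModule X)) (Coh.structureModule X)

theorem isFinLocFree_structure (X : Scheme.{u}) : FlatMod.IsFinLocFree (Coh.structureModule X) := fun x =>
  ⟨⊤, 1, trivial, ⟨KFlatLib.restrictStructureIso _ ≪≫ (coproductUniqueIso fun _ : Fin 1 => Coh.structureModule _).symm⟩⟩

theorem isFinLocFree_dual {E : X.Modules} (hE : FlatMod.IsFinLocFree E) : FlatMod.IsFinLocFree (dual E) :=
  SheafHomX.isFinLocFree_hom hE (isFinLocFree_structure X)

/-- `- ⊗ E ≅ ℋom(E^∨, -)`. -/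
def tenHomIso {E : X.Modules} (hE : FlatMod.IsFinLocFree E) : ten E ≅ hom (dual E) :=
  haveI : IsIso (bidualApp E) := isIso_bidual hE
  let e : E ≅ dual (dual E) := asIso (bidualApp E)
  let a : ten E ≅ ten (dual (dual E)) := (DCoh.tensorBi (X := X)).flip.mapIso e
  let b : ten (dual (dual E)) ≅ hom (dual E) := thetaIso (E := dual E) (isFinLocFree_dual hE)
  a ≪≫ b

theorem injective_ten {E : X.Modules} (hE : FlatMod.IsFinLocFree E) (I : X.Modules) [Injective I] :
    Injective ((ten E).obj I) := by
  haveI := preservesMonomorphisms_ten (isFinLocFree_dual hE)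
  haveI : Injective ((hom (dual E)).obj I) := Injective.injective_of_adjoint (adj (dual E)) I
  exact Injective.of_iso ((tenHomIso hE).app I).symm inferInstance

theorem preservesFiniteLimits_ten {E : X.Modules} (hE : FlatMod.IsFinLocFree E) : PreservesFiniteLimits (ten E) :=
  haveI := preservesFiniteLimits_hom (dual E)
  preservesFiniteLimits_of_natIso (tenHomIso hE).symm

theorem preservesFiniteColimits_ten (E : X.Modules) : PreservesFiniteColimits (ten E) :=
  haveI := isLeftAdjoint_ten E
  inferInstance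

/-- `(Z ⊗ Q) ⊗ F ≅ (Z ⊗ F) ⊗ Q`. -/
def γ (F Q : X.Modules) : ten Q ⋙ ten F ≅ ten F ⋙ ten Q :=
  NatIso.ofComponents (fun Z => (((KFlatLib.tensorAssocSch X).app Z).app Q).app F ≪≫
      ((DCoh.tensorBi (X := X)).obj Z).mapIso (σ Q F) ≪≫ ((((KFlatLib.tensorAssocSch X).app Z).app F).app Q).symm)
    fun {Z Z'} g => by
      have h1 := congr_app (congr_app ((KFlatLib.tensorAssocSch X).hom.naturality g) Q) F
      have h2 := ((DCoh.tensorBi (X := X)).map g).naturality (σ Q F).hom
      have h3 := congr_app (congr_app ((KFlatLib.tensorAssocSch X).inv.naturality g) F) Q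
      simp only [Iso.app_hom, Iso.app_inv, Iso.trans_hom, Functor.mapIso_hom, Iso.symm_hom, Category.assoc,
        NatTrans.comp_app] at h1 h2 h3 ⊢
      refine ((reassoc_of% h1) _).trans ?_
      refine congrArg (_ ≫ ·) ?_
      refine ((reassoc_of% h2) _).symm.trans ?_
      exact congrArg (_ ≫ ·) h3

theorem γ_naturality (F Z : X.Modules) {Q Q' : X.Modules} (q : Q ⟶ Q') :
    (ten F).map (((DCoh.tensorBi (X := X)).obj Z).map q) ≫ (γ F Q').hom.app Z =
      (γ F Q).hom.app Z ≫ ((DCoh.tensorBi (X := X)).obj ((ten F).obj Z)).map q := by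
  have h1 := congr_app (((KFlatLib.tensorAssocSch X).hom.app Z).naturality q) F
  have h2 := congrArg ((DCoh.tensorBi (X := X)).obj Z).map (σ_naturality_left q F)
  have h3 := (((KFlatLib.tensorAssocSch X).inv.app Z).app F).naturality q
  simp only [γ, NatIso.ofComponents_hom_app, Iso.app_hom, Iso.app_inv, Iso.trans_hom, Functor.mapIso_hom,
    Iso.symm_hom, Category.assoc, NatTrans.comp_app, Functor.map_comp] at h1 h2 h3 ⊢
  refine ((reassoc_of% h1) _).trans ?_
  refine congrArg (_ ≫ ·) ?_
  refine ((reassoc_of% h2) _).trans ?_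
  exact congrArg (_ ≫ ·) h3

/-- `ℋom(F, M) ⊗ Q ⟶ ℋom(F, M ⊗ Q)`. -/
def α (F M Q : X.Modules) : (ten Q).obj ((hom F).obj M) ⟶ (hom F).obj ((ten Q).obj M) :=
  (adj F).homEquiv _ _ ((γ F Q).hom.app ((hom F).obj M) ≫ (ten Q).map ((adj F).counit.app M))

theorem α_naturality (F Q : X.Modules) {M M' : X.Modules} (g : M ⟶ M') :
    (ten Q).map ((hom F).map g) ≫ α F M' Q = α F M Q ≫ (hom F).map ((ten Q).map g) := by
  refine hom_ext ?_
  rw [Adjunction.homEquiv_naturality_left_symm, Adjunction.homEquiv_naturality_right_symm, α, α,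
    Equiv.symm_apply_apply, Equiv.symm_apply_apply]
  have h1 := (γ F Q).hom.naturality ((hom F).map g)
  have h2 := congrArg (ten Q).map ((adj F).counit.naturality g)
  simp only [Functor.comp_map, Functor.map_comp, Functor.id_map] at h1 h2
  rw [Category.assoc]
  refine ((reassoc_of% h1) _).trans ?_
  exact congrArg (_ ≫ ·) h2

theorem α_naturality_Q (F M : X.Modules) {Q Q' : X.Modules} (q : Q ⟶ Q') :
    ((DCoh.tensorBi (X := X)).obj ((hom F).obj M)).map q ≫ α F M Q' =
      α F M Q ≫ (hom F).map (((DCoh.tensorBi (X := X)).obj M).map q) := by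
  refine ((adj F).homEquiv_naturality_left _ _).symm.trans ?_
  refine Eq.trans ?_ ((adj F).homEquiv_naturality_right _ _)
  refine congrArg ((adj F).homEquiv _ _) ?_
  have h1 := γ_naturality F ((hom F).obj M) q
  have h2 := ((DCoh.tensorBi (X := X)).map ((adj F).counit.app M)).naturality q
  refine (Category.assoc _ _ _).symm.trans ?_
  refine ((congrArg (fun t => t ≫ (ten Q').map ((adj F).counit.app M)) h1).trans (Category.assoc _ _ _)).trans ?_
  refine Eq.trans ?_ (Category.assoc _ _ _).symm
  exact congrArg ((γ F Q).hom.app ((hom F).obj M) ≫ ·) h2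

/-- `α` as a transformation in the tensor factor. -/
def αQ (F M : X.Modules) :
    (DCoh.tensorBi (X := X)).obj ((hom F).obj M) ⟶ (DCoh.tensorBi (X := X)).obj M ⋙ hom F where
  app Q := α F M Q
  naturality _ _ q := α_naturality_Q F M q

theorem isIso_α (F M : X.Modules) {Q : X.Modules} (hQ : FlatMod.IsFinLocFree Q) : IsIso (α F M Q) := by
  haveI : (ten (Coh.structureModule X)).IsEquivalence :=
    Functor.isEquivalence_of_iso (KFlatLib.tensorStructureIso X).symm
  haveI : IsIso ((αQ F M).app (Coh.structureModule X)) :=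
    KFlatLib.isIso_mate (adj F) (γ F (Coh.structureModule X)) M
  exact isIso_of_structure (𝟙 X) (localIso_tensorObj _ (localIso_id X) _)
    (localIso_hom _ (localIso_tensorObj _ (localIso_id X) _) F) (αQ F M) hQ

/-- `ℋom(F, -) ⊗ Q ≅ ℋom(F, - ⊗ Q)`. -/
def αIso (F : X.Modules) {Q : X.Modules} (hQ : FlatMod.IsFinLocFree Q) : hom F ⋙ ten Q ≅ ten Q ⋙ hom F :=
  haveI := fun M => isIso_α F M hQ
  NatIso.ofComponents (fun M => asIso (α F M Q)) fun g => α_naturality F Q g

theorem localIso_pushforward (f : X ⟶ Y) {A : Y.Modules ⥤ X.Modules} (hA : LocalIso f A) :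
    LocalIso (𝟙 Y) (A ⋙ Scheme.Modules.pushforward f) := fun U P Q h hh => by
  haveI := hA U h hh
  refine Scheme.Modules.Hom.isIso_iff_isIso_app.2 fun W => ?_
  let V := f ⁻¹ᵁ U
  let W' : X.Opens := f ⁻¹ᵁ (U.ι ''ᵁ W)
  have hW : V.ι ''ᵁ (V.ι ⁻¹ᵁ W') = W' := by
    rw [V.ι.image_preimage_eq_opensRange_inf, Scheme.Opens.opensRange_ι, inf_eq_right]
    rintro x ⟨y, -, hy⟩
    show f x ∈ U
    rw [← hy]
    exact y.2
  have h1 : IsIso ((A.map h).app (V.ι ''ᵁ (V.ι ⁻¹ᵁ W'))) :=
    inferInstanceAs (IsIso (((Scheme.Modules.restrictFunctor V.ι).map (A.map h)).app (V.ι ⁻¹ᵁ W')))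
  rw [hW] at h1
  exact h1

theorem isIso_projMod (f : X ⟶ Y) (M : X.Modules) {N : Y.Modules} (hN : FlatMod.IsFinLocFree N) :
    IsIso (KFlatLib.projMod f M N) := by
  let η : (DCoh.tensorBi (X := Y)).obj ((Scheme.Modules.pushforward f).obj M) ⟶
      (Scheme.Modules.pullback f ⋙ (DCoh.tensorBi (X := X)).obj M) ⋙ Scheme.Modules.pushforward f :=
    { app := KFlatLib.projMod f M, naturality := fun _ _ g => KFlatLib.projMod_naturality_right f M g }
  haveI : IsIso (η.app (Coh.structureModule Y)) := KFlatLib.isIso_projMod_structure f M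
  have hpull : LocalIso f (Scheme.Modules.pullback f) := fun U P Q h hh => by
    haveI := hh
    haveI : IsIso ((Scheme.Modules.pullback U.ι).map h) :=
      (NatIso.isIso_map_iff (Scheme.Modules.restrictFunctorIsoPullback U.ι) h).1 hh
    haveI : IsIso ((Scheme.Modules.pullback U.ι ⋙ Scheme.Modules.pullback (f ∣_ U)).map h) :=
      inferInstanceAs (IsIso ((Scheme.Modules.pullback (f ∣_ U)).map ((Scheme.Modules.pullback U.ι).map h)))
    refine (NatIso.isIso_map_iff (Scheme.Modules.restrictFunctorIsoPullback (f ⁻¹ᵁ U).ι) _).2 ?_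
    exact (NatIso.isIso_map_iff ((Scheme.Modules.pullbackComp (f ⁻¹ᵁ U).ι f) ≪≫
      Scheme.Modules.pullbackCongr (morphismRestrict_ι f U).symm ≪≫
      (Scheme.Modules.pullbackComp (f ∣_ U) U.ι).symm) h).2 ‹_›
  haveI : (Scheme.Modules.pullback f).Additive :=
    (Scheme.Modules.pullbackPushforwardAdjunction f).left_adjoint_additive
  exact isIso_of_structure (𝟙 Y) (localIso_tensorObj _ (localIso_id Y) _)
    (localIso_pushforward f (localIso_tensorObj _ hpull M)) η hN

/-- `(f_* -) ⊗ N ≅ f_*(- ⊗ f^*N)`. -/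
def projIso' (f : X ⟶ Y) {N : Y.Modules} (hN : FlatMod.IsFinLocFree N) :
    Scheme.Modules.pushforward f ⋙ ten N ≅ ten ((Scheme.Modules.pullback f).obj N) ⋙ Scheme.Modules.pushforward f :=
  haveI := fun M => isIso_projMod f M hN
  NatIso.ofComponents (fun M => asIso (KFlatLib.projMod f M N)) fun g => KFlatLib.projMod_naturality_left f g N

end Groth.Agent.H9Misc.LocFreeHomTensor
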