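import Groth.Agent.H9Misc.DRingPC
import Groth.Agent.Triage.NoethPC

/-! Pseudo-coherent modules. -/

set_option linter.style.haveILetI false

universe u

open CategoryTheory CategoryTheory.Category CategoryTheory.Limits
open CategoryTheory.Pretriangulated

attribute [local instance] HasDerivedCategory.standard

namespace Groth.Agent.H9Misc.DRingPC

open DRingTor

variable {A : Type u} [CommRing A]

lemma finite_of_pc {M : Type u} [AddCommGroup M] [Module A M] (h : DRing.IsPseudoCoherentModule A 0 M) :
    Module.Finite A M := by
  have hf := (Groth.Agent.S2068.result _ 0 h).1 fun i hi => isZero_homology_inD (ModuleCat.of A M) i hi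
  obtain ⟨eH⟩ := hd_iso (K := (sg 0).obj (ModuleCat.of A M))
    (((DerivedCategory.singleFunctorIsoCompQ (ModuleCat.{u} A) 0).app (ModuleCat.of A M)).symm) 0
  exact Module.Finite.equiv (eH ≪≫
    HomologicalComplex.singleObjHomologySelfIso (ComplexShape.up ℤ) 0 (ModuleCat.of A M)).toLinearEquiv

lemma finitePresentation_of_pc {M : Type u} [AddCommGroup M] [Module A M]
    (h : DRing.IsPseudoCoherentModule A (-1) M) : Module.FinitePresentation A M := by
  have hf := (Groth.Agent.S2068.result _ (-1) h).2 fun i hi => isZero_homology_inD (ModuleCat.of A M) i (by omega)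
  rw [show (-1 : ℤ) + 1 = 0 by norm_num] at hf
  obtain ⟨eH⟩ := hd_iso (K := (sg 0).obj (ModuleCat.of A M))
    (((DerivedCategory.singleFunctorIsoCompQ (ModuleCat.{u} A) 0).app (ModuleCat.of A M)).symm) 0
  exact Module.FinitePresentation.of_equiv (eH ≪≫
    HomologicalComplex.singleObjHomologySelfIso (ComplexShape.up ℤ) 0 (ModuleCat.of A M)).toLinearEquiv

/-- A presentation by a finite free module. -/
lemma pc_of_presentation {m : ℤ} {n : ℕ} {M : Type u} [AddCommGroup M] [Module A M]
    (π : (Fin n → A) →ₗ[A] M) (hπ : Function.Surjective π)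
    (hker : DRing.IsPseudoCoherentModule A (m + 1) (LinearMap.ker π)) :
    DRing.IsPseudoCoherentModule A m M := by
  let S : ShortComplex (ModuleCat.{u} A) := ShortComplex.mk (ModuleCat.ofHom (LinearMap.ker π).subtype)
    (ModuleCat.ofHom π) (by ext x; exact x.2)
  have hS : S.ShortExact :=
    { exact := (ShortComplex.moduleCat_exact_iff S).2 fun x hx => ⟨⟨x, hx⟩, rfl⟩
      mono_f := (ModuleCat.mono_iff_injective _).2 Subtype.val_injective
      epi_g := (ModuleCat.epi_iff_surjective _).2 hπ }
  exact (Groth.Agent.S2067.result hS.singleTriangle hS.singleTriangle_distinguished m).1 hker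
    (Triage.NoethPC.pc_of_free (A := A) (Fin n → A) m)

lemma pc_zero_of_finite (M : Type u) [AddCommGroup M] [Module A M] [Module.Finite A M] :
    DRing.IsPseudoCoherentModule A 0 M := by
  obtain ⟨n, π, hπ⟩ := Module.Finite.exists_fin' A M
  exact pc_of_presentation π hπ (Triage.NoethPC.pc_of_pos _ _ one_pos)

lemma pc_neg_one_of_finitePresentation (M : Type u) [AddCommGroup M] [Module A M]
    [Module.FinitePresentation A M] : DRing.IsPseudoCoherentModule A (-1) M := by
  obtain ⟨n, π, hπ⟩ := Module.Finite.exists_fin' A M
  haveI : Module.Finite A (LinearMap.ker π) :=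
    Module.Finite.iff_fg.2 (Module.FinitePresentation.fg_ker π hπ)
  exact pc_of_presentation π hπ (by rw [show (-1 : ℤ) + 1 = 0 by norm_num]; exact pc_zero_of_finite _)

lemma module_mono {m n : ℤ} (h : m ≤ n) {M : Type u} [AddCommGroup M] [Module A M]
    (hM : DRing.IsPseudoCoherentModule A m M) : DRing.IsPseudoCoherentModule A n M := mono h hM

lemma module_of_subsingleton (m : ℤ) (M : Type u) [AddCommGroup M] [Module A M] [Subsingleton M] :
    DRing.IsPseudoCoherentModule A m M :=
  of_vanish _ fun i _ => Functor.map_isZero _ (Functor.map_isZero _ (ModuleCat.isZero_of_subsingleton _))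

/-- Cohomology of pseudo-coherent objects over a noetherian ring. -/
theorem finite_HD [IsNoetherianRing A] {m : ℤ} {K : Dual.D A} (hK : DRing.IsPseudoCoherent A m K) (i : ℤ)
    (hi : m ≤ i) : Module.Finite A (Dual.HD A K i) := by
  obtain ⟨E, a, b, α, hz, hf, hiso, he⟩ := hK
  haveI := (hf i).1
  have h1 : Module.Finite A (E.homology i) := by
    haveI : Module.Finite A (E.cycles i) := Module.Finite.of_injective (E.iCycles i).hom
      ((ModuleCat.mono_iff_injective _).1 inferInstance)
    exact Module.Finite.of_surjective (E.homologyπ i).hom ((ModuleCat.epi_iff_surjective _).1 inferInstance)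
  haveI : Epi ((DerivedCategory.homologyFunctor (ModuleCat.{u} A) i).map α) := by
    rcases hi.eq_or_lt with rfl | hlt
    · exact he
    · haveI := hiso i hlt
      infer_instance
  haveI : Module.Finite A ((HomologicalComplex.homologyFunctor (ModuleCat.{u} A) (ComplexShape.up ℤ) i).obj E) := h1
  exact Module.Finite.of_surjective ((((DerivedCategory.homologyFunctorFactors (ModuleCat.{u} A) i).app E).inv ≫
    (DerivedCategory.homologyFunctor (ModuleCat.{u} A) i).map α)).hom
      ((ModuleCat.epi_iff_surjective _).1 inferInstance)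

end Groth.Agent.H9Misc.DRingPC
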