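import Groth.Agent.H9Misc.DRingPC

/-! Perfect objects lie in every thick subcategory containing the ring. -/

set_option linter.style.haveILetI false

universe u

open CategoryTheory CategoryTheory.Category CategoryTheory.Limits
open CategoryTheory.Pretriangulated

attribute [local instance] HasDerivedCategory.standard

namespace Groth.Agent.H9Misc.DRingThick

open DRingTor

variable {A : Type u} [CommRing A]

theorem perfect_induction (P : ObjectProperty (Dual.D A)) [P.IsClosedUnderIsomorphisms] (hR : P (Dual.inD A A))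
    (hshift : ∀ (K : Dual.D A) (n : ℤ), P K → P ((shiftFunctor (Dual.D A) n).obj K))
    (hext : ∀ T : Triangle (Dual.D A), T ∈ distinguishedTriangles → P T.obj₁ → P T.obj₃ → P T.obj₂)
    (hsum : ∀ (X Y : Dual.D A) [HasBinaryBiproduct X Y], P (X ⊞ Y) → P X)
    (K : Dual.D A) (hK : DRing.IsPerfect A K) : P K := by
  have hiso : ∀ {X Y : Dual.D A}, (X ≅ Y) → P X → P Y := fun e h => P.prop_of_iso e h
  have hsum' : ∀ (X Y : Dual.D A), P (X ⊞ Y) → P Y := fun X Y h => hsum Y X (hiso (biprod.braiding X Y) h)
  have hzero : ∀ Z : Dual.D A, IsZero Z → P Z := fun Z hZ => hsum Z (Dual.inD A A)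
    (hiso ⟨biprod.inr, biprod.snd, biprod.inr_snd, by
      rw [← biprod.total, hZ.eq_of_tgt (biprod.fst : Z ⊞ Dual.inD A A ⟶ Z) 0, zero_comp, zero_add]⟩ hR)
  let F := DerivedCategory.singleFunctor (ModuleCat.{u} A) 0
  have hfree : ∀ n : ℕ, P (Dual.inD A (Fin n → A)) := by
    intro n
    induction n with
    | zero => exact hzero _ (Functor.map_isZero F (ModuleCat.isZero_of_subsingleton _))
    | succ n ih =>
      let S : ShortComplex (ModuleCat.{u} A) := ShortComplex.mk
        (ModuleCat.ofHom (LinearMap.inr A A (Fin n → A))) (ModuleCat.ofHom (LinearMap.fst A A (Fin n → A)))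
        (by ext x; rfl)
      have hS : S.ShortExact :=
        { exact := (ShortComplex.moduleCat_exact_iff S).2 fun x hx => ⟨x.2, Prod.ext hx.symm rfl⟩
          mono_f := (ModuleCat.mono_iff_injective _).2 LinearMap.inr_injective
          epi_g := (ModuleCat.epi_iff_surjective _).2 LinearMap.fst_surjective }
      exact hiso (F.mapIso (Fin.consLinearEquiv A (fun _ : Fin (n + 1) => A)).toModuleIso)
        (hext _ hS.singleTriangle_distinguished ih hR)
  have hproj : ∀ M : ModuleCat.{u} A, Module.Finite A M → Module.Projective A M → P (F.obj M) := by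
    intro M hf hp
    obtain ⟨n, π, hπ⟩ := Module.Finite.exists_fin' A M
    let S : ShortComplex (ModuleCat.{u} A) := ShortComplex.mk (ModuleCat.ofHom (LinearMap.ker π).subtype)
      (ModuleCat.ofHom π) (by ext x; exact x.2)
    have hS : S.ShortExact :=
      { exact := (ShortComplex.moduleCat_exact_iff S).2 fun x hx => ⟨⟨x, hx⟩, rfl⟩
        mono_f := (ModuleCat.mono_iff_injective _).2 Subtype.val_injective
        epi_g := (ModuleCat.epi_iff_surjective _).2 hπ }
    haveI : Projective S.X₃ := (IsProjective.iff_projective _).1 hp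
    haveI := preservesBinaryBiproducts_of_preservesBiproducts F
    exact hsum' (F.obj S.X₁) (F.obj S.X₃)
      (hiso (F.mapIso (ShortComplex.Splitting.isoBinaryBiproduct hS.splittingOfProjective) ≪≫
        F.mapBiprod _ _) (hfree n))
  obtain ⟨E, a, b, hz, hE, ⟨e⟩⟩ := hK
  exact hiso e (DRingDesc.of_terms P hiso hext a (b + 1 - a).toNat b (by omega) E
    (fun i hi => hz i (Or.inr hi))
    (fun i _ _ => hiso (DRingPC.singleShiftIso i (E.X i)) (hshift _ _ (hproj _ (hE i).1 (hE i).2)))
    fun K' hK' hsub => hzero _ (Functor.map_isZero toD' ((IsZero.iff_id_eq_zero K').2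
      (HomologicalComplex.hom_ext _ _ fun i => (show IsZero (K'.X i) from (lt_or_ge i a).elim
        (fun hi => hsub i (hz i (Or.inl hi))) (hK' i)).eq_of_src _ _))))

end Groth.Agent.H9Misc.DRingThick
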