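import Groth.Agent.H9Misc.DRingTor
import Groth.Agent.KFlatLib.Ring.Resolution
import Mathlib.Algebra.Category.ModuleCat.Descent
import Mathlib.Algebra.Homology.DerivedCategory.ExactFunctor

/-! Derived base change computed on K-flat complexes. -/

set_option linter.style.haveILetI false

universe u

open CategoryTheory CategoryTheory.Limits MonoidalCategory

attribute [local instance] HasDerivedCategory.standard

namespace Groth.Agent.H9Misc.DRingLBase

open Groth.Agent.KFlatLib DRingLTensor

variable {A B : Type u} [CommRing A] [CommRing B] (φ : A →+* B)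

/-- Extension of scalars on homotopy categories, then localisation. -/
noncomputable def baseQIso :
    HomotopyCategory.quotient (ModuleCat.{u} A) (ComplexShape.up ℤ) ⋙ DRing.baseChangeKh φ ≅
      extC' φ ⋙ DerivedCategory.Q :=
  (Functor.associator _ _ _).symm ≪≫
    Functor.isoWhiskerRight
      ((ModuleCat.extendScalars.{u, u, u} φ).mapHomotopyCategoryFactors (ComplexShape.up ℤ)) _ ≪≫
    Functor.associator _ _ _ ≪≫
    Functor.isoWhiskerLeft _ (DerivedCategory.quotientCompQhIso (ModuleCat.{u} B))

/-- Flat resolutions compute derived base change. -/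
noncomputable def resBase :
    Resolution (HomologicalComplex.quasiIso (ModuleCat.{u} A) (ComplexShape.up ℤ))
      (HomotopyCategory.quotient (ModuleCat.{u} A) (ComplexShape.up ℤ) ⋙ DRing.baseChangeKh φ) where
  Good := IsKF
  P := (ringCover A).P
  ψ := (ringCover A).ψ
  good := kFlat_ringRes
  weq K := (ringCover A).quasiIso_ψ K
  inverts _ _ α hP hQ hα := by
    haveI : QuasiIso α := hα
    have := quasiIso_extendScalars φ α hP hQ
    exact (NatIso.isIso_map_iff (baseQIso φ) α).2
      ((DerivedCategory.isIso_Q_map_iff_quasiIso _ _).2 this)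

/-- Derived base change exists. -/
theorem hasLBaseChange : DRing.HasLBaseChange φ :=
  (resBase φ).hasLeftDerivedFunctor' DerivedCategory.Q DerivedCategory.Qh
    (HomotopyCategory.quotient (ModuleCat.{u} A) (ComplexShape.up ℤ))
    (HomologicalComplex.homotopyEquivalences (ModuleCat.{u} A) (ComplexShape.up ℤ))
    (DerivedCategory.quotientCompQhIso (ModuleCat.{u} A)) _

/-- `K ⊗^L B = K ⊗ B` for K-flat `K`. -/
lemma nonempty_lbase_iso [DRing.HasLBaseChange φ]
    {K : CochainComplex (ModuleCat.{u} A) ℤ} (hK : IsKF K) :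
    Nonempty ((DRing.LBaseChange φ).obj (DerivedCategory.Q.obj K) ≅
      DerivedCategory.Q.obj ((extC' φ).obj K)) := by
  haveI : IsIso ((Functor.whiskerLeft (HomotopyCategory.quotient (ModuleCat.{u} A) (ComplexShape.up ℤ))
      ((DRing.baseChangeKh φ).totalLeftDerivedCounit DerivedCategory.Qh
        (HomotopyCategory.quasiIso (ModuleCat.{u} A) (ComplexShape.up ℤ)))).app K) :=
    (resBase φ).isIso_totalLeftDerivedCounit' DerivedCategory.Q DerivedCategory.Qh
      (HomotopyCategory.quotient (ModuleCat.{u} A) (ComplexShape.up ℤ))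
      (HomologicalComplex.homotopyEquivalences (ModuleCat.{u} A) (ComplexShape.up ℤ))
      (DerivedCategory.quotientCompQhIso (ModuleCat.{u} A)) _ hK
  exact ⟨(DRing.LBaseChange φ).mapIso ((DerivedCategory.quotientCompQhIso (ModuleCat.{u} A)).app K).symm ≪≫
    asIso ((Functor.whiskerLeft (HomotopyCategory.quotient (ModuleCat.{u} A) (ComplexShape.up ℤ))
      ((DRing.baseChangeKh φ).totalLeftDerivedCounit DerivedCategory.Qh
        (HomotopyCategory.quasiIso (ModuleCat.{u} A) (ComplexShape.up ℤ)))).app K) ≪≫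
    (baseQIso φ).app K⟩

lemma flat_extendScalars (M : ModuleCat.{u} A) [Module.Flat A M] :
    Module.Flat B ((ModuleCat.extendScalars.{u, u, u} φ).obj M) := by
  letI := φ.toAlgebra
  exact inferInstanceAs (Module.Flat B (TensorProduct A B M))

/-- Base change preserves tor amplitude. -/
theorem hasTorAmplitudeIn_lbase [DRing.HasLBaseChange φ] {a b : ℤ} {K : Dual.D A}
    (h : DRing.HasTorAmplitudeIn A a b K) :
    DRing.HasTorAmplitudeIn B a b ((DRing.LBaseChange φ).obj K) := by
  obtain ⟨E, hz, hf, ⟨e⟩⟩ := h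
  obtain ⟨e'⟩ := nonempty_lbase_iso φ (DRingTor.isKF_of_flat hf fun i hi => hz i (Or.inr hi))
  exact ⟨(extC' φ).obj E, fun i hi => (ModuleCat.extendScalars.{u, u, u} φ).map_isZero (hz i hi),
    fun i => haveI := hf i; flat_extendScalars φ (E.X i),
    ⟨e'.symm ≪≫ (DRing.LBaseChange φ).mapIso e⟩⟩

/-- Flat base change of a module of bounded tor dimension. -/
theorem inD_baseChange (hφ : φ.Flat) {a b : ℤ} (M : ModuleCat.{u} A)
    (h : DRing.HasTorAmplitudeIn A a b (Dual.inD A M)) :
    DRing.HasTorAmplitudeIn B a b (Dual.inD B ((ModuleCat.extendScalars.{u, u, u} φ).obj M)) := by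
  obtain ⟨E, hz, hf, ⟨e⟩⟩ := h
  haveI := ModuleCat.preservesFiniteLimits_extendScalars_of_flat hφ
  haveI : PreservesFiniteColimits (ModuleCat.extendScalars.{u, u, u} φ) := by
    haveI : (ModuleCat.extendScalars.{u, u, u} φ).IsLeftAdjoint :=
      (ModuleCat.extendRestrictScalarsAdj φ).isLeftAdjoint
    infer_instance
  let F := ModuleCat.extendScalars.{u, u, u} φ
  exact ⟨(extC' φ).obj E, fun i hi => F.map_isZero (hz i hi),
    fun i => haveI := hf i; flat_extendScalars φ (E.X i),
    ⟨(F.mapDerivedCategoryFactors.app E).symm ≪≫ F.mapDerivedCategory.mapIso e ≪≫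
      (F.mapDerivedCategorySingleFunctor 0).app M⟩⟩

end Groth.Agent.H9Misc.DRingLBase
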