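import Groth.Prelude.Def_DCoh2
import Mathlib.CategoryTheory.Linear.LinearFunctor
import Mathlib.CategoryTheory.Triangulated.Pretriangulated

/-! The derived limit of a tower of multiplications by a scalar is the universal object on which the
scalar is invertible. -/

universe v u w

open CategoryTheory CategoryTheory.Category CategoryTheory.Limits CategoryTheory.Pretriangulated

namespace Groth.Agent.H9Misc.RlimSmul

variable {T : Type u} [Category.{v} T] [HasZeroObject T] [HasShift T ℤ] [Preadditive T]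
  [∀ n : ℤ, (shiftFunctor T n).Additive] [Pretriangulated T]
  {R : Type w} [CommRing R] [Linear R T] [∀ n : ℤ, Functor.Linear R (shiftFunctor T n)] (r : R)

/-- `r` is invertible on `Y`. -/
def Loc (Y : T) : Prop := IsIso (r • 𝟙 Y)

lemma Loc.of_iso {Y Y' : T} (e : Y ≅ Y') (h : Loc r Y) : Loc r Y' := by
  have : IsIso (r • 𝟙 Y) := h
  show IsIso (r • 𝟙 Y')
  rw [show r • 𝟙 Y' = e.inv ≫ (r • 𝟙 Y) ≫ e.hom by
    rw [Linear.smul_comp, id_comp, Linear.comp_smul, Iso.inv_hom_id]]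
  infer_instance

lemma Loc.shift {Y : T} (h : Loc r Y) (n : ℤ) : Loc r (Y⟦n⟧) := by
  have : IsIso (r • 𝟙 Y) := h
  show IsIso (r • 𝟙 (Y⟦n⟧))
  rw [← (shiftFunctor T n).map_id, ← Functor.map_smul]
  infer_instance

variable (K : T) [HasProduct fun _ : ℕ => K]

/-- Identity minus shift. -/
noncomputable abbrev δ : (∏ᶜ fun _ : ℕ => K) ⟶ ∏ᶜ fun _ : ℕ => K :=
  Pi.lift fun n => Pi.π (fun _ : ℕ => K) n - Pi.π (fun _ : ℕ => K) (n + 1) ≫ (r • 𝟙 K)

lemma δ_π {Y : T} (g : Y ⟶ ∏ᶜ fun _ : ℕ => K) (k : ℕ) :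
    (g ≫ δ r K) ≫ Pi.π _ k = g ≫ Pi.π _ k - r • (g ≫ Pi.π _ (k + 1)) := by
  rw [assoc, Pi.lift_π, Preadditive.comp_sub, Linear.comp_smul, Linear.comp_smul, comp_id]

/-- The inverse of `r` on an object where it is invertible. -/
noncomputable def inv' {Y : T} (h : Loc r Y) : Y ⟶ Y := @inv _ _ _ _ (r • 𝟙 Y) h

lemma smul_inv' {Y Z : T} (h : Loc r Y) (x : Y ⟶ Z) : r • (inv' r h ≫ x) = x := by
  rw [← Linear.smul_comp]
  have : r • inv' r h = 𝟙 Y := by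
    have : IsIso (r • 𝟙 Y) := h
    rw [show r • inv' r h = (r • 𝟙 Y) ≫ inv' r h by rw [Linear.smul_comp, id_comp]]
    exact IsIso.hom_inv_id _
  rw [this, id_comp]

lemma smul_injective {Y Z : T} (h : Loc r Y) {x y : Y ⟶ Z} (he : r • x = r • y) : x = y := by
  rw [← smul_inv' r h x, ← smul_inv' r h y, ← Linear.comp_smul, ← Linear.comp_smul, he]

lemma exists_comp_δ {Y : T} (h : Loc r Y) (y : Y ⟶ ∏ᶜ fun _ : ℕ => K) : ∃ x, x ≫ δ r K = y := by
  let z : ℕ → (Y ⟶ K) := fun n => Nat.rec (motive := fun _ => Y ⟶ K) 0 (fun k zk => inv' r h ≫ (zk - y ≫ Pi.π _ k)) n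
  refine ⟨Pi.lift z, Pi.hom_ext _ _ fun k => ?_⟩
  rw [δ_π, Pi.lift_π, Pi.lift_π, show z (k + 1) = inv' r h ≫ (z k - y ≫ Pi.π _ k) from rfl, smul_inv' r h]
  abel

variable {K} {F : T} {a : F ⟶ ∏ᶜ fun _ : ℕ => K} {c : (∏ᶜ fun _ : ℕ => K) ⟶ F⟦(1 : ℤ)⟧}
  (hF : Triangle.mk a (δ r K) c ∈ distTriang T)

include hF

lemma bijective_comp_π {Y : T} (h : Loc r Y) :
    Function.Bijective fun g : Y ⟶ F => g ≫ a ≫ Pi.π (fun _ : ℕ => K) 0 := by
  have haδ : a ≫ δ r K = 0 := comp_distTriang_mor_zero₁₂ _ hF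
  have hrec : ∀ g : Y ⟶ F, ∀ k, (g ≫ a) ≫ Pi.π _ k = r • ((g ≫ a) ≫ Pi.π (fun _ : ℕ => K) (k + 1)) := fun g k => by
    have := δ_π r K (g ≫ a) k
    rw [assoc g a, haδ, comp_zero, zero_comp] at this
    exact sub_eq_zero.1 this.symm
  refine ⟨fun g g' hg => sub_eq_zero.1 ?_, fun x => ?_⟩
  · have hd : (g - g') ≫ a = 0 := by
      refine Pi.hom_ext _ _ fun k => ?_
      induction k with
      | zero => rw [zero_comp, Preadditive.sub_comp, Preadditive.sub_comp, sub_eq_zero, assoc, assoc]; exact hg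
      | succ k ih =>
        refine smul_injective r h ?_
        rw [← hrec, ih, zero_comp, zero_comp, smul_zero]
    obtain ⟨w, hw⟩ := Triangle.coyoneda_exact₁ _ hF ((g - g')⟦(1 : ℤ)⟧') (by
      show (g - g')⟦(1 : ℤ)⟧' ≫ a⟦(1 : ℤ)⟧' = 0
      rw [← Functor.map_comp, hd, Functor.map_zero])
    apply (shiftFunctor T (1 : ℤ)).map_injective
    obtain ⟨v, hv⟩ := exists_comp_δ r K (h.shift r 1) w
    refine hw.trans (((congrArg (· ≫ _) hv.symm).trans (assoc _ _ _)).trans ?_)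
    exact ((congrArg (v ≫ ·) (comp_distTriang_mor_zero₂₃ _ hF)).trans comp_zero).trans (Functor.map_zero _ _ _).symm
  · let z : ℕ → (Y ⟶ K) := fun n => Nat.rec (motive := fun _ => Y ⟶ K) x (fun _ zk => inv' r h ≫ zk) n
    obtain ⟨g, hg⟩ := Triangle.coyoneda_exact₂ _ hF (Pi.lift z) (by
      show Pi.lift z ≫ δ r K = 0
      refine Pi.hom_ext _ _ fun k => ?_
      rw [δ_π, Pi.lift_π, Pi.lift_π, show z (k + 1) = inv' r h ≫ z k from rfl, smul_inv' r h, sub_self, zero_comp])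
    refine ⟨g, ?_⟩
    show g ≫ a ≫ Pi.π _ 0 = x
    exact ((assoc _ _ _).symm.trans (congrArg (· ≫ Pi.π _ 0) (show g ≫ a = Pi.lift z from hg.symm))).trans (Pi.lift_π z 0)

/-- `r` is invertible on the fiber of identity minus shift. -/
theorem loc_fiber : Loc r F := by
  let Φ : (∏ᶜ fun _ : ℕ => K) ⟶ ∏ᶜ fun _ : ℕ => K := Pi.lift fun n => Pi.π (fun _ : ℕ => K) (n + 1)
  have hΦ : δ r K + r • Φ = 𝟙 _ := Pi.hom_ext _ _ fun k => by
    rw [Preadditive.add_comp, Linear.smul_comp, Pi.lift_π, Pi.lift_π, id_comp, Linear.comp_smul, comp_id]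
    abel
  have hcomm : δ r K ≫ Φ = Φ ≫ δ r K := Pi.hom_ext _ _ fun k => by
    rw [δ_π]
    simp [Φ, Linear.comp_smul]
  obtain ⟨e₀, he₁, he₂⟩ := complete_distinguished_triangle_morphism₁ _ _ hF hF Φ Φ hcomm
  let e : F ⟶ F := e₀
  change a ≫ Φ = e ≫ a at he₁
  change c ≫ e⟦(1 : ℤ)⟧' = Φ ≫ c at he₂
  let d := 𝟙 F - r • e
  have hrΦ : r • Φ = 𝟙 _ - δ r K := eq_sub_of_add_eq' hΦ
  have hda : d ≫ a = 0 := by
    rw [Preadditive.sub_comp, id_comp, Linear.smul_comp, ← he₁, ← Linear.comp_smul, hrΦ, Preadditive.comp_sub,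
      comp_id, show a ≫ δ r K = 0 from comp_distTriang_mor_zero₁₂ _ hF, sub_zero, sub_self]
  have hcd : c ≫ d⟦(1 : ℤ)⟧' = 0 := by
    rw [Functor.map_sub, CategoryTheory.Functor.map_id, Functor.map_smul, Preadditive.comp_sub, comp_id, Linear.comp_smul, he₂,
      ← Linear.smul_comp, hrΦ, Preadditive.sub_comp, id_comp,
      show δ r K ≫ c = 0 from comp_distTriang_mor_zero₂₃ _ hF, sub_zero, sub_self]
  have hdd : d ≫ d = 0 := by
    obtain ⟨w, hw⟩ := Triangle.coyoneda_exact₁ _ hF (d⟦(1 : ℤ)⟧') (by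
      show d⟦(1 : ℤ)⟧' ≫ a⟦(1 : ℤ)⟧' = 0
      rw [← Functor.map_comp, hda, Functor.map_zero])
    apply (shiftFunctor T (1 : ℤ)).map_injective
    rw [Functor.map_comp, Functor.map_zero]
    refine (congrArg (· ≫ d⟦(1 : ℤ)⟧') hw).trans ?_
    exact (assoc _ _ _).trans ((congrArg (w ≫ ·) hcd).trans comp_zero)
  refine ⟨⟨e ≫ (𝟙 F + d), ?_, ?_⟩⟩ <;>
  · simp only [Linear.smul_comp, id_comp, Linear.comp_smul, comp_id, assoc]
    rw [show r • (e ≫ (𝟙 F + d)) = (𝟙 F - d) ≫ (𝟙 F + d) by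
      rw [← Linear.smul_comp]; congr 1; simp [d]]
    rw [Preadditive.sub_comp, id_comp, Preadditive.comp_add, comp_id, hdd, add_zero, add_sub_cancel_right]

/-- Uniqueness: a universal object on which `r` is invertible is the derived limit. -/
theorem isRlim_of_universal {L : T} (hL : Loc r L) (b : L ⟶ K)
    (hb : ∀ Y : T, Loc r Y → Function.Bijective fun g : Y ⟶ L => g ≫ b) :
    DCoh.IsRlim (fun _ : ℕ => K) (fun _ => r • 𝟙 K) L := by
  have hFl := loc_fiber r hF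
  let b' := a ≫ Pi.π (fun _ : ℕ => K) 0
  obtain ⟨φ, hφ⟩ := (bijective_comp_π r hF hL).2 b
  obtain ⟨ψ, hψ⟩ := (hb F hFl).2 b'
  have h1 : φ ≫ ψ = 𝟙 L := (hb L hL).1 (by
    show (φ ≫ ψ) ≫ b = 𝟙 L ≫ b
    rw [assoc, id_comp, show ψ ≫ b = b' from hψ]
    exact hφ)
  have h2 : ψ ≫ φ = 𝟙 F := (bijective_comp_π r hF hFl).1 (by
    show (ψ ≫ φ) ≫ b' = 𝟙 F ≫ b'
    rw [assoc, id_comp, show φ ≫ b' = b from hφ]
    exact hψ)
  let e : L ≅ F := ⟨φ, ψ, h1, h2⟩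
  refine ⟨φ ≫ a, c ≫ ψ⟦(1 : ℤ)⟧', isomorphic_distinguished _ hF _ ?_⟩
  refine Triangle.isoMk _ _ e (Iso.refl _) (Iso.refl _) ?_ ?_ ?_
  · exact comp_id _
  · exact (comp_id _).trans (id_comp _).symm
  · show (c ≫ ψ⟦(1 : ℤ)⟧') ≫ φ⟦(1 : ℤ)⟧' = 𝟙 _ ≫ c
    rw [assoc, ← Functor.map_comp, h2, CategoryTheory.Functor.map_id, comp_id, id_comp]

end Groth.Agent.H9Misc.RlimSmul
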