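import Groth.Agent.H9Misc.FinDimDerived
import Mathlib.Algebra.Homology.DerivedCategory.ExactFunctor
import Mathlib.CategoryTheory.Abelian.SerreClass.Localization
import Mathlib.Algebra.Homology.DerivedCategory.HomologySequence
import Mathlib.CategoryTheory.Localization.Adjunction
import Mathlib.CategoryTheory.Localization.Composition
import Mathlib.CategoryTheory.Adjunction.FullyFaithful
import Mathlib.CategoryTheory.Adjunction.Additive

/-! Exact quotients by Serre classes and derived categories. -/

universe w w' v v' u u'

open CategoryTheory Category Limits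

namespace Groth.Agent.H9Misc.SerreDerived

variable {A : Type u} [Category.{v} A] [Abelian A] [HasDerivedCategory.{w} A]
  {Q : Type u'} [Category.{v'} Q] [Abelian Q] [HasDerivedCategory.{w'} Q]
  (v : A ⥤ Q) [v.Additive] [PreservesFiniteLimits v] [PreservesFiniteColimits v]

lemma isZero_mapDerived_iff (Z : DerivedCategory A) :
    IsZero (v.mapDerivedCategory.obj Z) ↔
      ∀ n : ℤ, IsZero (v.obj ((DerivedCategory.homologyFunctor A n).obj Z)) := by
  have := Localization.essSurj (DerivedCategory.Q (C := A)) (HomologicalComplex.quasiIso A (ComplexShape.up ℤ))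
  obtain ⟨K, ⟨e⟩⟩ : ∃ K, Nonempty (DerivedCategory.Q.obj K ≅ Z) := ⟨_, ⟨DerivedCategory.Q.objObjPreimageIso Z⟩⟩
  rw [← ((v.mapDerivedCategoryFactors.app K).symm ≪≫ v.mapDerivedCategory.mapIso e).isZero_iff]
  refine (FinDimDerived.isZero_Q_obj_iff ((v.mapHomologicalComplex (ComplexShape.up ℤ)).obj K)).trans ?_
  refine forall_congr' fun n => ?_
  rw [HomologicalComplex.exactAt_iff_isZero_homology]
  exact Iso.isZero_iff ((K.sc n).mapHomologyIso v ≪≫ v.mapIso (((DerivedCategory.homologyFunctorFactors A n).app K).symm ≪≫
    (DerivedCategory.homologyFunctor A n).mapIso e))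

variable (P : ObjectProperty A) [P.IsSerreClass] [v.IsLocalization P.isoModSerre]

lemma trW_iff_isIso {X Y : DerivedCategory A} (f : X ⟶ Y) :
    ObjectProperty.trW (fun X : DerivedCategory A => ∀ n : ℤ, P ((DerivedCategory.homologyFunctor A n).obj X)) f ↔
      IsIso (v.mapDerivedCategory.map f) := by
  obtain ⟨Z, g, h, hT⟩ := Pretriangulated.distinguished_cocone_triangle f
  let P' : ObjectProperty (DerivedCategory A) := fun X => ∀ n : ℤ, P ((DerivedCategory.homologyFunctor A n).obj X)
  have : P'.IsClosedUnderIsomorphisms := ⟨fun e h n =>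
    P.prop_of_iso ((DerivedCategory.homologyFunctor A n).mapIso e) (h n)⟩
  refine ((P'.trW_iff_of_distinguished _ hT).trans ?_)
  have hT' := v.mapDerivedCategory.map_distinguished _ hT
  refine Iff.trans ?_ (Pretriangulated.Triangle.isZero₃_iff_isIso₁ _ hT')
  refine (forall_congr' fun n => ?_).trans (isZero_mapDerived_iff v Z).symm
  exact (ObjectProperty.SerreClassLocalization.isZero_obj_iff v P _).symm

end Groth.Agent.H9Misc.SerreDerived

namespace Groth.Agent.H9Misc.SerreDerived

section Htpy

variable {V : Type u} [Category.{v} V] [Preadditive V] {V' : Type u'} [Category.{v'} V']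
  [Preadditive V'] {F : V ⥤ V'} {G : V' ⥤ V} [F.Additive] [G.Additive] {ι : Type*}
  (c : ComplexShape ι)

/-- An adjunction of additive functors passes to homotopy categories. -/
noncomputable def adjHtpy (adj : F ⊣ G) : F.mapHomotopyCategory c ⊣ G.mapHomotopyCategory c where
  unit :=
    { app := fun K => (HomotopyCategory.quotient V c).map
        { f := fun i => adj.unit.app (K.as.X i)
          comm' := fun i j _ => (adj.unit.naturality (K.as.d i j)).symm }
      naturality := fun K L a => by
        obtain ⟨a, rfl⟩ := (HomotopyCategory.quotient V c).map_surjective a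
        change (HomotopyCategory.quotient V c).map _ ≫ (HomotopyCategory.quotient V c).map _ =
          (HomotopyCategory.quotient V c).map _ ≫ (HomotopyCategory.quotient V c).map _
        rw [← Functor.map_comp, ← Functor.map_comp]
        exact congrArg _ (HomologicalComplex.hom_ext _ _ fun i => adj.unit.naturality (a.f i)) }
  counit :=
    { app := fun K => (HomotopyCategory.quotient V' c).map
        { f := fun i => adj.counit.app (K.as.X i)
          comm' := fun i j _ => (adj.counit.naturality (K.as.d i j)).symm }
      naturality := fun K L a => by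
        obtain ⟨a, rfl⟩ := (HomotopyCategory.quotient V' c).map_surjective a
        change (HomotopyCategory.quotient V' c).map _ ≫ (HomotopyCategory.quotient V' c).map _ =
          (HomotopyCategory.quotient V' c).map _ ≫ (HomotopyCategory.quotient V' c).map _
        rw [← Functor.map_comp, ← Functor.map_comp]
        exact congrArg _ (HomologicalComplex.hom_ext _ _ fun i => adj.counit.naturality (a.f i)) }
  left_triangle_components K := by
    change (HomotopyCategory.quotient V' c).map _ ≫ (HomotopyCategory.quotient V' c).map _ = _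
    rw [← Functor.map_comp]
    exact (congrArg _ (HomologicalComplex.hom_ext _ _ fun i =>
      adj.left_triangle_components (K.as.X i))).trans ((HomotopyCategory.quotient V' c).map_id _)
  right_triangle_components K := by
    change (HomotopyCategory.quotient V c).map _ ≫ (HomotopyCategory.quotient V c).map _ = _
    rw [← Functor.map_comp]
    exact (congrArg _ (HomologicalComplex.hom_ext _ _ fun i =>
      adj.right_triangle_components (K.as.X i))).trans ((HomotopyCategory.quotient V c).map_id _)

end Htpy

section Loc

variable {A : Type u} [Category.{v} A] [Abelian A] [HasDerivedCategory.{w} A]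
  {Q : Type u'} [Category.{v'} Q] [Abelian Q] [HasDerivedCategory.{w'} Q]
  (v : A ⥤ Q) [v.Additive] [PreservesFiniteLimits v] [PreservesFiniteColimits v]
  (P : ObjectProperty A) [P.IsSerreClass] [v.IsLocalization P.isoModSerre]
  (u : Q ⥤ A) (adj : u ⊣ v) [IsIso adj.unit]

include adj in
theorem isLocalization : v.mapDerivedCategory.IsLocalization
    (ObjectProperty.trW (fun X : DerivedCategory A => ∀ n : ℤ, P ((DerivedCategory.homologyFunctor A n).obj X))) := by
  have : u.Additive := adj.left_adjoint_additive
  let Kv := v.mapHomotopyCategory (ComplexShape.up ℤ)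
  let a := adjHtpy (ComplexShape.up ℤ) adj
  have hu : ∀ K, IsIso (a.unit.app K) := fun K => by
    let s : K.as ⟶ ((u.mapHomologicalComplex _ ⋙ v.mapHomologicalComplex _).obj K.as) :=
      { f := fun i => adj.unit.app (K.as.X i)
        comm' := fun i j _ => (adj.unit.naturality (K.as.d i j)).symm }
    have : ∀ i, IsIso (s.f i) := fun i => inferInstanceAs (IsIso (adj.unit.app (K.as.X i)))
    have hs : IsIso s := HomologicalComplex.Hom.isIso_of_components _
    exact ((HomotopyCategory.quotient Q _).mapIso (@asIso _ _ _ _ _ hs)).isIso_hom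
  have : IsIso a.unit := NatIso.isIso_of_isIso_app _
  have := a.fullyFaithfulLOfIsIsoUnit.full
  have := a.fullyFaithfulLOfIsIsoUnit.faithful
  have := a.isLocalization'
  let W₃ := (HomotopyCategory.quasiIso Q (ComplexShape.up ℤ)).inverseImage Kv
  have : (Kv ⋙ DerivedCategory.Qh).IsLocalization W₃ :=
    Functor.IsLocalization.comp Kv DerivedCategory.Qh ((MorphismProperty.isomorphisms _).inverseImage Kv)
      (HomotopyCategory.quasiIso Q _) W₃ (fun X Y f hf => Localization.inverts DerivedCategory.Qh (HomotopyCategory.quasiIso Q (ComplexShape.up ℤ)) _ hf)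
      (fun X Y f (hf : IsIso (Kv.map f)) => MorphismProperty.of_isIso (HomotopyCategory.quasiIso Q (ComplexShape.up ℤ)) (Kv.map f))
      (fun X Y s hs => by
        refine ⟨_, _, (u.mapHomotopyCategory (ComplexShape.up ℤ)).map s, ?_, ⟨?_⟩⟩
        · exact ((HomotopyCategory.quasiIso Q _).arrow_mk_iso_iff
            (Arrow.isoMk (asIso (a.unit.app X)) (asIso (a.unit.app Y)) (a.unit.naturality s).symm)).1 hs
        · exact (Arrow.isoMk (asIso (a.unit.app X)) (asIso (a.unit.app Y)) (a.unit.naturality s).symm).symm)
  have : (DerivedCategory.Qh ⋙ v.mapDerivedCategory).IsLocalization W₃ :=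
    Functor.IsLocalization.of_iso W₃ v.mapDerivedCategoryFactorsh.symm
  refine Functor.IsLocalization.of_comp DerivedCategory.Qh v.mapDerivedCategory
    (HomotopyCategory.quasiIso A (ComplexShape.up ℤ)) _ W₃ (fun X Y f hf => ?_) ?_
  · have := Localization.inverts DerivedCategory.Qh (HomotopyCategory.quasiIso A (ComplexShape.up ℤ)) f hf
    exact (DerivedCategory.isIso_Qh_map_iff _).1 ((NatIso.isIso_map_iff v.mapDerivedCategoryFactorsh f).1
      (inferInstanceAs (IsIso (v.mapDerivedCategory.map (DerivedCategory.Qh.map f)))))
  · ext X Y f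
    rw [trW_iff_isIso v P f]
    constructor
    · intro hf
      have := Localization.essSurj_mapArrow DerivedCategory.Qh (HomotopyCategory.quasiIso A (ComplexShape.up ℤ))
      obtain ⟨φ, ⟨e⟩⟩ : ∃ φ : Arrow (HomotopyCategory A (ComplexShape.up ℤ)),
          Nonempty (DerivedCategory.Qh.mapArrow.obj φ ≅ Arrow.mk f) :=
        ⟨_, ⟨Functor.objObjPreimageIso DerivedCategory.Qh.mapArrow (Arrow.mk f)⟩⟩
      refine ⟨_, _, φ.hom, ?_, ⟨e⟩⟩
      have h₁ : IsIso (v.mapDerivedCategory.map (DerivedCategory.Qh.map φ.hom)) :=
        ((MorphismProperty.isomorphisms _).inverseImage v.mapDerivedCategory).arrow_mk_iso_iff e |>.2 hf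
      have h₂ : IsIso (DerivedCategory.Qh.map (Kv.map φ.hom)) :=
        (NatIso.isIso_map_iff v.mapDerivedCategoryFactorsh φ.hom).1 h₁
      exact (DerivedCategory.isIso_Qh_map_iff _).1 h₂
    · rintro ⟨X', Y', φ, hφ, ⟨e⟩⟩
      have h₂ : IsIso (DerivedCategory.Qh.map (Kv.map φ)) := (DerivedCategory.isIso_Qh_map_iff _).2 hφ
      exact ((MorphismProperty.isomorphisms _).inverseImage v.mapDerivedCategory).arrow_mk_iso_iff e |>.1
        ((NatIso.isIso_map_iff v.mapDerivedCategoryFactorsh φ).2 h₂)

end Loc

end Groth.Agent.H9Misc.SerreDerived
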