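import Groth.Agent.H9Misc.TelOrth
import Groth.Agent.H9Misc.SerreDerived
import Groth.Agent.TriCat.DerivedProducts
import Groth.Agent.TriCat.KInjRes
import Groth.Agent.KFlatLib.PsiC
import Mathlib.Algebra.Homology.DerivedCategory.Linear

/-! Locality of telescope bijectivity along separating families, and transfer along exact adjunctions. -/

universe w w' v v' u u'

open CategoryTheory CategoryTheory.Category CategoryTheory.Limits CategoryTheory.Pretriangulated

namespace Groth.Agent.H9Misc.TelLocal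

variable {A : Type u} [Category.{v} A] [Abelian A] [HasDerivedCategory.{w} A]

/-- An object without maps from shifts of a separating family is zero. -/
theorem isZero_of_separating (Sep : ObjectProperty A) (hSep : Sep.IsSeparating) (X : DerivedCategory A)
    (h : ∀ P, Sep P → ∀ n : ℤ, Subsingleton ((DerivedCategory.singleFunctor A 0).obj P ⟶ X⟦n⟧)) :
    IsZero X := by
  have := Localization.essSurj (DerivedCategory.Q (C := A)) (HomologicalComplex.quasiIso A (ComplexShape.up ℤ))
  obtain ⟨K, ⟨e⟩⟩ : ∃ K, Nonempty (DerivedCategory.Q.obj K ≅ X) := ⟨_, ⟨DerivedCategory.Q.objObjPreimageIso X⟩⟩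
  refine ((FinDimDerived.isZero_Q_obj_iff K).2 fun n => ?_).of_iso e.symm
  rw [HomologicalComplex.exactAt_iff_isZero_homology, IsZero.iff_id_eq_zero,
    ← cancel_epi (K.homologyπ n), comp_zero, comp_id]
  refine hSep _ _ fun P hP ζ => ?_
  obtain ⟨g, hg⟩ := KFlatLib.exists_single_map n ζ
  have hP' := h P hP n
  have hs : Subsingleton ((DerivedCategory.singleFunctor A n).obj P ⟶ DerivedCategory.Q.obj K) := by
    let eP : ((DerivedCategory.singleFunctor A n).obj P)⟦n⟧ ≅ (DerivedCategory.singleFunctor A 0).obj P :=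
      ((DerivedCategory.singleFunctors A).shiftIso n 0 n (add_zero n)).app P
    refine ⟨fun a b => (shiftFunctor (DerivedCategory A) n).map_injective ?_⟩
    rw [← cancel_epi eP.inv, ← cancel_mono ((shiftFunctor (DerivedCategory A) n).map e.hom)]
    exact Subsingleton.elim _ _
  have hQ : DerivedCategory.Q.map g = 0 := by
    rw [← cancel_epi (KFlatLib.singleQ n P).hom]
    exact Subsingleton.elim _ _
  have hH : HomologicalComplex.homologyMap g n = 0 := by
    have h' := (DerivedCategory.homologyFunctorFactors A n).hom.naturality g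
    rw [Functor.comp_map, hQ, Functor.map_zero, zero_comp] at h'
    exact (cancel_epi ((DerivedCategory.homologyFunctorFactors A n).hom.app _)).1 (h'.symm.trans comp_zero.symm)
  rw [← hg, hH, comp_zero, comp_zero]

section Smul

variable {R : Type*} [CommRing R] [Linear R A]

/-- Multiplication by a scalar on morphisms. -/
noncomputable def sc (r : R) (X Y : DerivedCategory A) : (X ⟶ Y) →+ (X ⟶ Y) :=
  AddMonoidHom.mk' (fun x => r • x) (smul_add r)

lemma mu_smul_id (r : R) (F : A) (Y : DerivedCategory A) :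
    TelOrth.mu F (r • 𝟙 F) Y = sc r _ Y := by
  ext x
  show (DerivedCategory.singleFunctor A 0).map (r • 𝟙 F) ≫ x = r • x
  rw [Functor.map_smul, CategoryTheory.Functor.map_id, Linear.smul_comp, id_comp]

lemma tb_sc_of_iso (r : R) {X X' Y Y' : DerivedCategory A} (a : X ≅ X') (b : Y ≅ Y')
    (h : TelBij.TB (sc r X Y)) : TelBij.TB (sc r X' Y') :=
  TelBij.tb_of_injective_surjective
    { toFun := fun x => a.inv ≫ x ≫ b.hom
      invFun := fun x => a.hom ≫ x ≫ b.inv
      left_inv := fun x => by simp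
      right_inv := fun x => by simp
      map_add' := fun x y => by simp [Preadditive.add_comp, Preadditive.comp_add] }
    (fun x => show a.inv ≫ (r • x) ≫ b.hom = r • (a.inv ≫ x ≫ b.hom) by
      rw [Linear.smul_comp, Linear.comp_smul]) h

lemma tb_sc_shift (r : R) {X Y : DerivedCategory A} (n : ℤ) (h : TelBij.TB (sc r X Y)) :
    TelBij.TB (sc r (X⟦n⟧) (Y⟦n⟧)) :=
  TelBij.tb_of_injective_surjective
    { Equiv.ofBijective _ ⟨(shiftFunctor (DerivedCategory A) n).map_injective,
        (shiftFunctor (DerivedCategory A) n).map_surjective⟩ with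
      map_add' := fun x y => (shiftFunctor (DerivedCategory A) n).map_add }
    (fun x => show (shiftFunctor (DerivedCategory A) n).map (r • x) = r • _ from Functor.map_smul _ _ _) h

lemma tb_sc_of_tbOn (r : R) {P : A} {K : DerivedCategory A} (h : TelOrth.TBOn P (r • 𝟙 P) K) (a : ℤ) :
    TelBij.TB (sc r (((DerivedCategory.singleFunctor A 0).obj P)⟦a⟧) K) := by
  have h' := h (-a)
  rw [mu_smul_id] at h'
  exact tb_sc_of_iso r (Iso.refl _) ((shiftFunctorCompIsoId (DerivedCategory A) (-a) a (by omega)).app K)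
    (tb_sc_shift r a h')

variable [∀ X : ℕ → DerivedCategory A, HasProduct X]

/-- A scalar has bijective telescopes on all morphisms into `K` if it does so on a separating family. -/
theorem tb_sc_of_separating (r : R) (K : DerivedCategory A) (Sep : ObjectProperty A) (hSep : Sep.IsSeparating)
    (h : ∀ P, Sep P → TelOrth.TBOn P (r • 𝟙 P) K) (Y : DerivedCategory A) : TelBij.TB (sc r Y K) := by
  let π := fun k => Pi.π (fun _ : ℕ => K) k
  let δ : (∏ᶜ fun _ : ℕ => K) ⟶ ∏ᶜ fun _ : ℕ => K := Pi.lift fun k => π k - r • π (k + 1)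
  have hδ : ∀ (Y : DerivedCategory A) (g : Y ⟶ ∏ᶜ fun _ : ℕ => K) (k : ℕ),
      (g ≫ δ) ≫ π k = g ≫ π k - r • (g ≫ π (k + 1)) := fun Y g k => by
    rw [assoc, Pi.lift_π, Preadditive.comp_sub, Linear.comp_smul]
  have hbij : ∀ (Y : DerivedCategory A), TelBij.TB (sc r Y K) →
      Function.Bijective fun g : Y ⟶ ∏ᶜ fun _ : ℕ => K => g ≫ δ := fun Y hY => by
    constructor
    · intro g g' hg
      refine Pi.hom_ext _ _ fun k => ?_
      refine congrFun (hY.1 (a₁ := fun k => g ≫ π k) (a₂ := fun k => g' ≫ π k) (funext fun k => ?_)) k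
      exact ((hδ Y g k).symm.trans (congrArg (· ≫ π k) hg)).trans (hδ Y g' k)
    · intro g
      obtain ⟨x, hx⟩ := hY.2 fun k => g ≫ π k
      refine ⟨Pi.lift x, Pi.hom_ext _ _ fun k => ?_⟩
      refine (hδ Y _ k).trans ?_
      rw [Pi.lift_π, Pi.lift_π]
      exact congrFun hx k
  have hiso : IsIso δ := by
    obtain ⟨Z, g₂, g₃, hT⟩ := distinguished_cocone_triangle δ
    refine (Triangle.isZero₃_iff_isIso₁ _ hT).1 (isZero_of_separating Sep hSep Z fun P hP n => ?_)
    let S := (DerivedCategory.singleFunctor A 0).obj P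
    suffices hs : ∀ a : ℤ, Subsingleton (S⟦a⟧⟦(1 : ℤ)⟧ ⟶ Z) by
      refine ⟨fun f f' => ?_⟩
      let e₁ : S⟦-n - 1⟧⟦(1 : ℤ)⟧ ≅ S⟦-n⟧ :=
        ((shiftFunctorAdd' (DerivedCategory A) (-n - 1) 1 (-n) (by omega)).app S).symm
      let e₂ := (shiftFunctorCompIsoId (DerivedCategory A) n (-n) (by omega)).app Z
      apply (shiftFunctor (DerivedCategory A) (-n)).map_injective
      rw [← cancel_epi e₁.hom, ← cancel_mono e₂.hom]
      exact (hs (-n - 1)).elim _ _
    intro a
    refine subsingleton_of_forall_eq 0 fun f => ?_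
    obtain ⟨h₀, hh₀⟩ := (shiftFunctor (DerivedCategory A) (1 : ℤ)).map_surjective (f ≫ g₃)
    have hz : h₀ = 0 := by
      refine (hbij _ (tb_sc_of_tbOn r (h P hP) a)).1 ?_
      show h₀ ≫ δ = 0 ≫ δ
      rw [zero_comp]
      apply (shiftFunctor (DerivedCategory A) (1 : ℤ)).map_injective
      rw [Functor.map_comp, hh₀, Functor.map_zero, assoc]
      exact (congrArg (f ≫ ·) (comp_distTriang_mor_zero₃₁ _ hT)).trans comp_zero
    obtain ⟨f', rfl⟩ := Triangle.coyoneda_exact₃ _ hT f (by
      show f ≫ g₃ = 0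
      rw [← hh₀, hz, Functor.map_zero])
    let e₁ : S⟦a + 1⟧ ≅ S⟦a⟧⟦(1 : ℤ)⟧ := (shiftFunctorAdd' (DerivedCategory A) a 1 (a + 1) rfl).app S
    obtain ⟨w', hw'⟩ := (hbij _ (tb_sc_of_iso r e₁ (Iso.refl _) (tb_sc_of_tbOn r (h P hP) (a + 1)))).2 f'
    rw [← hw']
    exact (assoc w' δ g₂).trans ((congrArg (w' ≫ ·) (comp_distTriang_mor_zero₁₂ _ hT)).trans comp_zero)
  constructor
  · intro x y hxy
    have : Pi.lift x = Pi.lift y := by
      rw [← cancel_mono δ]
      refine Pi.hom_ext _ _ fun k => ?_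
      refine (hδ _ _ k).trans (Eq.trans ?_ (hδ _ _ k).symm)
      rw [Pi.lift_π, Pi.lift_π, Pi.lift_π, Pi.lift_π]
      exact congrFun hxy k
    funext k
    exact ((Pi.lift_π x k).symm.trans (congrArg (· ≫ π k) this)).trans (Pi.lift_π y k)
  · intro y
    refine ⟨fun k => (Pi.lift y ≫ inv δ) ≫ π k, funext fun k => ?_⟩
    refine (hδ _ _ k).symm.trans ?_
    rw [assoc (Pi.lift y), IsIso.inv_hom_id, comp_id, Pi.lift_π]

/-- Telescope bijectivity for a scalar is detected by a separating family. -/
theorem tbOn_of_separating (r : R) (K : DerivedCategory A) (Sep : ObjectProperty A) (hSep : Sep.IsSeparating)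
    (h : ∀ P, Sep P → TelOrth.TBOn P (r • 𝟙 P) K) (X : A) : TelOrth.TBOn X (r • 𝟙 X) K := fun n => by
  rw [mu_smul_id]
  let S := (DerivedCategory.singleFunctor A 0).obj X
  exact tb_sc_of_iso r ((shiftFunctorCompIsoId (DerivedCategory A) (-n) n (by omega)).app S) (Iso.refl _)
    (tb_sc_shift r n (tb_sc_of_separating r K Sep hSep h _))

end Smul

section Adjunction

variable {B : Type u'} [Category.{v'} B] [Abelian B] [HasDerivedCategory.{w'} B]
  {E : A ⥤ B} {G : B ⥤ A} (adj : E ⊣ G) [E.Additive] [G.Additive]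
  [PreservesFiniteLimits E] [PreservesFiniteColimits E] [PreservesFiniteLimits G] [PreservesFiniteColimits G]

/-- An exact adjunction induces one on derived categories. -/
noncomputable def derivedAdjunction : E.mapDerivedCategory ⊣ G.mapDerivedCategory :=
  letI : CatCommSq (E.mapHomotopyCategory (ComplexShape.up ℤ)) DerivedCategory.Qh DerivedCategory.Qh
    E.mapDerivedCategory := ⟨E.mapDerivedCategoryFactorsh.symm⟩
  letI : CatCommSq (G.mapHomotopyCategory (ComplexShape.up ℤ)) DerivedCategory.Qh DerivedCategory.Qh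
    G.mapDerivedCategory := ⟨G.mapDerivedCategoryFactorsh.symm⟩
  (SerreDerived.adjHtpy (ComplexShape.up ℤ) adj).localization DerivedCategory.Qh
    (HomotopyCategory.quasiIso A (ComplexShape.up ℤ)) DerivedCategory.Qh
    (HomotopyCategory.quasiIso B (ComplexShape.up ℤ)) _ _

include adj in
/-- Telescope bijectivity transfers along an exact adjunction. -/
theorem tbOn_map_iff (P : A) (u : P ⟶ P) (K : DerivedCategory B) :
    TelOrth.TBOn (E.obj P) (E.map u) K ↔ TelOrth.TBOn P u (G.mapDerivedCategory.obj K) := by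
  let a := derivedAdjunction adj
  have : E.mapDerivedCategory.Additive := inferInstance
  refine forall_congr' fun n => ?_
  let e₀ := (E.mapDerivedCategorySingleFunctor 0).app P
  let c := (G.mapDerivedCategory.commShiftIso n).app K
  let φ : ((DerivedCategory.singleFunctor B 0).obj (E.obj P) ⟶ K⟦n⟧) ≃+
      ((DerivedCategory.singleFunctor A 0).obj P ⟶ (G.mapDerivedCategory.obj K)⟦n⟧) :=
    { toFun := fun x => a.homEquiv _ _ (e₀.hom ≫ x) ≫ c.hom
      invFun := fun y => e₀.inv ≫ (a.homEquiv _ _).symm (y ≫ c.inv)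
      left_inv := fun x => by simp
      right_inv := fun y => by simp
      map_add' := fun x y => by
        rw [Preadditive.comp_add, Adjunction.homEquiv_unit, Adjunction.homEquiv_unit, Adjunction.homEquiv_unit,
          Functor.map_add, Preadditive.comp_add, Preadditive.add_comp] }
  have hφ : ∀ x, φ (TelOrth.mu (E.obj P) (E.map u) (K⟦n⟧) x) =
      TelOrth.mu P u ((G.mapDerivedCategory.obj K)⟦n⟧) (φ x) := fun x => by
    show a.homEquiv _ _ (e₀.hom ≫ (DerivedCategory.singleFunctor B 0).map (E.map u) ≫ x) ≫ c.hom =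
      (DerivedCategory.singleFunctor A 0).map u ≫ a.homEquiv _ _ (e₀.hom ≫ x) ≫ c.hom
    rw [← assoc ((DerivedCategory.singleFunctor A 0).map u), ← Adjunction.homEquiv_naturality_left]
    refine congrArg (fun t => a.homEquiv _ _ t ≫ c.hom) ?_
    refine (assoc _ _ _).symm.trans (Eq.trans ?_ (assoc _ _ _))
    exact congrArg (· ≫ x) ((E.mapDerivedCategorySingleFunctor 0).hom.naturality u).symm
  exact ⟨TelBij.tb_of_injective_surjective φ hφ,
    TelBij.tb_of_injective_surjective φ.symm fun y => by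
      rw [← φ.apply_eq_iff_eq, hφ, φ.apply_symm_apply, φ.apply_symm_apply]⟩

end Adjunction

end Groth.Agent.H9Misc.TelLocal
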