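import Groth.Agent.H9Misc.DRingNakayama
import Groth.Agent.H9Misc.TelLocal
import Groth.Agent.H9Misc.RlimSmul
import Groth.Agent.TriCat.DerivedProducts
import Groth.Agent.TriCat.KInjRes
import Mathlib.Algebra.Category.ModuleCat.AB
import Mathlib.Algebra.Homology.DerivedCategory.TStructure
import Mathlib.CategoryTheory.Abelian.GrothendieckCategory.ModuleEmbedding.Opposite

/-! Cohomological amplitude of derived completion over a ring. -/

set_option linter.style.haveILetI false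

universe u w v

open CategoryTheory CategoryTheory.Category CategoryTheory.Limits
open CategoryTheory.Pretriangulated

attribute [local instance] HasDerivedCategory.standard

namespace Groth.Agent.H9Misc.DRingCompl

section generic

variable {D : Type w} [Category.{v} D] [Preadditive D] [HasZeroObject D] [HasShift D ℤ]
  [∀ n : ℤ, (shiftFunctor D n).Additive] [Pretriangulated D] (Cp : D → Prop)

/-- `η` is a reflection of `X` into the objects satisfying `Cp`. -/
structure Refl {X Y : D} (η : X ⟶ Y) : Prop where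
  mem : Cp Y
  bij : ∀ (Z : D), Cp Z → ∀ n : ℤ, Function.Bijective fun g : Y ⟶ Z⟦n⟧ => η ≫ g

variable {Cp}

lemma Refl.cancel {X Y : D} {η : X ⟶ Y} (h : Refl Cp η) {Z : D} (hZ : Cp Z) {n : ℤ} {g g' : Y ⟶ Z⟦n⟧}
    (e : η ≫ g = η ≫ g') : g = g' := (h.bij Z hZ n).1 e

lemma Refl.shift_bij {X Y : D} {η : X ⟶ Y} (h : Refl Cp η) (a : ℤ) {Z : D} (hZ : Cp Z) (n : ℤ) :
    Function.Bijective fun g : Y⟦a⟧ ⟶ Z⟦n⟧ => η⟦a⟧' ≫ g := by
  let e : (Z⟦n - a⟧)⟦a⟧ ≅ Z⟦n⟧ := ((shiftFunctorAdd' D (n - a) a n (by omega)).app Z).symm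
  constructor
  · intro g g' hg
    obtain ⟨g₀, hg₀⟩ := (shiftFunctor D a).map_surjective (g ≫ e.inv)
    obtain ⟨g₀', hg₀'⟩ := (shiftFunctor D a).map_surjective (g' ≫ e.inv)
    have : g₀ = g₀' := h.cancel hZ <| (shiftFunctor D a).map_injective <| by
      rw [Functor.map_comp, Functor.map_comp, hg₀, hg₀']
      exact ((assoc _ _ _).symm.trans (congrArg (· ≫ e.inv) hg)).trans (assoc _ _ _)
    rw [← cancel_mono e.inv, ← hg₀, ← hg₀', this]
  · intro g
    obtain ⟨g₀, hg₀⟩ := (shiftFunctor D a).map_surjective (g ≫ e.inv)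
    obtain ⟨g₁, hg₁⟩ := (h.bij Z hZ (n - a)).2 g₀
    refine ⟨g₁⟦a⟧' ≫ e.hom, ?_⟩
    dsimp only at hg₁ ⊢
    rw [← assoc, ← Functor.map_comp, hg₁, hg₀, assoc, e.inv_hom_id, comp_id]

lemma Refl.comp {X Y Z : D} {η : X ⟶ Y} {θ : Y ⟶ Z} (Cp' : D → Prop) (h : Refl Cp η) (h' : Refl Cp' θ)
    (Cp'' : D → Prop) (hm : Cp'' Z) (h₁ : ∀ W, Cp'' W → Cp W) (h₂ : ∀ W, Cp'' W → Cp' W) :
    Refl Cp'' (η ≫ θ) :=
  ⟨hm, fun W hW n => by
    have e : (fun g : Z ⟶ W⟦n⟧ => (η ≫ θ) ≫ g) =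
        (fun g : Y ⟶ W⟦n⟧ => η ≫ g) ∘ fun g : Z ⟶ W⟦n⟧ => θ ≫ g := funext fun g => assoc _ _ _
    rw [e]
    exact (h.bij W (h₁ W hW) n).comp (h'.bij W (h₂ W hW) n)⟩

/-- Reflections are unique. -/
lemma Refl.exists_iso {X Y Y' : D} {η : X ⟶ Y} {η' : X ⟶ Y'} (h : Refl Cp η) (h' : Refl Cp η') :
    Nonempty (Y ≅ Y') := by
  let e := (shiftFunctorZero D ℤ).app Y'
  let e' := (shiftFunctorZero D ℤ).app Y
  obtain ⟨a, ha⟩ := (h.bij Y' h'.mem 0).2 (η' ≫ e.inv)
  obtain ⟨b, hb⟩ := (h'.bij Y h.mem 0).2 (η ≫ e'.inv)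
  dsimp only at ha hb
  refine ⟨⟨a ≫ e.hom, b ≫ e'.hom, ?_, ?_⟩⟩
  · rw [← cancel_mono e'.inv]
    refine h.cancel h.mem ?_
    simp [reassoc_of% ha, hb]
  · rw [← cancel_mono e.inv]
    refine h'.cancel h'.mem ?_
    simp [reassoc_of% hb, ha]

/-- A morphism of distinguished triangles with two reflections has three. -/
lemma Refl.third {T T' : Triangle D} (hT : T ∈ distTriang D) (hT' : T' ∈ distTriang D) (f : T ⟶ T')
    (h₁ : Refl Cp f.hom₁) (h₂ : Refl Cp f.hom₂) (hm : Cp T'.obj₃) : Refl Cp f.hom₃ := by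
  refine ⟨hm, fun Z hZ n => ?_⟩
  have hs := h₁.shift_bij 1 hZ n
  have hs2 := h₂.shift_bij 1 hZ n
  constructor
  · intro g g' hg
    suffices ∀ d : T'.obj₃ ⟶ Z⟦n⟧, f.hom₃ ≫ d = 0 → d = 0 from
      sub_eq_zero.1 (this _ (by rw [Preadditive.comp_sub, sub_eq_zero]; exact hg))
    intro d hd
    obtain ⟨p, hp⟩ := Triangle.yoneda_exact₃ T' hT' d (h₂.cancel hZ (by
      rw [← assoc, ← f.comm₂, assoc, hd, comp_zero, comp_zero]))
    have hp' : T.mor₃ ≫ f.hom₁⟦(1 : ℤ)⟧' ≫ p = 0 := by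
      rw [← assoc, f.comm₃, assoc, ← hp, hd]
    obtain ⟨q, hq⟩ := Triangle.yoneda_exact₃ T.rotate (rot_of_distTriang _ hT)
      (f.hom₁⟦(1 : ℤ)⟧' ≫ p) hp'
    have hq' : f.hom₁⟦(1 : ℤ)⟧' ≫ p = -(T.mor₁⟦(1 : ℤ)⟧') ≫ q :=
      hq.trans (Preadditive.neg_comp _ _)
    obtain ⟨q', rfl⟩ := hs2.2 q
    have hc : f.hom₁⟦(1 : ℤ)⟧' ≫ T'.mor₁⟦(1 : ℤ)⟧' = T.mor₁⟦(1 : ℤ)⟧' ≫ f.hom₂⟦(1 : ℤ)⟧' := by
      rw [← Functor.map_comp, ← Functor.map_comp, f.comm₁]
    have hp2 : p = -(T'.mor₁⟦(1 : ℤ)⟧') ≫ q' := hs.1 (by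
      dsimp only
      rw [hq']
      simp only [Preadditive.comp_neg, ← assoc, hc])
    rw [hp, hp2]
    simp only [Preadditive.comp_neg]
    rw [← assoc, comp_distTriang_mor_zero₃₁ _ hT', zero_comp, neg_zero]
  · intro g
    obtain ⟨g₁, hg₁⟩ := (h₂.bij Z hZ n).2 (T.mor₂ ≫ g)
    dsimp only at hg₁
    obtain ⟨g₂, hg₂⟩ := Triangle.yoneda_exact₂ T' hT' g₁ (h₁.cancel hZ (by
      rw [← assoc, ← f.comm₁, assoc, hg₁, ← assoc, comp_distTriang_mor_zero₁₂ _ hT, zero_comp,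
        comp_zero]))
    obtain ⟨k, hk⟩ := Triangle.yoneda_exact₃ T hT (g - f.hom₃ ≫ g₂) (by
      rw [Preadditive.comp_sub, ← assoc, f.comm₂, assoc, ← hg₂, hg₁, sub_self])
    obtain ⟨k', rfl⟩ := hs.2 k
    refine ⟨g₂ + T'.mor₃ ≫ k', ?_⟩
    dsimp only at hk ⊢
    rw [Preadditive.comp_add, ← assoc f.hom₃, ← f.comm₃, assoc, ← hk]
    abel

end generic

variable {A : Type u} [CommRing A]

/-- `K` has no cohomology in degrees `< a`. -/
def GE (K : Dual.D A) (a : ℤ) : Prop := ∀ i < a, Subsingleton (Dual.HD A K i)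

/-- `K` has no cohomology in degrees `> b`. -/
def LE (K : Dual.D A) (b : ℤ) : Prop := ∀ i, b < i → Subsingleton (Dual.HD A K i)

instance projective_self : Projective (ModuleCat.of A A) :=
  ModuleCat.projective_of_free (ι := PUnit.{u + 1}) (Module.Basis.singleton PUnit.{u + 1} A)

lemma isSeparating_self : (ObjectProperty.singleton (ModuleCat.of A A)).IsSeparating := by
  intro M N f g h
  refine ModuleCat.hom_ext (LinearMap.ext fun x => ?_)
  have h' := congrArg (fun (k : ModuleCat.of A A ⟶ N) => k.hom (1 : A))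
    (h (ModuleCat.of A A) ((ObjectProperty.singleton_iff _ _).2 rfl)
      (ModuleCat.ofHom (LinearMap.toSpanSingleton A M x)))
  simpa using h'

instance hasProducts : HasLimitsOfShape (Discrete ℕ) (Dual.D A) :=
  TriCat.hasProductsOfShape_derivedCategory fun L => by
    obtain ⟨I, i, hI, hi, -, -⟩ := TriCat.exists_kInjective_resolution'.{u} L
    exact ⟨I, i, hI, hi⟩

instance hasProduct (X : ℕ → Dual.D A) : HasProduct X := inferInstance

lemma subsingleton_shift_iff (W X : Dual.D A) :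
    (∀ n : ℤ, Subsingleton (W ⟶ X⟦n⟧)) ↔ ∀ n : ℤ, Subsingleton (W⟦n⟧ ⟶ X) := by
  constructor <;> intro h n
  · have := h (-n)
    refine ⟨fun a b => (shiftFunctor (Dual.D A) (-n)).map_injective ?_⟩
    rw [← cancel_epi ((shiftFunctorCompIsoId (Dual.D A) n (-n) (by omega)).app W).inv]
    exact this.elim _ _
  · have := h (-n)
    refine ⟨fun a b => (shiftFunctor (Dual.D A) (-n)).map_injective ?_⟩
    rw [← cancel_mono ((shiftFunctorCompIsoId (Dual.D A) n (-n) (by omega)).app X).hom]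
    exact this.elim _ _

lemma subsingleton_HD_iff (K : Dual.D A) (i : ℤ) :
    Subsingleton (Dual.HD A K i) ↔
      Subsingleton ((DerivedCategory.singleFunctor (ModuleCat.{u} A) i).obj (ModuleCat.of A A) ⟶ K) := by
  let H := (DerivedCategory.homologyFunctor (ModuleCat.{u} A) i).obj K
  let b := Equiv.ofBijective _ (KFlatLib.bijective_psiC_of_projective (P := ModuleCat.of A A) i K)
  refine ⟨fun h => @Equiv.subsingleton _ _ b ⟨fun f g => ModuleCat.hom_ext
    (LinearMap.ext fun x => @Subsingleton.elim _ h _ _)⟩, fun h => ⟨fun x y => ?_⟩⟩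
  have := @Subsingleton.elim _ (@Equiv.subsingleton _ _ b.symm h)
    (ModuleCat.ofHom (LinearMap.toSpanSingleton A H x) : ModuleCat.of A A ⟶ H)
    (ModuleCat.ofHom (LinearMap.toSpanSingleton A H y))
  have h' := congrArg (fun k : ModuleCat.of A A ⟶ H => k.hom (1 : A)) this
  exact ((one_smul A x).symm.trans h').trans (one_smul A y)

lemma isZ {K : Dual.D A} {i : ℤ} (h : Subsingleton (Dual.HD A K i)) :
    IsZero ((DerivedCategory.homologyFunctor (ModuleCat.{u} A) i).obj K) :=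
  @ModuleCat.isZero_of_subsingleton _ _ _ h

lemma GE.prod {K : Dual.D A} {a : ℤ} (h : GE K a) : GE (∏ᶜ fun _ : ℕ => K) a := fun i hi =>
  (subsingleton_HD_iff _ i).2 ⟨fun f g => Pi.hom_ext _ _ fun k =>
    ((subsingleton_HD_iff _ i).1 (h i hi)).elim _ _⟩

lemma isDerivedComplete_prod (g : A) (K : Dual.D A)
    (h : ∀ n : ℤ, Subsingleton (Dual.inD A (Localization.Away g) ⟶ K⟦n⟧)) :
    ∀ n : ℤ, Subsingleton (Dual.inD A (Localization.Away g) ⟶ (∏ᶜ fun _ : ℕ => K)⟦n⟧) := by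
  rw [subsingleton_shift_iff] at h ⊢
  exact fun n => ⟨fun a b => Pi.hom_ext _ _ fun k => (h n).elim _ _⟩

/-- Orthogonality to `A_g`. -/
def Cg (g : A) (K : Dual.D A) : Prop := ∀ n : ℤ, Subsingleton (Dual.inD A (Localization.Away g) ⟶ K⟦n⟧)

lemma subsingleton_third {T : Triangle (Dual.D A)} (hT : T ∈ distTriang _) {W : Dual.D A}
    (h₁ : ∀ n : ℤ, Subsingleton (W ⟶ T.obj₁⟦n⟧)) (h₂ : ∀ n : ℤ, Subsingleton (W ⟶ T.obj₂⟦n⟧)) :
    ∀ n : ℤ, Subsingleton (W ⟶ T.obj₃⟦n⟧) := by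
  rw [subsingleton_shift_iff] at h₁ h₂ ⊢
  intro n
  refine subsingleton_of_forall_eq 0 fun φ => ?_
  obtain ⟨p, hp⟩ := Triangle.coyoneda_exact₃ _ hT φ (by
    have hs : Subsingleton (W⟦n⟧ ⟶ T.obj₁⟦(1 : ℤ)⟧) := by
      refine ⟨fun a b => (shiftFunctor (Dual.D A) (-1 : ℤ)).map_injective ?_⟩
      rw [← cancel_epi ((shiftFunctorAdd' (Dual.D A) n (-1) (n - 1) (by omega)).app W).hom,
        ← cancel_mono ((shiftFunctorCompIsoId (Dual.D A) 1 (-1) (by omega)).app T.obj₁).hom]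
      exact (h₁ (n - 1)).elim _ _
    exact hs.elim _ _)
  rw [hp, (h₂ n).elim p 0, zero_comp]

lemma isIso_smul_inD_away (f : A) : RlimSmul.Loc f (Dual.inD A (Localization.Away f)) := by
  have : IsIso (f • 𝟙 (ModuleCat.of A (Localization.Away f))) := by
    refine (ConcreteCategory.isIso_iff_bijective _).2 ?_
    exact (Module.End.isUnit_iff _).1 (IsLocalizedModule.map_units
      (S := Submonoid.powers f) (Algebra.linearMap A (Localization.Away f)) ⟨f, Submonoid.mem_powers f⟩)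
  show IsIso (f • 𝟙 ((DerivedCategory.singleFunctor (ModuleCat.{u} A) 0).obj (ModuleCat.of A (Localization.Away f))))
  rw [← CategoryTheory.Functor.map_id, ← Functor.map_smul]
  infer_instance

lemma cg_iff_tbOn (f : A) (K : Dual.D A) :
    Cg f K ↔ TelOrth.TBOn (ModuleCat.of A A) (f • 𝟙 (ModuleCat.of A A)) K :=
  DRingTel.subsingleton_iff f K

lemma hom_eq_zero_of_loc {f : A} {T Z : Dual.D A} (hT : RlimSmul.Loc f T) (hZ : Cg f Z) (x : T ⟶ Z) :
    x = 0 := by
  have htb := TelLocal.tb_sc_of_separating f Z _ (isSeparating_self (A := A)) (fun P hP => by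
    rw [ObjectProperty.singleton_iff] at hP
    subst hP
    exact (cg_iff_tbOn f Z).1 hZ) T
  let x' : ℕ → (T ⟶ Z) := fun k => Nat.rec (motive := fun _ => T ⟶ Z) x
    (fun _ z => RlimSmul.inv' f hT ≫ z) k
  exact htb.eq_zero x' (fun k => (RlimSmul.smul_inv' f hT (x' k)).symm) 0

/-- One-element completion with its amplitude. -/
theorem exists_refl_one (f : A) (X : Dual.D A) :
    ∃ (Y : Dual.D A) (η : X ⟶ Y), Refl (Cg f) η ∧ (∀ a, GE X a → GE Y (a - 1)) ∧
      (∀ g, Cg g X → Cg g Y) ∧ ∃ (W : Dual.D A) (j : Y ⟶ W) (d : W ⟶ X⟦(1 : ℤ)⟧),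
        Triangle.mk η j d ∈ distTriang _ ∧ RlimSmul.Loc f W := by
  obtain ⟨F, a, c, hF⟩ := distinguished_cocone_triangle₁ (RlimSmul.δ f X)
  let b : F ⟶ X := a ≫ Pi.π (fun _ : ℕ => X) 0
  obtain ⟨Y, η, δY, hT⟩ := distinguished_cocone_triangle b
  have hbij : ∀ {W : Dual.D A}, RlimSmul.Loc f W → Function.Bijective fun g : W ⟶ F => g ≫ b :=
    fun hW => RlimSmul.bijective_comp_π f hF hW
  have hloc := RlimSmul.loc_fiber f hF
  have hY : Cg f Y := by
    unfold Cg
    rw [subsingleton_shift_iff]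
    intro n
    have hW := (isIso_smul_inD_away f).shift f n
    refine subsingleton_of_forall_eq 0 fun x => ?_
    let e := (shiftFunctorCompIsoId (Dual.D A) (-1) 1 (by omega)).app
      ((Dual.inD A (Localization.Away f))⟦n⟧)
    obtain ⟨w, hw⟩ := (shiftFunctor (Dual.D A) (1 : ℤ)).map_surjective (e.hom ≫ x ≫ δY)
    have hw0 : w = 0 := by
      refine (hbij (hW.shift f (-1))).1 ?_
      dsimp only
      rw [zero_comp]
      apply (shiftFunctor (Dual.D A) (1 : ℤ)).map_injective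
      rw [Functor.map_comp, hw, Functor.map_zero, assoc, assoc]
      refine (congrArg (fun k => e.hom ≫ x ≫ k) (comp_distTriang_mor_zero₃₁ _ hT)).trans ?_
      exact (congrArg (e.hom ≫ ·) (comp_zero (f := x))).trans comp_zero
    have hx : x ≫ δY = 0 := by
      rw [← cancel_epi e.hom, ← hw, hw0, Functor.map_zero, comp_zero]
    obtain ⟨h', hh'⟩ := Triangle.coyoneda_exact₃ _ hT x hx
    obtain ⟨h'', rfl⟩ := (hbij hW).2 h'
    refine hh'.trans ?_
    exact (assoc _ _ _).trans ((congrArg (h'' ≫ ·) (comp_distTriang_mor_zero₁₂ _ hT)).trans comp_zero)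
  refine ⟨Y, η, ⟨hY, fun Z hZ n => ?_⟩, fun a' ha i hi => ?_, fun g hg => ?_,
    F⟦(1 : ℤ)⟧, δY, _, rot_of_distTriang _ hT, hloc.shift f 1⟩
  · have hzero : ∀ (m : ℤ) (x : F⟦m⟧ ⟶ Z⟦n⟧), x = 0 := fun m x => by
      refine hom_eq_zero_of_loc (hloc.shift f m) ?_ x
      intro k
      have := hZ (n + k)
      exact ⟨fun p q => (cancel_mono ((shiftFunctorAdd (Dual.D A) n k).app Z).inv).1
        (Subsingleton.elim _ _)⟩
    constructor
    · intro y y' hy
      refine sub_eq_zero.1 ?_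
      obtain ⟨q, hq⟩ := Triangle.yoneda_exact₃ _ hT (y - y') (by
        show η ≫ (y - y') = 0
        rw [Preadditive.comp_sub, sub_eq_zero]; exact hy)
      exact hq.trans ((congrArg (fun k => δY ≫ k) (hzero 1 q)).trans comp_zero)
    · intro y
      obtain ⟨q, hq⟩ := Triangle.yoneda_exact₂ _ hT y (by
        show b ≫ y = 0
        rw [← cancel_epi ((shiftFunctorZero (Dual.D A) ℤ).app F).hom, comp_zero]
        exact hzero 0 _)
      exact ⟨q, hq.symm⟩
  · have hP := ha.prod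
    have hFi : ∀ j < a', Subsingleton (Dual.HD A F j) := fun j hj => by
      have h1 := DerivedCategory.HomologySequence.exact₂ _ hF j
      have hz : IsZero ((DerivedCategory.homologyFunctor (ModuleCat.{u} A) j).obj F) := by
        have hd := (DerivedCategory.HomologySequence.mono_homologyMap_mor₁_iff _ hF (j - 1) j).2
          ((isZ (hP (j - 1) (by omega))).eq_of_src _ _)
        exact @IsZero.of_mono _ _ _ _ _ ((DerivedCategory.homologyFunctor (ModuleCat.{u} A) j).map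
          (Triangle.mk a (RlimSmul.δ f X) c).mor₁) hd (isZ (hP j hj))
      exact ModuleCat.subsingleton_of_isZero hz
    refine ModuleCat.subsingleton_of_isZero ?_
    have h3 := DerivedCategory.HomologySequence.exact₃ _ hT i (i + 1)
    refine h3.isZero_of_both_zeros ?_ ?_
    · exact (isZ (ha i (by omega))).eq_of_src _ _
    · exact (isZ (hFi (i + 1) (by omega))).eq_of_tgt _ _
  · refine subsingleton_third hT ?_ hg
    have hp := isDerivedComplete_prod g X hg
    have h1 := subsingleton_third (rot_of_distTriang _ hF) hp hp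
    intro m
    have := h1 (m - 1)
    refine ⟨fun p q => (cancel_mono
      ((shiftFunctorAdd' (Dual.D A) 1 (m - 1) m (by omega)).app F).hom).1 ?_⟩
    exact this.elim _ _

/-- Completion along a list. -/
theorem exists_refl (l : List A) (X : Dual.D A) :
    ∃ (Y : Dual.D A) (η : X ⟶ Y), Refl (fun Z => ∀ f ∈ l, Cg f Z) η ∧
      ∀ a, GE X a → GE Y (a - l.length) := by
  induction l with
  | nil =>
    exact ⟨X, 𝟙 X, ⟨fun f hf => absurd hf List.not_mem_nil, fun Z _ n =>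
      ⟨fun p q h => by simpa using h, fun q => ⟨q, id_comp q⟩⟩⟩, fun a ha => by simpa using ha⟩
  | cons f l ih =>
    obtain ⟨Y, η, hη, hY⟩ := ih
    obtain ⟨Z, θ, hθ, hZ, hg, -⟩ := exists_refl_one f Y
    refine ⟨Z, η ≫ θ, Refl.comp (Cg f) hη hθ _ ?_ (fun W hW g hg' => hW g (List.mem_cons_of_mem _ hg'))
      (fun W hW => hW f List.mem_cons_self), fun a ha i hi => hZ _ (hY a ha) i ?_⟩
    · intro g hg'
      rcases List.mem_cons.1 hg' with rfl | hg'
      · exact hθ.mem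
      · exact hg g (hη.mem g hg')
    · simp only [List.length_cons] at hi
      push_cast at hi
      omega

end Groth.Agent.H9Misc.DRingCompl
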