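import Groth.Agent.H9Misc.DRingNakayama
import Groth.Agent.H9Misc.DRingCompl
import Groth.Agent.KFlatLib.Bounded

/-! Derived Nakayama in positive degrees. -/

set_option linter.style.haveILetI false

universe u

open CategoryTheory CategoryTheory.Category CategoryTheory.Limits MonoidalCategory
open CategoryTheory.Pretriangulated

attribute [local instance] HasDerivedCategory.standard

namespace Groth.Agent.H9Misc.DRingRightExact

open Groth.Agent.H9Misc.DRingNakayama

variable {A : Type u} [CommRing A]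

lemma exists_bounded_rep (K₀ : CochainComplex (ModuleCat.{u} A) ℤ) (b : ℤ)
    (h : ∀ m, b < m → IsZero (K₀.homology m)) :
    ∃ (P : CochainComplex (ModuleCat.{u} A) ℤ) (ψ : P ⟶ K₀), QuasiIso ψ ∧ DRingLTensor.IsKF P ∧
      ∀ m, b < m → IsZero (P.X m) := by
  obtain ⟨P, ψ, hψ, hflat, hz⟩ := (KFlatLib.ringCover A).exists_bounded_resolution K₀ b h
  haveI : P.IsStrictlyLE b := (CochainComplex.isStrictlyLE_iff _ _).2 hz
  exact ⟨P, ψ, hψ, KFlatLib.kFlat_of_isStrictlyLE b fun n => KFlatLib.flatObj_ringCover _ (hflat n), hz⟩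

lemma isZero_homology_tensC (N : ModuleCat.{u} A) {P : CochainComplex (ModuleCat.{u} A) ℤ}
    (hP : DRingLTensor.IsKF P) (b : ℤ) (h : ∀ m, b < m → IsZero (P.homology m)) (i : ℤ) (hi : b < i) :
    IsZero (((DRingLTensor.tensC N).obj P).homology i) := by
  obtain ⟨Q, ψ, hψ, hQ, hz⟩ := exists_bounded_rep P b h
  haveI := hψ
  haveI := DRingLTensor.quasiIso_tensC N ψ hQ hP
  haveI : IsIso (HomologicalComplex.homologyMap ((DRingLTensor.tensC N).map ψ) i) :=
    (quasiIsoAt_iff_isIso_homologyMap _ i).1 (QuasiIso.quasiIsoAt i)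
  exact (ShortComplex.isZero_homology_of_isZero_X₂ _ ((tensorRight N).map_isZero (hz i hi))).of_iso
    (asIso (HomologicalComplex.homologyMap ((DRingLTensor.tensC N).map ψ) i)).symm

variable {B : Type u} [CommRing B] (φ : A →+* B)

lemma exactAt_iso_map {C D : Type*} [Category C] [Category D] [Abelian C] [Abelian D]
    {F G : C ⥤ D} [F.Additive] [G.Additive] (e : F ≅ G) (K : CochainComplex C ℤ) (i : ℤ)
    (h : ((F.mapHomologicalComplex (ComplexShape.up ℤ)).obj K).ExactAt i) :
    ((G.mapHomologicalComplex (ComplexShape.up ℤ)).obj K).ExactAt i :=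
  h.of_iso ((NatIso.mapHomologicalComplex e (ComplexShape.up ℤ)).app K)

/-- If `P ⊗ B` lives in degrees `≤ b` then so does `P ⊗ N` for every `B`-module `N`. -/
lemma exactAt_tensC_restrict {P : CochainComplex (ModuleCat.{u} A) ℤ} (hP : DRingLTensor.IsKF P) (b : ℤ)
    (h : ∀ i, b < i → ((DRingLTensor.tensC ((ModuleCat.restrictScalars φ).obj (ModuleCat.of B B))).obj P).ExactAt i)
    (N : ModuleCat.{u} B) (i : ℤ) (hi : b < i) :
    ((DRingLTensor.tensC ((ModuleCat.restrictScalars φ).obj N)).obj P).ExactAt i := by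
  have hP' : DRingLTensor.IsKF ((DRingLTensor.extC' φ).obj P) := KFlatLib.kFlat_extendScalars φ hP
  have ha : ∀ m, b < m → IsZero (((DRingLTensor.extC' φ).obj P).homology m) := fun m hm => by
    have h' := exactAt_iso_map ((KFlatLib.curriedTensorFlipIso.app
        ((ModuleCat.restrictScalars φ).obj (ModuleCat.of B B))) ≪≫ (KFlatLib.extendRestrictIso φ).symm)
      P m (h m hm)
    exact (HomologicalComplex.exactAt_iff_isZero_homology _ m).1
      ((ShortComplex.exact_map_iff_of_faithful _ (ModuleCat.restrictScalars φ)).1 h')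
  have h₂ := (HomologicalComplex.exactAt_iff_isZero_homology _ i).2 (isZero_homology_tensC N hP' b ha i hi)
  have h₃ : (((ModuleCat.extendScalars φ ⋙ tensorRight N ⋙
      ModuleCat.restrictScalars φ).mapHomologicalComplex (ComplexShape.up ℤ)).obj P).ExactAt i :=
    h₂.map (ModuleCat.restrictScalars φ)
  refine exactAt_iso_map ?_ P i h₃
  exact Functor.isoWhiskerLeft (ModuleCat.extendScalars φ)
      (Functor.isoWhiskerRight (BraidedCategory.tensorLeftIsoTensorRight N).symm _) ≪≫
    ((KFlatLib.extTIso φ).app N) ≪≫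
    BraidedCategory.tensorLeftIsoTensorRight _

lemma exactAt_G (I : Ideal A) {P : CochainComplex (ModuleCat.{u} A) ℤ} (hK : DRingLTensor.IsKF P)
    (h : ∀ i, 0 < i → ((G P).obj (ModuleCat.of A (A ⧸ I))).ExactAt i) (N : ModuleCat.{u} A)
    (hN : ∀ (f : A), f ∈ I → ∀ x : N, f • x = 0) (i : ℤ) (hi : 0 < i) : ((G P).obj N).ExactAt i := by
  let φ := algebraMap A (A ⧸ I)
  have hts : Module.IsTorsionBySet A N (I : Set A) := fun x a => hN a.1 a.2 x
  letI : Module (A ⧸ I) N := hts.module
  haveI : IsScalarTower A (A ⧸ I) N := hts.isScalarTower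
  let N' : ModuleCat.{u} (A ⧸ I) := ModuleCat.of (A ⧸ I) N
  let eN : (ModuleCat.restrictScalars φ).obj N' ≅ N := LinearEquiv.toModuleIso
    (m₁ := ((ModuleCat.restrictScalars φ).obj N').isModule) (m₂ := N.isModule)
    { toFun := fun x => x, invFun := fun x => x, map_add' := fun _ _ => rfl
      map_smul' := fun r x => algebraMap_smul (A ⧸ I) r (show N from x)
      left_inv := fun _ => rfl, right_inv := fun _ => rfl }
  let eB : (ModuleCat.restrictScalars φ).obj (ModuleCat.of (A ⧸ I) (A ⧸ I)) ≅ ModuleCat.of A (A ⧸ I) :=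
    LinearEquiv.toModuleIso
    (m₁ := ((ModuleCat.restrictScalars φ).obj (ModuleCat.of (A ⧸ I) (A ⧸ I))).isModule)
    (m₂ := (ModuleCat.of A (A ⧸ I)).isModule)
    { toFun := fun x => x, invFun := fun x => x, map_add' := fun _ _ => rfl
      map_smul' := fun r x => algebraMap_smul (A ⧸ I) r (show A ⧸ I from x)
      left_inv := fun _ => rfl, right_inv := fun _ => rfl }
  exact (exactAt_tensC_restrict φ hK 0 (fun j hj => (h j hj).of_iso ((G P).mapIso eB.symm)) N' i hi).of_iso
    ((G P).mapIso eN)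

/-- No maps to `X⟦n⟧` for `n ≤ 0`. -/
def LOrth0 (X Y : Dual.D A) : Prop := ∀ n : ℤ, n ≤ 0 → Subsingleton (Y ⟶ X⟦n⟧)

lemma lOrth0_shift {X Y : Dual.D A} (h : LOrth0 X Y) {n : ℤ} (hn : n ≤ 1) :
    Subsingleton (Y⟦(1 : ℤ)⟧ ⟶ X⟦n⟧) := by
  have := h (n + -1) (by omega)
  refine ⟨fun p q => (shiftFunctor (Dual.D A) (-1 : ℤ)).map_injective ?_⟩
  rw [← cancel_epi ((shiftFunctorCompIsoId (Dual.D A) 1 (-1) (add_neg_cancel 1)).app Y).inv,
    ← cancel_mono ((shiftFunctorAdd (Dual.D A) n (-1)).app X).inv]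
  exact this.elim _ _

variable {P : CochainComplex (ModuleCat.{u} A) ℤ}

lemma lOrth0_GD (I : Ideal A) (hK : DRingLTensor.IsKF P) (hflat : ∀ n, Module.Flat A (P.X n))
    (h : ∀ i, 0 < i → ((G P).obj (ModuleCat.of A (A ⧸ I))).ExactAt i) :
    ∀ (l₁ l₂ : List A), I ≤ Ideal.ofList (l₁ ++ l₂) → ∀ (N : ModuleCat.{u} A) (X : Dual.D A),
      (∀ f ∈ l₂, ∀ x : N, f • x = 0) → Tors l₁ X → X.IsGE 1 → LOrth0 X ((GD P).obj N) := by
  intro l₁
  induction l₁ with
  | nil =>
    intro l₂ hI N X hN _ hX n hn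
    haveI : ((GD P).obj N).IsLE 0 := (DerivedCategory.isLE_iff _ _).2 fun i hi => by
      refine ((HomologicalComplex.exactAt_iff_isZero_homology _ i).1
        (exactAt_G I hK h N (fun f hf x => ?_) i hi)).of_iso
        ((DerivedCategory.homologyFunctorFactors (ModuleCat.{u} A) i).app _)
      refine Submodule.mem_annihilator.1 (?_ : f ∈ (⊤ : Submodule A N).annihilator) x trivial
      refine (Ideal.span_le.2 fun g hg => ?_) (hI hf)
      exact Submodule.mem_annihilator.2 fun y _ => hN g hg y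
    haveI := hX
    haveI : (X⟦n⟧).IsGE (1 - n) := DerivedCategory.TStructure.t.isGE_shift X 1 n (1 - n) (by omega)
    exact subsingleton_of_forall_eq 0 fun g =>
      DerivedCategory.TStructure.t.zero g 0 (1 - n) (by omega)
  | cons f l₁ ih =>
    intro l₂ hI N X hN hX hGE
    have hI' : I ≤ Ideal.ofList (l₁ ++ f :: l₂) := hI.trans (le_of_eq (congrArg Ideal.span (by
      ext; simp only [List.mem_append, List.mem_cons, Set.mem_ofPred_eq]; tauto)))
    have hX' : Tors l₁ X := fun g hg => hX g (List.mem_cons_of_mem _ hg)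
    let m : N →ₗ[A] N := f • LinearMap.id
    let R := LinearMap.range m
    let S₁ : ShortComplex (ModuleCat.{u} A) :=
      ShortComplex.mk (ModuleCat.ofHom (LinearMap.ker m).subtype) (ModuleCat.ofHom m.rangeRestrict)
        (ModuleCat.hom_ext (LinearMap.ext fun x => Subtype.ext x.2))
    let S₂ : ShortComplex (ModuleCat.{u} A) :=
      ShortComplex.mk (ModuleCat.ofHom R.subtype) (ModuleCat.ofHom R.mkQ)
        (ModuleCat.hom_ext (LinearMap.ext fun x => (Submodule.Quotient.mk_eq_zero _).2 x.2))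
    have h₁ : S₁.ShortExact :=
      { exact := (ShortComplex.ShortExact.moduleCat_exact_iff_function_exact _).2 fun y =>
          ⟨fun hy => ⟨⟨y, congrArg Subtype.val hy⟩, rfl⟩, by rintro ⟨x, rfl⟩; exact Subtype.ext x.2⟩
        mono_f := (ModuleCat.mono_iff_injective _).2 Subtype.val_injective
        epi_g := (ModuleCat.epi_iff_surjective _).2 m.surjective_rangeRestrict }
    have h₂ : S₂.ShortExact :=
      { exact := (ShortComplex.ShortExact.moduleCat_exact_iff_function_exact _).2 fun y =>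
          ⟨fun hy => ⟨⟨y, (Submodule.Quotient.mk_eq_zero _).1 hy⟩, rfl⟩, by
            rintro ⟨x, rfl⟩; exact (Submodule.Quotient.mk_eq_zero _).2 x.2⟩
        mono_f := (ModuleCat.mono_iff_injective _).2 Subtype.val_injective
        epi_g := (ModuleCat.epi_iff_surjective _).2 R.mkQ_surjective }
    have o₁ : LOrth0 X ((GD P).obj S₁.X₁) := ih (f :: l₂) hI' _ _ (fun g hg x => by
      rcases List.mem_cons.1 hg with rfl | hg
      · exact Subtype.ext x.2
      · exact Subtype.ext (hN g hg x.1)) hX' hGE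
    have o₃ : LOrth0 X ((GD P).obj S₂.X₃) := ih (f :: l₂) hI' _ _ (fun g hg x => by
      obtain ⟨x, rfl⟩ := R.mkQ_surjective x
      change g • Submodule.Quotient.mk x = (0 : N ⧸ R)
      rw [← Submodule.Quotient.mk_smul, Submodule.Quotient.mk_eq_zero]
      rcases List.mem_cons.1 hg with rfl | hg
      · exact ⟨x, rfl⟩
      · rw [hN g hg x]; exact R.zero_mem) hX' hGE
    have hT₁ := DerivedCategory.triangleOfSES_distinguished (shortExact_map P hflat h₁)
    have hT₂ := DerivedCategory.triangleOfSES_distinguished (shortExact_map P hflat h₂)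
    have key : ∀ {n : ℤ}, n ≤ 0 → ∀ (g : (GD P).obj N ⟶ X⟦n⟧), f • g = 0 → g = 0 := by
      intro n hn g hg
      obtain ⟨g', rfl⟩ : ∃ g', g = (DerivedCategory.triangleOfSES (shortExact_map P hflat h₂)).mor₂ ≫ g' := by
        refine Triangle.yoneda_exact₂ _ hT₂ g ?_
        obtain ⟨q, hq⟩ := Triangle.yoneda_exact₃ _ hT₁
          ((DerivedCategory.triangleOfSES (shortExact_map P hflat h₂)).mor₁ ≫ g) (by
            show (GD P).map S₁.g ≫ (GD P).map S₂.f ≫ g = 0
            rw [← assoc, ← (GD P).map_comp]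
            have hm : S₁.g ≫ S₂.f = f • 𝟙 N := rfl
            rw [hm, Functor.map_smul, CategoryTheory.Functor.map_id, Linear.smul_comp, id_comp]
            exact hg)
        refine hq.trans ?_
        have hq0 : q = 0 := (lOrth0_shift o₁ (n := n) (by omega)).elim _ _
        rw [hq0]
        exact comp_zero
      rw [(o₃ n hn).elim g' 0]
      exact comp_zero
    intro n hn
    obtain ⟨k, hk⟩ := hX f List.mem_cons_self
    refine subsingleton_of_forall_eq 0 fun g => ?_
    have hg : f ^ k • g = 0 := smul_hom_eq_zero (smul_shift_eq_zero hk n) g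
    clear hk
    induction k with
    | zero => simpa using hg
    | succ k ihk =>
      refine ihk (key hn _ ?_)
      rw [smul_smul, ← pow_succ']
      exact hg

/-- Descent. -/
lemma le_zero_of_lOrth0 (I : Ideal A) (l : List A) (hl : ∀ f ∈ l, f ∈ I) :
    ∀ (l₁ l₂ : List A) (Y : Dual.D A), (∀ f, f ∈ l ↔ f ∈ l₁ ∨ f ∈ l₂) → DRing.IsDerivedComplete I Y →
      Tors l₂ Y → (∀ X : Dual.D A, Tors l X → X.IsGE 1 → LOrth0 X Y) → DRingCompl.LE Y 0 := by
  intro l₁
  induction l₁ with
  | nil =>
    intro l₂ Y hmem _ hY ho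
    obtain ⟨P, T, hP, hT', a, g, d, hT⟩ := DerivedCategory.TStructure.t.exists_triangle Y 0 1 rfl
    haveI : T.IsGE 1 := ⟨hT'⟩
    haveI : P.IsLE 0 := ⟨hP⟩
    have hTT : Tors l T := by
      intro f hf
      obtain ⟨k, hk⟩ := hY f ((hmem f).1 hf |>.resolve_left List.not_mem_nil)
      refine ⟨k, ?_⟩
      obtain ⟨q, hq⟩ := Triangle.yoneda_exact₃ _ hT (f ^ k • 𝟙 T) (by
        show g ≫ (f ^ k • 𝟙 T) = 0
        rw [Linear.comp_smul, comp_id, ← id_comp g, ← Linear.smul_comp, hk, zero_comp])
      haveI : ((Triangle.mk a g d).obj₁⟦(1 : ℤ)⟧).IsLE (-1) := DerivedCategory.TStructure.t.isLE_shift P 0 1 (-1) (by omega)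
      exact hq.trans ((congrArg (d ≫ ·) (DerivedCategory.TStructure.t.zero q (-1) 1 (by omega))).trans
        comp_zero)
    have := ho T hTT inferInstance 0 le_rfl
    have hg : g = 0 := (cancel_mono ((shiftFunctorZero (Dual.D A) ℤ).app T).inv).1 (this.elim _ _)
    intro i hi
    refine ModuleCat.subsingleton_of_isZero ?_
    haveI : Mono ((DerivedCategory.homologyFunctor (ModuleCat.{u} A) i).map g) :=
      (DerivedCategory.HomologySequence.mono_homologyMap_mor₂_iff _ hT i).2
        ((DerivedCategory.isZero_of_isLE P 0 i hi).eq_of_src _ _)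
    rw [IsZero.iff_id_eq_zero, ← cancel_mono ((DerivedCategory.homologyFunctor (ModuleCat.{u} A) i).map g)]
    simp [hg]
  | cons f l₁ ih =>
    intro l₂ Y hmem hc hY ho
    obtain ⟨C, j, δ, hT⟩ := distinguished_cocone_triangle (f • 𝟙 Y)
    have hfj : f • j = 0 := by
      rw [← id_comp j, ← Linear.smul_comp]
      exact comp_distTriang_mor_zero₁₂ _ hT
    have hfδ : f • δ = 0 := by
      have hsh : (shiftFunctor (Dual.D A) (1 : ℤ)).map (f • 𝟙 Y) = f • 𝟙 (Y⟦(1 : ℤ)⟧) := by
        rw [Functor.map_smul, CategoryTheory.Functor.map_id]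
      have h1 : δ ≫ (shiftFunctor (Dual.D A) (1 : ℤ)).map (f • 𝟙 Y) = 0 :=
        comp_distTriang_mor_zero₃₁ _ hT
      rwa [hsh, Linear.comp_smul, comp_id] at h1
    have hC : Tors (f :: l₂) C := by
      intro g hg
      rcases List.mem_cons.1 hg with rfl | hg
      · exact ⟨2, cone_killed hT hfj hfδ⟩
      · obtain ⟨k, hk⟩ := hY g hg
        refine ⟨k * 2, ?_⟩
        rw [pow_mul]
        refine cone_killed hT ?_ (smul_hom_eq_zero (smul_shift_eq_zero hk 1) δ)
        rw [← id_comp j, ← Linear.smul_comp, hk, zero_comp]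
    have hCle : DRingCompl.LE C 0 := by
      refine ih (f :: l₂) C (fun g => by rw [hmem g]; simp only [List.mem_cons]; tauto)
        (isDerivedComplete_obj₃ I _ hT hc hc) hC fun X hX hX' n hn => ?_
      refine subsingleton_of_forall_eq 0 fun g => ?_
      obtain ⟨g', hg'⟩ := Triangle.yoneda_exact₃ _ hT g ((ho X hX hX' n hn).elim _ _)
      exact hg'.trans ((congrArg (fun q => _ ≫ q) ((lOrth0_shift (ho X hX hX') (n := n)
        (by omega)).elim g' 0)).trans comp_zero)
    intro i hi
    let H := (DerivedCategory.homologyFunctor (ModuleCat.{u} A) i).obj Y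
    have htb : TBMod.TBm (Dual.HD A Y i) f :=
      (DRingTel.isDerivedComplete_iff I Y).1 hc f (hl f ((hmem f).2 (Or.inl List.mem_cons_self))) i
    have hepi : Epi ((DerivedCategory.homologyFunctor (ModuleCat.{u} A) i).map (f • 𝟙 Y)) :=
      (DerivedCategory.HomologySequence.epi_homologyMap_mor₁_iff _ hT i).2
        ((DRingCompl.isZ (hCle i hi)).eq_of_tgt _ _)
    rw [Functor.map_smul, CategoryTheory.Functor.map_id] at hepi
    have hsurj : Function.Surjective fun x : H => f • x := (ModuleCat.epi_iff_surjective _).1 hepi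
    obtain ⟨e, he⟩ := hsurj.hasRightInverse
    exact subsingleton_of_forall_eq 0 fun x => by
      have hx := htb.eq_zero (fun k => e^[k] x) (fun k => by
        rw [Function.iterate_succ_apply']
        exact (he _).symm) 0
      simpa using hx

/-- Positive cohomology of a derived complete object is detected modulo `I`. -/
theorem le_zero_iff (I : Ideal A) (hI : I.FG) [DRing.HasLTensor A (ModuleCat.of A (A ⧸ I))]
    (K : Dual.D A) (hc : DRing.IsDerivedComplete I K) :
    DRingCompl.LE K 0 ↔ DRingCompl.LE ((DRing.LTensor A (ModuleCat.of A (A ⧸ I))).obj K) 0 := by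
  obtain ⟨P, hP, hflat, ⟨e⟩⟩ := DRingLTensor.exists_rep K
  obtain ⟨eT⟩ := DRingLTensor.nonempty_ltensor_iso (ModuleCat.of A (A ⧸ I)) hP
  let eM := (DRing.LTensor A (ModuleCat.of A (A ⧸ I))).mapIso e.symm ≪≫ eT
  constructor
  · intro h i hi
    refine ModuleCat.subsingleton_of_isZero (IsZero.of_iso ?_
      ((DerivedCategory.homologyFunctor (ModuleCat.{u} A) i).mapIso eM ≪≫
        (DerivedCategory.homologyFunctorFactors (ModuleCat.{u} A) i).app _))
    exact isZero_homology_tensC _ hP 0 (fun m hm => (DRingCompl.isZ (h m hm)).of_iso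
      (((DerivedCategory.homologyFunctorFactors (ModuleCat.{u} A) m).app _).symm ≪≫
        (DerivedCategory.homologyFunctor (ModuleCat.{u} A) m).mapIso e)) i hi
  · intro h
    have hex : ∀ i, 0 < i → ((G P).obj (ModuleCat.of A (A ⧸ I))).ExactAt i := fun i hi =>
      (HomologicalComplex.exactAt_iff_isZero_homology _ i).2 ((DRingCompl.isZ (h i hi)).of_iso
        ((DerivedCategory.homologyFunctor (ModuleCat.{u} A) i).mapIso eM ≪≫
          (DerivedCategory.homologyFunctorFactors (ModuleCat.{u} A) i).app _).symm)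
    obtain ⟨s, hs⟩ := hI
    have hle : I ≤ Ideal.ofList (s.toList ++ []) := by
      refine le_of_eq (hs.symm.trans (congrArg Ideal.span ?_))
      ext; simp
    refine le_zero_of_lOrth0 I s.toList (fun f hf => hs ▸ Ideal.subset_span (Finset.mem_toList.1 hf))
      s.toList [] K (fun f => by simp) hc (fun f hf => absurd hf List.not_mem_nil) fun X hX hX' n hn => ?_
    have ho := lOrth0_GD I hP hflat hex s.toList [] hle (𝟙_ (ModuleCat.{u} A)) X
      (fun f hf => absurd hf List.not_mem_nil) hX hX' n hn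
    let eρ : (G P).obj (𝟙_ (ModuleCat.{u} A)) ≅ P :=
      HomologicalComplex.Hom.isoOfComponents (fun m => ρ_ (P.X m))
        (fun i j _ => (MonoidalCategory.rightUnitor_naturality (P.d i j)).symm)
    exact ⟨fun a b => (cancel_epi (DerivedCategory.Q.mapIso eρ ≪≫ e).hom).1 (ho.elim _ _)⟩

end Groth.Agent.H9Misc.DRingRightExact
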