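import Mathlib
import Groth.Agent.H9Misc.DRingLBase
import Groth.Agent.H9Misc.DRingRightExact

/-! Descent of tor amplitude. -/

set_option linter.style.haveILetI false

universe u

open CategoryTheory CategoryTheory.Limits MonoidalCategory

attribute [local instance] HasDerivedCategory.standard

namespace Groth.Agent.H9Misc.DRingTorDescent

open Groth.Agent.KFlatLib DRingLTensor DRingTor

variable {A : Type u} [CommRing A]

section
variable {B : Type u} [CommRing B] (φ : A →+* B)

/-- `B` as an `A`-module. -/
noncomputable abbrev resB : ModuleCat.{u} A := (ModuleCat.restrictScalars φ).obj (ModuleCat.of B B)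

lemma exactAt_extC_tensor {P : CochainComplex (ModuleCat.{u} A) ℤ} (M : ModuleCat.{u} A) (i : ℤ)
    (h : ((tensC ((ModuleCat.extendScalars φ).obj M)).obj ((extC' φ).obj P)).ExactAt i) :
    ((tensC (resB φ)).obj ((tensC M).obj P)).ExactAt i := by
  have h₃ : (((ModuleCat.extendScalars φ ⋙ tensorRight ((ModuleCat.extendScalars φ).obj M) ⋙
      ModuleCat.restrictScalars φ).mapHomologicalComplex (ComplexShape.up ℤ)).obj P).ExactAt i :=
    h.map (ModuleCat.restrictScalars φ)
  refine DRingRightExact.exactAt_iso_map (F := ModuleCat.extendScalars φ ⋙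
    tensorRight ((ModuleCat.extendScalars φ).obj M) ⋙ ModuleCat.restrictScalars φ)
    (G := tensorRight M ⋙ tensorRight (resB φ)) ?_ P i h₃
  exact Functor.isoWhiskerLeft (ModuleCat.extendScalars φ)
      (Functor.isoWhiskerRight (BraidedCategory.tensorLeftIsoTensorRight _).symm _) ≪≫
    ((KFlatLib.extTIso φ).app _) ≪≫
    BraidedCategory.tensorLeftIsoTensorRight _ ≪≫
    ((curriedTensor (ModuleCat.{u} A)).flip).mapIso ((extendRestrictIso φ).app M ≪≫ β_ _ _) ≪≫
    tensorRightTensor M (resB φ)

end

/-- Tor amplitude descends along a jointly faithfully flat family of ring maps. -/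
theorem of_family {ι : Type*} (B : ι → Type u) [∀ j, CommRing (B j)] (φ : ∀ j, A →+* B j)
    (hflat : ∀ j, (φ j).Flat) (hfaith : ∀ H : ModuleCat.{u} A, (∀ j, IsZero (H ⊗ resB (φ j))) → IsZero H)
    (K : DRing.Cx A) (a b : ℤ)
    (hK : ∀ j, DRing.HasTorAmplitudeIn (B j) a b (DRing.toD ((extC' (φ j)).obj K))) :
    DRing.HasTorAmplitudeIn A a b (DRing.toD K) := by
  let P := (ringCover A).P.obj K
  let ψ : P ⟶ K := (ringCover A).ψ.app K
  haveI : QuasiIso ψ := (ringCover A).quasiIso_ψ K
  have hP : IsKF P := kFlat_ringRes K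
  haveI : IsIso (DerivedCategory.Q.map ψ) := (DerivedCategory.isIso_Q_map_iff_quasiIso _ _).2 inferInstance
  refine hasTorAmplitudeIn_of_van hP (fun M i hi => ?_) (asIso (DerivedCategory.Q.map ψ))
  rw [HomologicalComplex.exactAt_iff_isZero_homology]
  refine hfaith _ fun j => ?_
  haveI := ModuleCat.preservesFiniteLimits_extendScalars_of_flat (hflat j)
  haveI : PreservesFiniteColimits (ModuleCat.extendScalars.{u, u, u} (φ j)) := by
    haveI : (ModuleCat.extendScalars.{u, u, u} (φ j)).IsLeftAdjoint :=
      (ModuleCat.extendRestrictScalarsAdj (φ j)).isLeftAdjoint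
    infer_instance
  haveI : QuasiIso ((extC' (φ j)).map ψ) := by
    constructor
    intro n
    infer_instance
  haveI : IsIso (DerivedCategory.Q.map ((extC' (φ j)).map ψ)) :=
    (DerivedCategory.isIso_Q_map_iff_quasiIso _ _).2 inferInstance
  have hV := (iff_van (kFlat_extendScalars (φ j) hP)
    (asIso (DerivedCategory.Q.map ((extC' (φ j)).map ψ)))).1 (hK j)
  have hE := exactAt_extC_tensor (φ j) M i (hV _ i hi)
  haveI : Module.Flat A (resB (φ j)) := hflat j
  rw [HomologicalComplex.exactAt_iff_isZero_homology] at hE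
  exact hE.of_iso (ShortComplex.mapHomologyIso _ (tensorRight (resB (φ j)))).symm

lemma isZero_of_faithfullyFlat {B : Type u} [CommRing B] [Algebra A B] [Module.FaithfullyFlat A B]
    (H : ModuleCat.{u} A) (h : IsZero (H ⊗ ModuleCat.of A B)) : IsZero H := by
  haveI : Subsingleton (TensorProduct A H B) := ModuleCat.subsingleton_of_isZero h
  haveI := Module.FaithfullyFlat.rTensor_reflects_triviality A B H
  exact ModuleCat.isZero_of_subsingleton H

lemma isZero_of_cover {r : ℕ} (f : Fin r → A) (hf : Ideal.span (Set.range f) = ⊤) (H : ModuleCat.{u} A)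
    (h : ∀ i, IsZero (H ⊗ ModuleCat.of A (Localization.Away (f i)))) : IsZero H := by
  suffices Subsingleton H from ModuleCat.isZero_of_subsingleton H
  refine subsingleton_of_forall_eq 0 fun x => ?_
  have hx : ∀ i, ∃ n : ℕ, f i ^ n • x = 0 := fun i => by
    haveI : Subsingleton (TensorProduct A H (Localization.Away (f i))) := ModuleCat.subsingleton_of_isZero (h i)
    haveI : Subsingleton (TensorProduct A (Localization.Away (f i)) H) :=
      (TensorProduct.comm A _ _).toEquiv.subsingleton
    obtain ⟨⟨_, n, rfl⟩, hn⟩ := (IsLocalizedModule.eq_zero_iff (Submonoid.powers (f i))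
      (TensorProduct.mk A (Localization.Away (f i)) H 1)).1 (Subsingleton.elim (α := TensorProduct A _ H) _ 0)
    exact ⟨n, hn⟩
  choose n hn using hx
  let J : Ideal A := LinearMap.ker (LinearMap.toSpanSingleton A H x)
  have hJ : ∀ c, c ∈ J ↔ c • x = 0 := fun c => Iff.rfl
  have hrad : Ideal.span (Set.range f) ≤ J.radical :=
    Ideal.span_le.2 fun y ⟨i, hi⟩ => ⟨n i, (hJ _).2 (by rw [← hi]; exact hn i)⟩
  rw [hf] at hrad
  have h1 : J = ⊤ := Ideal.radical_eq_top.1 (top_le_iff.1 hrad)
  have := (hJ 1).1 (h1 ▸ Submodule.mem_top)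
  rwa [one_smul] at this

/-- `resB` of a structure map is the algebra itself. -/
noncomputable def resBIso (B : Type u) [CommRing B] [Algebra A B] : resB (algebraMap A B) ≅ ModuleCat.of A B :=
  LinearEquiv.toModuleIso (m₁ := (resB (algebraMap A B)).isModule)
    { toFun := fun z => z
      invFun := fun z => z
      map_add' := fun _ _ => rfl
      map_smul' := fun r z => (Algebra.smul_def r (show B from z)).symm
      left_inv := fun _ => rfl
      right_inv := fun _ => rfl }

lemma isZero_tensor_of_resB {B : Type u} [CommRing B] [Algebra A B] (H : ModuleCat.{u} A)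
    (h : IsZero (H ⊗ resB (algebraMap A B))) : IsZero (H ⊗ ModuleCat.of A B) :=
  h.of_iso (whiskerLeftIso H (resBIso B).symm)

end Groth.Agent.H9Misc.DRingTorDescent
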