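import Groth.Agent.H9Misc.DRingPCModule
import Groth.Agent.H9Misc.DRingThick
import Groth.Agent.H9Misc.DRingTorDescent
import Groth.Agent.KFlatLib.PsiC
import Mathlib.RingTheory.Polynomial.Basic

/-! Pseudo-coherence and exact changes of rings. -/

set_option linter.style.haveILetI false

universe u

open CategoryTheory CategoryTheory.Category CategoryTheory.Limits
open CategoryTheory.Pretriangulated

attribute [local instance] HasDerivedCategory.standard

namespace Groth.Agent.H9Misc.DRingRestrict

open DRingTor Groth.Agent.KFlatLib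

variable {A B : Type u} [CommRing A] [CommRing B]

/-- Exact functors that send finite free modules to finite free modules preserve pseudo-coherence. -/
lemma pc_map (F : ModuleCat.{u} A ⥤ ModuleCat.{u} B) [F.Additive] [PreservesFiniteLimits F]
    [PreservesFiniteColimits F]
    (hF : ∀ M : ModuleCat.{u} A, Module.Finite A M → Module.Free A M → Module.Finite B (F.obj M) ∧ Module.Free B (F.obj M))
    {m : ℤ} {K : Dual.D A} (hK : DRing.IsPseudoCoherent A m K) :
    DRing.IsPseudoCoherent B m (F.mapDerivedCategory.obj K) := by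
  obtain ⟨E, a, b, α, hz, hf, hi, he⟩ := hK
  let β : DRing.toD ((F.mapHomologicalComplex (ComplexShape.up ℤ)).obj E) ⟶ F.mapDerivedCategory.obj K :=
    (F.mapDerivedCategoryFactors.app E).inv ≫ F.mapDerivedCategory.map α
  have key : ∀ i : ℤ, Arrow.mk ((DerivedCategory.homologyFunctor (ModuleCat.{u} B) i).map (F.mapDerivedCategory.map α))
      ≅ Arrow.mk (F.map ((DerivedCategory.homologyFunctor (ModuleCat.{u} A) i).map α)) := fun i =>
    ((Functor.mapArrowFunctor _ _).mapIso (mapDCHomologyIso F i)).app (Arrow.mk α)
  refine ⟨_, a, b, β, fun i h => F.map_isZero (hz i h), fun i => hF _ (hf i).1 (hf i).2, fun i h => ?_, ?_⟩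
  · haveI := hi i h
    haveI : IsIso ((DerivedCategory.homologyFunctor (ModuleCat.{u} B) i).map (F.mapDerivedCategory.map α)) :=
      ((MorphismProperty.isomorphisms (ModuleCat.{u} B)).arrow_mk_iso_iff (key i)).2
        (inferInstanceAs (IsIso (F.map _)))
    rw [Functor.map_comp]
    infer_instance
  · haveI := he
    haveI : Epi ((DerivedCategory.homologyFunctor (ModuleCat.{u} B) m).map (F.mapDerivedCategory.map α)) :=
      ((MorphismProperty.epimorphisms (ModuleCat.{u} B)).arrow_mk_iso_iff (key m)).2
        (inferInstanceAs (Epi (F.map _)))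
    rw [Functor.map_comp]
    infer_instance

lemma pc'_map (F : ModuleCat.{u} A ⥤ ModuleCat.{u} B) [F.Additive] [PreservesFiniteLimits F]
    [PreservesFiniteColimits F]
    (hF : ∀ M : ModuleCat.{u} A, Module.Finite A M → Module.Free A M → Module.Finite B (F.obj M) ∧ Module.Free B (F.obj M))
    {K : Dual.D A} (hK : DRing.IsPseudoCoherent' A K) :
    DRing.IsPseudoCoherent' B (F.mapDerivedCategory.obj K) :=
  (DRingPC.pc'_iff _).2 fun m => pc_map F hF ((DRingPC.pc'_iff _).1 hK m)

lemma finFree_extendScalars (φ : A →+* B) (M : ModuleCat.{u} A) (h₁ : Module.Finite A M) (h₂ : Module.Free A M) :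
    Module.Finite B ((ModuleCat.extendScalars.{u, u, u} φ).obj M) ∧
      Module.Free B ((ModuleCat.extendScalars.{u, u, u} φ).obj M) := by
  letI := φ.toAlgebra
  exact ⟨inferInstanceAs (Module.Finite B (TensorProduct A B M)), inferInstanceAs (Module.Free B (TensorProduct A B M))⟩

/-- Flat base change of pseudo-coherent modules. -/
theorem module_baseChange (φ : A →+* B) (hφ : φ.Flat) (m : ℤ) (M : ModuleCat.{u} A)
    (hM : DRing.IsPseudoCoherentModule A m M) :
    DRing.IsPseudoCoherentModule B m ((ModuleCat.extendScalars.{u, u, u} φ).obj M) := by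
  haveI := ModuleCat.preservesFiniteLimits_extendScalars_of_flat hφ
  haveI : PreservesFiniteColimits (ModuleCat.extendScalars.{u, u, u} φ) := by
    haveI : (ModuleCat.extendScalars.{u, u, u} φ).IsLeftAdjoint :=
      (ModuleCat.extendRestrictScalarsAdj φ).isLeftAdjoint
    infer_instance
  exact DRingPC.of_iso (((ModuleCat.extendScalars.{u, u, u} φ).mapDerivedCategorySingleFunctor 0).app M)
    (pc_map _ (finFree_extendScalars φ) hM)

variable (φ : A →+* B)

lemma isZero_H_restrict {K : Dual.D B} {i : ℤ}
    (h : IsZero ((DerivedCategory.homologyFunctor (ModuleCat.{u} B) i).obj K)) :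
    IsZero ((DerivedCategory.homologyFunctor (ModuleCat.{u} A) i).obj ((DRing.restrictD φ).obj K)) :=
  ((ModuleCat.restrictScalars φ).map_isZero h).of_iso ((mapDCHomologyIso (ModuleCat.restrictScalars φ) i).app K)

/-- `restrictD` of a module. -/
noncomputable def restrictInDIso (M : ModuleCat.{u} B) :
    (DRing.restrictD φ).obj (Dual.inD B M) ≅ Dual.inD A ((ModuleCat.restrictScalars φ).obj M) :=
  ((ModuleCat.restrictScalars φ).mapDerivedCategorySingleFunctor 0).app M

/-- Properties of restrictions of perfect objects. -/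
theorem restrict_induction (P : Dual.D A → Prop) (hiso : ∀ {X Y : Dual.D A}, (X ≅ Y) → P X → P Y)
    (hB : P (Dual.inD A ((ModuleCat.restrictScalars φ).obj (ModuleCat.of B B))))
    (hshift : ∀ (K : Dual.D A) (n : ℤ), P K → P (K⟦n⟧))
    (hext : ∀ T : Triangle (Dual.D A), T ∈ distinguishedTriangles → P T.obj₁ → P T.obj₃ → P T.obj₂)
    (hsum : ∀ (X Y : Dual.D A) [HasBinaryBiproduct X Y], P (X ⊞ Y) → P X)
    {K : Dual.D B} (hK : DRing.IsPerfect B K) : P ((DRing.restrictD φ).obj K) := by
  let P' : ObjectProperty (Dual.D B) := fun K => P ((DRing.restrictD φ).obj K)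
  haveI : P'.IsClosedUnderIsomorphisms := ⟨fun e h => hiso ((DRing.restrictD φ).mapIso e) h⟩
  haveI := preservesBinaryBiproducts_of_preservesBiproducts (DRing.restrictD φ)
  exact DRingThick.perfect_induction P' (hiso (restrictInDIso φ (ModuleCat.of B B)).symm hB)
    (fun K n h => hiso (((DRing.restrictD φ).commShiftIso n).app K).symm (hshift _ n h))
    (fun T hT h₁ h₃ => hext _ ((DRing.restrictD φ).map_distinguished T hT) h₁ h₃)
    (fun X Y _ h => hsum _ _ (hiso ((DRing.restrictD φ).mapBiprod X Y) h)) K hK

/-- Restriction of perfect objects. -/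
theorem isPerfect_restrict (hB : DRing.IsPerfectModule A ((ModuleCat.restrictScalars φ).obj (ModuleCat.of B B)))
    {K : Dual.D B} (hK : DRing.IsPerfect B K) : DRing.IsPerfect A ((DRing.restrictD φ).obj K) :=
  restrict_induction φ (DRing.IsPerfect A) DRingPC.isPerfect_of_iso hB
    (fun _ n h => DRingPC.isPerfect_shift h n) (fun T hT => DRingPC.isPerfect₂ T hT)
    (fun _ _ _ h => (DRingPC.isPerfect_summand h).1) hK

variable (hB : DRing.IsPseudoCoherentModule' A ((ModuleCat.restrictScalars φ).obj (ModuleCat.of B B)))

include hB in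
lemma pc'_restrict_perfect {K : Dual.D B} (hK : DRing.IsPerfect B K) :
    DRing.IsPseudoCoherent' A ((DRing.restrictD φ).obj K) :=
  restrict_induction φ (DRing.IsPseudoCoherent' A) DRingPC.of_iso' hB (fun _ n h => DRingPC.shift' h n)
    (fun T hT => DRingPC.obj₂' T hT) (fun _ _ _ h => (DRingPC.summand' h).1) hK

include hB in
lemma pc_restrict {m : ℤ} {K : Dual.D B} (hK : DRing.IsPseudoCoherent B m K) :
    DRing.IsPseudoCoherent A m ((DRing.restrictD φ).obj K) := by
  obtain ⟨E, a, b, α, hz, hf, hi, he⟩ := hK
  obtain ⟨C, g, h, hT⟩ := distinguished_cocone_triangle α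
  have hC : ∀ i, m ≤ i → IsZero ((DerivedCategory.homologyFunctor (ModuleCat.{u} B) i).obj C) := fun i hi' => by
    have h2 := DerivedCategory.HomologySequence.exact₃ _ hT i (i + 1) rfl
    refine h2.isZero_X₂ ?_ ?_
    · have hE : Epi ((DerivedCategory.homologyFunctor (ModuleCat.{u} B) i).map α) := by
        rcases hi'.eq_or_lt with rfl | hlt
        · exact he
        · haveI := hi i hlt
          infer_instance
      exact (DerivedCategory.HomologySequence.epi_homologyMap_mor₁_iff _ hT i).1 hE
    · haveI := hi (i + 1) (by omega)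
      exact (DerivedCategory.HomologySequence.mono_homologyMap_mor₁_iff _ hT i (i + 1) rfl).1
        (inferInstanceAs (Mono ((DerivedCategory.homologyFunctor (ModuleCat.{u} B) (i + 1)).map α)))
  have h₁ := pc'_restrict_perfect φ hB (K := DRing.toD E) ⟨E, a, b, hz, fun i =>
    haveI := (hf i).1; haveI := (hf i).2; ⟨inferInstance, inferInstance⟩, ⟨Iso.refl _⟩⟩
  exact (Groth.Agent.S2067.result _ ((DRing.restrictD φ).map_distinguished _ hT) m).2.1
    ((DRingPC.pc'_iff _).1 h₁ m) (DRingPC.of_vanish _ fun i hi' => isZero_H_restrict φ (hC i hi'))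

include hB in
lemma pc_of_restrict_aux : ∀ (k : ℕ) (m : ℤ) (b : ℤ), b + 1 ≤ m + k → ∀ K : Dual.D B,
    (∀ i, b < i → IsZero ((DerivedCategory.homologyFunctor (ModuleCat.{u} B) i).obj K)) →
    DRing.IsPseudoCoherent A m ((DRing.restrictD φ).obj K) → DRing.IsPseudoCoherent B m K := by
  intro k
  induction k with
  | zero => exact fun m b hb K hz _ => DRingPC.of_vanish K fun i hi => hz i (by omega)
  | succ k ih =>
    intro m b hb K hz hK
    rcases lt_or_ge b m with hbm | hbm
    · exact DRingPC.of_vanish K fun i hi => hz i (by omega)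
    haveI : K.IsLE b := (DerivedCategory.isLE_iff K b).2 hz
    obtain ⟨P, hP, ⟨e⟩⟩ := K.exists_iso_Q_obj_of_isLE b
    have hfin : Module.Finite B ((DerivedCategory.homologyFunctor (ModuleCat.{u} B) b).obj K) := by
      have h := (Groth.Agent.S2068.result _ b (DRingPC.mono hbm hK)).1 fun i hi => isZero_H_restrict φ (hz i hi)
      have h' : Module.Finite A ((ModuleCat.restrictScalars φ).obj
          ((DerivedCategory.homologyFunctor (ModuleCat.{u} B) b).obj K)) :=
        haveI : Module.Finite A (((ModuleCat.restrictScalars φ).mapDerivedCategory ⋙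
          DerivedCategory.homologyFunctor (ModuleCat.{u} A) b).obj K) := h
        Module.Finite.equiv ((mapDCHomologyIso (ModuleCat.restrictScalars φ) b).app K).toLinearEquiv
      letI := φ.toAlgebra
      letI : Module A ((DerivedCategory.homologyFunctor (ModuleCat.{u} B) b).obj K) :=
        Module.compHom _ φ
      haveI : IsScalarTower A B ((DerivedCategory.homologyFunctor (ModuleCat.{u} B) b).obj K) :=
        IsScalarTower.of_algebraMap_smul fun _ _ => rfl
      haveI : Module.Finite A ((DerivedCategory.homologyFunctor (ModuleCat.{u} B) b).obj K) := h'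
      exact Module.Finite.of_restrictScalars_finite A B _
    haveI : IsIso (P.iCycles b) := P.isIso_iCycles b (b + 1) (by simp)
      ((CochainComplex.isZero_of_isStrictlyLE P b (b + 1) (by omega)).eq_of_tgt _ _)
    let p : P.X b ⟶ (DerivedCategory.homologyFunctor (ModuleCat.{u} B) b).obj K :=
      inv (P.iCycles b) ≫ P.homologyπ b ≫ ((DerivedCategory.homologyFunctorFactors (ModuleCat.{u} B) b).app P).inv ≫
        (DerivedCategory.homologyFunctor (ModuleCat.{u} B) b).map e.inv
    obtain ⟨n, π, hπ⟩ := Module.Finite.exists_fin' B ((DerivedCategory.homologyFunctor (ModuleCat.{u} B) b).obj K)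
    obtain ⟨l, hl⟩ := Module.projective_lifting_property p.hom π ((ModuleCat.epi_iff_surjective p).1 inferInstance)
    let N : ModuleCat.{u} B := ModuleCat.of B (Fin n → B)
    let ι : (sg b).obj N ⟶ P := HomologicalComplex.mkHomFromSingle (ModuleCat.ofHom l)
      fun i (hi : b + 1 = i) => (CochainComplex.isZero_of_isStrictlyLE P b i (by omega)).eq_of_tgt _ _
    let α : toD'.obj ((sg b).obj N) ⟶ K := toD'.map ι ≫ e.inv
    haveI : Epi ((DerivedCategory.homologyFunctor (ModuleCat.{u} B) b).map α) := by
      let w : N ⟶ ((sg b).obj N).homology b :=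
        (HomologicalComplex.singleObjCyclesSelfIso (ComplexShape.up ℤ) b N).inv ≫ ((sg b).obj N).homologyπ b
      haveI : Epi (w ≫ ((DerivedCategory.homologyFunctorFactors (ModuleCat.{u} B) b).app ((sg b).obj N)).inv ≫
          (DerivedCategory.homologyFunctor (ModuleCat.{u} B) b).map α) := by
        have hw : w ≫ ((DerivedCategory.homologyFunctorFactors (ModuleCat.{u} B) b).app ((sg b).obj N)).inv ≫
            (DerivedCategory.homologyFunctor (ModuleCat.{u} B) b).map α = ModuleCat.ofHom π := by
          have hp : ModuleCat.ofHom l ≫ p = ModuleCat.ofHom π := ModuleCat.hom_ext hl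
          have hc : (HomologicalComplex.singleObjCyclesSelfIso (ComplexShape.up ℤ) b N).inv ≫
              HomologicalComplex.cyclesMap ι b = ModuleCat.ofHom l ≫ inv (P.iCycles b) := by
            rw [← cancel_mono (P.iCycles b)]
            simp [ι]
          have hn : (DerivedCategory.homologyFunctorFactors (ModuleCat.{u} B) b).inv.app ((sg b).obj N) ≫
              (DerivedCategory.homologyFunctor (ModuleCat.{u} B) b).map (DerivedCategory.Q.map ι) =
              HomologicalComplex.homologyMap ι b ≫
                (DerivedCategory.homologyFunctorFactors (ModuleCat.{u} B) b).inv.app P :=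
            ((DerivedCategory.homologyFunctorFactors (ModuleCat.{u} B) b).inv.naturality ι).symm
          refine Eq.trans ?_ hp
          show w ≫ (DerivedCategory.homologyFunctorFactors (ModuleCat.{u} B) b).inv.app ((sg b).obj N) ≫
            (DerivedCategory.homologyFunctor (ModuleCat.{u} B) b).map (DerivedCategory.Q.map ι ≫ e.inv) = _
          refine (congrArg (fun x => w ≫ (DerivedCategory.homologyFunctorFactors (ModuleCat.{u} B) b).inv.app
            ((sg b).obj N) ≫ x) ((DerivedCategory.homologyFunctor (ModuleCat.{u} B) b).map_comp _ _)).trans ?_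
          refine (congrArg (w ≫ ·) ((assoc _ _ _).symm.trans ((congrArg (· ≫
            (DerivedCategory.homologyFunctor (ModuleCat.{u} B) b).map e.inv) hn).trans (assoc _ _ _)))).trans ?_
          refine (assoc _ _ _).trans ?_
          refine (congrArg ((HomologicalComplex.singleObjCyclesSelfIso (ComplexShape.up ℤ) b N).inv ≫ ·)
            ((assoc _ _ _).symm.trans ((congrArg (· ≫ ((DerivedCategory.homologyFunctorFactors (ModuleCat.{u} B) b).app P).inv ≫
              (DerivedCategory.homologyFunctor (ModuleCat.{u} B) b).map e.inv)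
                (HomologicalComplex.homologyπ_naturality ι b)).trans (assoc _ _ _)))).trans ?_
          exact (assoc _ _ _).symm.trans ((congrArg (· ≫ _) hc).trans (assoc _ _ _))
        rw [hw]
        exact (ModuleCat.epi_iff_surjective _).2 hπ
      exact epi_of_epi (w ≫ ((DerivedCategory.homologyFunctorFactors (ModuleCat.{u} B) b).app
        ((sg b).obj N)).inv) _
    obtain ⟨C, g, h, hT⟩ := distinguished_cocone_triangle α
    have hN : DRing.IsPerfect B (toD'.obj ((sg b).obj N)) :=
      DRingPC.isPerfect_of_iso ((DerivedCategory.singleFunctorIsoCompQ (ModuleCat.{u} B) b).app N)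
        (DRingPC.isPerfect_single ⟨(sg 0).obj N, 0, 0,
          fun i hi => HomologicalComplex.isZero_single_obj_X _ _ _ _ (by omega), fun i => by
            rcases eq_or_ne i 0 with rfl | hi
            · let f := (HomologicalComplex.singleObjXSelf (ComplexShape.up ℤ) 0 N).toLinearEquiv
              exact ⟨Module.Finite.equiv f.symm, Module.Projective.of_equiv f.symm⟩
            · haveI := ModuleCat.subsingleton_of_isZero
                (HomologicalComplex.isZero_single_obj_X (ComplexShape.up ℤ) 0 N i hi)
              exact ⟨inferInstance, inferInstance⟩,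
          ⟨((DerivedCategory.singleFunctorIsoCompQ (ModuleCat.{u} B) 0).app N).symm⟩⟩)
    have hNH : ∀ i, i ≠ b → IsZero ((DerivedCategory.homologyFunctor (ModuleCat.{u} B) i).obj (toD'.obj ((sg b).obj N))) :=
      fun i hi => (ShortComplex.isZero_homology_of_isZero_X₂ _
        (HomologicalComplex.isZero_single_obj_X (ComplexShape.up ℤ) b N i hi)).of_iso
          ((DerivedCategory.homologyFunctorFactors (ModuleCat.{u} B) i).app _)
    have hC : ∀ i, b - 1 < i → IsZero ((DerivedCategory.homologyFunctor (ModuleCat.{u} B) i).obj C) := fun i hi => by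
      refine (DerivedCategory.HomologySequence.exact₃ _ hT i (i + 1) rfl).isZero_X₂ ?_
        ((hNH (i + 1) (by omega)).eq_of_tgt _ _)
      rcases eq_or_ne i b with rfl | hib
      · exact (DerivedCategory.HomologySequence.epi_homologyMap_mor₁_iff _ hT i).1 (by assumption)
      · exact (hz i (by omega)).eq_of_src _ _
    have hCp : DRing.IsPseudoCoherent A m ((DRing.restrictD φ).obj C) :=
      (Groth.Agent.S2067.result _ ((DRing.restrictD φ).map_distinguished _ hT) m).1
        ((DRingPC.pc'_iff _).1 (pc'_restrict_perfect φ hB hN) _) hK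
    exact (Groth.Agent.S2067.result _ hT m).2.1
      ((DRingPC.pc'_iff _).1 ((DRingPerfect.isPerfect_iff _).1 hN).1 m) (ih m (b - 1) (by omega) C hC hCp)

include hB in
/-- Pseudo-coherence may be tested after restriction along a pseudo-coherent ring map. -/
theorem pc_restrict_iff (m : ℤ) (K : Dual.D B) :
    DRing.IsPseudoCoherent B m K ↔ DRing.IsPseudoCoherent A m ((DRing.restrictD φ).obj K) := by
  refine ⟨pc_restrict φ hB, fun h => ?_⟩
  obtain ⟨b, hb⟩ := DRingPC.exists_bound h
  refine pc_of_restrict_aux φ hB (b + 1 - m).toNat m b (by omega) K (fun i hi => ?_) h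
  have := ((hb i hi).of_iso ((mapDCHomologyIso (ModuleCat.restrictScalars φ) i).app K).symm)
  have hs := ModuleCat.subsingleton_of_isZero this
  exact @ModuleCat.isZero_of_subsingleton _ _ _ hs

end Groth.Agent.H9Misc.DRingRestrict

namespace Groth.Agent.H9Misc.DRingRestrict

open DRingTor DRingTorDescent

variable {A B : Type u} [CommRing A] [CommRing B]

lemma pc'_resB [Algebra A B] (h : DRing.IsPseudoCoherentModule' A B) :
    DRing.IsPseudoCoherentModule' A ((ModuleCat.restrictScalars (algebraMap A B)).obj (ModuleCat.of B B)) :=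
  DRingPC.of_iso' ((DerivedCategory.singleFunctor (ModuleCat.{u} A) 0).mapIso (resBIso B).symm) h

lemma isPerfect_resB [Algebra A B] (h : DRing.IsPerfectModule A B) :
    DRing.IsPerfectModule A ((ModuleCat.restrictScalars (algebraMap A B)).obj (ModuleCat.of B B)) :=
  DRingPC.isPerfect_of_iso ((DerivedCategory.singleFunctor (ModuleCat.{u} A) 0).mapIso (resBIso B).symm) h

open Groth.Agent.KFlatLib in
/-- Cohomology of a restriction. -/
noncomputable def HDRestrictIso (φ : A →+* B) (K : Dual.D B) (i : ℤ) :
    (DerivedCategory.homologyFunctor (ModuleCat.{u} A) i).obj ((DRing.restrictD φ).obj K) ≅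
      (ModuleCat.restrictScalars φ).obj ((DerivedCategory.homologyFunctor (ModuleCat.{u} B) i).obj K) :=
  (mapDCHomologyIso (ModuleCat.restrictScalars φ) i).app K

open Polynomial in
/-- `R = R[X]/(X)` is pseudo-coherent over `R[X]`. -/
lemma pc'_eval_zero (R : Type u) [CommRing R] :
    DRing.IsPseudoCoherentModule' (Polynomial R)
      ((ModuleCat.restrictScalars (Polynomial.evalRingHom (0 : R))).obj (ModuleCat.of R R)) := by
  let φ := Polynomial.evalRingHom (0 : R)
  let M := (ModuleCat.restrictScalars φ).obj (ModuleCat.of R R)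
  let π : (Fin 1 → Polynomial R) →ₗ[Polynomial R] M :=
    { toFun := fun f => (show R from φ (f 0))
      map_add' := fun f g => φ.map_add (f 0) (g 0)
      map_smul' := fun r f => φ.map_mul r (f 0) }
  have hπ : Function.Surjective π := fun r =>
    ⟨fun _ => C (show R from r), eval_C (R := R) (a := (show R from r)) (x := 0)⟩
  have hmem : ∀ f : Fin 1 → Polynomial R, f ∈ LinearMap.ker π ↔ (f 0).eval 0 = 0 := fun f => Iff.rfl
  let e : Polynomial R →ₗ[Polynomial R] LinearMap.ker π :=
    { toFun := fun p => ⟨fun _ => X * p, (hmem _).2 (by simp)⟩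
      map_add' := fun p q => Subtype.ext (funext fun _ => mul_add _ _ _)
      map_smul' := fun r p => Subtype.ext (funext fun _ => by simp [mul_left_comm]) }
  have he : Function.Bijective e := by
    refine ⟨fun p q h => (Polynomial.monic_X (R := R)).isRegular.left (congrFun (congrArg Subtype.val h) (0 : Fin 1)), fun ⟨f, hf⟩ => ?_⟩
    obtain ⟨p, hp⟩ := (X_dvd_iff (f := f 0)).2 (by rw [coeff_zero_eq_eval_zero]; exact (hmem f).1 hf)
    exact ⟨p, Subtype.ext (funext fun i => by rw [Subsingleton.elim i 0]; exact hp.symm)⟩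
  haveI : Module.Finite (Polynomial R) (LinearMap.ker π) := Module.Finite.equiv (LinearEquiv.ofBijective e he)
  haveI : Module.Free (Polynomial R) (LinearMap.ker π) := Module.Free.of_equiv (LinearEquiv.ofBijective e he)
  exact (DRingPC.pc'_iff _).2 fun m =>
    DRingPC.pc_of_presentation π hπ (Triage.NoethPC.pc_of_free (A := Polynomial R) (LinearMap.ker π) (m + 1))

end Groth.Agent.H9Misc.DRingRestrict
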