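import Groth.Agent.H9Misc.SupportsExt

/-!
# Spectral sequences for Ext with supports
-/

universe v u

open CategoryTheory CategoryTheory.Limits Opposite Abelian
open Groth.Agent.SiteBase Groth.Agent.SpObjSS Groth.Agent.TriCat

namespace Groth.Agent.SuppCore

section General

variable {A : Type v} [Category.{u} A] [Abelian A]

/-- An adjunction moves `Hom(P, -)` along. -/
noncomputable def homFromAdjIso {B : Type v} [Category.{u} B] [Abelian B] {F : B ⥤ A} {G : A ⥤ B}
    (adj : F ⊣ G) [F.Additive] (P : B) : G ⋙ homFrom P ≅ homFrom (F.obj P) :=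
  NatIso.ofComponents (fun X => AddEquiv.toAddCommGrpIso (adj.homAddEquiv P X).symm) fun {X Y} f => by
    ext φ
    exact adj.homEquiv_naturality_right_symm φ f

variable [HasExt.{u} A] [EnoughInjectives A]

/-- The right derived functors of `Hom(P, -)` are the Ext functors. -/
noncomputable def rightDerivedHomFromNatIso (P : A) (n : ℕ) :
    (homFrom P).rightDerived n ≅ Abelian.extFunctorObj P n :=
  let ev := (evaluation (Discrete PUnit.{u + 1})ᵒᵖ AddCommGrpCat.{u}).obj (op ⟨PUnit.unit⟩)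
  rightDerivedCongr (F := homFrom P) (G := homFromPsh P ⋙ ev)
      (NatIso.ofComponents (fun _ => Iso.refl _) (fun _ => (Category.comp_id _).trans (Category.id_comp _).symm)) n ≪≫
    rightDerivedCompIso (homFromPsh P) ev n ≪≫
      Functor.isoWhiskerRight ((homFromPres P).rightDerivedIso n) ev ≪≫
        NatIso.ofComponents (fun _ => Iso.refl _) (fun _ => (Category.comp_id _).trans (Category.id_comp _).symm)

end General

/-- Totally acyclic sheaves have no higher cohomology. -/
theorem subsingleton_HC_of_totallyAcyclic {C : Type u} [SmallCategory C] {J : GrothendieckTopology C}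
    {F : Sheaf J AddCommGrpCat.{u}} (hF : CohCx.IsTotallyAcyclic F) (q : ℕ) :
    Subsingleton (Sheaf.H.{u} F (q + 1)) := by
  refine subsingleton_of_forall_eq 0 fun x => ?_
  have h : (Ext.mk₀ (constIsoFreeSh J).inv).comp x (zero_add (q + 1)) = 0 := (hF _ q).elim _ _
  have := congrArg (fun e => (Ext.mk₀ (constIsoFreeSh J).hom).comp e (zero_add (q + 1))) h
  rw [Ext.mk₀_comp_mk₀_assoc, Iso.hom_inv_id, Ext.mk₀_id_comp, Ext.comp_zero] at this
  exact this

variable {C : Type u} [SmallCategory C] {J : GrothendieckTopology C} {O : Sheaf J CommRingCat.{u}}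
  (U : C) (M : ModSite.Mod O) [ModSite.HasSheafHom M]

/-- `Hom(O/O_U, ℋom(M, -)) ≅ Hom(M/M_U, -)`. -/
noncomputable def homFromSheafHomIso :
    ModSite.sheafHom M ⋙ homFrom ((ModSite.quotOn O U).obj (ModSite.unit O)) ≅
      homFrom ((ModSite.quotOn O U).obj M) :=
  homFromAdjIso (ModSite.sheafHomAdj M) _ ≪≫ preadditiveCoyoneda.mapIso (quotUnitTensIso U M).symm.op

variable [HasExt.{u} (ModSite.Mod O)] [HasInjectiveResolutions (ModSite.Mod O)]

omit [ModSite.HasSheafHom M] in
theorem exists_ss_ext_HZsh [ModSite.HasPushOver O U] (N : ModSite.Mod O) :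
    ∃ (E : E₂CohomologicalSpectralSequence AddCommGrpCat.{u})
      (a : SpSeq.Abutment E (fun n : ℤ =>
        if 0 ≤ n then AddCommGrpCat.of (ExtSupp.ExtZ U M N n.toNat) else AddCommGrpCat.of PUnit.{u + 1})),
      (∀ n, a.IsFinite n) ∧ SpSeq.IsBounded E ∧
      ∀ p q : ℤ, Nonempty ((E.page 2 le_rfl).X (p, q) ≅
        (if 0 ≤ p ∧ 0 ≤ q then AddCommGrpCat.of (Abelian.Ext.{u} M ((ModSite.HZsh O U q.toNat).obj N) p.toNat)
         else AddCommGrpCat.of PUnit.{u + 1})) := by
  have := SpObjSS.enoughInjectives_of_hasInjectiveResolutions (C := ModSite.Mod O)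
  exact exists_grothendieck_spectralSequence' (ModSite.sectOn O U) (homFrom M)
    (fun Q hQ => have := injective_sectOn U Q; isRightAcyclic_of_injective _) N
    (fun n => AddCommGrpCat.of (ExtSupp.ExtZ U M N n))
    (fun n => ⟨(rightDerivedCongr (homFromAdjIso (quotSectAdj U) M) n).app N ≪≫
      rightDerivedHomFromIso _ n N⟩)
    (fun p q => AddCommGrpCat.of (Abelian.Ext.{u} M ((ModSite.HZsh O U q).obj N) p))
    (fun p q => ⟨rightDerivedHomFromIso M p _⟩)
    _ (AddCommGrpCat.isZero_of_subsingleton _)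

theorem exists_ss_HZ_extSh (N : ModSite.Mod O) :
    ∃ (E : E₂CohomologicalSpectralSequence AddCommGrpCat.{u})
      (a : SpSeq.Abutment E (fun n : ℤ =>
        if 0 ≤ n then AddCommGrpCat.of (ExtSupp.ExtZ U M N n.toNat) else AddCommGrpCat.of PUnit.{u + 1})),
      (∀ n, a.IsFinite n) ∧ SpSeq.IsBounded E ∧
      ∀ p q : ℤ, Nonempty ((E.page 2 le_rfl).X (p, q) ≅
        (if 0 ≤ p ∧ 0 ≤ q then AddCommGrpCat.of (ModSite.HZ U ((ModSite.extSh M q.toNat).obj N) p.toNat)
         else AddCommGrpCat.of PUnit.{u + 1})) := by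
  have := SpObjSS.enoughInjectives_of_hasInjectiveResolutions (C := ModSite.Mod O)
  let P := (ModSite.quotOn O U).obj (ModSite.unit O)
  refine exists_grothendieck_spectralSequence' (ModSite.sheafHom M) (homFrom P)
    (fun Q hQ i hi => ?_) N
    (fun n => AddCommGrpCat.of (ExtSupp.ExtZ U M N n))
    (fun n => ⟨(rightDerivedCongr (homFromSheafHomIso U M) n).app N ≪≫
      rightDerivedHomFromIso _ n N⟩)
    (fun p q => AddCommGrpCat.of (ModSite.HZ U ((ModSite.extSh M q).obj N) p))
    (fun p q => ⟨rightDerivedHomFromIso P p _ ≪≫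
      AddEquiv.toAddCommGrpIso (nonempty_ext_quotUnit_addEquiv_HZ U _ p).some⟩)
    _ (AddCommGrpCat.isZero_of_subsingleton _)
  obtain ⟨j, rfl⟩ := Nat.exists_eq_succ_of_ne_zero hi.ne'
  refine IsZero.of_iso ?_ (rightDerivedHomFromIso P (j + 1) _ ≪≫
      AddEquiv.toAddCommGrpIso (nonempty_ext_quotUnit_addEquiv_HZ U _ (j + 1)).some)
  have := subsingleton_HZ U _ (ModTensor.isTotallyAcyclic_sheafHom_injective M Q) j
  exact AddCommGrpCat.isZero_of_subsingleton _

variable [ModSite.HasPushOver O U]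

omit [HasExt.{u} (ModSite.Mod O)] [HasInjectiveResolutions (ModSite.Mod O)] in
/-- `Γ(Γ_Z(ℋom(M, -))) ≅ Hom(M/M_U, -)`. -/
noncomputable def gammaZHomIso :
    (ModSite.sheafHom M ⋙ ModSite.sectOn O U) ⋙ homFrom (ModSite.unit O) ≅
      homFrom ((ModSite.quotOn O U).obj M) :=
  Functor.associator _ _ _ ≪≫
    Functor.isoWhiskerLeft (ModSite.sheafHom M) (homFromAdjIso (quotSectAdj U) (ModSite.unit O)) ≪≫
      homFromSheafHomIso U M

theorem nonempty_extZR_iso (q : ℕ) :
    Nonempty (ExtSupp.ExtZR U M q ≅ Abelian.extFunctorObj ((ModSite.quotOn O U).obj M) q) := by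
  have := SpObjSS.enoughInjectives_of_hasInjectiveResolutions (C := ModSite.Mod O)
  exact ⟨rightDerivedCongr (gammaZHomIso U M) q ≪≫ rightDerivedHomFromNatIso _ q⟩

theorem exists_ss_HC_extZSh (N : ModSite.Mod O) :
    ∃ (E : E₂CohomologicalSpectralSequence AddCommGrpCat.{u})
      (a : SpSeq.Abutment E (fun n : ℤ =>
        if 0 ≤ n then AddCommGrpCat.of (ExtSupp.ExtZ U M N n.toNat) else AddCommGrpCat.of PUnit.{u + 1})),
      (∀ n, a.IsFinite n) ∧ SpSeq.IsBounded E ∧
      ∀ p q : ℤ, Nonempty ((E.page 2 le_rfl).X (p, q) ≅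
        (if 0 ≤ p ∧ 0 ≤ q then AddCommGrpCat.of (ModSite.HC O ((ModSite.extZSh U M q.toNat).obj N) p.toNat)
         else AddCommGrpCat.of PUnit.{u + 1})) := by
  have := SpObjSS.enoughInjectives_of_hasInjectiveResolutions (C := ModSite.Mod O)
  let P := ModSite.unit O
  refine exists_grothendieck_spectralSequence' (ModSite.sheafHom M ⋙ ModSite.sectOn O U) (homFrom P)
    (fun Q hQ i hi => ?_) N
    (fun n => AddCommGrpCat.of (ExtSupp.ExtZ U M N n))
    (fun n => ⟨(rightDerivedCongr (gammaZHomIso U M) n).app N ≪≫ rightDerivedHomFromIso _ n N⟩)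
    (fun p q => AddCommGrpCat.of (ModSite.HC O ((ModSite.extZSh U M q).obj N) p))
    (fun p q => ⟨rightDerivedHomFromIso P p _ ≪≫
      AddEquiv.toAddCommGrpIso (SiteBase.nonempty_ext_unit_addEquiv _ p).some⟩)
    _ (AddCommGrpCat.isZero_of_subsingleton _)
  obtain ⟨j, rfl⟩ := Nat.exists_eq_succ_of_ne_zero hi.ne'
  have : ModSite.HasSheafHom ((ModSite.quotOn O U).obj M) := ModTensor.hasSheafHom _
  refine IsZero.of_iso ?_ (((homFrom P).rightDerived (j + 1)).mapIso ((sheafHomSectIso U M).app Q) ≪≫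
    rightDerivedHomFromIso P (j + 1) _ ≪≫
      AddEquiv.toAddCommGrpIso (Y := AddCommGrpCat.of (ModSite.HC O
        ((ModSite.sheafHom ((ModSite.quotOn O U).obj M)).obj Q) (j + 1))) (SiteBase.nonempty_ext_unit_addEquiv (R := ModSite.ringSh O)
        ((ModSite.sheafHom ((ModSite.quotOn O U).obj M)).obj Q) (j + 1)).some)
  have := subsingleton_HC_of_totallyAcyclic
    (ModTensor.isTotallyAcyclic_sheafHom_injective ((ModSite.quotOn O U).obj M) Q) j
  exact AddCommGrpCat.isZero_of_subsingleton _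

end Groth.Agent.SuppCore
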