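import Groth.Agent.H9Misc.HomEvalExt
import Groth.Agent.Lib.ExtShCoh
import Groth.Agent.SheafHomY.Ext
import Groth.Agent.H23.UnitSec

/-! Stalks of local Ext sheaves. -/

set_option linter.style.haveILetI false
set_option linter.unusedSectionVars false
set_option backward.isDefEq.respectTransparency false
set_option backward.isDefEq.respectTransparency.types false

universe u

open CategoryTheory CategoryTheory.Limits AlgebraicGeometry MonoidalCategory
open scoped TensorProduct

noncomputable section

namespace Groth.Agent.H9Misc.StalkHomExt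

open Groth.Agent Groth.Agent.SheafHomX ExtShShift

variable {X : Scheme.{u}} (x : X)

instance : (DerSch.stalkFunctor X x).Additive := Functor.additive_of_preserves_binary_products _

/-- The stalk pairing. -/
def pairing : HomEval.Pairing X (X.presheaf.stalk x) where
  T := DerSch.stalkFunctor X x
  additive := inferInstance
  τ M N := (KFlatLib.stalkTensorIso x M N).hom
  natl {M M'} f N a b := by
    have h := ConcreteCategory.congr_hom
      (KFlatLib.stalkTensorIso_naturality (x := x) f (𝟙 N)) (a ⊗ₜ[X.presheaf.stalk x] b)
    simp only [CategoryTheory.Functor.map_id, Category.comp_id] at h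
    exact h
  natr M {N N'} g a b := by
    have h := ConcreteCategory.congr_hom
      (KFlatLib.stalkTensorIso_naturality (x := x) (𝟙 M) g) (a ⊗ₜ[X.presheaf.stalk x] b)
    simp only [CategoryTheory.Functor.map_id, NatTrans.id_app, Category.id_comp] at h
    exact h

instance : PreservesFiniteLimits (pairing x).T :=
  inferInstanceAs (PreservesFiniteLimits (DerSch.stalkFunctor X x))

/-- The stalk of the structure module is free on one element. -/
def unitEquiv : X.presheaf.stalk x ≃ₗ[X.presheaf.stalk x] (Coh.structureModule X).presheaf.stalk x :=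
  LinearEquiv.ofBijective (LinearMap.toSpanSingleton (X.presheaf.stalk x) _ (H23.UnitSec.one x))
    ⟨fun a b h => sub_eq_zero.1 (H23.UnitSec.eq_zero_of_smul_one (a - b) (by rw [sub_smul]; exact sub_eq_zero.2 h)),
      fun m => Submodule.mem_span_singleton.1 ((H23.UnitSec.span_one x).ge (Submodule.mem_top : m ∈ ⊤))⟩

theorem isIso_ev_unit (G : X.Modules) : IsIso (HomEval.ev (pairing x) G (Coh.structureModule X)) := by
  refine HomEval.isIso_ev_unit (pairing x) G (H23.UnitSec.one x) (fun N => ?_) ?_
  · refine ⟨fun φ ψ h => ?_, fun n => ?_⟩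
    · refine ModuleCat.hom_ext (LinearMap.ext fun t => ?_)
      obtain ⟨r, rfl⟩ := (unitEquiv x).surjective t
      exact (map_smul φ.hom r (H23.UnitSec.one x)).trans
        ((congrArg (r • ·) h).trans (map_smul ψ.hom r (H23.UnitSec.one x)).symm)
    · refine ⟨ModuleCat.ofHom ((LinearMap.toSpanSingleton _ N n).comp (unitEquiv x).symm.toLinearMap), ?_⟩
      show (LinearMap.toSpanSingleton _ N n) ((unitEquiv x).symm (H23.UnitSec.one x)) = n
      rw [show (unitEquiv x).symm (H23.UnitSec.one x) = 1 from
        (LinearEquiv.symm_apply_eq _).2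
          (show H23.UnitSec.one x = (1 : X.presheaf.stalk x) • H23.UnitSec.one x from (one_smul _ _).symm)]
      exact one_smul _ n
  · let Z := (DerSch.stalkFunctor X x).obj ((hom (Coh.structureModule X)).obj G)
    have h1 : Function.Bijective fun z : Z => z ⊗ₜ[X.presheaf.stalk x] H23.UnitSec.one x := by
      have e : (fun z : Z => z ⊗ₜ[X.presheaf.stalk x] H23.UnitSec.one x) =
          ((TensorProduct.rid (X.presheaf.stalk x) Z).symm.trans
            (TensorProduct.congr (LinearEquiv.refl _ _) (unitEquiv x))) := funext fun z => by
        simp [unitEquiv]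
      rw [e]
      exact LinearEquiv.bijective _
    exact (ConcreteCategory.bijective_of_isIso
      (KFlatLib.stalkTensorIso x ((hom (Coh.structureModule X)).obj G) (Coh.structureModule X)).hom).comp h1

variable {U : Scheme.{u}} (j : U ⟶ X) [IsOpenImmersion j] (y : U)

/-- A morphism which is invertible near the point is invertible on the stalk. -/
theorem isIso_stalk_map {M N : X.Modules} (g : M ⟶ N) [IsIso ((Scheme.Modules.restrictFunctor j).map g)] :
    IsIso ((DerSch.stalkFunctor X (j y)).map g) := by
  have hb := ConcreteCategory.bijective_of_isIso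
    ((DerSch.stalkFunctor U y).map ((Scheme.Modules.restrictFunctor j).map g))
  exact (ConcreteCategory.isIso_iff_bijective _).2 ⟨KFlatLib.injective_stalk_of_restrict j _ _ hb.1,
    KFlatLib.surjective_stalk_of_restrict j _ _ hb.2⟩

theorem isIso_restrict_homologyMap {G : X.Modules} (I : InjectiveResolution G) {A B : X.Modules} (g : A ⟶ B)
    [IsIso ((Scheme.Modules.restrictFunctor j).map g)] (q : ℕ) :
    IsIso ((Scheme.Modules.restrictFunctor j).map (HomologicalComplex.homologyMap (cxMap I g) q)) := by
  haveI : (Scheme.Modules.restrictFunctor j).Additive := Functor.additive_of_preserves_binary_products _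
  haveI := ExtShLocal.preservesHomology_restrict j
  let R := Scheme.Modules.restrictFunctor j
  let φ := (R.mapHomologicalComplex _).map (cxMap I g)
  haveI : ∀ i, IsIso (φ.f i) := fun i => SheafHomY.isIso_restrict_homMap j g (I.cocomplex.X i)
  haveI : IsIso φ := HomologicalComplex.Hom.isIso_of_components φ
  haveI : IsIso (ShortComplex.homologyMap
      (R.mapShortComplex.map ((HomologicalComplex.shortComplexFunctor X.Modules (ComplexShape.up ℕ) q).map (cxMap I g)))) :=
    inferInstanceAs (IsIso (HomologicalComplex.homologyMap φ q))
  have h := ShortComplex.mapHomologyIso_hom_naturality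
    ((HomologicalComplex.shortComplexFunctor X.Modules (ComplexShape.up ℕ) q).map (cxMap I g)) R
  haveI : IsIso ((((cx I B).sc q).mapHomologyIso R).hom ≫ R.map (ShortComplex.homologyMap
      ((HomologicalComplex.shortComplexFunctor X.Modules (ComplexShape.up ℕ) q).map (cxMap I g)))) :=
    (congrArg (fun k => IsIso k) h).mp inferInstance
  exact IsIso.of_isIso_comp_left (((cx I B).sc q).mapHomologyIso R).hom (R.map (ShortComplex.homologyMap
    ((HomologicalComplex.shortComplexFunctor X.Modules (ComplexShape.up ℕ) q).map (cxMap I g))))

theorem isIso_ev_of_restrict (G : X.Modules) {A B : X.Modules} (g : A ⟶ B)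
    [IsIso ((Scheme.Modules.restrictFunctor j).map g)] :
    IsIso (HomEval.ev (pairing (j y)) G A) ↔ IsIso (HomEval.ev (pairing (j y)) G B) := by
  haveI : IsIso ((pairing (j y)).T.map g) := isIso_stalk_map j y g
  haveI := SheafHomY.isIso_restrict_homMap j g G
  haveI : IsIso ((pairing (j y)).T.map ((homMap g).app G)) := isIso_stalk_map j y ((homMap g).app G)
  refine ⟨HomEval.isIso_ev_of_isIso (pairing (j y)) G g, fun h => ?_⟩
  haveI := h
  haveI : IsIso (HomEval.pre (pairing (j y)) G g) := by
    rw [ConcreteCategory.isIso_iff_bijective]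
    exact ((Iso.homCongr (asIso ((pairing (j y)).T.map g)).symm (Iso.refl ((pairing (j y)).T.obj G))).bijective) |> fun hb => by
      convert hb using 1
      ext φ : 1
      simp [HomEval.pre, Iso.homCongr]
  haveI : IsIso ((pairing (j y)).T.map ((homMap g).app G) ≫ HomEval.ev (pairing (j y)) G A) := by
    rw [HomEval.ev_naturality]; infer_instance
  exact IsIso.of_isIso_comp_left ((pairing (j y)).T.map ((homMap g).app G)) _

theorem projective_freeMod (n : ℕ) : Projective ((DerSch.stalkFunctor X x).obj (FlatMod.freeMod X n)) := by
  haveI : Module.Free (X.presheaf.stalk x) ((Coh.structureModule X).presheaf.stalk x) :=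
    Module.Free.of_equiv (unitEquiv x)
  let T := (DerSch.stalkFunctor X x).obj (Coh.structureModule X)
  haveI hT : Projective T :=
    inferInstanceAs (Projective (ModuleCat.of (X.presheaf.stalk x) ((Coh.structureModule X).presheaf.stalk x)))
  haveI : PreservesColimit (Discrete.functor fun _ : Fin n => Coh.structureModule X) (DerSch.stalkFunctor X x) :=
    inferInstance
  haveI : Projective (∐ fun _ : Fin n => T) :=
    ⟨fun f e _ => ⟨Sigma.desc fun b => Projective.factorThru (Sigma.ι (fun _ : Fin n => T) b ≫ f) e,
      Sigma.hom_ext _ _ fun b => by simp⟩⟩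
  exact Projective.of_iso (PreservesCoproduct.iso (DerSch.stalkFunctor X x) fun _ : Fin n => Coh.structureModule X).symm
    ‹Projective (∐ fun _ : Fin n => T)›

end Groth.Agent.H9Misc.StalkHomExt
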