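import Groth.Agent.QCoh.RpushModel
import Groth.Agent.QCoh.RpushAbGod
import Groth.Agent.AModX.Res

/-! Vanishing of higher direct images from cohomology over affine opens, in all degrees. -/

set_option linter.style.haveILetI false
set_option backward.isDefEq.respectTransparency false
set_option backward.isDefEq.respectTransparency.types false

universe u

open CategoryTheory CategoryTheory.Limits AlgebraicGeometry TopologicalSpace

noncomputable section

namespace Groth.Agent.H9Misc.RpushZero

open Groth.Agent

variable {X S : Scheme.{u}}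

/-- A module without sections on affine opens is zero. -/
theorem isZero_of_affine {N : S.Modules} (h : ∀ V : S.Opens, IsAffineOpen V → Subsingleton Γ(N, V)) :
    IsZero N := by
  refine (IsZero.iff_id_eq_zero _).2 (Scheme.Modules.hom_ext _ _ fun U => ?_)
  ext a
  refine AModX.eq_of_locally _ _ fun p hp => ?_
  obtain ⟨_, ⟨W, hW, rfl⟩, hpW, hle⟩ :=
    S.isBasis_affineOpens.exists_subset_of_mem_open (show p ∈ (U : S.Opens) from hp) (U : S.Opens).2
  exact ⟨W, hle, hpW, (h W hW).elim _ _⟩

/-- Higher direct images vanish when the cohomology over all affine opens does. -/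
theorem isZero_Rpush [HasInjectiveResolutions X.Modules] (f : X ⟶ S) [QuasiCompact f] [QuasiSeparated f]
    {M : X.Modules} (hM : Coh.IsQCoh M) (p : ℕ)
    (h : ∀ V : S.Opens, IsAffineOpen V → Subsingleton (Coh.HH _ (M.restrict (f ⁻¹ᵁ V).ι) p)) :
    IsZero ((Coh.Rpush f p).obj M) := by
  refine isZero_of_affine fun V hV => ?_
  letI := QCoh.modHH (QCoh.rhoV f V) (M.restrict (f ⁻¹ᵁ V).ι) p
  obtain ⟨l⟩ := QCoh.nonempty_sections_HH (f := f) hM hV p
  haveI := h V hV
  exact l.toEquiv.subsingleton

/-- The abelian higher direct images vanish when the cohomology over all affine opens does. -/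
theorem isZero_RpushAb (f : X ⟶ S) [QuasiCompact f] [QuasiSeparated f] [HasInjectiveResolutions X.Modules]
    {M : X.Modules} (hM : Coh.IsQCoh M) (p : ℕ)
    (h : ∀ V : S.Opens, IsAffineOpen V → Subsingleton (Coh.HH _ (M.restrict (f ⁻¹ᵁ V).ι) p)) :
    IsZero ((Coh.RpushAb f p).obj (Coh.toAb M)) := by
  have h' := isZero_Rpush f hM p h
  have hz : ∀ (N : S.Modules), IsZero N → IsZero (Coh.toAb N) := fun N hN =>
    (QCoh.toAbFunctor S).map_isZero hN
  cases p with
  | zero =>
    obtain ⟨e⟩ := QCoh.nonempty_RpushAb_zero_iso f M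
    haveI := SpObjSS.enoughInjectives_of_hasInjectiveResolutions (C := X.Modules)
    haveI := QCoh.preservesFiniteLimits_push f
    exact (hz _ (h'.of_iso ((Scheme.Modules.pushforward f).rightDerivedZeroIsoSelf.app M).symm)).of_iso e
  | succ q =>
    obtain ⟨e⟩ := QCoh.nonempty_RpushAb_iso f M q
    obtain ⟨e'⟩ := QCoh.nonempty_Rpush_iso f M q
    exact (hz _ (h'.of_iso e'.symm)).of_iso e

end Groth.Agent.H9Misc.RpushZero
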