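import Groth.Agent.H9Misc.HomFlasque
import Groth.Agent.SiteBase.Rpush
import Groth.Agent.SpObjSS.Grothendieck
import Groth.Agent.KFlatLib.Scheme.Grothendieck
import Groth.Agent.SheafHomX.Coherent
import Groth.Prelude.Def_ModSite2

/-! The spectral sequence of relative Ext sheaves along a composite. -/

set_option linter.style.haveILetI false
set_option linter.unusedSectionVars false
set_option backward.isDefEq.respectTransparency false
set_option backward.isDefEq.respectTransparency.types false

universe u

open CategoryTheory CategoryTheory.Limits AlgebraicGeometry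
open scoped ZeroObject

noncomputable section

namespace Groth.Agent.H9Misc.RelExtSS

open Groth.Agent SpObjSS TriCat

variable {X Y Z : Scheme.{u}} (f : X ⟶ Y) (g : Y ⟶ Z) (F G : X.Modules)
  [ModSite.HasSheafHom (O := X.sheaf) F] [HasInjectiveResolutions (ModSite.Mod X.sheaf)]

theorem isFlasqueMod_push {N : X.Modules} (h : QCoh.IsFlasqueMod N) :
    QCoh.IsFlasqueMod ((Scheme.Modules.pushforward f).obj N) where
  epi i := h.epi ((TopologicalSpace.Opens.map f.base).map i.unop).op

omit [ModSite.HasSheafHom (O := X.sheaf) F] in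
/-- Push forward is left exact. -/
theorem additive_push : (Scheme.Modules.pushforward g).Additive :=
  (Scheme.Modules.pullbackPushforwardAdjunction g).right_adjoint_additive

/-- The internal hom into an injective is flasque. -/
theorem isFlasque_sheafHom_iso (I : X.Modules) [Injective I] :
    ∃ H : X.Modules, QCoh.IsFlasqueMod H ∧
      Nonempty (H ≅ (ModSite.sheafHom (O := X.sheaf) F).obj I) :=
  ⟨_, HomFlasque.isFlasqueMod_hom F I,
    ⟨((SheafHomX.adj F).rightAdjointUniq (ModSite.sheafHomAdj (O := X.sheaf) F)).app I⟩⟩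

theorem isRightAcyclic_push_sheafHom [HasInjectiveResolutions Y.Modules] (I : X.Modules) (hI : Injective I) :
    haveI : (Scheme.Modules.pushforward g).Additive :=
      (Scheme.Modules.pullbackPushforwardAdjunction g).right_adjoint_additive
    IsRightAcyclic (Scheme.Modules.pushforward g)
      ((Scheme.Modules.pushforward f).obj ((ModSite.sheafHom (O := X.sheaf) F).obj I)) := by
  intro i hi
  obtain ⟨j, rfl⟩ := Nat.exists_eq_succ_of_ne_zero hi.ne'
  haveI := hI
  obtain ⟨H, hH, ⟨e⟩⟩ := isFlasque_sheafHom_iso F I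
  exact (QCoh.isZero_Rpush_of_flasque g _ (isFlasqueMod_push f hH) j).of_iso
    ((Coh.Rpush g (j + 1)).mapIso ((Scheme.Modules.pushforward f).mapIso e.symm))

theorem exists_ss [HasInjectiveResolutions Y.Modules]
    [(ModSite.sheafHom (O := X.sheaf) F ⋙ Scheme.Modules.pushforward f).Additive]
    [(ModSite.sheafHom (O := X.sheaf) F ⋙ Scheme.Modules.pushforward (f ≫ g)).Additive] :
    ∃ (E : E₂CohomologicalSpectralSequence Z.Modules)
      (a : SpSeq.Abutment E (fun n : ℤ =>
        if 0 ≤ n then ((ModSite.sheafHom (O := X.sheaf) F ⋙ Scheme.Modules.pushforward (f ≫ g)).rightDerived n.toNat).obj G else (0 : Z.Modules))),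
      (∀ n : ℤ, a.IsFinite n) ∧ SpSeq.IsBounded E ∧
      ∀ p q : ℤ, Nonempty ((E.page 2 le_rfl).X (p, q) ≅
        (if 0 ≤ p ∧ 0 ≤ q then (Coh.Rpush g p.toNat).obj (((ModSite.sheafHom (O := X.sheaf) F ⋙ Scheme.Modules.pushforward f).rightDerived q.toNat).obj G)
          else (0 : Z.Modules))) := by
  haveI : HasInjectiveResolutions X.Modules := ‹HasInjectiveResolutions (ModSite.Mod X.sheaf)›
  haveI := SpObjSS.enoughInjectives_of_hasInjectiveResolutions (C := Y.Modules)
  haveI : (Scheme.Modules.pushforward g).Additive :=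
    (Scheme.Modules.pullbackPushforwardAdjunction g).right_adjoint_additive
  haveI : PreservesFiniteLimits (Scheme.Modules.pushforward g) := QCoh.preservesFiniteLimits_push g
  let T : X.Modules ⥤ Y.Modules := ModSite.sheafHom (O := X.sheaf) F ⋙ Scheme.Modules.pushforward f
  haveI : T.Additive := ‹(ModSite.sheafHom (O := X.sheaf) F ⋙ Scheme.Modules.pushforward f).Additive›
  haveI : EnoughInjectives X.Modules := SpObjSS.enoughInjectives_of_hasInjectiveResolutions
  let W : X.Modules ⥤ Z.Modules := ModSite.sheafHom (O := X.sheaf) F ⋙ Scheme.Modules.pushforward (f ≫ g)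
  haveI : W.Additive := ‹(ModSite.sheafHom (O := X.sheaf) F ⋙ Scheme.Modules.pushforward (f ≫ g)).Additive›
  let η : T ⋙ Scheme.Modules.pushforward g ≅ W :=
    Functor.associator _ _ _ ≪≫ Functor.isoWhiskerLeft _ (Scheme.Modules.pushforwardComp f g)
  exact exists_grothendieck_spectralSequence' T (Scheme.Modules.pushforward g)
    (fun Q hQ => isRightAcyclic_push_sheafHom f g F Q hQ) G
    (fun n => (W.rightDerived n).obj G)
    (fun n => ⟨(SiteBase.rightDerivedCongr η n).app G⟩)
    (fun p q => (Coh.Rpush g p).obj ((T.rightDerived q).obj G))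
    (fun p q => ⟨Iso.refl _⟩) 0 (isZero_zero _)

end Groth.Agent.H9Misc.RelExtSS
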