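import Groth.Agent.H9Misc.SSBasic

/-! A first quadrant spectral sequence whose columns other than the zeroth vanish in low rows. -/

set_option linter.style.haveILetI false

universe v u

open CategoryTheory CategoryTheory.Limits

namespace Groth.Agent.H9Misc.SSDegen

variable {C : Type u} [Category.{v} C] [Abelian C] {E : E₂CohomologicalSpectralSequence C} {H : ℤ → C}

/-- If the second page vanishes outside the first quadrant and in the columns `> 0` of the rows `≤ n`,
then the abutment in degree `n` is the term `(0, n)` of the second page. -/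
theorem nonempty_iso (n : ℤ) (a : SpSeq.Abutment E H) (hfin : a.IsFinite n)
    (hquad : ∀ x : ℤ × ℤ, x.1 < 0 ∨ x.2 < 0 → IsZero ((E.page 2 le_rfl).X x))
    (hcol : ∀ x : ℤ × ℤ, 0 < x.1 → x.2 ≤ n → IsZero ((E.page 2 le_rfl).X x)) :
    Nonempty (H n ≅ (E.page 2 le_rfl).X (0, n)) := by
  have hst : SpSeq.StationaryAt E (0, n) 2 := by
    refine ⟨le_rfl, fun r h₀ hr => ⟨?_, ?_⟩⟩
    · exact (SSBasic.isZero_le E 2 r le_rfl hr _ (hquad _ (Or.inl (by simp; omega)))).eq_of_src _ _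
    · exact (SSBasic.isZero_le E 2 r le_rfl hr _ (hcol _ (by simp; omega) (by simp; omega))).eq_of_tgt _ _
  have hm : ∀ (p m : ℤ), m = n → Nonempty (SpSeq.grPiece (a.fil m) (a.anti m) p ≅
      SpSeq.grPiece (a.fil n) (a.anti n) p) := by rintro p m rfl; exact ⟨Iso.refl _⟩
  have hz : ∀ p : ℤ, p ≠ 0 → IsZero (SpSeq.grPiece (a.fil n) (a.anti n) p) := by
    intro p hp
    obtain ⟨i⟩ := hm p (p + (n - p)) (by ring)
    refine (SSBasic.isZero_le E 2 _ le_rfl (a.stat (p, n - p)).1 _ ?_).of_iso (a.β (p, n - p) ≪≫ i).symm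
    rcases lt_or_gt_of_ne hp with h | h
    · exact hquad _ (Or.inl h)
    · exact hcol _ h (by simp; omega)
  obtain ⟨i₀⟩ := hm 0 (0 + n) (by ring)
  obtain ⟨e₀⟩ := SSBasic.nonempty_iso_of_stationary E hst (a.stat (0, n))
  obtain ⟨⟨lo, hlo⟩, ⟨hi, hhi⟩⟩ := hfin
  replace hlo : a.fil n lo = ⊤ := hlo
  replace hhi : a.fil n hi = ⊥ := hhi
  have hF0 : a.fil n 0 = ⊤ := by
    rcases le_or_gt lo 0 with h | h
    · rw [← SSBasic.const_of_isZero_gr (a.fil n) (a.anti n) lo 0 h fun p _ hp => hz p hp.ne]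
      exact hlo
    · exact top_le_iff.1 (hlo.symm.le.trans (a.anti n h.le))
  have hF1 : a.fil n 1 = ⊥ := by
    rcases le_or_gt hi 1 with h | h
    · exact le_bot_iff.1 ((a.anti n h).trans hhi.le)
    · rw [SSBasic.const_of_isZero_gr (a.fil n) (a.anti n) 1 hi h.le fun p hp _ => hz p (by omega)]
      exact hhi
  have h0 : (a.fil n (0 + 1)).ofLE (a.fil n 0) (a.anti n (Int.le_add_one le_rfl)) = 0 := by
    refine IsZero.eq_of_src ?_ _ _
    rw [zero_add, hF1]
    exact (isZero_zero C).of_iso Subobject.botCoeIsoZero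
  haveI : IsIso (cokernel.π ((a.fil n (0 + 1)).ofLE (a.fil n 0) (a.anti n (Int.le_add_one le_rfl)))) := by
    haveI : Mono (cokernel.π ((a.fil n (0 + 1)).ofLE (a.fil n 0) (a.anti n (Int.le_add_one le_rfl)))) :=
      (ShortComplex.exact_iff_mono (ShortComplex.mk _ _ (cokernel.condition _)) h0).1
        (ShortComplex.exact_cokernel _)
    exact isIso_of_mono_of_epi _
  haveI : IsIso (a.fil n 0).arrow := by rw [hF0]; infer_instance
  exact ⟨(asIso (a.fil n 0).arrow).symm ≪≫
    asIso (cokernel.π ((a.fil n (0 + 1)).ofLE (a.fil n 0) (a.anti n (Int.le_add_one le_rfl)))) ≪≫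
    i₀.symm ≪≫ (a.β (0, n)).symm ≪≫ e₀.symm⟩

end Groth.Agent.H9Misc.SSDegen
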