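import Groth.Agent.H9Misc.RelExtTensor
import Groth.Agent.H9Misc.RelExtSS
import Groth.Agent.H9Misc.SSDegen
import Groth.Agent.H28.RegTwist
import Groth.Agent.H28.KRRReg
import Groth.Agent.AmpleVan.RelCrit
import Groth.Agent.QCoh.RpushAbGod
import Groth.Agent.QCoh.RpushGod

/-! Vanishing of higher direct images of high twists along a projective morphism. -/

set_option linter.style.haveILetI false
set_option linter.unusedSectionVars false
set_option backward.isDefEq.respectTransparency false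
set_option backward.isDefEq.respectTransparency.types false
set_option maxHeartbeats 800000

universe u

open CategoryTheory CategoryTheory.Limits AlgebraicGeometry

noncomputable section

namespace Groth.Agent.H9Misc.RelExtTwistVanish

open Groth.Agent

/-- Higher direct images of modules vanish if the abelian ones do. -/
theorem isZero_Rpush_of_RpushAb {Y Z : Scheme.{u}} (g : Y ⟶ Z) [HasInjectiveResolutions Y.Modules]
    (M : Y.Modules) (q : ℕ) (h : IsZero ((Coh.RpushAb g (q + 1)).obj (Coh.toAb M))) :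
    IsZero ((Coh.Rpush g (q + 1)).obj M) := by
  obtain ⟨e⟩ := QCoh.nonempty_RpushAb_iso g M q
  obtain ⟨e'⟩ := QCoh.nonempty_Rpush_iso g M q
  exact (AmpleVan.RelCrit.isZero_of_toAb (h.of_iso e.symm)).of_iso e'

/-- The restriction of `O(1)` to a closed subscheme of `P^m_Z` is ample over affine opens of the base. -/
theorem isAmple_pullback_restrict {m : ℕ} {Z Y : Scheme.{u}} [IsProper (KRR.pr m Z)]
    (e' : Y ⟶ KRR.PY m Z) [IsClosedImmersion e'] (W : Z.Opens) (hW : IsAffineOpen W) :
    CohB1.IsAmple (((Scheme.Modules.pullback e').obj (Twist.twistOver m Z 1)).restrict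
      ((e' ≫ KRR.pr m Z) ⁻¹ᵁ W).ι) := by
  let V : (KRR.PY m Z).Opens := KRR.pr m Z ⁻¹ᵁ W
  haveI : CompactSpace (e' ⁻¹ᵁ V).toScheme := isCompact_iff_compactSpace.mp
    (QuasiCompact.isCompact_preimage (f := e' ≫ KRR.pr m Z) _ W.2 hW.isCompact)
  haveI : IsClosedImmersion (e' ∣_ V) := IsZariskiLocalAtTarget.restrict ‹IsClosedImmersion e'› V
  have h := H28.RegTwist.isAmple_pull (e' ∣_ V) (H28.RegTwist.isAmple_restrict (n := m) (Y := Z) W hW)
  exact AmpleX.isAmple_of_iso
    ((Scheme.Modules.pullback (e' ∣_ V)).mapIso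
        ((Scheme.Modules.restrictFunctorIsoPullback V.ι).app (Twist.twistOver m Z 1)) ≪≫
      (Scheme.Modules.pullbackComp (e' ∣_ V) V.ι).app _ ≪≫
      (Scheme.Modules.pullbackCongr (morphismRestrict_ι e' V)).app _ ≪≫
      ((Scheme.Modules.pullbackComp (e' ⁻¹ᵁ V).ι e').app _).symm ≪≫
      ((Scheme.Modules.restrictFunctorIsoPullback (e' ⁻¹ᵁ V).ι).app _).symm) h

/-- High twists of finitely many coherent modules have no higher direct images. -/
theorem exists_isZero_Rpush_twist {m : ℕ} {Z Y : Scheme.{u}} [IsNoetherian Z] [HasInjectiveResolutions Y.Modules]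
    (e' : Y ⟶ KRR.PY m Z) [IsClosedImmersion e'] (p : ℕ) (M : ℕ → Y.Modules) (hM : ∀ b, Coh.IsCoh (M b)) :
    ∃ l₀ : ℕ, ∀ l : ℕ, l₀ ≤ l → ∀ b, b ≤ p → ∀ q : ℕ,
      IsZero ((Coh.Rpush (e' ≫ KRR.pr m Z) (q + 1)).obj
        (CohB1.tensorMod (M b) ((Scheme.Modules.pullback e').obj (Twist.twistOver m Z (l : ℤ))))) := by
  haveI : IsProper (KRR.pr m Z) :=
    MorphismProperty.pullback_snd _ _ (PnCoh.Chow.isProper_toSpec m (ULift.{u} ℤ))
  have hL : PicF.IsInvertible ((Scheme.Modules.pullback e').obj (Twist.twistOver m Z 1)) :=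
    PicClLib.isInvertible_pullback e' (H28.KRRReg.isInvertible_twistOver 1)
  choose d hd using fun b => AmpleVan.RelVanish.exists_vanishing (e' ≫ KRR.pr m Z) hL
    (fun W hW => isAmple_pullback_restrict e' W hW) (hM b)
  refine ⟨(Finset.range (p + 1)).sup d, fun l hl b hb q => ?_⟩
  obtain ⟨t⟩ := H28.RegTwist.tensorPow_twistOver (n := m) (Y := Z) l
  obtain ⟨t'⟩ := AmpleVan.RelVanish.pullback_tensorPow e' (Twist.twistOver m Z 1) l
  obtain ⟨t''⟩ := AmpleVan.RelVanish.tensor_congr (Iso.refl (M b))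
    ((Scheme.Modules.pullback e').mapIso t.symm ≪≫ t')
  refine (isZero_Rpush_of_RpushAb _ _ q (hd b l ?_ (q + 1) q.succ_pos)).of_iso
    ((Coh.Rpush (e' ≫ KRR.pr m Z) (q + 1)).mapIso t'')
  exact le_trans (Finset.le_sup (f := d) (Finset.mem_range.2 (by omega))) hl

end Groth.Agent.H9Misc.RelExtTwistVanish
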