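import Groth.Agent.H9Misc.DRingTorDevissage

/-! Dévissage from the top degree. -/

set_option linter.style.haveILetI false

universe u

open CategoryTheory CategoryTheory.Category CategoryTheory.Limits
open CategoryTheory.Pretriangulated

attribute [local instance] HasDerivedCategory.standard

namespace Groth.Agent.H9Misc.DRingDesc

open DRingTor

variable {A : Type u} [CommRing A] (P : Dual.D A → Prop)
  (hiso : ∀ {X Y : Dual.D A}, (X ≅ Y) → P X → P Y)
  (hext : ∀ T : Triangle (Dual.D A), T ∈ distinguishedTriangles → P T.obj₁ → P T.obj₃ → P T.obj₂)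

include hiso in
lemma single_iff (c : ℤ) (M : ModuleCat.{u} A) :
    P (toD'.obj ((sg c).obj M)) ↔ P ((DerivedCategory.singleFunctor (ModuleCat.{u} A) c).obj M) :=
  ⟨hiso ((DerivedCategory.singleFunctorIsoCompQ (ModuleCat.{u} A) c).app M).symm,
    hiso ((DerivedCategory.singleFunctorIsoCompQ (ModuleCat.{u} A) c).app M)⟩

include hiso hext in
/-- A property closed under extensions propagates from the terms of a bounded above complex. -/
theorem of_terms (m : ℤ) : ∀ (k : ℕ) (b : ℤ), b + 1 ≤ m + k → ∀ K : DRing.Cx A,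
    DRing.VanishesAbove K b →
    (∀ i, m ≤ i → i ≤ b → P ((DerivedCategory.singleFunctor (ModuleCat.{u} A) i).obj (K.X i))) →
    (∀ K' : DRing.Cx A, (∀ i, m ≤ i → IsZero (K'.X i)) →
      (∀ i, IsZero (K.X i) → IsZero (K'.X i)) → P (toD'.obj K')) →
    P (toD'.obj K) := by
  intro k
  induction k with
  | zero => exact fun b hb K hz _ hbase => hbase K (fun i hi => hz i (by omega)) fun i h => h
  | succ k ih =>
    intro b hb K hz hK hbase
    rcases lt_or_ge b m with hbm | hbm
    · exact hbase K (fun i hi => hz i (by omega)) fun i h => h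
    let ι : (sg b).obj (K.X b) ⟶ K := HomologicalComplex.mkHomFromSingle (𝟙 _)
      fun i (hi : b + 1 = i) => (hz i (by omega)).eq_of_tgt _ _
    have hιb : ι.f b = (HomologicalComplex.singleObjXSelf (ComplexShape.up ℤ) b (K.X b)).hom := by simp [ι]
    haveI : ∀ i, Mono (ι.f i) := fun i => by
      rcases eq_or_ne i b with rfl | hi
      · rw [hιb]
        infer_instance
      · exact ⟨fun g h _ => (HomologicalComplex.isZero_single_obj_X _ _ _ _ hi).eq_of_tgt g h⟩
    haveI : Mono ι := HomologicalComplex.mono_of_mono_f ι inferInstance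
    let S := ShortComplex.mk ι (cokernel.π ι) (cokernel.condition ι)
    have hS : S.ShortExact :=
      { exact := ShortComplex.exact_of_g_is_cokernel _ (cokernelIsCokernel ι) }
    have hS' := fun i : ℤ => hS.map_of_exact (HomologicalComplex.eval (ModuleCat.{u} A) (ComplexShape.up ℤ) i)
    have hb' : IsZero ((cokernel ι).X b) := by
      haveI : Epi ((cokernel.π ι).f b) := (hS' b).epi_g
      haveI : Epi (ι.f b) := by rw [hιb]; infer_instance
      refine IsZero.of_epi_eq_zero ((cokernel.π ι).f b) ((cancel_epi (ι.f b)).1 ?_)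
      rw [← HomologicalComplex.comp_f, cokernel.condition, comp_zero]
      rfl
    have hne : ∀ i, i ≠ b → IsIso ((cokernel.π ι).f i) := fun i hi => by
      haveI : Epi ((cokernel.π ι).f i) := (hS' i).epi_g
      haveI : Mono ((cokernel.π ι).f i) := (hS' i).exact.mono_g
        ((HomologicalComplex.isZero_single_obj_X (ComplexShape.up ℤ) b (K.X b) i hi).eq_of_src _ _)
      exact isIso_of_mono_of_epi _
    have hsub : ∀ i, IsZero (K.X i) → IsZero ((cokernel ι).X i) := fun i h => by
      rcases eq_or_ne i b with rfl | hib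
      · exact hb'
      · haveI := hne i hib
        exact h.of_iso (asIso ((cokernel.π ι).f i)).symm
    have h₃ : P (toD'.obj (cokernel ι)) := by
      refine ih (b - 1) (by omega) (cokernel ι) (fun i hi => ?_) (fun i hi hi' => ?_)
        fun K' h h' => hbase K' h fun i hz' => h' i (hsub i hz')
      · rcases eq_or_ne i b with rfl | hib
        · exact hb'
        · exact hsub i (hz i (by omega))
      · haveI := hne i (by omega)
        exact hiso ((DerivedCategory.singleFunctor (ModuleCat.{u} A) i).mapIso (asIso ((cokernel.π ι).f i)))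
          (hK i hi (by omega))
    exact hext (DerivedCategory.triangleOfSES hS) (DerivedCategory.triangleOfSES_distinguished hS)
      ((single_iff P hiso b _).2 (hK b hbm le_rfl)) h₃

include hiso hext in
/-- A property closed under extensions propagates from the cohomology of a bounded above complex. -/
theorem of_homology (m : ℤ) : ∀ (k : ℕ) (b : ℤ), b + 1 ≤ m + k → ∀ K : DRing.Cx A,
    (∀ i, b < i → IsZero (K.homology i)) →
    (∀ i, m ≤ i → i ≤ b → P ((DerivedCategory.singleFunctor (ModuleCat.{u} A) i).obj (K.homology i))) →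
    (∀ K' : DRing.Cx A, (∀ i, m ≤ i → IsZero (K'.homology i)) →
      (∀ i, IsZero (K.homology i) → IsZero (K'.homology i)) → P (toD'.obj K')) →
    P (toD'.obj K) := by
  intro k
  induction k with
  | zero => exact fun b hb K hz _ hbase => hbase K (fun i hi => hz i (by omega)) fun i h => h
  | succ k ih =>
    intro b hb K hz hK hbase
    rcases lt_or_ge b m with hbm | hbm
    · exact hbase K (fun i hi => hz i (by omega)) fun i h => h
    let eι : ∀ i, i ≤ b - 1 → ((K.truncLE (b - 1)).homology i ≅ K.homology i) := fun i hi =>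
      haveI := K.quasiIsoAt_ιTruncLE (b - 1) i hi
      isoOfQuasiIsoAt (K.ιTruncLE (b - 1)) i
    have hsub : ∀ i, IsZero (K.homology i) → IsZero ((K.truncLE (b - 1)).homology i) := fun i h => by
      rcases lt_or_ge (b - 1) i with hi | hi
      · exact CochainComplex.isZero_of_isLE _ (b - 1) i hi
      · exact h.of_iso (eι i hi)
    have h₁ : P (toD'.obj (K.truncLE (b - 1))) :=
      ih (b - 1) (by omega) _ (fun i hi => CochainComplex.isZero_of_isLE _ (b - 1) i hi)
        (fun i hi hi' => hiso ((DerivedCategory.singleFunctor (ModuleCat.{u} A) i).mapIso (eι i hi').symm)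
          (hK i hi (by omega)))
        fun K' h h' => hbase K' h fun i hz' => h' i (hsub i hz')
    let eπ : ∀ i, b ≤ i → (K.homology i ≅ (K.truncGE b).homology i) := fun i hi =>
      haveI := K.quasiIsoAt_πTruncGE b i hi
      isoOfQuasiIsoAt (K.πTruncGE b) i
    haveI : (K.truncGE b).IsLE b := (CochainComplex.isLE_iff _ b).2 fun i hi =>
      (HomologicalComplex.exactAt_iff_isZero_homology _ i).2 ((hz i hi).of_iso (eπ i hi.le).symm)
    obtain ⟨Y, ⟨eY⟩⟩ := DerivedCategory.exists_iso_singleFunctor_obj_of_isGE_of_isLE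
      (DerivedCategory.Q.obj (K.truncGE b)) b
    let eY' : toD'.obj ((sg b).obj Y) ≅ toD'.obj (K.truncGE b) :=
      ((DerivedCategory.singleFunctorIsoCompQ (ModuleCat.{u} A) b).app Y).symm ≪≫ eY.symm
    obtain ⟨eH⟩ := hd_iso eY'.symm b
    obtain ⟨eH'⟩ := hd_iso (Iso.refl (toD'.obj ((sg b).obj Y))) b
    have h₃ : P (toD'.obj (K.truncGE b)) := hiso eY' ((single_iff P hiso b Y).2
      (hiso ((DerivedCategory.singleFunctor (ModuleCat.{u} A) b).mapIso (eπ b le_rfl ≪≫ eH.symm ≪≫ eH' ≪≫
        HomologicalComplex.singleObjHomologySelfIso (ComplexShape.up ℤ) b Y)) (hK b hbm le_rfl)))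
    have hS := K.shortComplexTruncLE_shortExact (b - 1)
    exact hext (DerivedCategory.triangleOfSES hS) (DerivedCategory.triangleOfSES_distinguished hS) h₁
      (hiso (asIso (toD'.map (K.shortComplexTruncLEX₃ToTruncGE (b - 1) b (by omega)))).symm h₃)

end Groth.Agent.H9Misc.DRingDesc
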