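import Groth.Agent.H9Misc.DRingPerfect
import Groth.Agent.H9Misc.DRingDesc
import Groth.Agent.S2067
import Groth.Agent.S2068

/-! Closure properties of pseudo-coherent and perfect objects over a ring. -/

set_option linter.style.haveILetI false

universe u

open CategoryTheory CategoryTheory.Category CategoryTheory.Limits
open CategoryTheory.Pretriangulated

attribute [local instance] HasDerivedCategory.standard

namespace Groth.Agent.H9Misc.DRingPC

open DRingTor

variable {A : Type u} [CommRing A]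

lemma mono {m n : ℤ} (h : m ≤ n) {K : Dual.D A} (hK : DRing.IsPseudoCoherent A m K) :
    DRing.IsPseudoCoherent A n K := by
  obtain ⟨E, a, b, α, hz, hf, hi, he⟩ := hK
  refine ⟨E, a, b, α, hz, hf, fun i hni => hi i (by omega), ?_⟩
  rcases h.eq_or_lt with rfl | hlt
  · exact he
  · haveI := hi n hlt
    infer_instance

lemma of_iso {m : ℤ} {K L : Dual.D A} (e : K ≅ L) (hK : DRing.IsPseudoCoherent A m K) :
    DRing.IsPseudoCoherent A m L := by
  obtain ⟨E, a, b, α, hz, hf, hi, he⟩ := hK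
  refine ⟨E, a, b, α ≫ e.hom, hz, hf, fun i h => ?_, ?_⟩
  · haveI := hi i h
    rw [Functor.map_comp]
    infer_instance
  · haveI := he
    rw [Functor.map_comp]
    infer_instance

lemma of_iso' {K L : Dual.D A} (e : K ≅ L) (hK : DRing.IsPseudoCoherent' A K) :
    DRing.IsPseudoCoherent' A L :=
  let ⟨E, b, hz, hf, ⟨e'⟩⟩ := hK
  ⟨E, b, hz, hf, ⟨e' ≪≫ e⟩⟩

lemma isPerfect_of_iso {K L : Dual.D A} (e : K ≅ L) (hK : DRing.IsPerfect A K) : DRing.IsPerfect A L :=
  let ⟨E, a, b, hz, hf, ⟨e'⟩⟩ := hK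
  ⟨E, a, b, hz, hf, ⟨e' ≪≫ e⟩⟩

lemma of_vanish {m : ℤ} (K : Dual.D A)
    (h : ∀ i, m ≤ i → IsZero ((DerivedCategory.homologyFunctor (ModuleCat.{u} A) i).obj K)) :
    DRing.IsPseudoCoherent A m K := by
  let E : DRing.Cx A := (sg 0).obj (ModuleCat.of A PUnit.{u + 1})
  have hz : ∀ i, IsZero (E.X i) := fun i => by
    rcases eq_or_ne i 0 with rfl | hi
    · exact (ModuleCat.isZero_of_subsingleton _).of_iso (HomologicalComplex.singleObjXSelf _ _ _)
    · exact HomologicalComplex.isZero_single_obj_X _ _ _ _ hi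
  have hH : ∀ i, IsZero ((DerivedCategory.homologyFunctor (ModuleCat.{u} A) i).obj (DRing.toD E)) := fun i =>
    (ShortComplex.isZero_homology_of_isZero_X₂ _ (hz i)).of_iso
      ((DerivedCategory.homologyFunctorFactors (ModuleCat.{u} A) i).app E)
  refine ⟨E, 0, 0, 0, fun i _ => hz i, fun i => ?_, fun i hi => ⟨0, (hH i).eq_of_src _ _, (h i hi.le).eq_of_src _ _⟩,
    ⟨fun f g _ => (h m le_rfl).eq_of_src f g⟩⟩
  haveI := ModuleCat.subsingleton_of_isZero (hz i)
  exact ⟨inferInstance, inferInstance⟩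

lemma exists_bound {m : ℤ} {K : Dual.D A} (hK : DRing.IsPseudoCoherent A m K) :
    ∃ b : ℤ, ∀ i, b < i → IsZero ((DerivedCategory.homologyFunctor (ModuleCat.{u} A) i).obj K) := by
  obtain ⟨E, a, b, α, hz, hf, hi, -⟩ := hK
  refine ⟨max b m, fun i hbi => ?_⟩
  haveI := hi i (by omega)
  exact ((ShortComplex.isZero_homology_of_isZero_X₂ _ (hz i (Or.inr (by omega)))).of_iso
    ((DerivedCategory.homologyFunctorFactors (ModuleCat.{u} A) i).app E)).of_iso
      (asIso ((DerivedCategory.homologyFunctor (ModuleCat.{u} A) i).map α)).symm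

lemma pc'_iff (K : Dual.D A) : DRing.IsPseudoCoherent' A K ↔ ∀ m : ℤ, DRing.IsPseudoCoherent A m K :=
  (Groth.Agent.S2066.result K).1.symm

lemma shift {m : ℤ} {K : Dual.D A} (hK : DRing.IsPseudoCoherent A m K) (n : ℤ) :
    DRing.IsPseudoCoherent A (m - n) (K⟦n⟧) := by
  obtain ⟨E, a, b, α, hz, hf, hi, he⟩ := hK
  let F := DerivedCategory.homologyFunctor (ModuleCat.{u} A)
  let β : DRing.toD (E⟦n⟧) ⟶ K⟦n⟧ := ((DerivedCategory.Q.commShiftIso n).app E).hom ≫ α⟦n⟧'
  have key : ∀ i : ℤ, Arrow.mk ((F i).map (α⟦n⟧')) ≅ Arrow.mk ((F (i + n)).map α) := fun i =>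
    Arrow.isoMk (((DerivedCategory.homologyFunctor (ModuleCat.{u} A) 0).shiftIso n i (i + n) (by omega)).app _)
      (((DerivedCategory.homologyFunctor (ModuleCat.{u} A) 0).shiftIso n i (i + n) (by omega)).app _)
      (((DerivedCategory.homologyFunctor (ModuleCat.{u} A) 0).shiftIso n i (i + n) (by omega)).hom.naturality α).symm
  refine ⟨E⟦n⟧, a - n, b - n, β, fun i h => hz (i + n) (by omega), fun i => hf (i + n), fun i h => ?_, ?_⟩
  · haveI : IsIso ((F i).map (α⟦n⟧')) :=
      ((MorphismProperty.isomorphisms (ModuleCat.{u} A)).arrow_mk_iso_iff (key i)).2 (hi (i + n) (by omega))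
    show IsIso ((F i).map β)
    rw [Functor.map_comp]
    infer_instance
  · have he' : Epi ((F (m - n + n)).map α) := by rw [sub_add_cancel]; exact he
    haveI : Epi ((F (m - n)).map (α⟦n⟧')) :=
      ((MorphismProperty.epimorphisms (ModuleCat.{u} A)).arrow_mk_iso_iff (key (m - n))).2 he'
    show Epi ((F (m - n)).map β)
    rw [Functor.map_comp]
    infer_instance

lemma shift' {K : Dual.D A} (hK : DRing.IsPseudoCoherent' A K) (n : ℤ) :
    DRing.IsPseudoCoherent' A (K⟦n⟧) := by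
  rw [pc'_iff] at hK ⊢
  intro m
  have := shift (hK (m + n)) n
  rwa [add_sub_cancel_right] at this

lemma isPerfect_shift {K : Dual.D A} (hK : DRing.IsPerfect A K) (n : ℤ) : DRing.IsPerfect A (K⟦n⟧) := by
  obtain ⟨E, a, b, hz, hf, ⟨e⟩⟩ := hK
  exact ⟨E⟦n⟧, a - n, b - n, fun i h => hz (i + n) (by omega), fun i => hf (i + n),
    ⟨(DerivedCategory.Q.commShiftIso n).app E ≪≫ (shiftFunctor (Dual.D A) n).mapIso e⟩⟩

/-- `M` in degree `i` is a shift of `M`. -/
noncomputable def singleShiftIso (i : ℤ) (M : ModuleCat.{u} A) :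
    (Dual.inD A M)⟦-i⟧ ≅ (DerivedCategory.singleFunctor (ModuleCat.{u} A) i).obj M :=
  ((DerivedCategory.singleFunctors (ModuleCat.{u} A)).shiftIso (-i) i 0 (by omega)).app M

lemma single_of_module {m i : ℤ} {M : ModuleCat.{u} A} (h : DRing.IsPseudoCoherentModule A (m - i) M) :
    DRing.IsPseudoCoherent A m ((DerivedCategory.singleFunctor (ModuleCat.{u} A) i).obj M) := by
  have := of_iso (singleShiftIso i M) (shift h (-i))
  rwa [show m - i - -i = m by ring] at this

lemma single_of_module' {i : ℤ} {M : ModuleCat.{u} A} (h : DRing.IsPseudoCoherentModule' A M) :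
    DRing.IsPseudoCoherent' A ((DerivedCategory.singleFunctor (ModuleCat.{u} A) i).obj M) :=
  of_iso' (singleShiftIso i M) (shift' h (-i))

lemma isPerfect_single {i : ℤ} {M : ModuleCat.{u} A} (h : DRing.IsPerfectModule A M) :
    DRing.IsPerfect A ((DerivedCategory.singleFunctor (ModuleCat.{u} A) i).obj M) :=
  isPerfect_of_iso (singleShiftIso i M) (isPerfect_shift h (-i))

section Triangle

variable (T : Triangle (Dual.D A)) (hT : T ∈ distinguishedTriangles)

include hT

lemma obj₃' (h₁ : DRing.IsPseudoCoherent' A T.obj₁) (h₂ : DRing.IsPseudoCoherent' A T.obj₂) :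
    DRing.IsPseudoCoherent' A T.obj₃ := by
  rw [pc'_iff] at h₁ h₂ ⊢
  exact fun m => (Groth.Agent.S2067.result T hT m).1 (h₁ _) (h₂ _)

lemma obj₂' (h₁ : DRing.IsPseudoCoherent' A T.obj₁) (h₃ : DRing.IsPseudoCoherent' A T.obj₃) :
    DRing.IsPseudoCoherent' A T.obj₂ := by
  rw [pc'_iff] at h₁ h₃ ⊢
  exact fun m => (Groth.Agent.S2067.result T hT m).2.1 (h₁ _) (h₃ _)

lemma obj₁' (h₂ : DRing.IsPseudoCoherent' A T.obj₂) (h₃ : DRing.IsPseudoCoherent' A T.obj₃) :
    DRing.IsPseudoCoherent' A T.obj₁ := by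
  rw [pc'_iff] at h₂ h₃ ⊢
  intro m
  have := (Groth.Agent.S2067.result T hT (m - 1)).2.2
  rw [sub_add_cancel] at this
  exact this (h₂ _) (h₃ _)

lemma isPerfect₃ (h₁ : DRing.IsPerfect A T.obj₁) (h₂ : DRing.IsPerfect A T.obj₂) :
    DRing.IsPerfect A T.obj₃ := by
  rw [DRingPerfect.isPerfect_iff] at h₁ h₂ ⊢
  obtain ⟨p₁, a₁, b₁, k₁⟩ := h₁
  obtain ⟨p₂, a₂, b₂, k₂⟩ := h₂
  exact ⟨obj₃' T hT p₁ p₂, min (a₁ - 1) a₂, max (b₁ - 1) b₂,
    obj₃_of T hT (DRingTor.mono (by omega) (by omega) k₁) (DRingTor.mono (by omega) (by omega) k₂)⟩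

lemma isPerfect₂ (h₁ : DRing.IsPerfect A T.obj₁) (h₃ : DRing.IsPerfect A T.obj₃) :
    DRing.IsPerfect A T.obj₂ := by
  rw [DRingPerfect.isPerfect_iff] at h₁ h₃ ⊢
  obtain ⟨p₁, a₁, b₁, k₁⟩ := h₁
  obtain ⟨p₃, a₃, b₃, k₃⟩ := h₃
  exact ⟨obj₂' T hT p₁ p₃, min a₁ a₃, max b₁ b₃,
    obj₂_of T hT (DRingTor.mono (by omega) (by omega) k₁) (DRingTor.mono (by omega) (by omega) k₃)⟩

lemma isPerfect₁ (h₂ : DRing.IsPerfect A T.obj₂) (h₃ : DRing.IsPerfect A T.obj₃) :
    DRing.IsPerfect A T.obj₁ := by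
  rw [DRingPerfect.isPerfect_iff] at h₂ h₃ ⊢
  obtain ⟨p₂, a₂, b₂, k₂⟩ := h₂
  obtain ⟨p₃, a₃, b₃, k₃⟩ := h₃
  exact ⟨obj₁' T hT p₂ p₃, min (a₂ - 1) a₃ + 1, max (b₂ - 1) b₃ + 1,
    obj₁_of T hT (DRingTor.mono (by omega) (by omega) k₂) (DRingTor.mono (by omega) (by omega) k₃)⟩

end Triangle

lemma isZero_summand {K L : Dual.D A} [HasBinaryBiproduct K L] (i : ℤ)
    (h : IsZero ((DerivedCategory.homologyFunctor (ModuleCat.{u} A) i).obj (K ⊞ L))) :
    IsZero ((DerivedCategory.homologyFunctor (ModuleCat.{u} A) i).obj K) ∧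
      IsZero ((DerivedCategory.homologyFunctor (ModuleCat.{u} A) i).obj L) := by
  refine ⟨(IsZero.iff_id_eq_zero _).2 ?_, (IsZero.iff_id_eq_zero _).2 ?_⟩
  · rw [← CategoryTheory.Functor.map_id, ← biprod.inl_fst (Y := L), Functor.map_comp,
      h.eq_of_tgt ((DerivedCategory.homologyFunctor (ModuleCat.{u} A) i).map biprod.inl) 0, zero_comp]
  · rw [← CategoryTheory.Functor.map_id, ← biprod.inr_snd (X := K), Functor.map_comp,
      h.eq_of_tgt ((DerivedCategory.homologyFunctor (ModuleCat.{u} A) i).map biprod.inr) 0, zero_comp]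

lemma summand_aux : ∀ (d : ℕ) (m : ℤ) (K L : Dual.D A) [HasBinaryBiproduct K L],
    DRing.IsPseudoCoherent A m (K ⊞ L) →
    (∀ i, m + d ≤ i → IsZero ((DerivedCategory.homologyFunctor (ModuleCat.{u} A) i).obj (K ⊞ L))) →
    DRing.IsPseudoCoherent A m K ∧ DRing.IsPseudoCoherent A m L := by
  intro d
  induction d with
  | zero =>
    intro m K L _ _ h
    exact ⟨of_vanish K fun i hi => (isZero_summand i (h i (by simpa using hi))).1,
      of_vanish L fun i hi => (isZero_summand i (h i (by simpa using hi))).2⟩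
  | succ d ih =>
    intro m K L _ hKL h
    obtain ⟨hK, hL⟩ := ih (m + 1) K L (mono (by omega) hKL) fun i hi => h i (by push_cast; omega)
    haveI : HasBinaryBiproduct L K := inferInstance
    exact ⟨(Groth.Agent.S2067.result _ (binaryBiproductTriangle_distinguished L K) m).1 hL
        (of_iso (biprod.braiding K L) hKL),
      (Groth.Agent.S2067.result _ (binaryBiproductTriangle_distinguished K L) m).1 hK hKL⟩

/-- Summands of pseudo-coherent objects are pseudo-coherent. -/
theorem summand {m : ℤ} {K L : Dual.D A} [HasBinaryBiproduct K L] (h : DRing.IsPseudoCoherent A m (K ⊞ L)) :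
    DRing.IsPseudoCoherent A m K ∧ DRing.IsPseudoCoherent A m L := by
  obtain ⟨b, hb⟩ := exists_bound h
  exact summand_aux (b + 1 - m).toNat m K L h fun i hi => hb i (by omega)

theorem summand' {K L : Dual.D A} [HasBinaryBiproduct K L] (h : DRing.IsPseudoCoherent' A (K ⊞ L)) :
    DRing.IsPseudoCoherent' A K ∧ DRing.IsPseudoCoherent' A L := by
  rw [pc'_iff] at h
  rw [pc'_iff, pc'_iff]
  exact ⟨fun m => (summand (h m)).1, fun m => (summand (h m)).2⟩

theorem isPerfect_summand {K L : Dual.D A} [HasBinaryBiproduct K L] (h : DRing.IsPerfect A (K ⊞ L)) :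
    DRing.IsPerfect A K ∧ DRing.IsPerfect A L := by
  rw [DRingPerfect.isPerfect_iff] at h
  rw [DRingPerfect.isPerfect_iff, DRingPerfect.isPerfect_iff]
  obtain ⟨hp, a, b, hk⟩ := h
  exact ⟨⟨(summand' hp).1, a, b, of_retract biprod.inl biprod.fst biprod.inl_fst hk⟩,
    ⟨(summand' hp).2, a, b, of_retract biprod.inr biprod.snd biprod.inr_snd hk⟩⟩

lemma isPerfect_of_isZero {K : Dual.D A} (h : IsZero K) : DRing.IsPerfect A K := by
  rw [DRingPerfect.isPerfect_iff, pc'_iff]
  exact ⟨fun m => of_vanish K fun i _ => Functor.map_isZero _ h, 0, 0, DRingTor.of_isZero h⟩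

/-- Terms determine pseudo-coherence of a bounded above complex. -/
theorem of_terms {m : ℤ} (K : DRing.Cx A) (b : ℤ) (hb : DRing.VanishesAbove K b)
    (h : ∀ i : ℤ, DRing.IsPseudoCoherentModule A (m - i) (K.X i)) :
    DRing.IsPseudoCoherent A m (DRing.toD K) :=
  DRingDesc.of_terms (DRing.IsPseudoCoherent A m) of_iso
    (fun T hT h₁ h₃ => (Groth.Agent.S2067.result T hT m).2.1 h₁ h₃) m (b + 1 - m).toNat b (by omega) K hb
    (fun i _ _ => single_of_module (h i))
    fun K' hK' _ => of_vanish _ fun i hi => (ShortComplex.isZero_homology_of_isZero_X₂ _ (hK' i hi)).of_iso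
      ((DerivedCategory.homologyFunctorFactors (ModuleCat.{u} A) i).app K')

/-- Cohomology determines pseudo-coherence of a bounded above object. -/
theorem of_homology {m : ℤ} (K : Dual.D A) (b : ℤ) (hb : ∀ i, b < i → Subsingleton (Dual.HD A K i))
    (h : ∀ i : ℤ, m ≤ i → DRing.IsPseudoCoherentModule A (m - i) (Dual.HD A K i)) :
    DRing.IsPseudoCoherent A m K := by
  let P := DerivedCategory.Q.objPreimage K
  let e : DerivedCategory.Q.obj P ≅ K := DerivedCategory.Q.objObjPreimageIso K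
  refine of_iso e (DRingDesc.of_homology (DRing.IsPseudoCoherent A m) of_iso
    (fun T hT h₁ h₃ => (Groth.Agent.S2067.result T hT m).2.1 h₁ h₃) m (b + 1 - m).toNat b (by omega) P
    (fun i hi => ?_) (fun i hi _ => ?_)
    fun K' hK' _ => of_vanish _ fun i hi => (hK' i hi).of_iso
      ((DerivedCategory.homologyFunctorFactors (ModuleCat.{u} A) i).app K'))
  · obtain ⟨eH⟩ := hd_iso e i
    exact (DRingCompl.isZ (hb i hi)).of_iso eH.symm
  · obtain ⟨eH⟩ := hd_iso e i
    exact of_iso ((DerivedCategory.singleFunctor (ModuleCat.{u} A) i).mapIso eH)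
      (single_of_module (M := ModuleCat.of A (Dual.HD A K i)) (h i hi))

/-- A bounded complex of perfect modules is perfect. -/
theorem isPerfect_of_terms (K : DRing.Cx A) (a b : ℤ) (hz : DRing.VanishesOutside K a b)
    (h : ∀ i : ℤ, DRing.IsPerfectModule A (K.X i)) : DRing.IsPerfect A (DRing.toD K) :=
  DRingDesc.of_terms (DRing.IsPerfect A) isPerfect_of_iso isPerfect₂ a (b + 1 - a).toNat b (by omega) K
    (fun i hi => hz i (Or.inr hi)) (fun i _ _ => isPerfect_single (h i))
    fun K' hK' hsub => isPerfect_of_isZero (Functor.map_isZero toD' ((IsZero.iff_id_eq_zero K').2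
      (HomologicalComplex.hom_ext _ _ fun i => (show IsZero (K'.X i) from (lt_or_ge i a).elim
        (fun hi => hsub i (hz i (Or.inl hi))) (hK' i)).eq_of_src _ _)))

/-- An object with perfect cohomology is perfect. -/
theorem isPerfect_of_homology (K : Dual.D A) (a b : ℤ)
    (hz : ∀ i, (i < a ∨ b < i) → Subsingleton (Dual.HD A K i))
    (h : ∀ i : ℤ, DRing.IsPerfectModule A (Dual.HD A K i)) : DRing.IsPerfect A K := by
  let P := DerivedCategory.Q.objPreimage K
  let e : DerivedCategory.Q.obj P ≅ K := DerivedCategory.Q.objObjPreimageIso K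
  have hzP : ∀ i, (i < a ∨ b < i) → IsZero (P.homology i) := fun i hi => by
    obtain ⟨eH⟩ := hd_iso e i
    exact (DRingCompl.isZ (hz i hi)).of_iso eH.symm
  refine isPerfect_of_iso e (DRingDesc.of_homology (DRing.IsPerfect A) isPerfect_of_iso isPerfect₂ a
    (b + 1 - a).toNat b (by omega) P (fun i hi => hzP i (Or.inr hi)) (fun i _ _ => ?_)
    fun K' hK' hsub => ?_)
  · obtain ⟨eH⟩ := hd_iso e i
    exact isPerfect_of_iso ((DerivedCategory.singleFunctor (ModuleCat.{u} A) i).mapIso eH)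
      (isPerfect_single (M := ModuleCat.of A (Dual.HD A K i)) (h i))
  · have hac : ∀ i, IsZero (K'.homology i) := fun i => (lt_or_ge i a).elim
      (fun hi => hsub i (hzP i (Or.inl hi))) (hK' i)
    rw [DRingPerfect.isPerfect_iff, pc'_iff]
    refine ⟨fun m => of_vanish _ fun i _ => (hac i).of_iso
      ((DerivedCategory.homologyFunctorFactors (ModuleCat.{u} A) i).app K'), 0, 0,
      toD_of_homology 0 0 (-1) (by simp) K' (fun i _ => hac i)
        fun i => DRingTor.of_isZero (Functor.map_isZero _ (hac i))⟩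

end Groth.Agent.H9Misc.DRingPC
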