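import Groth.Agent.H9Misc.DRingTorTriangle
import Mathlib.Algebra.Homology.DerivedCategory.TStructure
import Mathlib.Algebra.Homology.DerivedCategory.ShortExact
import Mathlib.CategoryTheory.Abelian.Basic

/-! Dévissage for tor amplitude. -/

set_option linter.style.haveILetI false

universe u

open CategoryTheory CategoryTheory.Category CategoryTheory.Limits
open CategoryTheory.Pretriangulated

attribute [local instance] HasDerivedCategory.standard

namespace Groth.Agent.H9Misc.DRingTor

variable {A : Type u} [CommRing A]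

/-- A module as a complex in degree `c`. -/
noncomputable abbrev sg (c : ℤ) : ModuleCat.{u} A ⥤ CochainComplex (ModuleCat.{u} A) ℤ :=
  HomologicalComplex.single (ModuleCat.{u} A) (ComplexShape.up ℤ) c

/-- Short for the localisation functor. -/
noncomputable abbrev toD' : CochainComplex (ModuleCat.{u} A) ℤ ⥤ Dual.D A := DerivedCategory.Q

lemma of_iso {a b : ℤ} {K L : Dual.D A} (e : K ≅ L) (h : DRing.HasTorAmplitudeIn A a b K) :
    DRing.HasTorAmplitudeIn A a b L :=
  let ⟨E, hz, hf, ⟨e'⟩⟩ := h
  ⟨E, hz, hf, ⟨e' ≪≫ e⟩⟩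

lemma of_isZero {a b : ℤ} {K : Dual.D A} (h : IsZero K) : DRing.HasTorAmplitudeIn A a b K := by
  let E : DRing.Cx A := (sg 0).obj (ModuleCat.of A PUnit.{u + 1})
  have hz : ∀ i, IsZero (E.X i) := fun i => by
    rcases eq_or_ne i 0 with rfl | hi
    · exact (ModuleCat.isZero_of_subsingleton _).of_iso (HomologicalComplex.singleObjXSelf _ _ _)
    · exact HomologicalComplex.isZero_single_obj_X _ _ _ _ hi
  refine ⟨E, fun i _ => hz i, fun i => ?_, ⟨IsZero.iso ?_ h⟩⟩
  · haveI := ModuleCat.subsingleton_of_isZero (hz i)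
    infer_instance
  · exact Functor.map_isZero toD' ((IsZero.iff_id_eq_zero E).2
      (HomologicalComplex.hom_ext _ _ fun i => (hz i).eq_of_src _ _))

lemma shiftX_iso (E : DRing.Cx A) (n i : ℤ) :
    Nonempty ((E⟦n⟧).X i ≅ E.X (i + n)) := ⟨Iso.refl _⟩

lemma inD_congr {a b : ℤ} {M N : ModuleCat.{u} A} (e : M ≅ N)
    (h : DRing.HasTorAmplitudeIn A a b (Dual.inD A M)) : DRing.HasTorAmplitudeIn A a b (Dual.inD A N) :=
  of_iso ((DerivedCategory.singleFunctor (ModuleCat.{u} A) 0).mapIso e) h

/-- A module placed in degree `c`. -/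
lemma single_of_inD {a b : ℤ} (M : ModuleCat.{u} A) (c : ℤ)
    (h : DRing.HasTorAmplitudeIn A (a - c) (b - c) (Dual.inD A M)) :
    DRing.HasTorAmplitudeIn A a b (toD'.obj ((sg c).obj M)) := by
  obtain ⟨E, hz, hf, ⟨e⟩⟩ := h
  refine ⟨E⟦-c⟧, fun i hi => hz (i + -c) (by omega), fun i => hf (i + -c), ⟨?_⟩⟩
  exact (DerivedCategory.Q.commShiftIso (-c)).app E ≪≫ (shiftFunctor (Dual.D A) (-c)).mapIso
      (e ≪≫ (DerivedCategory.singleFunctorIsoCompQ (ModuleCat.{u} A) 0).app M) ≪≫
    ((DerivedCategory.Q.commShiftIso (-c)).app ((CochainComplex.singleFunctor (ModuleCat.{u} A) 0).obj M)).symm ≪≫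
    toD'.mapIso (((CochainComplex.singleFunctors (ModuleCat.{u} A)).shiftIso (-c) c 0 (by omega)).app M)

/-- Tor amplitude of a bounded complex, from that of its terms. -/
theorem toD_of_terms {a b : ℤ} : ∀ (k : ℕ) (c d : ℤ), (d - c + 1).toNat ≤ k → ∀ (K : DRing.Cx A),
    DRing.VanishesOutside K c d →
    (∀ i : ℤ, DRing.HasTorAmplitudeIn A (a - i) (b - i) (Dual.inD A (K.X i))) →
    DRing.HasTorAmplitudeIn A a b (toD'.obj K) := by
  intro k
  induction k with
  | zero =>
    intro c d hk K hz _
    exact of_isZero (Functor.map_isZero toD' ((IsZero.iff_id_eq_zero K).2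
      (HomologicalComplex.hom_ext _ _ fun i => (hz i (by omega)).eq_of_src _ _)))
  | succ k ih =>
    intro c d hk K hz hK
    let π : K ⟶ (sg c).obj (K.X c) := HomologicalComplex.mkHomToSingle (𝟙 _)
      fun i (hi : i + 1 = c) => (hz i (by omega)).eq_of_src _ _
    haveI : ∀ i, Epi (π.f i) := fun i => by
      rcases eq_or_ne i c with rfl | hi
      · rw [show π.f i = (HomologicalComplex.singleObjXSelf _ _ _).inv by simp [π]]
        infer_instance
      · exact ⟨fun g h _ => (HomologicalComplex.isZero_single_obj_X _ _ _ _ hi).eq_of_src g h⟩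
    haveI : Epi π := HomologicalComplex.epi_of_epi_f π inferInstance
    let S := ShortComplex.mk (kernel.ι π) π (kernel.condition π)
    have hS : S.ShortExact :=
      { exact := ShortComplex.exact_of_f_is_kernel _ (kernelIsKernel π) }
    have hS' := fun i : ℤ => hS.map_of_exact (HomologicalComplex.eval (ModuleCat.{u} A) (ComplexShape.up ℤ) i)
    have hc : IsZero ((kernel π).X c) := by
      haveI : Mono ((kernel.ι π).f c) := (hS' c).mono_f
      haveI : Mono (π.f c) := by
        rw [show π.f c = (HomologicalComplex.singleObjXSelf _ _ _).inv by simp [π]]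
        infer_instance
      refine IsZero.of_mono_eq_zero ((kernel.ι π).f c) ((cancel_mono (π.f c)).1 ?_)
      rw [← HomologicalComplex.comp_f, kernel.condition, zero_comp]
      rfl
    have hne : ∀ i, i ≠ c → IsIso ((kernel.ι π).f i) := fun i hi => by
      haveI : Mono ((kernel.ι π).f i) := (hS' i).mono_f
      haveI : Epi ((kernel.ι π).f i) :=
        (hS' i).exact.epi_f ((HomologicalComplex.isZero_single_obj_X (ComplexShape.up ℤ) c (K.X c) i hi).eq_of_tgt _ _)
      exact isIso_of_mono_of_epi _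
    have h₁ : DRing.HasTorAmplitudeIn A a b (toD'.obj (kernel π)) := by
      refine ih (c + 1) d (by omega) (kernel π) (fun i hi => ?_) fun i => ?_
      · rcases eq_or_ne i c with rfl | hic
        · exact hc
        · haveI := hne i hic
          exact (hz i (by omega)).of_iso (asIso ((kernel.ι π).f i))
      · rcases eq_or_ne i c with rfl | hic
        · exact of_isZero (Functor.map_isZero _ hc)
        · haveI := hne i hic
          exact inD_congr (asIso ((kernel.ι π).f i)).symm (hK i)
    exact obj₂_of (DerivedCategory.triangleOfSES hS) (DerivedCategory.triangleOfSES_distinguished hS) h₁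
      (single_of_inD _ c (hK c))

/-- The homology of a representative. -/
lemma hd_iso {K : DRing.Cx A} {X : Dual.D A} (e : toD'.obj K ≅ X) (i : ℤ) :
    Nonempty (ModuleCat.of A (Dual.HD A X i) ≅ K.homology i) :=
  ⟨((DerivedCategory.homologyFunctor (ModuleCat.{u} A) i).mapIso e).symm ≪≫
    (DerivedCategory.homologyFunctorFactors (ModuleCat.{u} A) i).app K⟩

/-- Tor amplitude of a complex with bounded cohomology, from that of its cohomology. -/
theorem toD_of_homology {a b : ℤ} : ∀ (k : ℕ) (c d : ℤ), (d - c + 1).toNat ≤ k → ∀ (K : DRing.Cx A),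
    (∀ i, (i < c ∨ d < i) → IsZero (K.homology i)) →
    (∀ i : ℤ, DRing.HasTorAmplitudeIn A (a - i) (b - i) (Dual.inD A (K.homology i))) →
    DRing.HasTorAmplitudeIn A a b (toD'.obj K) := by
  intro k
  induction k with
  | zero =>
    intro c d hk K hz _
    refine of_isZero ?_
    have hac : K.Acyclic := fun i =>
      (HomologicalComplex.exactAt_iff_isZero_homology _ i).2 (hz i (by omega))
    haveI : QuasiIso (0 : K ⟶ K) :=
      { quasiIsoAt := fun i => (quasiIsoAt_iff_exactAt (0 : K ⟶ K) i (hac i)).2 (hac i) }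
    rw [IsZero.iff_id_eq_zero]
    haveI : IsIso (toD'.map (0 : K ⟶ K)) :=
      (DerivedCategory.isIso_Q_map_iff_quasiIso _ _).2 inferInstance
    exact (IsIso.hom_inv_id _).symm.trans ((congrArg (· ≫ inv (toD'.map (0 : K ⟶ K))) (toD'.map_zero K K)).trans zero_comp)
  | succ k ih =>
    intro c d hk K hz hK
    haveI : K.IsGE c := (CochainComplex.isGE_iff K c).2 fun i hi =>
      (HomologicalComplex.exactAt_iff_isZero_homology _ i).2 (hz i (Or.inl hi))
    let eι : ∀ i, i ≤ c → ((K.truncLE c).homology i ≅ K.homology i) := fun i hi =>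
      haveI := K.quasiIsoAt_ιTruncLE c i hi
      isoOfQuasiIsoAt (K.ιTruncLE c) i
    haveI : (K.truncLE c).IsGE c := (CochainComplex.isGE_iff _ c).2 fun i hi =>
      (HomologicalComplex.exactAt_iff_isZero_homology _ i).2
        ((hz i (Or.inl hi)).of_iso (eι i hi.le))
    obtain ⟨Y, ⟨eY⟩⟩ := DerivedCategory.exists_iso_singleFunctor_obj_of_isGE_of_isLE
      (DerivedCategory.Q.obj (K.truncLE c)) c
    let eY' : toD'.obj ((sg c).obj Y) ≅ toD'.obj (K.truncLE c) :=
      ((DerivedCategory.singleFunctorIsoCompQ (ModuleCat.{u} A) c).app Y).symm ≪≫ eY.symm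
    obtain ⟨eH⟩ := hd_iso eY'.symm c
    obtain ⟨eH'⟩ := hd_iso (Iso.refl (toD'.obj ((sg c).obj Y))) c
    have h₁ : DRing.HasTorAmplitudeIn A a b (toD'.obj (K.truncLE c)) :=
      of_iso eY' (single_of_inD Y c (inD_congr ((eι c le_rfl).symm ≪≫ eH.symm ≪≫ eH' ≪≫
        HomologicalComplex.singleObjHomologySelfIso (ComplexShape.up ℤ) c Y) (hK c)))
    let eπ : ∀ i, c + 1 ≤ i → (K.homology i ≅ (K.truncGE (c + 1)).homology i) := fun i hi =>
      haveI := K.quasiIsoAt_πTruncGE (c + 1) i hi
      isoOfQuasiIsoAt (K.πTruncGE (c + 1)) i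
    have h₃ : DRing.HasTorAmplitudeIn A a b (toD'.obj (K.truncGE (c + 1))) := by
      refine ih (c + 1) d (by omega) _ (fun i hi => ?_) fun i => ?_
      · rcases lt_or_ge i (c + 1) with hi' | hi'
        · exact CochainComplex.isZero_of_isGE _ (c + 1) i hi'
        · exact (hz i (by omega)).of_iso (eπ i hi').symm
      · rcases lt_or_ge i (c + 1) with hi' | hi'
        · exact of_isZero (Functor.map_isZero _ (CochainComplex.isZero_of_isGE _ (c + 1) i hi'))
        · exact inD_congr (eπ i hi') (hK i)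
    have hS := K.shortComplexTruncLE_shortExact c
    exact obj₂_of (DerivedCategory.triangleOfSES hS) (DerivedCategory.triangleOfSES_distinguished hS) h₁
      (of_iso (asIso (toD'.map (K.shortComplexTruncLEX₃ToTruncGE c (c + 1) rfl))).symm h₃)

end Groth.Agent.H9Misc.DRingTor
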