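import Mathlib
import Groth.Agent.H9Misc.DRingTorDevissage
import Groth.Agent.TorBridge.LES
import Groth.Prelude.Def_DRing2

/-! Tor dimension of modules and tor amplitude. -/

set_option linter.style.haveILetI false

universe u

open CategoryTheory CategoryTheory.Category CategoryTheory.Limits MonoidalCategory
open CategoryTheory.Pretriangulated

attribute [local instance] HasDerivedCategory.standard

namespace Groth.Agent.H9Misc.DRingTor

open Groth.Agent.TorBridge

variable {A : Type u} [CommRing A]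

lemma mono {a b a' b' : ℤ} (ha : a' ≤ a) (hb : b ≤ b') {K : Dual.D A}
    (h : DRing.HasTorAmplitudeIn A a b K) : DRing.HasTorAmplitudeIn A a' b' K :=
  let ⟨E, hz, hf, e⟩ := h
  ⟨E, fun i hi => hz i (by omega), hf, e⟩

/-- The upper bound may be lowered to that of the cohomology. -/
lemma shrink {a b b' : ℤ} {K : Dual.D A} (h : DRing.HasTorAmplitudeIn A a b K)
    (hK : ∀ i, b' < i → IsZero ((DerivedCategory.homologyFunctor (ModuleCat.{u} A) i).obj K)) :
    DRing.HasTorAmplitudeIn A a b' K := by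
  obtain ⟨P, hP, -, ⟨e⟩⟩ := DRingLTensor.exists_rep K
  have hV := (iff_van hP e).1 h
  refine hasTorAmplitudeIn_of_van hP (fun M i hi => ?_) e
  rcases hi with hi | hi
  · exact hV M i (Or.inl hi)
  · rw [HomologicalComplex.exactAt_iff_isZero_homology]
    refine DRingRightExact.isZero_homology_tensC M hP b' (fun m hm => ?_) i hi
    obtain ⟨eH⟩ := hd_iso e m
    exact (hK m hm).of_iso eH.symm

lemma inD_of_flat (M : ModuleCat.{u} A) [Module.Flat A M] :
    DRing.HasTorAmplitudeIn A 0 0 (Dual.inD A M) := by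
  refine ⟨(sg 0).obj M, fun i hi => HomologicalComplex.isZero_single_obj_X _ _ _ _ (by omega), fun i => ?_,
    ⟨((DerivedCategory.singleFunctorIsoCompQ (ModuleCat.{u} A) 0).app M).symm⟩⟩
  rcases eq_or_ne i 0 with rfl | hi
  · exact (Module.Flat.equiv_iff (HomologicalComplex.singleObjXSelf (ComplexShape.up ℤ) 0 M).toLinearEquiv).2
      inferInstance
  · haveI := ModuleCat.subsingleton_of_isZero
      (HomologicalComplex.isZero_single_obj_X (ComplexShape.up ℤ) 0 M i hi)
    infer_instance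

lemma flat_of_inD (M : ModuleCat.{u} A) (h : DRing.HasTorAmplitudeIn A 0 0 (Dual.inD A M)) :
    Module.Flat A M := by
  obtain ⟨E, hz, hf, ⟨e⟩⟩ := h
  haveI : E.IsStrictlyGE 0 := (CochainComplex.isStrictlyGE_iff _ _).2 fun i hi => hz i (Or.inl hi)
  haveI : E.IsStrictlyLE 0 := (CochainComplex.isStrictlyLE_iff _ _).2 fun i hi => hz i (Or.inr hi)
  obtain ⟨M', ⟨e'⟩⟩ := CochainComplex.exists_iso_single E 0
  obtain ⟨eH⟩ := hd_iso (e ≪≫ (DerivedCategory.singleFunctorIsoCompQ (ModuleCat.{u} A) 0).app M) 0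
  obtain ⟨eH'⟩ := hd_iso (Iso.refl (toD'.obj ((sg 0).obj M))) 0
  let eX : E.X 0 ≅ M' := HomologicalComplex.Hom.isoApp e' 0 ≪≫
    HomologicalComplex.singleObjXSelf (ComplexShape.up ℤ) 0 M'
  have h1 : Module.Flat A M' := (Module.Flat.equiv_iff eX.toLinearEquiv).1 (hf 0)
  exact (Module.Flat.equiv_iff ((HomologicalComplex.singleObjHomologySelfIso (ComplexShape.up ℤ) 0 M).symm ≪≫
    eH'.symm ≪≫ eH ≪≫ (HomologicalComplex.homologyFunctor _ _ 0).mapIso e' ≪≫
      HomologicalComplex.singleObjHomologySelfIso (ComplexShape.up ℤ) 0 M').toLinearEquiv).2 h1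

lemma isZero_homology_inD (M : ModuleCat.{u} A) (i : ℤ) (hi : 0 < i) :
    IsZero ((DerivedCategory.homologyFunctor (ModuleCat.{u} A) i).obj (Dual.inD A M)) :=
  DerivedCategory.isZero_of_isLE _ 0 i hi

lemma exists_ses (M : ModuleCat.{u} A) : ∃ S : ShortComplex (ModuleCat.{u} A),
    S.ShortExact ∧ S.X₃ = M ∧ Module.Projective A S.X₂ := by
  let p : ModuleCat.of A (M →₀ A) ⟶ M := ModuleCat.ofHom (Finsupp.linearCombination A id)
  haveI : Epi p := (ModuleCat.epi_iff_surjective p).2 (Finsupp.linearCombination_id_surjective A M)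
  exact ⟨ShortComplex.mk (kernel.ι p) p (kernel.condition p),
    { exact := ShortComplex.exact_of_f_is_kernel _ (kernelIsKernel p) }, rfl,
    inferInstanceAs (Module.Projective A (M →₀ A))⟩

lemma inD_triangle {S : ShortComplex (ModuleCat.{u} A)} (hS : S.ShortExact) :
    ∃ T : Triangle (Dual.D A), T ∈ distinguishedTriangles ∧ Nonempty (T.obj₁ ≅ Dual.inD A S.X₁) ∧
      Nonempty (T.obj₂ ≅ Dual.inD A S.X₂) ∧ Nonempty (T.obj₃ ≅ Dual.inD A S.X₃) :=
  ⟨_, DerivedCategory.triangleOfSES_distinguished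
    (hS.map_of_exact (HomologicalComplex.single (ModuleCat.{u} A) (ComplexShape.up ℤ) 0)),
    ⟨((DerivedCategory.singleFunctorIsoCompQ (ModuleCat.{u} A) 0).app _).symm⟩,
    ⟨((DerivedCategory.singleFunctorIsoCompQ (ModuleCat.{u} A) 0).app _).symm⟩,
    ⟨((DerivedCategory.singleFunctorIsoCompQ (ModuleCat.{u} A) 0).app _).symm⟩⟩

lemma inD_succ_iff {S : ShortComplex (ModuleCat.{u} A)} (hS : S.ShortExact) [Module.Flat A S.X₂] (d : ℕ) :
    DRing.HasTorAmplitudeIn A (-(d + 1 : ℤ)) 0 (Dual.inD A S.X₃) ↔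
      DRing.HasTorAmplitudeIn A (-(d : ℤ)) 0 (Dual.inD A S.X₁) := by
  obtain ⟨T, hT, ⟨e₁⟩, ⟨e₂⟩, ⟨e₃⟩⟩ := inD_triangle hS
  have h₂ := of_iso e₂.symm (inD_of_flat (A := A) S.X₂)
  refine ⟨fun h => shrink (b := 0 + 1) (mono (a := -(d + 1 : ℤ) + 1) (by omega) le_rfl (of_iso e₁ ?_))
    (fun i hi => isZero_homology_inD _ i hi), fun h => of_iso e₃ ?_⟩
  · exact obj₁_of T hT (mono (by omega) (by omega) h₂) (of_iso e₃.symm h)
  · exact obj₃_of T hT (of_iso e₁.symm (mono (by omega) (by omega) h)) (mono (by omega) le_rfl h₂)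

lemma isZero_tor_first {S : ShortComplex (ModuleCat.{u} A)} (hS : S.ShortExact) (N : ModuleCat.{u} A) (i : ℕ)
    (h₂ : IsZero (((Tor (ModuleCat.{u} A) i).obj S.X₂).obj N))
    (h₃ : IsZero (((Tor (ModuleCat.{u} A) (i + 1)).obj S.X₃).obj N)) :
    IsZero (((Tor (ModuleCat.{u} A) i).obj S.X₁).obj N) := by
  let P : ProjectiveResolution N := ProjectiveResolution.of _
  let c := ComplexShape.down ℕ
  let C : ModuleCat.{u} A → ChainComplex (ModuleCat.{u} A) ℕ := fun X =>
    ((tenF X).mapHomologicalComplex c).obj P.complex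
  let f : C S.X₁ ⟶ C S.X₂ :=
    (NatTrans.mapHomologicalComplex ((tensoringLeft (ModuleCat.{u} A)).map S.f) c).app P.complex
  let g : C S.X₂ ⟶ C S.X₃ :=
    (NatTrans.mapHomologicalComplex ((tensoringLeft (ModuleCat.{u} A)).map S.g) c).app P.complex
  have hfg : f ≫ g = 0 := by
    refine HomologicalComplex.hom_ext _ _ fun j => ModuleCat.hom_ext ?_
    show S.g.hom.rTensor (P.complex.X j) ∘ₗ S.f.hom.rTensor (P.complex.X j) = 0
    rw [← LinearMap.rTensor_comp, ← ModuleCat.hom_comp, S.zero, ModuleCat.hom_zero, LinearMap.rTensor_zero]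
  have hT : (ShortComplex.mk f g hfg).ShortExact := by
    refine HomologicalComplex.shortExact_of_degreewise_shortExact _ fun j => ?_
    haveI : Module.Projective A (P.complex.X j) := (IsProjective.iff_projective _).2 (P.projective j)
    have he : Function.Exact S.f.hom S.g.hom :=
      (ShortComplex.ShortExact.moduleCat_exact_iff_function_exact _).1 hS.exact
    exact
      { exact := (ShortComplex.ShortExact.moduleCat_exact_iff_function_exact _).2
          (rTensor_exact (P.complex.X j) he ((ModuleCat.epi_iff_surjective _).1 hS.epi_g))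
        mono_f := (ModuleCat.mono_iff_injective _).2 (Module.Flat.rTensor_preserves_injective_linearMap
          (M := P.complex.X j) S.f.hom ((ModuleCat.mono_iff_injective _).1 hS.mono_f))
        epi_g := (ModuleCat.epi_iff_surjective _).2
          (LinearMap.rTensor_surjective (P.complex.X j) ((ModuleCat.epi_iff_surjective _).1 hS.epi_g)) }
  have key : ∀ (X : ModuleCat.{u} A) (j : ℕ),
      IsZero (((Tor (ModuleCat.{u} A) j).obj X).obj N) ↔ IsZero ((C X).homology j) := fun X j =>
    Iso.isZero_iff (P.isoLeftDerivedObj (tenF X) j)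
  rw [key] at h₂ h₃ ⊢
  exact (hT.homology_exact₁ (i + 1) i rfl).isZero_X₂ (h₃.eq_zero_of_src _) (h₂.eq_zero_of_tgt _)

lemma torDimLE_zero_iff (M : ModuleCat.{u} A) : DRing.HasTorDimLE A 0 M ↔ Module.Flat A M := by
  refine ⟨fun h => ?_, fun hM N _ _ p hp => ?_⟩
  · rw [Module.Flat.iff_lTensor_injective']
    intro I
    have h1 : IsZero (((Tor (ModuleCat.{u} A) 1).obj M).obj (ModuleCat.of A (A ⧸ I))) :=
      (ModuleCat.isZero_iff_subsingleton).2 (h (A ⧸ I) 1 zero_lt_one)
    let q : (M →₀ A) →ₗ[A] M := Finsupp.linearCombination A id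
    have hq : Function.Surjective q := Finsupp.linearCombination_id_surjective A M
    have h2 := (isZero_tor_one_iff (A ⧸ I) M q hq).1 h1
    have h3 := (rTensor_injective_iff_lTensor_injective (I.mkQ) I.mkQ_surjective q hq).1 h2
    rw [Submodule.ker_mkQ] at h3
    exact h3
  · haveI := hM
    obtain ⟨i, rfl⟩ : ∃ i, p = i + 1 := ⟨p - 1, by omega⟩
    exact ModuleCat.isZero_iff_subsingleton.1 (isZero_tor_succ_of_flat M (ModuleCat.of A N) i)

lemma torDimLE_succ_iff {S : ShortComplex (ModuleCat.{u} A)} (hS : S.ShortExact) [Module.Flat A S.X₂]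
    (d : ℕ) : DRing.HasTorDimLE A (d + 1) S.X₃ ↔ DRing.HasTorDimLE A d S.X₁ := by
  refine ⟨fun h N _ _ p hp => ?_, fun h N _ _ p hp => ?_⟩
  · obtain ⟨i, rfl⟩ : ∃ i, p = i + 1 := ⟨p - 1, by omega⟩
    exact ModuleCat.isZero_iff_subsingleton.1 (isZero_tor_first hS (ModuleCat.of A N) (i + 1)
      (isZero_tor_succ_of_flat _ _ i) (ModuleCat.isZero_iff_subsingleton.2 (h N (i + 1 + 1) (by omega))))
  · obtain ⟨i, rfl⟩ : ∃ i, p = i + 1 := ⟨p - 1, by omega⟩
    exact ModuleCat.isZero_iff_subsingleton.1 (isZero_tor_third S hS (ModuleCat.of A N) i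
      (isZero_tor_succ_of_flat _ _ i) (ModuleCat.isZero_iff_subsingleton.2 (h N i (by omega))))

/-- Tor dimension is tor amplitude. -/
theorem torDimLE_iff : ∀ (d : ℕ) (M : ModuleCat.{u} A),
    DRing.HasTorDimLE A d M ↔ DRing.HasTorAmplitudeIn A (-(d : ℤ)) 0 (Dual.inD A M) := by
  intro d
  induction d with
  | zero =>
    intro M
    rw [torDimLE_zero_iff]
    exact ⟨fun h => by simpa using inD_of_flat M, fun h => flat_of_inD M (by simpa using h)⟩
  | succ d ih =>
    intro M
    obtain ⟨S, hS, rfl, hP⟩ := exists_ses M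
    haveI : Module.Flat A S.X₂ := inferInstance
    rw [torDimLE_succ_iff hS, ih]
    exact_mod_cast (inD_succ_iff hS d).symm

/-- Bounded projective dimension bounds the tor amplitude. -/
theorem inD_of_projDim : ∀ (d : ℕ) (M : ModuleCat.{u} A), HasProjectiveDimensionLT M (d + 1) →
    DRing.HasTorAmplitudeIn A (-(d : ℤ)) 0 (Dual.inD A M) := by
  intro d
  induction d with
  | zero =>
    intro M h
    haveI : Projective M := projective_iff_hasProjectiveDimensionLT_one.2 h
    haveI : Module.Projective A M := (IsProjective.iff_projective _).2 inferInstance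
    simpa using inD_of_flat M
  | succ d ih =>
    intro M h
    obtain ⟨S, hS, rfl, hP⟩ := exists_ses M
    haveI : Projective S.X₂ := (IsProjective.iff_projective _).1 hP
    have h₁ := ih S.X₁ (hS.hasProjectiveDimensionLT_X₁ (d + 1) inferInstance h)
    exact_mod_cast (inD_succ_iff hS d).2 h₁

end Groth.Agent.H9Misc.DRingTor
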