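import Mathlib
import Groth.Agent.H9Misc.DRingTorDim
import Groth.Agent.H9Misc.DRingLBase
import Groth.Agent.S2066

/-! Perfect objects, pseudo-coherence and tor amplitude over a ring. -/

set_option linter.style.haveILetI false

universe u

open CategoryTheory CategoryTheory.Category CategoryTheory.Limits

attribute [local instance] HasDerivedCategory.standard

namespace Groth.Agent.H9Misc.DRingPerfect

open DRingTor

variable {A : Type u} [CommRing A]

/-- Cocycles of a bounded above complex of finite projectives, above the cohomology. -/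
lemma finProj_ker {P : CochainComplex (ModuleCat.{u} A) ℤ}
    (hP : DRing.TermwiseFiniteProjective P) (b₀ : ℤ) (hz : ∀ i, b₀ < i → IsZero (P.X i)) (b : ℤ)
    (hex : ∀ i, b < i → P.ExactAt i) : ∀ (k : ℕ) (n : ℤ), b ≤ n → b₀ < n + k →
    Module.Finite A (LinearMap.ker (P.d n (n + 1)).hom) ∧ Module.Projective A (LinearMap.ker (P.d n (n + 1)).hom) := by
  intro k
  induction k with
  | zero =>
    intro n _ hn
    haveI := ModuleCat.subsingleton_of_isZero (hz n (by omega))
    exact ⟨inferInstance, inferInstance⟩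
  | succ k ih =>
    intro n hb hn
    obtain ⟨hf', hp'⟩ := ih (n + 1) (by omega) (by omega)
    haveI := hp'
    haveI := (hP n).1
    haveI := (hP n).2
    let d := (P.d n (n + 1)).hom
    let Z := LinearMap.ker (P.d (n + 1) (n + 1 + 1)).hom
    have hdd : ∀ x, d x ∈ Z := fun x => by
      have h0 := congrArg (fun g => g.hom x) (P.d_comp_d n (n + 1) (n + 1 + 1))
      exact h0
    let d' : P.X n →ₗ[A] Z := d.codRestrict Z hdd
    have hsurj : Function.Surjective d' := by
      rintro ⟨y, hy⟩
      have he := hex (n + 1) (by omega)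
      rw [P.exactAt_iff' n (n + 1) (n + 1 + 1) (by simp) (by simp),
        ShortComplex.moduleCat_exact_iff] at he
      obtain ⟨x, hx⟩ := he y hy
      exact ⟨x, Subtype.ext hx⟩
    obtain ⟨s, hs⟩ := Module.projective_lifting_property d' LinearMap.id hsurj
    let r : P.X n →ₗ[A] LinearMap.ker d := (LinearMap.id - s ∘ₗ d').codRestrict _ fun x => by
      have h := congrArg Subtype.val (LinearMap.congr_fun hs (d' x))
      change d (x - s (d' x)) = 0
      rw [map_sub]
      exact sub_eq_zero.2 h.symm
    have hr : r ∘ₗ (LinearMap.ker d).subtype = LinearMap.id := by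
      refine LinearMap.ext fun ⟨x, hx⟩ => Subtype.ext ?_
      change x - s (d' x) = x
      rw [show d' x = 0 from Subtype.ext hx, map_zero, sub_zero]
    exact ⟨Module.Finite.of_surjective r fun z => ⟨z.1, LinearMap.congr_fun hr z⟩,
      Module.Projective.of_split _ r hr⟩

lemma projective_opcycles {E : CochainComplex (ModuleCat.{u} A) ℤ}
    (hE : ∀ i, Module.Finite A (E.X i) ∧ Module.Free A (E.X i)) (r : ℤ) [Module.Flat A (E.opcycles r)] :
    Module.Finite A (E.opcycles r) ∧ Module.Projective A (E.opcycles r) := by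
  haveI := (hE r).1
  haveI := (hE r).2
  haveI := (hE (r - 1)).1
  haveI : Module.Finite A (E.opcycles r) :=
    Module.Finite.of_surjective (E.pOpcycles r).hom ((ModuleCat.epi_iff_surjective _).1 inferInstance)
  refine ⟨inferInstance, ?_⟩
  haveI : Module.FinitePresentation A (E.X r) := Module.finitePresentation_of_projective A _
  haveI : Module.FinitePresentation A ((E.X r) ⧸ LinearMap.range (E.d (r - 1) r).hom) :=
    Module.finitePresentation_of_surjective (Submodule.mkQ _) (Submodule.mkQ_surjective _) (by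
      rw [Submodule.ker_mkQ, LinearMap.range_eq_map]
      exact Submodule.FG.map _ Module.Finite.fg_top)
  let e := ((cokernelIsCokernel (E.d (r - 1) r)).coconePointUniqueUpToIso
      (E.opcyclesIsCokernel (r - 1) r (by simp))).symm ≪≫ ModuleCat.cokernelIsoRangeQuotient (E.d (r - 1) r)
  haveI : Module.FinitePresentation A (E.opcycles r) :=
    Module.FinitePresentation.of_equiv e.toLinearEquiv.symm
  exact Module.Flat.projective_of_finitePresentation

/-- A pseudo-coherent object of tor amplitude in `[a, b]` is a complex of finite projectives in `[a, b]`. -/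
theorem exists_finProj_rep {a b : ℤ} {K : Dual.D A} (hpc : DRing.IsPseudoCoherent' A K)
    (hK : DRing.HasTorAmplitudeIn A a b K) :
    ∃ P : DRing.Cx A, DRing.VanishesOutside P a b ∧ DRing.TermwiseFiniteProjective P ∧
      Nonempty (DRing.toD P ≅ K) := by
  obtain ⟨E, b₀, hb₀, hE, ⟨e⟩⟩ := hpc
  have hflat : ∀ n, Module.Flat A (E.X n) := fun n => haveI := (hE n).2; inferInstance
  have hV := (iff_van (isKF_of_flat hflat hb₀) e).1 hK
  haveI : Module.Flat A (E.opcycles a) := flat_opcycles hflat a fun M => hV M (a - 1) (Or.inl (by omega))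
  haveI : E.IsGE a := (CochainComplex.isGE_iff E a).2 fun i hi => hV.exactAt (Or.inl hi)
  let R := E.truncGE a
  have hR : DRing.TermwiseFiniteProjective R := fun i => by
    rcases lt_trichotomy i a with hi | rfl | hi
    · haveI := ModuleCat.subsingleton_of_isZero (CochainComplex.isZero_of_isStrictlyGE R a i hi)
      exact ⟨inferInstance, inferInstance⟩
    · obtain ⟨h₁, h₂⟩ := projective_opcycles hE i
      exact ⟨Module.Finite.equiv (E.truncGEXIsoOpcycles i).symm.toLinearEquiv,
        Module.Projective.of_equiv (E.truncGEXIsoOpcycles i).symm.toLinearEquiv⟩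
    · haveI := (hE i).1
      haveI := (hE i).2
      exact ⟨Module.Finite.equiv (E.truncGEXIso a i hi).symm.toLinearEquiv,
        Module.Projective.of_equiv (E.truncGEXIso a i hi).symm.toLinearEquiv⟩
  have hz : ∀ i, max b₀ a < i → IsZero (R.X i) := fun i hi =>
    (hb₀ i (by omega)).of_iso (E.truncGEXIso a i (by omega))
  have hex : ∀ i, b < i → R.ExactAt i := fun i hi => by
    rcases lt_or_ge i a with hia | hia
    · exact CochainComplex.exactAt_of_isGE R a i hia
    · haveI := E.quasiIsoAt_πTruncGE a i hia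
      exact (quasiIsoAt_iff_exactAt (E.πTruncGE a) i (hV.exactAt (Or.inr hi))).1 inferInstance
  haveI : R.IsLE b := (CochainComplex.isLE_iff R b).2 hex
  obtain ⟨k, hk⟩ : ∃ k : ℕ, max b₀ a < b + k := ⟨(max b₀ a - b + 1).toNat, by omega⟩
  obtain ⟨hk₁, hk₂⟩ := finProj_ker hR (max b₀ a) hz b hex k b le_rfl hk
  let eker := ((kernelIsKernel (R.d b (b + 1))).conePointUniqueUpToIso
    (R.cyclesIsKernel b (b + 1) (by simp))).symm ≪≫ ModuleCat.kernelIsoKer (R.d b (b + 1))
  refine ⟨R.truncLE b, fun i hi => ?_, fun i => ?_, ⟨asIso (DerivedCategory.Q.map (R.ιTruncLE b)) ≪≫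
    (asIso (DerivedCategory.Q.map (E.πTruncGE a))).symm ≪≫ e⟩⟩
  · rcases lt_or_ge b i with hib | hib
    · exact CochainComplex.isZero_of_isStrictlyLE _ b i hib
    have hia : i < a := hi.resolve_right (by omega)
    rcases eq_or_lt_of_le hib with rfl | hlt
    · refine IsZero.of_iso ?_ (R.truncLEXIsoCycles i)
      exact IsZero.of_mono (R.iCycles i) (CochainComplex.isZero_of_isStrictlyGE R a i hia)
    · exact (CochainComplex.isZero_of_isStrictlyGE R a i hia).of_iso (R.truncLEXIso b i hlt)
  · rcases lt_trichotomy i b with hi | rfl | hi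
    · haveI := (hR i).1
      haveI := (hR i).2
      exact ⟨Module.Finite.equiv (R.truncLEXIso b i hi).symm.toLinearEquiv,
        Module.Projective.of_equiv (R.truncLEXIso b i hi).symm.toLinearEquiv⟩
    · exact ⟨Module.Finite.equiv (R.truncLEXIsoCycles i ≪≫ eker).symm.toLinearEquiv,
        Module.Projective.of_equiv (R.truncLEXIsoCycles i ≪≫ eker).symm.toLinearEquiv⟩
    · haveI := ModuleCat.subsingleton_of_isZero (CochainComplex.isZero_of_isStrictlyLE (R.truncLE b) b i hi)
      exact ⟨inferInstance, inferInstance⟩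

lemma amp_of_finProj {P : DRing.Cx A} {a b : ℤ} (hz : DRing.VanishesOutside P a b)
    (hP : ∀ i, Module.Projective A (P.X i)) {K : Dual.D A} (e : DRing.toD P ≅ K) :
    DRing.HasTorAmplitudeIn A a b K :=
  ⟨P, hz, fun i => haveI := hP i; inferInstance, ⟨e⟩⟩

/-- Perfect means pseudo-coherent of finite tor dimension. -/
theorem isPerfect_iff (K : Dual.D A) :
    DRing.IsPerfect A K ↔ DRing.IsPseudoCoherent' A K ∧ DRing.HasFiniteTorDimCx A K := by
  constructor
  · rintro ⟨E, a, b, hz, hE, ⟨e⟩⟩
    refine ⟨?_, a, b, amp_of_finProj hz (fun i => (hE i).2) e⟩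
    exact (Groth.Agent.S2066.result K).1.1 ((Groth.Agent.S2066.result K).2.2
      ⟨E, b, fun i hi => hz i (Or.inr hi), hE, ⟨e⟩⟩)
  · rintro ⟨hpc, a, b, hK⟩
    obtain ⟨P, hz, hP, he⟩ := exists_finProj_rep hpc hK
    exact ⟨P, a, b, hz, hP, he⟩

/-- Tor amplitude and cohomology. -/
lemma isZero_of_amp {a b : ℤ} {K : Dual.D A} (h : DRing.HasTorAmplitudeIn A a b K) (i : ℤ)
    (hi : i < a ∨ b < i) : Subsingleton (Dual.HD A K i) := by
  obtain ⟨E, hz, -, ⟨e⟩⟩ := h
  obtain ⟨eH⟩ := hd_iso e i
  exact ModuleCat.subsingleton_of_isZero (M := ModuleCat.of A (Dual.HD A K i))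
    ((ShortComplex.isZero_homology_of_isZero_X₂ _ (hz i hi)).of_iso eH)

/-- Bounded cohomology gives finite tor dimension when modules have finite tor dimension. -/
theorem finiteTorDimCx_of_bounded (hA : ∀ (M : Type u) [AddCommGroup M] [Module A M], DRing.HasFiniteTorDim A M)
    (K : Dual.D A) {a b : ℤ} (h : ∀ i : ℤ, i < a ∨ b < i → Subsingleton (Dual.HD A K i)) :
    DRing.HasFiniteTorDimCx A K := by
  classical
  let P := DerivedCategory.Q.objPreimage K
  let e : DerivedCategory.Q.obj P ≅ K := DerivedCategory.Q.objObjPreimageIso K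
  choose n hn using fun i => hA (P.homology i : ModuleCat.{u} A)
  let N := (Finset.Icc a b).sup n
  have hz : ∀ i, (i < a ∨ b < i) → IsZero (P.homology i) := fun i hi => by
    obtain ⟨eH⟩ := hd_iso e i
    exact (DRingCompl.isZ (h i hi)).of_iso eH.symm
  refine ⟨a - N, b, of_iso e (toD_of_homology _ a b le_rfl P hz fun i => ?_)⟩
  by_cases hi : i < a ∨ b < i
  · exact of_isZero (Functor.map_isZero _ (hz i hi))
  · have hle : n i ≤ N := Finset.le_sup (Finset.mem_Icc.2 ⟨by omega, by omega⟩)
    exact mono (by omega) (by omega) ((torDimLE_iff (n i) (P.homology i)).1 (hn i))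

lemma finProj_extendScalars {B : Type u} [CommRing B] (φ : A →+* B) (M : ModuleCat.{u} A)
    [Module.Finite A M] [Module.Projective A M] :
    Module.Finite B ((ModuleCat.extendScalars.{u, u, u} φ).obj M) ∧
      Module.Projective B ((ModuleCat.extendScalars.{u, u, u} φ).obj M) := by
  letI := φ.toAlgebra
  exact ⟨inferInstanceAs (Module.Finite B (TensorProduct A B M)),
    inferInstanceAs (Module.Projective B (TensorProduct A B M))⟩

/-- Derived base change preserves perfect objects. -/
theorem isPerfect_lbase {B : Type u} [CommRing B] (φ : A →+* B) [DRing.HasLBaseChange φ] {K : Dual.D A}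
    (hK : DRing.IsPerfect A K) : DRing.IsPerfect B ((DRing.LBaseChange φ).obj K) := by
  obtain ⟨E, a, b, hz, hE, ⟨e⟩⟩ := hK
  have hf : DRing.TermwiseFlat E := fun i => haveI := (hE i).2; inferInstance
  obtain ⟨e'⟩ := DRingLBase.nonempty_lbase_iso φ (isKF_of_flat hf fun i hi => hz i (Or.inr hi))
  exact ⟨(DRingLTensor.extC' φ).obj E, a, b,
    fun i hi => (ModuleCat.extendScalars.{u, u, u} φ).map_isZero (hz i hi),
    fun i => haveI := (hE i).1; haveI := (hE i).2; finProj_extendScalars φ (E.X i),
    ⟨e'.symm ≪≫ (DRing.LBaseChange φ).mapIso e⟩⟩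

/-- Flat base change preserves perfect modules. -/
theorem isPerfect_baseChange {B : Type u} [CommRing B] (φ : A →+* B) (hφ : φ.Flat) (M : ModuleCat.{u} A)
    (hM : DRing.IsPerfect A (Dual.inD A M)) :
    DRing.IsPerfect B (Dual.inD B ((ModuleCat.extendScalars.{u, u, u} φ).obj M)) := by
  obtain ⟨E, a, b, hz, hE, ⟨e⟩⟩ := hM
  haveI := ModuleCat.preservesFiniteLimits_extendScalars_of_flat hφ
  haveI : PreservesFiniteColimits (ModuleCat.extendScalars.{u, u, u} φ) := by
    haveI : (ModuleCat.extendScalars.{u, u, u} φ).IsLeftAdjoint :=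
      (ModuleCat.extendRestrictScalarsAdj φ).isLeftAdjoint
    infer_instance
  let F := ModuleCat.extendScalars.{u, u, u} φ
  exact ⟨(DRingLTensor.extC' φ).obj E, a, b, fun i hi => F.map_isZero (hz i hi),
    fun i => haveI := (hE i).1; haveI := (hE i).2; finProj_extendScalars φ (E.X i),
    ⟨(F.mapDerivedCategoryFactors.app E).symm ≪≫ F.mapDerivedCategory.mapIso e ≪≫
      (F.mapDerivedCategorySingleFunctor 0).app M⟩⟩

end Groth.Agent.H9Misc.DRingPerfect
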