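import Groth.Agent.H9Misc.DRingRestrict
import Groth.Agent.H9Misc.DRingTorDescent
import Mathlib.RingTheory.Finiteness.Descent

/-! Faithfully flat descent of pseudo-coherence. -/

set_option linter.style.haveILetI false

universe u

open CategoryTheory CategoryTheory.Category CategoryTheory.Limits
open CategoryTheory.Pretriangulated

attribute [local instance] HasDerivedCategory.standard

namespace Groth.Agent.H9Misc.DRingPCDescent

open DRingTor DRingRestrict Groth.Agent.KFlatLib

variable {A B : Type u} [CommRing A] [CommRing B]
  (F : ModuleCat.{u} B ⥤ ModuleCat.{u} A) [F.Additive] [PreservesFiniteLimits F] [PreservesFiniteColimits F]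

lemma isZero_H_map {K : Dual.D B} {i : ℤ}
    (h : IsZero ((DerivedCategory.homologyFunctor (ModuleCat.{u} B) i).obj K)) :
    IsZero ((DerivedCategory.homologyFunctor (ModuleCat.{u} A) i).obj (F.mapDerivedCategory.obj K)) :=
  (F.map_isZero h).of_iso ((mapDCHomologyIso F i).app K)

variable (hfin : ∀ M : ModuleCat.{u} B, Module.Finite A (F.obj M) → Module.Finite B M)
  (hperf : ∀ K : Dual.D B, DRing.IsPerfect B K → DRing.IsPseudoCoherent' A (F.mapDerivedCategory.obj K))
  (hzero : ∀ M : ModuleCat.{u} B, IsZero (F.obj M) → IsZero M)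

include hfin hperf in
lemma pc_of_map_aux : ∀ (k : ℕ) (m : ℤ) (b : ℤ), b + 1 ≤ m + k → ∀ K : Dual.D B,
    (∀ i, b < i → IsZero ((DerivedCategory.homologyFunctor (ModuleCat.{u} B) i).obj K)) →
    DRing.IsPseudoCoherent A m ((F.mapDerivedCategory).obj K) → DRing.IsPseudoCoherent B m K := by
  intro k
  induction k with
  | zero => exact fun m b hb K hz _ => DRingPC.of_vanish K fun i hi => hz i (by omega)
  | succ k ih =>
    intro m b hb K hz hK
    rcases lt_or_ge b m with hbm | hbm
    · exact DRingPC.of_vanish K fun i hi => hz i (by omega)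
    haveI : K.IsLE b := (DerivedCategory.isLE_iff K b).2 hz
    obtain ⟨P, hP, ⟨e⟩⟩ := K.exists_iso_Q_obj_of_isLE b
    have hfin : Module.Finite B ((DerivedCategory.homologyFunctor (ModuleCat.{u} B) b).obj K) := by
      have h := (Groth.Agent.S2068.result _ b (DRingPC.mono hbm hK)).1 fun i hi => isZero_H_map F (hz i hi)
      haveI : Module.Finite A ((F.mapDerivedCategory ⋙
          DerivedCategory.homologyFunctor (ModuleCat.{u} A) b).obj K) := h
      exact hfin _ (Module.Finite.equiv ((mapDCHomologyIso F b).app K).toLinearEquiv)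
    haveI : IsIso (P.iCycles b) := P.isIso_iCycles b (b + 1) (by simp)
      ((CochainComplex.isZero_of_isStrictlyLE P b (b + 1) (by omega)).eq_of_tgt _ _)
    let p : P.X b ⟶ (DerivedCategory.homologyFunctor (ModuleCat.{u} B) b).obj K :=
      inv (P.iCycles b) ≫ P.homologyπ b ≫ ((DerivedCategory.homologyFunctorFactors (ModuleCat.{u} B) b).app P).inv ≫
        (DerivedCategory.homologyFunctor (ModuleCat.{u} B) b).map e.inv
    obtain ⟨n, π, hπ⟩ := Module.Finite.exists_fin' B ((DerivedCategory.homologyFunctor (ModuleCat.{u} B) b).obj K)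
    obtain ⟨l, hl⟩ := Module.projective_lifting_property p.hom π ((ModuleCat.epi_iff_surjective p).1 inferInstance)
    let N : ModuleCat.{u} B := ModuleCat.of B (Fin n → B)
    let ι : (sg b).obj N ⟶ P := HomologicalComplex.mkHomFromSingle (ModuleCat.ofHom l)
      fun i (hi : b + 1 = i) => (CochainComplex.isZero_of_isStrictlyLE P b i (by omega)).eq_of_tgt _ _
    let α : toD'.obj ((sg b).obj N) ⟶ K := toD'.map ι ≫ e.inv
    haveI : Epi ((DerivedCategory.homologyFunctor (ModuleCat.{u} B) b).map α) := by
      let w : N ⟶ ((sg b).obj N).homology b :=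
        (HomologicalComplex.singleObjCyclesSelfIso (ComplexShape.up ℤ) b N).inv ≫ ((sg b).obj N).homologyπ b
      haveI : Epi (w ≫ ((DerivedCategory.homologyFunctorFactors (ModuleCat.{u} B) b).app ((sg b).obj N)).inv ≫
          (DerivedCategory.homologyFunctor (ModuleCat.{u} B) b).map α) := by
        have hw : w ≫ ((DerivedCategory.homologyFunctorFactors (ModuleCat.{u} B) b).app ((sg b).obj N)).inv ≫
            (DerivedCategory.homologyFunctor (ModuleCat.{u} B) b).map α = ModuleCat.ofHom π := by
          have hp : ModuleCat.ofHom l ≫ p = ModuleCat.ofHom π := ModuleCat.hom_ext hl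
          have hc : (HomologicalComplex.singleObjCyclesSelfIso (ComplexShape.up ℤ) b N).inv ≫
              HomologicalComplex.cyclesMap ι b = ModuleCat.ofHom l ≫ inv (P.iCycles b) := by
            rw [← cancel_mono (P.iCycles b)]
            simp [ι]
          have hn : (DerivedCategory.homologyFunctorFactors (ModuleCat.{u} B) b).inv.app ((sg b).obj N) ≫
              (DerivedCategory.homologyFunctor (ModuleCat.{u} B) b).map (DerivedCategory.Q.map ι) =
              HomologicalComplex.homologyMap ι b ≫
                (DerivedCategory.homologyFunctorFactors (ModuleCat.{u} B) b).inv.app P :=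
            ((DerivedCategory.homologyFunctorFactors (ModuleCat.{u} B) b).inv.naturality ι).symm
          refine Eq.trans ?_ hp
          show w ≫ (DerivedCategory.homologyFunctorFactors (ModuleCat.{u} B) b).inv.app ((sg b).obj N) ≫
            (DerivedCategory.homologyFunctor (ModuleCat.{u} B) b).map (DerivedCategory.Q.map ι ≫ e.inv) = _
          refine (congrArg (fun x => w ≫ (DerivedCategory.homologyFunctorFactors (ModuleCat.{u} B) b).inv.app
            ((sg b).obj N) ≫ x) ((DerivedCategory.homologyFunctor (ModuleCat.{u} B) b).map_comp _ _)).trans ?_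
          refine (congrArg (w ≫ ·) ((assoc _ _ _).symm.trans ((congrArg (· ≫
            (DerivedCategory.homologyFunctor (ModuleCat.{u} B) b).map e.inv) hn).trans (assoc _ _ _)))).trans ?_
          refine (assoc _ _ _).trans ?_
          refine (congrArg ((HomologicalComplex.singleObjCyclesSelfIso (ComplexShape.up ℤ) b N).inv ≫ ·)
            ((assoc _ _ _).symm.trans ((congrArg (· ≫ ((DerivedCategory.homologyFunctorFactors (ModuleCat.{u} B) b).app P).inv ≫
              (DerivedCategory.homologyFunctor (ModuleCat.{u} B) b).map e.inv)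
                (HomologicalComplex.homologyπ_naturality ι b)).trans (assoc _ _ _)))).trans ?_
          exact (assoc _ _ _).symm.trans ((congrArg (· ≫ _) hc).trans (assoc _ _ _))
        rw [hw]
        exact (ModuleCat.epi_iff_surjective _).2 hπ
      exact epi_of_epi (w ≫ ((DerivedCategory.homologyFunctorFactors (ModuleCat.{u} B) b).app
        ((sg b).obj N)).inv) _
    obtain ⟨C, g, h, hT⟩ := distinguished_cocone_triangle α
    have hN : DRing.IsPerfect B (toD'.obj ((sg b).obj N)) :=
      DRingPC.isPerfect_of_iso ((DerivedCategory.singleFunctorIsoCompQ (ModuleCat.{u} B) b).app N)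
        (DRingPC.isPerfect_single ⟨(sg 0).obj N, 0, 0,
          fun i hi => HomologicalComplex.isZero_single_obj_X _ _ _ _ (by omega), fun i => by
            rcases eq_or_ne i 0 with rfl | hi
            · let f := (HomologicalComplex.singleObjXSelf (ComplexShape.up ℤ) 0 N).toLinearEquiv
              exact ⟨Module.Finite.equiv f.symm, Module.Projective.of_equiv f.symm⟩
            · haveI := ModuleCat.subsingleton_of_isZero
                (HomologicalComplex.isZero_single_obj_X (ComplexShape.up ℤ) 0 N i hi)
              exact ⟨inferInstance, inferInstance⟩,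
          ⟨((DerivedCategory.singleFunctorIsoCompQ (ModuleCat.{u} B) 0).app N).symm⟩⟩)
    have hNH : ∀ i, i ≠ b → IsZero ((DerivedCategory.homologyFunctor (ModuleCat.{u} B) i).obj (toD'.obj ((sg b).obj N))) :=
      fun i hi => (ShortComplex.isZero_homology_of_isZero_X₂ _
        (HomologicalComplex.isZero_single_obj_X (ComplexShape.up ℤ) b N i hi)).of_iso
          ((DerivedCategory.homologyFunctorFactors (ModuleCat.{u} B) i).app _)
    have hC : ∀ i, b - 1 < i → IsZero ((DerivedCategory.homologyFunctor (ModuleCat.{u} B) i).obj C) := fun i hi => by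
      refine (DerivedCategory.HomologySequence.exact₃ _ hT i (i + 1) rfl).isZero_X₂ ?_
        ((hNH (i + 1) (by omega)).eq_of_tgt _ _)
      rcases eq_or_ne i b with rfl | hib
      · exact (DerivedCategory.HomologySequence.epi_homologyMap_mor₁_iff _ hT i).1 (by assumption)
      · exact (hz i (by omega)).eq_of_src _ _
    have hCp : DRing.IsPseudoCoherent A m ((F.mapDerivedCategory).obj C) :=
      (Groth.Agent.S2067.result _ ((F.mapDerivedCategory).map_distinguished _ hT) m).1
        ((DRingPC.pc'_iff _).1 (hperf _ hN) _) hK
    exact (Groth.Agent.S2067.result _ hT m).2.1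
      ((DRingPC.pc'_iff _).1 ((DRingPerfect.isPerfect_iff _).1 hN).1 m) (ih m (b - 1) (by omega) C hC hCp)

include hfin hperf hzero in
/-- Pseudo-coherence is reflected. -/
theorem pc_of_map (m : ℤ) (K : Dual.D B) (h : DRing.IsPseudoCoherent A m (F.mapDerivedCategory.obj K)) :
    DRing.IsPseudoCoherent B m K := by
  obtain ⟨b, hb⟩ := DRingPC.exists_bound h
  exact pc_of_map_aux F hfin hperf (b + 1 - m).toNat m b (by omega) K
    (fun i hi => hzero _ ((hb i hi).of_iso ((mapDCHomologyIso F i).app K).symm)) h

end Groth.Agent.H9Misc.DRingPCDescent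

namespace Groth.Agent.H9Misc.DRingPCDescent

open DRingTor DRingRestrict DRingTorDescent MonoidalCategory

variable {R R' : Type u} [CommRing R] [CommRing R'] [Algebra R R'] [Module.FaithfullyFlat R R']

lemma finite_of_extendScalars (M : ModuleCat.{u} R)
    (h : Module.Finite R' ((ModuleCat.extendScalars.{u, u, u} (algebraMap R R')).obj M)) : Module.Finite R M := by
  revert h
  rename_i i1 i2 i3 i4
  have he : (algebraMap R R').toAlgebra = i3 := Algebra.algebra_ext _ _ fun _ => rfl
  generalize algebraMap R R' = φ at he
  subst he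
  intro h
  letI := φ.toAlgebra
  haveI : Module.Finite R' (TensorProduct R R' M) := h
  exact Module.Finite.of_finite_tensorProduct_of_faithfullyFlat R'

lemma isZero_of_extendScalars (M : ModuleCat.{u} R)
    (h : IsZero ((ModuleCat.extendScalars.{u, u, u} (algebraMap R R')).obj M)) : IsZero M := by
  revert h
  rename_i i1 i2 i3 i4
  have he : (algebraMap R R').toAlgebra = i3 := Algebra.algebra_ext _ _ fun _ => rfl
  generalize algebraMap R R' = φ at he
  subst he
  intro h
  letI := φ.toAlgebra
  haveI : Subsingleton (TensorProduct R R' M) := ModuleCat.subsingleton_of_isZero h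
  haveI := Module.FaithfullyFlat.lTensor_reflects_triviality R R' M
  exact ModuleCat.isZero_of_subsingleton M

/-- Pseudo-coherence descends along faithfully flat ring maps. -/
theorem pc_descent (K : DRing.Cx R) (m : ℤ)
    (h : DRing.IsPseudoCoherent R' m (DRing.toD ((DRingLTensor.extC' (algebraMap R R')).obj K))) :
    DRing.IsPseudoCoherent R m (DRing.toD K) := by
  haveI := ModuleCat.preservesFiniteLimits_extendScalars_of_flat
    (RingHom.flat_algebraMap_iff.2 (inferInstance : Module.Flat R R'))
  haveI : PreservesFiniteColimits (ModuleCat.extendScalars.{u, u, u} (algebraMap R R')) := by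
    haveI : (ModuleCat.extendScalars.{u, u, u} (algebraMap R R')).IsLeftAdjoint :=
      (ModuleCat.extendRestrictScalarsAdj (algebraMap R R')).isLeftAdjoint
    infer_instance
  let F := ModuleCat.extendScalars.{u, u, u} (algebraMap R R')
  refine pc_of_map F finite_of_extendScalars (fun L hL => ?_) isZero_of_extendScalars m _
    (DRingPC.of_iso (F.mapDerivedCategoryFactors.app K).symm h)
  exact pc'_map F (finFree_extendScalars _) ((DRingPerfect.isPerfect_iff L).1 hL).1

/-- Perfectness descends along faithfully flat ring maps. -/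
theorem isPerfect_descent (K : DRing.Cx R)
    (h : DRing.IsPerfect R' (DRing.toD ((DRingLTensor.extC' (algebraMap R R')).obj K))) :
    DRing.IsPerfect R (DRing.toD K) := by
  rw [DRingPerfect.isPerfect_iff, DRingPC.pc'_iff] at h ⊢
  obtain ⟨hpc, a, b, hamp⟩ := h
  exact ⟨fun m => pc_descent K m (hpc m), a, b,
    of_family (ι := Unit) (fun _ => R') (fun _ => algebraMap R R')
      (fun _ => RingHom.flat_algebraMap_iff.2 inferInstance)
      (fun H hH => isZero_of_faithfullyFlat H (isZero_tensor_of_resB H (hH ())))
      K a b (fun _ => hamp)⟩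

end Groth.Agent.H9Misc.DRingPCDescent
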