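import Groth.Agent.H9Misc.RpushZero
import Groth.Agent.H28.GenReg
import Groth.Agent.QCoh.FlatCoh
import Groth.Agent.S0843
import Groth.Agent.S0844
import Groth.Agent.S0845

/-! Cohomology of twists of projective space over an affine open of the base. -/

set_option linter.style.haveILetI false
set_option backward.isDefEq.respectTransparency false
set_option backward.isDefEq.respectTransparency.types false

universe u

open CategoryTheory CategoryTheory.Limits AlgebraicGeometry TopologicalSpace
open scoped TensorProduct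

noncomputable section

namespace Groth.Agent.H9Misc.PnTwistVanish

open Groth.Agent

attribute [local instance] MvPolynomial.gradedAlgebra

theorem flat_homogeneous (R : Type u) [CommRing R] (n d : ℕ) :
    Module.Flat R (MvPolynomial.homogeneousSubmodule (Fin (n + 1)) R d) :=
  Module.Flat.of_retract (MvPolynomial.homogeneousSubmodule (Fin (n + 1)) R d).subtype
    ((MvPolynomial.homogeneousComponent d).codRestrict _ fun p => MvPolynomial.homogeneousComponent_mem d p)
    (LinearMap.ext fun p => Subtype.ext (MvPolynomial.homogeneousComponent_of_mem p.2 |>.trans (if_pos rfl)))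

/-- The cohomology of the twisting sheaves on projective space is flat. -/
theorem flat_HH (R : Type u) [CommRing R] (r : ℕ) (d : ℤ) (p : ℕ) :
    Module.Flat R (Coh.HH (CohB1.ProjSpace r R) (Twist.twistProjSpace r R d) p) := by
  by_cases h₀ : p = 0 ∧ 0 ≤ d
  · obtain ⟨rfl, hd⟩ := h₀
    obtain ⟨k, rfl⟩ := Int.eq_ofNat_of_zero_le hd
    obtain ⟨e⟩ := S0843.result R r k
    haveI := flat_homogeneous R r k
    exact Module.Flat.of_linearEquiv e
  by_cases hn : p = r ∧ d ≤ -((r : ℤ) + 1)
  · obtain ⟨rfl, hd⟩ := hn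
    obtain ⟨k, rfl⟩ : ∃ k : ℕ, d = -((p : ℤ) + 1 + k) := ⟨(-d - (p : ℤ) - 1).toNat, by omega⟩
    obtain ⟨e⟩ := S0845.result R p k
    haveI := flat_homogeneous R p k
    exact Module.Flat.of_linearEquiv e
  haveI := S0844.result R r d p h₀ hn
  infer_instance

/-- The middle cohomology of twists over an affine open vanishes. -/
theorem subsingleton_HH_restrict {Y : Scheme.{u}} (r : ℕ) (d : ℤ) (i : ℕ)
    (h : ¬ ((i = 0 ∧ 0 ≤ d) ∨ (i = r ∧ d ≤ -((r : ℤ) + 1)))) (W : Y.affineOpens) :
    Subsingleton (Coh.HH (H28.GenReg.V (n := r) W)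
      ((Twist.twistOver r Y d).restrict (H28.PnBox.PU (n := r) W.1).ι) i) := by
  let R := ULift.{u} ℤ
  letI : Algebra R Γ(Y, W.1) := ((Int.castRingHom Γ(Y, W.1)).comp ULift.ringEquiv.toRingHom).toAlgebra
  haveI : IsProper (CohB1.ProjSpace.toSpec r R) := PnCoh.Chow.isProper_toSpec r R
  letI : (CohB1.ProjSpace r R).Over (Spec (CommRingCat.of R)) := ⟨CohB1.ProjSpace.toSpec r R⟩
  haveI : CompactSpace (CohB1.ProjSpace r R) :=
    QuasiCompact.compactSpace_of_compactSpace (CohB1.ProjSpace.toSpec r R)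
  haveI : (CohB1.ProjSpace r R).IsSeparated := ⟨by
    rw [← Limits.terminal.comp_from (CohB1.ProjSpace.toSpec r R)]
    infer_instance⟩
  haveI : Flat (CohB1.ProjSpace.toSpec r R) := H28.FlatPr.flat_toSpec r
  haveI : Flat (CohB1.ProjSpace r R ↘ Spec (CommRingCat.of R)) := H28.FlatPr.flat_toSpec r
  let F := Twist.twistProjSpace r R d
  have hFi : PicF.IsInvertible F :=
    PnCoh.Finite.isInvertible_twist (H28.KRRReg.crd r) H28.KRRReg.crd_mem H28.KRRReg.crd_cover d
  have hfl : FlatMod.IsFlatOver (CohB1.ProjSpace r R ↘ Spec (CommRingCat.of R)) F :=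
    H28.FlatPr.isFlatOver_of_isFinLocFree _ (H23.PullPush.isFinLocFree_of_isInvertible hFi)
  have hpb : IsPullback (H28.PnBox.gU (n := r) W.1) (H28.GenReg.V (n := r) W ↘ Spec (CommRingCat.of Γ(Y, W.1)))
      (CohB1.ProjSpace r R ↘ Spec (CommRingCat.of R))
      (Spec.map (CommRingCat.ofHom (algebraMap R Γ(Y, W.1)))) := by
    rw [specULiftZIsTerminal.hom_ext (Spec.map (CommRingCat.ofHom (algebraMap R Γ(Y, W.1))))
      (specULiftZIsTerminal.from _)]
    exact H28.GenReg.isChart W
  obtain ⟨e⟩ := QCoh.nonempty_HH_bc_of_flat (A := R) (F := F) (PnCoh.isQCoh_twist_mvPolynomial _ _ d) hfl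
    (fun p => flat_HH R r d p) (H28.PnBox.gU (n := r) W.1) hpb i
  obtain ⟨t⟩ := H28.GenReg.nonempty_pullback_twistOver (n := r) (T := Y) d (H28.PnBox.PU (n := r) W.1).ι
  haveI := S0844.result R r d i (fun h' => h (Or.inl h')) (fun h' => h (Or.inr h'))
  haveI : Subsingleton (Coh.HH _ ((Scheme.Modules.pullback (H28.PnBox.gU (n := r) W.1)).obj F) i) :=
    e.toEquiv.subsingleton
  exact QCoh.subsingleton_HH_of_iso
    ((Scheme.Modules.restrictFunctorIsoPullback (H28.PnBox.PU (n := r) W.1).ι).app _ ≪≫ t).symm i ‹_›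

end Groth.Agent.H9Misc.PnTwistVanish
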