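import Groth.Agent.H28.BlowHH
import Groth.Agent.H28.PBBasis
import Groth.Agent.H9Misc.PnTwistVanish
import Groth.Agent.H23.ProjBd.Proper
import Groth.Agent.Lib.CurveOnSurf

/-! Higher direct images of the twists on a projective bundle. -/

set_option autoImplicit false
set_option linter.style.haveILetI false
set_option linter.unusedSectionVars false
set_option backward.isDefEq.respectTransparency false
set_option backward.isDefEq.respectTransparency.types false

universe u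

open CategoryTheory CategoryTheory.Limits AlgebraicGeometry TopologicalSpace Opposite

noncomputable section

namespace Groth.Agent.H9Misc.PBTwistVanish

open Groth.Agent Groth.Agent.H28 Groth.Agent.H23.PicMul

variable {S P : Scheme.{u}}

/-- A module without sections on small affine opens is zero. -/
theorem isZero_of_small {N : S.Modules}
    (h : ∀ p : S, ∃ U : S.Opens, p ∈ U ∧ ∀ V : S.Opens, IsAffineOpen V → V ≤ U → Subsingleton Γ(N, V)) :
    IsZero N := by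
  refine (IsZero.iff_id_eq_zero _).2 (Scheme.Modules.hom_ext _ _ fun U => ?_)
  ext a
  refine AModX.eq_of_locally _ _ fun p hp => ?_
  obtain ⟨U₁, hp₁, hU₁⟩ := h p
  obtain ⟨_, ⟨W, hW, rfl⟩, hpW, hle⟩ :=
    S.isBasis_affineOpens.exists_subset_of_mem_open (show p ∈ (U ⊓ U₁ : S.Opens) from ⟨hp, hp₁⟩) (U ⊓ U₁ : S.Opens).2
  exact ⟨W, fun z hz => (hle hz).1, hpW, (hU₁ W hW fun z hz => (hle hz).2).elim _ _⟩

/-- The abelian higher direct images vanish when the cohomology over small affine opens does. -/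
theorem isZero_RpushAb_of_small (f : P ⟶ S) [QuasiCompact f] [QuasiSeparated f] {M : P.Modules} (hM : Coh.IsQCoh M)
    (p : ℕ) (h : ∀ x : S, ∃ U : S.Opens, x ∈ U ∧ ∀ V : S.Opens, IsAffineOpen V → V ≤ U →
      Subsingleton (Coh.HH _ (M.restrict (f ⁻¹ᵁ V).ι) p)) :
    IsZero ((Coh.RpushAb f p).obj (Coh.toAb M)) := by
  haveI : HasInjectiveResolutions P.Modules := KFlatLib.hasInjectiveResolutions_modules
  have h' : IsZero ((Coh.Rpush f p).obj M) := by
    refine isZero_of_small fun x => ?_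
    obtain ⟨U, hx, hU⟩ := h x
    refine ⟨U, hx, fun V hV hVU => ?_⟩
    letI := QCoh.modHH (QCoh.rhoV f V) (M.restrict (f ⁻¹ᵁ V).ι) p
    obtain ⟨l⟩ := QCoh.nonempty_sections_HH (f := f) hM hV p
    haveI := hU V hV hVU
    exact l.toEquiv.subsingleton
  have hz : ∀ (N : S.Modules), IsZero N → IsZero (Coh.toAb N) := fun N hN =>
    (QCoh.toAbFunctor S).map_isZero hN
  cases p with
  | zero =>
    obtain ⟨e⟩ := QCoh.nonempty_RpushAb_zero_iso f M
    haveI := SpObjSS.enoughInjectives_of_hasInjectiveResolutions (C := P.Modules)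
    haveI := QCoh.preservesFiniteLimits_push f
    exact (hz _ (h'.of_iso ((Scheme.Modules.pushforward f).rightDerivedZeroIsoSelf.app M).symm)).of_iso e
  | succ q =>
    obtain ⟨e⟩ := QCoh.nonempty_RpushAb_iso f M q
    obtain ⟨e'⟩ := QCoh.nonempty_Rpush_iso f M q
    exact (hz _ (h'.of_iso e'.symm)).of_iso e

theorem hh_twistOver {n : ℕ} (T : Scheme.{u}) [IsAffine T] (d : ℤ) (i : ℕ)
    (h : ¬ ((i = 0 ∧ 0 ≤ d) ∨ (i = n ∧ d ≤ -((n : ℤ) + 1)))) :
    Subsingleton (Coh.HH (KRR.PY n T) (Twist.twistOver n T d) i) := by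
  have h1 := PnTwistVanish.subsingleton_HH_restrict (Y := T) n d i h ⟨⊤, isAffineOpen_top T⟩
  haveI : IsIso (KRR.pr n T ⁻¹ᵁ ⊤ : (KRR.PY n T).Opens).ι := BlowHH.isIso_ι_top _
  exact BlowHH.hh_iso (KRR.pr n T ⁻¹ᵁ ⊤ : (KRR.PY n T).Opens).ι
    (QCoh.isQCoh_pullback _ (PnCoh.isQCoh_twist_mvPolynomial _ _ d)) i
    (QCoh.subsingleton_HH_of_iso ((Scheme.Modules.restrictFunctorIsoPullback _).app _) _ h1)

variable {π : P ⟶ S} {E : S.Modules} {O1 : P.Modules}
  {q : (Scheme.Modules.pullback π).obj E ⟶ O1} {r : ℕ}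

/-- Every small affine open carries a chart. -/
theorem exists_chart (hP : KRR.IsProjBundle π E O1 q) (hE : FlatMod.IsFinLocFreeOfRank (r + 1) E) (x : S) :
    ∃ U : S.Opens, x ∈ U ∧ ∀ V : S.Opens, IsAffineOpen V → V ≤ U →
      ∃ c : PBAtlas.Chart π O1 E r, c.U.1 = V := by
  obtain ⟨U, b, hx, hb⟩ := KvbModel.frameAt_of_rank hE x
  refine ⟨U, hx, fun V hV hle => ?_⟩
  obtain ⟨θ, hθi, hθ, hθe⟩ := PBChart.exists_chart (U := V) hP (hb.res hle)
  obtain ⟨e⟩ := H23.Frame.exists_iso_of_frame _ (hb.res hle)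
  exact ⟨⟨⟨V, hV⟩, θ, hθi, hθ, hθe, r + 1,
    ⟨((Scheme.Modules.restrictFunctorIsoPullback V.ι).app E).symm ≪≫ e⟩⟩, rfl⟩

/-- A module restricting to a twist on the charts has the vanishing of that twist. -/
theorem isZero_of_twist (hP : KRR.IsProjBundle π E O1 q) (hE : FlatMod.IsFinLocFreeOfRank (r + 1) E)
    {M : P.Modules} (hM : Coh.IsQCoh M) (d : ℤ) (i : ℕ)
    (he : ∀ c : PBAtlas.Chart π O1 E r, Nonempty ((Scheme.Modules.pullback c.j).obj M ≅ Twist.twistOver r c.B d))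
    (h : ¬ ((i = 0 ∧ 0 ≤ d) ∨ (i = r ∧ d ≤ -((r : ℤ) + 1)))) :
    IsZero ((Coh.RpushAb π i).obj (Coh.toAb M)) := by
  haveI := H23.ProjBd.isProper_of_projBundle hP hE
  refine isZero_RpushAb_of_small π hM i fun x => ?_
  obtain ⟨U, hx, hU⟩ := exists_chart hP hE x
  refine ⟨U, hx, fun W hW hle => ?_⟩
  obtain ⟨c, rfl⟩ := hU W hW hle
  obtain ⟨e⟩ := he c
  let V : P.Opens := π ⁻¹ᵁ c.U.1
  refine QCoh.subsingleton_HH_of_iso ((Scheme.Modules.restrictFunctorIsoPullback V.ι).app M).symm _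
    (BlowHH.hh_iso c.θ (QCoh.isQCoh_pullback _ hM) _ ?_)
  exact QCoh.subsingleton_HH_of_iso (((Scheme.Modules.pullbackComp c.θ V.ι).app M) ≪≫ e).symm _
    (hh_twistOver c.B d i h)

theorem nonempty_pos (c : PBAtlas.Chart π O1 E r) (d : ℕ) :
    Nonempty ((Scheme.Modules.pullback c.j).obj (CohB1.tensorPow O1 d) ≅ Twist.twistOver r c.B (d : ℤ)) := by
  obtain ⟨e₁⟩ := AmpleVan.RelVanish.pullback_tensorPow c.j O1 d
  obtain ⟨e₂⟩ := c.nonempty_O1
  obtain ⟨e₃⟩ := AmpleVan.RelVanish.tensorPow_congr e₂ d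
  obtain ⟨e₄⟩ := RegTwist.tensorPow_twistOver (n := r) (Y := c.B) d
  exact ⟨e₁ ≪≫ e₃ ≪≫ e₄⟩

theorem nonempty_neg (c : PBAtlas.Chart π O1 E r) {L : P.Modules} (hL : ClSub.IsInverseOf L O1) (m : ℕ) :
    Nonempty ((Scheme.Modules.pullback c.j).obj (CohB1.tensorPow L m) ≅ Twist.twistOver r c.B (-(m : ℤ))) := by
  obtain ⟨e⟩ := hL
  have hinv : PicF.cl O1 * PicF.cl L = 1 := by
    rw [mul_comm, ← H23.PicMul.cl_tensor, H23.PicMul.one_def]
    exact H23.PicMul.cl_eq_iff.2 ⟨e⟩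
  exact H23.PicMul.cl_eq_iff.1 ((congrArg (PicF.pullCl c.j) (H23.PicMul.cl_tensorPow L m)).trans
    (PBBasis.cl_j_pow c hinv m))

theorem main (hP : KRR.IsProjBundle π E O1 q) (hE : FlatMod.IsFinLocFreeOfRank (r + 1) E)
    {L : P.Modules} (hL : ClSub.IsInverseOf L O1) :
    (∀ (n i : ℕ), i ≠ 0 → IsZero ((Coh.RpushAb π i).obj (Coh.toAb (CohB1.tensorPow O1 n)))) ∧
    (∀ (m i : ℕ), 1 ≤ m → ¬ (i = r ∧ r + 1 ≤ m) →
      IsZero ((Coh.RpushAb π i).obj (Coh.toAb (CohB1.tensorPow L m)))) := by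
  have hO : PicF.IsInvertible O1 := PBCores.isInvertible_iff_rank.2 hP.invertible
  refine ⟨fun n i hi => isZero_of_twist hP hE (ProjUPX.isQCoh_of_isInvertible (InvX.isInvertible_tensorPow hO n))
      (n : ℤ) i (fun c => nonempty_pos c n) (by omega),
    fun m i hm hmi => isZero_of_twist hP hE
      (ProjUPX.isQCoh_of_isInvertible (InvX.isInvertible_tensorPow (CurveOnSurf.isInvertible_of_inverse hO hL).1 m))
      (-(m : ℤ)) i (fun c => nonempty_neg c hL m) (by omega)⟩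

end Groth.Agent.H9Misc.PBTwistVanish
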