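import Groth.Agent.H9Misc.TorBalance
import Mathlib

/-! Base change for `Tor`. -/

set_option linter.style.haveILetI false

universe u

open CategoryTheory CategoryTheory.Limits MonoidalCategory TensorProduct

namespace Groth.Agent.H9Misc.TorBaseChange

variable (A A' : Type u) [CommRing A] [CommRing A'] [Algebra A A']

/-- `M ↦ A' ⊗ M`. -/
noncomputable def G : ModuleCat.{u} A ⥤ ModuleCat.{u} A' where
  obj M := ModuleCat.of A' (A' ⊗[A] M)
  map f := ModuleCat.ofHom (f.hom.baseChange A')
  map_id M := ModuleCat.hom_ext (by simp)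
  map_comp f g := ModuleCat.hom_ext (by simp [LinearMap.baseChange_comp])

instance : (G A A').Additive where
  map_add {M N f g} := ModuleCat.hom_ext (by simp only [G, ModuleCat.hom_add, ModuleCat.hom_ofHom, LinearMap.baseChange_add]; rfl)

variable {A}

/-- Exactness of `A' ⊗ -` on a resolution. -/
lemma exact_lTensor {M : ModuleCat.{u} A} (P : ProjectiveResolution M)
    (hP : ∀ q : ℕ, 0 < q → IsZero (((Tor (ModuleCat.{u} A) q).obj M).obj (ModuleCat.of A A'))) (q : ℕ) :
    Function.Exact ((P.complex.d (q + 2) (q + 1)).hom.lTensor A') ((P.complex.d (q + 1) q).hom.lTensor A') := by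
  have h := (hP (q + 1) (by omega)).of_iso (TorBalance.torIso' P (ModuleCat.of A A') (q + 1)).symm
  rw [← HomologicalComplex.exactAt_iff_isZero_homology,
    HomologicalComplex.exactAt_iff' _ (q + 2) (q + 1) q (by simp) (by simp),
    ShortComplex.ShortExact.moduleCat_exact_iff_function_exact] at h
  have hc : ∀ {X Y : ModuleCat.{u} A} (f : X ⟶ Y), f.hom.lTensor A' ∘ₗ (TensorProduct.comm A X A').toLinearMap =
      (TensorProduct.comm A Y A').toLinearMap ∘ₗ f.hom.rTensor A' := fun f => TensorProduct.ext' fun x a => rfl
  exact (Function.Exact.iff_of_ladder_linearEquiv (e₁ := TensorProduct.comm A _ A')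
    (e₂ := TensorProduct.comm A _ A') (e₃ := TensorProduct.comm A _ A') (hc _) (hc _)).2 h

variable {M : ModuleCat.{u} A}

/-- The base change of a resolution. -/
noncomputable def resolution (P : ProjectiveResolution M)
    (hP : ∀ q : ℕ, 0 < q → IsZero (((Tor (ModuleCat.{u} A) q).obj M).obj (ModuleCat.of A A'))) :
    ProjectiveResolution ((G A A').obj M) where
  complex := ((G A A').mapHomologicalComplex _).obj P.complex
  projective n := by
    haveI : Module.Projective A (P.complex.X n) := (IsProjective.iff_projective _).2 (P.projective n)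
    haveI : Module.Projective A' (A' ⊗[A] P.complex.X n) := inferInstance
    exact (IsProjective.iff_projective (R := A') (ModuleCat.of A' (A' ⊗[A] P.complex.X n))).1 this
  π := (ChainComplex.toSingle₀Equiv _ _).symm ⟨(G A A').map (P.π.f 0), by
    show (G A A').map (P.complex.d 1 0) ≫ (G A A').map (P.π.f 0) = 0
    exact ((G A A').map_comp _ _).symm.trans ((congrArg (G A A').map P.complex_d_comp_π_f_zero).trans (Functor.map_zero _ _ _))⟩
  quasiIso := ⟨fun n => by
    cases n with
    | zero =>
      rw [ChainComplex.quasiIsoAt₀_iff, ShortComplex.quasiIso_iff_of_zeros']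
      · have hex : Function.Exact (P.complex.d 1 0).hom (P.π.f 0).hom :=
          (ShortComplex.ShortExact.moduleCat_exact_iff_function_exact _).1 P.exact₀
        have hs : Function.Surjective (P.π.f 0).hom := (ModuleCat.epi_iff_surjective _).1 inferInstance
        refine (ShortComplex.exact_and_epi_g_iff_of_iso ?_).2 (⟨?_, ?_⟩ :
          (ShortComplex.mk ((G A A').map (P.complex.d 1 0)) ((G A A').map (P.π.f 0))
            (by rw [← Functor.map_comp, P.complex_d_comp_π_f_zero, Functor.map_zero])).Exact ∧
              Epi ((G A A').map (P.π.f 0)))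
        · exact ShortComplex.isoMk (Iso.refl _) (Iso.refl _) (Iso.refl _)
            ((Category.id_comp _).trans (Category.comp_id _).symm)
            ((Category.id_comp _).trans (Category.comp_id _).symm)
        · rw [ShortComplex.ShortExact.moduleCat_exact_iff_function_exact]
          exact lTensor_exact A' hex hs
        · exact (ModuleCat.epi_iff_surjective _).2 (LinearMap.lTensor_surjective A' hs)
      all_goals first | rfl | exact HomologicalComplex.shape (((G A A').mapHomologicalComplex (ComplexShape.down ℕ)).obj P.complex) 0 0 (Nat.succ_ne_zero 0)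
    | succ n =>
      rw [quasiIsoAt_iff_exactAt']
      · rw [HomologicalComplex.exactAt_iff' _ (n + 2) (n + 1) n (by simp) (by simp),
          ShortComplex.ShortExact.moduleCat_exact_iff_function_exact]
        exact exact_lTensor A' P hP n
      · apply ChainComplex.exactAt_succ_single_obj⟩

variable (A) (Q : Type u) [AddCommGroup Q] [Module A' Q] [Module A Q] [IsScalarTower A A' Q]

/-- `(A' ⊗ X) ⊗_{A'} Q ≅ X ⊗_A Q`. -/
noncomputable def cancelIso : tensorRight (ModuleCat.of A Q) ≅
    G A A' ⋙ tensorRight (ModuleCat.of A' Q) ⋙ ModuleCat.restrictScalars (algebraMap A A') :=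
  NatIso.ofComponents (fun X =>
    let e : (A' ⊗[A] X) ⊗[A'] Q ≃ₗ[A'] Q ⊗[A] X :=
      (TensorProduct.comm A' _ _).trans (AlgebraTensorModule.cancelBaseChange A A' A' Q X)
    let f : X ⊗[A] Q ≃ₗ[A] Q ⊗[A] X := TensorProduct.comm A X Q
    let Z : ModuleCat.{u} A :=
      (ModuleCat.restrictScalars (algebraMap A A')).obj (ModuleCat.of A' ((A' ⊗[A] X) ⊗[A'] Q))
    let l : X ⊗[A] Q →ₗ[A] Z :=
      { toFun := fun x => e.symm (f x)
        map_add' := fun x y => by simp; rfl
        map_smul' := fun a x => by
          show e.symm (f (a • x)) = algebraMap A A' a • e.symm (f x)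
          rw [map_smul, ← algebraMap_smul A' a (f x), map_smul] }
    LinearEquiv.toModuleIso (X₁ := X ⊗[A] Q) (LinearEquiv.ofBijective l (e.symm.bijective.comp f.bijective)))
    (fun {X Y} g => ModuleCat.hom_ext (TensorProduct.ext' fun x q => by rfl))

/-- `Tor` and base change. -/
theorem exists_semilinear (P : Type u) [AddCommGroup P] [Module A P]
    (hP : ∀ q : ℕ, 0 < q → Subsingleton (((Tor (ModuleCat.{u} A) q).obj (ModuleCat.of A P)).obj (ModuleCat.of A A'))) (n : ℕ) :
    ∃ φ : ((Tor (ModuleCat.{u} A) n).obj (ModuleCat.of A P)).obj (ModuleCat.of A Q) →ₛₗ[algebraMap A A']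
        ((Tor (ModuleCat.{u} A') n).obj (ModuleCat.of A' (A' ⊗[A] P))).obj (ModuleCat.of A' Q),
      Function.Bijective φ := by
  let R : ProjectiveResolution (ModuleCat.of A P) := ProjectiveResolution.of _
  let R' := resolution A' R fun q hq => haveI := hP q hq; ModuleCat.isZero_of_subsingleton _
  let F := ModuleCat.restrictScalars (algebraMap A A')
  let H := tensorRight (ModuleCat.of A' Q)
  let C' := ((H.mapHomologicalComplex (ComplexShape.down ℕ)).obj R'.complex)
  let e : ((Tor (ModuleCat.{u} A) n).obj (ModuleCat.of A P)).obj (ModuleCat.of A Q) ≅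
      F.obj (((Tor (ModuleCat.{u} A') n).obj ((G A A').obj (ModuleCat.of A P))).obj (ModuleCat.of A' Q)) :=
    TorBalance.torIso' R (ModuleCat.of A Q) n ≪≫
      (HomologicalComplex.homologyFunctor _ _ n).mapIso
        ((NatIso.mapHomologicalComplex (cancelIso A A' Q) (ComplexShape.down ℕ)).app R.complex) ≪≫
      (C'.sc n).mapHomologyIso F ≪≫ F.mapIso (TorBalance.torIso' R' (ModuleCat.of A' Q) n).symm
  let l := e.toLinearEquiv
  exact ⟨{ toFun := fun x => l x, map_add' := fun x y => map_add l x y, map_smul' := fun a x => map_smul l a x },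
    l.bijective⟩

end Groth.Agent.H9Misc.TorBaseChange
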