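import Groth.Agent.H9Misc.DRingLTensor
import Groth.Agent.TorBridge.LES
import Mathlib.CategoryTheory.Abelian.Projective.Extend
import Mathlib

/-! `Tor` is balanced. -/

set_option linter.style.haveILetI false

universe v v' u u'

open CategoryTheory CategoryTheory.Limits MonoidalCategory

namespace Groth.Agent.H9Misc.TorBalance

open Groth.Agent.KFlatLib Groth.Agent.H9Misc.DRingLTensor

section MapExtend

variable {C : Type u} [Category.{v} C] [Abelian C] {D : Type u'} [Category.{v'} D] [Abelian D]
  (G : C ⥤ D) [G.Additive] (K : ChainComplex C ℕ)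

omit [G.Additive] in
lemma mapExtend_aux {X X' Y Y' : C} {Z Z' : D} (a : X ≅ X') (b : Y ≅ Y') (d : X' ⟶ Y') (eX : Z ≅ G.obj X')
    (eY : Z' ≅ G.obj Y') : (G.mapIso a ≪≫ eX.symm).hom ≫ (eX.hom ≫ G.map d ≫ eY.inv) =
      G.map (a.hom ≫ d ≫ b.inv) ≫ (G.mapIso b ≪≫ eY.symm).hom := by
  simp only [Iso.trans_hom, Functor.mapIso_hom, Iso.symm_hom, Category.assoc, Iso.inv_hom_id_assoc]
  rw [← G.map_comp_assoc, ← G.map_comp_assoc, Category.assoc, Category.assoc, Iso.inv_hom_id, Category.comp_id]

open Classical in
/-- Applying an additive functor commutes with extension by zero. -/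
noncomputable def mapExtendIso :
    (G.mapHomologicalComplex (ComplexShape.up ℤ)).obj (K.extend ComplexShape.embeddingDownNat) ≅
      ((G.mapHomologicalComplex (ComplexShape.down ℕ)).obj K).extend ComplexShape.embeddingDownNat :=
  HomologicalComplex.Hom.isoOfComponents
    (fun i' => if h : ∃ i, ComplexShape.embeddingDownNat.f i = i' then
        G.mapIso (K.extendXIso _ h.choose_spec) ≪≫
          (HomologicalComplex.extendXIso ((G.mapHomologicalComplex (ComplexShape.down ℕ)).obj K) _ h.choose_spec).symm
      else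
        (G.map_isZero (K.isZero_extend_X ComplexShape.embeddingDownNat i' (fun i hi => h ⟨i, hi⟩))).iso
          (HomologicalComplex.isZero_extend_X _ ComplexShape.embeddingDownNat i' (fun i hi => h ⟨i, hi⟩)))
    (fun i' j' _ => by
      by_cases hi : ∃ i, ComplexShape.embeddingDownNat.f i = i'
      swap
      · exact (G.map_isZero (K.isZero_extend_X ComplexShape.embeddingDownNat i' (fun i h => hi ⟨i, h⟩))).eq_of_src _ _
      by_cases hj : ∃ j, ComplexShape.embeddingDownNat.f j = j'
      swap
      · exact (HomologicalComplex.isZero_extend_X _ ComplexShape.embeddingDownNat j' (fun j h => hj ⟨j, h⟩)).eq_of_tgt _ _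
      rw [dif_pos hi, dif_pos hj]
      simp only [Functor.mapHomologicalComplex_obj_d]
      rw [HomologicalComplex.extend_d_eq _ _ hi.choose_spec hj.choose_spec,
        HomologicalComplex.extend_d_eq _ _ hi.choose_spec hj.choose_spec]
      exact mapExtend_aux G _ _ _ _ _)

open Classical in
lemma mapExtendIso_hom_f {i : ℕ} {i' : ℤ} (h : ComplexShape.embeddingDownNat.f i = i') :
    (mapExtendIso G K).hom.f i' = (G.mapIso (K.extendXIso _ h) ≪≫
      (HomologicalComplex.extendXIso ((G.mapHomologicalComplex (ComplexShape.down ℕ)).obj K) _ h).symm).hom := by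
  have hex : ∃ i, ComplexShape.embeddingDownNat.f i = i' := ⟨i, h⟩
  have key : ∀ (j : ℕ) (hs : ComplexShape.embeddingDownNat.f j = i'), (G.mapIso (K.extendXIso _ hs) ≪≫
      (HomologicalComplex.extendXIso ((G.mapHomologicalComplex (ComplexShape.down ℕ)).obj K) _ hs).symm).hom =
      (G.mapIso (K.extendXIso _ h) ≪≫
      (HomologicalComplex.extendXIso ((G.mapHomologicalComplex (ComplexShape.down ℕ)).obj K) _ h).symm).hom := by
    intro j hs
    obtain rfl : j = i := ComplexShape.embeddingDownNat.injective_f (hs.trans h.symm)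
    rfl
  simp only [mapExtendIso, HomologicalComplex.Hom.isoOfComponents_hom_f, dif_pos hex]
  exact key _ _

omit [G.Additive] in
lemma mapExtend_aux₂ {G' : C ⥤ D} (α : G ⟶ G') {X X' : C} {Z Z' : D} (a : X ≅ X') (eX : Z ≅ G.obj X')
    (eY : Z' ≅ G'.obj X') : α.app X ≫ (G'.mapIso a ≪≫ eY.symm).hom =
      (G.mapIso a ≪≫ eX.symm).hom ≫ (eX.hom ≫ α.app X' ≫ eY.inv) := by
  simp

lemma mapExtendIso_natural {L : ChainComplex C ℕ} (ψ : K ⟶ L) :
    (G.mapHomologicalComplex (ComplexShape.up ℤ)).map (HomologicalComplex.extendMap ψ ComplexShape.embeddingDownNat) ≫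
        (mapExtendIso G L).hom =
      (mapExtendIso G K).hom ≫
        HomologicalComplex.extendMap ((G.mapHomologicalComplex (ComplexShape.down ℕ)).map ψ) ComplexShape.embeddingDownNat := by
  ext i'
  by_cases hi : ∃ i, ComplexShape.embeddingDownNat.f i = i'
  · obtain ⟨i, h⟩ := hi
    simp only [HomologicalComplex.comp_f, Functor.mapHomologicalComplex_map_f, mapExtendIso_hom_f _ _ h,
      HomologicalComplex.extendMap_f _ _ h]
    exact (mapExtend_aux G _ _ _ _ _).symm
  · exact (HomologicalComplex.isZero_extend_X _ ComplexShape.embeddingDownNat i' (fun i h => hi ⟨i, h⟩)).eq_of_tgt _ _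

lemma mapExtendIso_natTrans {G' : C ⥤ D} [G'.Additive] (α : G ⟶ G') :
    (NatTrans.mapHomologicalComplex α (ComplexShape.up ℤ)).app (K.extend ComplexShape.embeddingDownNat) ≫
        (mapExtendIso G' K).hom =
      (mapExtendIso G K).hom ≫ HomologicalComplex.extendMap
        ((NatTrans.mapHomologicalComplex α (ComplexShape.down ℕ)).app K) ComplexShape.embeddingDownNat := by
  ext i'
  by_cases hi : ∃ i, ComplexShape.embeddingDownNat.f i = i'
  · obtain ⟨i, h⟩ := hi
    simp only [HomologicalComplex.comp_f, NatTrans.mapHomologicalComplex_app_f, mapExtendIso_hom_f _ _ h,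
      HomologicalComplex.extendMap_f _ _ h]
    exact mapExtend_aux₂ G α _ _ _
  · exact (HomologicalComplex.isZero_extend_X _ ComplexShape.embeddingDownNat i' (fun i h => hi ⟨i, h⟩)).eq_of_tgt _ _

end MapExtend

variable {A : Type u} [CommRing A] {M M' N N' : ModuleCat.{u} A}

/-- The tensor product of complexes. -/
noncomputable abbrev T : DRing.Cx A ⥤ DRing.Cx A ⥤ DRing.Cx A :=
  (curriedTensor (ModuleCat.{u} A)).map₂CochainComplex

/-- A module in degree zero. -/
noncomputable abbrev sgl (M : ModuleCat.{u} A) : DRing.Cx A :=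
  (CochainComplex.singleFunctor (ModuleCat.{u} A) 0).obj M

lemma isKF_cochainComplex (P : ProjectiveResolution M) : IsKF P.cochainComplex := by
  refine kFlat_of_termwiseFlat (b := 0) (fun n => ?_) fun i hi =>
    CochainComplex.isZero_of_isStrictlyLE _ 0 i hi
  have hP : Projective (P.cochainComplex.X n) := inferInstance
  haveI : Module.Projective A (P.cochainComplex.X n) := (IsProjective.iff_projective _).2 hP
  exact Module.Flat.of_projective

/-- `T(sgl M, K) ≅ K ⊗ M`, naturally in `K`. -/
noncomputable def sglLeftIso (M : ModuleCat.{u} A) : (T (A := A)).obj (sgl M) ≅ tensC M :=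
  (symmIso curriedTensorFlipIso (sgl M)).symm ≪≫ singleIso (curriedTensor (ModuleCat.{u} A)) M

/-- `T(K, sgl N) ≅ K ⊗ N`, naturally in `K`. -/
noncomputable def sglRightIso (N : ModuleCat.{u} A) : (T (A := A)).flip.obj (sgl N) ≅ tensC N :=
  singleIso (curriedTensor (ModuleCat.{u} A)) N

variable (P : ProjectiveResolution M) (Q : ProjectiveResolution N)

/-- The comparison from the double tensor product to `Q ⊗ M`. -/
noncomputable def cmpL : ((T (A := A)).obj P.cochainComplex).obj Q.cochainComplex ⟶ (tensC M).obj Q.cochainComplex :=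
  ((T (A := A)).map P.π').app Q.cochainComplex ≫ (sglLeftIso M).hom.app Q.cochainComplex

/-- The comparison from the double tensor product to `P ⊗ N`. -/
noncomputable def cmpR : ((T (A := A)).obj P.cochainComplex).obj Q.cochainComplex ⟶ (tensC N).obj P.cochainComplex :=
  ((T (A := A)).obj P.cochainComplex).map Q.π' ≫ (sglRightIso N).hom.app P.cochainComplex

lemma quasiIso_cmpL : QuasiIso (cmpL P Q) := by
  haveI := (isKF_cochainComplex Q).quasiIso_map P.π'
  haveI : QuasiIso ((sglLeftIso M).hom.app Q.cochainComplex) :=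
    inferInstanceAs (QuasiIso ((sglLeftIso M).app Q.cochainComplex).hom)
  exact quasiIso_comp _ _

lemma quasiIso_cmpR : QuasiIso (cmpR P Q) := by
  haveI := (isKF_cochainComplex P).quasiIso_map' curriedTensorFlipIso Q.π'
  haveI : QuasiIso ((sglRightIso N).hom.app P.cochainComplex) :=
    inferInstanceAs (QuasiIso ((sglRightIso N).app P.cochainComplex).hom)
  exact quasiIso_comp _ _

/-- Balancing, at the level of resolutions. -/
noncomputable def balanceIso (i : ℤ) :
    ((tensC M).obj Q.cochainComplex).homology i ≅ ((tensC N).obj P.cochainComplex).homology i :=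
  haveI := quasiIso_cmpL P Q
  haveI := quasiIso_cmpR P Q
  (isoOfQuasiIsoAt (cmpL P Q) i).symm ≪≫ isoOfQuasiIsoAt (cmpR P Q) i

variable {P Q} {Q' : ProjectiveResolution N'} {f : N ⟶ N'} (φ : ProjectiveResolution.Hom Q Q' f)

lemma cmpL_natural : ((T (A := A)).obj P.cochainComplex).map φ.hom' ≫ cmpL P Q' =
    cmpL P Q ≫ (tensC M).map φ.hom' := by
  rw [cmpL, cmpL]
  exact (Category.assoc _ _ _).symm.trans ((congrArg (· ≫ _) (((T (A := A)).map P.π').naturality φ.hom')).trans
    ((Category.assoc _ _ _).trans ((congrArg (_ ≫ ·) ((sglLeftIso M).hom.naturality φ.hom')).trans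
      (Category.assoc _ _ _).symm)))

lemma cmpR_natural : ((T (A := A)).obj P.cochainComplex).map φ.hom' ≫ cmpR P Q' =
    cmpR P Q ≫ (NatTrans.mapHomologicalComplex ((tensoringRight (ModuleCat.{u} A)).map f)
      (ComplexShape.up ℤ)).app P.cochainComplex := by
  rw [cmpR, cmpR]
  have key : ∀ (K : DRing.Cx A), ((T (A := A)).obj K).map ((CochainComplex.singleFunctor _ 0).map f) ≫
      (sglRightIso N').hom.app K = (sglRightIso N).hom.app K ≫
        (NatTrans.mapHomologicalComplex ((tensoringRight (ModuleCat.{u} A)).map f) (ComplexShape.up ℤ)).app K := by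
    intro K
    simp only [sglRightIso, singleIso, Iso.symm_hom, NatIso.ofComponents_inv_app]
    rw [Iso.comp_inv_eq, Category.assoc, Iso.eq_inv_comp]
    ext n : 1
    simp only [HomologicalComplex.comp_f, HomologicalComplex.Hom.isoOfComponents_hom_f, asIso_hom,
      Functor.mapHomologicalComplex_obj_X, NatTrans.mapHomologicalComplex_app_f, singleSummand, Category.assoc]
    erw [Category.assoc, HomologicalComplex.ι_mapBifunctorMap]
    simp [HomologicalComplex.single, HomologicalComplex.singleObjXSelf, HomologicalComplex.singleObjXIsoOfEq,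
      CochainComplex.singleFunctor, CochainComplex.singleFunctors]
    exact Category.id_comp _
  let F := (T (A := A)).obj P.cochainComplex
  have h1 : F.map φ.hom' ≫ F.map Q'.π' = F.map Q.π' ≫ F.map ((CochainComplex.singleFunctor _ 0).map f) := by
    rw [← F.map_comp, ProjectiveResolution.Hom.hom'_comp_π', F.map_comp]
  exact (Category.assoc _ _ _).symm.trans ((congrArg (· ≫ _) h1).trans
    ((Category.assoc _ _ _).trans ((congrArg (_ ≫ ·) (key P.cochainComplex)).trans (Category.assoc _ _ _).symm)))

lemma balanceIso_natural (i : ℤ) :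
    HomologicalComplex.homologyMap ((tensC M).map φ.hom') i ≫ (balanceIso P Q' i).hom =
      (balanceIso P Q i).hom ≫ HomologicalComplex.homologyMap
        ((NatTrans.mapHomologicalComplex ((tensoringRight (ModuleCat.{u} A)).map f)
          (ComplexShape.up ℤ)).app P.cochainComplex) i := by
  haveI := quasiIso_cmpL P Q
  haveI := quasiIso_cmpR P Q
  haveI := quasiIso_cmpL P Q'
  haveI := quasiIso_cmpR P Q'
  have h1 := congrArg (fun g => HomologicalComplex.homologyMap g i) (cmpL_natural (P := P) φ)
  have h2 := congrArg (fun g => HomologicalComplex.homologyMap g i) (cmpR_natural (P := P) φ)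
  simp only [HomologicalComplex.homologyMap_comp] at h1 h2
  simp only [balanceIso, Iso.trans_hom, Iso.symm_hom, Category.assoc]
  rw [Iso.eq_inv_comp]
  simp only [isoOfQuasiIsoAt_hom]
  rw [← reassoc_of% h1, ← h2, ← isoOfQuasiIsoAt_hom (cmpL P Q') i, Iso.hom_inv_id_assoc]

/-- `Tor` from a resolution of the second variable. -/
noncomputable def torIso (M : ModuleCat.{u} A) (Q : ProjectiveResolution N) (n : ℕ) :
    ((Tor (ModuleCat.{u} A) n).obj M).obj N ≅ ((tensC M).obj Q.cochainComplex).homology (-n) :=
  Q.isoLeftDerivedObj ((tensoringLeft (ModuleCat.{u} A)).obj M) n ≪≫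
    (HomologicalComplex.homologyFunctor _ _ n).mapIso
      ((NatIso.mapHomologicalComplex (BraidedCategory.tensorLeftIsoTensorRight M) (ComplexShape.down ℕ)).app Q.complex) ≪≫
    (HomologicalComplex.extendHomologyIso _ ComplexShape.embeddingDownNat (by simp)).symm ≪≫
    (HomologicalComplex.homologyFunctor _ _ (-n : ℤ)).mapIso (mapExtendIso (tensorRight M) Q.complex).symm

/-- `Tor` from a resolution of the first variable. -/
noncomputable def torIso' (P : ProjectiveResolution M) (N : ModuleCat.{u} A) (n : ℕ) :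
    ((Tor (ModuleCat.{u} A) n).obj M).obj N ≅
      (((tensorRight N).mapHomologicalComplex (ComplexShape.down ℕ)).obj P.complex).homology n :=
  torIso M (ProjectiveResolution.of N) n ≪≫ balanceIso P (ProjectiveResolution.of N) (-n : ℤ) ≪≫
    (HomologicalComplex.homologyFunctor _ _ (-n : ℤ)).mapIso (mapExtendIso (tensorRight N) P.complex) ≪≫
    HomologicalComplex.extendHomologyIso _ ComplexShape.embeddingDownNat (by simp)

/-- `Tor` is symmetric. -/
noncomputable def torSymm (M N : ModuleCat.{u} A) (n : ℕ) :
    ((Tor (ModuleCat.{u} A) n).obj M).obj N ≅ ((Tor (ModuleCat.{u} A) n).obj N).obj M :=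
  torIso M (ProjectiveResolution.of N) n ≪≫
    balanceIso (ProjectiveResolution.of M) (ProjectiveResolution.of N) (-n : ℤ) ≪≫
    (torIso N (ProjectiveResolution.of M) n).symm

lemma extendHomologyIso_natural {K L : ChainComplex (ModuleCat.{u} A) ℕ} (ψ : K ⟶ L) {j : ℕ} {j' : ℤ}
    (h : ComplexShape.embeddingDownNat.f j = j') :
    HomologicalComplex.homologyMap (HomologicalComplex.extendMap ψ ComplexShape.embeddingDownNat) j' ≫
        (L.extendHomologyIso ComplexShape.embeddingDownNat h).hom =
      (K.extendHomologyIso ComplexShape.embeddingDownNat h).hom ≫ HomologicalComplex.homologyMap ψ j := by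
  simp [← cancel_epi ((K.extend ComplexShape.embeddingDownNat).homologyπ j')]

lemma sq {C : Type*} [Category C] {X Y Z X' Y' Z' : C} {a : X ≅ Y} {b : Y ≅ Z} {a' : X' ≅ Y'} {b' : Y' ≅ Z'}
    {u : X ⟶ X'} {v : Y ⟶ Y'} {w : Z ⟶ Z'} (h₁ : u ≫ a'.hom = a.hom ≫ v) (h₂ : v ≫ b'.hom = b.hom ≫ w) :
    u ≫ (a' ≪≫ b').hom = (a ≪≫ b).hom ≫ w := by
  rw [Iso.trans_hom, Iso.trans_hom, Category.assoc, reassoc_of% h₁, h₂]

lemma sqSymm {C : Type*} [Category C] {X Y X' Y' : C} {a : X ≅ Y} {a' : X' ≅ Y'} {u : X ⟶ X'} {v : Y ⟶ Y'}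
    (h : u ≫ a'.hom = a.hom ≫ v) : v ≫ a'.inv = a.inv ≫ u := by
  rw [Iso.comp_inv_eq, Category.assoc, h, Iso.inv_hom_id_assoc]

lemma torIso_natural {Q : ProjectiveResolution N} {Q' : ProjectiveResolution N'} {f : N ⟶ N'}
    (φ : ProjectiveResolution.Hom Q Q' f) (n : ℕ) :
    ((Tor (ModuleCat.{u} A) n).obj M).map f ≫ (torIso M Q' n).hom =
      (torIso M Q n).hom ≫ HomologicalComplex.homologyMap ((tensC M).map φ.hom') (-n : ℤ) := by
  let F := (tensoringLeft (ModuleCat.{u} A)).obj M
  let β := NatTrans.mapHomologicalComplex (BraidedCategory.tensorLeftIsoTensorRight M).hom (ComplexShape.down ℕ)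
  have h1 : ((Tor (ModuleCat.{u} A) n).obj M).map f ≫ (Q'.isoLeftDerivedObj F n).hom =
      (Q.isoLeftDerivedObj F n).hom ≫ HomologicalComplex.homologyMap ((F.mapHomologicalComplex _).map φ.hom) n :=
    ProjectiveResolution.isoLeftDerivedObj_hom_naturality f Q Q' φ.hom (by simpa using φ.hom_f_zero_comp_π_f_zero) F n
  have h2 : HomologicalComplex.homologyMap ((F.mapHomologicalComplex _).map φ.hom) n ≫
      HomologicalComplex.homologyMap (β.app Q'.complex) n =
      HomologicalComplex.homologyMap (β.app Q.complex) n ≫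
        HomologicalComplex.homologyMap (((tensorRight M).mapHomologicalComplex _).map φ.hom) n := by
    rw [← HomologicalComplex.homologyMap_comp, ← HomologicalComplex.homologyMap_comp]
    exact congrArg (fun g => HomologicalComplex.homologyMap g n) (β.naturality φ.hom)
  have hj : ComplexShape.embeddingDownNat.f n = (-n : ℤ) := by simp
  have h3 := extendHomologyIso_natural (((tensorRight M).mapHomologicalComplex _).map φ.hom) hj
  have h4 := congrArg (fun g => HomologicalComplex.homologyMap g (-n : ℤ)) (mapExtendIso_natural (tensorRight M) Q.complex φ.hom)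
  simp only [HomologicalComplex.homologyMap_comp] at h4
  rw [torIso, torIso]
  exact sq h1 (sq h2 (sq (sqSymm h3) (sqSymm (a := (HomologicalComplex.homologyFunctor _ _ (-n : ℤ)).mapIso
    (mapExtendIso (tensorRight M) Q.complex)) (a' := (HomologicalComplex.homologyFunctor _ _ (-n : ℤ)).mapIso
    (mapExtendIso (tensorRight M) Q'.complex)) h4)))

lemma torIso'_natural (P : ProjectiveResolution M) (f : N ⟶ N') (n : ℕ) :
    ((Tor (ModuleCat.{u} A) n).obj M).map f ≫ (torIso' P N' n).hom =
      (torIso' P N n).hom ≫ HomologicalComplex.homologyMap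
        ((NatTrans.mapHomologicalComplex ((tensoringRight (ModuleCat.{u} A)).map f)
          (ComplexShape.down ℕ)).app P.complex) n := by
  let φ : ProjectiveResolution.Hom (ProjectiveResolution.of N) (ProjectiveResolution.of N') f :=
    ⟨ProjectiveResolution.lift f _ _, (ProjectiveResolution.lift_commutes_zero f _ _).trans (by simp)⟩
  let α := (tensoringRight (ModuleCat.{u} A)).map f
  have hj : ComplexShape.embeddingDownNat.f n = (-n : ℤ) := by simp
  have h3 := extendHomologyIso_natural ((NatTrans.mapHomologicalComplex α (ComplexShape.down ℕ)).app P.complex) hj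
  have h4 := congrArg (fun g => HomologicalComplex.homologyMap g (-n : ℤ))
    (mapExtendIso_natTrans (tensorRight N) P.complex (G' := tensorRight N') α)
  simp only [HomologicalComplex.homologyMap_comp] at h4
  rw [torIso', torIso']
  exact sq (torIso_natural φ n) (sq (balanceIso_natural (P := P) φ (-n : ℤ))
    (sq (a := (HomologicalComplex.homologyFunctor _ _ (-n : ℤ)).mapIso (mapExtendIso (tensorRight N) P.complex))
      (a' := (HomologicalComplex.homologyFunctor _ _ (-n : ℤ)).mapIso (mapExtendIso (tensorRight N') P.complex)) h4 h3))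

end Groth.Agent.H9Misc.TorBalance
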