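import Groth.Prelude.Def_SpSeq
import Mathlib

/-! Elementary facts on abstract spectral sequences. -/

universe v u

open CategoryTheory CategoryTheory.Limits

namespace Groth.Agent.H9Misc.SSBasic

variable {C : Type u} [Category.{v} C] [Abelian C]

/-- Mono on middle terms gives mono on homology when both incoming maps vanish. -/
lemma mono_homologyMap {S S' : ShortComplex C} (φ : S ⟶ S') (hf : S.f = 0) (hf' : S'.f = 0) [Mono φ.τ₂] :
    Mono (ShortComplex.homologyMap φ) := by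
  haveI := S.isIso_homologyπ hf
  haveI := S'.isIso_homologyπ hf'
  haveI : Mono (ShortComplex.cyclesMap φ ≫ S'.iCycles) := by
    rw [ShortComplex.cyclesMap_i]
    infer_instance
  haveI := mono_of_mono (ShortComplex.cyclesMap φ) S'.iCycles
  have h : ShortComplex.homologyMap φ = inv S.homologyπ ≫ ShortComplex.cyclesMap φ ≫ S'.homologyπ := by
    rw [← ShortComplex.homologyπ_naturality, IsIso.inv_hom_id_assoc]
  rw [h]
  infer_instance

variable {r₀ : ℤ} (E : CohomologicalSpectralSequence C r₀)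

lemma prev_eq (r : ℤ) (pq : ℤ × ℤ) :
    (ComplexShape.up' (⟨r, 1 - r⟩ : ℤ × ℤ)).prev pq = pq - (r, 1 - r) :=
  ComplexShape.prev_eq' _ (by show pq - (r, 1 - r) + (r, 1 - r) = pq; exact sub_add_cancel _ _)

lemma next_eq (r : ℤ) (pq : ℤ × ℤ) :
    (ComplexShape.up' (⟨r, 1 - r⟩ : ℤ × ℤ)).next pq = pq + (r, 1 - r) :=
  ComplexShape.next_eq' _ rfl

lemma sc_f (r : ℤ) (hr : r₀ ≤ r) (pq : ℤ × ℤ)
    (h : (E.page r hr).d (pq - (r, 1 - r)) pq = 0) : ((E.page r hr).sc pq).f = 0 := by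
  show (E.page r hr).d ((ComplexShape.up' (⟨r, 1 - r⟩ : ℤ × ℤ)).prev pq) pq = 0
  rw [prev_eq]; exact h

lemma sc_g (r : ℤ) (hr : r₀ ≤ r) (pq : ℤ × ℤ)
    (h : (E.page r hr).d pq (pq + (r, 1 - r)) = 0) : ((E.page r hr).sc pq).g = 0 := by
  show (E.page r hr).d pq ((ComplexShape.up' (⟨r, 1 - r⟩ : ℤ × ℤ)).next pq) = 0
  rw [next_eq]; exact h

lemma isZero_succ (r : ℤ) (hr : r₀ ≤ r) (pq : ℤ × ℤ) (h : IsZero ((E.page r hr).X pq)) :
    IsZero ((E.page (r + 1) (by lia)).X pq) :=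
  (ShortComplex.isZero_homology_of_isZero_X₂ ((E.page r hr).sc pq) h).of_iso (E.iso r (r + 1) pq).symm

lemma isZero_le (r r' : ℤ) (hr : r₀ ≤ r) (hrr' : r ≤ r') (pq : ℤ × ℤ) (h : IsZero ((E.page r hr).X pq)) :
    IsZero ((E.page r' (hr.trans hrr')).X pq) := by
  obtain ⟨k, rfl⟩ := Int.le.dest hrr'
  induction k with
  | zero => exact h.of_iso (E.pageXIsoOfEq pq (r + ((0 : ℕ) : ℤ)) r (by simp) (by lia))
  | succ k ih =>
    exact (isZero_succ E (r + k) (by lia) pq (ih (by lia))).of_iso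
      (E.pageXIsoOfEq pq (r + ((k + 1 : ℕ) : ℤ)) (r + k + 1) (by push_cast; ring) (by lia))

lemma nonempty_succ_iso (r : ℤ) (hr : r₀ ≤ r) (pq : ℤ × ℤ)
    (h₁ : (E.page r hr).d (pq - (r, 1 - r)) pq = 0) (h₂ : (E.page r hr).d pq (pq + (r, 1 - r)) = 0) :
    Nonempty ((E.page r hr).X pq ≅ (E.page (r + 1) (by lia)).X pq) := by
  haveI := ((E.page r hr).sc pq).isIso_iCycles (sc_g E r hr pq h₂)
  haveI := ((E.page r hr).sc pq).isIso_homologyπ (sc_f E r hr pq h₁)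
  exact ⟨(asIso ((E.page r hr).sc pq).iCycles).symm ≪≫ asIso ((E.page r hr).sc pq).homologyπ ≪≫ E.iso r (r + 1) pq⟩

lemma nonempty_stationary_iso {pq : ℤ × ℤ} {r : ℤ} (h : SpSeq.StationaryAt E pq r) (r' : ℤ) (hrr' : r ≤ r') :
    Nonempty ((E.page r h.1).X pq ≅ (E.page r' (h.1.trans hrr')).X pq) := by
  obtain ⟨k, rfl⟩ := Int.le.dest hrr'
  induction k with
  | zero => exact ⟨E.pageXIsoOfEq pq r (r + ((0 : ℕ) : ℤ)) (by simp) h.1⟩
  | succ k ih =>
    obtain ⟨e⟩ := ih (by lia)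
    obtain ⟨h₁, h₂⟩ := h.2 (r + k) (h.1.trans (by lia)) (by lia)
    obtain ⟨e'⟩ := nonempty_succ_iso E (r + k) _ pq h₁ h₂
    exact ⟨e ≪≫ e' ≪≫ E.pageXIsoOfEq pq (r + k + 1) (r + ((k + 1 : ℕ) : ℤ)) (by push_cast; ring)
      (h.1.trans (by lia))⟩

lemma nonempty_iso_of_stationary {pq : ℤ × ℤ} {r r' : ℤ} (h : SpSeq.StationaryAt E pq r)
    (h' : SpSeq.StationaryAt E pq r') : Nonempty ((E.page r h.1).X pq ≅ (E.page r' h'.1).X pq) := by
  obtain ⟨e⟩ := nonempty_stationary_iso E h (max r r') (le_max_left _ _)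
  obtain ⟨e'⟩ := nonempty_stationary_iso E h' (max r r') (le_max_right _ _)
  exact ⟨e ≪≫ e'.symm⟩

variable {X : C} (F : ℤ → Subobject X) (hF : Antitone F)

lemma eq_of_isZero_gr (p : ℤ) (h : IsZero (SpSeq.grPiece F hF p)) : F p = F (p + 1) := by
  haveI : Epi ((F (p + 1)).ofLE (F p) (hF (Int.le_add_one le_rfl))) :=
    Preadditive.epi_of_isZero_cokernel _ h
  haveI := isIso_of_mono_of_epi ((F (p + 1)).ofLE (F p) (hF (Int.le_add_one le_rfl)))
  refine le_antisymm ?_ (hF (Int.le_add_one le_rfl))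
  refine Subobject.le_of_comm (inv ((F (p + 1)).ofLE (F p) (hF (Int.le_add_one le_rfl)))) ?_
  rw [IsIso.inv_comp_eq, Subobject.ofLE_arrow]

lemma const_of_isZero_gr (a b : ℤ) (hab : a ≤ b) (h : ∀ p, a ≤ p → p < b → IsZero (SpSeq.grPiece F hF p)) :
    F a = F b := by
  obtain ⟨k, rfl⟩ := Int.le.dest hab
  induction k with
  | zero => simp
  | succ k ih =>
    rw [ih (by lia) fun p h₁ h₂ => h p h₁ (by lia), eq_of_isZero_gr F hF _ (h (a + k) (by lia) (by lia))]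
    congr 1
    push_cast; ring

end Groth.Agent.H9Misc.SSBasic
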