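import Groth.Agent.H9Misc.TelBij
import Mathlib.RingTheory.Ideal.Operations
import Mathlib.RingTheory.Regular.RegularSequence
import Mathlib.RingTheory.Finiteness.Ideal
import Mathlib.RingTheory.Finiteness.Basic
import Mathlib.RingTheory.Nilpotent.Lemmas
import Mathlib.RingTheory.AdicCompletion.Basic
import Mathlib.LinearAlgebra.Isomorphisms
import Mathlib.Tactic.LinearCombination

/-! Modules on which telescopes of scalars are bijective (derived complete modules). -/

universe v u

namespace Groth.Agent.H9Misc.TBMod

open Pointwise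

variable {A : Type u} [CommRing A]

section Defs

variable (M : Type v) [AddCommGroup M] [Module A M]

/-- Multiplication by `f`. -/
def mulBy (f : A) : M →+ M := DistribMulAction.toAddMonoidHom M f

/-- Telescopes of multiplication by `f` are bijective. -/
def TBm (f : A) : Prop := TelBij.TB (mulBy M f)

@[simp] lemma mulBy_apply (f : A) (x : M) : mulBy M f x = f • x := rfl

end Defs

variable {M : Type v} [AddCommGroup M] [Module A M]
variable {N : Type v} [AddCommGroup N] [Module A N]

lemma TBm.eq_zero {f : A} (h : TBm M f) (x : ℕ → M) (hx : ∀ k, x k = f • x (k + 1)) (k : ℕ) : x k = 0 :=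
  TelBij.TB.eq_zero h x hx k

lemma TBm.exists_seq {f : A} (h : TBm M f) (y : ℕ → M) : ∃ x : ℕ → M, ∀ k, x k = y k + f • x (k + 1) := by
  obtain ⟨x, hx⟩ := h.2 y
  exact ⟨x, fun k => sub_eq_iff_eq_add.1 (congrFun hx k)⟩

lemma TBm.of_equiv {f : A} (e : M ≃ₗ[A] N) (h : TBm M f) : TBm N f :=
  TelBij.tb_of_injective_surjective e.toAddEquiv (fun x => e.map_smul f x) h

lemma tbm_of_subsingleton [Subsingleton M] (f : A) : TBm M f :=
  ⟨fun _ _ _ => Subsingleton.elim _ _, fun y => ⟨y, Subsingleton.elim _ _⟩⟩

lemma TBm.prod_fst {f : A} (h : TBm M f) (g : A) : TBm M (f * g) := by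
  have e : mulBy M (f * g) = (mulBy M f).comp (mulBy M g) := AddMonoidHom.ext fun x => mul_smul f g x
  show TelBij.TB _
  rw [e]
  exact TelBij.tb_comp h fun m => smul_comm f g m

lemma TBm.add {f g : A} (hf : TBm M f) (hg : TBm M g) : TBm M (f + g) := by
  have e : mulBy M (f + g) = mulBy M f + mulBy M g := AddMonoidHom.ext fun x => add_smul f g x
  show TelBij.TB _
  rw [e]
  exact TelBij.tb_add hf hg fun m => smul_comm f g m

lemma tbm_zero : TBm M (0 : A) := by
  have e : mulBy M (0 : A) = 0 := AddMonoidHom.ext fun x => zero_smul A x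
  show TelBij.TB _
  rw [e]
  exact TelBij.tb_zero

lemma TBm.root {f : A} {n : ℕ} (hn : 1 ≤ n) (h : TBm M (f ^ n)) : TBm M f := by
  constructor
  · refine (injective_iff_map_eq_zero _).2 fun x hx => funext fun k => ?_
    have hs : ∀ j i, x j = f ^ i • x (j + i) := fun j i => by
      induction i with
      | zero => rw [pow_zero, one_smul, add_zero]
      | succ i ih =>
        rw [ih, show x (j + i) = f • x (j + i + 1) from sub_eq_zero.1 (congrFun hx (j + i)), smul_smul,
          ← pow_succ, add_assoc]
    have := h.eq_zero (fun i => x (k + n * i)) (fun i => by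
      refine (hs (k + n * i) n).trans ?_
      exact congrArg (fun t => f ^ n • x t) (by ring)) 0
    simpa using this
  · intro y
    let y' : ℕ → M := fun k => ∑ i ∈ Finset.range n, f ^ i • y (k + i)
    choose w hw using fun k => h.exists_seq fun j => y' (k + n * j)
    refine ⟨fun k => w k 0, funext fun k => ?_⟩
    have hnext : ∀ k, (fun j => w k (j + 1)) = fun j => w (k + n) j := fun k => by
      refine h.1 (funext fun j => ?_)
      show w k (j + 1) - f ^ n • w k (j + 1 + 1) = w (k + n) j - f ^ n • w (k + n) (j + 1)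
      rw [sub_eq_iff_eq_add.2 (hw k (j + 1)), sub_eq_iff_eq_add.2 (hw (k + n) j)]
      exact congrArg y' (by ring)
    have hrec : ∀ k, w k 0 = y' k + f ^ n • w (k + n) 0 := fun k => by
      have := hw k 0
      rwa [Nat.mul_zero, add_zero, congrFun (hnext k) 0] at this
    have hy' : ∀ k, y' k - f • y' (k + 1) = y k - f ^ n • y (k + n) := fun k => by
      have e : f • y' (k + 1) = ∑ i ∈ Finset.range n, f ^ (i + 1) • y (k + (i + 1)) := by
        rw [Finset.smul_sum]
        refine Finset.sum_congr rfl fun i _ => ?_
        rw [smul_smul, ← pow_succ']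
        exact congrArg (fun t => f ^ (i + 1) • y t) (by ring)
      rw [e, ← Finset.sum_sub_distrib, Finset.sum_range_sub' (fun i => f ^ i • y (k + i))]
      simp
    let d : ℕ → M := fun k => w k 0 - f • w (k + 1) 0 - y k
    have hd : ∀ k, d k = f ^ n • d (k + n) := fun k => by
      show w k 0 - f • w (k + 1) 0 - y k = f ^ n • (w (k + n) 0 - f • w (k + n + 1) 0 - y (k + n))
      rw [hrec k, hrec (k + 1), smul_add, show k + 1 + n = k + n + 1 by ring]
      rw [show y' k = f • y' (k + 1) + (y k - f ^ n • y (k + n)) by rw [← hy']; abel]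
      simp only [smul_sub, smul_smul, mul_comm f (f ^ n)]
      abel
    have hz := h.eq_zero (fun i => d (k + n * i)) (fun i => (hd (k + n * i)).trans
      (congrArg (fun t => f ^ n • d t) (by ring))) 0
    simp only [Nat.mul_zero, add_zero] at hz
    show w k 0 - f • w (k + 1) 0 = y k
    exact sub_eq_zero.1 hz

variable (M) in
/-- The ideal of scalars with bijective telescopes. -/
def tbIdeal : Ideal A where
  carrier := {f | TBm M f}
  add_mem' hf hg := hf.add hg
  zero_mem' := tbm_zero
  smul_mem' c f hf := by
    show TBm M (c * f)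
    rw [mul_comm]
    exact TBm.prod_fst hf c

lemma mem_tbIdeal {f : A} : f ∈ tbIdeal M (A := A) ↔ TBm M f := Iff.rfl

lemma tbIdeal_isRadical : (tbIdeal M (A := A)).IsRadical := fun f ⟨n, hn⟩ => by
  rcases Nat.eq_zero_or_pos n with rfl | h
  · have h1 : TBm M (1 : A) := by simpa [mem_tbIdeal] using hn
    have := TBm.prod_fst h1 f
    rwa [one_mul] at this
  · exact TBm.root h hn

lemma TBm.ker_coker {f : A} (u : M →ₗ[A] N) (hM : TBm M f) (hN : TBm N f) :
    TBm (LinearMap.ker u) f ∧ TBm (N ⧸ LinearMap.range u) f := by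
  have hker : TBm (LinearMap.ker u) f := by
    constructor
    · refine (injective_iff_map_eq_zero _).2 fun x hx => funext fun k => Subtype.ext ?_
      exact hM.eq_zero (fun i => (x i).1) (fun i => congrArg Subtype.val (sub_eq_zero.1 (congrFun hx i))) k
    · intro y
      obtain ⟨w, hw⟩ := hM.exists_seq fun i => (y i).1
      have hT : ∀ i, u (w i) = 0 := hN.eq_zero (fun i => u (w i)) fun i => by
        rw [hw, map_add, map_smul, LinearMap.mem_ker.1 (y i).2, zero_add]
      refine ⟨fun i => ⟨w i, hT i⟩, funext fun i => Subtype.ext ?_⟩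
      show w i - f • w (i + 1) = (y i).1
      rw [hw i]
      abel
  refine ⟨hker, ?_, ?_⟩
  · refine (injective_iff_map_eq_zero _).2 fun x hx => funext fun k => ?_
    choose n hn using fun i => Submodule.Quotient.mk_surjective (LinearMap.range u) (x i)
    choose m hm using fun i => LinearMap.mem_range.1 ((Submodule.Quotient.mk_eq_zero (LinearMap.range u)).1
      (show Submodule.Quotient.mk (n i - f • n (i + 1)) = 0 by
        rw [Submodule.Quotient.mk_sub, Submodule.Quotient.mk_smul, hn, hn]
        exact congrFun hx i))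
    obtain ⟨v, hv⟩ := hM.exists_seq m
    have hz := hN.eq_zero (fun i => n i - u (v i)) (fun i => by
      rw [hv i, map_add, map_smul, hm, smul_sub]
      abel) k
    rw [← hn k, sub_eq_zero.1 hz]
    exact (Submodule.Quotient.mk_eq_zero _).2 (LinearMap.mem_range_self u _)
  · intro y
    choose n hn using fun i => Submodule.Quotient.mk_surjective (LinearMap.range u) (y i)
    obtain ⟨x, hx⟩ := hN.exists_seq n
    refine ⟨fun i => Submodule.Quotient.mk (x i), funext fun i => ?_⟩
    show Submodule.Quotient.mk (x i) - f • Submodule.Quotient.mk (x (i + 1)) = y i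
    rw [← Submodule.Quotient.mk_smul, ← Submodule.Quotient.mk_sub, hx i, add_sub_cancel_right, hn]

lemma tbm_of_isAdicComplete (I : Ideal A) [IsAdicComplete I M] {f : A} (hf : f ∈ I) : TBm M f := by
  have hmem : ∀ (k : ℕ) (x : M), f ^ k • x ∈ (I ^ k • ⊤ : Submodule A M) := fun k x =>
    Submodule.smul_mem_smul (Ideal.pow_mem_pow hf k) trivial
  constructor
  · refine (injective_iff_map_eq_zero _).2 fun x hx => funext fun k => ?_
    have hs : ∀ j i, x j = f ^ i • x (j + i) := fun j i => by
      induction i with
      | zero => rw [pow_zero, one_smul, add_zero]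
      | succ i ih =>
        rw [ih, show x (j + i) = f • x (j + i + 1) from sub_eq_zero.1 (congrFun hx (j + i)), smul_smul,
          ← pow_succ, add_assoc]
    refine IsHausdorff.haus (I := I) inferInstance (x k) fun n => ?_
    rw [SModEq.zero, hs k n]
    exact hmem n _
  · intro y
    let p : ℕ → ℕ → M := fun k n => ∑ i ∈ Finset.range n, f ^ i • y (k + i)
    have hp : ∀ k {m n : ℕ}, m ≤ n → p k m ≡ p k n [SMOD (I ^ m • ⊤ : Submodule A M)] := fun k m n hmn => by
      induction hmn with
      | refl => exact SModEq.refl _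
      | @step n hle ih =>
        refine ih.trans ?_
        rw [SModEq.sub_mem]
        show p k n - ∑ i ∈ Finset.range (n + 1), f ^ i • y (k + i) ∈ _
        rw [Finset.sum_range_succ, sub_add_cancel_left]
        exact Submodule.neg_mem _ (Submodule.smul_mono_left (Ideal.pow_le_pow_right hle) (hmem n _))
    choose L hL using fun k => IsPrecomplete.prec (I := I) inferInstance (hp k)
    refine ⟨L, funext fun k => ?_⟩
    show L k - f • L (k + 1) = y k
    refine sub_eq_zero.1 (IsHausdorff.haus (I := I) inferInstance _ fun n => ?_)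
    have e : p k (n + 1) = y k + f • p (k + 1) n := by
      simp only [p, Finset.sum_range_succ', Finset.smul_sum, smul_smul, pow_zero, one_smul, add_zero]
      rw [add_comm]
      refine congrArg (y k + ·) (Finset.sum_congr rfl fun i _ => ?_)
      rw [← pow_succ', show k + (i + 1) = k + 1 + i by ring]
    rw [SModEq.zero]
    have h1 : p k (n + 1) - L k ∈ (I ^ n • ⊤ : Submodule A M) :=
      Submodule.smul_mono_left (Ideal.pow_le_pow_right (Nat.le_succ n)) (SModEq.sub_mem.1 (hL k (n + 1)))
    have h2 : f • (p (k + 1) n - L (k + 1)) ∈ (I ^ n • ⊤ : Submodule A M) :=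
      Submodule.smul_mem _ f (SModEq.sub_mem.1 (hL (k + 1) n))
    have : L k - f • L (k + 1) - y k = -(p k (n + 1) - L k) + f • (p (k + 1) n - L (k + 1)) := by
      rw [e, smul_sub]; abel
    rw [this]
    exact Submodule.add_mem _ (Submodule.neg_mem _ h1) h2

/-- Derived Nakayama. -/
lemma subsingleton_of_smul_top_eq_top : ∀ (l : List A) (M : Type v) [AddCommGroup M] [Module A M],
    (∀ f ∈ l, TBm M f) → Ideal.ofList l • (⊤ : Submodule A M) = ⊤ → Subsingleton M
  | [], M, _, _, _, htop => by
    rw [Ideal.ofList_nil, Submodule.bot_smul] at htop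
    exact Submodule.subsingleton_iff A |>.1 (subsingleton_of_bot_eq_top htop)
  | f :: l, M, _, _, h, htop => by
    have hf : TBm M f := h f (by simp)
    let u : M →ₗ[A] M := f • LinearMap.id
    have hQ : Subsingleton (M ⧸ LinearMap.range u) := by
      refine subsingleton_of_smul_top_eq_top l _ (fun g hg => (TBm.ker_coker u (h g (by simp [hg]))
        (h g (by simp [hg]))).2) ?_
      refine eq_top_iff.2 fun x _ => ?_
      obtain ⟨m, rfl⟩ := Submodule.Quotient.mk_surjective _ x
      have hm : m ∈ (Ideal.ofList (f :: l) • ⊤ : Submodule A M) := by rw [htop]; trivial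
      rw [Ideal.ofList_cons, Submodule.sup_smul, Submodule.mem_sup] at hm
      obtain ⟨a, ha, b, hb, rfl⟩ := hm
      obtain ⟨a', rfl⟩ : ∃ a', f • a' = a := by
        rw [Submodule.ideal_span_singleton_smul, Submodule.mem_smul_pointwise_iff_exists] at ha
        obtain ⟨a', -, rfl⟩ := ha
        exact ⟨a', rfl⟩
      rw [Submodule.Quotient.mk_add, show Submodule.Quotient.mk (f • a') = (0 : M ⧸ LinearMap.range u) from
        (Submodule.Quotient.mk_eq_zero _).2 (LinearMap.mem_range.2 ⟨a', rfl⟩), zero_add]
      have : Submodule.Quotient.mk b ∈ Submodule.map (LinearMap.range u).mkQ (Ideal.ofList l • ⊤) :=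
        ⟨b, hb, rfl⟩
      rw [Submodule.map_smul''] at this
      exact Submodule.smul_mono le_rfl le_top this
    have hsur : Function.Surjective fun x : M => f • x := fun m => by
      obtain ⟨x, hx⟩ := (Submodule.Quotient.mk_eq_zero (LinearMap.range u)).1
        (Subsingleton.elim (Submodule.Quotient.mk m) 0)
      exact ⟨x, hx⟩
    refine subsingleton_of_forall_eq 0 fun m => ?_
    let g := Function.surjInv hsur
    exact hf.eq_zero (fun k => g^[k] m) (fun k => by
      show g^[k] m = f • g^[k + 1] m
      rw [Function.iterate_succ_apply']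
      exact (Function.surjInv_eq hsur _).symm) 0

/-- Series with terms in the powers of an ideal converge. -/
lemma exists_sum : ∀ (l : List A), (∀ f ∈ l, TBm M f) → ∀ z : ℕ → M,
    (∀ n, z n ∈ (Ideal.ofList l ^ n • ⊤ : Submodule A M)) →
    ∃ S : M, ∀ N, S - ∑ n ∈ Finset.range N, z n ∈ (Ideal.ofList l ^ N • ⊤ : Submodule A M)
  | [], _, z, hz => by
    refine ⟨z 0, fun N => ?_⟩
    rcases N with _ | N
    · simp
    · have h0 : ∀ n, 1 ≤ n → z n = 0 := fun n hn => by
        have := hz n
        rw [Ideal.ofList_nil, Ideal.bot_pow (by omega), Submodule.bot_smul] at this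
        exact this
      rw [Finset.sum_range_succ', Finset.sum_eq_zero fun i _ => h0 (i + 1) (by omega), zero_add, sub_self]
      exact Submodule.zero_mem _
  | f :: l, h, z, hz => by
    let J := Ideal.ofList l
    have hI : Ideal.ofList (f :: l) = Ideal.span {f} ⊔ J := Ideal.ofList_cons f l
    have hle : ∀ k n, (f ^ k • (J ^ n • ⊤) : Submodule A M) ≤ Ideal.ofList (f :: l) ^ (k + n) • ⊤ := fun k n => by
      intro x hx
      obtain ⟨y, hy, rfl⟩ := (Submodule.mem_smul_pointwise_iff_exists _ _ _).1 hx
      rw [pow_add, mul_smul]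
      refine Submodule.smul_mem_smul (Ideal.pow_mem_pow ?_ k)
        (Submodule.smul_mono_left (Ideal.pow_right_mono (hI ▸ le_sup_right) n) hy)
      rw [hI]
      exact Submodule.mem_sup_left (Ideal.mem_span_singleton_self f)
    have hdec : ∀ n (x : M), x ∈ (Ideal.ofList (f :: l) ^ n • ⊤ : Submodule A M) →
        ∃ u : ℕ → M, (∀ k, k ≤ n → u k ∈ (J ^ (n - k) • ⊤ : Submodule A M)) ∧
          x = ∑ k ∈ Finset.range (n + 1), f ^ k • u k := by
      intro n
      induction n with
      | zero => exact fun x _ => ⟨fun _ => x, fun k _ => by simp, by simp⟩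
      | succ n ih =>
        intro x hx
        rw [pow_succ', mul_smul, hI, Submodule.sup_smul, Submodule.mem_sup] at hx
        obtain ⟨a, ha, b, hb, rfl⟩ := hx
        rw [Submodule.ideal_span_singleton_smul, Submodule.mem_smul_pointwise_iff_exists] at ha
        obtain ⟨a', ha', rfl⟩ := ha
        obtain ⟨u, hu, rfl⟩ := ih a' (by rwa [hI])
        refine Submodule.smul_induction_on hb (fun r hr y hy => ?_) (fun b b' hb hb' => ?_)
        · obtain ⟨v, hv, rfl⟩ := ih y (by rwa [hI])
          refine ⟨fun k => (if k = 0 then 0 else u (k - 1)) + (if k ≤ n then r • v k else 0), fun k hk => ?_, ?_⟩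
          · refine Submodule.add_mem _ ?_ ?_
            · rcases k with _ | k
              · simp
              · simpa using hu k (by omega)
            · by_cases hkn : k ≤ n
              · simp only [hkn, if_true]
                rw [show n + 1 - k = (n - k) + 1 by omega, pow_succ', mul_smul]
                exact Submodule.smul_mem_smul hr (hv k hkn)
              · simp [hkn]
          · simp only [smul_add, Finset.sum_add_distrib]
            refine congrArg₂ (· + ·) ?_ ?_
            · rw [Finset.sum_range_succ' _ (n + 1), Finset.smul_sum]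
              simp [smul_smul, pow_succ']
            · rw [Finset.sum_range_succ _ (n + 1), Finset.smul_sum]
              simp only [show ¬n + 1 ≤ n by omega, if_false, smul_zero, add_zero]
              refine Finset.sum_congr rfl fun k hk => ?_
              rw [if_pos (Nat.lt_succ_iff.1 (Finset.mem_range.1 hk)), smul_comm]
        · obtain ⟨v, hv, hv'⟩ := hb
          obtain ⟨w, hw, hw'⟩ := hb'
          refine ⟨fun k => v k + w k - (if k = 0 then 0 else u (k - 1)), fun k hk =>
            Submodule.sub_mem _ (Submodule.add_mem _ (hv k hk) (hw k hk)) ?_, ?_⟩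
          · rcases k with _ | k
            · simp
            · simpa using hu k (by omega)
          · simp only [smul_sub, smul_add, Finset.sum_sub_distrib, Finset.sum_add_distrib, ← hv', ← hw']
            rw [Finset.sum_range_succ' _ (n + 1)]
            simp [smul_smul, pow_succ', Finset.smul_sum]
            abel
    choose u hu hue using fun n => hdec n (z n) (hz n)
    choose S hS using fun k => exists_sum l (fun g hg => h g (by simp [hg])) (fun j => u (j + k) k) fun j => by
      simpa using hu (j + k) k (by omega)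
    obtain ⟨x, hx⟩ := TBm.exists_seq (h f (by simp)) S
    refine ⟨x 0, fun N => ?_⟩
    have hx0 : x 0 = (∑ k ∈ Finset.range N, f ^ k • S k) + f ^ N • x N := by
      induction N with
      | zero => simp
      | succ N ih =>
        rw [ih, Finset.sum_range_succ, hx N, smul_add, smul_smul, ← pow_succ]
        abel
    have hsum : ∑ n ∈ Finset.range N, z n =
        ∑ k ∈ Finset.range N, f ^ k • ∑ j ∈ Finset.range (N - k), u (j + k) k := by
      simp only [hue, Finset.smul_sum]
      rw [Finset.sum_sigma', Finset.sum_sigma']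
      refine Finset.sum_nbij' (fun p => ⟨p.2, p.1 - p.2⟩) (fun p => ⟨p.2 + p.1, p.1⟩) ?_ ?_ ?_ ?_ ?_
      · rintro ⟨n, k⟩ hp
        simp only [Finset.mem_sigma, Finset.mem_range] at hp ⊢
        omega
      · rintro ⟨k, j⟩ hp
        simp only [Finset.mem_sigma, Finset.mem_range] at hp ⊢
        omega
      · rintro ⟨n, k⟩ hp
        simp only [Finset.mem_sigma, Finset.mem_range] at hp
        simp only [Sigma.mk.injEq, heq_eq_eq, and_true]
        omega
      · rintro ⟨k, j⟩ hp
        simp only [Sigma.mk.injEq, heq_eq_eq, true_and]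
        omega
      · rintro ⟨n, k⟩ hp
        simp only [Finset.mem_sigma, Finset.mem_range] at hp
        show f ^ k • u n k = f ^ k • u (n - k + k) k
        rw [Nat.sub_add_cancel (by omega)]
    rw [hx0, hsum, add_sub_right_comm, ← Finset.sum_sub_distrib]
    refine Submodule.add_mem _ (Submodule.sum_mem _ fun k hk => ?_) ?_
    · rw [← smul_sub]
      have := hle k (N - k) (Submodule.smul_mem_pointwise_smul _ (f ^ k) _ (hS k (N - k)))
      rwa [Nat.add_sub_cancel' (Finset.mem_range.1 hk).le] at this
    · refine Submodule.smul_mem_smul (Ideal.pow_mem_pow ?_ N) trivial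
      rw [hI]
      exact Submodule.mem_sup_left (Ideal.mem_span_singleton_self f)

/-- A derived complete module maps onto its completion. -/
theorem surjective_adicCompletion_of (I : Ideal A) (hI : I.FG) (h : ∀ f ∈ I, TBm M f) :
    Function.Surjective (AdicCompletion.of I M) := by
  obtain ⟨s, hs⟩ := hI
  have hl : Ideal.ofList s.toList = I := by
    rw [← hs]; simp [Ideal.ofList]
  intro x
  choose y hy using fun n => Submodule.Quotient.mk_surjective (I ^ n • ⊤ : Submodule A M) (x.val n)
  let z : ℕ → M := fun n => y (n + 1) - y n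
  have hcomp : ∀ {m n : ℕ}, m ≤ n → y m ≡ y n [SMOD (I ^ m • ⊤ : Submodule A M)] := fun {m n} hmn => by
    show Submodule.Quotient.mk (y m) = Submodule.Quotient.mk (y n)
    rw [hy, ← x.property hmn, ← hy n]
    rfl
  obtain ⟨S, hS⟩ := exists_sum s.toList (fun f hf => h f (hl ▸ Ideal.subset_span hf)) z fun n => by
    rw [hl]
    exact SModEq.sub_mem.1 (hcomp (Nat.le_succ n)).symm
  refine ⟨S + y 0, AdicCompletion.ext fun n => ?_⟩
  show Submodule.Quotient.mk (S + y 0) = x.val n
  rw [← hy n, Submodule.Quotient.eq]
  have := hS n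
  rw [hl, Finset.sum_range_sub y n] at this
  rw [show S + y 0 - y n = S - (y n - y 0) by abel]
  exact this

/-- A derived complete module of torsion has bounded torsion. -/
lemma exists_pow_smul_eq_zero {f : A} (h : TBm M f) (ht : ∀ x : M, ∃ n : ℕ, f ^ n • x = 0) :
    ∃ n : ℕ, ∀ x : M, f ^ n • x = 0 := by
  by_contra hne
  push Not at hne
  have hdiv : ∀ c : ℕ, ∃ u : M, ∀ v : M, f ^ c • u ≠ f ^ (c + 1) • v := fun c => by
    by_contra hc
    push Not at hc
    obtain ⟨w, hw⟩ := hne c
    choose v hv using hc
    refine hw ((h.eq_zero (fun k => f ^ c • v^[k] w) (fun k => ?_) 0))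
    show f ^ c • v^[k] w = f • f ^ c • v^[k + 1] w
    rw [Function.iterate_succ_apply', hv, smul_smul, ← pow_succ']
  choose u hu using hdiv
  choose e he using ht
  let P : ℕ → M := fun j => Nat.rec (motive := fun _ => M) 0 (fun j p => p + f ^ j • u (e p + j + j)) j
  let y : ℕ → M := fun j => u (e (P j) + j + j)
  have hP : ∀ j, P (j + 1) = P j + f ^ j • y j := fun j => rfl
  obtain ⟨x, hx⟩ := h.exists_seq y
  have hx0 : ∀ j, x 0 = P j + f ^ j • x j := fun j => by
    induction j with
    | zero => simp [P]
    | succ j ih =>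
      rw [ih, hP, hx j, smul_add, smul_smul, ← pow_succ]
      abel
  let j := e (x 0)
  let E := e (P j) + j
  have h1 : f ^ E • x 0 = 0 := by
    show f ^ (e (P j) + e (x 0)) • x 0 = 0
    rw [pow_add, mul_smul, he, smul_zero]
  have h2 : f ^ E • P j = 0 := by
    show f ^ (e (P j) + j) • P j = 0
    rw [add_comm, pow_add, mul_smul, he, smul_zero]
  rw [hx0 (j + 1), hP, smul_add, smul_add, h2, zero_add, smul_smul, smul_smul, ← pow_add, ← pow_add] at h1
  refine hu (E + j) (-x (j + 1)) ?_
  show f ^ (E + j) • y j = f ^ (E + j + 1) • -x (j + 1)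
  rw [smul_neg, eq_neg_iff_add_eq_zero]
  exact h1

/-- Torsion complete modules are killed by a power of the ideal. -/
theorem exists_pow_smul_top_eq_bot (I : Ideal A) (hI : I.FG) (h : ∀ f ∈ I, TBm M f)
    (ht : ∀ f ∈ I, ∀ x : M, ∃ n : ℕ, f ^ n • x = 0) : ∃ n : ℕ, I ^ n • (⊤ : Submodule A M) = ⊥ := by
  obtain ⟨n, hn⟩ := Ideal.exists_pow_le_of_le_radical_of_fg (J := Module.annihilator A M) (I := I)
    (fun f hf => by
      obtain ⟨n, hn⟩ := exists_pow_smul_eq_zero (h f hf) (ht f hf)
      exact ⟨n, Module.mem_annihilator.2 hn⟩) hI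
  exact ⟨n, eq_bot_iff.2 (Submodule.smul_le.2 fun a ha m _ => by
    simpa using Module.mem_annihilator.1 (hn ha) m)⟩

end Groth.Agent.H9Misc.TBMod
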