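import Groth.Agent.H9Misc.GPDerived
import Groth.Agent.TriCat.BrownCompact
import Groth.Agent.TriCat.DerivedCoproducts
import Mathlib.Algebra.Homology.HomotopyCategory.KProjective
import Mathlib.Algebra.Homology.DerivedCategory.KProjective
import Mathlib.CategoryTheory.Triangulated.Opposite.Functor
import Mathlib.Algebra.Category.ModuleCat.Projective
import Mathlib.Algebra.Category.ModuleCat.Abelian
import Mathlib.Algebra.Category.ModuleCat.Colimits
import Mathlib.Algebra.Category.ModuleCat.AB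

/-! Brown representability for derived categories of Grothendieck categories. -/

universe t w v u

open CategoryTheory Category Limits Opposite DerivedCategory

namespace Groth.Agent.H9Misc.BrownGroth

/-- A small model of the derived category when there are enough K-injectives. -/
@[implicit_reducible]
noncomputable def smallDerived (A : Type u) [Category.{v} A] [Abelian A]
    (hK : ∀ K : CochainComplex A ℤ, ∃ (I : CochainComplex A ℤ) (f : K ⟶ I), I.IsKInjective ∧ QuasiIso f) :
    HasDerivedCategory.{v} A :=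
  letI := HasDerivedCategory.standard A
  haveI : LocallySmall.{v} (DerivedCategory A) := ⟨fun X Y => by
    have := Localization.essSurj (Qh (C := A)) (HomotopyCategory.quasiIso A (ComplexShape.up ℤ))
    obtain ⟨K, ⟨eX⟩⟩ : ∃ K, Nonempty (Qh.obj K ≅ X) := ⟨_, ⟨Qh.objObjPreimageIso X⟩⟩
    obtain ⟨L, ⟨eY⟩⟩ : ∃ L, Nonempty (Qh.obj L ≅ Y) := ⟨_, ⟨Qh.objObjPreimageIso Y⟩⟩
    obtain ⟨I, f, hI, hf⟩ := hK L.as
    have hw : IsIso (Qh.map ((HomotopyCategory.quotient A (.up ℤ)).map f)) :=
      (NatIso.isIso_map_iff (quotientCompQhIso A) f).2 ((isIso_Q_map_iff_quasiIso (φ := f)).2 hf)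
    have := hI
    have : Small.{v} (Qh.obj K ⟶ Qh.obj ((HomotopyCategory.quotient A _).obj I)) :=
      small_of_surjective (CochainComplex.IsKInjective.Qh_map_bijective K I).2
    obtain ⟨ew⟩ : Nonempty (Qh.obj L ≅ Qh.obj ((HomotopyCategory.quotient A _).obj I)) := ⟨@asIso _ _ _ _ _ hw⟩
    exact small_of_surjective (f := fun g => eX.inv ≫ g ≫ ew.inv ≫ eY.hom)
      (fun g => ⟨eX.hom ≫ g ≫ eY.inv ≫ ew.hom, by simp⟩)⟩
  { D := ShrinkHoms (DerivedCategory A)
    L := DerivedCategory.Q ⋙ (ShrinkHoms.equivalence.{v} (DerivedCategory A)).functor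
    hL := Functor.IsLocalization.of_equivalence_target (DerivedCategory.Q (C := A))
      (HomologicalComplex.quasiIso A (ComplexShape.up ℤ)) _ (ShrinkHoms.equivalence.{v} (DerivedCategory A))
      (Iso.refl _) }

/-- `Q` preserves coproducts. -/
lemma preservesColimit_Q {A : Type u} [Category.{v} A] [Abelian A] [HasDerivedCategory.{w} A] {J : Type t}
    [HasColimitsOfShape (Discrete J) A] [HasExactColimitsOfShape (Discrete J) A]
    (K : J → CochainComplex A ℤ) :
    PreservesColimit (Discrete.functor K)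
      (DerivedCategory.Q : CochainComplex A ℤ ⥤ DerivedCategory A) := by
  let Q : CochainComplex A ℤ ⥤ DerivedCategory A := DerivedCategory.Q
  have hdesc : ∀ {T : DerivedCategory A} (k : ∀ j, Q.obj (K j) ⟶ T),
      ∃ d : Q.obj (∐ K) ⟶ T, ∀ j, Q.map (Sigma.ι K j) ≫ d = k j := by
    intro T k
    let eT := Q.objObjPreimageIso T
    choose Z s hs f hf using fun j => DerivedCategory.right_fac (k j ≫ eT.inv)
    have : IsIso (Q.map (Limits.Sigma.map s)) := (DerivedCategory.isIso_Q_map_iff_quasiIso _ _).2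
      (TriCat.quasiIso_sigmaMap s fun j => (DerivedCategory.isIso_Q_map_iff_quasiIso _ _).1 (hs j))
    refine ⟨inv (Q.map (Limits.Sigma.map s)) ≫ Q.map (Sigma.desc f) ≫ eT.hom, fun j => ?_⟩
    have : IsIso (Q.map (s j)) := hs j
    rw [← cancel_epi (Q.map (s j)), ← Q.map_comp_assoc, ← Sigma.ι_map s j, Q.map_comp_assoc,
      IsIso.hom_inv_id_assoc, ← Q.map_comp_assoc, Sigma.ι_desc]
    have h := congrArg (fun g => Q.map (s j) ≫ g ≫ eT.hom) (hf j)
    simp only [Category.assoc, Iso.inv_hom_id, Category.comp_id] at h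
    rw [h]
    exact (IsIso.hom_inv_id_assoc _ _).symm
  refine preservesColimit_of_preserves_colimit_cocone (coproductIsCoproduct K) ?_
  refine (Cofan.isColimitMapCoconeEquiv Q _ _).symm ?_
  exact Cofan.IsColimit.mk _ (fun t => (hdesc t.inj).choose)
    (fun t j => (hdesc t.inj).choose_spec j)
    (fun t m hm => sub_eq_zero.1 (TriCat.sigma_Q_hom_ext _ fun j => by
      rw [Preadditive.comp_sub, sub_eq_zero]
      exact (hm j).trans ((hdesc t.inj).choose_spec j).symm))

section ModuleCat

variable (R : Type v) [Ring R] [HasDerivedCategory.{v} (ModuleCat.{v} R)]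

/-- The free module of rank one in degree `n`. -/
noncomputable abbrev gen (n : ℤ) : CochainComplex (ModuleCat.{v} R) ℤ :=
  (HomologicalComplex.single _ (ComplexShape.up ℤ) n).obj (ModuleCat.of R R)

instance (n : ℤ) : (gen R n).IsKProjective := by
  have : Projective (ModuleCat.of R R) := (IsProjective.iff_projective (R := R) R).1 inferInstance
  have : ∀ i, Projective ((gen R n).X i) := fun i => by
    by_cases h : i = n
    · subst h
      exact Projective.of_iso (HomologicalComplex.singleObjXSelf _ i _).symm this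
    · exact IsZero.projective (HomologicalComplex.isZero_single_obj_X _ n _ i h)
  have : (gen R n).IsStrictlyLE n := (CochainComplex.isStrictlyLE_iff _ _).2 fun i hi =>
    HomologicalComplex.isZero_single_obj_X _ n _ i (by omega)
  exact CochainComplex.isKProjective_of_projective _ n

lemma Q_map_surjective (n : ℤ) (M : CochainComplex (ModuleCat.{v} R) ℤ) (α : Q.obj (gen R n) ⟶ Q.obj M) :
    ∃ f : gen R n ⟶ M, Q.map f = α := by
  obtain ⟨g, hg⟩ := (CochainComplex.IsKProjective.Qh_map_bijective (gen R n) ((HomotopyCategory.quotient _ _).obj M)).2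
    ((quotientCompQhIso _).hom.app _ ≫ α ≫ (quotientCompQhIso _).inv.app M)
  obtain ⟨f, rfl⟩ := (HomotopyCategory.quotient _ _).map_surjective g
  refine ⟨f, ?_⟩
  have h := (quotientCompQhIso (ModuleCat.{v} R)).hom.naturality f
  rw [← cancel_epi ((quotientCompQhIso (ModuleCat.{v} R)).hom.app (gen R n)), ← h]
  refine (congrArg (· ≫ _) hg).trans ?_
  simp

lemma exists_finite_support {M : ModuleCat.{v} R} {K : ℕ → ModuleCat.{v} R} (ι : ∀ i, K i ⟶ M)
    (hι : ∀ {T : ModuleCat.{v} R} (φ ψ : M ⟶ T), (∀ i, ι i ≫ φ = ι i ≫ ψ) → φ = ψ)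
    (p : ℕ → (M ⟶ M)) (hp : ∀ i, ι i ≫ p i = ι i) (hp' : ∀ i j, i ≠ j → ι i ≫ p j = 0)
    (g : ModuleCat.of R R ⟶ M) : ∃ s : Finset ℕ, g = ∑ j ∈ s, g ≫ p j := by
  let S : Submodule R M :=
    { carrier := { z | ∃ s : Finset ℕ, ∀ s', s ⊆ s' → ∑ j ∈ s', p j z = z }
      add_mem' := by
        rintro a b ⟨s, hs⟩ ⟨t, ht⟩
        refine ⟨s ∪ t, fun s' h => ?_⟩
        simp only [map_add, Finset.sum_add_distrib, hs s' (Finset.union_subset_left h), ht s' (Finset.union_subset_right h)]
      zero_mem' := ⟨∅, fun s' _ => by simp only [map_zero, Finset.sum_const_zero]⟩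
      smul_mem' := by
        rintro c a ⟨s, hs⟩
        exact ⟨s, fun s' h => by simp only [map_smul, ← Finset.smul_sum, hs s' h]⟩ }
  have key : ∀ (i : ℕ) (x : K i), ι i x ∈ S := fun i x => by
    refine ⟨{i}, fun s' h => ?_⟩
    rw [Finset.sum_eq_single i]
    · rw [← ModuleCat.comp_apply, hp]
    · intro j _ hj
      rw [← ModuleCat.comp_apply, hp' i j hj.symm]
      rfl
    · exact fun hi => absurd (h (Finset.mem_singleton_self i)) hi
  have : ModuleCat.ofHom S.mkQ = 0 := hι _ _ fun i => by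
    ext x
    simp only [comp_zero]
    exact (Submodule.Quotient.mk_eq_zero S).2 (key i x)
  obtain ⟨s, hs⟩ : g (1 : R) ∈ S := (Submodule.Quotient.mk_eq_zero S).1
    (congrArg (fun f => f (g (1 : R))) (congrArg ModuleCat.Hom.hom this))
  refine ⟨s, ModuleCat.hom_ext (LinearMap.ext_ring ?_)⟩
  rw [ModuleCat.hom_sum, LinearMap.sum_apply]
  exact (hs s subset_rfl).symm

theorem countPerfect [HasColimitsOfShape (Discrete ℕ) (DerivedCategory (ModuleCat.{v} R))] :
    TriCat.CountPerfect (fun n : ULift.{v} ℤ => Q.obj (gen R n.down)) := by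
  intro X n α
  have := Localization.essSurj (Q (C := ModuleCat.{v} R)) (HomologicalComplex.quasiIso _ (ComplexShape.up ℤ))
  let K := fun m => Q.objPreimage (X m)
  let e := fun m => Q.objObjPreimageIso (X m)
  have := preservesColimit_Q K
  let c : Q.obj (∐ K) ≅ ∐ X := (PreservesCoproduct.iso Q K) ≪≫ Sigma.mapIso e
  have hc : ∀ m, Q.map (Sigma.ι K m) ≫ c.hom = (e m).hom ≫ Sigma.ι X m := fun m => by
    have h1 : Q.map (Sigma.ι K m) ≫ (PreservesCoproduct.iso Q K).hom = Sigma.ι (fun m => Q.obj (K m)) m := by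
      rw [← Iso.eq_comp_inv, PreservesCoproduct.inv_hom, ι_comp_sigmaComparison]
    simp only [c, Iso.trans_hom, reassoc_of% h1]
    exact Limits.Sigma.ι_map (fun j => (e j).hom) m
  obtain ⟨f, hf⟩ := Q_map_surjective R n.down _ (α ≫ c.inv)
  let π : ∀ m, (∐ K) ⟶ K m := fun m => Sigma.desc fun i => if h : i = m then eqToHom (congrArg K h) else 0
  let ev := HomologicalComplex.eval (ModuleCat.{v} R) (ComplexShape.up ℤ) n.down
  have hev : ∀ {T : ModuleCat.{v} R} (φ ψ : (∐ K).X n.down ⟶ T),
      (∀ i, (Sigma.ι K i).f n.down ≫ φ = (Sigma.ι K i).f n.down ≫ ψ) → φ = ψ := fun {T} φ ψ h => by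
    refine (cancel_epi (PreservesCoproduct.iso ev K).inv).1 ?_
    refine Sigma.hom_ext _ _ fun i => ?_
    simp only [PreservesCoproduct.inv_hom, ι_comp_sigmaComparison_assoc]
    exact h i
  have hπ : ∀ i, Sigma.ι K i ≫ π i ≫ Sigma.ι K i = Sigma.ι K i := fun i => by simp [π]
  have hπ' : ∀ i j, i ≠ j → Sigma.ι K i ≫ π j ≫ Sigma.ι K j = 0 := fun i j h => by simp [π, dif_neg h]
  obtain ⟨s, hs⟩ := exists_finite_support R (fun i => (Sigma.ι K i).f n.down) hev
    (fun m => (π m ≫ Sigma.ι K m).f n.down)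
    (fun i => by rw [← HomologicalComplex.comp_f, hπ])
    (fun i j h => by rw [← HomologicalComplex.comp_f, hπ' i j h, HomologicalComplex.zero_f])
    ((HomologicalComplex.singleObjXSelf (ComplexShape.up ℤ) n.down (ModuleCat.of R R)).inv ≫ f.f n.down)
  have hfs : f = ∑ m ∈ s, f ≫ π m ≫ Sigma.ι K m := by
    apply HomologicalComplex.from_single_hom_ext
    rw [← cancel_epi (HomologicalComplex.singleObjXSelf _ n.down _).inv]
    have hsum : (∑ m ∈ s, f ≫ π m ≫ Sigma.ι K m : gen R n.down ⟶ ∐ K).f n.down =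
        ∑ m ∈ s, f.f n.down ≫ (π m ≫ Sigma.ι K m).f n.down :=
      map_sum (AddMonoidHom.mk' (fun g : gen R n.down ⟶ ∐ K => g.f n.down) fun _ _ => rfl) _ _
    rw [hsum, Preadditive.comp_sum]
    exact hs.trans (Finset.sum_congr rfl fun m _ => assoc _ _ _)
  refine ⟨fun _ => n, fun m => Q.map (f ≫ π m) ≫ (e m).hom,
    ∑ m ∈ s, Sigma.ι (fun _ : ℕ => Q.obj (gen R n.down)) m, ?_⟩
  rw [← cancel_mono c.inv, ← hf, Preadditive.sum_comp, Preadditive.sum_comp]
  conv_lhs => rw [hfs, Functor.map_sum]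
  refine Finset.sum_congr rfl fun m _ => ?_
  rw [← cancel_mono c.hom, assoc, assoc, Iso.inv_hom_id, comp_id, ← assoc f, Functor.map_comp, assoc, hc]
  simp

theorem detects (X : DerivedCategory (ModuleCat.{v} R)) (hX : ¬ IsZero X) :
    ∃ (n : ULift.{v} ℤ) (f : Q.obj (gen R n.down) ⟶ X), f ≠ 0 := by
  by_contra! h
  apply hX
  have := Localization.essSurj (Q (C := ModuleCat.{v} R)) (HomologicalComplex.quasiIso _ (ComplexShape.up ℤ))
  obtain ⟨K, ⟨e⟩⟩ : ∃ K, Nonempty (Q.obj K ≅ X) := ⟨_, ⟨Q.objObjPreimageIso X⟩⟩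
  refine ((FinDimDerived.isZero_Q_obj_iff K).2 fun n => ?_).of_iso e.symm
  rw [HomologicalComplex.exactAt_iff_isZero_homology, IsZero.iff_id_eq_zero,
    ← cancel_epi (K.homologyπ n), comp_zero, comp_id]
  apply ModuleCat.hom_ext
  apply LinearMap.ext
  intro z
  let φ : ModuleCat.of R R ⟶ K.cycles n := ModuleCat.ofHom (LinearMap.toSpanSingleton R _ z)
  let f : gen R n ⟶ K := HomologicalComplex.mkHomFromSingle (φ ≫ K.iCycles n) (fun i hi => by simp)
  have hz : Q.map f = 0 := by
    have := h ⟨n⟩ (Q.map f ≫ e.hom)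
    rwa [← cancel_mono e.hom, zero_comp]
  have hH : HomologicalComplex.homologyMap f n = 0 := by
    have h' := (homologyFunctorFactors (ModuleCat.{v} R) n).hom.naturality f
    rw [Functor.comp_map, hz, Functor.map_zero, zero_comp] at h'
    exact (cancel_epi ((homologyFunctorFactors (ModuleCat.{v} R) n).hom.app _)).1 (h'.symm.trans comp_zero.symm)
  have hl : (gen R n).liftCycles (HomologicalComplex.singleObjXSelf _ n _).inv (n + 1) (by simp) (by simp) ≫
      HomologicalComplex.cyclesMap f n = φ := by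
    rw [← cancel_mono (K.iCycles n)]
    simp [f, HomologicalComplex.mkHomFromSingle_f]
  have : φ ≫ K.homologyπ n = 0 := by
    rw [← hl, assoc, ← HomologicalComplex.homologyπ_naturality, hH, comp_zero, comp_zero]
  have h1 := congrArg (fun g => g (1 : R)) this
  simp [φ] at h1
  exact ((congrArg _ (one_smul R z).symm).trans h1)

end ModuleCat

section Main

variable {A : Type u} [Category.{v} A] [Abelian A] [IsGrothendieckAbelian.{v} A] [HasDerivedCategory.{v} A]

open scoped Pretriangulated.Opposite in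
theorem isRepresentable (H : (DerivedCategory A)ᵒᵖ ⥤ AddCommGrpCat.{v}) [H.IsHomological]
    [∀ (ι : Type v), PreservesLimitsOfShape (Discrete ι) H] :
    (H ⋙ forget AddCommGrpCat.{v}).IsRepresentable := by
  let U := separator A
  have hU : IsSeparator U := isSeparator_separator A
  let := smallDerived (ModuleCat.{v} (End U)ᵐᵒᵖ) GPDerived.exists_res
  let adj := IsGrothendieckAbelian.tensorObjPreadditiveCoyonedaObjAdjunction U
  let F := IsGrothendieckAbelian.tensorObj U
  let G := preadditiveCoyonedaObj U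
  have : F.Additive := adj.left_adjoint_additive
  have := IsGrothendieckAbelian.GabrielPopescu.preservesFiniteLimits U hU
  have : PreservesFiniteColimits F := inferInstance
  have := IsGrothendieckAbelian.GabrielPopescu.full U hU
  have := (isSeparator_iff_faithful_preadditiveCoyonedaObj U).1 hU
  have : IsIso adj.counit := inferInstance
  have := GPDerived.qh_isLeftAdjoint A
  let adjQ := Adjunction.ofIsLeftAdjoint (Qh (C := A))
  let W := HomotopyCategory.quasiIso A (ComplexShape.up ℤ)
  have := TriCat.isRightDerivedFunctor_of_adjunction adjQ W (G.mapHomotopyCategory (ComplexShape.up ℤ) ⋙ Qh)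
  have : (G.mapHomotopyCategory (ComplexShape.up ℤ) ⋙ Qh).HasRightDerivedFunctor W :=
    Functor.HasRightDerivedFunctor.mk' (W := W)
      (Qh.rightAdjoint ⋙ G.mapHomotopyCategory (ComplexShape.up ℤ) ⋙ Qh)
      (Functor.whiskerRight adjQ.unit (G.mapHomotopyCategory (ComplexShape.up ℤ) ⋙ Qh) :
        G.mapHomotopyCategory (ComplexShape.up ℤ) ⋙ Qh ⟶ Qh ⋙ Qh.rightAdjoint ⋙ G.mapHomotopyCategory (ComplexShape.up ℤ) ⋙ Qh)
  obtain ⟨a, ha⟩ := GPDerived.adj_fullyFaithful (A := ModuleCat.{v} (End U)ᵐᵒᵖ) adj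
  let L := F.mapDerivedCategory
  have : L.IsLeftAdjoint := a.isLeftAdjoint
  have : ∀ ι : Type v, HasColimitsOfShape (Discrete ι) (DerivedCategory (ModuleCat.{v} (End U)ᵐᵒᵖ)) :=
    fun ι => TriCat.hasColimitsOfShape_derivedCategory
  let H' : (DerivedCategory (ModuleCat.{v} (End U)ᵐᵒᵖ))ᵒᵖ ⥤ AddCommGrpCat.{v} := L.op ⋙ H
  have : ∀ ι : Type v, PreservesLimitsOfShape (Discrete ι) L.op := fun ι =>
    have := preservesColimitsOfShape_of_equiv (Discrete.opposite ι).symm L
    preservesLimitsOfShape_op _ L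
  have : ∀ ι : Type v, PreservesLimitsOfShape (Discrete ι) H' := fun ι => inferInstance
  have : H'.IsHomological := inferInstance
  obtain ⟨X, ⟨r⟩⟩ := TriCat.isRepresentable_of_detects (fun n : ULift.{v} ℤ => Q.obj (gen (End U)ᵐᵒᵖ n.down))
    (detects _) (fun [_] => countPerfect _) H'
  let X' := L.obj X
  let η := a.unit.app X
  have hη : IsIso (L.map η) := by
    have h := a.left_triangle_components X
    have : IsIso (L.map η ≫ a.counit.app (L.obj X)) := by rw [h]; exact IsIso.id _
    exact IsIso.of_isIso_comp_right _ (a.counit.app (L.obj X))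
  obtain ⟨s, hs⟩ : ∃ s, η ≫ s = 𝟙 X := by
    let x := r.homEquiv (𝟙 X)
    refine ⟨r.homEquiv.symm (H.map (inv (L.map η)).op x), r.homEquiv.injective ?_⟩
    rw [r.homEquiv_comp, Equiv.apply_symm_apply]
    show H.map (L.map η).op (H.map (inv (L.map η)).op x) = x
    rw [← ConcreteCategory.comp_apply, ← H.map_comp, ← op_comp, IsIso.hom_inv_id]
    simp
  have hs' : s ≫ η = 𝟙 _ := by
    refine (a.homEquiv _ _).symm.injective ?_
    have : L.map s = inv (L.map η) := IsIso.eq_inv_of_hom_inv_id (((L.map_comp _ _).symm.trans ((congrArg L.map hs).trans (L.map_id _))))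
    rw [Adjunction.homEquiv_counit, Adjunction.homEquiv_counit, L.map_comp, this, IsIso.inv_hom_id, L.map_id]
  let eX : X ≅ (G.mapHomotopyCategory (ComplexShape.up ℤ) ⋙ Qh).totalRightDerived Qh W |>.obj X' := ⟨η, s, hs, hs'⟩
  refine ⟨X', ⟨{
    homEquiv := fun {Y} => (a.fullyFaithfulROfIsIsoCounit.homEquiv).trans ((eX.symm.homToEquiv).trans
      (r.homEquiv.trans ((H ⋙ forget _).mapIso (asIso (a.counit.app Y)).op.symm).toEquiv))
    homEquiv_comp := fun f g => ?_ }⟩⟩
  simp only [Equiv.trans_apply, Iso.homToEquiv, Functor.FullyFaithful.homEquiv]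
  show H.map (inv (a.counit.app _)).op (r.homEquiv (_ ≫ s)) = H.map f.op (H.map (inv (a.counit.app _)).op (r.homEquiv (_ ≫ s)))
  refine (congrArg (fun t => H.map _ (r.homEquiv t)) ((congrArg (· ≫ s) (Functor.map_comp _ f g)).trans (assoc _ _ _))).trans ?_
  rw [r.homEquiv_comp]
  show H.map _ (H.map _ _) = _
  rw [← ConcreteCategory.comp_apply, ← ConcreteCategory.comp_apply, ← H.map_comp, ← H.map_comp]
  exact congrArg (fun t => H.map (Quiver.Hom.op t) _)
    ((IsIso.inv_comp_eq _).2 (by rw [← assoc]; exact (IsIso.eq_comp_inv _).2 (a.counit.naturality f)))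

end Main

end Groth.Agent.H9Misc.BrownGroth
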