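import Groth.Agent.H9Misc.TelBij
import Groth.Agent.H9Misc.BrownGroth
import Mathlib.Algebra.Homology.DerivedCategory.SingleTriangle
import Mathlib.Algebra.Homology.HomologicalComplexLimits

/-! Orthogonality to a telescope cokernel is bijectivity of telescope maps. -/

universe w v u

open CategoryTheory CategoryTheory.Category CategoryTheory.Limits CategoryTheory.Pretriangulated

namespace Groth.Agent.H9Misc.TelOrth

section Triangle

variable {D : Type*} [Category* D] [Preadditive D] [HasZeroObject D] [HasShift D ℤ]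
  [∀ n : ℤ, (shiftFunctor D n).Additive] [Pretriangulated D]

/-- Vanishing of all maps to shifts is insensitive to shifts of the source. -/
lemma subsingleton_shift_hom {X K : D} (h : ∀ n : ℤ, Subsingleton (X ⟶ K⟦n⟧)) (a n : ℤ) :
    Subsingleton (X⟦a⟧ ⟶ K⟦n⟧) := by
  have := h (n - a)
  let e : K⟦n - a⟧⟦a⟧ ≅ K⟦n⟧ := ((shiftFunctorAdd' D (n - a) a n (by omega)).app K).symm
  refine ⟨fun f g => ?_⟩
  obtain ⟨f', hf⟩ := (shiftFunctor D a).map_surjective (f ≫ e.inv)
  obtain ⟨g', hg⟩ := (shiftFunctor D a).map_surjective (g ≫ e.inv)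
  rw [← cancel_mono e.inv, ← hf, ← hg, Subsingleton.elim f' g']

theorem forall_subsingleton_iff (T : Triangle D) (hT : T ∈ distTriang D) (K : D) :
    (∀ n : ℤ, Subsingleton (T.obj₃ ⟶ K⟦n⟧)) ↔
      ∀ n : ℤ, Function.Bijective fun f : T.obj₂ ⟶ K⟦n⟧ => T.mor₁ ≫ f := by
  constructor
  · intro h n
    constructor
    · intro f g hfg
      rw [← sub_eq_zero]
      obtain ⟨k, hk⟩ := Triangle.yoneda_exact₂ T hT (f - g) (by
        rw [Preadditive.comp_sub, sub_eq_zero]; exact hfg)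
      have := h n
      rw [hk, Subsingleton.elim k 0, comp_zero]
    · intro g
      have := subsingleton_shift_hom h (-1) n
      obtain ⟨k, hk⟩ := Triangle.yoneda_exact₂ T.invRotate (inv_rot_of_distTriang _ hT) g
        (Subsingleton.elim (α := T.obj₃⟦(-1 : ℤ)⟧ ⟶ K⟦n⟧) _ _)
      exact ⟨k, hk.symm⟩
  · intro h n
    refine ⟨fun f f' => ?_⟩
    rw [← sub_eq_zero]
    have h0 : T.mor₂ ≫ (f - f') = 0 := (h n).1 (by
      show T.mor₁ ≫ T.mor₂ ≫ (f - f') = T.mor₁ ≫ 0
      rw [comp_zero, ← assoc, comp_distTriang_mor_zero₁₂ T hT, zero_comp])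
    obtain ⟨g, hg⟩ := Triangle.yoneda_exact₃ T hT (f - f') h0
    let e : K⟦n - 1⟧⟦(1 : ℤ)⟧ ≅ K⟦n⟧ := ((shiftFunctorAdd' D (n - 1) 1 n (by omega)).app K).symm
    obtain ⟨g', hg'⟩ := (shiftFunctor D (1 : ℤ)).map_surjective (g ≫ e.inv)
    obtain ⟨k, hk⟩ := (h (n - 1)).2 g'
    have hk' : g = (T.mor₁⟦(1 : ℤ)⟧' ≫ k⟦(1 : ℤ)⟧') ≫ e.hom := by
      rw [← cancel_mono e.inv, assoc, e.hom_inv_id, comp_id, ← hg', ← hk, Functor.map_comp]
    rw [hg, hk', ← assoc, ← assoc, comp_distTriang_mor_zero₃₁ T hT, zero_comp, zero_comp]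

end Triangle

variable {A : Type u} [Category.{v} A] [Abelian A] [HasDerivedCategory.{w} A]
  [HasColimitsOfShape (Discrete ℕ) A] [HasExactColimitsOfShape (Discrete ℕ) A]

/-- `Hom(F, Y)` acted on by an endomorphism. -/
noncomputable def mu (F : A) (u : F ⟶ F) (Y : DerivedCategory A) :
    ((DerivedCategory.singleFunctor A 0).obj F ⟶ Y) →+ ((DerivedCategory.singleFunctor A 0).obj F ⟶ Y) :=
  AddMonoidHom.mk' (fun x => (DerivedCategory.singleFunctor A 0).map u ≫ x)
    fun _ _ => Preadditive.comp_add _ _ _ _ _ _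

/-- All telescopes are bijective. -/
def TBOn (F : A) (u : F ⟶ F) (K : DerivedCategory A) : Prop :=
  ∀ n : ℤ, TelBij.TB (mu F u (K⟦n⟧))

/-- Orthogonality to the cokernel of a telescope. -/
theorem forall_subsingleton_iff_tbOn {S : ShortComplex A} (hS : S.ShortExact) {F : A} (u : F ⟶ F)
    (ι₁ : ℕ → (F ⟶ S.X₁)) (h₁ : IsColimit (Cofan.mk S.X₁ ι₁))
    (ι₂ : ℕ → (F ⟶ S.X₂)) (h₂ : IsColimit (Cofan.mk S.X₂ ι₂))
    (hf : ∀ k, ι₁ k ≫ S.f = ι₂ k - u ≫ ι₂ (k + 1)) (K : DerivedCategory A) :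
    (∀ n : ℤ, Subsingleton ((DerivedCategory.singleFunctor A 0).obj S.X₃ ⟶ K⟦n⟧)) ↔ TBOn F u K := by
  let G := DerivedCategory.singleFunctor A 0
  have hG : PreservesColimit (Discrete.functor fun _ : ℕ => F) G := by
    have := BrownGroth.preservesColimit_Q (A := A)
      (fun _ : ℕ => (HomologicalComplex.single A (ComplexShape.up ℤ) 0).obj F)
    have : PreservesColimit (Discrete.functor fun _ : ℕ => F)
        (HomologicalComplex.single A (ComplexShape.up ℤ) 0) := inferInstance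
    have e : (Discrete.functor fun _ : ℕ => F) ⋙ HomologicalComplex.single A (ComplexShape.up ℤ) 0 ≅
        Discrete.functor fun _ : ℕ => (HomologicalComplex.single A (ComplexShape.up ℤ) 0).obj F :=
      Discrete.natIso fun _ => Iso.refl _
    have : PreservesColimit ((Discrete.functor fun _ : ℕ => F) ⋙
        HomologicalComplex.single A (ComplexShape.up ℤ) 0) DerivedCategory.Q :=
      preservesColimit_of_iso_diagram _ e.symm
    have : PreservesColimit (Discrete.functor fun _ : ℕ => F)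
        (CochainComplex.singleFunctor A 0 ⋙ DerivedCategory.Q) :=
      inferInstanceAs (PreservesColimit (Discrete.functor fun _ : ℕ => F)
        (HomologicalComplex.single A (ComplexShape.up ℤ) 0 ⋙ DerivedCategory.Q))
    exact preservesColimit_of_natIso _ (DerivedCategory.singleFunctorIsoCompQ A 0).symm
  have bij : ∀ (X : A) (ι : ℕ → (F ⟶ X)) (_ : IsColimit (Cofan.mk X ι)) (Y : DerivedCategory A),
      Function.Bijective fun (φ : G.obj X ⟶ Y) k => G.map (ι k) ≫ φ := fun X ι hι Y => by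
    have hc := isColimitCofanMkObjOfIsColimit G _ ι hι
    exact ⟨fun a b h => Cofan.IsColimit.hom_ext hc _ _ fun k => congrFun h k,
      fun y => ⟨Cofan.IsColimit.desc hc y, funext fun k => Cofan.IsColimit.fac hc y k⟩⟩
  refine (forall_subsingleton_iff hS.singleTriangle hS.singleTriangle_distinguished K).trans
    (forall_congr' fun n => ?_)
  have sq : (fun (φ : G.obj S.X₁ ⟶ K⟦n⟧) k => G.map (ι₁ k) ≫ φ) ∘ (fun φ => G.map S.f ≫ φ) =
      (TelBij.Tel (mu F u (K⟦n⟧))) ∘ fun (φ : G.obj S.X₂ ⟶ K⟦n⟧) k => G.map (ι₂ k) ≫ φ := by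
    funext φ k
    show G.map (ι₁ k) ≫ G.map S.f ≫ φ = G.map (ι₂ k) ≫ φ - G.map u ≫ G.map (ι₂ (k + 1)) ≫ φ
    rw [← assoc, ← G.map_comp, hf, G.map_sub, G.map_comp, Preadditive.sub_comp, assoc]
  exact ((bij _ _ h₁ _).of_comp_iff' _).symm.trans
    (Iff.trans (iff_of_eq (congrArg Function.Bijective sq)) (Function.Bijective.of_comp_iff _ (bij _ _ h₂ _)))

end Groth.Agent.H9Misc.TelOrth
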