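import Groth.Agent.H9Misc.CorepTri
import Groth.Agent.H9Misc.SerreDerived
import Groth.Agent.H9Misc.BrownGroth
import Groth.Agent.TriCat.ResolveOp
import Groth.Agent.TriCat.SeqColimit
import Groth.Agent.TriCat.ColimQuasiIso
import Groth.Agent.TriCat.KInjRes
import Groth.Agent.TriCat.DerivedOfAdjunction
import Groth.Agent.FlatCxLib.HomologyColim
import Mathlib.Algebra.Homology.DerivedCategory.Ext.ExactSequences
import Mathlib.Algebra.Homology.Embedding.CochainComplex
import Mathlib.CategoryTheory.Triangulated.Adjunction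
import Mathlib.CategoryTheory.Abelian.GrothendieckCategory.HasExt

/-! A left adjoint exists on unbounded derived categories as soon as there are enough objects
without higher Ext into the images of injectives. -/

universe u

open CategoryTheory Category Limits DerivedCategory Abelian ZeroObject

attribute [local instance] HasDerivedCategory.standard

namespace Groth.Agent.H9Misc.LeftAdjExists

variable {A : Type (u + 1)} [Category.{u} A] [Abelian A] [IsGrothendieckAbelian.{u} A]
  {B : Type (u + 1)} [Category.{u} B] [Abelian B] [IsGrothendieckAbelian.{u} B]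
  {F : A ⥤ B} {G : B ⥤ A} (adj : F ⊣ G) [F.Additive] [G.Additive]

variable (G) in
/-- No higher Ext into images of injectives. -/
def Good (M : A) : Prop :=
  ∀ (E : B), Injective E → ∀ n : ℕ, Subsingleton (Ext.{u} M (G.obj E) (n + 1))

omit [G.Additive] in
lemma good_of_isZero {M : A} (h : IsZero M) : Good G M := fun E _ n => by
  refine ⟨fun x y => ?_⟩
  rw [← Ext.mk₀_id_comp x, ← Ext.mk₀_id_comp y, h.eq_of_src (𝟙 M) 0, Ext.mk₀_zero, Ext.zero_comp,
    Ext.zero_comp]

omit [G.Additive] in
lemma good_biprod {M N : A} (hM : Good G M) (hN : Good G N) : Good G (M ⊞ N) := fun E hE n => by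
  have := hM E hE n
  have := hN E hE n
  have key : ∀ x : Ext.{u} (M ⊞ N) (G.obj E) (n + 1), x = 0 := fun x => by
    rw [← Ext.mk₀_id_comp x, ← biprod.total, Ext.mk₀_add, Ext.add_comp, ← Ext.mk₀_comp_mk₀_assoc,
      ← Ext.mk₀_comp_mk₀_assoc, Subsingleton.elim ((Ext.mk₀ (biprod.inl : M ⟶ M ⊞ N)).comp x (zero_add _)) 0,
      Subsingleton.elim ((Ext.mk₀ (biprod.inr : N ⟶ M ⊞ N)).comp x (zero_add _)) 0,
      Ext.comp_zero, Ext.comp_zero, add_zero]
  exact ⟨fun x y => by rw [key x, key y]⟩

omit [G.Additive] in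
lemma good_X₁ {S : ShortComplex A} (hS : S.ShortExact) (h₂ : Good G S.X₂) (h₃ : Good G S.X₃) :
    Good G S.X₁ := fun E hE n => by
  have := h₂ E hE n
  have := h₃ E hE (n + 1)
  have key : ∀ x : Ext.{u} S.X₁ (G.obj E) (n + 1), x = 0 := fun x => by
    obtain ⟨x₂, rfl⟩ := Ext.contravariant_sequence_exact₁ hS _ x
      (show 1 + (n + 1) = n + 1 + 1 by omega) (Subsingleton.elim _ _)
    rw [Subsingleton.elim x₂ 0, Ext.comp_zero]
  exact ⟨fun x y => by rw [key x, key y]⟩

omit [G.Additive] in
lemma exists_extension {S : ShortComplex A} (hS : S.ShortExact) (h₃ : Good G S.X₃) {E : B}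
    (hE : Injective E) (φ : S.X₁ ⟶ G.obj E) : ∃ ψ : S.X₂ ⟶ G.obj E, S.f ≫ ψ = φ := by
  have := h₃ E hE 0
  obtain ⟨x, hx⟩ := Ext.contravariant_sequence_exact₁ hS _ (Ext.mk₀ φ) (add_zero 1) (Subsingleton.elim _ _)
  obtain ⟨ψ, rfl⟩ := (Ext.mk₀_bijective _ _).2 x
  refine ⟨ψ, (Ext.mk₀_bijective _ _).1 ?_⟩
  rw [← hx, Ext.mk₀_comp_mk₀]

omit [IsGrothendieckAbelian.{u} A] [IsGrothendieckAbelian.{u} B] in
lemma exactAt_of_desc [EnoughInjectives B] (L : CochainComplex B ℤ) (i j k : ℤ)
    (hi : i + 1 = j) (hk : j + 1 = k)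
    (h : ∀ (E : B), Injective E → ∀ φ : L.X j ⟶ E, L.d i j ≫ φ = 0 → ∃ ψ, L.d j k ≫ ψ = φ) :
    L.ExactAt j := by
  rw [HomologicalComplex.exactAt_iff_isZero_homology, IsZero.iff_id_eq_zero,
    ← cancel_mono (Injective.ι (L.homology j)), id_comp, zero_comp]
  let φ₀ : L.cycles j ⟶ Injective.under (L.homology j) := L.homologyπ j ≫ Injective.ι _
  let φ := Injective.factorThru φ₀ (L.iCycles j)
  have hφ : L.iCycles j ≫ φ = φ₀ := Injective.comp_factorThru _ _
  obtain ⟨ψ, hψ⟩ := h _ inferInstance φ (by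
    rw [← L.toCycles_i i j, assoc, hφ, L.toCycles_comp_homologyπ_assoc, zero_comp])
  rw [← cancel_epi (L.homologyπ j), comp_zero]
  show φ₀ = 0
  rw [← hφ, ← hψ, L.iCycles_d_assoc, zero_comp]

include adj in
/-- Bounded above acyclic complexes of good objects stay acyclic. -/
theorem acyclic_map (c : CochainComplex A ℤ) (a : ℤ) [c.IsStrictlyLE a] (hc : c.Acyclic)
    (hg : ∀ n, Good G (c.X n)) : ((F.mapHomologicalComplex (ComplexShape.up ℤ)).obj c).Acyclic := by
  have hses : ∀ n, (ShortComplex.mk (c.fromOpcycles n (n + 1)) (c.pOpcycles (n + 1))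
      (by rw [← cancel_epi (c.pOpcycles n), c.p_fromOpcycles_assoc, c.d_pOpcycles, comp_zero])).ShortExact := fun n => by
    have hm : Mono (c.fromOpcycles n (n + 1)) := by
      refine Preadditive.mono_of_cancel_zero _ fun {T} t ht => ?_
      obtain ⟨T', π, hπ, y, hy⟩ := surjective_up_to_refinements_of_epi (c.pOpcycles n) t
      have hd : y ≫ c.d n (n + 1) = 0 := by
        rw [← c.p_fromOpcycles n (n + 1), ← assoc, ← hy, assoc, ht, comp_zero]
      have he := hc n
      rw [c.exactAt_iff' (n - 1) n (n + 1) (by simp) (by simp),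
        ShortComplex.exact_iff_exact_up_to_refinements] at he
      obtain ⟨T'', π', hπ', x, hx⟩ := he y hd
      rw [← cancel_epi π, comp_zero, hy, ← cancel_epi π', comp_zero]
      exact (assoc _ _ _).symm.trans ((congrArg (· ≫ c.pOpcycles n) hx).trans ((assoc _ _ _).trans
        ((congrArg (x ≫ ·) (c.d_pOpcycles (n - 1) n)).trans comp_zero)))
    exact
      { exact := ShortComplex.exact_of_g_is_cokernel _ (by
          refine CokernelCofork.IsColimit.ofπ _ _
            (fun {Z} k hk => c.descOpcycles k n (by simp) (by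
              show c.d n (n + 1) ≫ k = 0
              rw [← c.p_fromOpcycles n (n + 1), assoc]
              exact (congrArg (c.pOpcycles n ≫ ·) hk).trans comp_zero))
            (fun {Z} k hk => c.p_descOpcycles _ _ _ _) (fun {Z} k hk m hm => ?_)
          rw [← cancel_epi (c.pOpcycles (n + 1)), c.p_descOpcycles]
          exact hm) }
  have hgood : ∀ (k : ℕ) (n : ℤ), a - k < n → Good G (c.opcycles n) := by
    intro k
    induction k with
    | zero =>
      intro n hn
      refine good_of_isZero ?_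
      rw [IsZero.iff_id_eq_zero, ← cancel_epi (c.pOpcycles n), comp_zero]
      exact (c.isZero_of_isStrictlyLE a n (by omega)).eq_of_src _ _
    | succ k ih =>
      intro n hn
      exact good_X₁ (hses n) (hg _) (ih (n + 1) (by omega))
  intro j
  refine exactAt_of_desc _ (j - 1) j (j + 1) (by omega) rfl fun E hE φ hφ => ?_
  let φ' : c.X j ⟶ G.obj E := adj.homEquiv _ _ φ
  have hφ' : c.d (j - 1) j ≫ φ' = 0 := by
    rw [← adj.homEquiv_naturality_left]
    change F.map (c.d (j - 1) j) ≫ φ = 0 at hφ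
    rw [hφ, Adjunction.homEquiv_unit, G.map_zero, comp_zero]
  obtain ⟨ψ, hψ⟩ := exists_extension (hses j)
    (hgood (a - j + 1).toNat.succ (j + 1) (by omega)) hE
    (c.descOpcycles φ' (j - 1) (by simp) hφ')
  refine ⟨(adj.homEquiv _ _).symm ψ, ?_⟩
  show F.map (c.d j (j + 1)) ≫ _ = φ
  rw [← adj.homEquiv_naturality_left_symm, ← c.p_fromOpcycles j (j + 1), assoc,
    show c.fromOpcycles j (j + 1) ≫ ψ = _ from hψ, c.p_descOpcycles]
  exact (adj.homEquiv _ _).symm_apply_apply φ

include adj in
/-- A quasi-isomorphism of bounded above complexes of good objects stays one. -/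
theorem isIso_map_of_quasiIso {P P' : CochainComplex A ℤ} (q : P' ⟶ P) [QuasiIso q] (a : ℤ)
    [P.IsStrictlyLE a] [P'.IsStrictlyLE a] (hP : ∀ n, Good G (P.X n)) (hP' : ∀ n, Good G (P'.X n)) :
    IsIso (Qh.map ((F.mapHomotopyCategory (ComplexShape.up ℤ)).map
      ((HomotopyCategory.quotient A _).map q))) := by
  have hT := Qh.map_distinguished _ ((F.mapHomotopyCategory (ComplexShape.up ℤ)).map_distinguished _
    (HomotopyCategory.mappingCone_triangleh_distinguished q))
  refine (Pretriangulated.Triangle.isZero₃_iff_isIso₁ _ hT).1 ?_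
  have hle : (CochainComplex.mappingCone q).IsStrictlyLE a := by
    rw [CochainComplex.isStrictlyLE_iff]
    intro i hi
    exact ((biprod_isZero_iff _ _).2 ⟨P'.isZero_of_isStrictlyLE a (i + 1) (by omega),
      P.isZero_of_isStrictlyLE a i (by omega)⟩).of_iso
      (HomologicalComplex.homotopyCofiber.XIsoBiprod q i (i + 1) rfl)
  have hg : ∀ n, Good G ((CochainComplex.mappingCone q).X n) := fun n E hE k => by
    have := good_biprod (hP' (n + 1)) (hP n) E hE k
    let e : (CochainComplex.mappingCone q).X n ≅ P'.X (n + 1) ⊞ P.X n :=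
      HomologicalComplex.homotopyCofiber.XIsoBiprod q n (n + 1) rfl
    refine ⟨fun x y => ?_⟩
    rw [← Ext.mk₀_id_comp x, ← Ext.mk₀_id_comp y, ← e.hom_inv_id, ← Ext.mk₀_comp_mk₀_assoc,
      ← Ext.mk₀_comp_mk₀_assoc, Subsingleton.elim ((Ext.mk₀ e.inv).comp x (zero_add _))]
  have hac : (CochainComplex.mappingCone q).Acyclic := by
    have h1 := Qh.map_distinguished _ (HomotopyCategory.mappingCone_triangleh_distinguished q)
    have : IsIso (Qh.map ((HomotopyCategory.quotient A _).map q)) :=
      (NatIso.isIso_map_iff (quotientCompQhIso A) q).2 inferInstance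
    exact (FinDimDerived.isZero_Q_obj_iff _).1
      (((Pretriangulated.Triangle.isZero₃_iff_isIso₁ _ h1).2 this).of_iso
        ((quotientCompQhIso A).app _).symm)
  exact ((FinDimDerived.isZero_Q_obj_iff _).2 (acyclic_map adj _ a hac hg)).of_iso
    (Qh.mapIso ((F.mapHomotopyCategoryFactors _).app _) ≪≫ (quotientCompQhIso B).app _)

variable (hgood : ∀ M : A, ∃ (P : A) (π : P ⟶ M), Good G P ∧ Epi π)
  {RB : DerivedCategory B ⥤ HomotopyCategory B (ComplexShape.up ℤ)} (adjQ : Qh ⊣ RB)

include adj hgood adjQ in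
/-- Homotopy classes into images of injective-like complexes compute derived morphisms. -/
theorem Qh_map_bijective (P : CochainComplex A ℤ) (a : ℤ) [P.IsStrictlyLE a]
    (hP : ∀ n, Good G (P.X n)) (M : DerivedCategory B) :
    Function.Bijective (Qh.map : ((HomotopyCategory.quotient A _).obj P ⟶
      (G.mapHomotopyCategory (ComplexShape.up ℤ)).obj (RB.obj M)) → _) := by
  let FK := F.mapHomotopyCategory (ComplexShape.up ℤ)
  let a' := (SerreDerived.adjHtpy (ComplexShape.up ℤ) adj).comp adjQ
  -- resolutions of sources of roofs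
  have hres : ∀ (P' : CochainComplex A ℤ) (s : P' ⟶ P), QuasiIso s →
      ∃ (P'' : CochainComplex A ℤ) (t : P'' ⟶ P'), QuasiIso t ∧
        Function.Bijective (fun g : (HomotopyCategory.quotient A _).obj P ⟶
          (G.mapHomotopyCategory (ComplexShape.up ℤ)).obj (RB.obj M) =>
            (HomotopyCategory.quotient A _).map (t ≫ s) ≫ g) := fun P' s hs => by
    have : P'.IsLE a := by
      rw [CochainComplex.isLE_iff]
      intro i hi
      have h1 := P.exactAt_of_isLE a i hi
      rw [HomologicalComplex.exactAt_iff_isZero_homology] at h1 ⊢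
      exact h1.of_iso (asIso (HomologicalComplex.homologyMap s i))
    obtain ⟨P'', r, hle, hPg, -, hr⟩ := TriCat.exists_quasiIso_left_resolution (Good G)
      ⟨0, isZero_zero _, good_of_isZero (isZero_zero _)⟩ hgood (P'.truncLE a) a
    refine ⟨P'', r ≫ P'.ιTruncLE a, inferInstance, ?_⟩
    have : IsIso ((FK ⋙ Qh).map ((HomotopyCategory.quotient A _).map ((r ≫ P'.ιTruncLE a) ≫ s))) :=
      isIso_map_of_quasiIso adj ((r ≫ P'.ιTruncLE a) ≫ s) a hP hPg
    constructor
    · intro g g' h
      apply (a'.homEquiv _ _).symm.injective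
      rw [← cancel_epi ((FK ⋙ Qh).map (((HomotopyCategory.quotient A _).map ((r ≫ P'.ιTruncLE a) ≫ s))))]
      exact (a'.homEquiv_naturality_left_symm _ g).symm.trans
        ((congrArg (a'.homEquiv _ _).symm h).trans (a'.homEquiv_naturality_left_symm _ g'))
    · intro g₀
      refine ⟨a'.homEquiv _ _ (inv ((FK ⋙ Qh).map ((HomotopyCategory.quotient A _).map
        ((r ≫ P'.ιTruncLE a) ≫ s))) ≫ (a'.homEquiv _ _).symm g₀), ?_⟩
      refine (a'.homEquiv_naturality_left _ _).symm.trans ?_
      rw [Equiv.apply_eq_iff_eq_symm_apply]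
      exact IsIso.hom_inv_id_assoc _ _
  refine ⟨fun g g' h => ?_, fun φ => ?_⟩
  · rw [← sub_eq_zero]
    have h0 : Qh.map (g - g') = 0 := by rw [Functor.map_sub, h, sub_self]
    obtain ⟨f, hf⟩ := (HomotopyCategory.quotient A _).map_surjective (g - g')
    rw [← hf] at h0 ⊢
    have h1 : Q.map f = 0 := by
      rw [← cancel_epi ((quotientCompQhIso A).hom.app P), comp_zero]
      refine ((quotientCompQhIso A).hom.naturality f).symm.trans ?_
      show Qh.map ((HomotopyCategory.quotient A _).map f) ≫ _ = 0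
      exact (congrArg (· ≫ _) h0).trans zero_comp
    obtain ⟨Z, s, hs, ⟨hh⟩⟩ := TriCat.exists_quasiIso_of_Q_map_eq_zero f h1
    obtain ⟨P'', t, ht, hb⟩ := hres Z s hs
    apply hb.1
    show (HomotopyCategory.quotient A _).map (t ≫ s) ≫ (HomotopyCategory.quotient A _).map f = _ ≫ 0
    rw [comp_zero, ← Functor.map_comp, assoc, Functor.map_comp,
      HomotopyCategory.eq_of_homotopy _ _ hh, Functor.map_zero, comp_zero]
  · let Y := (G.mapHomotopyCategory (ComplexShape.up ℤ)).obj (RB.obj M)
    obtain ⟨Y₀, hY₀⟩ := HomotopyCategory.quotient_obj_surjective Y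
    obtain ⟨Z, s, hs, f, hfac⟩ := DerivedCategory.right_fac
      ((quotientCompQhIso A).inv.app P ≫ φ ≫ eqToHom (congrArg Qh.obj hY₀.symm) ≫
        (quotientCompQhIso A).hom.app Y₀)
    have hs' : QuasiIso s := (isIso_Q_map_iff_quasiIso (φ := s)).1 hs
    obtain ⟨P'', t, ht, hb⟩ := hres Z s hs'
    obtain ⟨g, hg⟩ := hb.2 ((HomotopyCategory.quotient A _).map (t ≫ f) ≫ eqToHom hY₀)
    refine ⟨g, ?_⟩
    have : IsIso (Qh.map ((HomotopyCategory.quotient A _).map (t ≫ s))) :=
      (NatIso.isIso_map_iff (quotientCompQhIso A) _).2 inferInstance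
    rw [← cancel_epi (Qh.map ((HomotopyCategory.quotient A _).map (t ≫ s))), ← Functor.map_comp]
    refine (congrArg Qh.map hg).trans ?_
    have e : φ = (quotientCompQhIso A).hom.app P ≫ (inv (Q.map s) ≫ Q.map f) ≫
        (quotientCompQhIso A).inv.app Y₀ ≫ eqToHom (congrArg Qh.obj hY₀) := by
      rw [← hfac]; simp
    rw [e, Functor.map_comp, eqToHom_map]
    have n1 : ∀ {X X' : CochainComplex A ℤ} (x : X ⟶ X'), Qh.map ((HomotopyCategory.quotient A _).map x) =
        (quotientCompQhIso A).hom.app X ≫ Q.map x ≫ (quotientCompQhIso A).inv.app X' := fun x =>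
      (NatIso.naturality_2 (quotientCompQhIso A) x).symm
    rw [n1, n1]
    simp

variable (G) in
/-- The candidate right adjoint. -/
noncomputable abbrev RG (RB : DerivedCategory B ⥤ HomotopyCategory B (ComplexShape.up ℤ)) :
    DerivedCategory B ⥤ DerivedCategory A :=
  RB ⋙ G.mapHomotopyCategory (ComplexShape.up ℤ) ⋙ Qh

include adj hgood adjQ in
lemma def_of_bounded (P : CochainComplex A ℤ) (a : ℤ) [P.IsStrictlyLE a] (hP : ∀ n, Good G (P.X n)) :
    (RG G RB).leftAdjointObjIsDefined (Qh.obj ((HomotopyCategory.quotient A _).obj P)) := by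
  let a' := (SerreDerived.adjHtpy (ComplexShape.up ℤ) adj).comp adjQ
  refine (CorepTri.def_iff _ _).2 ⟨_, Qh.map (a'.unit.app _), fun M => ?_⟩
  have h := (Qh_map_bijective adj hgood adjQ P a hP M).comp (a'.homEquiv _ M).bijective
  refine (congrArg Function.Bijective (funext fun g => ?_)).mpr h
  show Qh.map (a'.unit.app _) ≫ Qh.map ((RB ⋙ G.mapHomotopyCategory _).map g) = Qh.map (a'.homEquiv _ M g)
  rw [← Functor.map_comp, Adjunction.homEquiv_unit]

include adj hgood adjQ in
lemma def_truncLE (K : CochainComplex A ℤ) (n : ℤ) :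
    (RG G RB).leftAdjointObjIsDefined (Q.obj (K.truncLE n)) := by
  obtain ⟨P, r, hle, hP, -, hr⟩ := TriCat.exists_quasiIso_left_resolution (Good G)
    ⟨0, isZero_zero _, good_of_isZero (isZero_zero _)⟩ hgood (K.truncLE n) n
  have := def_of_bounded adj hgood adjQ P n hP
  rw [CorepTri.def_iff] at this ⊢
  obtain ⟨L, η, h⟩ := this
  let i : Q.obj (K.truncLE n) ≅ Qh.obj ((HomotopyCategory.quotient A _).obj P) :=
    (asIso (Q.map r)).symm ≪≫ ((quotientCompQhIso A).app P).symm
  refine ⟨L, i.hom ≫ η, fun Z => ?_⟩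
  refine (congrArg Function.Bijective (funext fun g => ?_)).mpr (i.homFromEquiv.symm.bijective.comp (h Z))
  simp [Iso.homFromEquiv]

/-- Transition maps between truncations. -/
noncomputable def step (K : CochainComplex A ℤ) (n : ℕ) :
    K.truncLE (n : ℤ) ⟶ K.truncLE ((n + 1 : ℕ) : ℤ) :=
  haveI : (K.truncLE (n : ℤ)).IsStrictlyLE ((n + 1 : ℕ) : ℤ) :=
    CochainComplex.isStrictlyLE_of_le _ (n : ℤ) _ (by omega)
  inv ((K.truncLE (n : ℤ)).ιTruncLE ((n + 1 : ℕ) : ℤ)) ≫
    CochainComplex.truncLEMap (K.ιTruncLE (n : ℤ)) ((n + 1 : ℕ) : ℤ)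

/-- The truncations map to the complex. -/
noncomputable def seqι (K : CochainComplex A ℤ) :
    Functor.ofSequence (step K) ⟶ (Functor.const ℕ).obj K :=
  NatTrans.ofSequence (fun n => K.ιTruncLE (n : ℤ)) fun n => by
    erw [Functor.ofSequence_map_homOfLE_succ, Category.comp_id]
    show step K n ≫ K.ιTruncLE ((n + 1 : ℕ) : ℤ) = K.ιTruncLE (n : ℤ)
    rw [step, assoc, CochainComplex.ιTruncLE_naturality, IsIso.inv_hom_id_assoc]

lemma quasiIso_desc (K : CochainComplex A ℤ) :
    QuasiIso (colimit.desc (Functor.ofSequence (step K)) (Cocone.mk K (seqι K))) := by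
  refine ⟨fun i => ?_⟩
  have := FlatCxLib.preservesColimitsOfShape_complexHomology (C := A) (J := ℕ) (ComplexShape.up ℤ) i
  let H := HomologicalComplex.homologyFunctor A (ComplexShape.up ℤ) i
  rw [quasiIsoAt_iff_isIso_homologyMap]
  have hcst : ∀ n, i.toNat ≤ n → IsIso (H.map ((seqι K).app n)) := fun n hn => by
    have := K.quasiIsoAt_ιTruncLE (n : ℤ) i (by omega)
    exact inferInstanceAs (IsIso (HomologicalComplex.homologyMap (K.ιTruncLE (n : ℤ)) i))
  let c₀ := H.mapCocone (colimit.cocone (Functor.ofSequence (step K)))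
  let hc₀ : IsColimit c₀ := isColimitOfPreserves H (colimit.isColimit _)
  have hconst : ∀ ⦃x y : ℕ⦄ (φ : x ⟶ y), i.toNat ≤ x →
      IsIso ((Functor.ofSequence (step K) ⋙ H).map φ) := fun x y φ hx => by
    have := hcst x hx
    have := hcst y (hx.trans (leOfHom φ))
    have e : H.map ((Functor.ofSequence (step K)).map φ) ≫ H.map ((seqι K).app y) =
        H.map ((seqι K).app x) := by
      rw [← H.map_comp, (seqι K).naturality φ]
      simp
    have : IsIso (H.map ((Functor.ofSequence (step K)).map φ) ≫ H.map ((seqι K).app y)) := by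
      rw [e]; infer_instance
    change IsIso (H.map ((Functor.ofSequence (step K)).map φ))
    exact IsIso.of_isIso_comp_right _ (H.map ((seqι K).app y))
  have h0 : IsIso (c₀.ι.app i.toNat) :=
    Functor.IsEventuallyConstantFrom.isIso_ι_of_isColimit (i₀ := i.toNat) (fun j φ => hconst φ le_rfl) hc₀
  have hcomp : c₀.ι.app i.toNat ≫ HomologicalComplex.homologyMap
      (colimit.desc (Functor.ofSequence (step K)) (Cocone.mk K (seqι K))) i = H.map ((seqι K).app i.toNat) := by
    show H.map _ ≫ H.map _ = _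
    rw [← H.map_comp]
    exact congrArg H.map (colimit.ι_desc _ _)
  have := hcst i.toNat le_rfl
  exact @IsIso.of_isIso_comp_left _ _ _ _ _ (c₀.ι.app i.toNat) _ h0
    (Eq.mpr (congrArg (fun g => IsIso g) hcomp) (hcst i.toNat le_rfl))

include adj hgood adjQ in
/-- The left adjoint exists. -/
theorem isRightAdjoint : (RG G RB).IsRightAdjoint := by
  refine Functor.isRightAdjoint_of_leftAdjointObjIsDefined_eq_top ?_
  ext X
  simp only [Pi.top_apply, Prop.top_eq_true, iff_true]
  have := Localization.essSurj (Q (C := A)) (HomologicalComplex.quasiIso A (ComplexShape.up ℤ))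
  let K := Q.objPreimage X
  let S := Functor.ofSequence (step K)
  have : HasColimitsOfShape (Discrete ℕ) A := TriCat.hasColimitsOfShape_discrete_nat
  have : HasColimitsOfShape (Discrete ℕ) (DerivedCategory B) :=
    TriCat.hasColimitsOfShape_derivedCategory
  have hsum : (RG G RB).leftAdjointObjIsDefined (Q.obj (∐ S.obj)) := by
    have := BrownGroth.preservesColimit_Q S.obj
    exact Functor.leftAdjointObjIsDefined_of_isColimit
      (isColimitOfPreserves Q (colimit.isColimit (Discrete.functor S.obj)))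
      (fun j => def_truncLE adj hgood adjQ K _)
  have hse := TriCat.telescope_shortExact S
  have := TriCat.isRightDerivedFunctor_of_adjunction adjQ (HomotopyCategory.quasiIso B (ComplexShape.up ℤ))
    (G.mapHomotopyCategory (ComplexShape.up ℤ) ⋙ Qh)
  letI : RB.CommShift ℤ := adjQ.rightAdjointCommShift ℤ
  have : adjQ.CommShift ℤ := adjQ.commShift_of_leftAdjoint ℤ
  have : RB.IsTriangulated := adjQ.isTriangulated_rightAdjoint
  have h3 := CorepTri.def_obj₃ (RG G RB) _ (DerivedCategory.triangleOfSES_distinguished hse) hsum hsum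
  rw [CorepTri.def_iff] at h3 ⊢
  obtain ⟨L, η, h⟩ := h3
  have := quasiIso_desc K
  let i : X ≅ Q.obj (colimit S) :=
    (Q.objObjPreimageIso X).symm ≪≫ (asIso (Q.map (colimit.desc S (Cocone.mk K (seqι K))))).symm
  refine ⟨L, i.hom ≫ η, fun Z => ?_⟩
  refine (congrArg Function.Bijective (funext fun g => ?_)).mpr (i.homFromEquiv.symm.bijective.comp (h Z))
  simp [Iso.homFromEquiv]
  rfl

include adj hgood in
/-- Total right derived functors are right adjoints. -/
theorem isRightAdjoint_totalRightDerived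
    [(G.mapHomotopyCategory (ComplexShape.up ℤ) ⋙ Qh).HasRightDerivedFunctor
      (HomotopyCategory.quasiIso B (ComplexShape.up ℤ))] :
    ((G.mapHomotopyCategory (ComplexShape.up ℤ) ⋙ Qh).totalRightDerived Qh
      (HomotopyCategory.quasiIso B (ComplexShape.up ℤ))).IsRightAdjoint := by
  have := TriCat.qh_isLeftAdjoint_of_exists_resolution (A := B) fun L => by
    obtain ⟨I, f, hI, hf, -, -⟩ := TriCat.exists_kInjective_resolution' L
    exact ⟨I, f, hI, hf⟩
  let adjQ := Adjunction.ofIsLeftAdjoint (Qh (C := B))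
  let W := HomotopyCategory.quasiIso B (ComplexShape.up ℤ)
  have := isRightAdjoint adj hgood adjQ
  have := TriCat.isRightDerivedFunctor_of_adjunction adjQ W (G.mapHomotopyCategory (ComplexShape.up ℤ) ⋙ Qh)
  exact Functor.isRightAdjoint_of_iso (Functor.rightDerivedUnique (RG G Qh.rightAdjoint) _
    (Functor.whiskerRight adjQ.unit (G.mapHomotopyCategory (ComplexShape.up ℤ) ⋙ Qh) :
      G.mapHomotopyCategory (ComplexShape.up ℤ) ⋙ Qh ⟶ Qh ⋙ Qh.rightAdjoint ⋙ G.mapHomotopyCategory (ComplexShape.up ℤ) ⋙ Qh)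
    ((G.mapHomotopyCategory (ComplexShape.up ℤ) ⋙ Qh).totalRightDerivedUnit Qh W) W)

end Groth.Agent.H9Misc.LeftAdjExists
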