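import Groth.Agent.H9Misc.TelOrth
import Groth.Agent.H9Misc.LeftAdjExists

/-! Telescope bijectivity transfers along derived adjunctions on good objects. -/

universe u

open CategoryTheory CategoryTheory.Category CategoryTheory.Limits DerivedCategory

attribute [local instance] HasDerivedCategory.standard

namespace Groth.Agent.H9Misc.TelTransfer

section General

variable {A : Type*} [Category* A] [Abelian A] [HasDerivedCategory A]

/-- Precomposition with an endomorphism. -/
noncomputable def pre {S : DerivedCategory A} (s : S ⟶ S) (Y : DerivedCategory A) : (S ⟶ Y) →+ (S ⟶ Y) :=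
  AddMonoidHom.mk' (fun x => s ≫ x) (fun a b => Preadditive.comp_add _ _ _ s a b)

lemma tb_pre_of_iso {S S' : DerivedCategory A} (e : S ≅ S') {s : S ⟶ S} {s' : S' ⟶ S'}
    (he : e.hom ≫ s' = s ≫ e.hom) {Y : DerivedCategory A} (h : TelBij.TB (pre s Y)) : TelBij.TB (pre s' Y) :=
  TelBij.tb_of_injective_surjective
    { toFun := fun x => e.inv ≫ x
      invFun := fun x => e.hom ≫ x
      left_inv := fun x => Iso.hom_inv_id_assoc _ x
      right_inv := fun x => Iso.inv_hom_id_assoc _ x
      map_add' := fun x y => Preadditive.comp_add _ _ _ _ x y }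
    (fun x => show e.inv ≫ s ≫ x = s' ≫ e.inv ≫ x by
      rw [← assoc, ← assoc, show e.inv ≫ s = s' ≫ e.inv by rw [Iso.eq_comp_inv, assoc, ← he, Iso.inv_hom_id_assoc]])
    h

lemma tb_pre_iff_of_iso {S S' : DerivedCategory A} (e : S ≅ S') {s : S ⟶ S} {s' : S' ⟶ S'}
    (he : e.hom ≫ s' = s ≫ e.hom) (Y : DerivedCategory A) : TelBij.TB (pre s Y) ↔ TelBij.TB (pre s' Y) :=
  ⟨tb_pre_of_iso e he, tb_pre_of_iso e.symm
    (show e.inv ≫ s = s' ≫ e.inv by rw [Iso.eq_comp_inv, assoc, ← he, Iso.inv_hom_id_assoc])⟩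

lemma tbOn_iff_of_iso_right' {Y Y' : DerivedCategory A} (P : A) (u : P ⟶ P) (e : Y ≅ Y')
    (h : TelOrth.TBOn P u Y') : TelOrth.TBOn P u Y := fun n =>
  TelBij.tb_of_injective_surjective
    { toFun := fun x => x ≫ e.inv⟦n⟧'
      invFun := fun x => x ≫ e.hom⟦n⟧'
      left_inv := fun x => by simp [← Functor.map_comp]
      right_inv := fun x => by simp [← Functor.map_comp]
      map_add' := fun x y => Preadditive.add_comp _ _ _ x y _ }
    (fun x => assoc _ _ _) (h n)

lemma tb_mu_iff_pre (P : A) (u : P ⟶ P) (Y : DerivedCategory A) (n : ℤ) :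
    TelBij.TB (TelOrth.mu P u (Y⟦n⟧)) ↔ TelBij.TB (pre ((singleFunctor A n).map u) Y) := by
  let e := (singleFunctors A).shiftIso n 0 n (add_zero n)
  let eS : ((singleFunctor A n).obj P)⟦n⟧ ≅ (singleFunctor A 0).obj P := e.app P
  let φ : ((singleFunctor A n).obj P ⟶ Y) ≃+ ((singleFunctor A 0).obj P ⟶ Y⟦n⟧) :=
    { toFun := fun x => eS.inv ≫ x⟦n⟧'
      invFun := fun y => (shiftFunctor (DerivedCategory A) n).preimage (eS.hom ≫ y)
      left_inv := fun x => (shiftFunctor (DerivedCategory A) n).map_injective (by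
        rw [Functor.map_preimage, Iso.hom_inv_id_assoc])
      right_inv := fun y => by dsimp only; rw [Functor.map_preimage, Iso.inv_hom_id_assoc]
      map_add' := fun x y => by rw [Functor.map_add, Preadditive.comp_add] }
  have hφ : ∀ x, φ (pre ((singleFunctor A n).map u) Y x) = TelOrth.mu P u (Y⟦n⟧) (φ x) := fun x => by
    show eS.inv ≫ ((singleFunctor A n).map u ≫ x)⟦n⟧' =
      (singleFunctor A 0).map u ≫ eS.inv ≫ x⟦n⟧'
    rw [Functor.map_comp, ← assoc, ← assoc]
    exact congrArg (· ≫ x⟦n⟧') (e.inv.naturality u).symm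
  exact ⟨TelBij.tb_of_injective_surjective φ.symm fun y => by
      rw [← φ.apply_eq_iff_eq, hφ, φ.apply_symm_apply, φ.apply_symm_apply],
    TelBij.tb_of_injective_surjective φ hφ⟩

lemma tbOn_of_iso_right (P : A) (u : P ⟶ P) {Y Y' : DerivedCategory A} (e : Y ≅ Y')
    (h : TelOrth.TBOn P u Y) : TelOrth.TBOn P u Y' := fun n =>
  TelBij.tb_of_injective_surjective
    { toFun := fun x => x ≫ e.hom⟦n⟧'
      invFun := fun x => x ≫ e.inv⟦n⟧'
      left_inv := fun x => by simp [← Functor.map_comp]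
      right_inv := fun x => by simp [← Functor.map_comp]
      map_add' := fun x y => Preadditive.add_comp _ _ _ x y _ }
    (fun x => assoc _ _ _) (h n)

end General

variable {A : Type (u + 1)} [Category.{u} A] [Abelian A] [IsGrothendieckAbelian.{u} A]
  {B : Type (u + 1)} [Category.{u} B] [Abelian B] [IsGrothendieckAbelian.{u} B]
  {F : A ⥤ B} {G : B ⥤ A} (adj : F ⊣ G) [F.Additive] [G.Additive]
  (hgood : ∀ M : A, ∃ (P : A) (π : P ⟶ M), LeftAdjExists.Good G P ∧ Epi π)

include adj hgood in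
/-- Telescopes on `RG M` out of a good object are telescopes on `M` out of its image. -/
theorem tbOn_totalRightDerived_iff
    [(G.mapHomotopyCategory (ComplexShape.up ℤ) ⋙ Qh).HasRightDerivedFunctor
      (HomotopyCategory.quasiIso B (ComplexShape.up ℤ))] (P : A) (hP : LeftAdjExists.Good G P) (u : P ⟶ P)
    (M : DerivedCategory B) :
    TelOrth.TBOn (F.obj P) (F.map u) M ↔ TelOrth.TBOn P u (((G.mapHomotopyCategory (ComplexShape.up ℤ) ⋙ Qh).totalRightDerived Qh
      (HomotopyCategory.quasiIso B (ComplexShape.up ℤ))).obj M) := by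
  have := TriCat.qh_isLeftAdjoint_of_exists_resolution (A := B) fun L => by
    obtain ⟨I, f, hI, hf, -, -⟩ := TriCat.exists_kInjective_resolution' L
    exact ⟨I, f, hI, hf⟩
  let adjQ := Adjunction.ofIsLeftAdjoint (Qh (C := B))
  let W := HomotopyCategory.quasiIso B (ComplexShape.up ℤ)
  have := TriCat.isRightDerivedFunctor_of_adjunction adjQ W (G.mapHomotopyCategory (ComplexShape.up ℤ) ⋙ Qh)
  let eR := (Functor.rightDerivedUnique (LeftAdjExists.RG G Qh.rightAdjoint) _
    (Functor.whiskerRight adjQ.unit (G.mapHomotopyCategory (ComplexShape.up ℤ) ⋙ Qh) :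
      G.mapHomotopyCategory (ComplexShape.up ℤ) ⋙ Qh ⟶ Qh ⋙ Qh.rightAdjoint ⋙ G.mapHomotopyCategory (ComplexShape.up ℤ) ⋙ Qh)
    ((G.mapHomotopyCategory (ComplexShape.up ℤ) ⋙ Qh).totalRightDerivedUnit Qh W) W).app M
  refine Iff.trans (forall_congr' fun n => ?_) (⟨tbOn_of_iso_right P u eR, tbOn_iff_of_iso_right' P u eR⟩ :
    TelOrth.TBOn P u _ ↔ TelOrth.TBOn P u _)
  rw [tb_mu_iff_pre, tb_mu_iff_pre]
  let FK := F.mapHomotopyCategory (ComplexShape.up ℤ)
  let a' := (SerreDerived.adjHtpy (ComplexShape.up ℤ) adj).comp adjQ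
  let K := (CochainComplex.singleFunctor A n).obj P
  have hK : ∀ i, LeftAdjExists.Good G (K.X i) := fun i => by
    by_cases hi : i = n
    · subst hi
      intro E hE k
      have := hP E hE k
      let e : K.X i ≅ P := HomologicalComplex.singleObjXSelf (ComplexShape.up ℤ) i P
      refine ⟨fun x y => ?_⟩
      rw [← Abelian.Ext.mk₀_id_comp x, ← Abelian.Ext.mk₀_id_comp y, ← e.hom_inv_id,
        ← Abelian.Ext.mk₀_comp_mk₀_assoc, ← Abelian.Ext.mk₀_comp_mk₀_assoc,
        Subsingleton.elim ((Abelian.Ext.mk₀ e.inv).comp x (zero_add _))]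
    · exact LeftAdjExists.good_of_isZero (HomologicalComplex.isZero_single_obj_X _ _ _ _ hi)
  have : K.IsStrictlyLE n := by
    rw [CochainComplex.isStrictlyLE_iff]
    exact fun i hi => HomologicalComplex.isZero_single_obj_X _ _ _ _ (by omega)
  let ψ₀ : (Qh.obj (FK.obj ((HomotopyCategory.quotient A _).obj K)) ⟶ M) ≃
      (Qh.obj ((HomotopyCategory.quotient A _).obj K) ⟶ (LeftAdjExists.RG G Qh.rightAdjoint).obj M) :=
    (a'.homEquiv _ M).trans (Equiv.ofBijective _ (LeftAdjExists.Qh_map_bijective adj hgood adjQ K n hK M))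
  have : (Qh (C := B)).rightAdjoint.Additive := adjQ.right_adjoint_additive
  let ψ : (Qh.obj (FK.obj ((HomotopyCategory.quotient A _).obj K)) ⟶ M) ≃+
      (Qh.obj ((HomotopyCategory.quotient A _).obj K) ⟶ (LeftAdjExists.RG G Qh.rightAdjoint).obj M) :=
    { ψ₀ with
      map_add' := fun x y => by
        show Qh.map (a'.homEquiv _ M (x + y)) = Qh.map (a'.homEquiv _ M x) + Qh.map (a'.homEquiv _ M y)
        rw [Adjunction.homEquiv_unit, Adjunction.homEquiv_unit, Adjunction.homEquiv_unit, Functor.map_add,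
          Preadditive.comp_add, Functor.map_add] }
  let T := CochainComplex.singleFunctor A n ⋙ HomotopyCategory.quotient A (ComplexShape.up ℤ)
  let α : singleFunctor B n ≅ CochainComplex.singleFunctor B n ⋙ HomotopyCategory.quotient B _ ⋙ Qh :=
    singleFunctorIsoCompQ B n ≪≫ Functor.isoWhiskerLeft _ (quotientCompQhIso B).symm
  let β : F ⋙ singleFunctor B n ≅ T ⋙ FK ⋙ Qh :=
    Functor.isoWhiskerLeft F α ≪≫
      Functor.isoWhiskerRight (HomologicalComplex.singleMapHomologicalComplex F (ComplexShape.up ℤ) n).symm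
        (HomotopyCategory.quotient B _ ⋙ Qh) ≪≫
      Functor.isoWhiskerLeft (CochainComplex.singleFunctor A n)
        (Functor.isoWhiskerRight (F.mapHomotopyCategoryFactors (ComplexShape.up ℤ)).symm Qh)
  let γ : T ⋙ Qh ≅ singleFunctor A n :=
    Functor.isoWhiskerLeft (CochainComplex.singleFunctor A n) (quotientCompQhIso A) ≪≫ (singleFunctorIsoCompQ A n).symm
  refine ((tb_pre_iff_of_iso (S' := Qh.obj (FK.obj (T.obj P))) (s' := Qh.map (FK.map (T.map u)))
    (β.app P) (β.hom.naturality u).symm M).trans ?_).trans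
    (tb_pre_iff_of_iso (S := Qh.obj (T.obj P)) (s := Qh.map (T.map u)) (γ.app P) (γ.hom.naturality u).symm _)
  have hψ : ∀ x, ψ (pre (Qh.map (FK.map (T.map u))) M x) = pre (Qh.map (T.map u)) _ (ψ x) := fun x => by
    show Qh.map (a'.homEquiv _ M ((FK ⋙ Qh).map (T.map u) ≫ x)) = Qh.map (T.map u) ≫ Qh.map (a'.homEquiv _ M x)
    rw [Adjunction.homEquiv_naturality_left, Functor.map_comp]
  exact ⟨TelBij.tb_of_injective_surjective ψ hψ, TelBij.tb_of_injective_surjective ψ.symm fun y => by
    rw [← ψ.apply_eq_iff_eq, hψ, ψ.apply_symm_apply, ψ.apply_symm_apply]⟩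

include adj hgood in
/-- The same for an exact right adjoint. -/
theorem tbOn_mapDerivedCategory_iff [PreservesFiniteLimits G] [PreservesFiniteColimits G]
    (P : A) (hP : LeftAdjExists.Good G P) (u : P ⟶ P) (M : DerivedCategory B) :
    TelOrth.TBOn (F.obj P) (F.map u) M ↔ TelOrth.TBOn P u (G.mapDerivedCategory.obj M) := by
  let W := HomotopyCategory.quasiIso B (ComplexShape.up ℤ)
  let R := G.mapHomotopyCategory (ComplexShape.up ℤ) ⋙ Qh
  letI : Localization.Lifting Qh W R G.mapDerivedCategory := ⟨G.mapDerivedCategoryFactorsh⟩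
  have hW : W.IsInvertedBy R := fun X Y s hs =>
    (NatIso.isIso_map_iff G.mapDerivedCategoryFactorsh s).1 (by
      have := Localization.inverts Qh W s hs
      exact inferInstanceAs (IsIso (G.mapDerivedCategory.map (Qh.map s))))
  have h1 := Functor.isRightDerivedFunctor_of_inverts W G.mapDerivedCategory G.mapDerivedCategoryFactorsh
  have : R.HasRightDerivedFunctor W := Functor.HasRightDerivedFunctor.mk' G.mapDerivedCategory G.mapDerivedCategoryFactorsh.inv
  let e := (Functor.rightDerivedUnique (R.totalRightDerived Qh W) G.mapDerivedCategory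
    (R.totalRightDerivedUnit Qh W) G.mapDerivedCategoryFactorsh.inv W).app M
  exact (tbOn_totalRightDerived_iff adj hgood P hP u M).trans
    ⟨tbOn_of_iso_right P u e, tbOn_iff_of_iso_right' P u e⟩

end Groth.Agent.H9Misc.TelTransfer
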