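import Groth.Prelude.Def_DRing3
import Groth.Agent.H9Misc.TelOrth
import Groth.Agent.H9Misc.TelTransfer
import Groth.Agent.H9Misc.TBMod
import Groth.Agent.KFlatLib.PsiC
import Mathlib.Algebra.Homology.ShortComplex.ModuleCat
import Mathlib.Algebra.Category.ModuleCat.Projective

/-! Derived completeness over a ring through telescopes on cohomology modules. -/

universe u

open CategoryTheory CategoryTheory.Category CategoryTheory.Limits

attribute [local instance] HasDerivedCategory.standard

namespace Groth.Agent.H9Misc.DRingTel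

variable {A : Type u} [CommRing A] (f : A)

/-- `⊕_ℕ A`. -/
noncomputable abbrev free : ModuleCat.{u} A := ModuleCat.of A (ℕ →₀ A)

/-- The inclusions. -/
noncomputable def ι (k : ℕ) : ModuleCat.of A A ⟶ free (A := A) := ModuleCat.ofHom (Finsupp.lsingle k)

/-- `⊕_ℕ A` is a coproduct. -/
noncomputable def isColimit : IsColimit (Cofan.mk (free (A := A)) ι) :=
  Cofan.IsColimit.mk _ (fun t => ModuleCat.ofHom (Finsupp.lsum A fun k => (t.inj k).hom))
    (fun t k => ModuleCat.hom_ext (LinearMap.ext fun a => Finsupp.lsum_single A _ k a))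
    (fun t m hm => ModuleCat.hom_ext (Finsupp.lhom_ext fun k a => by
      refine (congrArg (fun g : ModuleCat.of A A ⟶ t.pt => g.hom a) (hm k)).trans ?_
      exact (Finsupp.lsum_single A (fun j => (t.inj j).hom) k a).symm))

/-- Identity minus `f` times shift. -/
noncomputable def d : (ℕ →₀ A) →ₗ[A] (ℕ →₀ A) :=
  Finsupp.lsum A fun k => Finsupp.lsingle k - f • Finsupp.lsingle (k + 1)

/-- `e_k ↦ 1 / f^k`. -/
noncomputable def p : (ℕ →₀ A) →ₗ[A] Localization.Away f :=
  Finsupp.lsum A fun k => LinearMap.toSpanSingleton A _ (IsLocalization.Away.invSelf f ^ k)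

lemma d_single (k : ℕ) (a : A) : d f (Finsupp.single k a) = Finsupp.single k a - Finsupp.single (k + 1) (f * a) := by
  rw [d, Finsupp.lsum_single, LinearMap.sub_apply, LinearMap.smul_apply, Finsupp.lsingle_apply, Finsupp.lsingle_apply,
    Finsupp.smul_single, smul_eq_mul]

lemma p_single (k : ℕ) (a : A) : p f (Finsupp.single k a) = a • IsLocalization.Away.invSelf f ^ k := by
  rw [p, Finsupp.lsum_single, LinearMap.toSpanSingleton_apply]

lemma p_d (x : ℕ →₀ A) : p f (d f x) = 0 := by
  induction x using Finsupp.induction_linear with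
  | zero => simp
  | add x y hx hy => simp [hx, hy]
  | single k a =>
    rw [d_single, map_sub, p_single, p_single, sub_eq_zero, Algebra.smul_def, Algebra.smul_def, map_mul, pow_succ']
    calc (algebraMap A (Localization.Away f)) a * IsLocalization.Away.invSelf f ^ k
        = (algebraMap A _ a) * IsLocalization.Away.invSelf f ^ k *
            (algebraMap A (Localization.Away f) f * IsLocalization.Away.invSelf f) := by
          rw [IsLocalization.Away.mul_invSelf, mul_one]
      _ = _ := by ring

lemma d_injective : Function.Injective (d f) := by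
  refine (injective_iff_map_eq_zero _).2 fun x hx => ?_
  have h0 : ∀ y : ℕ →₀ A, d f y 0 = y 0 := fun y => by
    induction y using Finsupp.induction_linear with
    | zero => simp
    | add y z hy hz => simp [hy, hz]
    | single k a => simp [d_single]
  have hs : ∀ (y : ℕ →₀ A) j, d f y (j + 1) = y (j + 1) - f * y j := fun y j => by
    induction y using Finsupp.induction_linear with
    | zero => simp
    | add y z hy hz => simp [hy, hz, mul_add]; abel
    | single k a =>
      rw [d_single]
      simp only [Finsupp.sub_apply, Finsupp.single_apply, add_left_inj]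
      split_ifs <;> simp_all
  ext j
  induction j with
  | zero => rw [← h0, hx]
  | succ j ih =>
    have := hs x j
    rw [hx, ih] at this
    simpa using this.symm

lemma mem_range_d (x : ℕ →₀ A) (hx : p f x = 0) : x ∈ LinearMap.range (d f) := by
  let R := LinearMap.range (d f)
  have hstep : ∀ k a, Finsupp.single k a - Finsupp.single (k + 1) (f * a) ∈ R := fun k a =>
    ⟨Finsupp.single k a, d_single f k a⟩
  have hpush : ∀ k j a, Finsupp.single k a - Finsupp.single (k + j) (f ^ j * a) ∈ R := fun k j a => by
    induction j with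
    | zero => simp
    | succ j ih =>
      have := R.add_mem ih (hstep (k + j) (f ^ j * a))
      rw [sub_add_sub_cancel] at this
      rwa [← add_assoc, pow_succ', mul_assoc]
  have hnorm : ∀ y : ℕ →₀ A, ∃ N c, y - Finsupp.single N c ∈ R := fun y => by
    induction y using Finsupp.induction_linear with
    | zero => exact ⟨0, 0, by simp⟩
    | single k a => exact ⟨k, a, by simp⟩
    | add y z hy hz =>
      obtain ⟨N, c, h⟩ := hy
      obtain ⟨N', c', h'⟩ := hz
      refine ⟨N + N', f ^ N' * c + f ^ N * c', ?_⟩
      have h₁ := R.add_mem (R.add_mem h h') (R.add_mem (hpush N N' c) (hpush N' N c'))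
      rw [Finsupp.single_add, add_comm N' N] at *
      convert h₁ using 1
      abel
  obtain ⟨N, c, hNc⟩ := hnorm x
  obtain ⟨y, hy⟩ := hNc
  have hc : p f (Finsupp.single N c) = 0 := by
    have := congrArg (p f) hy
    rw [p_d, map_sub, hx, zero_sub, eq_comm, neg_eq_zero] at this
    exact this
  rw [p_single, Algebra.smul_def] at hc
  have hc' : algebraMap A (Localization.Away f) c = 0 := by
    have := congrArg (· * algebraMap A (Localization.Away f) f ^ N) hc
    simp only [zero_mul, mul_assoc, ← mul_pow] at this
    rwa [mul_comm (IsLocalization.Away.invSelf f), IsLocalization.Away.mul_invSelf, one_pow, mul_one] at this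
  obtain ⟨⟨_, m, rfl⟩, hm⟩ := (IsLocalization.map_eq_zero_iff (Submonoid.powers f) _ c).1 hc'
  have h2 : Finsupp.single N c ∈ R := by
    have := hpush N m c
    rwa [show f ^ m * c = 0 from hm, Finsupp.single_zero, sub_zero] at this
  have h3 := R.add_mem (⟨y, hy⟩ : x - Finsupp.single N c ∈ R) h2
  rwa [sub_add_cancel] at h3

lemma p_surjective : Function.Surjective (p f) := fun z => by
  obtain ⟨n, a, h⟩ := IsLocalization.Away.surj f z
  refine ⟨Finsupp.single n a, ?_⟩
  rw [p_single, Algebra.smul_def, ← h, mul_assoc, ← mul_pow, IsLocalization.Away.mul_invSelf, one_pow, mul_one]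

/-- The presentation of `A_f`. -/
noncomputable def seqS : ShortComplex (ModuleCat.{u} A) :=
  ShortComplex.mk (ModuleCat.ofHom (d f) : free ⟶ free)
    (ModuleCat.ofHom (p f) : free ⟶ ModuleCat.of A (Localization.Away f))
    (ModuleCat.hom_ext (LinearMap.ext (p_d f)))

lemma seqS_shortExact : (seqS f).ShortExact where
  exact := by
    rw [ShortComplex.moduleCat_exact_iff]
    exact fun x hx => mem_range_d f x hx
  mono_f := (ModuleCat.mono_iff_injective _).2 (d_injective f)
  epi_g := (ModuleCat.epi_iff_surjective _).2 (p_surjective f)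

/-- `A → A`, multiplication by `f`. -/
noncomputable def mulA : ModuleCat.of A A ⟶ ModuleCat.of A A := ModuleCat.ofHom (f • LinearMap.id)

lemma subsingleton_iff (K : Dual.D A) :
    (∀ n : ℤ, Subsingleton (Dual.inD A (Localization.Away f) ⟶ K⟦n⟧)) ↔
      TelOrth.TBOn (ModuleCat.of A A) (mulA f) K :=
  TelOrth.forall_subsingleton_iff_tbOn (seqS_shortExact f) (mulA f) ι isColimit ι isColimit (fun k =>
    ModuleCat.hom_ext (LinearMap.ext fun a => by
      show d f (Finsupp.single k a) = Finsupp.single k a - Finsupp.single (k + 1) (f • a)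
      exact d_single f k a)) K

lemma tbOn_iff (K : Dual.D A) :
    TelOrth.TBOn (ModuleCat.of A A) (mulA f) K ↔ ∀ i : ℤ, TBMod.TBm (Dual.HD A K i) f := by
  have : Projective (ModuleCat.of A A) := ModuleCat.projective_of_free (ι := PUnit.{u + 1})
    (Module.Basis.singleton PUnit.{u + 1} A)
  refine forall_congr' fun n => (TelTransfer.tb_mu_iff_pre _ _ K n).trans ?_
  let H := (DerivedCategory.homologyFunctor (ModuleCat.{u} A) n).obj K
  let S := (DerivedCategory.singleFunctor (ModuleCat.{u} A) n).obj (ModuleCat.of A A)
  let b := Equiv.ofBijective _ (KFlatLib.bijective_psiC_of_projective (P := ModuleCat.of A A) n K)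
  let φ : (S ⟶ K) ≃+ H :=
    { toFun := fun x => (b x).hom (1 : A)
      invFun := fun h => b.symm (ModuleCat.ofHom (LinearMap.toSpanSingleton A H h))
      left_inv := fun x => b.symm_apply_eq.2 (ModuleCat.hom_ext (LinearMap.ext_ring (one_smul A _)))
      right_inv := fun h => (congrArg (fun g : ModuleCat.of A A ⟶ H => g.hom (1 : A)) (b.apply_symm_apply _)).trans
        (one_smul A h)
      map_add' := fun x y => by
        show (KFlatLib.psiC n (ModuleCat.of A A) K (x + y)).hom (1 : A) = _
        rw [KFlatLib.psiC, Functor.map_add, Preadditive.comp_add]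
        rfl }
  have hφ : ∀ x, φ (TelTransfer.pre ((DerivedCategory.singleFunctor (ModuleCat.{u} A) n).map (mulA f)) K x) =
      TBMod.mulBy H f (φ x) := fun x => by
    show (KFlatLib.psiC n (ModuleCat.of A A) K _).hom (1 : A) = f • (KFlatLib.psiC n (ModuleCat.of A A) K x).hom (1 : A)
    refine (congrArg (fun g : ModuleCat.of A A ⟶ H => g.hom (1 : A)) (KFlatLib.psiC_single_map (mulA f) x)).trans ?_
    exact (KFlatLib.psiC n (ModuleCat.of A A) K x).hom.map_smul f (1 : A)
  exact ⟨TelBij.tb_of_injective_surjective φ hφ, TelBij.tb_of_injective_surjective φ.symm fun y => by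
    rw [← φ.apply_eq_iff_eq, hφ, φ.apply_symm_apply, φ.apply_symm_apply]⟩

/-- Derived completeness in terms of cohomology modules. -/
theorem isDerivedComplete_iff (I : Ideal A) (K : Dual.D A) :
    DRing.IsDerivedComplete I K ↔ ∀ f ∈ I, ∀ i : ℤ, TBMod.TBm (Dual.HD A K i) f :=
  ⟨fun h f hf => (tbOn_iff f K).1 ((subsingleton_iff f K).1 (h f hf)),
    fun h f hf => (subsingleton_iff f K).2 ((tbOn_iff f K).2 (h f hf))⟩

/-- `H⁰(M[0]) ≅ M`. -/
noncomputable def homologyInD (M : Type u) [AddCommGroup M] [Module A M] : Dual.HD A (Dual.inD A M) 0 ≃ₗ[A] M :=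
  ((KFlatLib.hSingle 0 (ModuleCat.of A M)).toLinearEquiv)

lemma subsingleton_homology_inD (M : Type u) [AddCommGroup M] [Module A M] {i : ℤ} (hi : i ≠ 0) :
    Subsingleton (Dual.HD A (Dual.inD A M) i) :=
  ModuleCat.subsingleton_of_isZero ((HomologicalComplex.isZero_single_obj_homology (ComplexShape.up ℤ) 0
    (ModuleCat.of A M) i hi).of_iso ((DerivedCategory.homologyFunctor (ModuleCat.{u} A) i).mapIso
      (KFlatLib.singleQ 0 (ModuleCat.of A M)) ≪≫ (DerivedCategory.homologyFunctorFactors (ModuleCat.{u} A) i).app _))

/-- Derived completeness of a module. -/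
theorem isDerivedComplete_inD_iff (I : Ideal A) (M : Type u) [AddCommGroup M] [Module A M] :
    DRing.IsDerivedComplete I (Dual.inD A M) ↔ ∀ f ∈ I, TBMod.TBm M f := by
  rw [isDerivedComplete_iff]
  refine forall₂_congr fun f _ => ⟨fun h => (h 0).of_equiv (homologyInD M), fun h i => ?_⟩
  by_cases hi : i = 0
  · subst hi
    exact h.of_equiv (homologyInD M).symm
  · have := subsingleton_homology_inD (A := A) M hi
    exact TBMod.tbm_of_subsingleton f

end Groth.Agent.H9Misc.DRingTel
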