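import Groth.Prelude.Def_DDual2
import Groth.Agent.KFlatLib.Ring.Resolution
import Groth.Agent.KFlatLib.BaseChange
import Groth.Agent.KFlatLib.PsiC
import Mathlib.Algebra.Category.ModuleCat.Monoidal.Symmetric

/-! Derived tensor products with a module computed on K-flat complexes. -/

set_option linter.style.haveILetI false

universe u

open CategoryTheory CategoryTheory.Limits MonoidalCategory

attribute [local instance] HasDerivedCategory.standard

namespace Groth.Agent.H9Misc.DRingLTensor

open Groth.Agent.KFlatLib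

variable {A : Type u} [CommRing A]

/-- `- ⊗ M` on complexes. -/
noncomputable abbrev tensC (M : ModuleCat.{u} A) : DRing.Cx A ⥤ DRing.Cx A :=
  (tensorRight M).mapHomologicalComplex (ComplexShape.up ℤ)

/-- `KFlat` for modules. -/
abbrev IsKF (K : CochainComplex (ModuleCat.{u} A) ℤ) : Prop := KFlat (curriedTensor (ModuleCat.{u} A)) K

lemma quasiIso_tensC (M : ModuleCat.{u} A) {P Q : CochainComplex (ModuleCat.{u} A) ℤ} (α : P ⟶ Q)
    [QuasiIso α] (hP : IsKF P) (hQ : IsKF Q) : QuasiIso ((tensC M).map α) := by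
  let T := curriedTensor (ModuleCat.{u} A)
  let S := (HomologicalComplex.single (ModuleCat.{u} A) (ComplexShape.up ℤ) 0).obj M
  haveI := quasiIso_tensor (ringCover A) flatObj_ringCover curriedTensorFlipIso α hP hQ S
  have h : QuasiIso ((T.map₂CochainComplex.flip.obj S).map α) :=
    (quasiIso_iff_of_arrow_mk_iso _ _
      (((Functor.mapArrowFunctor _ _).mapIso (symmIso curriedTensorFlipIso S)).app (Arrow.mk α))).2
        (by assumption)
  exact (quasiIso_iff_of_arrow_mk_iso _ _ (((Functor.mapArrowFunctor _ _).mapIso (singleIso T M)).app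
      (Arrow.mk α))).1 h

/-- Tensor on homotopy categories, then localisation. -/
noncomputable def tensQIso (M : ModuleCat.{u} A) :
    HomotopyCategory.quotient (ModuleCat.{u} A) (ComplexShape.up ℤ) ⋙ DRing.tensorKh A M ≅
      tensC M ⋙ DerivedCategory.Q :=
  (Functor.associator _ _ _).symm ≪≫
    Functor.isoWhiskerRight ((tensorRight M).mapHomotopyCategoryFactors (ComplexShape.up ℤ)) _ ≪≫
    Functor.associator _ _ _ ≪≫
    Functor.isoWhiskerLeft _ (DerivedCategory.quotientCompQhIso (ModuleCat.{u} A))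

/-- Flat resolutions compute the derived tensor product. -/
noncomputable def resTensor (M : ModuleCat.{u} A) :
    Resolution (HomologicalComplex.quasiIso (ModuleCat.{u} A) (ComplexShape.up ℤ))
      (HomotopyCategory.quotient (ModuleCat.{u} A) (ComplexShape.up ℤ) ⋙ DRing.tensorKh A M) where
  Good := IsKF
  P := (ringCover A).P
  ψ := (ringCover A).ψ
  good := kFlat_ringRes
  weq K := (ringCover A).quasiIso_ψ K
  inverts _ _ α hP hQ hα := by
    haveI : QuasiIso α := hα
    have := quasiIso_tensC M α hP hQ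
    exact (NatIso.isIso_map_iff (tensQIso M) α).2
      ((DerivedCategory.isIso_Q_map_iff_quasiIso _ _).2 this)

/-- `K ⊗^L M = K ⊗ M` for K-flat `K`. -/
lemma nonempty_ltensor_iso (M : ModuleCat.{u} A) [DRing.HasLTensor A M]
    {K : CochainComplex (ModuleCat.{u} A) ℤ} (hK : IsKF K) :
    Nonempty ((DRing.LTensor A M).obj (DerivedCategory.Q.obj K) ≅
      DerivedCategory.Q.obj ((tensC M).obj K)) := by
  haveI : IsIso ((Functor.whiskerLeft (HomotopyCategory.quotient (ModuleCat.{u} A) (ComplexShape.up ℤ))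
      ((DRing.tensorKh A M).totalLeftDerivedCounit DerivedCategory.Qh
        (HomotopyCategory.quasiIso (ModuleCat.{u} A) (ComplexShape.up ℤ)))).app K) :=
    (resTensor M).isIso_totalLeftDerivedCounit' DerivedCategory.Q DerivedCategory.Qh
      (HomotopyCategory.quotient (ModuleCat.{u} A) (ComplexShape.up ℤ))
      (HomologicalComplex.homotopyEquivalences (ModuleCat.{u} A) (ComplexShape.up ℤ))
      (DerivedCategory.quotientCompQhIso (ModuleCat.{u} A)) _ hK
  exact ⟨(DRing.LTensor A M).mapIso ((DerivedCategory.quotientCompQhIso (ModuleCat.{u} A)).app K).symm ≪≫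
    asIso ((Functor.whiskerLeft (HomotopyCategory.quotient (ModuleCat.{u} A) (ComplexShape.up ℤ))
      ((DRing.tensorKh A M).totalLeftDerivedCounit DerivedCategory.Qh
        (HomotopyCategory.quasiIso (ModuleCat.{u} A) (ComplexShape.up ℤ)))).app K) ≪≫
    (tensQIso M).app K⟩

/-- Every object is represented by a termwise flat K-flat complex. -/
lemma exists_rep (K : Dual.D A) : ∃ P : CochainComplex (ModuleCat.{u} A) ℤ,
    IsKF P ∧ (∀ n, Module.Flat A (P.X n)) ∧ Nonempty (DerivedCategory.Q.obj P ≅ K) := by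
  let K₀ := DerivedCategory.Q.objPreimage K
  haveI := (ringCover A).quasiIso_ψ K₀
  haveI : IsIso (DerivedCategory.Q.map ((ringCover A).ψ.app K₀)) :=
    (DerivedCategory.isIso_Q_map_iff_quasiIso _ _).2 inferInstance
  exact ⟨(ringCover A).P.obj K₀, kFlat_ringRes K₀, fun n => (ringCover A).flat_P K₀ n,
    ⟨asIso (DerivedCategory.Q.map ((ringCover A).ψ.app K₀)) ≪≫ DerivedCategory.Q.objObjPreimageIso K⟩⟩

lemma acyclic_tensC_of_acyclic (N : ModuleCat.{u} A) {P : CochainComplex (ModuleCat.{u} A) ℤ}
    (hP : IsKF P) (ha : P.Acyclic) : ((tensC N).obj P).Acyclic := by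
  haveI : QuasiIso (0 : P ⟶ P) :=
    { quasiIsoAt := fun i => (quasiIsoAt_iff_exactAt (0 : P ⟶ P) i (ha i)).2 (ha i) }
  have h := quasiIso_tensC N (0 : P ⟶ P) hP hP
  intro i
  rw [HomologicalComplex.exactAt_iff_isZero_homology, IsZero.iff_id_eq_zero]
  have hi : IsIso (HomologicalComplex.homologyMap ((tensC N).map (0 : P ⟶ P)) i) :=
    (quasiIsoAt_iff_isIso_homologyMap _ i).1 (h.quasiIsoAt i)
  have h0 : HomologicalComplex.homologyMap ((tensC N).map (0 : P ⟶ P)) i = 0 := by
    rw [(tensC N).map_zero, HomologicalComplex.homologyMap_zero]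
  exact (IsIso.hom_inv_id _).symm.trans ((congrArg (· ≫ inv (HomologicalComplex.homologyMap
    ((tensC N).map (0 : P ⟶ P)) i)) h0).trans zero_comp)

/-- Extension of scalars on complexes. -/
noncomputable abbrev extC' {B : Type u} [CommRing B] (φ : A →+* B) :
    CochainComplex (ModuleCat.{u} A) ℤ ⥤ CochainComplex (ModuleCat.{u} B) ℤ :=
  (ModuleCat.extendScalars.{u, u, u} φ).mapHomologicalComplex (ComplexShape.up ℤ)

lemma acyclic_of_iso_map {C D : Type*} [Category C] [Category D] [Abelian C] [Abelian D]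
    {F G : C ⥤ D} [F.Additive] [G.Additive] (e : F ≅ G) (K : CochainComplex C ℤ)
    (h : ((F.mapHomologicalComplex (ComplexShape.up ℤ)).obj K).Acyclic) :
    ((G.mapHomologicalComplex (ComplexShape.up ℤ)).obj K).Acyclic :=
  fun i => (h i).of_iso ((NatIso.mapHomologicalComplex e (ComplexShape.up ℤ)).app K)

variable {B : Type u} [CommRing B] (φ : A →+* B)

/-- If `P ⊗ B` is acyclic then `P ⊗ N` is acyclic for every `B`-module `N`. -/
lemma acyclic_tensC_restrict {P : CochainComplex (ModuleCat.{u} A) ℤ} (hP : IsKF P)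
    (h : ((tensC ((ModuleCat.restrictScalars φ).obj (ModuleCat.of B B))).obj P).Acyclic)
    (N : ModuleCat.{u} B) : ((tensC ((ModuleCat.restrictScalars φ).obj N)).obj P).Acyclic := by
  have hP' : IsKF ((extC' φ).obj P) := KFlatLib.kFlat_extendScalars φ hP
  have ha : ((extC' φ).obj P).Acyclic := by
    have h' : (((ModuleCat.extendScalars φ ⋙ ModuleCat.restrictScalars φ).mapHomologicalComplex
        (ComplexShape.up ℤ)).obj P).Acyclic :=
      acyclic_of_iso_map ((curriedTensorFlipIso.app
        ((ModuleCat.restrictScalars φ).obj (ModuleCat.of B B))) ≪≫ (extendRestrictIso φ).symm) P h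
    intro i
    exact (ShortComplex.exact_map_iff_of_faithful _ (ModuleCat.restrictScalars φ)).1 (h' i)
  have h₂ := acyclic_tensC_of_acyclic N hP' ha
  have h₃ : (((ModuleCat.extendScalars φ ⋙ tensorRight N ⋙
      ModuleCat.restrictScalars φ).mapHomologicalComplex (ComplexShape.up ℤ)).obj P).Acyclic :=
    fun i => (h₂ i).map (ModuleCat.restrictScalars φ)
  refine acyclic_of_iso_map ?_ P h₃
  exact Functor.isoWhiskerLeft (ModuleCat.extendScalars φ)
      (Functor.isoWhiskerRight (BraidedCategory.tensorLeftIsoTensorRight N).symm _) ≪≫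
    ((KFlatLib.extTIso φ).app N) ≪≫
    BraidedCategory.tensorLeftIsoTensorRight _

end Groth.Agent.H9Misc.DRingLTensor
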