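import Groth.Agent.H9Misc.DRingPerfect
import Groth.Agent.NodeTor.Basic

/-! Perfect modules and finite projective resolutions. -/

set_option linter.style.haveILetI false

universe u

open CategoryTheory CategoryTheory.Category CategoryTheory.Limits

attribute [local instance] HasDerivedCategory.standard

namespace Groth.Agent.H9Misc.DRingPerfect

open DRingTor

variable {A : Type u} [CommRing A]

theorem isPerfect_inD_iff (M : ModuleCat.{u} A) :
    DRing.IsPerfect A (Dual.inD A M) ↔ ∃ (P : ProjectiveResolution M) (d : ℕ),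
      (∀ i : ℕ, d < i → IsZero (P.complex.X i)) ∧ ∀ i : ℕ, Module.Finite A (P.complex.X i) := by
  constructor
  · intro hM
    obtain ⟨hpc, a, b, hamp⟩ := (isPerfect_iff _).1 hM
    let d := (-a).toNat
    have hamp' : DRing.HasTorAmplitudeIn A (-(d : ℤ)) 0 (Dual.inD A M) :=
      shrink (b := b) (mono (by omega) le_rfl hamp) fun i hi => isZero_homology_inD M i hi
    obtain ⟨P, hz, hP, ⟨e⟩⟩ := exists_finProj_rep hpc hamp'
    let e' : toD'.obj P ≅ toD'.obj ((sg 0).obj M) :=
      e ≪≫ (DerivedCategory.singleFunctorIsoCompQ (ModuleCat.{u} A) 0).app M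
    have hex : ∀ i : ℤ, i ≠ 0 → P.ExactAt i := fun i hi => by
      rw [HomologicalComplex.exactAt_iff_isZero_homology]
      obtain ⟨eH⟩ := hd_iso e' i
      obtain ⟨eH'⟩ := hd_iso (Iso.refl (toD'.obj ((sg 0).obj M))) i
      exact ((ShortComplex.isZero_homology_of_isZero_X₂ _
        (HomologicalComplex.isZero_single_obj_X (ComplexShape.up ℤ) 0 M i hi)).of_iso (eH.symm ≪≫ eH'))
    haveI : IsIso (P.homologyι 0) :=
      HomologicalComplex.isIso_homologyι P 0 1 (by simp) ((hz 1 (Or.inr one_pos)).eq_of_tgt _ _)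
    obtain ⟨eH⟩ := hd_iso e' 0
    obtain ⟨eH'⟩ := hd_iso (Iso.refl (toD'.obj ((sg 0).obj M))) 0
    let eM : P.opcycles 0 ≅ M := (asIso (P.homologyι 0)).symm ≪≫ eH.symm ≪≫ eH' ≪≫
      HomologicalComplex.singleObjHomologySelfIso (ComplexShape.up ℤ) 0 M
    let ε : P.X (-((0 : ℕ) : ℤ)) ⟶ M :=
      (P.XIsoOfEq (show -((0 : ℕ) : ℤ) = 0 by simp)).hom ≫ P.pOpcycles 0 ≫ eM.hom
    let δ : ∀ n : ℕ, P.X (-((n + 1 : ℕ) : ℤ)) ⟶ P.X (-(n : ℤ)) := fun n => P.d _ _
    have hε : δ 0 ≫ ε = 0 := by simp [δ, ε]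
    let X : ℕ → ModuleCat.{u} A := fun n => P.X (-(n : ℤ))
    have hproj : ∀ n, Projective (X n) := fun n =>
      haveI := (hP (-(n : ℤ))).2
      inferInstanceAs (Projective (P.X (-(n : ℤ))))
    have h0 : (ShortComplex.mk (δ 0) ε hε).Exact := by
      let S₁ := ShortComplex.mk (P.d (-1) 0) (P.pOpcycles 0) (by simp)
      have h₁ : S₁.Exact := S₁.exact_of_g_is_cokernel (P.opcyclesIsCokernel (-1) 0 (by simp))
      refine (ShortComplex.exact_iff_of_iso ?_).2 h₁
      exact ShortComplex.isoMk (P.XIsoOfEq (by simp)) (P.XIsoOfEq (by simp)) eM.symm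
        (by simp [δ, S₁]) (by simp [ε, S₁, δ])
    have hεs : Function.Surjective ε.hom := by
      refine (ModuleCat.epi_iff_surjective ε).1 ?_
      infer_instance
    refine ⟨Groth.Agent.NodeTor.resolution M X hproj δ (fun n => P.d_comp_d _ _ _) ε hε hεs
      ((ShortComplex.ShortExact.moduleCat_exact_iff_function_exact _).1 h0) (fun n => ?_), d,
      fun i hi => hz (-(i : ℤ)) (Or.inl (by omega)), fun i => (hP (-(i : ℤ))).1⟩
    have h := hex (-((n + 1 : ℕ) : ℤ)) (by omega)
    rw [P.exactAt_iff' (-((n + 1 + 1 : ℕ) : ℤ)) (-((n + 1 : ℕ) : ℤ)) (-(n : ℤ)) (by simp; omega) (by simp),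
      ShortComplex.ShortExact.moduleCat_exact_iff_function_exact] at h
    exact h
  · rintro ⟨R, d, hz, hf⟩
    refine ⟨R.cochainComplex, -(d : ℤ), 0, fun i hi => ?_, fun i => ?_,
      ⟨asIso (DerivedCategory.Q.map R.π') ≪≫
        ((DerivedCategory.singleFunctorIsoCompQ (ModuleCat.{u} A) 0).app M).symm⟩⟩
    · rcases lt_or_ge 0 i with hi' | hi'
      · exact CochainComplex.isZero_of_isStrictlyLE _ 0 i hi'
      · obtain ⟨k, rfl⟩ := Int.exists_eq_neg_ofNat hi'
        exact (hz k (by omega)).of_iso (R.cochainComplexXIso _ k)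
    · refine ⟨?_, (IsProjective.iff_projective _).2 (inferInstanceAs (Projective (R.cochainComplex.X i)))⟩
      rcases lt_or_ge 0 i with hi' | hi'
      · haveI := ModuleCat.subsingleton_of_isZero (CochainComplex.isZero_of_isStrictlyLE R.cochainComplex 0 i hi')
        infer_instance
      · obtain ⟨k, rfl⟩ := Int.exists_eq_neg_ofNat hi'
        haveI := hf k
        exact Module.Finite.equiv (R.cochainComplexXIso _ k).symm.toLinearEquiv

end Groth.Agent.H9Misc.DRingPerfect
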