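import Groth.Agent.H9Misc.StalkHomExtMain
import Groth.Agent.KFlatLib.Scheme.Tilde
import Groth.Agent.KFlatLib.Scheme.CohD
import Groth.Agent.CAlgGlobalDim.Basic
import Groth.Agent.AssLib.OpenRestrict
import Mathlib.RingTheory.TensorProduct.Quotient

/-! Stalks of injective modules on locally noetherian schemes are injective. -/

set_option linter.style.haveILetI false
set_option backward.isDefEq.respectTransparency false
set_option backward.isDefEq.respectTransparency.types false

universe u

open CategoryTheory CategoryTheory.Limits AlgebraicGeometry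
open scoped TensorProduct

noncomputable section

namespace Groth.Agent.H9Misc.StalkInjective

open Groth.Agent KFlatLib

theorem toStalkHom_eq {R : CommRingCat.{u}} (p : Spec R) (r : R) :
    toStalkHom p r = (StructureSheaf.toStalk R p).hom r := rfl

theorem nonempty_stalk_quot {R : CommRingCat.{u}} (p : Spec R) (J : Ideal ((Spec R).presheaf.stalk p)) :
    Nonempty ((DerSch.stalkFunctor (Spec R) p).obj (tilde (ModuleCat.of R (R ⧸ J.comap (toStalkHom p)))) ≅
      ModuleCat.of ((Spec R).presheaf.stalk p) ((Spec R).presheaf.stalk p ⧸ J)) := by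
  letI alg : Algebra R ((Spec R).presheaf.stalk p) := (toStalkHom p).toAlgebra
  haveI : IsLocalization.AtPrime ((Spec R).presheaf.stalk p) p.asIdeal := by
    exact StructureSheaf.IsLocalization.to_stalk R p
  have hJ : (J.comap (toStalkHom p)).map (algebraMap R ((Spec R).presheaf.stalk p)) = J :=
    IsLocalization.map_under p.asIdeal.primeCompl _ J
  exact ⟨(stalkTildeIso p).app _ ≪≫
    ((Algebra.TensorProduct.quotIdealMapEquivTensorQuot ((Spec R).presheaf.stalk p)
      (J.comap (toStalkHom p))).toLinearEquiv.symm.trans (Submodule.quotEquivOfEq _ _ hJ)).toModuleIso⟩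

theorem injective_stalk_spec {R : CommRingCat.{u}} [IsNoetherianRing R] (I : (Spec R).Modules) [hI : Injective I]
    (p : Spec R) : Module.Injective ((Spec R).presheaf.stalk p) (I.presheaf.stalk p) := by
  haveI : IsLocallyNoetherian (Spec R) := isLocallyNoetherian_Spec.2 ‹_›
  haveI : HasInjectiveResolutions (Spec R).Modules := KFlatLib.hasInjectiveResolutions_modules
  refine (CAlgGlobalDim.baer_of_ext_one ((DerSch.stalkFunctor (Spec R) p).obj I) fun J => ?_).injective
  let M : (Spec R).Modules := tilde (ModuleCat.of R (R ⧸ J.comap (toStalkHom p)))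
  have hM : Coh.IsCoh M := (isCoh_tilde_iff _).2 inferInstance
  let res : InjectiveResolution I := InjectiveResolution.of I
  obtain ⟨e⟩ := StalkHomExt.nonempty_ext res p M hM 1
  obtain ⟨a⟩ := nonempty_stalk_quot p J
  have hz : IsZero ((ExtShShift.cx res M).homology 1) :=
    ((SheafHomX.hom M).isZero_rightDerived_obj_injective_succ 0 I).of_iso
      (res.isoRightDerivedObj (SheafHomX.hom M) 1).symm
  haveI hs : Subsingleton (Abelian.Ext.{u} ((DerSch.stalkFunctor (Spec R) p).obj M)
      ((DerSch.stalkFunctor (Spec R) p).obj I) 1) := ModuleCat.subsingleton_of_isZero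
    (((DerSch.stalkFunctor (Spec R) p).map_isZero hz).of_iso e.symm)
  exact @Equiv.subsingleton _ (Abelian.Ext.{u} ((DerSch.stalkFunctor (Spec R) p).obj M)
    ((DerSch.stalkFunctor (Spec R) p).obj I) 1)
    (((Abelian.extFunctor 1).mapIso a.op).app _).addCommGroupIsoToAddEquiv.toEquiv hs

theorem injective_restrict {U X : Scheme.{u}} (j : U ⟶ X) [IsOpenImmersion j] (I : X.Modules) [Injective I] :
    Injective (I.restrict j) :=
  Injective.injective_of_adjoint (KFlatLib.lshAdj j) I

theorem injective_stalk_transfer {U X : Scheme.{u}} (j : U ⟶ X) [IsOpenImmersion j] (F : X.Modules) (p : U)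
    (h : Module.Injective (X.presheaf.stalk (j.base p)) (F.presheaf.stalk (j.base p))) :
    Module.Injective (U.presheaf.stalk p) ((F.restrict j).presheaf.stalk p) := by
  obtain ⟨e, he⟩ := AssLib.exists_semilinear_restrict j F p
  let σ : X.presheaf.stalk (j.base p) ≃+* U.presheaf.stalk p :=
    (asIso (j.stalkMap p)).commRingCatIsoToRingEquiv
  refine Module.Baer.injective fun J g => ?_
  let g' : (J.comap σ.toRingHom) →ₗ[X.presheaf.stalk (j.base p)] F.presheaf.stalk (j.base p) :=
    { toFun := fun y => e (g ⟨σ y.1, y.2⟩)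
      map_add' := fun a b => by
        rw [← map_add, ← map_add]
        congr 2
        exact Subtype.ext (map_add σ a.1 b.1)
      map_smul' := fun r a => by
        rw [RingHom.id_apply, ← he r]
        show e _ = e (σ r • g ⟨σ a.1, a.2⟩)
        rw [← map_smul]
        congr 2
        exact Subtype.ext (map_mul σ r a.1) }
  obtain ⟨G, hG⟩ := (Module.Baer.of_injective h) _ g'
  refine ⟨{ toFun := fun a => e.symm (G (σ.symm a)), map_add' := fun a b => by simp, map_smul' := fun r a => ?_ },
    fun a ha => ?_⟩
  · apply e.injective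
    rw [smul_eq_mul, map_mul, ← smul_eq_mul, map_smul, RingHom.id_apply, AddEquiv.apply_symm_apply]
    conv_rhs => rw [← σ.apply_symm_apply r]
    refine Eq.trans ?_ (he _ _).symm
    rw [AddEquiv.apply_symm_apply]
  · show e.symm (G (σ.symm a)) = g ⟨a, ha⟩
    have ha' : σ.symm a ∈ J.comap σ.toRingHom := by
      show σ (σ.symm a) ∈ J
      rwa [RingEquiv.apply_symm_apply]
    rw [hG (σ.symm a) ha']
    show e.symm (e _) = _
    rw [AddEquiv.symm_apply_apply]
    congr 1
    exact Subtype.ext (σ.apply_symm_apply a)

theorem injective_stalk {X : Scheme.{u}} [IsLocallyNoetherian X] (I : X.Modules) [Injective I] (x : X) :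
    Module.Injective (X.presheaf.stalk x) (I.presheaf.stalk x) := by
  obtain ⟨R, _, j, _, ⟨p, rfl⟩⟩ := KFlatLib.exists_chart x
  haveI := injective_restrict j I
  have h := injective_stalk_spec (I.restrict j) p
  obtain ⟨e, he⟩ := AssLib.exists_semilinear_restrict j I p
  let σ : X.presheaf.stalk (j.base p) ≃+* (Spec R).presheaf.stalk p :=
    (asIso (j.stalkMap p)).commRingCatIsoToRingEquiv
  refine Module.Baer.injective fun J g => ?_
  let J' := J.comap σ.symm.toRingHom
  let g' : J' →ₗ[(Spec R).presheaf.stalk p] (I.restrict j).presheaf.stalk p :=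
    { toFun := fun y => e.symm (g ⟨σ.symm y.1, y.2⟩)
      map_add' := fun a b => by
        rw [← map_add, ← map_add]
        congr 2
        exact Subtype.ext (map_add σ.symm a.1 b.1)
      map_smul' := fun r a => by
        apply e.injective
        rw [AddEquiv.apply_symm_apply, RingHom.id_apply]
        conv_rhs => rw [← σ.apply_symm_apply r]
        refine Eq.trans ?_ (he _ _).symm
        rw [AddEquiv.apply_symm_apply, ← map_smul]
        congr 1
        exact Subtype.ext (map_mul σ.symm r a.1) }
  obtain ⟨G, hG⟩ := (Module.Baer.of_injective h) J' g'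
  refine ⟨{ toFun := fun a => e (G (σ a)), map_add' := fun a b => by simp, map_smul' := fun r a => ?_ }, fun a ha => ?_⟩
  · rw [smul_eq_mul, map_mul, ← smul_eq_mul, map_smul, RingHom.id_apply]
    exact he r _
  · show e (G (σ a)) = g ⟨a, ha⟩
    have ha' : σ a ∈ J' := by simpa [J', Ideal.mem_comap] using ha
    rw [hG (σ a) ha']
    show e (e.symm _) = _
    rw [AddEquiv.apply_symm_apply]
    congr 1
    exact Subtype.ext (σ.symm_apply_apply a)

end Groth.Agent.H9Misc.StalkInjective
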