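import Groth.Agent.H9Misc.TildeSky
import Groth.Agent.H9Misc.StalkInjective
import Groth.Agent.InjLocal.Noeth
import Groth.Agent.LC.Matlis

/-! Tilde of an injective module over a noetherian ring is injective. -/

set_option linter.style.haveILetI false
set_option linter.unusedSectionVars false
set_option backward.isDefEq.respectTransparency false
set_option backward.isDefEq.respectTransparency.types false

universe u

open CategoryTheory CategoryTheory.Limits AlgebraicGeometry
open scoped DirectSum

noncomputable section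

namespace Groth.Agent.H9Misc.TildeInjective

open Groth.Agent InjHull LC

variable {R : Type u} [CommRing R] {E : Type u} [AddCommGroup E] [Module R E] {p : Ideal R} [p.IsPrime]
  {g : p.ResidueField →ₗ[R] E}

theorem smul_eq_zero_of_mem {f : R} (hf : f ∈ p) (c : p.ResidueField) : f • c = 0 := by
  rw [Algebra.smul_def, Ideal.algebraMap_residueField_eq_zero.2 hf, zero_mul]

theorem exists_pow_smul_eq_zero [IsNoetherianRing R] (hg : IsInjectiveHull g) (f : R) (hf : f ∈ p) (x : E) :
    ∃ n : ℕ, f ^ n • x = 0 := by
  let J : ℕ →o Submodule R R :=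
    { toFun := fun n => LinearMap.ker (LinearMap.toSpanSingleton R E (f ^ n • x))
      monotone' := monotone_nat_of_le_succ fun n r hr => by
        rw [LinearMap.mem_ker, LinearMap.toSpanSingleton_apply] at hr ⊢
        rw [pow_succ', mul_smul, smul_comm, hr, smul_zero] }
  obtain ⟨n, hn⟩ := monotone_stabilizes_iff_noetherian.2 inferInstance J
  refine ⟨n, by_contra fun h => ?_⟩
  obtain ⟨r, ⟨c, hc⟩, hr0⟩ := (isEssentialInj_iff.1 hg.toIsEssentialInj).2 _ h
  have h1 : r ∈ J (n + 1) := by
    show r • (f ^ (n + 1) • x) = 0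
    rw [pow_succ', mul_smul, smul_comm, ← hc, ← map_smul, smul_eq_zero_of_mem hf, map_zero]
  rw [← hn (n + 1) (Nat.le_succ n)] at h1
  exact hr0 h1

theorem bijective_smul (hg : IsInjectiveHull g) (s : R) (hs : s ∉ p) : Function.Bijective fun x : E => s • x := by
  have hs0 : algebraMap R p.ResidueField s ≠ 0 := fun h => hs (Ideal.algebraMap_residueField_eq_zero.1 h)
  have hinj : Function.Injective (s • LinearMap.id : E →ₗ[R] E) := by
    rw [injective_iff_map_eq_zero]
    intro x hx
    by_contra h
    obtain ⟨r, ⟨c, hc⟩, hr0⟩ := (isEssentialInj_iff.1 hg.toIsEssentialInj).2 x h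
    have h1 : g (s • c) = g 0 := by
      rw [map_smul, hc, map_zero, smul_comm, show s • x = 0 from hx, smul_zero]
    have h2 := hg.injective h1
    rw [Algebra.smul_def] at h2
    rw [(mul_eq_zero.1 h2).resolve_left hs0, map_zero] at hc
    exact hr0 hc.symm
  refine ⟨hinj, fun y => ?_⟩
  have := hg.isInjective
  obtain ⟨q, hq⟩ := exists_extension _ hinj (LinearMap.id : E →ₗ[R] E)
  refine ⟨q y, by_contra fun h => ?_⟩
  obtain ⟨r, ⟨c, hc⟩, hr0⟩ := (isEssentialInj_iff.1 hg.toIsEssentialInj).2 (s • q y - y) (sub_ne_zero.2 h)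
  have hqs : ∀ z, q (s • z) = z := fun z => LinearMap.congr_fun hq z
  have h1 : q (r • (s • q y - y)) = 0 := by rw [map_smul, map_sub, hqs, sub_self, smul_zero]
  have h2 : c = s • ((algebraMap R p.ResidueField s)⁻¹ * c) := by
    rw [Algebra.smul_def, ← mul_assoc, mul_inv_cancel₀ hs0, one_mul]
  rw [← hc, h2, map_smul, hqs] at h1
  rw [← hc, h2, map_smul, h1, smul_zero] at hr0
  exact hr0 rfl

variable {A : CommRingCat.{u}} [IsNoetherianRing A]

theorem injective_tilde_indecomposable (N : ModuleCat.{u} A) (hN : IsIndecomposable A N)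
    (hI : Module.Injective A N) : Injective (tilde N) := by
  obtain ⟨p, hp, g, hg⟩ := exists_residueField_hull hN hI
  exact TildeSky.injective_tilde (p := (⟨p, hp⟩ : PrimeSpectrum A)) (fun f hf x => exists_pow_smul_eq_zero hg f hf x)
    (fun s hs => bijective_smul hg s hs) hI

/-- Tilde of an injective module over a noetherian ring is injective. -/
theorem injective_tilde (N : ModuleCat.{u} A) (hN : Module.Injective A N) : Injective (tilde N) := by
  classical
  haveI : IsLocallyNoetherian (Spec A) := isLocallyNoetherian_Spec.2 ‹_›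
  obtain ⟨S, hS, hind, htop⟩ := exists_decomposition N hN
  let Z : S → ModuleCat.{u} A := fun E => ModuleCat.of A (E : Submodule A N)
  have hi : ∀ E : S, Injective ((tilde.functor A).obj (Z E)) := fun E =>
    injective_tilde_indecomposable (Z E) (hS E E.2).1 (hS E E.2).2
  haveI := InjLocal.injective_coproduct (fun E : S => (tilde.functor A).obj (Z E)) hi
  have hint : DirectSum.IsInternal (fun E : S => (E : Submodule A N)) :=
    DirectSum.isInternal_submodule_of_iSupIndep_of_iSup_eq_top ((sSupIndep_iff S).1 hind)
      (by rw [← sSup_eq_iSup']; exact htop)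
  let e : (∐ Z) ≅ N := ModuleCat.coprodIsoDirectSum Z ≪≫
    (LinearEquiv.ofBijective (DirectSum.coeLinearMap _) hint).toModuleIso
  haveI : (tilde.functor A).IsLeftAdjoint := (tilde.adjunction (R := A)).isLeftAdjoint
  exact Injective.of_iso ((PreservesCoproduct.iso (tilde.functor A) Z).symm ≪≫ (tilde.functor A).mapIso e)
    inferInstance

end Groth.Agent.H9Misc.TildeInjective
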