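import Groth.Agent.H9Misc.AbHull
import Groth.Agent.H9Misc.TildeInjective
import Groth.Agent.KFlatLib.Scheme.Exact
import Groth.Agent.KFlatLib.Scheme.ExtZero
import Groth.Agent.QCoh.Local

/-! The injective hull of a quasi-coherent module on a locally noetherian scheme. -/

set_option linter.style.haveILetI false
set_option linter.unusedSectionVars false
set_option backward.isDefEq.respectTransparency false
set_option backward.isDefEq.respectTransparency.types false

universe u

open CategoryTheory CategoryTheory.Limits AlgebraicGeometry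

noncomputable section

namespace Groth.Agent.H9Misc.QCohHull

open Groth.Agent KFlatLib AbHull

variable {X : Scheme.{u}}

theorem injective_stalk_of_mono {M N : X.Modules} (g : M ⟶ N) [Mono g] (x : X) :
    Function.Injective ((DerSch.stalkFunctor X x).map g) :=
  (ModuleCat.mono_iff_injective _).1 inferInstance

theorem isZero_stalk_of_restrict {U : Scheme.{u}} (j : U ⟶ X) [IsOpenImmersion j] (P : X.Modules)
    (hP : IsZero (P.restrict j)) (u : U) :
    IsZero ((DerSch.stalkFunctor X (j.base u)).obj P) := by
  haveI := ModuleCat.subsingleton_of_isZero ((DerSch.stalkFunctor U u).map_isZero hP)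
  have h : Function.Injective ((DerSch.stalkFunctor X (j.base u)).map (0 : P ⟶ P)) :=
    injective_stalk_of_restrict j _ u fun a b _ => Subsingleton.elim (α := (DerSch.stalkFunctor U u).obj (P.restrict j)) a b
  rw [Functor.map_zero] at h
  exact ModuleCat.isZero_of_iff_subsingleton.2 ⟨fun a b => h rfl⟩

/-- Essential monomorphisms restrict to open subschemes. -/
theorem isEss_restrict {U : Scheme.{u}} (j : U ⟶ X) [IsOpenImmersion j] {J H : X.Modules} (i : J ⟶ H)
    [Mono i] (hi : IsEss i) : IsEss ((Scheme.Modules.restrictFunctor j).map i) := by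
  intro Z g hg
  let R := Scheme.Modules.restrictFunctor j
  let m' : (lsh j).obj (kernel g) ⟶ H := ((lshAdj j).homEquiv _ _).symm (kernel.ι g)
  have hm : (lshAdj j).unit.app (kernel g) ≫ R.map m' = kernel.ι g := by
    exact (Adjunction.homEquiv_unit (adj := lshAdj j) _ _ m').symm.trans (Equiv.apply_symm_apply _ _)
  have hmg : R.map m' ≫ g = 0 := by
    rw [← cancel_epi ((lshAdj j).unit.app (kernel g)), reassoc_of% hm, kernel.condition, comp_zero]
  let g'' := cokernel.π m'
  have hmono : Mono (i ≫ g'') := by
    refine Preadditive.mono_of_kernel_zero ?_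
    refine IsZero.eq_of_src (isZero_of_stalk _ fun x => ?_) _ _
    by_cases hx : x ∈ Set.range j.base
    · obtain ⟨u, rfl⟩ := hx
      refine isZero_stalk_of_restrict j _ ?_ u
      let z := kernel.ι (i ≫ g'')
      have h1 : R.map z ≫ R.map i ≫ R.map g'' = 0 := by
        rw [← Functor.map_comp, ← Functor.map_comp, kernel.condition, Functor.map_zero]
      have hcok : IsColimit (CokernelCofork.ofπ (R.map g'')
          (by rw [← Functor.map_comp, cokernel.condition, Functor.map_zero] : R.map m' ≫ R.map g'' = 0)) :=
        CokernelCofork.mapIsColimit _ (cokernelIsCokernel m') R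
      obtain ⟨d, hd⟩ := CokernelCofork.IsColimit.desc' hcok g hmg
      have hd' : R.map g'' ≫ d = g := hd
      have h2 : R.map z = 0 := zero_of_comp_mono (R.map i ≫ g) (by
        refine (congrArg (fun w => R.map z ≫ R.map i ≫ w) hd').symm.trans ?_
        simp only [reassoc_of% h1, zero_comp])
      exact IsZero.of_mono_eq_zero _ h2
    · have hz := isZero_stalk_lsh j x hx (kernel g)
      let F := DerSch.stalkFunctor X x
      have hS : ((ShortComplex.mk m' g'' (cokernel.condition m')).map F).Exact :=
        (ShortComplex.exact_cokernel m').map F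
      haveI : Mono (F.map g'') := hS.mono_g (hz.eq_of_src _ _)
      refine IsZero.of_mono_eq_zero (F.map (kernel.ι (i ≫ g''))) ?_
      refine zero_of_comp_mono (F.map i ≫ F.map g'') ?_
      rw [← F.map_comp, ← F.map_comp, kernel.condition, F.map_zero]
  haveI := hi g'' hmono
  have h0 : m' = 0 := zero_of_comp_mono g'' (cokernel.condition m')
  refine Preadditive.mono_of_kernel_zero ?_
  rw [← hm, h0, Functor.map_zero, comp_zero]

theorem toStalk_map {A : CommRingCat.{u}} {N E : ModuleCat.{u} A} (f : N ⟶ E) (q : Spec A) (n : N) :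
    (DerSch.stalkFunctor (Spec A) q).map (tilde.map f) ((tilde.toStalk N q).hom n) =
      (tilde.toStalk E q).hom (f n) := by
  refine (TopCat.Presheaf.stalkFunctor_map_germ_apply (F := (tilde N).presheaf) (G := (tilde E).presheaf)
    ⊤ q trivial (tilde.map f).mapPresheaf ((tilde.toOpen N ⊤).hom n)).trans ?_
  exact congrArg ((tilde E).presheaf.germ ⊤ q trivial) (ConcreteCategory.congr_hom (tilde.toOpen_map_app f ⊤) n)

/-- Tilde of an essential injection over a noetherian ring is essential. -/
theorem isEss_tilde {A : CommRingCat.{u}} [IsNoetherianRing A] {N E : ModuleCat.{u} A} (f : N ⟶ E)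
    (hf : InjHull.IsInjectiveHull f.hom) : IsEss (tilde.map f) := by
  intro Z g hg
  refine Preadditive.mono_of_kernel_zero (IsZero.eq_of_src (isZero_of_stalk _ fun q => ?_) _ _)
  let F := DerSch.stalkFunctor (Spec A) q
  refine ModuleCat.isZero_of_iff_subsingleton.2 (subsingleton_of_forall_eq 0 fun k => ?_)
  refine injective_stalk_of_mono (kernel.ι g) q ?_
  rw [map_zero]
  generalize hz : F.map (kernel.ι g) k = z
  have hgz : F.map g z = 0 := by
    rw [← hz, ← ConcreteCategory.comp_apply, ← F.map_comp, kernel.condition, F.map_zero]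
    rfl
  by_contra hne
  let S := q.asIdeal.primeCompl
  let L := (tilde.toStalk E q).hom
  let e := IsLocalizedModule.iso S L
  let y : (tilde E).presheaf.stalk q := z
  have hz0 : e.symm y ≠ 0 := fun h => hne (e.symm.injective (h.trans (map_zero _).symm))
  obtain ⟨r, n', ⟨n, rfl⟩, h1, h2⟩ := LC.localized_essential S (LinearMap.range f.hom) hf.essential hz0
  have h3 : r • y = L (f.hom n) := by
    have := congrArg e h1
    rw [map_smul, LinearEquiv.apply_symm_apply] at this
    refine this.trans ?_
    exact IsLocalizedModule.iso_mk_one S L (f.hom n)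
  have h4 : F.map g (L (f.hom n)) = 0 := by
    rw [← h3, ← TildeSky.smul_eq q r y]
    refine ((F.map g).hom.map_smul _ z).trans ?_
    exact (congrArg _ hgz).trans (smul_zero _)
  have h5 : (tilde.toStalk N q).hom n = 0 := by
    refine injective_stalk_of_mono (tilde.map f ≫ g) q ?_
    rw [map_zero, Functor.map_comp, ConcreteCategory.comp_apply]
    refine Eq.trans ?_ h4
    exact congrArg (F.map g) (toStalk_map f q n)
  have h6 : L (f.hom n) = 0 := (toStalk_map f q n).symm.trans (by rw [h5, map_zero])
  refine h2 (e.injective ?_)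
  rw [map_smul, LinearEquiv.apply_symm_apply, map_zero, h3, h6]

/-- Two essential injective extensions agree. -/
theorem isIso_of_hulls {C : Type*} [Category C] [Abelian C] {B E H : C} (b : B ⟶ E) [Mono b] (a : B ⟶ H)
    [Mono a] (hb : IsEss b) (ha : IsEss a) [Injective E] [Injective H] : Nonempty (E ≅ H) := by
  let ψ := Injective.factorThru a b
  have hψ : b ≫ ψ = a := Injective.comp_factorThru _ _
  haveI : Mono ψ := hb ψ (by rw [hψ]; infer_instance)
  let ρ := Injective.factorThru (𝟙 E) ψ
  have hρ : ψ ≫ ρ = 𝟙 E := Injective.comp_factorThru _ _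
  haveI : Mono ρ := ha ρ (by rw [← hψ, Category.assoc, hρ, Category.comp_id]; infer_instance)
  haveI : IsSplitEpi ρ := IsSplitEpi.mk' ⟨ψ, hρ⟩
  haveI := isIso_of_mono_of_isSplitEpi ρ
  exact ⟨(asIso ρ).symm⟩

theorem isEss_iso_comp {C : Type*} [Category C] [Abelian C] {B B' E : C} (e : B' ≅ B) (i : B ⟶ E)
    (hi : IsEss i) : IsEss (e.hom ≫ i) := fun Z g hg => hi g (by
  rw [show i ≫ g = e.inv ≫ (e.hom ≫ i) ≫ g from by simp]
  exact mono_comp _ _)

theorem exists_tilde_hull {R : CommRingCat.{u}} [IsNoetherianRing R] (N : ModuleCat.{u} R) :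
    ∃ (E : ModuleCat.{u} R) (b : tilde N ⟶ tilde E), Mono b ∧ IsEss b ∧ Injective (tilde E) := by
  obtain ⟨E, _, _, φ, hφ⟩ := LC.exists_injectiveHull R N
  let φ' : N ⟶ ModuleCat.of R E := ModuleCat.ofHom φ
  haveI : PreservesFiniteLimits (tilde.functor R) := QCoh.tilde_preservesFiniteLimits
  haveI : Mono φ' := (ModuleCat.mono_iff_injective _).2 hφ.injective
  haveI : Mono (tilde.map φ') := inferInstanceAs (Mono ((tilde.functor R).map φ'))
  exact ⟨ModuleCat.of R E, tilde.map φ', inferInstance, isEss_tilde φ' hφ, TildeInjective.injective_tilde _ hφ.isInjective⟩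

/-- An essential injective extension of a quasi-coherent module is quasi-coherent. -/
theorem isQCoh_hull [IsLocallyNoetherian X] {J H : X.Modules} (hJ : Coh.IsQCoh J) (i : J ⟶ H) [Mono i]
    (hi : IsEss i) [Injective H] : Coh.IsQCoh H := by
  refine QCoh.isQCoh_of_charts fun R f _ => ?_
  haveI : IsLocallyNoetherian (Spec R) := isLocallyNoetherian_of_isOpenImmersion f
  haveI : IsNoetherianRing R := isLocallyNoetherian_Spec.1 inferInstance
  let G := J.restrict f
  haveI : G.IsQuasicoherent := QCoh.isQCoh_restrict f hJ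
  haveI := Scheme.Modules.isIso_fromTildeΓ_of_isQuasicoherent G
  let N : ModuleCat.{u} R := moduleSpecΓFunctor.obj G
  let e : tilde N ≅ G := asIso G.fromTildeΓ
  obtain ⟨E, b, hb, hbe, hE⟩ := exists_tilde_hull N
  let a : tilde N ⟶ H.restrict f := e.hom ≫ (Scheme.Modules.restrictFunctor f).map i
  haveI : PreservesFiniteLimits (Scheme.Modules.restrictFunctor f) := inferInstance
  haveI : Mono a := mono_comp _ _
  haveI : Injective (H.restrict f) := StalkInjective.injective_restrict f H
  obtain ⟨e'⟩ := isIso_of_hulls b a hbe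
    (isEss_iso_comp e _ (isEss_restrict f i hi))
  have : (tilde E).IsQuasicoherent := inferInstance
  exact (QCoh.isQCoh_iff_iso e').1 this

end Groth.Agent.H9Misc.QCohHull
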