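import Groth.Agent.H9Misc.LocFreeHomTensor
import Groth.Agent.SiteBase.DerivedPrecompAcyclic
import Groth.Agent.SiteBase.DerivedComp

/-! Relative local Ext sheaves and finite locally free tensor factors. -/

set_option linter.style.haveILetI false
set_option linter.unusedSectionVars false
set_option backward.isDefEq.respectTransparency false
set_option backward.isDefEq.respectTransparency.types false
set_option maxHeartbeats 800000

universe u

open CategoryTheory CategoryTheory.Limits AlgebraicGeometry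

noncomputable section

namespace Groth.Agent.H9Misc.RelExtTensor

open Groth.Agent Groth.Agent.SheafHomX Groth.Agent.SheafHomY LocFreeNat LocFreeHomTensor

variable {X Y : Scheme.{u}}

/-- `ℋom(F ⊗ L, -) ≅ ℋom(F, ℋom(L, -))`. -/
def homTensorIso (F L : X.Modules) : hom ((ten L).obj F) ≅ hom L ⋙ hom F :=
  ((adj ((ten L).obj F)).ofNatIsoLeft
    (NatIso.ofComponents (fun Z => ((((KFlatLib.tensorAssocSch X).app Z).app F).app L).symm)
      (fun {Z Z'} g => (congr_app (congr_app ((KFlatLib.tensorAssocSch X).inv.naturality g) F) L :)) :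
        ten ((ten L).obj F) ≅ ten F ⋙ ten L)).rightAdjointUniq ((adj F).comp (adj L))

instance preservesFiniteLimits_push_hom (f : X ⟶ Y) (F : X.Modules) :
    PreservesFiniteLimits (hom F ⋙ Scheme.Modules.pushforward f) :=
  haveI := preservesFiniteLimits_hom F
  haveI : (Scheme.Modules.pushforward f).IsRightAdjoint :=
    (Scheme.Modules.pullbackPushforwardAdjunction f).isRightAdjoint
  comp_preservesFiniteLimits _ _

theorem nonempty_precomp [EnoughInjectives X.Modules] (T : X.Modules ⥤ X.Modules) [T.Additive]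
    (hl : PreservesFiniteLimits T) (hr : PreservesFiniteColimits T)
    (hinj : ∀ I : X.Modules, Injective I → Injective (T.obj I))
    (Φ : X.Modules ⥤ Y.Modules) [Φ.Additive] [PreservesFiniteLimits Φ] (p : ℕ) (G : X.Modules) :
    Nonempty (((T ⋙ Φ).rightDerived p).obj G ≅ (Φ.rightDerived p).obj (T.obj G)) := by
  haveI := hl
  haveI := hr
  obtain ⟨e⟩ := SiteBase.nonempty_rightDerived_precomp_of_acyclic T Φ (fun I hI i =>
    haveI := hinj I hI
    Φ.isZero_rightDerived_obj_injective_succ i (T.obj I)) p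
  exact ⟨e.app G⟩

/-- `Ext_f^p(F, G ⊗ f^*N) ≅ Ext_f^p(F, G) ⊗ N`. -/
theorem nonempty_twist [EnoughInjectives X.Modules] (f : X ⟶ Y) (F G : X.Modules) {N : Y.Modules}
    (hN : FlatMod.IsFinLocFree N) (p : ℕ) :
    Nonempty (((hom F ⋙ Scheme.Modules.pushforward f).rightDerived p).obj
        ((ten ((Scheme.Modules.pullback f).obj N)).obj G) ≅
      (ten N).obj (((hom F ⋙ Scheme.Modules.pushforward f).rightDerived p).obj G)) := by
  let Q := (Scheme.Modules.pullback f).obj N
  let Φ := hom F ⋙ Scheme.Modules.pushforward f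
  have hQ : FlatMod.IsFinLocFree Q := KFlatLib.isFinLocFree_pullback f hN
  haveI : (ten N).Additive := Functor.additive_of_iso (tenHomIso hN).symm
  haveI : (ten Q).Additive := Functor.additive_of_iso (tenHomIso hQ).symm
  haveI := preservesFiniteLimits_ten hN
  haveI := preservesFiniteColimits_ten N
  haveI : (Scheme.Modules.pushforward f).Additive :=
    (Scheme.Modules.pullbackPushforwardAdjunction f).right_adjoint_additive
  obtain ⟨e₁⟩ := nonempty_precomp (ten Q) (preservesFiniteLimits_ten hQ) (preservesFiniteColimits_ten Q)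
    (fun I hI => haveI := hI; injective_ten hQ I) Φ p G
  let η : ten Q ⋙ Φ ≅ Φ ⋙ ten N :=
    (Functor.associator _ _ _).symm ≪≫ Functor.isoWhiskerRight (αIso F hQ).symm _ ≪≫ Functor.associator _ _ _ ≪≫
      Functor.isoWhiskerLeft (hom F) (projIso' f hN).symm ≪≫ (Functor.associator _ _ _).symm
  exact ⟨e₁.symm ≪≫ (SiteBase.rightDerivedCongr η p ≪≫ SiteBase.rightDerivedCompIso Φ (ten N) p).app G⟩

/-- `Ext_f^p(F ⊗ L, G ⊗ f^*N) ≅ Ext_f^p(F, G ⊗ L^∨) ⊗ N`. -/
theorem nonempty_iso [EnoughInjectives X.Modules] (f : X ⟶ Y) (F G : X.Modules) {L : X.Modules}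
    (hL : FlatMod.IsFinLocFree L) {N : Y.Modules} (hN : FlatMod.IsFinLocFree N) (p : ℕ) :
    Nonempty (((hom ((ten L).obj F) ⋙ Scheme.Modules.pushforward f).rightDerived p).obj
        ((ten ((Scheme.Modules.pullback f).obj N)).obj G) ≅
      (ten N).obj (((hom F ⋙ Scheme.Modules.pushforward f).rightDerived p).obj ((ten (dual L)).obj G))) := by
  let Q := (Scheme.Modules.pullback f).obj N
  let Φ := hom F ⋙ Scheme.Modules.pushforward f
  have hQ : FlatMod.IsFinLocFree Q := KFlatLib.isFinLocFree_pullback f hN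
  haveI : (Scheme.Modules.pushforward f).Additive :=
    (Scheme.Modules.pullbackPushforwardAdjunction f).right_adjoint_additive
  haveI := preservesMonomorphisms_ten hL
  obtain ⟨e₁⟩ := nonempty_precomp (hom L) (preservesFiniteLimits_hom L) (preservesFiniteColimits_hom hL)
    (fun I hI => haveI := hI; Injective.injective_of_adjoint (adj L) I) Φ p ((ten Q).obj G)
  obtain ⟨e₂⟩ := nonempty_twist f F ((hom L).obj G) hN p
  exact ⟨(SiteBase.rightDerivedCongr (Functor.isoWhiskerRight (homTensorIso F L) _ ≪≫ Functor.associator _ _ _) p).app _ ≪≫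
    e₁ ≪≫ (Φ.rightDerived p).mapIso ((αIso L hQ).app G).symm ≪≫ e₂ ≪≫
    (ten N).mapIso ((Φ.rightDerived p).mapIso ((thetaIso hL).app G).symm)⟩

end Groth.Agent.H9Misc.RelExtTensor
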