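import Groth.Agent.H9Misc.DRingRestrict
import Groth.Prelude.Def_DerCA
import Mathlib.Algebra.MvPolynomial.Equiv

/-! Relative pseudo-coherence. -/

set_option linter.style.haveILetI false

universe u

open CategoryTheory CategoryTheory.Category CategoryTheory.Limits
open CategoryTheory.Pretriangulated

attribute [local instance] HasDerivedCategory.standard

namespace Groth.Agent.H9Misc.DRingRelPC

open DRingTor DRingRestrict

variable {A B C : Type u} [CommRing A] [CommRing B] [CommRing C]

/-- Restriction along a composite. -/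
noncomputable def restrictDCompIso (φ : A →+* B) (ψ : B →+* C) :
    DRing.restrictD (ψ.comp φ) ≅ DRing.restrictD ψ ⋙ DRing.restrictD φ :=
  let F := ModuleCat.restrictScalars.{u} φ
  let G := ModuleCat.restrictScalars.{u} ψ
  let H := ModuleCat.restrictScalars.{u} (ψ.comp φ)
  letI : Localization.Lifting DerivedCategory.Q (HomologicalComplex.quasiIso (ModuleCat.{u} C) (ComplexShape.up ℤ))
      (H.mapHomologicalComplex (ComplexShape.up ℤ) ⋙ DerivedCategory.Q) (DRing.restrictD (ψ.comp φ)) :=
    ⟨H.mapDerivedCategoryFactors⟩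
  letI : Localization.Lifting DerivedCategory.Q (HomologicalComplex.quasiIso (ModuleCat.{u} C) (ComplexShape.up ℤ))
      ((G ⋙ F).mapHomologicalComplex (ComplexShape.up ℤ) ⋙ DerivedCategory.Q)
      (DRing.restrictD ψ ⋙ DRing.restrictD φ) :=
    ⟨(Functor.associator _ _ _).symm ≪≫ Functor.isoWhiskerRight G.mapDerivedCategoryFactors _ ≪≫
      Functor.associator _ _ _ ≪≫ Functor.isoWhiskerLeft _ F.mapDerivedCategoryFactors⟩
  Localization.liftNatIso DerivedCategory.Q (HomologicalComplex.quasiIso (ModuleCat.{u} C) (ComplexShape.up ℤ))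
    (H.mapHomologicalComplex (ComplexShape.up ℤ) ⋙ DerivedCategory.Q)
    ((G ⋙ F).mapHomologicalComplex (ComplexShape.up ℤ) ⋙ DerivedCategory.Q) _ _
    (Functor.isoWhiskerRight (NatIso.mapHomologicalComplex
      (ModuleCat.restrictScalarsComp'.{u} φ ψ (ψ.comp φ) rfl) (ComplexShape.up ℤ)) _)

/-- `B` is a pseudo-coherent `A`-module. -/
def PCHom (φ : A →+* B) : Prop :=
  DRing.IsPseudoCoherentModule' A ((ModuleCat.restrictScalars φ).obj (ModuleCat.of B B))

lemma PCHom.comp {φ : A →+* B} {ψ : B →+* C} (hφ : PCHom φ) (hψ : PCHom ψ) : PCHom (ψ.comp φ) := by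
  refine (DRingPC.pc'_iff _).2 fun m => ?_
  refine DRingPC.of_iso ?_ ((pc_restrict_iff φ hφ m _).1 ((DRingPC.pc'_iff _).1 hψ m))
  exact restrictInDIso φ _ ≪≫ (DerivedCategory.singleFunctor (ModuleCat.{u} A) 0).mapIso
    (ModuleCat.restrictScalarsComp'App φ ψ (ψ.comp φ) rfl (ModuleCat.of C C)).symm

lemma PCHom.of_bijective {φ : A →+* B} (h : Function.Bijective φ) : PCHom φ := by
  let M := (ModuleCat.restrictScalars φ).obj (ModuleCat.of B B)
  let e : A →ₗ[A] M :=
    { toFun := fun a => (show B from φ a)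
      map_add' := fun a b => φ.map_add a b
      map_smul' := fun r a => φ.map_mul r a }
  haveI : Module.Finite A M := Module.Finite.equiv (LinearEquiv.ofBijective e h)
  haveI : Module.Free A M := Module.Free.of_equiv (LinearEquiv.ofBijective e h)
  exact (DRingPC.pc'_iff _).2 fun m => Triage.NoethPC.pc_of_free (A := A) M m

open Polynomial in
lemma pcHom_eval (R : Type u) [CommRing R] (c : R) : PCHom (Polynomial.evalRingHom c) := by
  let φ := Polynomial.evalRingHom c
  let M := (ModuleCat.restrictScalars φ).obj (ModuleCat.of R R)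
  let π : (Fin 1 → Polynomial R) →ₗ[Polynomial R] M :=
    { toFun := fun f => (show R from φ (f 0))
      map_add' := fun f g => φ.map_add (f 0) (g 0)
      map_smul' := fun r f => φ.map_mul r (f 0) }
  have hπ : Function.Surjective π := fun r =>
    ⟨fun _ => Polynomial.C (show R from r), eval_C (R := R) (a := (show R from r)) (x := c)⟩
  have hmem : ∀ f : Fin 1 → Polynomial R, f ∈ LinearMap.ker π ↔ (f 0).eval c = 0 := fun f => Iff.rfl
  let e : Polynomial R →ₗ[Polynomial R] LinearMap.ker π :=
    { toFun := fun p => ⟨fun _ => (Polynomial.X - Polynomial.C c) * p, (hmem _).2 (by simp)⟩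
      map_add' := fun p q => Subtype.ext (funext fun _ => mul_add _ _ _)
      map_smul' := fun r p => Subtype.ext (funext fun _ => by simp [mul_left_comm]) }
  have he : Function.Bijective e := by
    refine ⟨fun p q h => (Polynomial.monic_X_sub_C c).isRegular.left
      (congrFun (congrArg Subtype.val h) (0 : Fin 1)), fun ⟨f, hf⟩ => ?_⟩
    obtain ⟨p, hp⟩ := (dvd_iff_isRoot (p := f 0)).2 ((hmem f).1 hf)
    exact ⟨p, Subtype.ext (funext fun i => by rw [Subsingleton.elim i 0]; exact hp.symm)⟩
  haveI : Module.Finite (Polynomial R) (LinearMap.ker π) := Module.Finite.equiv (LinearEquiv.ofBijective e he)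
  haveI : Module.Free (Polynomial R) (LinearMap.ker π) := Module.Free.of_equiv (LinearEquiv.ofBijective e he)
  exact (DRingPC.pc'_iff _).2 fun m =>
    DRingPC.pc_of_presentation π hπ (Triage.NoethPC.pc_of_free (A := Polynomial R) (LinearMap.ker π) (m + 1))

open MvPolynomial in
lemma pcHom_aeval : ∀ (k : ℕ) (P : Type u) [CommRing P] (p : Fin k → P),
    PCHom (eval₂Hom (RingHom.id P) p) := by
  intro k
  induction k with
  | zero =>
    intro P _ p
    refine PCHom.of_bijective ⟨fun f g h => ?_, fun a => ⟨MvPolynomial.C a, by simp⟩⟩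
    obtain ⟨a, rfl⟩ := C_surjective (Fin 0) f
    obtain ⟨b, rfl⟩ := C_surjective (Fin 0) g
    simpa using h
  | succ k ih =>
    intro P _ p
    let e := (finSuccEquiv P k).toRingEquiv.toRingHom
    let ev := Polynomial.evalRingHom (MvPolynomial.C (p 0) : MvPolynomial (Fin k) P)
    have he : PCHom e := PCHom.of_bijective (finSuccEquiv P k).bijective
    have heq : eval₂Hom (RingHom.id P) p =
        (eval₂Hom (RingHom.id P) fun i : Fin k => p i.succ).comp (ev.comp e) := by
      refine MvPolynomial.ringHom_ext (fun r => ?_) fun i => ?_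
      · simp [e, ev, finSuccEquiv_apply]
      · cases i using Fin.cases with
        | zero => simp [e, ev, finSuccEquiv_apply]
        | succ j => simp [e, ev, finSuccEquiv_apply]
    rw [heq]
    exact (he.comp (pcHom_eval _ _)).comp (ih P fun i => p i.succ)

variable {R : Type u} [CommRing R] [Algebra R A]

lemma via_iff_comp {n : ℕ} (α : MvPolynomial (Fin n) R →ₐ[R] A) {T : Type u} [CommRing T]
    (ψ : T →+* MvPolynomial (Fin n) R) (hψ : PCHom ψ) (γ : T →+* A) (hγ : (α : MvPolynomial (Fin n) R →+* A).comp ψ = γ)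
    (K : Dual.D A) (m : ℤ) :
    DerCA.IsRelPseudoCoherentVia α m K ↔ DRing.IsPseudoCoherent T m ((DRing.restrictD γ).obj K) := by
  subst hγ
  refine (pc_restrict_iff ψ hψ m _).trans ⟨fun h => ?_, fun h => ?_⟩
  · exact DRingPC.of_iso ((restrictDCompIso ψ (α : MvPolynomial (Fin n) R →+* A)).app K).symm h
  · exact DRingPC.of_iso ((restrictDCompIso ψ (α : MvPolynomial (Fin n) R →+* A)).app K) h

open MvPolynomial in
/-- Relative pseudo-coherence does not depend on the presentation. -/
theorem via_iff {n k : ℕ} (α : MvPolynomial (Fin n) R →ₐ[R] A) (hα : Function.Surjective α)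
    (β : MvPolynomial (Fin k) R →ₐ[R] A) (hβ : Function.Surjective β) (K : Dual.D A) (m : ℤ) :
    DerCA.IsRelPseudoCoherentVia α m K ↔ DerCA.IsRelPseudoCoherentVia β m K := by
  choose p hp using fun j : Fin k => hα (β (MvPolynomial.X j))
  choose q hq using fun i : Fin n => hβ (α (MvPolynomial.X i))
  let ψ : MvPolynomial (Fin k) (MvPolynomial (Fin n) R) →+* MvPolynomial (Fin n) R :=
    eval₂Hom (RingHom.id _) p
  let σ := (commAlgEquiv R (Fin k) (Fin n)).toRingEquiv.toRingHom
  let ψ' : MvPolynomial (Fin k) (MvPolynomial (Fin n) R) →+* MvPolynomial (Fin k) R :=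
    (eval₂Hom (RingHom.id _) q).comp σ
  have hψ' : PCHom ψ' :=
    (PCHom.of_bijective (commAlgEquiv R (Fin k) (Fin n)).bijective).comp (pcHom_aeval n _ q)
  refine (via_iff_comp α ψ (pcHom_aeval k _ p) _ rfl K m).trans (via_iff_comp β ψ' hψ' _ ?_ K m).symm
  refine MvPolynomial.ringHom_ext (fun r => ?_) fun j => ?_
  · show ((β : MvPolynomial (Fin k) R →+* A).comp (ψ'.comp MvPolynomial.C)) r =
      ((α : MvPolynomial (Fin n) R →+* A).comp (ψ.comp MvPolynomial.C)) r
    refine RingHom.congr_fun (MvPolynomial.ringHom_ext (fun s => ?_) fun i => ?_) r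
    · simp [ψ, ψ', σ]
    · simp [ψ, ψ', σ, hq]
  · simp [ψ, ψ', σ, hp]

theorem iff_via {n : ℕ} (α : MvPolynomial (Fin n) R →ₐ[R] A) (hα : Function.Surjective α) (K : Dual.D A) (m : ℤ) :
    DerCA.IsRelPseudoCoherent R A m K ↔ DerCA.IsRelPseudoCoherentVia α m K :=
  ⟨fun ⟨_, β, hβ, h⟩ => (via_iff β hβ α hα K m).1 h, fun h => ⟨n, α, hα, h⟩⟩

end Groth.Agent.H9Misc.DRingRelPC

namespace Groth.Agent.H9Misc.DRingRelPC

open DRingTor DRingRestrict

variable {A R : Type u} [CommRing A] [CommRing R] [Algebra R A]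

section
variable {n : ℕ} (α : MvPolynomial (Fin n) R →ₐ[R] A) (hα : Function.Surjective α)

include hα

lemma all_iff_via (K : Dual.D A) : DerCA.IsRelPseudoCoherentAll R A K ↔
    DRing.IsPseudoCoherent' (MvPolynomial (Fin n) R)
      ((DRing.restrictD (α : MvPolynomial (Fin n) R →+* A)).obj K) :=
  (forall_congr' fun m => iff_via α hα K m).trans (DRingPC.pc'_iff _).symm

lemma module_iff (M : Type u) [AddCommGroup M] [Module A M] (m : ℤ) :
    DerCA.IsRelPseudoCoherentModule R A m M ↔ DRing.IsPseudoCoherentModule (MvPolynomial (Fin n) R) m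
      ((ModuleCat.restrictScalars (α : MvPolynomial (Fin n) R →+* A)).obj (ModuleCat.of A M)) :=
  (iff_via α hα (Dual.inD A M) m).trans ⟨DRingPC.of_iso (restrictInDIso _ (ModuleCat.of A M)),
    DRingPC.of_iso (restrictInDIso _ (ModuleCat.of A M)).symm⟩

theorem of_terms (K : DRing.Cx A) (b : ℤ) (hb : DRing.VanishesAbove K b) (m : ℤ)
    (h : ∀ i : ℤ, DerCA.IsRelPseudoCoherentModule R A (m - i) (K.X i)) :
    DerCA.IsRelPseudoCoherent R A m (DRing.toD K) := by
  let F := ModuleCat.restrictScalars (α : MvPolynomial (Fin n) R →+* A)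
  refine (iff_via α hα _ m).2 (DRingPC.of_iso (F.mapDerivedCategoryFactors.app K).symm
    (DRingPC.of_terms ((F.mapHomologicalComplex (ComplexShape.up ℤ)).obj K) b
      (fun i hi => F.map_isZero (hb i hi)) fun i => ?_))
  exact (module_iff α hα _ _).1 (h i)

theorem of_homology (K : Dual.D A) (b : ℤ) (hb : ∀ i : ℤ, b < i → Subsingleton (Dual.HD A K i)) (m : ℤ)
    (h : ∀ i : ℤ, DerCA.IsRelPseudoCoherentModule R A (m - i) (Dual.HD A K i)) :
    DerCA.IsRelPseudoCoherent R A m K := by
  let φ : MvPolynomial (Fin n) R →+* A := α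
  refine (iff_via α hα _ m).2 (DRingPC.of_homology _ b (fun i hi => ?_) fun i _ => ?_)
  · exact (HDRestrictIso φ K i).toLinearEquiv.toEquiv.subsingleton_congr.2 (hb i hi)
  · exact DRingPC.of_iso ((DerivedCategory.singleFunctor _ 0).mapIso (HDRestrictIso φ K i)).symm
      ((module_iff α hα _ _).1 (h i))

end

lemma exists_presentation (R A : Type u) [CommRing R] [CommRing A] [Algebra R A] [Algebra.FiniteType R A] :
    ∃ (n : ℕ) (α : MvPolynomial (Fin n) R →ₐ[R] A), Function.Surjective α :=
  Algebra.FiniteType.iff_quotient_mvPolynomial''.1 inferInstance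

end Groth.Agent.H9Misc.DRingRelPC
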