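import Groth.Agent.H9Misc.TelTransfer

/-! The derived functor of an exact functor with a right adjoint has a right adjoint. -/

universe u

open CategoryTheory CategoryTheory.Category CategoryTheory.Limits DerivedCategory

attribute [local instance] HasDerivedCategory.standard

namespace Groth.Agent.H9Misc.ExactLeftAdj

section Localization

variable {C D E : Type*} [Category* C] [Category* D] [Category* E] (L : C ⥤ D) (W : MorphismProperty C)
  [L.IsLocalization W] (F' : D ⥤ E) (R₀ : E ⥤ C)

include W in
/-- Descending an adjunction along a localization. -/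
noncomputable def descend (adj : L ⋙ F' ⊣ R₀) : F' ⊣ R₀ ⋙ L where
  unit := Localization.liftNatTrans L W L (L ⋙ F' ⋙ R₀ ⋙ L) (𝟭 D) (F' ⋙ R₀ ⋙ L)
    (Functor.whiskerRight adj.unit L)
  counit := { app := fun M => adj.counit.app M, naturality := fun _ _ g => adj.counit.naturality g }
  left_triangle_components X := by
    have := Localization.essSurj L W
    let e := L.objObjPreimageIso X
    let η := Localization.liftNatTrans L W L (L ⋙ F' ⋙ R₀ ⋙ L) (𝟭 D) (F' ⋙ R₀ ⋙ L)
      (Functor.whiskerRight adj.unit L)
    have key : ∀ K, F'.map (η.app (L.obj K)) ≫ adj.counit.app (F'.obj (L.obj K)) = 𝟙 _ := fun K => by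
      have h : η.app (L.obj K) = L.map (adj.unit.app K) := by simp [η, Localization.Lifting.iso]
      rw [h]
      exact adj.left_triangle_components K
    show F'.map (η.app X) ≫ adj.counit.app (F'.obj X) = 𝟙 _
    refine (cancel_epi (F'.map e.hom)).1 ?_
    refine Eq.trans ?_ (comp_id (F'.map e.hom)).symm
    refine (assoc _ _ _).symm.trans ((congrArg (· ≫ adj.counit.app (F'.obj X))
      (F'.map_comp e.hom (η.app X)).symm).trans ?_)
    rw [show e.hom ≫ η.app X = η.app (L.obj (L.objPreimage X)) ≫ L.map (R₀.map (F'.map e.hom)) from η.naturality e.hom]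
    refine (congrArg (· ≫ adj.counit.app (F'.obj X)) (F'.map_comp _ _)).trans ((assoc _ _ _).trans ?_)
    rw [
      show F'.map (L.map (R₀.map (F'.map e.hom))) ≫ adj.counit.app (F'.obj X) =
        adj.counit.app _ ≫ F'.map e.hom from adj.counit.naturality (F'.map e.hom),
      ← assoc, key]
    exact id_comp (F'.map e.hom)
  right_triangle_components M := by
    let η := Localization.liftNatTrans L W L (L ⋙ F' ⋙ R₀ ⋙ L) (𝟭 D) (F' ⋙ R₀ ⋙ L)
      (Functor.whiskerRight adj.unit L)
    show η.app (L.obj (R₀.obj M)) ≫ L.map (R₀.map (adj.counit.app M)) = 𝟙 _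
    rw [show η.app (L.obj (R₀.obj M)) = L.map (adj.unit.app (R₀.obj M)) by simp [η, Localization.Lifting.iso],
      ← L.map_comp]
    exact (congrArg L.map (adj.right_triangle_components M)).trans (L.map_id _)

end Localization

variable {A : Type (u + 1)} [Category.{u} A] [Abelian A] [IsGrothendieckAbelian.{u} A]
  {B : Type (u + 1)} [Category.{u} B] [Abelian B] [IsGrothendieckAbelian.{u} B]
  {F : A ⥤ B} {G : B ⥤ A} (adj : F ⊣ G) [F.Additive] [G.Additive]
  [PreservesFiniteLimits F] [PreservesFiniteColimits F]

include adj in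
/-- An exact left adjoint has a derived right adjoint, with the same behaviour on telescopes. -/
theorem exists_rightAdjoint :
    ∃ (R : DerivedCategory B ⥤ DerivedCategory A) (_ : F.mapDerivedCategory ⊣ R),
      ∀ (P : A) (u : P ⟶ P) (N : DerivedCategory B),
        TelOrth.TBOn (F.obj P) (F.map u) N ↔ TelOrth.TBOn P u (R.obj N) := by
  have := TriCat.qh_isLeftAdjoint_of_exists_resolution (A := B) fun L => by
    obtain ⟨I, f, hI, hf, -, -⟩ := TriCat.exists_kInjective_resolution' L
    exact ⟨I, f, hI, hf⟩
  let adjQ := Adjunction.ofIsLeftAdjoint (Qh (C := B))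
  let a' := (SerreDerived.adjHtpy (ComplexShape.up ℤ) adj).comp adjQ
  let a := descend Qh (HomotopyCategory.quasiIso A (ComplexShape.up ℤ)) F.mapDerivedCategory _
    (a'.ofNatIsoLeft F.mapDerivedCategoryFactorsh.symm)
  refine ⟨_, a, fun P u N => forall_congr' fun n => ?_⟩
  rw [TelTransfer.tb_mu_iff_pre, TelTransfer.tb_mu_iff_pre]
  let e := F.mapDerivedCategorySingleFunctor n
  let S := (singleFunctor A n).obj P
  let ψ : (F.mapDerivedCategory.obj S ⟶ N) ≃+ (S ⟶ (_ : DerivedCategory B ⥤ DerivedCategory A).obj N) :=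
    { a.homEquiv S N with
      map_add' := fun x y => (a.homAddEquiv S N).map_add x y }
  have hψ : ∀ x, ψ (TelTransfer.pre (F.mapDerivedCategory.map ((singleFunctor A n).map u)) N x) =
      TelTransfer.pre ((singleFunctor A n).map u) _ (ψ x) := fun x => a.homEquiv_naturality_left _ x
  refine (TelTransfer.tb_pre_iff_of_iso (S := (singleFunctor B n).obj (F.obj P))
    (S' := F.mapDerivedCategory.obj S) (s' := F.mapDerivedCategory.map ((singleFunctor A n).map u))
    (e.app P).symm (e.inv.naturality u).symm N).trans ?_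
  exact ⟨TelBij.tb_of_injective_surjective ψ hψ, TelBij.tb_of_injective_surjective ψ.symm fun y => by
    rw [← ψ.apply_eq_iff_eq, hψ, ψ.apply_symm_apply, ψ.apply_symm_apply]⟩

end Groth.Agent.H9Misc.ExactLeftAdj
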