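import Groth.Agent.H9Misc.DRingLBase
import Groth.Agent.KFlatLib.Scheme.Adjoint
import Mathlib.CategoryTheory.Functor.Derived.PointwiseRightDerived
import Mathlib

/-! Derived base change is left adjoint to restriction. -/

set_option linter.style.haveILetI false

universe u

open CategoryTheory CategoryTheory.Limits

attribute [local instance] HasDerivedCategory.standard

namespace Groth.Agent.H9Misc.DRingAdjoint

open Groth.Agent.KFlatLib DRingLTensor

variable {A B : Type u} [CommRing A] [CommRing B] (φ : A →+* B)

theorem nonempty_adj [DRing.HasLBaseChange φ] :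
    Nonempty (DRing.LBaseChange φ ⊣ DRing.restrictD φ) := by
  let WA := HomotopyCategory.quasiIso (ModuleCat.{u} A) (ComplexShape.up ℤ)
  let WB := HomotopyCategory.quasiIso (ModuleCat.{u} B) (ComplexShape.up ℤ)
  let R : ModuleCat.{u} B ⥤ ModuleCat.{u} A := ModuleCat.restrictScalars.{u} φ
  let α := (DRing.baseChangeKh φ).totalLeftDerivedCounit DerivedCategory.Qh WA
  let Fh := R.mapHomotopyCategory (ComplexShape.up ℤ) ⋙ DerivedCategory.Qh
  let e : DerivedCategory.Qh ⋙ DRing.restrictD φ ≅ Fh := R.mapDerivedCategoryFactorsh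
  haveI : (DRing.restrictD φ).IsRightDerivedFunctor e.inv WB :=
    Functor.isRightDerivedFunctor_of_inverts WB (DRing.restrictD φ) e
  let e' : DerivedCategory.Qh ⋙ DRing.restrictD φ ⋙ DRing.LBaseChange φ ≅
      Fh ⋙ DRing.LBaseChange φ :=
    (Functor.associator _ _ _).symm ≪≫ Functor.isoWhiskerRight e _
  haveI : (DRing.restrictD φ ⋙ DRing.LBaseChange φ).IsRightDerivedFunctor
      (Functor.whiskerRight e.inv (DRing.LBaseChange φ) ≫ (Functor.associator _ _ _).hom) WB :=
    Functor.isRightDerivedFunctor_of_inverts WB (DRing.restrictD φ ⋙ DRing.LBaseChange φ) e'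
  let q := HomotopyCategory.quotient (ModuleCat.{u} A) (ComplexShape.up ℤ)
  haveI : (DRing.LBaseChange φ ⋙ DRing.restrictD φ).IsLeftDerivedFunctor
      ((Functor.associator _ _ _).inv ≫ Functor.whiskerRight α (DRing.restrictD φ)) WA := by
    refine isLeftDerivedFunctor_of_isIso (L := DerivedCategory.Q) (q := q)
      (HomologicalComplex.homotopyEquivalences (ModuleCat.{u} A) (ComplexShape.up ℤ))
      (DerivedCategory.quotientCompQhIso (ModuleCat.{u} A))
      ((DRingLBase.resBase φ).postcomp (DRing.restrictD φ)) _ fun K hK => ?_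
    haveI : IsIso (α.app (q.obj K)) :=
      (DRingLBase.resBase φ).isIso_totalLeftDerivedCounit' DerivedCategory.Q DerivedCategory.Qh q
        (HomologicalComplex.homotopyEquivalences (ModuleCat.{u} A) (ComplexShape.up ℤ))
        (DerivedCategory.quotientCompQhIso (ModuleCat.{u} A)) _ hK
    simp only [NatTrans.comp_app, Functor.associator_inv_app, Functor.whiskerRight_app]
    erw [Category.id_comp]
    infer_instance
  exact ⟨(adjHtpy (ComplexShape.up ℤ) (ModuleCat.extendRestrictScalarsAdj φ)).derived WA WB α e.inv⟩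

end Groth.Agent.H9Misc.DRingAdjoint
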