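import Groth.Agent.H9Misc.DRingProjAmp

/-! Injective amplitude. -/

set_option linter.style.haveILetI false

universe u

open CategoryTheory CategoryTheory.Category CategoryTheory.Limits
open CategoryTheory.Pretriangulated

attribute [local instance] HasDerivedCategory.standard

namespace Groth.Agent.H9Misc.DRingInjAmp

open DRingTor DRingProjAmp

variable {R : Type u} [CommRing R]

lemma subsingleton_iff (X : ModuleCat.{u} R) (K : Dual.D R) (i : ℤ) :
    Subsingleton (DRing.ExtD R (Dual.inD R X) K i) ↔
      Subsingleton ((DerivedCategory.singleFunctor (ModuleCat.{u} R) i).obj X ⟶ K) :=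
  ((((shiftEquiv' (Dual.D R) (-i) i (neg_add_cancel i)).toAdjunction.homEquiv (Dual.inD R X) K).symm).trans
    ((singleIso X i (-i) (add_neg_cancel i)).homFromEquiv)).subsingleton_congr

variable (C : DRing.Cx R) {i : ℤ}

/-- A class killed in the derived category comes from a chain. -/
lemma exists_factor {X : ModuleCat.{u} R} (j : ℤ) (hj : j + 1 = i) (f : X ⟶ C.X i)
    (hf : f ≫ C.d i (i + 1) = 0)
    (hQ : C.IsKInjective ∨ CochainComplex.IsKProjective ((CochainComplex.singleFunctor (ModuleCat.{u} R) i).obj X))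
    (hsub : Subsingleton ((DerivedCategory.singleFunctor (ModuleCat.{u} R) i).obj X ⟶ DerivedCategory.Q.obj C)) :
    ∃ k : X ⟶ C.X j, k ≫ C.d j i = f := by
  let L : DRing.Cx R := (CochainComplex.singleFunctor (ModuleCat.{u} R) i).obj X
  let g : L ⟶ C := HomologicalComplex.mkHomFromSingle f fun k hk => by
    obtain rfl : i + 1 = k := hk
    exact hf
  have hzero : DerivedCategory.Q.map g = 0 :=
    (((DerivedCategory.singleFunctorIsoCompQ (ModuleCat.{u} R) i).app X).homFromEquiv).symm.subsingleton.elim _ _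
  let q := DerivedCategory.quotientCompQhIso (ModuleCat.{u} R)
  have hg : (HomotopyCategory.quotient _ _).map g = 0 := by
    have h1 : DerivedCategory.Qh.map ((HomotopyCategory.quotient _ _).map g) = 0 := by
      rw [← cancel_mono (q.hom.app C), zero_comp]
      exact (q.hom.naturality g).trans (by rw [hzero, comp_zero])
    rcases hQ with h | h
    · exact (CochainComplex.IsKInjective.Qh_map_bijective _ C).1 (by rw [h1, Functor.map_zero])
    · exact (CochainComplex.IsKProjective.Qh_map_bijective L _).1 (by rw [h1, Functor.map_zero])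
  let H : Homotopy g 0 := HomotopyCategory.homotopyOfEq _ _ (hg.trans (Functor.map_zero _ _ _).symm)
  refine ⟨(HomologicalComplex.singleObjXSelf (ComplexShape.up ℤ) i X).inv ≫ H.hom i j, ?_⟩
  have hc := H.comm i
  rw [dNext_eq _ (show (ComplexShape.up ℤ).Rel i (i + 1) from rfl),
    prevD_eq _ (show (ComplexShape.up ℤ).Rel j i from hj)] at hc
  simp only [HomologicalComplex.zero_f, add_zero] at hc
  have hd : L.d i (i + 1) = 0 :=
    (HomologicalComplex.isZero_single_obj_X (ComplexShape.up ℤ) i X (i + 1) (by omega)).eq_of_tgt _ _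
  rw [hd, zero_comp, zero_add] at hc
  refine (assoc _ _ _).trans ((congrArg (_ ≫ ·) hc.symm).trans ?_)
  exact (congrArg (_ ≫ ·) (HomologicalComplex.mkHomFromSingle_f f _)).trans (Iso.inv_hom_id_assoc _ _)

/-- (1) ⇒ (2). -/
theorem ext_subsingleton {a b : ℤ} {E : DRing.Cx R} (hz : DRing.VanishesOutside E a b)
    (hE : DRing.TermwiseInjective E) {K : Dual.D R} (e : DRing.toD E ≅ K)
    (X : ModuleCat.{u} R) (i : ℤ) (hi : i < a ∨ b < i) :
    Subsingleton (DRing.ExtD R (Dual.inD R X) K i) := by
  haveI : CochainComplex.IsStrictlyGE E a :=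
    (CochainComplex.isStrictlyGE_iff E a).2 fun k hk => hz k (Or.inl hk)
  haveI : ∀ n, Injective (E.X n) := fun n => (Module.injective_iff_injective_object R _).1 (hE n)
  haveI : E.IsKInjective := CochainComplex.isKInjective_of_injective E a
  rw [subsingleton_iff]
  let es := (DerivedCategory.singleFunctorIsoCompQ (ModuleCat.{u} R) i).app X
  let L : DRing.Cx R := (CochainComplex.singleFunctor (ModuleCat.{u} R) i).obj X
  suffices ∀ f : DerivedCategory.Q.obj L ⟶ DerivedCategory.Q.obj E, f = 0 from
    ⟨fun f g => by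
      rw [← cancel_epi es.inv, ← cancel_mono e.inv, this ((es.inv ≫ f) ≫ e.inv),
        this ((es.inv ≫ g) ≫ e.inv)]⟩
  intro f
  let q := DerivedCategory.quotientCompQhIso (ModuleCat.{u} R)
  obtain ⟨g, hg⟩ := (CochainComplex.IsKInjective.Qh_map_bijective
    ((HomotopyCategory.quotient _ _).obj L) E).2 (q.hom.app L ≫ f ≫ q.inv.app E)
  obtain ⟨ψ, rfl⟩ := (HomotopyCategory.quotient _ _).map_surjective g
  have hψ : ψ = 0 := HomologicalComplex.hom_ext _ _ fun k => by
    by_cases hk : k = i
    · subst hk; exact (hz k hi).eq_of_tgt _ _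
    · exact (HomologicalComplex.isZero_single_obj_X (ComplexShape.up ℤ) i X k hk).eq_of_src _ _
  rw [hψ, Functor.map_zero, Functor.map_zero] at hg
  rw [← cancel_epi (q.hom.app L), comp_zero, ← cancel_mono (q.inv.app E), zero_comp, assoc]
  exact hg.symm

/-- Vanishing of maps out of shifts of `R` kills cohomology. -/
theorem isZero_homology
    (h : Subsingleton ((DerivedCategory.singleFunctor (ModuleCat.{u} R) i).obj (ModuleCat.of R R) ⟶
      DerivedCategory.Q.obj C)) : IsZero (C.homology i) := by
  rw [← HomologicalComplex.exactAt_iff_isZero_homology,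
    C.exactAt_iff' (i - 1) i (i + 1) (by simp) (by simp),
    ShortComplex.moduleCat_exact_iff]
  intro x hx
  let f : ModuleCat.of R R ⟶ C.X i := ModuleCat.ofHom (LinearMap.toSpanSingleton R _ x)
  have hf : f ≫ C.d i (i + 1) = 0 := ModuleCat.hom_ext (LinearMap.ext_ring (by
    change (C.d i (i + 1)).hom ((1 : R) • x) = 0
    rw [one_smul]
    exact hx))
  have hP : CochainComplex.IsKProjective
      ((CochainComplex.singleFunctor (ModuleCat.{u} R) i).obj (ModuleCat.of R R)) := by
    refine isKProjective (b := i) (fun k => ?_) fun k hk =>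
      HomologicalComplex.isZero_single_obj_X (ComplexShape.up ℤ) i _ k (by omega)
    rcases eq_or_ne k i with rfl | hk
    · exact Module.Projective.of_equiv
        (HomologicalComplex.singleObjXSelf (ComplexShape.up ℤ) k (ModuleCat.of R R)).toLinearEquiv.symm
    · exact (IsProjective.iff_projective (R := R) _).2 (Projective.of_iso
        (HomologicalComplex.isZero_single_obj_X (ComplexShape.up ℤ) i (ModuleCat.of R R) k hk).isoZero.symm
        inferInstance)
  obtain ⟨k, hk⟩ := exists_factor C (i - 1) (by omega) f hf (Or.inr hP) h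
  exact ⟨k.hom (1 : R), (ConcreteCategory.congr_hom hk (1 : R)).trans (one_smul R x)⟩

/-- (3) ⇒ (1). -/
theorem hasInjAmplitudeIn_of_quotient {a b : ℤ} (K : Dual.D R)
    (h : ∀ (I : Ideal R) (i : ℤ), (i < a ∨ b < i) →
      Subsingleton (DRing.ExtD R (Dual.inD R (R ⧸ I)) K i)) :
    DRing.HasInjAmplitudeIn R a b K := by
  have hsub : ∀ (I : Ideal R) (i : ℤ), (i < a ∨ b < i) → ∀ (C : DRing.Cx R),
      (DerivedCategory.Q.obj C ≅ K) → Subsingleton
        ((DerivedCategory.singleFunctor (ModuleCat.{u} R) i).obj (ModuleCat.of R (R ⧸ I)) ⟶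
          DerivedCategory.Q.obj C) := fun I i hi C e => by
    haveI := (subsingleton_iff (ModuleCat.of R (R ⧸ I)) K i).1 (h I i hi)
    exact e.homToEquiv.subsingleton
  have hH : ∀ i, (i < a ∨ b < i) → IsZero ((DerivedCategory.homologyFunctor (ModuleCat.{u} R) i).obj K) := by
    intro i hi
    let C := DerivedCategory.Q.objPreimage K
    let e : DerivedCategory.Q.obj C ≅ K := DerivedCategory.Q.objObjPreimageIso K
    haveI := hsub ⊥ i hi C e
    let eb : ModuleCat.of R (R ⧸ (⊥ : Ideal R)) ≅ ModuleCat.of R R :=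
      (Submodule.quotEquivOfEqBot (⊥ : Ideal R) rfl).toModuleIso
    obtain ⟨eH⟩ := hd_iso e i
    exact ((isZero_homology C
      (((DerivedCategory.singleFunctor (ModuleCat.{u} R) i).mapIso eb).homFromEquiv).symm.subsingleton)).of_iso eH
  haveI : K.IsGE a := (DerivedCategory.isGE_iff K a).2 fun i hi => hH i (Or.inl hi)
  obtain ⟨C₀, hC₀, ⟨e₀⟩⟩ := DerivedCategory.exists_iso_Q_obj_of_isGE K a
  obtain ⟨C, φ, hφ, hinj, hC⟩ := CochainComplex.Plus.modelCategoryQuillen.exists_quasiIso_injective C₀ a
  haveI := hφ; haveI := hinj; haveI := hC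
  haveI : C.IsKInjective := CochainComplex.isKInjective_of_injective C a
  let e : DerivedCategory.Q.obj C ≅ K := (asIso (DerivedCategory.Q.map φ)).symm ≪≫ e₀.symm
  haveI : C.IsLE b := (CochainComplex.isLE_iff C b).2 fun i hi => by
    rw [HomologicalComplex.exactAt_iff_isZero_homology]
    obtain ⟨eH⟩ := hd_iso e i
    exact (hH i (Or.inr hi)).of_iso eH.symm
  haveI hcyc : Module.Injective R (C.cycles b) := by
    refine Module.Baer.injective (fun I f => ?_)
    haveI : Module.Injective R (C.X b) := (Module.injective_iff_injective_object R _).2 (hinj b)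
    obtain ⟨g, hg⟩ := (Module.Baer.of_injective (R := R) (Q := C.X b) inferInstance).extension_property
      I.subtype (Submodule.injective_subtype I) ((C.iCycles b).hom ∘ₗ f)
    have hker : I ≤ LinearMap.ker ((C.d b (b + 1)).hom ∘ₗ g) := fun x hx => by
      have h1 := LinearMap.congr_fun hg ⟨x, hx⟩
      simp only [LinearMap.comp_apply, Submodule.subtype_apply] at h1
      rw [LinearMap.mem_ker, LinearMap.comp_apply, h1]
      exact ConcreteCategory.congr_hom (C.iCycles_d b (b + 1)) (f ⟨x, hx⟩)
    let f₁ : ModuleCat.of R (R ⧸ I) ⟶ C.X (b + 1) := ModuleCat.ofHom (Submodule.liftQ I _ hker)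
    have hf₁ : f₁ ≫ C.d (b + 1) (b + 1 + 1) = 0 := ModuleCat.hom_ext (Submodule.linearMap_qext _
      (LinearMap.ext fun r => ConcreteCategory.congr_hom (C.d_comp_d b (b + 1) (b + 1 + 1)) (g r)))
    obtain ⟨k, hk⟩ := exists_factor C b rfl f₁ hf₁ (Or.inl inferInstance)
      (hsub I (b + 1) (Or.inr (by omega)) C e)
    let g' : ModuleCat.of R R ⟶ C.X b := ModuleCat.ofHom (g - k.hom ∘ₗ I.mkQ)
    have hg' : g' ≫ C.d b (b + 1) = 0 := ModuleCat.hom_ext (LinearMap.ext fun r => by
      have h1 := ConcreteCategory.congr_hom hk (Submodule.Quotient.mk r : R ⧸ I)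
      change (C.d b (b + 1)).hom (g r - k.hom (Submodule.Quotient.mk r)) = 0
      rw [map_sub, sub_eq_zero]
      exact (Submodule.liftQ_apply I ((C.d b (b + 1)).hom ∘ₗ g) r).symm.trans h1.symm)
    refine ⟨(C.liftCycles g' (b + 1) (by simp) hg').hom, fun x hx => ?_⟩
    apply (ModuleCat.mono_iff_injective (C.iCycles b)).1 inferInstance
    have h1 := ConcreteCategory.congr_hom (C.liftCycles_i g' (b + 1) (by simp) hg') x
    refine h1.trans ?_
    change g x - k.hom (Submodule.Quotient.mk x) = _
    rw [(Submodule.Quotient.mk_eq_zero I).2 hx, map_zero, sub_zero]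
    exact LinearMap.congr_fun hg ⟨x, hx⟩
  let emb := ComplexShape.embeddingUpIntLE b
  haveI : QuasiIso (C.ιTruncLE b) := ⟨fun i => by
    rcases le_or_gt i b with hi | hi
    · exact C.quasiIsoAt_ιTruncLE b i hi
    · rw [quasiIsoAt_iff_exactAt']
      · exact CochainComplex.exactAt_of_isLE _ b i hi
      · exact CochainComplex.exactAt_of_isLE _ b i hi⟩
  refine ⟨C.truncLE b, fun i hi => ?_, fun i => ?_,
    ⟨asIso (DerivedCategory.Q.map (C.ιTruncLE b)) ≪≫ e⟩⟩
  · rcases hi with hi | hi
    · rcases lt_or_ge b i with hib | hib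
      · exact CochainComplex.isZero_of_isStrictlyLE _ b i hib
      obtain ⟨n, rfl⟩ : ∃ n : ℕ, b - n = i := ⟨(b - i).toNat, by omega⟩
      rcases Nat.eq_zero_or_pos n with rfl | hn
      · refine IsZero.of_iso ?_ (HomologicalComplex.truncLEXIsoCycles C emb (i := 0) rfl
          ((ComplexShape.boundaryLE_embeddingUpIntLE_iff b 0).2 rfl))
        exact IsZero.of_mono (C.iCycles (b - (0 : ℕ))) (C.isZero_of_isStrictlyGE a _ hi)
      · exact (C.isZero_of_isStrictlyGE a _ hi).of_iso (HomologicalComplex.truncLEXIso C emb (i := n) rfl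
          (fun hb => by have := (ComplexShape.boundaryLE_embeddingUpIntLE_iff b n).1 hb; omega))
    · exact CochainComplex.isZero_of_isStrictlyLE _ b i hi
  · rcases lt_or_ge b i with hib | hib
    · rw [Module.injective_iff_injective_object]
      exact Injective.of_iso (CochainComplex.isZero_of_isStrictlyLE (C.truncLE b) b i hib).isoZero.symm inferInstance
    obtain ⟨n, rfl⟩ : ∃ n : ℕ, b - n = i := ⟨(b - i).toNat, by omega⟩
    rw [Module.injective_iff_injective_object]
    rcases Nat.eq_zero_or_pos n with rfl | hn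
    · have hf : Injective (C.cycles (b - (0 : ℕ))) := by
        rw [Nat.cast_zero, sub_zero]; exact (Module.injective_iff_injective_object R _).1 hcyc
      exact Injective.of_iso (HomologicalComplex.truncLEXIsoCycles C emb (i := 0) rfl
        ((ComplexShape.boundaryLE_embeddingUpIntLE_iff b 0).2 rfl)).symm hf
    · exact Injective.of_iso (HomologicalComplex.truncLEXIso C emb (i := n) rfl
        (fun hb => by have := (ComplexShape.boundaryLE_embeddingUpIntLE_iff b n).1 hb; omega)).symm
        (hinj _)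

theorem tfae (K : Dual.D R) (a b : ℤ) :
    [DRing.HasInjAmplitudeIn R a b K,
      ∀ (N : Type u) [AddCommGroup N] [Module R N] (i : ℤ), (i < a ∨ b < i) →
        Subsingleton (DRing.ExtD R (Dual.inD R N) K i),
      ∀ (I : Ideal R) (i : ℤ), (i < a ∨ b < i) → Subsingleton (DRing.ExtD R (Dual.inD R (R ⧸ I)) K i)].TFAE := by
  tfae_have 1 → 2 := fun ⟨E, hz, hE, ⟨e⟩⟩ N _ _ i hi => ext_subsingleton hz hE e (ModuleCat.of R N) i hi
  tfae_have 2 → 3 := fun h I i hi => h (R ⧸ I) i hi
  tfae_have 3 → 1 := hasInjAmplitudeIn_of_quotient K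
  tfae_finish

end Groth.Agent.H9Misc.DRingInjAmp
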