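import Mathlib
import Groth.Agent.H9Misc.DRingPC

/-! Finite injective dimension: dévissage. -/

set_option linter.style.haveILetI false

universe u

open CategoryTheory CategoryTheory.Category CategoryTheory.Limits
open CategoryTheory.Pretriangulated

attribute [local instance] HasDerivedCategory.standard

namespace Groth.Agent.H9Misc.DRingInjDim

open DRingTor
open scoped ZeroObject

variable {A : Type u} [CommRing A]

lemma of_iso {K L : Dual.D A} (e : K ≅ L) (h : DRing.HasFiniteInjDim A K) :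
    DRing.HasFiniteInjDim A L :=
  let ⟨a, b, E, hz, hf, ⟨e'⟩⟩ := h
  ⟨a, b, E, hz, hf, ⟨e' ≪≫ e⟩⟩

lemma shift {K : Dual.D A} (h : DRing.HasFiniteInjDim A K) (n : ℤ) :
    DRing.HasFiniteInjDim A (K⟦n⟧) := by
  obtain ⟨a, b, E, hz, hf, ⟨e⟩⟩ := h
  refine ⟨a - n, b - n, E⟦n⟧, fun i hi => ?_, fun i => ?_,
    ⟨(DerivedCategory.Q.commShiftIso n).app E ≪≫ (shiftFunctor (Dual.D A) n).mapIso e⟩⟩
  · obtain ⟨eX⟩ := shiftX_iso E n i
    exact (hz (i + n) (by omega)).of_iso eX
  · obtain ⟨eX⟩ := shiftX_iso E n i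
    haveI := (Module.injective_iff_injective_object A _).1 (hf (i + n))
    exact (Module.injective_iff_injective_object A _).2 (Injective.of_iso eX.symm inferInstance)

lemma lift_to_injective {K L : DRing.Cx A} [L.IsKInjective]
    (f : toD'.obj K ⟶ toD'.obj L) : ∃ ψ : K ⟶ L, DerivedCategory.Q.map ψ = f := by
  let e := DerivedCategory.quotientCompQhIso (ModuleCat.{u} A)
  obtain ⟨g, hg⟩ := (CochainComplex.IsKInjective.Qh_map_bijective
    ((HomotopyCategory.quotient _ _).obj K) L).2 (e.hom.app K ≫ f ≫ e.inv.app L)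
  obtain ⟨ψ, rfl⟩ := (HomotopyCategory.quotient _ _).map_surjective g
  refine ⟨ψ, ?_⟩
  have h := e.hom.naturality ψ
  simp only [Functor.comp_map, hg, Category.assoc, Iso.inv_hom_id_app, Category.comp_id] at h
  exact (cancel_epi (e.hom.app K)).1 h.symm

lemma obj₃ {T : Triangle (Dual.D A)} (hT : T ∈ distinguishedTriangles)
    (h₁ : DRing.HasFiniteInjDim A T.obj₁) (h₂ : DRing.HasFiniteInjDim A T.obj₂) :
    DRing.HasFiniteInjDim A T.obj₃ := by
  obtain ⟨a₁, b₁, E₁, hz₁, hf₁, ⟨e₁⟩⟩ := h₁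
  obtain ⟨a₂, b₂, E₂, hz₂, hf₂, ⟨e₂⟩⟩ := h₂
  haveI : CochainComplex.IsStrictlyGE E₂ a₂ :=
    (CochainComplex.isStrictlyGE_iff E₂ a₂).2 fun i hi => hz₂ i (Or.inl hi)
  haveI : ∀ n, Injective (E₂.X n) := fun n => (Module.injective_iff_injective_object A _).1 (hf₂ n)
  haveI : E₂.IsKInjective := CochainComplex.isKInjective_of_injective E₂ a₂
  haveI : ∀ n, Injective (E₁.X n) := fun n => (Module.injective_iff_injective_object A _).1 (hf₁ n)
  obtain ⟨ψ, hψ⟩ := lift_to_injective (e₁.hom ≫ T.mor₁ ≫ e₂.inv)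
  obtain ⟨e, -, -⟩ := exists_iso_of_arrow_iso _ _
    (DerivedCategory.mappingCone_triangle_distinguished ψ) hT
    (Arrow.isoMk e₁ e₂ (by
      show e₁.hom ≫ T.mor₁ = DerivedCategory.Q.map ψ ≫ e₂.hom
      rw [hψ]
      simp))
  refine ⟨min (a₁ - 1) a₂, max (b₁ - 1) b₂, CochainComplex.mappingCone ψ, fun i hi => ?_,
    fun i => ?_, ⟨Triangle.π₃.mapIso e⟩⟩
  · haveI : HasBinaryBiproduct (E₁.X (i + 1)) (E₂.X i) := inferInstance
    refine IsZero.of_iso ?_ (HomologicalComplex.homotopyCofiber.XIsoBiprod ψ i (i + 1) rfl)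
    rw [IsZero.iff_id_eq_zero]
    refine biprod.hom_ext _ _ ?_ ?_
    · exact (hz₁ (i + 1) (by omega)).eq_of_tgt _ _
    · exact (hz₂ i (by omega)).eq_of_tgt _ _
  · haveI : HasBinaryBiproduct (E₁.X (i + 1)) (E₂.X i) := inferInstance
    exact (Module.injective_iff_injective_object A _).2 (Injective.of_iso
      (HomologicalComplex.homotopyCofiber.XIsoBiprod ψ i (i + 1) rfl).symm inferInstance)

lemma obj₂ (T : Triangle (Dual.D A)) (hT : T ∈ distinguishedTriangles)
    (h₁ : DRing.HasFiniteInjDim A T.obj₁) (h₃ : DRing.HasFiniteInjDim A T.obj₃) :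
    DRing.HasFiniteInjDim A T.obj₂ :=
  obj₃ (inv_rot_of_distTriang _ hT) (shift h₃ (-1)) h₁

lemma of_isZero {K : Dual.D A} (h : IsZero K) : DRing.HasFiniteInjDim A K := by
  have hz : ∀ i, IsZero ((0 : DRing.Cx A).X i) := fun i =>
    (HomologicalComplex.eval _ _ i).map_isZero (isZero_zero _)
  refine ⟨0, 0, 0, fun i _ => hz i, fun i => ?_, ⟨IsZero.iso (toD'.map_isZero (isZero_zero _)) h⟩⟩
  exact (Module.injective_iff_injective_object A _).2 (Injective.of_iso (hz i).isoZero.symm inferInstance)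

lemma isZero_toD {K : DRing.Cx A} (h : ∀ i, IsZero (K.homology i)) : IsZero (toD'.obj K) := by
  have hz : ∀ i, IsZero ((0 : DRing.Cx A).homology i) := fun i =>
    (HomologicalComplex.homologyFunctor _ _ i).map_isZero (isZero_zero _)
  haveI : QuasiIso (0 : K ⟶ (0 : DRing.Cx A)) := ⟨fun i => by
    rw [quasiIsoAt_iff_isIso_homologyMap]
    exact ⟨⟨0, (h i).eq_of_src _ _, (hz i).eq_of_src _ _⟩⟩⟩
  exact (toD'.map_isZero (isZero_zero _)).of_iso (asIso (DerivedCategory.Q.map (0 : K ⟶ (0 : DRing.Cx A))))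

lemma single_of_inD (M : ModuleCat.{u} A) (h : DRing.HasFiniteInjDim A (Dual.inD A M)) (i : ℤ) :
    DRing.HasFiniteInjDim A ((DerivedCategory.singleFunctor (ModuleCat.{u} A) i).obj M) :=
  of_iso (DRingPC.singleShiftIso i M) (shift h (-i))

theorem of_terms (K : DRing.Cx A) (a b : ℤ) (hz : DRing.VanishesOutside K a b)
    (h : ∀ i : ℤ, DRing.HasFiniteInjDim A (Dual.inD A (K.X i))) :
    DRing.HasFiniteInjDim A (DRing.toD K) :=
  DRingDesc.of_terms (DRing.HasFiniteInjDim A) of_iso obj₂ a (b + 1 - a).toNat b (by omega) K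
    (fun i hi => hz i (Or.inr hi)) (fun i _ _ => single_of_inD _ (h i) i)
    fun K' hK' hsub => of_isZero (Functor.map_isZero toD' ((IsZero.iff_id_eq_zero K').2
      (HomologicalComplex.hom_ext _ _ fun i => (show IsZero (K'.X i) from (lt_or_ge i a).elim
        (fun hi => hsub i (hz i (Or.inl hi))) (hK' i)).eq_of_src _ _)))

theorem of_homology (K : Dual.D A) (a b : ℤ)
    (hz : ∀ i, (i < a ∨ b < i) → Subsingleton (Dual.HD A K i))
    (h : ∀ i : ℤ, DRing.HasFiniteInjDim A (Dual.inD A (Dual.HD A K i))) :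
    DRing.HasFiniteInjDim A K := by
  let P := DerivedCategory.Q.objPreimage K
  let e : DerivedCategory.Q.obj P ≅ K := DerivedCategory.Q.objObjPreimageIso K
  have hzP : ∀ i, (i < a ∨ b < i) → IsZero (P.homology i) := fun i hi => by
    obtain ⟨eH⟩ := hd_iso e i
    exact (DRingCompl.isZ (hz i hi)).of_iso eH.symm
  refine of_iso e (DRingDesc.of_homology (DRing.HasFiniteInjDim A) of_iso obj₂ a
    (b + 1 - a).toNat b (by omega) P (fun i hi => hzP i (Or.inr hi)) (fun i _ _ => ?_)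
    fun K' hK' hsub => of_isZero (isZero_toD fun i => (lt_or_ge i a).elim
      (fun hi => hsub i (hzP i (Or.inl hi))) (hK' i)))
  obtain ⟨eH⟩ := hd_iso e i
  exact of_iso ((DerivedCategory.singleFunctor (ModuleCat.{u} A) i).mapIso eH)
    (single_of_inD (ModuleCat.of A (Dual.HD A K i)) (h i) i)

end Groth.Agent.H9Misc.DRingInjDim
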