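import Groth.Agent.H9Misc.DRingLTensor
import Groth.Agent.H9Misc.DRingTel
import Mathlib.Algebra.Homology.DerivedCategory.Linear
import Mathlib.Algebra.Homology.DerivedCategory.ShortExact
import Mathlib.Algebra.Module.Torsion.Basic
import Mathlib.Algebra.Homology.ShortComplex.Linear

/-! Derived Nakayama for derived complete complexes. -/

set_option linter.style.haveILetI false

universe u w v

open CategoryTheory CategoryTheory.Category CategoryTheory.Limits MonoidalCategory
open CategoryTheory.Pretriangulated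

attribute [local instance] HasDerivedCategory.standard

namespace Groth.Agent.H9Misc.DRingNakayama

section generic

variable {D : Type w} [Category.{v} D] [Preadditive D] [HasZeroObject D] [HasShift D ℤ]
  [∀ n : ℤ, (shiftFunctor D n).Additive] [Pretriangulated D]
  {A : Type u} [CommRing A] [Linear A D] [∀ n : ℤ, Functor.Linear A (shiftFunctor D n)]

/-- Some power of every element of `l` kills `X`. -/
def Tors (l : List A) (X : D) : Prop := ∀ f ∈ l, ∃ k : ℕ, f ^ k • 𝟙 X = 0

/-- Left orthogonal to all shifts of `X`. -/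
def LOrth (X Y : D) : Prop := ∀ n : ℤ, Subsingleton (Y ⟶ X⟦n⟧)

lemma smul_hom_eq_zero {X : D} {s : A} (h : s • 𝟙 X = 0) {Y : D} (g : Y ⟶ X) : s • g = 0 := by
  rw [← comp_id g, ← Linear.comp_smul, h, comp_zero]

lemma smul_shift_eq_zero {X : D} {s : A} (h : s • 𝟙 X = 0) (n : ℤ) : s • 𝟙 (X⟦n⟧) = 0 := by
  rw [← (shiftFunctor D n).map_id, ← (shiftFunctor D n).map_smul, h, Functor.map_zero]

lemma lOrth_iso {X Y Y' : D} (e : Y ≅ Y') (h : LOrth X Y) : LOrth X Y' := fun n =>
  ⟨fun a b => (cancel_epi e.hom).1 ((h n).elim _ _)⟩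

lemma lOrth_shift {X Y : D} (h : LOrth X Y) (a : ℤ) : LOrth X (Y⟦a⟧) := fun n => by
  have := h (n + (-a))
  refine ⟨fun p q => ?_⟩
  have key : ∀ r : Y⟦a⟧ ⟶ X⟦n⟧, r⟦-a⟧' = 0 := fun r => by
    let e₁ : (Y⟦a⟧)⟦-a⟧ ≅ Y := (shiftFunctorCompIsoId D a (-a) (add_neg_cancel a)).app Y
    let e₂ : (X⟦n⟧)⟦-a⟧ ≅ X⟦n + -a⟧ := ((shiftFunctorAdd D n (-a)).app X).symm
    have : e₁.inv ≫ r⟦-a⟧' ≫ e₂.hom = 0 := Subsingleton.elim _ _
    rwa [Iso.inv_comp_eq, comp_zero, ← cancel_mono e₂.inv, assoc, Iso.hom_inv_id, comp_id,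
      zero_comp] at this
  exact (shiftFunctor D (-a)).map_injective ((key p).trans (key q).symm)

lemma lOrth_mor₁ {X : D} (T : Triangle D) (hT : T ∈ distTriang D) (h₃ : LOrth X T.obj₃)
    {n : ℤ} {g : T.obj₂ ⟶ X⟦n⟧} (h : T.mor₁ ≫ g = 0) : g = 0 := by
  obtain ⟨g', rfl⟩ := Triangle.yoneda_exact₂ T hT g h
  rw [(h₃ n).elim g' 0, comp_zero]

lemma mor₂_injective {X : D} (T : Triangle D) (hT : T ∈ distTriang D) (h₁ : LOrth X T.obj₁)
    {n : ℤ} {g : T.obj₃ ⟶ X⟦n⟧} (h : T.mor₂ ≫ g = 0) : g = 0 := by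
  obtain ⟨g', rfl⟩ := Triangle.yoneda_exact₃ T hT g h
  rw [(lOrth_shift h₁ 1 n).elim g' 0, comp_zero]

lemma cone_killed {X C : D} {f s : A} {j : X ⟶ C} {δ : C ⟶ X⟦(1 : ℤ)⟧}
    (hT : Triangle.mk (f • 𝟙 X) j δ ∈ distTriang D) (h : s • j = 0) (h' : s • δ = 0) :
    s ^ 2 • 𝟙 C = 0 := by
  have h1 : (s • 𝟙 C) ≫ δ = 0 := by rw [Linear.smul_comp, id_comp]; exact h'
  obtain ⟨α, hα⟩ := Triangle.coyoneda_exact₃ _ hT (s • 𝟙 C) h1
  change s • 𝟙 C = α ≫ j at hα
  rw [pow_two, mul_smul, hα, ← Linear.comp_smul]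
  exact (congrArg (fun q => α ≫ q) h).trans comp_zero

end generic

variable {A : Type u} [CommRing A]

instance homologyFunctor_linear (i : ℤ) :
    Functor.Linear A (DerivedCategory.homologyFunctor (ModuleCat.{u} A) i) := by
  haveI : Functor.Linear A (HomologicalComplex.homologyFunctor (ModuleCat.{u} A) (ComplexShape.up ℤ) i) :=
    ⟨fun φ r => ShortComplex.homologyMap_smul
      ((HomologicalComplex.shortComplexFunctor (ModuleCat.{u} A) (ComplexShape.up ℤ) i).map φ) r⟩
  let _ : Localization.Lifting (DerivedCategory.Q (C := ModuleCat.{u} A))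
      (HomologicalComplex.quasiIso (ModuleCat.{u} A) (ComplexShape.up ℤ))
      (HomologicalComplex.homologyFunctor (ModuleCat.{u} A) (ComplexShape.up ℤ) i)
      (DerivedCategory.homologyFunctor (ModuleCat.{u} A) i) :=
    ⟨DerivedCategory.homologyFunctorFactors (ModuleCat.{u} A) i⟩
  exact (Localization.functor_linear_iff (DerivedCategory.Q (C := ModuleCat.{u} A))
    (HomologicalComplex.quasiIso (ModuleCat.{u} A) (ComplexShape.up ℤ)) A
    (HomologicalComplex.homologyFunctor (ModuleCat.{u} A) (ComplexShape.up ℤ) i)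
    (DerivedCategory.homologyFunctor (ModuleCat.{u} A) i)).1 inferInstance

lemma isZero_of_homology {X : Dual.D A}
    (h : ∀ i, IsZero ((DerivedCategory.homologyFunctor (ModuleCat.{u} A) i).obj X)) : IsZero X := by
  have : IsIso (0 : X ⟶ X) := (DerivedCategory.isIso_iff _ _).2 fun i =>
    ⟨0, (h i).eq_of_src _ _, (h i).eq_of_src _ _⟩
  exact (IsZero.iff_id_eq_zero X).2 ((IsIso.hom_inv_id (0 : X ⟶ X)).symm.trans zero_comp)

variable (P : CochainComplex (ModuleCat.{u} A) ℤ)

/-- `N ↦ P ⊗ N`. -/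
noncomputable def G : ModuleCat.{u} A ⥤ CochainComplex (ModuleCat.{u} A) ℤ where
  obj N := (DRingLTensor.tensC N).obj P
  map g := (NatTrans.mapHomologicalComplex ((tensoringRight (ModuleCat.{u} A)).map g)
    (ComplexShape.up ℤ)).app P
  map_id N := by ext n : 1; exact MonoidalCategory.whiskerLeft_id _ _
  map_comp f g := by ext n : 1; exact MonoidalCategory.whiskerLeft_comp _ _ _

instance : (G P).Additive where
  map_add := by intros; ext n : 1; exact MonoidalPreadditive.whiskerLeft_add ..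

instance : Functor.Linear A (G P) where
  map_smul := fun f r => by ext n : 1; exact MonoidalLinear.whiskerLeft_smul _ r f

/-- `N ↦ Q (P ⊗ N)`. -/
noncomputable abbrev GD : ModuleCat.{u} A ⥤ Dual.D A := G P ⋙ DerivedCategory.Q

lemma shortExact_map (hP : ∀ n, Module.Flat A (P.X n)) {S : ShortComplex (ModuleCat.{u} A)}
    (hS : S.ShortExact) : (S.map (G P)).ShortExact := by
  refine HomologicalComplex.shortExact_of_degreewise_shortExact _ fun n => ?_
  have := hP n
  have hex := (ShortComplex.ShortExact.moduleCat_exact_iff_function_exact _).1 hS.exact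
  have hi : Mono ((S.map (G P)).map (HomologicalComplex.eval (ModuleCat.{u} A) (ComplexShape.up ℤ) n)).f :=
    (ModuleCat.mono_iff_injective _).2 (Module.Flat.lTensor_preserves_injective_linearMap S.f.hom
      hS.moduleCat_injective_f)
  have hp : Epi ((S.map (G P)).map (HomologicalComplex.eval (ModuleCat.{u} A) (ComplexShape.up ℤ) n)).g :=
    (ModuleCat.epi_iff_surjective _).2 (LinearMap.lTensor_surjective (P.X n) hS.moduleCat_surjective_g)
  exact ShortComplex.ShortExact.mk'
    ((ShortComplex.ShortExact.moduleCat_exact_iff_function_exact _).2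
      (lTensor_exact (P.X n) hex hS.moduleCat_surjective_g)) hi hp

variable {P}

lemma isZero_GD (I : Ideal A) (hK : DRingLTensor.IsKF P)
    (h : ((G P).obj (ModuleCat.of A (A ⧸ I))).Acyclic) (N : ModuleCat.{u} A)
    (hN : ∀ (f : A), f ∈ I → ∀ x : N, f • x = 0) : IsZero ((GD P).obj N) := by
  let φ := algebraMap A (A ⧸ I)
  have hts : Module.IsTorsionBySet A N (I : Set A) := fun x a => hN a.1 a.2 x
  letI : Module (A ⧸ I) N := hts.module
  haveI : IsScalarTower A (A ⧸ I) N := hts.isScalarTower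
  let N' : ModuleCat.{u} (A ⧸ I) := ModuleCat.of (A ⧸ I) N
  let eN : (ModuleCat.restrictScalars φ).obj N' ≅ N := LinearEquiv.toModuleIso
    (m₁ := ((ModuleCat.restrictScalars φ).obj N').isModule) (m₂ := N.isModule)
    { toFun := fun x => x, invFun := fun x => x, map_add' := fun _ _ => rfl
      map_smul' := fun r x => algebraMap_smul (A ⧸ I) r (show N from x)
      left_inv := fun _ => rfl, right_inv := fun _ => rfl }
  let eB : (ModuleCat.restrictScalars φ).obj (ModuleCat.of (A ⧸ I) (A ⧸ I)) ≅ ModuleCat.of A (A ⧸ I) :=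
    LinearEquiv.toModuleIso
    (m₁ := ((ModuleCat.restrictScalars φ).obj (ModuleCat.of (A ⧸ I) (A ⧸ I))).isModule)
    (m₂ := (ModuleCat.of A (A ⧸ I)).isModule)
    { toFun := fun x => x, invFun := fun x => x, map_add' := fun _ _ => rfl
      map_smul' := fun r x => algebraMap_smul (A ⧸ I) r (show A ⧸ I from x)
      left_inv := fun _ => rfl, right_inv := fun _ => rfl }
  have h' := DRingLTensor.acyclic_tensC_restrict φ hK
    (fun i => (h i).of_iso ((G P).mapIso eB.symm)) N'
  have h'' : ((G P).obj N).Acyclic := fun i => (h' i).of_iso ((G P).mapIso eN)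
  refine isZero_of_homology ?_
  exact fun n => ((HomologicalComplex.exactAt_iff_isZero_homology _ n).1 (h'' n)).of_iso
    ((DerivedCategory.homologyFunctorFactors (ModuleCat.{u} A) n).app ((G P).obj N))

/-- Complexes killed by `- ⊗ A/I` do not map to `I`-torsion objects. -/
lemma lOrth_GD (I : Ideal A) (hK : DRingLTensor.IsKF P) (hflat : ∀ n, Module.Flat A (P.X n))
    (h : ((G P).obj (ModuleCat.of A (A ⧸ I))).Acyclic) :
    ∀ (l₁ l₂ : List A), I ≤ Ideal.ofList (l₁ ++ l₂) → ∀ (N : ModuleCat.{u} A) (X : Dual.D A),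
      (∀ f ∈ l₂, ∀ x : N, f • x = 0) → Tors l₁ X → LOrth X ((GD P).obj N) := by
  intro l₁
  induction l₁ with
  | nil =>
    intro l₂ hI N X hN _ n
    have hz : IsZero ((GD P).obj N) := isZero_GD I hK h N fun f hf x => by
      refine Submodule.mem_annihilator.1 (?_ : f ∈ (⊤ : Submodule A N).annihilator) x trivial
      refine (Ideal.span_le.2 fun g hg => ?_) (hI hf)
      exact Submodule.mem_annihilator.2 fun y _ => hN g hg y
    exact ⟨fun a b => hz.eq_of_src a b⟩
  | cons f l₁ ih =>
    intro l₂ hI N X hN hX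
    have hI' : I ≤ Ideal.ofList (l₁ ++ f :: l₂) := hI.trans (le_of_eq (congrArg Ideal.span (by
      ext; simp only [List.mem_append, List.mem_cons, Set.mem_ofPred_eq]; tauto)))
    have hX' : Tors l₁ X := fun g hg => hX g (List.mem_cons_of_mem _ hg)
    let m : N →ₗ[A] N := f • LinearMap.id
    let R := LinearMap.range m
    let S₁ : ShortComplex (ModuleCat.{u} A) :=
      ShortComplex.mk (ModuleCat.ofHom (LinearMap.ker m).subtype) (ModuleCat.ofHom m.rangeRestrict)
        (ModuleCat.hom_ext (LinearMap.ext fun x => Subtype.ext x.2))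
    let S₂ : ShortComplex (ModuleCat.{u} A) :=
      ShortComplex.mk (ModuleCat.ofHom R.subtype) (ModuleCat.ofHom R.mkQ)
        (ModuleCat.hom_ext (LinearMap.ext fun x => (Submodule.Quotient.mk_eq_zero _).2 x.2))
    have h₁ : S₁.ShortExact :=
      { exact := (ShortComplex.ShortExact.moduleCat_exact_iff_function_exact _).2 fun y =>
          ⟨fun hy => ⟨⟨y, congrArg Subtype.val hy⟩, rfl⟩, by rintro ⟨x, rfl⟩; exact Subtype.ext x.2⟩
        mono_f := (ModuleCat.mono_iff_injective _).2 Subtype.val_injective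
        epi_g := (ModuleCat.epi_iff_surjective _).2 m.surjective_rangeRestrict }
    have h₂ : S₂.ShortExact :=
      { exact := (ShortComplex.ShortExact.moduleCat_exact_iff_function_exact _).2 fun y =>
          ⟨fun hy => ⟨⟨y, (Submodule.Quotient.mk_eq_zero _).1 hy⟩, rfl⟩, by
            rintro ⟨x, rfl⟩; exact (Submodule.Quotient.mk_eq_zero _).2 x.2⟩
        mono_f := (ModuleCat.mono_iff_injective _).2 Subtype.val_injective
        epi_g := (ModuleCat.epi_iff_surjective _).2 R.mkQ_surjective }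
    have o₁ : LOrth X ((GD P).obj S₁.X₁) := ih (f :: l₂) hI' _ _ (fun g hg x => by
      rcases List.mem_cons.1 hg with rfl | hg
      · exact Subtype.ext x.2
      · exact Subtype.ext (hN g hg x.1)) hX'
    have o₃ : LOrth X ((GD P).obj S₂.X₃) := ih (f :: l₂) hI' _ _ (fun g hg x => by
      obtain ⟨x, rfl⟩ := R.mkQ_surjective x
      change g • Submodule.Quotient.mk x = (0 : N ⧸ R)
      rw [← Submodule.Quotient.mk_smul, Submodule.Quotient.mk_eq_zero]
      rcases List.mem_cons.1 hg with rfl | hg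
      · exact ⟨x, rfl⟩
      · rw [hN g hg x]; exact R.zero_mem) hX'
    have hS₁ := shortExact_map P hflat h₁
    have hS₂ := shortExact_map P hflat h₂
    have hT₁ := DerivedCategory.triangleOfSES_distinguished hS₁
    have hT₂ := DerivedCategory.triangleOfSES_distinguished hS₂
    have key : ∀ {n : ℤ} (g : (GD P).obj N ⟶ X⟦n⟧), f • g = 0 → g = 0 := by
      intro n g hg
      refine lOrth_mor₁ _ hT₂ o₃ (g := g) ?_
      refine mor₂_injective _ hT₁ o₁ (n := n) ?_
      show (GD P).map S₁.g ≫ (GD P).map S₂.f ≫ g = 0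
      rw [← assoc, ← (GD P).map_comp]
      have hm : S₁.g ≫ S₂.f = f • 𝟙 N := rfl
      rw [hm, Functor.map_smul, CategoryTheory.Functor.map_id, Linear.smul_comp, id_comp]
      exact hg
    intro n
    obtain ⟨k, hk⟩ := hX f List.mem_cons_self
    refine subsingleton_of_forall_eq 0 fun g => ?_
    have hg : f ^ k • g = 0 := smul_hom_eq_zero (smul_shift_eq_zero hk n) g
    clear hk
    induction k with
    | zero => simpa using hg
    | succ k ihk =>
      refine ihk (key _ ?_)
      rw [smul_smul, ← pow_succ']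
      exact hg

lemma lOrth_of_ltensor (I : Ideal A) (l : List A) (hl : I ≤ Ideal.ofList l)
    [DRing.HasLTensor A (ModuleCat.of A (A ⧸ I))] (K : Dual.D A)
    (h0 : IsZero ((DRing.LTensor A (ModuleCat.of A (A ⧸ I))).obj K)) (X : Dual.D A)
    (hX : Tors l X) : LOrth X K := by
  obtain ⟨P, hP, hflat, ⟨e⟩⟩ := DRingLTensor.exists_rep K
  obtain ⟨eT⟩ := DRingLTensor.nonempty_ltensor_iso (ModuleCat.of A (A ⧸ I)) hP
  have hz : IsZero (DerivedCategory.Q.obj ((DRingLTensor.tensC (ModuleCat.of A (A ⧸ I))).obj P)) :=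
    h0.of_iso (eT.symm ≪≫ (DRing.LTensor A _).mapIso e)
  have ha : ((G P).obj (ModuleCat.of A (A ⧸ I))).Acyclic := fun i =>
    (HomologicalComplex.exactAt_iff_isZero_homology _ i).2
      (((DerivedCategory.homologyFunctor (ModuleCat.{u} A) i).map_isZero hz).of_iso
        ((DerivedCategory.homologyFunctorFactors (ModuleCat.{u} A) i).app _).symm)
  have h := lOrth_GD I hP hflat ha l [] (by rwa [List.append_nil]) (𝟙_ (ModuleCat.{u} A)) X
    (fun f hf => absurd hf List.not_mem_nil) hX
  let eρ : (G P).obj (𝟙_ (ModuleCat.{u} A)) ≅ P :=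
    HomologicalComplex.Hom.isoOfComponents (fun n => ρ_ (P.X n))
      (fun i j _ => (MonoidalCategory.rightUnitor_naturality (P.d i j)).symm)
  exact lOrth_iso (DerivedCategory.Q.mapIso eρ ≪≫ e) h

lemma isDerivedComplete_obj₃ (I : Ideal A) (T : Triangle (Dual.D A)) (hT : T ∈ distTriang _)
    (h₁ : DRing.IsDerivedComplete I T.obj₁) (h₂ : DRing.IsDerivedComplete I T.obj₂) :
    DRing.IsDerivedComplete I T.obj₃ := by
  intro f hf n
  let W := Dual.inD A (Localization.Away f)
  have h := Triangle.shift_distinguished T hT n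
  have hs : Subsingleton (W ⟶ (T.obj₁⟦n⟧)⟦(1 : ℤ)⟧) := by
    have := h₁ f hf (n + 1)
    exact ⟨fun a b => (cancel_mono ((shiftFunctorAdd (Dual.D A) n 1).app T.obj₁).inv).1
      (Subsingleton.elim _ _)⟩
  refine subsingleton_of_forall_eq 0 fun φ => ?_
  obtain ⟨g, hg⟩ := Triangle.coyoneda_exact₃ _ h (show W ⟶ ((Triangle.shiftFunctor _ n).obj T).obj₃ from φ)
    (hs.elim _ _)
  have := (h₂ f hf n).elim g 0
  refine hg.trans ?_
  exact (congrArg (fun q => q ≫ _) this).trans zero_comp

lemma isZero_of_forall_isIso (I : Ideal A) (X : Dual.D A) (hc : DRing.IsDerivedComplete I X) {f : A}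
    (hf : f ∈ I) (h : IsIso (f • 𝟙 X)) : IsZero X := by
  refine isZero_of_homology ?_
  intro i
  let H := (DerivedCategory.homologyFunctor (ModuleCat.{u} A) i).obj X
  have htb : TBMod.TBm (Dual.HD A X i) f := (DRingTel.isDerivedComplete_iff I X).1 hc f hf i
  have hiso : IsIso ((DerivedCategory.homologyFunctor (ModuleCat.{u} A) i).map (f • 𝟙 X)) :=
    inferInstance
  rw [Functor.map_smul, CategoryTheory.Functor.map_id] at hiso
  have hbij : Function.Bijective fun x : H => f • x :=
    (ConcreteCategory.isIso_iff_bijective _).1 hiso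
  let e := Equiv.ofBijective _ hbij
  have : Subsingleton H := subsingleton_of_forall_eq 0 fun x => by
    have hx := htb.eq_zero (fun k => (e.symm)^[k] x) (fun k => by
      rw [Function.iterate_succ_apply']
      exact (e.apply_symm_apply _).symm) 0
    simpa using hx
  exact ModuleCat.isZero_of_subsingleton _

/-- Descent along the generators: torsion is built in one generator at a time. -/
lemma isZero_of_lOrth (I : Ideal A) (l : List A) (hl : ∀ f ∈ l, f ∈ I) :
    ∀ (l₁ l₂ : List A) (Y : Dual.D A), (∀ f, f ∈ l ↔ f ∈ l₁ ∨ f ∈ l₂) → DRing.IsDerivedComplete I Y →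
      Tors l₂ Y → (∀ X : Dual.D A, Tors l X → LOrth X Y) → IsZero Y := by
  intro l₁
  induction l₁ with
  | nil =>
    intro l₂ Y hmem _ hY ho
    have hYl : Tors l Y := fun f hf => hY f ((hmem f).1 hf |>.resolve_left List.not_mem_nil)
    have := ho Y hYl 0
    have e : 𝟙 Y ≫ ((shiftFunctorZero (Dual.D A) ℤ).app Y).inv = 0 := Subsingleton.elim _ _
    rw [IsZero.iff_id_eq_zero]
    rwa [← cancel_mono ((shiftFunctorZero (Dual.D A) ℤ).app Y).inv, zero_comp]
  | cons f l₁ ih =>
    intro l₂ Y hmem hc hY ho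
    obtain ⟨C, j, δ, hT⟩ := distinguished_cocone_triangle (f • 𝟙 Y)
    have hfj : f • j = 0 := by
      rw [← id_comp j, ← Linear.smul_comp]
      exact comp_distTriang_mor_zero₁₂ _ hT
    have hfδ : f • δ = 0 := by
      have hsh : (shiftFunctor (Dual.D A) (1 : ℤ)).map (f • 𝟙 Y) = f • 𝟙 (Y⟦(1 : ℤ)⟧) := by
        rw [Functor.map_smul, CategoryTheory.Functor.map_id]
      have h1 : δ ≫ (shiftFunctor (Dual.D A) (1 : ℤ)).map (f • 𝟙 Y) = 0 :=
        comp_distTriang_mor_zero₃₁ _ hT
      rwa [hsh, Linear.comp_smul, comp_id] at h1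
    have hC : Tors (f :: l₂) C := by
      intro g hg
      rcases List.mem_cons.1 hg with rfl | hg
      · exact ⟨2, cone_killed hT hfj hfδ⟩
      · obtain ⟨k, hk⟩ := hY g hg
        refine ⟨k * 2, ?_⟩
        rw [pow_mul]
        refine cone_killed hT ?_ (smul_hom_eq_zero (smul_shift_eq_zero hk 1) δ)
        rw [← id_comp j, ← Linear.smul_comp, hk, zero_comp]
    have hz : IsZero C := by
      refine ih (f :: l₂) C (fun g => by rw [hmem g]; simp only [List.mem_cons]; tauto)
        (isDerivedComplete_obj₃ I _ hT hc hc) hC fun X hX n => ?_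
      refine subsingleton_of_forall_eq 0 fun g => ?_
      obtain ⟨g', hg'⟩ := Triangle.yoneda_exact₃ _ hT g ((ho X hX n).elim _ _)
      exact hg'.trans ((congrArg (fun q => _ ≫ q) ((lOrth_shift (ho X hX) 1 n).elim g' 0)).trans
        comp_zero)
    exact isZero_of_forall_isIso I Y hc (hl f ((hmem f).2 (Or.inl List.mem_cons_self)))
      ((Triangle.isZero₃_iff_isIso₁ _ hT).1 hz)

/-- Derived Nakayama. -/
theorem isZero_of_isDerivedComplete (I : Ideal A) (hI : I.FG)
    [DRing.HasLTensor A (ModuleCat.of A (A ⧸ I))] (K : Dual.D A) (hc : DRing.IsDerivedComplete I K)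
    (h0 : IsZero ((DRing.LTensor A (ModuleCat.of A (A ⧸ I))).obj K)) : IsZero K := by
  obtain ⟨s, hs⟩ := hI
  have hle : I ≤ Ideal.ofList s.toList := by
    refine le_of_eq (hs.symm.trans (congrArg Ideal.span ?_))
    ext; simp
  refine isZero_of_lOrth I s.toList (fun f hf => hs ▸ Ideal.subset_span (Finset.mem_toList.1 hf))
    s.toList [] K (fun f => ?_) hc (fun f hf => absurd hf List.not_mem_nil)
    (fun X hX => lOrth_of_ltensor I _ hle K h0 X hX)
  simp

end Groth.Agent.H9Misc.DRingNakayama
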