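import Mathlib
import Groth.Prelude.Def_DRing2
import Groth.Agent.PcExt.Basic
import Groth.Agent.TriCat.ResolveOp
import Groth.Agent.H9Misc.DRingTorDevissage

/-! Projective amplitude. -/

set_option linter.style.haveILetI false

universe u

open CategoryTheory CategoryTheory.Category CategoryTheory.Limits
open CategoryTheory.Pretriangulated

attribute [local instance] HasDerivedCategory.standard

namespace Groth.Agent.H9Misc.DRingProjAmp

open DRingTor

variable {R : Type u} [CommRing R]

lemma isZero_of_hd {K : Dual.D R} {n : ℤ} (h : Subsingleton (Dual.HD R K n)) :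
    IsZero ((DerivedCategory.homologyFunctor (ModuleCat.{u} R) n).obj K) :=
  @ModuleCat.isZero_of_subsingleton R _ _ h

lemma isLE_of_hd {K : Dual.D R} {b : ℤ} (h : ∀ n, b < n → Subsingleton (Dual.HD R K n)) :
    K.IsLE b := (DerivedCategory.isLE_iff K b).2 fun i hi => isZero_of_hd (h i hi)

lemma isKProjective {P : DRing.Cx R} {b : ℤ} (hP : ∀ i, Module.Projective R (P.X i))
    (hb : ∀ i, b < i → IsZero (P.X i)) : P.IsKProjective := by
  haveI : P.IsStrictlyLE b := (CochainComplex.isStrictlyLE_iff P b).2 fun i hi => hb i hi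
  haveI : ∀ n : ℤ, Projective (P.X n) := fun n =>
    have := hP n
    (IsProjective.iff_projective (R := R) (P.X n)).1 inferInstance
  exact CochainComplex.isKProjective_of_projective P b

/-- Maps from a complex of projectives in degrees `≥ a` to objects concentrated in degrees `< a`. -/
theorem hom_subsingleton {a b : ℤ} {P : DRing.Cx R} (hz : DRing.VanishesOutside P a b)
    (hP : ∀ i, Module.Projective R (P.X i)) {L K : Dual.D R} (e : DRing.toD P ≅ L)
    (hK : ∀ i : ℤ, a ≤ i → Subsingleton (Dual.HD R K i)) : Subsingleton (L ⟶ K) := by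
  haveI := isKProjective hP fun i hi => hz i (Or.inr hi)
  haveI : K.IsLE (a - 1) := isLE_of_hd fun n hn => hK n (by omega)
  obtain ⟨C, hC, ⟨eC⟩⟩ := DerivedCategory.exists_iso_Q_obj_of_isLE K (a - 1)
  suffices ∀ f : DerivedCategory.Q.obj P ⟶ DerivedCategory.Q.obj C, f = 0 from
    ⟨fun f g => by
      rw [← cancel_epi e.hom, ← cancel_mono eC.hom, this ((e.hom ≫ f) ≫ eC.hom),
        this ((e.hom ≫ g) ≫ eC.hom)]⟩
  intro f
  let q := DerivedCategory.quotientCompQhIso (ModuleCat.{u} R)
  obtain ⟨g, hg⟩ := (CochainComplex.IsKProjective.Qh_map_bijective P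
    ((HomotopyCategory.quotient _ _).obj C)).2 (q.hom.app P ≫ f ≫ q.inv.app C)
  obtain ⟨ψ, rfl⟩ := (HomotopyCategory.quotient _ _).map_surjective g
  have hψ : ψ = 0 := HomologicalComplex.hom_ext _ _ fun i => by
    rcases lt_or_ge i a with hi | hi
    · exact (hz i (Or.inl hi)).eq_of_src _ _
    · exact (C.isZero_of_isStrictlyLE (a - 1) i (by omega)).eq_of_tgt _ _
  rw [hψ, Functor.map_zero, Functor.map_zero] at hg
  rw [← cancel_epi (q.hom.app P), comp_zero, ← cancel_mono (q.inv.app C), zero_comp,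
    Category.assoc]
  exact hg.symm

/-- Triangles split when the connecting map must vanish. -/
theorem triangle_splits {a b : ℤ} {P : DRing.Cx R} (hz : DRing.VanishesOutside P a b)
    (hP : ∀ i, Module.Projective R (P.X i)) (T : Triangle (Dual.D R))
    (hT : T ∈ distinguishedTriangles) (e : DRing.toD P ≅ T.obj₃)
    (hK : ∀ i : ℤ, a + 1 ≤ i → Subsingleton (Dual.HD R T.obj₁ i))
    [HasBinaryBiproduct T.obj₁ T.obj₃] :
    ∃ e : T.obj₂ ≅ T.obj₁ ⊞ T.obj₃, T.mor₁ ≫ e.hom = biprod.inl ∧
      e.hom ≫ biprod.snd = T.mor₂ := by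
  have h : Subsingleton (T.obj₃ ⟶ T.obj₁⟦(1 : ℤ)⟧) := by
    refine hom_subsingleton hz hP e fun i hi => ?_
    exact ModuleCat.subsingleton_of_isZero ((isZero_of_hd (hK (i + 1) (by omega))).of_iso
      (((DerivedCategory.homologyFunctor (ModuleCat.{u} R) 0).shiftIso 1 i (i + 1) (by omega)).app T.obj₁))
  obtain ⟨e', h₁, h₂⟩ := exists_iso_binaryBiproduct_of_distTriang T hT (h.elim _ _)
  exact ⟨e', h₁, h₂.symm⟩

/-- A module in degree `n` as a shift. -/
noncomputable def singleIso (N : ModuleCat.{u} R) (n i : ℤ) (h : n + i = 0) :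
    (Dual.inD R N)⟦i⟧ ≅ (DerivedCategory.singleFunctor (ModuleCat.{u} R) n).obj N :=
  ((CategoryTheory.SingleFunctors.shiftIso (DerivedCategory.singleFunctors (ModuleCat.{u} R))
    i n 0 (by omega)).app N)

/-- If all maps into shifted injective modules vanish, the cohomology vanishes. -/
theorem hd_subsingleton (K : Dual.D R) (n i : ℤ) (h : n + i = 0)
    (hK : ∀ (N : Type u) [AddCommGroup N] [Module R N],
      Subsingleton (DRing.ExtD R K (Dual.inD R N) i)) : Subsingleton (Dual.HD R K n) := by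
  let C := DerivedCategory.Q.objPreimage K
  let e : DerivedCategory.Q.obj C ≅ K := DerivedCategory.Q.objObjPreimageIso K
  let J : ModuleCat.{u} R := Injective.under (C.homology n)
  let ι : C.homology n ⟶ J := Injective.ι _
  let f : C.X n ⟶ J := Injective.factorThru (C.homologyπ n ≫ ι) (C.iCycles n)
  have hf₀ : C.iCycles n ≫ f = C.homologyπ n ≫ ι := Injective.comp_factorThru _ _
  have hf : ∀ j, (ComplexShape.up ℤ).Rel j n → C.d j n ≫ f = 0 := fun j _ => by
    rw [← C.toCycles_i j n, assoc, hf₀, HomologicalComplex.toCycles_comp_homologyπ_assoc, zero_comp]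
  let L : DRing.Cx R := (CochainComplex.singleFunctor (ModuleCat.{u} R) n).obj J
  let g : C ⟶ L := HomologicalComplex.mkHomToSingle f hf
  haveI : CochainComplex.IsStrictlyGE L n := inferInstanceAs
    (CochainComplex.IsStrictlyGE ((CochainComplex.singleFunctor (ModuleCat.{u} R) n).obj J) n)
  haveI : ∀ k, Injective (L.X k) := fun k => by
    rcases eq_or_ne k n with rfl | hk
    · exact Injective.of_iso (HomologicalComplex.singleObjXSelf (ComplexShape.up ℤ) k J).symm inferInstance
    · exact Injective.of_iso (HomologicalComplex.isZero_single_obj_X (ComplexShape.up ℤ) n J k hk).isoZero.symm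
        inferInstance
  haveI : L.IsKInjective := CochainComplex.isKInjective_of_injective L n
  have hsub : Subsingleton (DerivedCategory.Q.obj C ⟶ DerivedCategory.Q.obj L) := by
    haveI := hK J
    let eL : (Dual.inD R J)⟦i⟧ ≅ DerivedCategory.Q.obj L := singleIso J n i h ≪≫
      ((DerivedCategory.singleFunctorIsoCompQ (ModuleCat.{u} R) n).app J)
    exact (e.symm.homCongr eL).symm.subsingleton
  let q := DerivedCategory.quotientCompQhIso (ModuleCat.{u} R)
  have hg : (HomotopyCategory.quotient _ _).map g = 0 := by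
    refine (CochainComplex.IsKInjective.Qh_map_bijective _ L).1 ?_
    rw [Functor.map_zero, ← cancel_mono (q.hom.app L), zero_comp]
    exact (q.hom.naturality g).trans (by rw [hsub.elim (DerivedCategory.Q.map g) 0, comp_zero])
  let H : Homotopy g 0 := HomotopyCategory.homotopyOfEq _ _ (hg.trans (Functor.map_zero _ _ _).symm)
  have hπ : C.homologyπ n ≫ ι = 0 := by
    rw [← hf₀]
    have hc := H.comm n
    rw [dNext_eq _ (show (ComplexShape.up ℤ).Rel n (n + 1) from rfl),
      prevD_eq _ (show (ComplexShape.up ℤ).Rel (n - 1) n by simp)] at hc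
    simp only [g, HomologicalComplex.mkHomToSingle_f, HomologicalComplex.zero_f, add_zero] at hc
    have hd : L.d (n - 1) n = 0 := (HomologicalComplex.isZero_single_obj_X (ComplexShape.up ℤ) n J (n - 1) (by omega)).eq_of_src _ _
    rw [hd, comp_zero, add_zero] at hc
    rw [← cancel_mono (HomologicalComplex.singleObjXSelf (ComplexShape.up ℤ) n J).inv, zero_comp, assoc, hc]
    exact (HomologicalComplex.iCycles_d_assoc C n (n + 1) _).trans zero_comp
  have hι : ι = 0 := by rw [← cancel_epi (C.homologyπ n), hπ, comp_zero]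
  have hz : IsZero (C.homology n) := by
    haveI : Mono (0 : C.homology n ⟶ J) := hι ▸ (inferInstance : Mono ι)
    exact IsZero.of_mono_zero (C.homology n) J
  obtain ⟨eH⟩ := hd_iso e n
  exact ModuleCat.subsingleton_of_isZero (hz.of_iso eH)

/-- (1) ⇒ (2). -/
theorem ext_subsingleton {a b : ℤ} {P : DRing.Cx R} (hz : DRing.VanishesOutside P a b)
    (hP : ∀ i, Module.Projective R (P.X i)) {K : Dual.D R} (e : DRing.toD P ≅ K)
    (N : Type u) [AddCommGroup N] [Module R N] (i : ℤ) (hi : i < -b ∨ -a < i) :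
    Subsingleton (DRing.ExtD R K (Dual.inD R N) i) := by
  haveI := isKProjective hP fun i hi => hz i (Or.inr hi)
  suffices ∀ f : DerivedCategory.Q.obj P ⟶ (Dual.inD R N)⟦i⟧, f = 0 from
    ⟨fun f g => by rw [← cancel_epi e.hom, this (e.hom ≫ f), this (e.hom ≫ g)]⟩
  intro f
  obtain ⟨φ, hφ, rfl⟩ := PcExt.homOfCocycle_surjective P (q := -i) (p := i) (neg_add_cancel i)
    (-i - 1) (by omega) f
  exact (PcExt.homOfCocycle_eq_zero_iff P _ φ (-i - 1) (by omega) hφ (-i + 1) rfl).2
    ⟨0, (hz (-i) (by omega)).eq_of_src _ _⟩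

/-- (4) ⇒ (1). -/
theorem exists_projective_rep {a b : ℤ} {K : Dual.D R}
    (hH : ∀ n : ℤ, (n < a - 1 ∨ b < n) → Subsingleton (Dual.HD R K n))
    (hE : ∀ (N : Type u) [AddCommGroup N] [Module R N],
      Subsingleton (DRing.ExtD R K (Dual.inD R N) (-a + 1))) :
    ∃ P : DRing.Cx R, DRing.VanishesOutside P a b ∧ (∀ i : ℤ, Module.Projective R (P.X i)) ∧
        Nonempty (DRing.toD P ≅ K) := by
  haveI : K.IsLE b := isLE_of_hd fun n hn => hH n (Or.inr hn)
  obtain ⟨C, hC, ⟨eC⟩⟩ := DerivedCategory.exists_iso_Q_obj_of_isLE K b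
  obtain ⟨P, α, hPb, hP, -, hα⟩ := TriCat.exists_quasiIso_left_resolution
    (fun X : ModuleCat.{u} R => Module.Projective R X)
    ⟨ModuleCat.of R PUnit.{u + 1}, ModuleCat.isZero_of_subsingleton _, inferInstance⟩
    (fun X => ⟨ModuleCat.of R (X →₀ R), ModuleCat.ofHom (Finsupp.linearCombination R id),
      inferInstance, (ModuleCat.epi_iff_surjective _).2
        (Finsupp.linearCombination_id_surjective R X)⟩) C b
  let e : DerivedCategory.Q.obj P ≅ K := asIso (DerivedCategory.Q.map α) ≪≫ eC.symm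
  have hzb : ∀ i, b < i → IsZero (P.X i) := fun i hi => P.isZero_of_isStrictlyLE b i hi
  haveI := isKProjective hP hzb
  obtain ⟨h, hh⟩ : ∃ h : P.X a ⟶ P.opcycles (a - 1), P.d (a - 1) a ≫ h = P.pOpcycles (a - 1) := by
    refine (PcExt.homOfCocycle_eq_zero_iff P (p := -a + 1) (by omega) (P.pOpcycles (a - 1))
      (a - 2) (by omega) (P.d_pOpcycles _ _) a (by omega)).1 ?_
    haveI := hE (P.opcycles (a - 1))
    exact (e.homFromEquiv (Z := (Dual.inD R (P.opcycles (a - 1)))⟦-a + 1⟧)).subsingleton.elim _ _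
  have hr : P.fromOpcycles (a - 1) a ≫ h = 𝟙 _ := by
    rw [← cancel_epi (P.pOpcycles (a - 1)), ← assoc, P.p_fromOpcycles, hh, comp_id]
  have hlow : ∀ i < a, P.ExactAt i := fun i hi => by
    rw [P.exactAt_iff_isZero_homology]
    rcases lt_or_eq_of_le (show i ≤ a - 1 by omega) with hi' | rfl
    · obtain ⟨eH⟩ := hd_iso e i
      exact (isZero_of_hd (hH i (Or.inl hi'))).of_iso eH.symm
    · rw [IsZero.iff_id_eq_zero, ← cancel_mono (P.homologyι (a - 1)), id_comp, zero_comp]
      rw [← comp_id (P.homologyι (a - 1)), ← hr, HomologicalComplex.homologyι_comp_fromOpcycles_assoc,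
        zero_comp]
  haveI : P.IsGE a := (CochainComplex.isGE_iff P a).2 hlow
  haveI : Module.Projective R (P.opcycles a) := by
    let s : P.opcycles a ⟶ P.X a := P.descOpcycles (𝟙 _ - h ≫ P.fromOpcycles (a - 1) a) (a - 1)
      (by simp) (by
        rw [Preadditive.comp_sub, comp_id, reassoc_of% hh, P.p_fromOpcycles, sub_self])
    have hs : s ≫ P.pOpcycles a = 𝟙 _ := by
      have h0 : P.fromOpcycles (a - 1) a ≫ P.pOpcycles a = 0 := by
        rw [← cancel_epi (P.pOpcycles (a - 1)), P.p_fromOpcycles_assoc, comp_zero, P.d_pOpcycles]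
      rw [← cancel_epi (P.pOpcycles a), HomologicalComplex.p_descOpcycles_assoc,
        Preadditive.sub_comp, id_comp, assoc, h0, comp_zero, sub_zero, comp_id]
    haveI := hP a
    exact Module.Projective.of_split s.hom (P.pOpcycles a).hom
      ((ModuleCat.hom_comp _ _).symm.trans (congrArg ModuleCat.Hom.hom hs))
  let emb := ComplexShape.embeddingUpIntGE a
  refine ⟨P.truncGE a, fun i hi => ?_, fun i => ?_,
    ⟨(asIso (DerivedCategory.Q.map (P.πTruncGE a))).symm ≪≫ e⟩⟩
  · rcases hi with hi | hi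
    · exact CochainComplex.isZero_of_isStrictlyGE _ a i hi
    · rcases lt_or_ge i a with hia | hia
      · exact CochainComplex.isZero_of_isStrictlyGE _ a i hia
      obtain ⟨n, rfl⟩ : ∃ n : ℕ, a + n = i := ⟨(i - a).toNat, by omega⟩
      rcases Nat.eq_zero_or_pos n with rfl | hn
      · refine IsZero.of_iso ?_ (HomologicalComplex.truncGEXIsoOpcycles P emb (i := 0) rfl
          ((ComplexShape.boundaryGE_embeddingUpIntGE_iff a 0).2 rfl))
        exact IsZero.of_epi (P.pOpcycles (a + (0 : ℕ))) (hzb _ hi)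
      · exact (hzb _ hi).of_iso (HomologicalComplex.truncGEXIso P emb (i := n) rfl
          (fun hb => by have := (ComplexShape.boundaryGE_embeddingUpIntGE_iff a n).1 hb; omega))
  · rcases lt_or_ge i a with hia | hia
    · haveI := ModuleCat.subsingleton_of_isZero (CochainComplex.isZero_of_isStrictlyGE (P.truncGE a) a i hia)
      infer_instance
    obtain ⟨n, rfl⟩ : ∃ n : ℕ, a + n = i := ⟨(i - a).toNat, by omega⟩
    rcases Nat.eq_zero_or_pos n with rfl | hn
    · haveI hf : Module.Projective R (P.opcycles (a + (0 : ℕ))) := by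
        rw [Nat.cast_zero, add_zero]; assumption
      haveI : Module.Projective R (P.opcycles (emb.f 0)) := hf
      exact Module.Projective.of_equiv (HomologicalComplex.truncGEXIsoOpcycles P emb (i := 0) rfl
        ((ComplexShape.boundaryGE_embeddingUpIntGE_iff a 0).2 rfl)).toLinearEquiv.symm
    · haveI := hP (a + n)
      exact Module.Projective.of_equiv (HomologicalComplex.truncGEXIso P emb (i := n) rfl
        (fun hb => by have := (ComplexShape.boundaryGE_embeddingUpIntGE_iff a n).1 hb; omega)).toLinearEquiv.symm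

theorem tfae (K : Dual.D R) (a b : ℤ) :
    [∃ P : DRing.Cx R, DRing.VanishesOutside P a b ∧ (∀ i : ℤ, Module.Projective R (P.X i)) ∧
        Nonempty (DRing.toD P ≅ K),
      ∀ (N : Type u) [AddCommGroup N] [Module R N] (i : ℤ), (i < -b ∨ -a < i) →
        Subsingleton (DRing.ExtD R K (Dual.inD R N) i),
      (∀ n : ℤ, b < n → Subsingleton (Dual.HD R K n)) ∧
        ∀ (N : Type u) [AddCommGroup N] [Module R N] (i : ℤ), -a < i → Subsingleton (DRing.ExtD R K (Dual.inD R N) i),
      (∀ n : ℤ, (n < a - 1 ∨ b < n) → Subsingleton (Dual.HD R K n)) ∧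
        ∀ (N : Type u) [AddCommGroup N] [Module R N], Subsingleton (DRing.ExtD R K (Dual.inD R N) (-a + 1))].TFAE := by
  tfae_have 1 → 2 := fun ⟨P, hz, hP, ⟨e⟩⟩ N _ _ i hi => ext_subsingleton hz hP e N i hi
  tfae_have 2 → 3 := fun h => ⟨fun n hn => hd_subsingleton K n (-n) (add_neg_cancel n)
    fun N _ _ => h N (-n) (Or.inl (by omega)), fun N _ _ i hi => h N i (Or.inr hi)⟩
  tfae_have 3 → 4 := fun ⟨h₁, h₂⟩ => ⟨fun n hn => hn.elim (fun hn => hd_subsingleton K n (-n)
    (add_neg_cancel n) fun N _ _ => h₂ N (-n) (by omega)) (h₁ n),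
    fun N _ _ => h₂ N (-a + 1) (by omega)⟩
  tfae_have 4 → 1 := fun ⟨h₁, h₂⟩ => exists_projective_rep h₁ h₂
  tfae_finish

end Groth.Agent.H9Misc.DRingProjAmp
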