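import Groth.Agent.H9Misc.DRingRightExact
import Groth.Agent.KFlatLib.ModuleFlat
import Mathlib.Algebra.Homology.Embedding.CochainComplex
import Mathlib.RingTheory.Flat.Basic

/-! Tor amplitude over a ring. -/

set_option linter.style.haveILetI false

universe u

open CategoryTheory CategoryTheory.Category CategoryTheory.Limits MonoidalCategory
open CategoryTheory.Pretriangulated

attribute [local instance] HasDerivedCategory.standard

namespace Groth.Agent.H9Misc.DRingTor

open Groth.Agent.KFlatLib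

variable {A : Type u} [CommRing A]

/-- The derived tensor product with a module exists. -/
theorem hasLTensor (M : ModuleCat.{u} A) : DRing.HasLTensor A M :=
  (DRingLTensor.resTensor M).hasLeftDerivedFunctor' DerivedCategory.Q DerivedCategory.Qh
    (HomotopyCategory.quotient (ModuleCat.{u} A) (ComplexShape.up ℤ))
    (HomologicalComplex.homotopyEquivalences (ModuleCat.{u} A) (ComplexShape.up ℤ))
    (DerivedCategory.quotientCompQhIso (ModuleCat.{u} A)) _

/-- Vanishing of all `H^i (K ⊗^L M)` for `i` outside `[a, b]`, read off from a representative. -/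
def Van (a b : ℤ) (P : CochainComplex (ModuleCat.{u} A) ℤ) : Prop :=
  ∀ (M : ModuleCat.{u} A) (i : ℤ), (i < a ∨ b < i) → ((DRingLTensor.tensC M).obj P).ExactAt i

lemma exactAt_tensC_iff (M : ModuleCat.{u} A) [DRing.HasLTensor A M] {P : CochainComplex (ModuleCat.{u} A) ℤ}
    (hP : DRingLTensor.IsKF P) {K : Dual.D A} (e : DerivedCategory.Q.obj P ≅ K) (i : ℤ) :
    Subsingleton (Dual.HD A ((DRing.LTensor A M).obj K) i) ↔
      ((DRingLTensor.tensC M).obj P).ExactAt i := by
  obtain ⟨eT⟩ := DRingLTensor.nonempty_ltensor_iso M hP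
  let e' := (DerivedCategory.homologyFunctor (ModuleCat.{u} A) i).mapIso
    (((DRing.LTensor A M).mapIso e).symm ≪≫ eT) ≪≫
      (DerivedCategory.homologyFunctorFactors (ModuleCat.{u} A) i).app _
  rw [HomologicalComplex.exactAt_iff_isZero_homology]
  exact ⟨fun h => (DRingCompl.isZ h).of_iso e'.symm, fun h => ModuleCat.subsingleton_of_isZero (h.of_iso e')⟩

lemma Van.transfer {a b : ℤ} {P P' : CochainComplex (ModuleCat.{u} A) ℤ} (h : Van a b P)
    (hP : DRingLTensor.IsKF P) (hP' : DRingLTensor.IsKF P')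
    (e : DerivedCategory.Q.obj P ≅ DerivedCategory.Q.obj P') : Van a b P' := fun M i hi => by
  haveI := hasLTensor M
  exact (exactAt_tensC_iff M hP' e.symm i).1
    ((exactAt_tensC_iff M hP (Iso.refl _) i).2 (h M i hi))

lemma Van.exactAt {a b : ℤ} {P : CochainComplex (ModuleCat.{u} A) ℤ} (h : Van a b P) {i : ℤ}
    (hi : i < a ∨ b < i) : P.ExactAt i :=
  (h (𝟙_ (ModuleCat.{u} A)) i hi).of_iso
    (HomologicalComplex.Hom.isoOfComponents (fun m => ρ_ (P.X m))
      (fun j k _ => (MonoidalCategory.rightUnitor_naturality (P.d j k)).symm))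

lemma isKF_of_flat {E : CochainComplex (ModuleCat.{u} A) ℤ} (hf : DRing.TermwiseFlat E) {b : ℤ}
    (hb : DRing.VanishesAbove E b) : DRingLTensor.IsKF E :=
  kFlat_of_termwiseFlat hf hb

lemma van_of_vanishesOutside {E : CochainComplex (ModuleCat.{u} A) ℤ} {a b : ℤ}
    (hz : DRing.VanishesOutside E a b) : Van a b E := fun M i hi =>
  (HomologicalComplex.exactAt_iff_isZero_homology _ i).2
    (ShortComplex.isZero_homology_of_isZero_X₂ _ ((tensorRight M).map_isZero (hz i hi)))

lemma flat_range_quotient {P : CochainComplex (ModuleCat.{u} A) ℤ} (hflat : ∀ n, Module.Flat A (P.X n))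
    (p q r : ℤ) (hpq : p + 1 = q) (hqr : q + 1 = r)
    (h : ∀ M : ModuleCat.{u} A, ((DRingLTensor.tensC M).obj P).ExactAt q) :
    Module.Flat A ((P.X r) ⧸ LinearMap.range (P.d q r).hom) := by
  let C := (P.X r) ⧸ LinearMap.range (P.d q r).hom
  rw [Module.Flat.iff_lTensor_preserves_injective_linearMap]
  intro N N' _ _ _ _ f hf
  let π : P.X r →ₗ[A] C := Submodule.mkQ _
  refine (injective_iff_map_eq_zero _).2 fun z hz => ?_
  obtain ⟨x, rfl⟩ := LinearMap.rTensor_surjective N (Submodule.mkQ_surjective _) z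
  rw [show f.lTensor C ((π.rTensor N) x) = π.rTensor N' (f.lTensor (P.X r) x) from
    LinearMap.congr_fun ((LinearMap.lTensor_comp_rTensor (f := π) (g := f)).trans
      (LinearMap.rTensor_comp_lTensor (f := π) (g := f)).symm) x] at hz
  have hex : Function.Exact ((P.d q r).hom.rTensor N') (π.rTensor N') :=
    rTensor_exact N' (LinearMap.exact_map_mkQ_range _) (Submodule.mkQ_surjective _)
  obtain ⟨y, hy⟩ := (hex _).1 hz
  let Q := N' ⧸ LinearMap.range f
  let g : N' →ₗ[A] Q := Submodule.mkQ _
  have hgf : ∀ t, g.lTensor (P.X r) (f.lTensor (P.X r) t) = 0 := fun t => by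
    rw [← LinearMap.comp_apply, ← LinearMap.lTensor_comp, show g ∘ₗ f = 0 from
      LinearMap.ext fun n => (Submodule.Quotient.mk_eq_zero _).2 ⟨n, rfl⟩, LinearMap.lTensor_zero,
      LinearMap.zero_apply]
  have hy' : (P.d q r).hom.rTensor Q (g.lTensor (P.X q) y) = 0 := by
    rw [show (P.d q r).hom.rTensor Q (g.lTensor (P.X q) y) =
      g.lTensor (P.X r) ((P.d q r).hom.rTensor N' y) from
        LinearMap.congr_fun ((LinearMap.rTensor_comp_lTensor (f := (P.d q r).hom) (g := g)).trans
          (LinearMap.lTensor_comp_rTensor (f := (P.d q r).hom) (g := g)).symm) y, hy, hgf]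
  have hexQ : Function.Exact ((P.d p q).hom.rTensor Q) ((P.d q r).hom.rTensor Q) := by
    have h1 := h (ModuleCat.of A Q)
    rw [HomologicalComplex.exactAt_iff' _ p q r (by simp; omega) (by simp; omega)] at h1
    exact (ShortComplex.ShortExact.moduleCat_exact_iff_function_exact _).1 h1
  obtain ⟨w, hw⟩ := (hexQ _).1 hy'
  obtain ⟨v, rfl⟩ := LinearMap.lTensor_surjective (P.X p) (Submodule.mkQ_surjective (LinearMap.range f)) w
  have hv : g.lTensor (P.X q) (y - (P.d p q).hom.rTensor N' v) = 0 := by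
    rw [map_sub, sub_eq_zero, ← hw]
    exact LinearMap.congr_fun ((LinearMap.rTensor_comp_lTensor (f := (P.d p q).hom) (g := g)).trans
      (LinearMap.lTensor_comp_rTensor (f := (P.d p q).hom) (g := g)).symm) v
  obtain ⟨u, hu⟩ := ((lTensor_exact (P.X q) (LinearMap.exact_map_mkQ_range f) (Submodule.mkQ_surjective _)) _).1 hv
  have hdd : (P.d q r).hom.rTensor N' ((P.d p q).hom.rTensor N' v) = 0 := by
    rw [← LinearMap.comp_apply, ← LinearMap.rTensor_comp, ← ModuleCat.hom_comp, P.d_comp_d]
    simp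
  have hx : f.lTensor (P.X r) ((P.d q r).hom.rTensor N u) = f.lTensor (P.X r) x := by
    rw [show f.lTensor (P.X r) ((P.d q r).hom.rTensor N u) = (P.d q r).hom.rTensor N' (f.lTensor (P.X q) u) from
      LinearMap.congr_fun ((LinearMap.lTensor_comp_rTensor (f := (P.d q r).hom) (g := f)).trans
        (LinearMap.rTensor_comp_lTensor (f := (P.d q r).hom) (g := f)).symm) u, hu, map_sub, hdd,
      sub_zero, hy]
  haveI := hflat r
  rw [← Module.Flat.lTensor_preserves_injective_linearMap f hf hx, ← LinearMap.comp_apply,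
    ← LinearMap.rTensor_comp, show π ∘ₗ (P.d q r).hom = 0 from
      LinearMap.ext fun t => (Submodule.Quotient.mk_eq_zero _).2 ⟨t, rfl⟩, LinearMap.rTensor_zero,
    LinearMap.zero_apply]

lemma flat_opcycles {P : CochainComplex (ModuleCat.{u} A) ℤ} (hflat : ∀ n, Module.Flat A (P.X n))
    (r : ℤ) (h : ∀ M : ModuleCat.{u} A, ((DRingLTensor.tensC M).obj P).ExactAt (r - 1)) :
    Module.Flat A (P.opcycles r) := by
  haveI := flat_range_quotient hflat (r - 1 - 1) (r - 1) r (by omega) (by omega) h
  exact Module.Flat.of_linearEquiv (((cokernelIsCokernel (P.d (r - 1) r)).coconePointUniqueUpToIso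
    (P.opcyclesIsCokernel (r - 1) r (by simp))).symm ≪≫
      ModuleCat.cokernelIsoRangeQuotient (P.d (r - 1) r)).toLinearEquiv

/-- The criterion for tor amplitude. -/
theorem hasTorAmplitudeIn_of_van {a b : ℤ} {P : CochainComplex (ModuleCat.{u} A) ℤ}
    (hP : DRingLTensor.IsKF P) (h : Van a b P) {K : Dual.D A} (e : DerivedCategory.Q.obj P ≅ K) :
    DRing.HasTorAmplitudeIn A a b K := by
  have hzP : ∀ i, i < a ∨ b < i → IsZero (P.homology i) := fun i hi =>
    (HomologicalComplex.exactAt_iff_isZero_homology _ i).1 (h.exactAt hi)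
  obtain ⟨R, ψ, hψ, hflat, hRb⟩ := (ringCover A).exists_bounded_resolution P b
    fun m hm => hzP m (Or.inr hm)
  haveI := hψ
  haveI : IsIso (DerivedCategory.Q.map ψ) := (DerivedCategory.isIso_Q_map_iff_quasiIso _ _).2 inferInstance
  have hRK : DRingLTensor.IsKF R := isKF_of_flat hflat hRb
  have hR : Van a b R := h.transfer hP hRK (asIso (DerivedCategory.Q.map ψ)).symm
  haveI : Module.Flat A (R.opcycles a) := flat_opcycles hflat a fun M => hR M (a - 1) (Or.inl (by omega))
  let emb := ComplexShape.embeddingUpIntGE a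
  haveI : R.IsGE a := (CochainComplex.isGE_iff R a).2 fun i hi => hR.exactAt (Or.inl hi)
  refine ⟨R.truncGE a, fun i hi => ?_, fun i => ?_,
    ⟨(asIso (DerivedCategory.Q.map (R.πTruncGE a))).symm ≪≫ asIso (DerivedCategory.Q.map ψ) ≪≫ e⟩⟩
  · rcases hi with hi | hi
    · exact CochainComplex.isZero_of_isStrictlyGE _ a i hi
    · rcases lt_or_ge i a with hia | hia
      · exact CochainComplex.isZero_of_isStrictlyGE _ a i hia
      obtain ⟨n, rfl⟩ : ∃ n : ℕ, a + n = i := ⟨(i - a).toNat, by omega⟩
      rcases Nat.eq_zero_or_pos n with rfl | hn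
      · refine IsZero.of_iso ?_ (HomologicalComplex.truncGEXIsoOpcycles R emb (i := 0) rfl
          ((ComplexShape.boundaryGE_embeddingUpIntGE_iff a 0).2 rfl))
        exact IsZero.of_epi (R.pOpcycles (a + (0 : ℕ))) (hRb _ hi)
      · exact (hRb _ hi).of_iso (HomologicalComplex.truncGEXIso R emb (i := n) rfl
          (fun hb => by have := (ComplexShape.boundaryGE_embeddingUpIntGE_iff a n).1 hb; omega))
  · rcases lt_or_ge i a with hia | hia
    · haveI := ModuleCat.subsingleton_of_isZero (CochainComplex.isZero_of_isStrictlyGE (R.truncGE a) a i hia)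
      infer_instance
    obtain ⟨n, rfl⟩ : ∃ n : ℕ, a + n = i := ⟨(i - a).toNat, by omega⟩
    rcases Nat.eq_zero_or_pos n with rfl | hn
    · have hf : Module.Flat A (R.opcycles (a + (0 : ℕ))) := by
        rw [Nat.cast_zero, add_zero]; assumption
      exact (Module.Flat.equiv_iff (HomologicalComplex.truncGEXIsoOpcycles R emb (i := 0) rfl
        ((ComplexShape.boundaryGE_embeddingUpIntGE_iff a 0).2 rfl)).toLinearEquiv).2 hf
    · exact (Module.Flat.equiv_iff (HomologicalComplex.truncGEXIso R emb (i := n) rfl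
        (fun hb => by have := (ComplexShape.boundaryGE_embeddingUpIntGE_iff a n).1 hb; omega)).toLinearEquiv).2
          (hflat _)

/-- Tor amplitude is the vanishing of derived tensor products outside the range. -/
theorem iff_van {a b : ℤ} {P : CochainComplex (ModuleCat.{u} A) ℤ} (hP : DRingLTensor.IsKF P)
    {K : Dual.D A} (e : DerivedCategory.Q.obj P ≅ K) :
    DRing.HasTorAmplitudeIn A a b K ↔ Van a b P := by
  refine ⟨fun ⟨E, hz, hf, ⟨e'⟩⟩ => ?_, fun h => hasTorAmplitudeIn_of_van hP h e⟩
  exact (van_of_vanishesOutside hz).transfer (isKF_of_flat hf fun i hi => hz i (Or.inr hi)) hP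
    (e' ≪≫ e.symm)

/-- Tor amplitude is the vanishing of derived tensor products outside the range. -/
theorem iff_ltensor [∀ M : ModuleCat.{u} A, DRing.HasLTensor A M] (K : Dual.D A) (a b : ℤ) :
    DRing.HasTorAmplitudeIn A a b K ↔
      ∀ (M : ModuleCat.{u} A) (i : ℤ), (i < a ∨ b < i) → Subsingleton (Dual.HD A ((DRing.LTensor A M).obj K) i) := by
  obtain ⟨P, hP, -, ⟨e⟩⟩ := DRingLTensor.exists_rep K
  rw [iff_van hP e]
  exact forall_congr' fun M => forall_congr' fun i => imp_congr_right fun _ =>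
    (exactAt_tensC_iff M hP e i).symm

theorem of_retract {a b : ℤ} {K L : Dual.D A} (i : K ⟶ L) (p : L ⟶ K) (h : i ≫ p = 𝟙 K)
    (hL : DRing.HasTorAmplitudeIn A a b L) : DRing.HasTorAmplitudeIn A a b K := by
  haveI : ∀ M : ModuleCat.{u} A, DRing.HasLTensor A M := hasLTensor
  rw [iff_ltensor] at hL ⊢
  intro M n hn
  refine ModuleCat.subsingleton_of_isZero ?_
  haveI : Mono ((DerivedCategory.homologyFunctor (ModuleCat.{u} A) n).map
      ((DRing.LTensor A M).map i)) := by
    refine mono_of_mono_fac (f := (DerivedCategory.homologyFunctor (ModuleCat.{u} A) n).map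
      ((DRing.LTensor A M).map p)) (h := 𝟙 _) ?_
    rw [← Functor.map_comp, ← Functor.map_comp, h]
    simp
  exact IsZero.of_mono ((DerivedCategory.homologyFunctor (ModuleCat.{u} A) n).map
      ((DRing.LTensor A M).map i)) (DRingCompl.isZ (hL M n hn))

end Groth.Agent.H9Misc.DRingTor
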