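import Mathlib
import Groth.Prelude.Def_DRing4
import Groth.Agent.H9Misc.DRingLTensor
import Groth.Agent.KFlatLib.ModuleFlat
import Groth.Agent.H9Misc.DRingTor
import Groth.Agent.H9Misc.DRingProjAmp

/-! `- ⊗^L L` computed on K-flat complexes; tensor products of finite complexes. -/

set_option linter.style.haveILetI false

universe u

open CategoryTheory CategoryTheory.Limits MonoidalCategory

attribute [local instance] HasDerivedCategory.standard

namespace Groth.Agent.H9Misc.DRingLTensorCx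

open Groth.Agent.KFlatLib DRingLTensor

variable {A : Type u} [CommRing A]

lemma quasiIso_tensorRight (L : DRing.Cx A) {P Q : DRing.Cx A} (α : P ⟶ Q) [QuasiIso α]
    (hP : IsKF P) (hQ : IsKF Q) : QuasiIso ((tensorRight L).map α) := by
  haveI := quasiIso_tensor (ringCover A) flatObj_ringCover curriedTensorFlipIso α hP hQ L
  have h : QuasiIso (((curriedTensor (ModuleCat.{u} A)).map₂CochainComplex.flip.obj L).map α) :=
    (quasiIso_iff_of_arrow_mk_iso _ _
      (((Functor.mapArrowFunctor _ _).mapIso (symmIso curriedTensorFlipIso L)).app (Arrow.mk α))).2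
        (by assumption)
  exact h

/-- Flat resolutions compute `- ⊗^L L`. -/
noncomputable def resTensorCx (L : DRing.Cx A) :
    Resolution (HomologicalComplex.quasiIso (ModuleCat.{u} A) (ComplexShape.up ℤ)) (DRing.tensorCxQ A L) where
  Good := IsKF
  P := (ringCover A).P
  ψ := (ringCover A).ψ
  good := kFlat_ringRes
  weq K := (ringCover A).quasiIso_ψ K
  inverts _ _ α hP hQ hα := by
    haveI : QuasiIso α := hα
    have := quasiIso_tensorRight L α hP hQ
    exact (DerivedCategory.isIso_Q_map_iff_quasiIso _ _).2 this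

/-- `K ⊗^L L = K ⊗ L` for K-flat `K`. -/
theorem nonempty_iso (L : DRing.Cx A) [DRing.HasLTensorCx A L] {P : DRing.Cx A} (hP : IsKF P)
    {K : Dual.D A} (e : DerivedCategory.Q.obj P ≅ K) :
    Nonempty ((DRing.LTensorCx A L).obj K ≅ DerivedCategory.Q.obj (P ⊗ L)) := by
  haveI := (resTensorCx L).isIso_totalLeftDerivedCounit DerivedCategory.Q hP
  exact ⟨(DRing.LTensorCx A L).mapIso e.symm ≪≫
    asIso (((DRing.tensorCxQ A L).totalLeftDerivedCounit DerivedCategory.Q
      (HomologicalComplex.quasiIso (ModuleCat.{u} A) (ComplexShape.up ℤ))).app P)⟩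

/-- A quasi-isomorphism in the second variable. -/
theorem nonempty_iso_right {P L' L : DRing.Cx A} (hP : IsKF P) (β : L' ⟶ L) [QuasiIso β] :
    Nonempty (DerivedCategory.Q.obj (P ⊗ L') ≅ DerivedCategory.Q.obj (P ⊗ L)) := by
  haveI : QuasiIso (P ◁ β) := quasiIso_tensorHom_id β hP
  exact ⟨asIso (DerivedCategory.Q.map (P ◁ β))⟩

lemma exists_quasiIso_of_iso {P L : DRing.Cx A} [P.IsKProjective]
    (e : DerivedCategory.Q.obj P ≅ DerivedCategory.Q.obj L) : ∃ β : P ⟶ L, QuasiIso β := by
  let q := DerivedCategory.quotientCompQhIso (ModuleCat.{u} A)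
  obtain ⟨g, hg⟩ := (CochainComplex.IsKProjective.Qh_map_bijective P
    ((HomotopyCategory.quotient _ _).obj L)).2 (q.hom.app P ≫ e.hom ≫ q.inv.app L)
  obtain ⟨β, rfl⟩ := (HomotopyCategory.quotient _ _).map_surjective g
  refine ⟨β, (DerivedCategory.isIso_Q_map_iff_quasiIso _ _).1 ?_⟩
  have h : DerivedCategory.Q.map β = e.hom := by
    have := q.hom.naturality β
    simp only [Functor.comp_map, hg, Category.assoc, Iso.inv_hom_id_app, Category.comp_id] at this
    exact (cancel_epi (q.hom.app P)).1 this.symm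
  rw [h]; infer_instance

section Terms

variable (P Q : DRing.Cx A) (n : ℤ) (s : Finset ℤ)

lemma nonempty_linearEquiv_X
    (hs : ∀ p, p ∉ s → IsZero (P.X p ⊗ Q.X (n - p))) :
    Nonempty ((P ⊗ Q).X n ≃ₗ[A] ((p : s) → (P.X p ⊗ Q.X (n - p) : ModuleCat.{u} A))) := by
  classical
  let ι : ∀ p : ℤ, (P.X p ⊗ Q.X (n - p) : ModuleCat.{u} A) ⟶ (P ⊗ Q).X n := fun p =>
    HomologicalComplex.ιTensorObj P Q p (n - p) n (by omega)
  let π : ∀ q : ℤ, (P ⊗ Q).X n ⟶ P.X q ⊗ Q.X (n - q) := fun q =>
    HomologicalComplex.mapBifunctorDesc fun i j (h : i + j = n) =>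
      if hi : i = q then eqToHom (by
        subst hi
        rw [show j = n - i by omega]
        rfl) else 0
  have hιπ : ∀ p q, ι p ≫ π q = if hp : p = q then eqToHom (by rw [hp]) else 0 := by
    intro p q
    simp only [ι, π]
    erw [HomologicalComplex.ι_mapBifunctorDesc]
  have htot : ∑ q ∈ s, π q ≫ ι q = 𝟙 _ := by
    refine HomologicalComplex.mapBifunctor.hom_ext fun i j h => ?_
    have h' : i + j = n := h
    obtain rfl : j = n - i := by omega
    refine Eq.trans ?_ (Category.comp_id _).symm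
    refine (Preadditive.comp_sum _ _ _ ).trans ?_
    have hterm : ∀ q, HomologicalComplex.ιMapBifunctor P Q (curriedTensor (ModuleCat.{u} A))
        (ComplexShape.up ℤ) i (n - i) n h ≫ π q ≫ ι q =
        if i = q then HomologicalComplex.ιMapBifunctor P Q (curriedTensor (ModuleCat.{u} A))
          (ComplexShape.up ℤ) i (n - i) n h else 0 := by
      intro q
      rw [← Category.assoc]
      erw [hιπ i q]
      by_cases hq : i = q
      · subst hq
        rw [dif_pos rfl, if_pos rfl, eqToHom_refl]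
        exact Category.id_comp _
      · rw [dif_neg hq, if_neg hq, zero_comp]
    by_cases hi : i ∈ s
    · rw [Finset.sum_eq_single i]
      · rw [hterm, if_pos rfl]
      · intro q _ hq; rw [hterm, if_neg (Ne.symm hq)]
      · exact fun h => absurd hi h
    · exact (hs i hi).eq_of_src _ _
  let f : (P ⊗ Q).X n →ₗ[A] ((p : s) → (P.X p ⊗ Q.X (n - p) : ModuleCat.{u} A)) :=
    LinearMap.pi fun p => (π p).hom
  let g : ((p : s) → (P.X p ⊗ Q.X (n - p) : ModuleCat.{u} A)) →ₗ[A] (P ⊗ Q).X n :=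
    ∑ p : s, (ι p).hom ∘ₗ LinearMap.proj p
  refine ⟨LinearEquiv.ofLinear f g (LinearMap.ext fun x => funext fun q => ?_) (LinearMap.ext fun x => ?_)⟩
  · simp only [f, g, LinearMap.comp_apply, LinearMap.pi_apply, LinearMap.sum_apply, map_sum,
      LinearMap.proj_apply, LinearMap.id_apply]
    rw [Finset.sum_eq_single q]
    · refine (ConcreteCategory.congr_hom (hιπ q q) (x q)).trans ?_
      rw [dif_pos rfl]
      rfl
    · intro p _ hp
      refine (ConcreteCategory.congr_hom (hιπ p q) (x p)).trans ?_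
      rw [dif_neg fun e => hp (Subtype.ext e)]
      rfl
    · simp
  · simp only [f, g, LinearMap.comp_apply, LinearMap.sum_apply, LinearMap.proj_apply,
      LinearMap.pi_apply, LinearMap.id_apply]
    rw [Finset.sum_coe_sort s fun p => (ι p).hom ((π p).hom x)]
    have := congrArg (fun φ => φ.hom x) htot
    simpa using this

lemma isZero_tensor_left {M N : ModuleCat.{u} A} (h : IsZero M) : IsZero (M ⊗ N) :=
  (tensorRight N).map_isZero h

lemma isZero_tensor_right {M N : ModuleCat.{u} A} (h : IsZero N) : IsZero (M ⊗ N) :=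
  (tensorLeft M).map_isZero h

variable {P Q}

lemma vanishesAbove_tensor {b b' : ℤ} (hP : DRing.VanishesAbove P b) (hQ : DRing.VanishesAbove Q b') :
    DRing.VanishesAbove (P ⊗ Q) (b + b') := by
  intro m hm
  obtain ⟨e⟩ := nonempty_linearEquiv_X P Q m ∅ fun p _ => (lt_or_ge b p).elim
    (fun h => isZero_tensor_left (hP p h)) fun h => isZero_tensor_right (hQ _ (by omega))
  haveI : Subsingleton ((P ⊗ Q).X m) := e.toEquiv.subsingleton
  exact ModuleCat.isZero_of_subsingleton _

lemma vanishesBelow_tensor {a a' : ℤ} (hP : ∀ i, i < a → IsZero (P.X i))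
    (hQ : ∀ i, i < a' → IsZero (Q.X i)) (m : ℤ) (hm : m < a + a') : IsZero ((P ⊗ Q).X m) := by
  obtain ⟨e⟩ := nonempty_linearEquiv_X P Q m ∅ fun p _ => (lt_or_ge p a).elim
    (fun h => isZero_tensor_left (hP p h)) fun h => isZero_tensor_right (hQ _ (by omega))
  haveI : Subsingleton ((P ⊗ Q).X m) := e.toEquiv.subsingleton
  exact ModuleCat.isZero_of_subsingleton _

lemma exists_finset {b b' : ℤ} (hP : DRing.VanishesAbove P b) (hQ : DRing.VanishesAbove Q b') :
    ∀ p, p ∉ Finset.Icc (n - b') b → IsZero (P.X p ⊗ Q.X (n - p)) := by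
  intro p hp
  rw [Finset.mem_Icc, not_and_or, not_le, not_le] at hp
  exact hp.elim (fun h => isZero_tensor_right (hQ _ (by omega))) fun h => isZero_tensor_left (hP _ h)

lemma finiteFree_tensor {b b' : ℤ} (hP : DRing.VanishesAbove P b) (hQ : DRing.VanishesAbove Q b')
    (fP : DRing.TermwiseFiniteFree P) (fQ : DRing.TermwiseFiniteFree Q) :
    DRing.TermwiseFiniteFree (P ⊗ Q) := by
  intro m
  obtain ⟨e⟩ := nonempty_linearEquiv_X P Q m _ (exists_finset m hP hQ)
  haveI : ∀ p : Finset.Icc (m - b') b, Module.Finite A (P.X p ⊗ Q.X (m - p) : ModuleCat.{u} A) := fun p =>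
    have := (fP p).1; have := (fQ (m - p)).1
    inferInstanceAs (Module.Finite A (TensorProduct A (P.X p) (Q.X (m - p))))
  haveI : ∀ p : Finset.Icc (m - b') b, Module.Free A (P.X p ⊗ Q.X (m - p) : ModuleCat.{u} A) := fun p =>
    have := (fP p).2; have := (fQ (m - p)).2
    inferInstanceAs (Module.Free A (TensorProduct A (P.X p) (Q.X (m - p))))
  exact ⟨Module.Finite.equiv e.symm, Module.Free.of_equiv e.symm⟩

lemma finiteProjective_tensor {b b' : ℤ} (hP : DRing.VanishesAbove P b) (hQ : DRing.VanishesAbove Q b')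
    (fP : DRing.TermwiseFiniteProjective P) (fQ : DRing.TermwiseFiniteProjective Q) :
    DRing.TermwiseFiniteProjective (P ⊗ Q) := by
  intro m
  obtain ⟨e⟩ := nonempty_linearEquiv_X P Q m _ (exists_finset m hP hQ)
  haveI : ∀ p : Finset.Icc (m - b') b, Module.Finite A (P.X p ⊗ Q.X (m - p) : ModuleCat.{u} A) := fun p =>
    have := (fP p).1; have := (fQ (m - p)).1
    inferInstanceAs (Module.Finite A (TensorProduct A (P.X p) (Q.X (m - p))))
  haveI : ∀ p : Finset.Icc (m - b') b, Module.Projective A (P.X p ⊗ Q.X (m - p) : ModuleCat.{u} A) := fun p =>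
    have := (fP p).2; have := (fQ (m - p)).2
    inferInstanceAs (Module.Projective A (TensorProduct A (P.X p) (Q.X (m - p))))
  haveI : Module.Projective A ((p : Finset.Icc (m - b') b) → (P.X p ⊗ Q.X (m - p) : ModuleCat.{u} A)) :=
    Module.Projective.of_equiv (DirectSum.linearEquivFunOnFintype A (Finset.Icc (m - b') b)
      (fun p => ((P.X p ⊗ Q.X (m - p) : ModuleCat.{u} A) : Type u)))
  exact ⟨Module.Finite.equiv e.symm, Module.Projective.of_equiv e.symm⟩

end Terms

theorem isPerfect (K : Dual.D A) (hK : DRing.IsPerfect A K) (L : DRing.Cx A)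
    (hL : DRing.IsPerfect A (DRing.toD L)) [DRing.HasLTensorCx A L] :
    DRing.IsPerfect A ((DRing.LTensorCx A L).obj K) := by
  obtain ⟨P, a, b, hz, hP, ⟨e⟩⟩ := hK
  obtain ⟨P', a', b', hz', hP', ⟨e'⟩⟩ := hL
  haveI := DRingProjAmp.isKProjective (P := P') (fun i => (hP' i).2) fun i hi => hz' i (Or.inr hi)
  obtain ⟨β, hβ⟩ := exists_quasiIso_of_iso e'
  have hKF : IsKF P := DRingTor.isKF_of_flat
    (fun i => have := (hP i).2; inferInstance) fun i hi => hz i (Or.inr hi)
  obtain ⟨e₁⟩ := nonempty_iso L hKF e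
  obtain ⟨e₂⟩ := nonempty_iso_right hKF β
  refine ⟨P ⊗ P', a + a', b + b', fun i hi => ?_,
    finiteProjective_tensor (fun i hi => hz i (Or.inr hi)) (fun i hi => hz' i (Or.inr hi)) hP hP',
    ⟨e₂ ≪≫ e₁.symm⟩⟩
  rcases hi with hi | hi
  · exact vanishesBelow_tensor (fun i hi => hz i (Or.inl hi)) (fun i hi => hz' i (Or.inl hi)) i hi
  · exact vanishesAbove_tensor (fun i hi => hz i (Or.inr hi)) (fun i hi => hz' i (Or.inr hi)) i hi

theorem isPseudoCoherent (K : Dual.D A) (hK : DRing.IsPseudoCoherent' A K) (L : DRing.Cx A)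
    (hL : DRing.IsPseudoCoherent' A (DRing.toD L)) [DRing.HasLTensorCx A L] :
    DRing.IsPseudoCoherent' A ((DRing.LTensorCx A L).obj K) := by
  obtain ⟨P, b, hz, hP, ⟨e⟩⟩ := hK
  obtain ⟨P', b', hz', hP', ⟨e'⟩⟩ := hL
  haveI := DRingProjAmp.isKProjective (P := P') (fun i => have := (hP' i).2; inferInstance)
    fun i hi => hz' i hi
  obtain ⟨β, hβ⟩ := exists_quasiIso_of_iso e'
  have hKF : IsKF P := DRingTor.isKF_of_flat
    (fun i => have := (hP i).2; inferInstance) fun i hi => hz i hi
  obtain ⟨e₁⟩ := nonempty_iso L hKF e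
  obtain ⟨e₂⟩ := nonempty_iso_right hKF β
  exact ⟨P ⊗ P', b + b', vanishesAbove_tensor hz hz', finiteFree_tensor hz hz' hP hP',
    ⟨e₂ ≪≫ e₁.symm⟩⟩

end Groth.Agent.H9Misc.DRingLTensorCx
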