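import Groth.Agent.H9Misc.DRingTor
import Mathlib.Algebra.Homology.DerivedCategory.HomologySequence

/-! Derived tensor products and distinguished triangles. -/

set_option linter.style.haveILetI false

universe u

open CategoryTheory CategoryTheory.Category CategoryTheory.Limits MonoidalCategory
open CategoryTheory.Pretriangulated

attribute [local instance] HasDerivedCategory.standard

namespace Groth.Agent.H9Misc.DRingTor

open Groth.Agent.KFlatLib

variable {A : Type u} [CommRing A]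

/-- A distinguished triangle is represented by a map of K-flat complexes. -/
lemma exists_rep_triangle (T : Triangle (Dual.D A)) (hT : T ∈ distinguishedTriangles) :
    ∃ (P Q : CochainComplex (ModuleCat.{u} A) ℤ) (φ : P ⟶ Q), DRingLTensor.IsKF P ∧ DRingLTensor.IsKF Q ∧
      DRingLTensor.IsKF (CochainComplex.mappingCone φ) ∧
      Nonempty (DerivedCategory.Q.mapTriangle.obj (CochainComplex.mappingCone.triangle φ) ≅ T) := by
  obtain ⟨X, Y, f, ⟨e⟩⟩ := (DerivedCategory.mem_distTriang_iff T).1 hT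
  haveI := (ringCover A).quasiIso_ψ X
  haveI := (ringCover A).quasiIso_ψ Y
  have hX : IsIso (DerivedCategory.Q.map ((ringCover A).ψ.app X)) :=
    (DerivedCategory.isIso_Q_map_iff_quasiIso _ _).2 inferInstance
  have hY : IsIso (DerivedCategory.Q.map ((ringCover A).ψ.app Y)) :=
    (DerivedCategory.isIso_Q_map_iff_quasiIso _ _).2 inferInstance
  refine ⟨_, _, (ringCover A).P.map f, kFlat_ringRes X, kFlat_ringRes Y,
    kFlat_cone _ (kFlat_ringRes X) (kFlat_ringRes Y), ⟨?_ ≪≫ e.symm⟩⟩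
  refine isoTriangleOfIso₁₂ _ _ (DerivedCategory.mappingCone_triangle_distinguished _)
    (DerivedCategory.mappingCone_triangle_distinguished f)
    (@asIso _ _ _ _ _ hX)
    (@asIso _ _ _ _ _ hY) ?_
  exact (DerivedCategory.Q.map_comp _ _).symm.trans ((congrArg DerivedCategory.Q.map
    ((ringCover A).ψ.naturality f)).trans (DerivedCategory.Q.map_comp _ _))

/-- The consequences of the long exact sequence of `Tor`. -/
lemma two_of_three (T : Triangle (Dual.D A)) (hT : T ∈ distinguishedTriangles) (M : ModuleCat.{u} A)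
    [DRing.HasLTensor A M] (n₀ n₁ : ℤ) (h : n₀ + 1 = n₁) :
    let V := fun (X : Dual.D A) (i : ℤ) => Subsingleton (Dual.HD A ((DRing.LTensor A M).obj X) i)
    (V T.obj₁ n₀ → V T.obj₃ n₀ → V T.obj₂ n₀) ∧ (V T.obj₂ n₀ → V T.obj₁ n₁ → V T.obj₃ n₀) ∧
      (V T.obj₃ n₀ → V T.obj₂ n₁ → V T.obj₁ n₁) := by
  intro V
  obtain ⟨P, Q, φ, hP, hQ, hC, ⟨e⟩⟩ := exists_rep_triangle T hT
  let ψ := (DRingLTensor.tensC M).map φ
  let S := DerivedCategory.Q.mapTriangle.obj (CochainComplex.mappingCone.triangle ψ)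
  have hS : S ∈ distinguishedTriangles := DerivedCategory.mappingCone_triangle_distinguished ψ
  have key : ∀ (X : Dual.D A) (R : CochainComplex (ModuleCat.{u} A) ℤ) (_ : DRingLTensor.IsKF R)
      (_ : DerivedCategory.Q.obj R ≅ X) (R' : CochainComplex (ModuleCat.{u} A) ℤ)
      (_ : (DRingLTensor.tensC M).obj R ≅ R') (i : ℤ),
      V X i ↔ IsZero ((DerivedCategory.homologyFunctor (ModuleCat.{u} A) i).obj (DerivedCategory.Q.obj R')) := by
    intro X R hR eR R' e' i
    let e'' := (HomologicalComplex.homologyFunctor (ModuleCat.{u} A) (ComplexShape.up ℤ) i).mapIso e' ≪≫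
      ((DerivedCategory.homologyFunctorFactors (ModuleCat.{u} A) i).app R').symm
    refine (exactAt_tensC_iff M hR eR i).trans ?_
    rw [HomologicalComplex.exactAt_iff_isZero_homology]
    exact ⟨fun z => z.of_iso e''.symm, fun z => z.of_iso e''⟩
  have k₁ := key T.obj₁ P hP (Triangle.π₁.mapIso e) _ (Iso.refl _)
  have k₂ := key T.obj₂ Q hQ (Triangle.π₂.mapIso e) _ (Iso.refl _)
  have k₃ := key T.obj₃ _ hC (Triangle.π₃.mapIso e) (CochainComplex.mappingCone ψ)
    (CochainComplex.mappingCone.mapHomologicalComplexIso φ (tensorRight M))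
  refine ⟨fun a b => (k₂ n₀).2 ?_, fun a b => (k₃ n₀).2 ?_, fun a b => (k₁ n₁).2 ?_⟩
  · exact (DerivedCategory.HomologySequence.exact₂ S hS n₀).isZero_X₂
      (((k₁ n₀).1 a).eq_zero_of_src _) (((k₃ n₀).1 b).eq_zero_of_tgt _)
  · exact (DerivedCategory.HomologySequence.exact₃ S hS n₀ n₁ h).isZero_X₂
      (((k₂ n₀).1 a).eq_zero_of_src _) (((k₁ n₁).1 b).eq_zero_of_tgt _)
  · exact (DerivedCategory.HomologySequence.exact₁ S hS n₀ n₁ h).isZero_X₂
      (((k₃ n₀).1 a).eq_zero_of_src _) (((k₂ n₁).1 b).eq_zero_of_tgt _)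

variable {a b : ℤ} (T : Triangle (Dual.D A)) (hT : T ∈ distinguishedTriangles)

include hT in
/-- (1) of the two-out-of-three property. -/
theorem obj₃_of (h₁ : DRing.HasTorAmplitudeIn A (a + 1) (b + 1) T.obj₁)
    (h₂ : DRing.HasTorAmplitudeIn A a b T.obj₂) : DRing.HasTorAmplitudeIn A a b T.obj₃ := by
  haveI : ∀ M : ModuleCat.{u} A, DRing.HasLTensor A M := hasLTensor
  rw [iff_ltensor] at h₁ h₂ ⊢
  exact fun M i hi => (two_of_three T hT M i (i + 1) rfl).2.1 (h₂ M i hi) (h₁ M (i + 1) (by omega))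

include hT in
/-- (2) of the two-out-of-three property. -/
theorem obj₂_of (h₁ : DRing.HasTorAmplitudeIn A a b T.obj₁)
    (h₃ : DRing.HasTorAmplitudeIn A a b T.obj₃) : DRing.HasTorAmplitudeIn A a b T.obj₂ := by
  haveI : ∀ M : ModuleCat.{u} A, DRing.HasLTensor A M := hasLTensor
  rw [iff_ltensor] at h₁ h₃ ⊢
  exact fun M i hi => (two_of_three T hT M i (i + 1) rfl).1 (h₁ M i hi) (h₃ M i hi)

include hT in
/-- (3) of the two-out-of-three property. -/
theorem obj₁_of (h₂ : DRing.HasTorAmplitudeIn A (a + 1) (b + 1) T.obj₂)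
    (h₃ : DRing.HasTorAmplitudeIn A a b T.obj₃) : DRing.HasTorAmplitudeIn A (a + 1) (b + 1) T.obj₁ := by
  haveI : ∀ M : ModuleCat.{u} A, DRing.HasLTensor A M := hasLTensor
  rw [iff_ltensor] at h₂ h₃ ⊢
  exact fun M i hi => (two_of_three T hT M (i - 1) i (by omega)).2.2 (h₃ M (i - 1) (by omega)) (h₂ M i hi)

end Groth.Agent.H9Misc.DRingTor
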