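import Groth.Prelude.Def_Coh
import Groth.Agent.SiteBase.ClosedEmb
import Groth.Agent.QCoh.ToSheaf
import Mathlib.AlgebraicGeometry.Morphisms.ClosedImmersion

/-! Direct images of arbitrary modules along closed immersions are full. -/

set_option linter.style.haveILetI false
set_option backward.isDefEq.respectTransparency false

universe u

open CategoryTheory CategoryTheory.Limits AlgebraicGeometry TopologicalSpace Opposite

namespace Groth.Agent.H9Misc.ClosedPushFull

variable {Z X : Scheme.{u}} (i : Z ⟶ X) [IsClosedImmersion i]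

/-- Functions lift locally along a closed immersion. -/
theorem exists_lift {V : Z.Opens} (r : Γ(Z, V)) (x : Z) (hx : x ∈ V) :
    ∃ (O : X.Opens) (a : Γ(X, O)) (hO : i ⁻¹ᵁ O ≤ V), x ∈ i ⁻¹ᵁ O ∧
      i.app O a = Z.presheaf.map (homOfLE hO).op r := by
  obtain ⟨s, hs⟩ := i.stalkMap_surjective x (Z.presheaf.germ V x hx r)
  obtain ⟨O₁, hxO₁, a₁, rfl⟩ := X.presheaf.germ_exist s
  rw [Scheme.Hom.germ_stalkMap_apply] at hs
  obtain ⟨W, hxW, iU, iV, hW⟩ := Z.presheaf.germ_eq x _ _ _ _ hs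
  obtain ⟨O₂, hO₂, hO₂W⟩ := (IsClosedImmersion.base_closed (f := i)).isInducing.isOpen_iff.1 W.2
  let O : X.Opens := O₁ ⊓ ⟨O₂, hO₂⟩
  have hOW : i ⁻¹ᵁ O ≤ W := fun z hz => by
    exact (Set.ext_iff.1 hO₂W z).1 hz.2
  refine ⟨O, X.presheaf.map (homOfLE inf_le_left).op a₁, hOW.trans iV.le, ⟨hxO₁, ?_⟩, ?_⟩
  · show i x ∈ O₂
    exact (Set.ext_iff.1 hO₂W x).2 hxW
  · have h1 := congrArg (fun t => Z.presheaf.map (homOfLE hOW).op t) hW
    simp only [← ConcreteCategory.comp_apply, ← Functor.map_comp] at h1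
    rw [← ConcreteCategory.comp_apply, i.naturality, ConcreteCategory.comp_apply, ← ConcreteCategory.comp_apply]
    simp only [Category.assoc, ← Functor.map_comp] at h1
    exact h1

/-- A map of direct images along a closed immersion is a direct image. -/
theorem exists_map {M N : Z.Modules}
    (χ : (Scheme.Modules.pushforward i).obj M ⟶ (Scheme.Modules.pushforward i).obj N) :
    ∃ φ : M ⟶ N, (Scheme.Modules.pushforward i).map φ = χ := by
  have hf : Topology.IsInducing i.base := (IsClosedImmersion.base_closed (f := i)).isInducing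
  haveI := ClosedEmb.push_full hf
  let F : CohTop.Ab Z.toPresheafedSpace.carrier := ⟨M.presheaf, M.isSheaf⟩
  let G : CohTop.Ab Z.toPresheafedSpace.carrier := ⟨N.presheaf, N.isSheaf⟩
  let η : (CohTop.push i.base).obj F ⟶ (CohTop.push i.base).obj G := ⟨χ.mapPresheaf⟩
  obtain ⟨g, hg⟩ := (CohTop.push i.base).map_surjective η
  have hgO : ∀ (O : X.Opens) (t : Γ(M, i ⁻¹ᵁ O)), g.1.app (op (i ⁻¹ᵁ O)) t = χ.app O t := fun O t =>
    ConcreteCategory.congr_hom (congrArg (fun q : _ ⟶ (CohTop.push i.base).obj G => q.1.app (op O)) hg) t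
  have hnat : ∀ {V W : Z.Opens} (h : W ≤ V) (t : Γ(M, V)),
      N.presheaf.map (homOfLE h).op (g.1.app (op V) t) = g.1.app (op W) (M.presheaf.map (homOfLE h).op t) :=
    fun {V W} h t => (ConcreteCategory.congr_hom (g.1.naturality (homOfLE h).op) t).symm
  have hlin : ∀ (V : Z.Opens) (r : Γ(Z, V)) (s : Γ(M, V)),
      g.1.app (op V) (r • s) = r • (show Γ(N, V) from g.1.app (op V) s) := by
    intro V r s
    choose O a hO hxO ha using fun x : V => exists_lift i r x.1 x.2
    refine TopCat.Sheaf.eq_of_locally_eq' G (fun x : V => i ⁻¹ᵁ O x) V (fun x => homOfLE (hO x))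
      (fun z hz => TopologicalSpace.Opens.mem_iSup.2 ⟨⟨z, hz⟩, hxO ⟨z, hz⟩⟩) _ _ fun x => ?_
    show N.presheaf.map (homOfLE (hO x)).op (g.1.app (op V) (r • s)) =
      N.presheaf.map (homOfLE (hO x)).op (r • (show Γ(N, V) from g.1.app (op V) s))
    rw [hnat, Scheme.Modules.map_smul, Scheme.Modules.map_smul]
    show g.1.app _ ((Z.presheaf.map (homOfLE (hO x)).op r) • M.presheaf.map (homOfLE (hO x)).op s) =
      (Z.presheaf.map (homOfLE (hO x)).op r) • N.presheaf.map (homOfLE (hO x)).op (g.1.app (op V) s)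
    rw [hnat, ← ha x, hgO, hgO]
    exact Scheme.Modules.Hom.app_smul χ (a x) (show Γ((Scheme.Modules.pushforward i).obj M, O x) from _)
  refine ⟨⟨PresheafOfModules.homMk g.1 fun V (r : Γ(Z, V.unop)) (s : Γ(M, V.unop)) => hlin V.unop r s⟩, ?_⟩
  refine Scheme.Modules.hom_ext _ _ fun O => ?_
  ext t
  exact hgO O t

end Groth.Agent.H9Misc.ClosedPushFull
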