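import Mathlib.CategoryTheory.Functor.Derived.PointwiseRightDerived
import Mathlib.CategoryTheory.Functor.Derived.PointwiseLeftDerived

/-! Pointwise derived functors from adapted objects. -/

universe v₁ v₂ v₃ u₁ u₂ u₃

open CategoryTheory Category Limits

namespace Groth.Agent.H9Misc.AdaptedDerived

variable {C : Type u₁} [Category.{v₁} C] {D : Type u₂} [Category.{v₂} D]
  {H : Type u₃} [Category.{v₃} H]

/-- Conditions for computing a derived functor with adapted objects. -/
structure IsAdaptedClass (L : C ⥤ D) (G : C ⥤ H) (P : C → Prop) : Prop where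
  res : ∀ X, ∃ (R : C) (w : X ⟶ R), IsIso (L.map w) ∧ P R
  frac : ∀ {X R : C} (g : L.obj X ⟶ L.obj R), ∃ (R' : C) (f : X ⟶ R') (s : R ⟶ R'),
    IsIso (L.map s) ∧ g ≫ L.map s = L.map f
  eq : ∀ {X R : C} (f g : X ⟶ R), L.map f = L.map g →
    ∃ (R' : C) (t : R ⟶ R'), IsIso (L.map t) ∧ G.map (f ≫ t) = G.map (g ≫ t)
  inverts : ∀ {R R' : C} (s : R ⟶ R'), P R → P R' → IsIso (L.map s) → IsIso (G.map s)

namespace IsAdaptedClass

variable {L : C ⥤ D} {G : C ⥤ H} {P : C → Prop} (h : IsAdaptedClass L G P)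
include h

lemma exists_roof {X R : C} (g : L.obj X ⟶ L.obj R) : ∃ (R' : C) (f : X ⟶ R') (s : R ⟶ R'),
    P R' ∧ IsIso (L.map s) ∧ g ≫ L.map s = L.map f := by
  obtain ⟨R', f, s, hs, e⟩ := h.frac g
  obtain ⟨R'', w, hw, hR⟩ := h.res R'
  refine ⟨R'', f ≫ w, s ≫ w, hR, by rw [L.map_comp]; infer_instance, ?_⟩
  rw [L.map_comp, L.map_comp, reassoc_of% e]

lemma exists_common {X R R₁ R₂ : C} (f₁ : X ⟶ R₁) (s₁ : R ⟶ R₁) (f₂ : X ⟶ R₂) (s₂ : R ⟶ R₂)
    (g : L.obj X ⟶ L.obj R) [IsIso (L.map s₁)] [IsIso (L.map s₂)]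
    (e₁ : g ≫ L.map s₁ = L.map f₁) (e₂ : g ≫ L.map s₂ = L.map f₂) :
    ∃ (R₃ : C) (a : R₁ ⟶ R₃) (b : R₂ ⟶ R₃), P R₃ ∧ IsIso (L.map a) ∧ IsIso (L.map b) ∧
      G.map (f₁ ≫ a) = G.map (f₂ ≫ b) ∧ G.map (s₁ ≫ a) = G.map (s₂ ≫ b) := by
  obtain ⟨R₀, a, b, hb, e⟩ := h.frac (inv (L.map s₁) ≫ L.map s₂)
  have ha : IsIso (L.map a) := by rw [← e]; infer_instance
  have es : L.map (s₁ ≫ a) = L.map (s₂ ≫ b) := by
    rw [L.map_comp, L.map_comp, ← e]
    simp
  obtain ⟨R', t, ht, et⟩ := h.eq _ _ es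
  have ef : L.map ((f₁ ≫ a) ≫ t) = L.map ((f₂ ≫ b) ≫ t) := by
    simp only [L.map_comp, ← e₁, ← e₂, assoc]
    rw [← L.map_comp_assoc, es, L.map_comp_assoc]
  obtain ⟨R'', t', ht', et'⟩ := h.eq _ _ ef
  obtain ⟨R₃, w, hw, hR⟩ := h.res R''
  refine ⟨R₃, a ≫ t ≫ t' ≫ w, b ≫ t ≫ t' ≫ w, hR, by simp only [L.map_comp]; infer_instance,
    by simp only [L.map_comp]; infer_instance, ?_, ?_⟩
  · have := congrArg (· ≫ G.map w) et'
    simpa using this
  · have := congrArg (· ≫ G.map (t' ≫ w)) et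
    simpa using this

/-- The component of the cocone. -/
noncomputable def comp {R : C} (hR : P R) {X : C} (g : L.obj X ⟶ L.obj R) : G.obj X ⟶ G.obj R :=
  have := h.inverts (h.exists_roof g).choose_spec.choose_spec.choose hR
    (h.exists_roof g).choose_spec.choose_spec.choose_spec.1
    (h.exists_roof g).choose_spec.choose_spec.choose_spec.2.1
  G.map (h.exists_roof g).choose_spec.choose ≫
    inv (G.map (h.exists_roof g).choose_spec.choose_spec.choose)

lemma comp_spec {R : C} (hR : P R) {X : C} (g : L.obj X ⟶ L.obj R) {R' : C} (f : X ⟶ R')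
    (s : R ⟶ R') (hR' : P R') [IsIso (L.map s)] (e : g ≫ L.map s = L.map f) :
    h.comp hR g ≫ G.map s = G.map f := by
  obtain ⟨hR₀, hs₀, e₀⟩ := (h.exists_roof g).choose_spec.choose_spec.choose_spec
  have := h.inverts (h.exists_roof g).choose_spec.choose_spec.choose hR hR₀ hs₀
  have h0 : h.comp hR g ≫ G.map (h.exists_roof g).choose_spec.choose_spec.choose =
      G.map (h.exists_roof g).choose_spec.choose := by
    simp [comp]
  obtain ⟨R₃, a, b, hR₃, ha, hb, ef, es⟩ := h.exists_common _ _ f s g e₀ e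
  have := h.inverts b hR' hR₃ hb
  rw [← cancel_mono (G.map b), assoc, ← G.map_comp, ← es, G.map_comp, reassoc_of% h0,
    ← G.map_comp, ef, G.map_comp]

lemma comp_map {R : C} (hR : P R) {X : C} (f : X ⟶ R) : h.comp hR (L.map f) = G.map f := by
  have := h.comp_spec hR (L.map f) f (𝟙 R) hR (by simp)
  simpa using this

lemma comp_natural {R : C} (hR : P R) {X Y : C} (u : X ⟶ Y) (g : L.obj Y ⟶ L.obj R) :
    G.map u ≫ h.comp hR g = h.comp hR (L.map u ≫ g) := by
  obtain ⟨R', f, s, hR', hs, e⟩ := h.exists_roof g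
  have := h.inverts s hR hR' hs
  rw [← cancel_mono (G.map s), assoc, h.comp_spec hR g f s hR' e,
    h.comp_spec hR (L.map u ≫ g) (u ≫ f) s hR' (by rw [assoc, e, L.map_comp]), G.map_comp]

/-- The cocone computing the derived functor at an adapted object. -/
noncomputable def cocone {R : C} (hR : P R) : Cocone (CostructuredArrow.proj L (L.obj R) ⋙ G) where
  pt := G.obj R
  ι :=
    { app := fun j => h.comp hR j.hom
      naturality := fun j k u => by
        show G.map u.left ≫ h.comp hR k.hom = h.comp hR j.hom ≫ 𝟙 _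
        rw [comp_id, h.comp_natural hR u.left k.hom, CostructuredArrow.w u] }

/-- The cocone is a colimit. -/
noncomputable def isColimit {R : C} (hR : P R) : IsColimit (h.cocone hR) where
  desc s := s.ι.app (CostructuredArrow.mk (𝟙 (L.obj R)))
  fac s j := by
    obtain ⟨R', f, t, hR', ht, e⟩ := h.exists_roof j.hom
    have ht' := h.inverts t hR hR' ht
    have e₀ : G.map t ≫ s.ι.app (CostructuredArrow.mk (inv (L.map t))) =
        s.ι.app (CostructuredArrow.mk (𝟙 (L.obj R))) := by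
      have := s.ι.naturality (CostructuredArrow.homMk t (by simp) :
        CostructuredArrow.mk (𝟙 (L.obj R)) ⟶ CostructuredArrow.mk (inv (L.map t)))
      simp at this
      exact this
    have e₁ : G.map f ≫ s.ι.app (CostructuredArrow.mk (inv (L.map t))) = s.ι.app j := by
      have := s.ι.naturality (CostructuredArrow.homMk f (by simp [← e]) :
        j ⟶ CostructuredArrow.mk (inv (L.map t)))
      simp at this
      exact this
    show h.comp hR j.hom ≫ s.ι.app (CostructuredArrow.mk (𝟙 (L.obj R))) = _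
    rw [← e₀, ← assoc, h.comp_spec hR j.hom f t hR' e, e₁]
  uniq s m hm := by
    have := hm (CostructuredArrow.mk (𝟙 (L.obj R)))
    rw [← this]
    show m = h.comp hR (𝟙 (L.obj R)) ≫ m
    rw [← L.map_id, h.comp_map hR, G.map_id, id_comp]

lemma hasPointwiseLeftKanExtensionAt (X : C) :
    Functor.HasPointwiseLeftKanExtensionAt L G (L.obj X) := by
  obtain ⟨R, w, hw, hR⟩ := h.res X
  rw [Functor.hasPointwiseLeftKanExtensionAt_iff_of_iso L G (asIso (L.map w))]
  exact ⟨⟨⟨h.cocone hR, h.isColimit hR⟩⟩⟩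

lemma isIso_app {RF : D ⥤ H} {α : G ⟶ L ⋙ RF}
    (hα : (Functor.LeftExtension.mk RF α).IsPointwiseLeftKanExtension) {R : C} (hR : P R) :
    IsIso (α.app R) := by
  have e := IsColimit.comp_coconePointUniqueUpToIso_hom (h.isColimit hR) (hα (L.obj R))
    (CostructuredArrow.mk (𝟙 (L.obj R)))
  have e' : h.comp hR (𝟙 (L.obj R)) = 𝟙 _ := by rw [← L.map_id, h.comp_map hR, G.map_id]
  have e'' : α.app R = ((h.isColimit hR).coconePointUniqueUpToIso (hα (L.obj R))).hom := by
    refine Eq.trans ?_ (e.symm.trans ((congrArg (· ≫ _) e').trans (id_comp _)))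
    simp
  rw [e'']
  infer_instance

variable (W : MorphismProperty C) [L.IsLocalization W]

lemma hasPointwiseRightDerivedFunctor : G.HasPointwiseRightDerivedFunctor W := fun X =>
  (G.hasPointwiseRightDerivedFunctorAt_iff L W X).2 (h.hasPointwiseLeftKanExtensionAt X)

lemma hasRightDerivedFunctor : G.HasRightDerivedFunctor W :=
  have := h.hasPointwiseRightDerivedFunctor W
  inferInstance

lemma isIso_totalRightDerivedUnit [G.HasRightDerivedFunctor W] {R : C} (hR : P R) :
    IsIso ((G.totalRightDerivedUnit L W).app R) :=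
  have := h.hasPointwiseRightDerivedFunctor W
  h.isIso_app (Functor.isPointwiseLeftKanExtensionOfHasPointwiseRightDerivedFunctor _
    (G.totalRightDerivedUnit L W) W) hR

end IsAdaptedClass

end Groth.Agent.H9Misc.AdaptedDerived
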