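import Groth.Agent.TriCat.KInjCriterion
import Mathlib.CategoryTheory.Abelian.CommSq
import Mathlib.Algebra.Homology.HomologicalComplexAbelian
import Mathlib.Algebra.Homology.HomologicalComplexLimits
import Mathlib.CategoryTheory.Limits.Shapes.Pullback.IsPullback.Kernels
import Mathlib.CategoryTheory.Functor.OfSequence
import Mathlib.Data.ENat.Basic
import Mathlib.Data.ENat.Lattice

/-! Replacing the terms of a complex by objects of dimension zero. -/

universe v u

open CategoryTheory Category Limits HomologicalComplex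

namespace Groth.Agent.H9Misc.DimZero

open Groth.Agent.TriCat

variable {A : Type u} [Category.{v} A] [Abelian A]

/-- Stabilising sequences of quasi-isomorphisms have a limit complex. -/
theorem exists_stable (F : ℕ ⥤ CochainComplex A ℤ) (hq : ∀ t, QuasiIso (F.map (homOfLE (Nat.zero_le t))))
    (T : ℤ → ℕ) (hT : ∀ (n : ℤ) (s t : ℕ) (h : s ≤ t), T n ≤ s → IsIso ((F.map (homOfLE h)).f n)) :
    ∃ (L : CochainComplex A ℤ) (f : F.obj 0 ⟶ L), QuasiIso f ∧
      ∀ n, ∃ t, T n ≤ t ∧ Nonempty ((F.obj t).X n ≅ L.X n) := by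
  let tr : ∀ (n : ℤ) (s t : ℕ) (_ : s ≤ t), (F.obj s).X n ⟶ (F.obj t).X n :=
    fun n s t h => (F.map (homOfLE h)).f n
  have tr_comp : ∀ n s t r (h : s ≤ t) (h' : t ≤ r), tr n s t h ≫ tr n t r h' = tr n s r (h.trans h') :=
    fun n s t r h h' => by
      simp only [tr, ← HomologicalComplex.comp_f, ← F.map_comp, homOfLE_comp]
  let T' : ℤ → ℤ → ℕ := fun i j => max (T i) (T j)
  let d : ∀ i j, (F.obj (T i)).X i ⟶ (F.obj (T j)).X j := fun i j =>
    have := hT j (T j) (T' i j) (le_max_right _ _) le_rfl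
    tr i (T i) (T' i j) (le_max_left _ _) ≫ (F.obj (T' i j)).d i j ≫
      inv (tr j (T j) (T' i j) (le_max_right _ _))
  have key : ∀ i j t (hi : T i ≤ t) (hj : T j ≤ t),
      d i j ≫ tr j (T j) t hj = tr i (T i) t hi ≫ (F.obj t).d i j := fun i j t hi hj => by
    have := hT j (T j) (T' i j) (le_max_right _ _) le_rfl
    simp only [d]
    rw [← tr_comp j (T j) (T' i j) t (le_max_right _ _) (max_le hi hj)]
    rw [← tr_comp i (T i) (T' i j) t (le_max_left _ _) (max_le hi hj)]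
    simp only [assoc, IsIso.inv_hom_id_assoc]
    exact congrArg _ ((F.map (homOfLE (max_le hi hj))).comm i j).symm
  let L : CochainComplex A ℤ :=
    { X := fun n => (F.obj (T n)).X n
      d := d
      shape := fun i j h => by simp only [d, (F.obj (T' i j)).shape i j h, comp_zero, zero_comp]
      d_comp_d' := fun i j k _ _ => by
        let t := max (T i) (max (T j) (T k))
        have hi : T i ≤ t := le_max_left _ _
        have hj : T j ≤ t := (le_max_left _ _).trans (le_max_right _ _)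
        have hk : T k ≤ t := (le_max_right _ _).trans (le_max_right _ _)
        have := hT k (T k) t hk le_rfl
        rw [← cancel_mono (tr k (T k) t hk), assoc, key j k t hj hk, reassoc_of% (key i j t hi hj),
          HomologicalComplex.d_comp_d, comp_zero, zero_comp] }
  let f : F.obj 0 ⟶ L :=
    { f := fun n => tr n 0 (T n) (Nat.zero_le _)
      comm' := fun i j _ => by
        have := hT j (T j) (T' i j) (le_max_right _ _) le_rfl
        apply (cancel_mono (tr j (T j) (T' i j) (le_max_right _ _))).1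
        refine (assoc _ _ _).trans ((congrArg (tr i 0 (T i) _ ≫ ·)
          (key i j (T' i j) (le_max_left _ _) (le_max_right _ _))).trans ?_)
        refine ((assoc _ _ _).symm.trans (congrArg (· ≫ _) (tr_comp i _ _ _ _ _))).trans ?_
        refine ((F.map (homOfLE (Nat.zero_le (T' i j)))).comm i j).trans ?_
        exact (congrArg ((F.obj 0).d i j ≫ ·) (tr_comp j _ _ _ _ _).symm).trans (assoc _ _ _).symm }
  refine ⟨L, f, ⟨fun n => ?_⟩, fun n => ⟨T n, le_rfl, ⟨Iso.refl _⟩⟩⟩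
  let t := max (T (n - 1)) (max (T n) (T (n + 1)))
  have h1 : T (n - 1) ≤ t := le_max_left _ _
  have h2 : T n ≤ t := (le_max_left _ _).trans (le_max_right _ _)
  have h3 : T (n + 1) ≤ t := (le_max_right _ _).trans (le_max_right _ _)
  rw [quasiIsoAt_iff' _ (n - 1) n (n + 1) (by simp) (by simp)]
  let ψ : L.sc' (n - 1) n (n + 1) ⟶ (F.obj t).sc' (n - 1) n (n + 1) :=
    ShortComplex.homMk (tr _ _ t h1) (tr _ _ t h2) (tr _ _ t h3)
      (key _ _ t h1 h2).symm (key _ _ t h2 h3).symm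
  have : IsIso ψ.τ₁ := hT _ _ t h1 le_rfl
  have : IsIso ψ.τ₂ := hT _ _ t h2 le_rfl
  have : IsIso ψ.τ₃ := hT _ _ t h3 le_rfl
  have : IsIso ψ := ShortComplex.isIso_of_isIso ψ
  let φ : (F.obj 0).sc' (n - 1) n (n + 1) ⟶ (F.obj t).sc' (n - 1) n (n + 1) :=
    (shortComplexFunctor' A _ (n - 1) n (n + 1)).map (F.map (homOfLE (Nat.zero_le t)))
  have hφ : ShortComplex.QuasiIso φ :=
    (quasiIsoAt_iff' _ (n - 1) n (n + 1) (by simp) (by simp)).1 ((hq t).quasiIsoAt n)
  have e : (shortComplexFunctor' A _ (n - 1) n (n + 1)).map f ≫ ψ = φ := by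
    ext
    · exact tr_comp _ _ _ _ _ _
    · exact tr_comp _ _ _ _ _ _
    · exact tr_comp _ _ _ _ _ _
  rw [← e] at hφ
  exact ShortComplex.quasiIso_of_comp_right _ ψ

variable (d : A → ℕ∞) (hiso : ∀ ⦃X Y : A⦄, Nonempty (X ≅ Y) → d X = d Y)
    (h1 : ∀ X : A, ∃ (Y : A) (ι : X ⟶ Y), Mono ι ∧ d Y = 0)
    (h2 : ∀ X Y : A, d (X ⊞ Y) ≤ max (d X) (d Y))
    (h3 : ∀ S : ShortComplex A, S.ShortExact → d S.X₃ ≤ max (d S.X₁ - 1) (d S.X₂))

include hiso h1 h2 h3

/-- One elementary step. -/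
theorem exists_step (K : CochainComplex A ℤ) (n : ℤ) :
    ∃ (K' : CochainComplex A ℤ) (φ : K ⟶ K'), QuasiIso φ ∧
      (∀ j, j ≠ n → j ≠ n + 1 → IsIso (φ.f j)) ∧ d (K'.X n) = 0 ∧
      d (K'.X (n + 1)) ≤ max (d (K.X n) - 1) (d (K.X (n + 1))) ∧
      (d (K.X n) = 0 → ∀ j, IsIso (φ.f j)) := by
  by_cases h0 : d (K.X n) = 0
  · exact ⟨K, 𝟙 K, inferInstance, fun j _ _ => inferInstanceAs (IsIso (𝟙 (K.X j))), h0,
      le_max_right _ _, fun _ j => inferInstanceAs (IsIso (𝟙 (K.X j)))⟩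
  obtain ⟨E, ι, hι, hE⟩ := h1 (K.X n)
  let g : disk n (K.X n) ⟶ K := diskDesc (𝟙 _)
  let m : disk n (K.X n) ⟶ disk n E := diskMap n ι
  have sq : IsPushout g m (pushout.inl g m) (pushout.inr g m) := IsPushout.of_hasPushout g m
  have sqj : ∀ j, IsPushout (g.f j) (m.f j) ((pushout.inl g m).f j) ((pushout.inr g m).f j) :=
    fun j => sq.map (HomologicalComplex.eval A _ j)
  have hmono : Mono (pushout.inl g m) := inferInstance
  refine ⟨pushout g m, pushout.inl g m, ?_, fun j hj hj' => ?_, ?_, ?_, fun h => absurd h h0⟩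
  · rw [quasiIso_iff_acyclic_cokernel]
    intro i
    have := isIso_cokernel_map_of_isPushout sq.flip
    refine (((quasiIso_iff_acyclic_cokernel m).1 ⟨fun i =>
      (quasiIsoAt_iff_exactAt _ i (acyclic_disk n _ i)).2 (acyclic_disk n _ i)⟩) i).of_iso
        (asIso (cokernel.map _ _ _ _ sq.flip.w))
  · have hz : ∀ U : A, IsZero ((disk n U).X j) := fun U =>
      HomologicalComplex.isZero_double_X (𝟙 U) _ j hj hj'
    have : IsIso (m.f j) := (isIso_iff_mono_and_epi _).2
      ⟨⟨fun _ _ _ => (hz _).eq_of_tgt _ _⟩, ⟨fun _ _ _ => (hz _).eq_of_src _ _⟩⟩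
    exact (sqj j).isIso_inl_of_isIso
  · have hne : n ≠ n + 1 := by lia
    have : IsIso (g.f n) := by
      have e : g.f n = (HomologicalComplex.doubleXIso₀ _ _).hom := by
        simp [g, diskDesc]
      rw [e]; infer_instance
    have := (sqj n).isIso_inr_of_isIso
    rw [← hiso ⟨(HomologicalComplex.doubleXIso₀ _ _).symm ≪≫ asIso ((pushout.inr g m).f n)⟩, hE]
  · have hne : n ≠ n + 1 := by lia
    have : Mono (m.f (n + 1)) := inferInstance
    let S := (sqj (n + 1)).shortComplex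
    have hS : S.ShortExact :=
      { exact := (sqj (n + 1)).exact_shortComplex
        mono_f := by
          show Mono (biprod.lift (g.f (n + 1)) (-m.f (n + 1)))
          exact mono_of_mono_fac (biprod.lift_snd (g.f (n + 1)) (-m.f (n + 1)))
        epi_g := (sqj (n + 1)).epi_shortComplex_g }
    refine (h3 S hS).trans (max_le_max ?_ ?_)
    · rw [show d S.X₁ = d (K.X n) from hiso ⟨HomologicalComplex.doubleXIso₁ (𝟙 _) (show (ComplexShape.up ℤ).Rel n (n + 1) from rfl) hne⟩]
    · refine (h2 _ _).trans (max_le le_rfl ?_)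
      rw [show d ((disk n E).X (n + 1)) = d E from hiso ⟨HomologicalComplex.doubleXIso₁ _ _ hne⟩, hE]
      exact zero_le

/-- A sweep from `a` through `k` degrees. -/
theorem exists_sweep (K : CochainComplex A ℤ) (hfin : ∀ j, d (K.X j) ≠ ⊤) (a : ℤ) (k : ℕ) :
    ∃ (K' : CochainComplex A ℤ) (φ : K ⟶ K'), QuasiIso φ ∧
      (∀ j, (j < a ∨ a + k < j) → IsIso (φ.f j)) ∧
      (∀ j, a ≤ j → j < a + k → d (K'.X j) = 0) ∧
      (∀ j, d (K'.X j) ≠ ⊤) ∧
      (∀ c b : ℤ, d (K.X a) ≤ ((c - a).toNat : ℕ∞) → (∀ j, a < j → j ≤ b → d (K.X j) = 0) →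
        (a + k ≤ b → d (K'.X (a + k)) ≤ ((c - (a + k)).toNat : ℕ∞)) ∧
        ∀ j, c < j → a < j → j ≤ b → IsIso (φ.f j)) := by
  induction k with
  | zero =>
    refine ⟨K, 𝟙 K, inferInstance, fun j _ => inferInstanceAs (IsIso (𝟙 (K.X j))),
      fun j h h' => absurd h' (by simp; omega), hfin, fun c b hc _ => ⟨fun _ => ?_,
        fun j _ _ _ => inferInstanceAs (IsIso (𝟙 (K.X j)))⟩⟩
    have e : a + ((0 : ℕ) : ℤ) = a := by simp
    rw [e]
    exact hc
  | succ k ih =>
    obtain ⟨K', φ, hφ, hiso', hz, hf, hb⟩ := ih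
    obtain ⟨n, hn⟩ : ∃ n : ℤ, n = a + k := ⟨_, rfl⟩
    rw [← hn] at hiso' hz hb
    have hn' : a + ((k + 1 : ℕ) : ℤ) = n + 1 := by omega
    obtain ⟨K'', ψ, hψ, hψiso, hψ0, hψd, hψid⟩ := exists_step d hiso h1 h2 h3 K' n
    rw [hn']
    have hcomp : ∀ j, IsIso (φ.f j) → IsIso (ψ.f j) → IsIso ((φ ≫ ψ).f j) := fun j _ _ => by
      rw [HomologicalComplex.comp_f]; infer_instance
    have heq : ∀ j, IsIso (ψ.f j) → d (K''.X j) = d (K'.X j) := fun j _ =>
      (hiso ⟨asIso (ψ.f j)⟩).symm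
    refine ⟨K'', φ ≫ ψ, inferInstance, fun j hj => hcomp j (hiso' j (by omega)) ?_, fun j h h' => ?_,
      fun j => ?_, fun c b hc hbz => ?_⟩
    · rcases hj with hj | hj <;> exact hψiso j (by omega) (by omega)
    · rcases (show j = n ∨ j < n by omega) with rfl | h''
      · exact hψ0
      · rw [heq j (hψiso j (by omega) (by omega))]
        exact hz j h h''
    · by_cases e1 : j = n
      · subst e1; simp [hψ0]
      · by_cases e2 : j = n + 1
        · subst e2
          exact ne_top_of_le_ne_top (fun h => by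
            rcases max_eq_top.1 h with h | h
            · exact hf n (ENat.sub_eq_top_iff.1 h).1
            · exact hf (n + 1) h) hψd
        · rw [heq j (hψiso j e1 e2)]
          exact hf j
    · obtain ⟨hd, hj⟩ := hb c b hc hbz
      have key : n + 1 ≤ b → d (K'.X (n + 1)) = 0 := fun h => by
        have := hiso' (n + 1) (by omega)
        rw [← hiso ⟨asIso (φ.f (n + 1))⟩]
        exact hbz (n + 1) (by omega) h
      refine ⟨fun h => hψd.trans (max_le ?_ ?_), fun j hcj haj hjb => hcomp j (hj j hcj haj hjb) ?_⟩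
      · refine (tsub_le_tsub_right (hd (by omega)) 1).trans ?_
        rw [← Nat.cast_one, ← ENat.coe_sub]
        exact Nat.cast_le.2 (by omega)
      · rw [key h]; exact zero_le
      · by_cases e : j = n ∨ j = n + 1
        · refine hψid ?_ j
          refine le_antisymm ((hd (by omega)).trans ?_) zero_le
          rw [show (c - n).toNat = 0 by omega]
          simp
        · exact hψiso j (by omega) (by omega)

/-- The main replacement theorem. -/
theorem exists_replacement (K : CochainComplex A ℤ) (hfin : ∀ n : ℤ, d (K.X n) ≠ ⊤)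
    (hK : ∀ m : ℤ, ∃ N : ℤ, ∀ n : ℤ, n ≤ N → ∃ k : ℕ, d (K.X n) = k ∧ n + k ≤ m) :
    ∃ (L : CochainComplex A ℤ) (f : K ⟶ L), QuasiIso f ∧ ∀ n, d (L.X n) = 0 := by
  let Ok : ℕ → CochainComplex A ℤ → Prop := fun t M =>
    (∀ j, d (M.X j) ≠ ⊤) ∧ (∀ j, -(t : ℤ) ≤ j → j < t → d (M.X j) = 0) ∧
      ∀ j, j < -(t : ℤ) → d (M.X j) = d (K.X j)
  have hstep : ∀ t M, Ok t M → ∃ (M' : CochainComplex A ℤ) (φ : M ⟶ M'), Ok (t + 1) M' ∧ QuasiIso φ ∧
      ∀ j c : ℤ, d (K.X (-(t : ℤ) - 1)) ≤ ((c - (-(t : ℤ) - 1)).toNat : ℕ∞) → c < j →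
        -(t : ℤ) ≤ j → j < t → IsIso (φ.f j) := by
    rintro t M ⟨hf, hz, ho⟩
    obtain ⟨M', φ, hφ, hi, hz', hf', hb⟩ :=
      exists_sweep d hiso h1 h2 h3 M hf (-(t : ℤ) - 1) (2 * t + 2)
    refine ⟨M', φ, ⟨hf', fun j h h' => hz' j (by omega) (by omega), fun j h => ?_⟩, hφ,
      fun j c hc hcj hj hj' => (hb c (t - 1) ?_ (fun j h h' => hz j (by omega) (by omega))).2 j hcj
        (by omega) (by omega)⟩
    · have := hi j (Or.inl (by omega))
      rw [← hiso ⟨asIso (φ.f j)⟩]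
      exact ho j (by omega)
    · rw [ho _ (by omega)]; exact hc
  choose M' φ hM' hφ hstab using hstep
  let seq : ∀ t, { M : CochainComplex A ℤ // Ok t M } := fun t =>
    Nat.rec (motive := fun t => { M : CochainComplex A ℤ // Ok t M })
      ⟨K, hfin, fun j h h' => absurd h' (by simp at *; omega), fun j _ => rfl⟩
      (fun t M => ⟨M' t M.1 M.2, hM' t M.1 M.2⟩) t
  let F : ℕ ⥤ CochainComplex A ℤ :=
    Functor.ofSequence (X := fun t => (seq t).1) (fun t => φ t (seq t).1 (seq t).2)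
  have hFs : ∀ t, F.map (homOfLE (Nat.le_succ t)) = φ t (seq t).1 (seq t).2 :=
    fun t => Functor.ofSequence_map_homOfLE_succ _ t
  have hq : ∀ t, QuasiIso (F.map (homOfLE (Nat.zero_le t))) := fun t => by
    induction t with
    | zero => rw [show homOfLE (Nat.zero_le 0) = 𝟙 _ from rfl, F.map_id]; infer_instance
    | succ t ih =>
      rw [show homOfLE (Nat.zero_le (t + 1)) = homOfLE (Nat.zero_le t) ≫ homOfLE (Nat.le_succ t) from rfl,
        F.map_comp, hFs]
      have := hφ t (seq t).1 (seq t).2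
      exact _root_.quasiIso_comp (hφ := ih) (hφ' := hφ t (seq t).1 (seq t).2) _ _
  have hN := fun n : ℤ => hK (n - 1)
  choose N hN using hN
  let T : ℤ → ℕ := fun n => max (n.natAbs + 1) (-(N n)).toNat
  have hT : ∀ (n : ℤ) (t : ℕ), T n ≤ t → IsIso ((F.map (homOfLE (Nat.le_succ t))).f n) := fun n t ht => by
    rw [hFs]
    have h1 : n.natAbs + 1 ≤ t := (le_max_left _ _).trans ht
    have h2 : (-(N n)).toNat ≤ t := (le_max_right _ _).trans ht
    obtain ⟨k, hk, hk'⟩ := hN n (-(t : ℤ) - 1) (by omega)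
    exact hstab t _ (seq t).2 n (-(t : ℤ) - 1 + k) (by rw [hk]; exact Nat.cast_le.2 (by omega))
      (by omega) (by omega) (by omega)
  have hT' : ∀ (n : ℤ) (s t : ℕ) (h : s ≤ t), T n ≤ s → IsIso ((F.map (homOfLE h)).f n) :=
    fun n s t h hs => by
    induction t, h using Nat.le_induction with
    | base => rw [show homOfLE (le_refl s) = 𝟙 _ from rfl, F.map_id]; exact inferInstanceAs (IsIso (𝟙 _))
    | succ t ht ih =>
      rw [show homOfLE (ht.trans (Nat.le_succ t)) = homOfLE ht ≫ homOfLE (Nat.le_succ t) from rfl,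
        F.map_comp, HomologicalComplex.comp_f]
      have := hT n t (hs.trans ht)
      infer_instance
  obtain ⟨L, f, hf, hL⟩ := exists_stable F hq T hT'
  refine ⟨L, f, hf, fun n => ?_⟩
  obtain ⟨t, ht, ⟨e⟩⟩ := hL n
  rw [← hiso ⟨e⟩]
  have h1 : n.natAbs + 1 ≤ t := (le_max_left _ _).trans ht
  exact (seq t).2.2.1 n (by omega) (by omega)

end Groth.Agent.H9Misc.DimZero
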