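import Groth.Agent.HorseLib.InjEnlarge
import Groth.Agent.H9Misc.DimZero
import Mathlib.Algebra.Homology.Augment
import Mathlib.Algebra.Homology.Single

/-! Resolutions by a class closed under long enough cosyzygies. -/

universe v u

open CategoryTheory Category Limits HomologicalComplex ZeroObject

namespace Groth.Agent.H9Misc.ClassRes

open Groth.Agent.HorseLib

variable {A : Type u} [Category.{v} A] [Abelian A]

section Map

variable {D Q Q' : CochainComplex A ℤ} (π : D ⟶ Q) (q : Q ⟶ Q')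

/-- Functoriality of the cocone. -/
noncomputable def coconeMap : coconeCx π ⟶ coconeCx (π ≫ q) where
  f n := (biprod.map (𝟙 (D.X n)) (q.f (n - 1)) : coconeX D Q n ⟶ coconeX D Q' n)
  comm' i j (h : i + 1 = j) := by
    subst h
    rw [coconeCx_d, coconeCx_d]
    show (biprod.map (𝟙 (D.X i)) (q.f (i - 1)) : coconeX D Q i ⟶ coconeX D Q' i) ≫ coconeD (π ≫ q) i =
      coconeD π i ≫ (biprod.map (𝟙 (D.X (i + 1))) (q.f (i + 1 - 1)) : coconeX D Q (i + 1) ⟶ coconeX D Q' (i + 1))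
    unfold coconeD coconeX
    apply biprod.hom_ext
    · simp
    · apply biprod.hom_ext' <;>
        simp [Preadditive.comp_sub, Preadditive.sub_comp, map_xiso, map_xiso_assoc]

lemma mono_coconeMap [∀ n, Mono (q.f n)] (n : ℤ) : Mono ((coconeMap π q).f n) := by
  show Mono (biprod.map (𝟙 (D.X n)) (q.f (n - 1)))
  exact biprod.map_mono _ _

lemma key [∀ n, Mono (q.f n)] [QuasiIso q] (n : ℤ) {B : A} (y : B ⟶ coconeX D Q' n)
    (x : B ⟶ coconeX D Q (n + 1))
    (hyx : y ≫ coconeD (π ≫ q) n =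
      x ≫ (biprod.map (𝟙 (D.X (n + 1))) (q.f (n + 1 - 1)) : coconeX D Q (n + 1) ⟶ coconeX D Q' (n + 1))) :
    ∃ (B' : A) (p : B' ⟶ B) (_ : Epi p) (k : B' ⟶ (coconeCx π).X n) (w : B' ⟶ (coconeCx (π ≫ q)).X (n - 1)),
      p ≫ y = k ≫ (coconeMap π q).f n + w ≫ (coconeCx (π ≫ q)).d (n - 1) n := by
  let a := y ≫ (biprod.fst : coconeX D Q' n ⟶ _)
  let b := y ≫ (biprod.snd : coconeX D Q' n ⟶ _)
  let c := x ≫ (biprod.snd : coconeX D Q (n + 1) ⟶ _) ≫ (Q.XIsoOfEq (show n + 1 - 1 = n by lia)).hom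
  have h2 : b ≫ Q'.d (n - 1) n = (a ≫ π.f n - c) ≫ q.f n := by
    have h := congrArg (fun t => t ≫ (biprod.snd : coconeX D Q' (n + 1) ⟶ _) ≫
      (Q'.XIsoOfEq (show n + 1 - 1 = n by lia)).hom) hyx
    have hl : coconeD (π ≫ q) n ≫ (biprod.snd : coconeX D Q' (n + 1) ⟶ _) =
        biprod.fst ≫ (π ≫ q).f n ≫ (Q'.XIsoOfEq (show n = n + 1 - 1 by lia)).hom -
          biprod.snd ≫ Q'.d (n - 1) (n + 1 - 1) := biprod.lift_snd _ _
    have hr : (biprod.map (𝟙 (D.X (n + 1))) (q.f (n + 1 - 1)) : coconeX D Q (n + 1) ⟶ coconeX D Q' (n + 1)) ≫ (biprod.snd : coconeX D Q' (n + 1) ⟶ _) =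
        (biprod.snd : coconeX D Q (n + 1) ⟶ _) ≫ q.f (n + 1 - 1) := biprod.map_snd _ _
    have h' := (((Category.assoc _ _ _).symm.trans (congrArg (· ≫ _) (Category.assoc y _ _))).trans
      ((congrArg (fun t => (y ≫ t) ≫ _) hl))).symm.trans
        (((show _ = _ from h)).trans (((Category.assoc _ _ _).symm.trans
          (congrArg (· ≫ _) (Category.assoc x _ _))).trans (congrArg (fun t => (x ≫ t) ≫ _) hr)))
    simp [Preadditive.comp_sub, Preadditive.sub_comp, map_xiso] at h'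
    simp only [a, b, c, Preadditive.sub_comp, Category.assoc]
    rw [← h']
    abel
  have hc : (a ≫ π.f n - c) ≫ Q.d n (n + 1) = 0 := by
    rw [← cancel_mono (q.f (n + 1)), Category.assoc, zero_comp, ← q.comm, ← reassoc_of% h2]
    simp
  obtain ⟨B1, p1, _, e, he⟩ := (mono_homologyMap_iff_up_to_refinements q (n - 1) n (n + 1)
    ((ComplexShape.up ℤ).prev_eq' (show n - 1 + 1 = n by lia))
    ((ComplexShape.up ℤ).next_eq' rfl)).1 inferInstance _ hc b h2.symm
  have hz : (p1 ≫ b - e ≫ q.f (n - 1)) ≫ Q'.d (n - 1) n = 0 := by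
    rw [Preadditive.sub_comp, Category.assoc p1 b, h2, Category.assoc e, q.comm, reassoc_of% he, sub_self]
  obtain ⟨B2, p2, _, z, -, w, hw⟩ := (epi_homologyMap_iff_up_to_refinements q (n - 1 - 1) (n - 1) n
    ((ComplexShape.up ℤ).prev_eq' (show n - 1 - 1 + 1 = n - 1 by lia))
    ((ComplexShape.up ℤ).next_eq' (show n - 1 + 1 = n by lia))).1 inferInstance _ hz
  refine ⟨B2, p2 ≫ p1, inferInstance,
    (biprod.lift (p2 ≫ p1 ≫ a) (p2 ≫ e + z) : B2 ⟶ coconeX D Q n),
    (-w) ≫ (biprod.inr : Q'.X (n - 1 - 1) ⟶ coconeX D Q' (n - 1)), ?_⟩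
  have e' : ∀ (m : ℤ) (hm : m = n), (biprod.inr : Q'.X (n - 1 - 1) ⟶ coconeX D Q' (n - 1)) ≫
      (coconeCx (π ≫ q)).d (n - 1) m =
      (biprod.lift 0 (-Q'.d (n - 1 - 1) (m - 1)) : Q'.X (n - 1 - 1) ⟶ D.X m ⊞ Q'.X (m - 1)) := by
    intro m hm
    obtain rfl : m = n - 1 + 1 := by lia
    rw [coconeCx_d]
    show (biprod.inr : Q'.X (n - 1 - 1) ⟶ D.X (n - 1) ⊞ Q'.X (n - 1 - 1)) ≫ biprod.lift _ _ = _
    apply biprod.hom_ext <;> simp [Preadditive.comp_sub]
  refine Eq.trans ?_ (congrArg ((biprod.lift (p2 ≫ p1 ≫ a) (p2 ≫ e + z) : B2 ⟶ coconeX D Q n) ≫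
      (coconeMap π q).f n + ·)
    ((congrArg ((-w) ≫ ·) (e' n rfl)).symm.trans (Category.assoc _ _ _).symm))
  have fin : ((p2 ≫ p1) ≫ y : B2 ⟶ D.X n ⊞ Q'.X (n - 1)) =
      (biprod.lift (p2 ≫ p1 ≫ a) (p2 ≫ e + z) : B2 ⟶ D.X n ⊞ Q.X (n - 1)) ≫
        (biprod.map (𝟙 (D.X n)) (q.f (n - 1)) : D.X n ⊞ Q.X (n - 1) ⟶ D.X n ⊞ Q'.X (n - 1)) +
      (-w) ≫ (biprod.lift 0 (-Q'.d (n - 1 - 1) (n - 1)) : Q'.X (n - 1 - 1) ⟶ D.X n ⊞ Q'.X (n - 1)) := by
    apply biprod.hom_ext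
    · simp [a, Preadditive.add_comp]
    · have hw' : w ≫ Q'.d (n - 1 - 1) (n - 1) = p2 ≫ (p1 ≫ b - e ≫ q.f (n - 1)) - z ≫ q.f (n - 1) := by
        rw [hw]; abel
      simp [b, Preadditive.add_comp, Preadditive.comp_sub, hw']
  exact fin

lemma quasiIso_coconeMap [∀ n, Mono (q.f n)] [QuasiIso q] : QuasiIso (coconeMap π q) := by
  have := mono_coconeMap π q
  apply Groth.Agent.FilLib.quasiIso_of_mono
  intro i n j hi hj B y x hyx
  subst hj
  obtain rfl : i = n - 1 := by lia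
  rw [coconeCx_d] at hyx
  exact key π q n y x hyx

end Map

section Class

variable (P : ObjectProperty A) (h1 : ∀ X : A, ∃ (Y : A) (i : X ⟶ Y), P Y ∧ Mono i)
    (h2 : ∀ S : ShortComplex A, S.ShortExact → P S.X₁ → (P S.X₂ ↔ P S.X₃))

include h1 h2

lemma mem_zero {Z : A} (hZ : IsZero Z) : P Z := by
  obtain ⟨Y, _, hY, -⟩ := h1 Z
  let S := ShortComplex.mk (𝟙 Y) (0 : Y ⟶ Z) comp_zero
  have hS : S.ShortExact :=
    { exact := (ShortComplex.exact_iff_epi S rfl).2 (inferInstanceAs (Epi (𝟙 Y)))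
      mono_f := inferInstanceAs (Mono (𝟙 Y))
      epi_g := ⟨fun _ _ _ => hZ.eq_of_src _ _⟩ }
  exact (h2 S hS hY).1 hY

lemma mem_iso {X Y : A} (e : X ≅ Y) (hX : P X) : P Y := by
  let S := ShortComplex.mk (0 : (0 : A) ⟶ X) e.hom zero_comp
  have hS : S.ShortExact :=
    { exact := (ShortComplex.exact_iff_mono S rfl).2 (inferInstanceAs (Mono e.hom))
      mono_f := ⟨fun _ _ _ => (isZero_zero A).eq_of_tgt _ _⟩
      epi_g := inferInstanceAs (Epi e.hom) }
  exact (h2 S hS (mem_zero P h1 h2 (isZero_zero A))).1 hX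

lemma mem_biprod {X Y : A} (hX : P X) (hY : P Y) : P (X ⊞ Y) :=
  (h2 (ShortComplex.mk (biprod.inl : X ⟶ X ⊞ Y) biprod.snd biprod.inl_snd)
    (ShortComplex.Splitting.ofHasBinaryBiproduct X Y).shortExact hX).2 hY

omit h1 h2 in
/-- `Z` is an `m`-th cosyzygy of `X` through objects in `P`. -/
def IsCosyz : ℕ → A → A → Prop
  | 0, X, Z => Nonempty (X ≅ Z)
  | m + 1, X, Z => ∃ (Y : A) (i : X ⟶ Y), P Y ∧ Mono i ∧ IsCosyz m (cokernel i) Z

omit h1 h2 in
/-- All chosen `m`-th cosyzygies are in `P`. -/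
def Bound : ℕ → A → Prop
  | 0, X => P X
  | m + 1, X => ∀ (Y : A) (i : X ⟶ Y), P Y → Mono i → Bound m (cokernel i)

omit h1 h2 in
lemma exists_complex : ∀ (m : ℕ) (X Z : A), IsCosyz P m X Z →
    ∃ (K : CochainComplex A ℕ) (e : X ⟶ K.X 0) (w : e ≫ K.d 0 1 = 0), Mono e ∧
      (ShortComplex.mk e (K.d 0 1) w).Exact ∧ (∀ i, 1 ≤ i → i ≤ m → K.ExactAt i) ∧
      (∀ i, m < i → IsZero (K.X i)) ∧ (1 ≤ m → Epi (K.d (m - 1) m)) ∧ (∀ i, i < m → P (K.X i)) ∧
      Nonempty (K.X m ≅ Z) := by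
  intro m
  induction m with
  | zero =>
    rintro X Z ⟨e⟩
    let K := (HomologicalComplex.single A (ComplexShape.up ℕ) 0).obj X
    have hz : IsZero (K.X 1) := isZero_single_obj_X _ _ _ _ one_ne_zero
    let s := (singleObjXSelf (ComplexShape.up ℕ) 0 X)
    refine ⟨K, s.inv, hz.eq_of_tgt _ _, inferInstance, ?_, fun i h h' => by omega,
      fun i hi => isZero_single_obj_X _ _ _ _ (by omega), fun h => by omega, fun i hi => by omega,
      ⟨s ≪≫ e⟩⟩
    rw [ShortComplex.exact_iff_epi _ (hz.eq_of_tgt _ _)]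
    show Epi s.inv
    infer_instance
  | succ m ih =>
    rintro X Z ⟨Y, i, hY, hi, hc⟩
    obtain ⟨K, e, w, he, hex, hK, hz, hepi, hP, ⟨iso⟩⟩ := ih _ _ hc
    have w' : (cokernel.π i ≫ e) ≫ K.d 0 1 = 0 := by rw [assoc, w, comp_zero]
    let K' := K.augment (cokernel.π i ≫ e) w'
    have wi : i ≫ (cokernel.π i ≫ e) = 0 := cokernel.condition_assoc i e |>.trans zero_comp
    have hiK : i ≫ K'.d 0 1 = 0 := wi
    refine ⟨K', i, hiK, hi, ?_, fun j h h' => ?_, fun j hj => ?_, fun _ => ?_, fun j hj => ?_, ⟨iso⟩⟩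
    · rw [ShortComplex.exact_iff_exact_up_to_refinements]
      intro T x hx
      exact (ShortComplex.exact_cokernel i).exact_up_to_refinements x
        ((cancel_mono e).1 (((assoc x (cokernel.π i) e).trans hx).trans zero_comp.symm))
    · obtain ⟨j, rfl⟩ : ∃ k, j = k + 1 := ⟨j - 1, by omega⟩
      rw [HomologicalComplex.exactAt_iff' _ j (j + 1) (j + 2) (by simp) (by simp)]
      rcases j with _ | j
      · rw [ShortComplex.exact_iff_exact_up_to_refinements]
        intro T x hx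
        obtain ⟨T1, p1, _, y, hy⟩ := hex.exact_up_to_refinements x hx
        obtain ⟨T2, p2, _, z, hz'⟩ := surjective_up_to_refinements_of_epi (cokernel.π i) y
        refine ⟨T2, p2 ≫ p1, inferInstance, z, ?_⟩
        show (p2 ≫ p1) ≫ x = z ≫ cokernel.π i ≫ e
        rw [assoc, ← reassoc_of% hz']
        exact congrArg (p2 ≫ ·) hy
      · exact (HomologicalComplex.exactAt_iff' _ j (j + 1) (j + 2) (by simp) (by simp)).1
          (hK (j + 1) (by omega) (by omega))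
    · obtain ⟨j, rfl⟩ : ∃ k, j = k + 1 := ⟨j - 1, by omega⟩
      exact hz j (by omega)
    · rcases m with _ | m
      · have : Epi e := by
          have := (ShortComplex.exact_iff_epi _ (show K.d 0 1 = 0 from (hz 1 one_pos).eq_of_tgt _ _)).1 hex
          exact this
        exact (epi_comp (cokernel.π i) e : Epi (cokernel.π i ≫ e))
      · exact hepi (by omega)
    · rcases j with _ | j
      · exact hY
      · exact hP j (by omega)

omit h1 h2 in
lemma bound_of_isCosyz : ∀ (m : ℕ) (X : A), (∀ Z, IsCosyz P m X Z → P Z) → Bound P m X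
  | 0, X, h => h X ⟨Iso.refl X⟩
  | m + 1, X, h => fun Y i hY hi => bound_of_isCosyz m _ (fun Z hZ => h Z ⟨Y, i, hY, hi, hZ⟩)

omit h1 h2 in
lemma bound_n (n : ℕ) (hn : 1 ≤ n)
    (h3 : ∀ K : CochainComplex A ℕ, (∀ i : ℕ, 1 ≤ i → i ≤ n → K.ExactAt i) → (∀ i : ℕ, n < i → IsZero (K.X i)) →
      Epi (K.d (n - 1) n) → (∀ i : ℕ, i < n → P (K.X i)) → P (K.X n))
    (hiso : ∀ {X Y : A}, (X ≅ Y) → P X → P Y) (X : A) : Bound P n X :=
  bound_of_isCosyz P n X fun Z hZ => by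
    obtain ⟨K, e, w, -, -, hK, hz, hepi, hP, ⟨iso⟩⟩ := exists_complex P n X Z hZ
    exact hiso iso (h3 K hK hz (hepi hn) hP)

lemma exists_res : ∀ (k : ℕ) (K : CochainComplex A ℤ), (∀ j, Bound P k (K.X j)) →
    ∃ (L : CochainComplex A ℤ) (f : K ⟶ L), (∀ j, Mono (f.f j)) ∧ QuasiIso f ∧ ∀ j, P (L.X j) := by
  intro k
  induction k with
  | zero => exact fun K h => ⟨K, 𝟙 K, fun j => inferInstanceAs (Mono (𝟙 (K.X j))), inferInstance, h⟩
  | succ k ih =>
    intro K hK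
    choose E g hE hg using fun j => h1 (K.X j)
    let ι := toDiscs K g
    have hmono : ∀ j, Mono (ι.f j) := fun j => by
      have := hg j
      exact mono_of_mono_fac (biprod.lift_fst (g j) (K.d j (j + 1) ≫ g (j + 1)))
    have hD : ∀ j, P ((discs E).X j) := fun j => mem_biprod P h1 h2 (hE j) (hE (j + 1))
    have : Mono ι := HomologicalComplex.mono_of_mono_f ι hmono
    let π := cokernel.π ι
    have hex : ∀ j, (ShortComplex.mk (ι.f j) (π.f j)
        (by rw [← HomologicalComplex.comp_f, cokernel.condition, HomologicalComplex.zero_f])).Exact :=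
      fun j => (ShortComplex.exact_cokernel ι).map (HomologicalComplex.eval A _ j)
    have : ∀ j, Epi (π.f j) := fun j => inferInstance
    have hB : ∀ j, Bound P k ((cokernel ι).X j) := fun j => by
      have hb := hK j ((discs E).X j) (ι.f j) (hD j) (hmono j)
      let e : cokernel (ι.f j) ≅ (cokernel ι).X j :=
        (cokernelIsCokernel (ι.f j)).coconePointUniqueUpToIso (hex j).gIsCokernel
      exact bound_congr k e hb
    obtain ⟨L, q, hq, hq', hL⟩ := ih (cokernel ι) hB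
    have h₁ := quasiIso_toCocone ι π (cokernel.condition ι) hex
    have h₂ := quasiIso_coconeMap π q
    refine ⟨coconeCx (π ≫ q), toCocone ι π (cokernel.condition ι) ≫ coconeMap π q, fun j => ?_,
      inferInstance, fun j => mem_biprod P h1 h2 (hD j) (hL _)⟩
    have := mono_coconeMap π q j
    have : Mono ((toCocone ι π (cokernel.condition ι)).f j) := mono_of_mono_fac (biprod.lift_fst (ι.f j) 0)
    rw [HomologicalComplex.comp_f]
    infer_instance
where
  bound_congr : ∀ (k : ℕ) {X X' : A}, (X ≅ X') → Bound P k X → Bound P k X' := by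
    intro k
    induction k with
    | zero => exact fun e h => mem_iso P h1 h2 e h
    | succ k ih =>
      intro X X' e h Y i hY hi
      exact ih (cokernelEpiComp e.hom i) (h Y (e.hom ≫ i) hY (mono_comp _ _))

end Class

end Groth.Agent.H9Misc.ClassRes
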