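import Groth.Agent.TriCat.AcyclicObj
import Groth.Agent.H9Misc.ClassRes
import Groth.Agent.H9Misc.AdaptedDerived
import Mathlib.Algebra.Homology.HomotopyCategory.Triangulated
import Mathlib.Algebra.Homology.DerivedCategory.HomologySequence
import Mathlib.CategoryTheory.Abelian.Injective.Resolution

/-! Unbounded right derived functors of functors of finite cohomological dimension. -/

universe w w' v v' u u'

open CategoryTheory Category Limits Pretriangulated HomologicalComplex ZeroObject

namespace Groth.Agent.H9Misc.FinDimDerived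

open Groth.Agent.TriCat

section Abelian

variable {A : Type u} [Category.{v} A] [Abelian A] {B : Type u'} [Category.{v'} B] [Abelian B]
  (F : A ⥤ B) [F.Additive]

omit [F.Additive] in
lemma enoughInjectives_of_resolutions [HasInjectiveResolutions A] : EnoughInjectives A where
  presentation X := ⟨{ J := (injectiveResolution X).cocomplex.X 0
                       f := (HomologicalComplex.singleObjXSelf (ComplexShape.up ℕ) 0 X).inv ≫ (injectiveResolution X).ι.f 0 }⟩

variable [EnoughInjectives A]

lemma isZero_rightDerived_ge (n : ℕ) (hn : ∀ X : A, IsZero ((F.rightDerived n).obj X)) :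
    ∀ (i : ℕ), n ≤ i → ∀ X : A, IsZero ((F.rightDerived i).obj X) := by
  let := HasDerivedCategory.standard A
  let := HasDerivedCategory.standard B
  intro i hi
  induction i, hi using Nat.le_induction with
  | base => exact hn
  | succ i _ ih =>
    intro X
    let S := ShortComplex.mk (Injective.ι X) (cokernel.π (Injective.ι X)) (cokernel.condition _)
    have hS : S.ShortExact := { exact := ShortComplex.exact_cokernel _ }
    obtain ⟨δ, w₁, w₂, w₃, -, -, h₃⟩ := exists_rightDerived_ses F hS i
    exact h₃.isZero_X₂ ((ih _).eq_of_src _ _)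
      ((F.isZero_rightDerived_obj_injective_succ i (Injective.under X)).eq_of_tgt _ _)

/-- The Bound of cosyzygies. -/
lemma bound_of_vanishing [PreservesFiniteLimits F] :
    ∀ (k : ℕ) (X : A), (∀ i, k < i → IsZero ((F.rightDerived i).obj X)) →
      ClassRes.Bound (IsRightAcyclic F) k X
  | 0, X, h => fun i hi => h i hi
  | k + 1, X, h => fun Y f hY hf => bound_of_vanishing k _ fun i hi => by
      let := HasDerivedCategory.standard A
      let := HasDerivedCategory.standard B
      let S := ShortComplex.mk f (cokernel.π f) (cokernel.condition f)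
      have hS : S.ShortExact := { exact := ShortComplex.exact_cokernel f }
      obtain ⟨δ, w₁, w₂, w₃, -, h₂, -⟩ := exists_rightDerived_ses F hS i
      exact h₂.isZero_X₂ ((hY i (by omega)).eq_of_src _ _) ((h (i + 1) (by omega)).eq_of_tgt _ _)

variable [PreservesFiniteLimits F] (n : ℕ) (hn : ∀ (i : ℕ), n < i → ∀ X : A, IsZero ((F.rightDerived i).obj X))

include hn

theorem exists_res (K : CochainComplex A ℤ) :
    ∃ (L : CochainComplex A ℤ) (f : K ⟶ L), QuasiIso f ∧ ∀ j, IsRightAcyclic F (L.X j) := by
  obtain ⟨L, f, -, hf, hL⟩ := ClassRes.exists_res (IsRightAcyclic F)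
    (fun X => ⟨Injective.under X, Injective.ι X, isRightAcyclic_of_injective _, inferInstance⟩)
    (fun S hS h₁ => ⟨fun h₂ => acyclic₃ hS h₁ h₂, fun h₃ => acyclic₂ hS h₁ h₃⟩) n K
    (fun j => bound_of_vanishing F n _ (fun i hi => hn i hi _))
  exact ⟨L, f, hf, hL⟩

theorem exactAt_map (Q : CochainComplex A ℤ) (hQ : Q.Acyclic) (hP : ∀ j, IsRightAcyclic F (Q.X j))
    (m : ℤ) : ((F.mapHomologicalComplex (ComplexShape.up ℤ)).obj Q).ExactAt m := by
  let := HasDerivedCategory.standard A
  let := HasDerivedCategory.standard B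
  have hw : ∀ a b : ℤ, Q.iCycles a ≫ Q.toCycles a b = 0 := fun a b => by
    rw [← cancel_mono (Q.iCycles b), assoc, Q.toCycles_i, Q.iCycles_d, zero_comp]
  have hepi : ∀ a b : ℤ, a + 1 = b → Epi (Q.toCycles a b) := fun a b h => by
    subst h
    have hp : (ComplexShape.up ℤ).prev (a + 1) = a := by simp
    have := ((HomologicalComplex.exactAt_iff _ _).1 (hQ (a + 1))).epi_toCycles
    have e := hQ (a + 1)
    rw [exactAt_iff_isZero_homology] at e
    have hc := Q.homologyIsCokernel a (a + 1) hp
    exact Preadditive.epi_of_cancel_zero _ fun {T} g hg => by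
      obtain ⟨l, hl⟩ := CokernelCofork.IsColimit.desc' hc g hg
      rw [← hl, e.eq_of_src l 0, comp_zero]
  have hS : ∀ a b : ℤ, a + 1 = b → (ShortComplex.mk _ _ (hw a b)).ShortExact := fun a b h =>
    { exact := by
        have hd : (ShortComplex.mk (Q.iCycles a) (Q.d a b) (Q.iCycles_d a b)).Exact :=
          ShortComplex.exact_of_f_is_kernel _ (Q.cyclesIsKernel a b (by simp [← h]))
        rw [ShortComplex.exact_iff_exact_up_to_refinements]
        intro T x hx
        exact hd.exact_up_to_refinements x (by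
          show x ≫ Q.d a b = 0
          rw [← Q.toCycles_i a b, reassoc_of% hx, zero_comp])
      mono_f := inferInstanceAs (Mono (Q.iCycles a))
      epi_g := hepi a b h }
  have key : ∀ (k : ℕ) (a : ℤ) (i : ℕ), 0 < i → n < i + k →
      IsZero ((F.rightDerived i).obj (Q.cycles a)) := by
    intro k
    induction k with
    | zero => exact fun a i _ h => hn i (by omega) _
    | succ k ih =>
      intro a i hi h
      obtain ⟨δ, w₁, w₂, w₃, -, h₂, -⟩ := exists_rightDerived_ses F (hS (a - 1) a (by omega)) i
      exact h₂.isZero_X₂ ((hP (a - 1) i hi).eq_of_src _ _) ((ih _ (i + 1) (by omega) (by omega)).eq_of_tgt _ _)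
  have hZ : ∀ a, IsRightAcyclic F (Q.cycles a) := fun a i hi => key n a i hi (by omega)
  have hA := isAdapted_isRightAcyclic (F := F)
  have s₁ := hA.map_shortExact (hS (m - 1) m (by omega)) (hZ _) (hP _)
  have s₂ := hA.map_shortExact (hS m (m + 1) rfl) (hZ _) (hP _)
  let s : ImgStep F (IsRightAcyclic F) (Q.d (m - 1) m) :=
    { Z := Q.cycles m
      p := Q.toCycles (m - 1) m
      i := Q.iCycles m
      fac := Q.toCycles_i _ _
      mem := hZ m
      epi_p := hepi _ _ (by omega)
      mono_i := inferInstance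
      epi_Fp := s₁.epi_g
      mono_Fi := s₂.mono_f }
  rw [HomologicalComplex.exactAt_iff' _ (m - 1) m (m + 1) (by simp) (by simp)]
  exact (exists_imgStep_next s _ (Q.d_comp_d _ _ _)
    ((Q.exactAt_iff' (m - 1) m (m + 1) (by simp) (by simp)).1 (hQ m)) hA (hP _) (hP _)).2

end Abelian

section Derived

variable {A : Type u} [Category.{v} A] [Abelian A] [HasDerivedCategory.{w} A]
  {B : Type u'} [Category.{v'} B] [Abelian B] [HasDerivedCategory.{w'} B]

open DerivedCategory

lemma isZero_Q_obj_iff (M : CochainComplex A ℤ) : IsZero (Q.obj M) ↔ M.Acyclic := by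
  refine ⟨fun h i => ?_, fun h => ?_⟩
  · rw [exactAt_iff_isZero_homology]
    exact ((homologyFunctor A i).map_isZero h).of_iso ((homologyFunctorFactors A i).symm.app M)
  · have : IsIso (Q.map (0 : M ⟶ 0)) := by
      rw [isIso_Q_map_iff_quasiIso]
      exact ⟨fun i => (quasiIsoAt_iff_exactAt _ i (h i)).2
        (ShortComplex.exact_of_isZero_X₂ _ ((HomologicalComplex.eval A _ i).map_isZero (isZero_zero _)))⟩
    exact (Q.map_isZero (isZero_zero _)).of_iso (asIso (Q.map (0 : M ⟶ 0)))

variable [EnoughInjectives A] (F : A ⥤ B) [F.Additive] [PreservesFiniteLimits F] (n : ℕ)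
  (hn : ∀ (i : ℕ), n < i → ∀ X : A, IsZero ((F.rightDerived i).obj X))

include hn

/-- Complexes of acyclic objects form an adapted class. -/
theorem isAdaptedClass : AdaptedDerived.IsAdaptedClass (Qh (C := A))
    (F.mapHomotopyCategory (ComplexShape.up ℤ) ⋙ Qh)
    (fun R => ∀ j, IsRightAcyclic F (R.as.X j)) where
  res X := by
    obtain ⟨K, rfl⟩ := HomotopyCategory.quotient_obj_surjective X
    obtain ⟨L, f, hf, hL⟩ := exists_res F n hn K
    refine ⟨_, (HomotopyCategory.quotient _ _).map f, ?_, hL⟩
    exact (NatIso.isIso_map_iff (quotientCompQhIso A) f).2 ((isIso_Q_map_iff_quasiIso (φ := f)).2 hf)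
  frac {X R} g := by
    obtain ⟨φ, hφ⟩ := Localization.exists_leftFraction Qh (HomotopyCategory.quasiIso A _) g
    have := Localization.inverts Qh (HomotopyCategory.quasiIso A _) φ.s φ.hs
    exact ⟨φ.Y', φ.f, φ.s, this, by rw [hφ]; exact MorphismProperty.LeftFraction.map_comp_map_s _ _ _⟩
  eq {X R} f g e := by
    obtain ⟨R', s, hs, es⟩ := (MorphismProperty.map_eq_iff_postcomp Qh (HomotopyCategory.quasiIso A _) f g).1 e
    exact ⟨R', s, Localization.inverts Qh (HomotopyCategory.quasiIso A _) s hs, by rw [es]⟩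
  inverts {R R'} s hR hR' hs := by
    obtain ⟨K, rfl⟩ := HomotopyCategory.quotient_obj_surjective R
    obtain ⟨L, rfl⟩ := HomotopyCategory.quotient_obj_surjective R'
    obtain ⟨φ, rfl⟩ := (HomotopyCategory.quotient _ _).map_surjective s
    have hT := HomotopyCategory.mappingCone_triangleh_distinguished φ
    let C₀ := CochainComplex.mappingCone φ
    have hz : IsZero (Qh.obj ((HomotopyCategory.quotient A (.up ℤ)).obj C₀)) :=
      (Triangle.isZero₃_iff_isIso₁ _ (Qh.map_distinguished _ hT)).2 hs
    have hC : C₀.Acyclic := (isZero_Q_obj_iff C₀).1 (hz.of_iso ((quotientCompQhIso A).symm.app C₀))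
    have hP : ∀ j, IsRightAcyclic F (C₀.X j) := fun j i hi => by
      have := preservesBinaryBiproducts_of_preservesBiproducts (F.rightDerived i)
      have hb : IsZero ((F.rightDerived i).obj (K.X (j + 1) ⊞ L.X j)) :=
        ((F.rightDerived i).mapBiprod _ _).symm.isZero_iff.1
          ((biprod_isZero_iff _ _).2 ⟨hR (j + 1) i hi, hR' j i hi⟩)
      exact hb.of_iso ((F.rightDerived i).mapIso
        (HomologicalComplex.homotopyCofiber.XIsoBiprod φ j (j + 1) rfl))
    have hFC : ((F.mapHomologicalComplex (ComplexShape.up ℤ)).obj C₀).Acyclic :=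
      fun j => exactAt_map F n hn C₀ hC hP j
    refine (Triangle.isZero₃_iff_isIso₁ _
      ((F.mapHomotopyCategory (ComplexShape.up ℤ) ⋙ Qh).map_distinguished _ hT)).1 ?_
    exact ((isZero_Q_obj_iff _).2 hFC).of_iso
      ((Functor.isoWhiskerRight (F.mapHomotopyCategoryFactors (ComplexShape.up ℤ)) Qh).app C₀ ≪≫
        (quotientCompQhIso B).app _)

end Derived

end Groth.Agent.H9Misc.FinDimDerived
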