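import Groth.Agent.H9Misc.AdjDescend
import Mathlib.Algebra.Homology.DerivedCategory.RightDerivedFunctorPlus

/-! Injective complexes give a right adjoint to the localization `K⁺ ⥤ D⁺`. -/

universe w w' v v' u u'

open CategoryTheory Category Limits

namespace Groth.Agent.H9Misc.PlusRB

variable {A : Type u} [Category.{v} A] [Abelian A] [HasDerivedCategory.{w} A]

lemma isKInjective_mapι (X : HomotopyCategory.Plus (InjectiveObject A)) :
    CochainComplex.IsKInjective (((InjectiveObject.ι A).mapHomotopyCategoryPlus.obj X).obj.as) := by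
  obtain ⟨K, rfl⟩ := HomotopyCategory.Plus.quotient_obj_surjective X
  exact inferInstanceAs (CochainComplex.IsKInjective
    (((InjectiveObject.ι A).mapHomologicalComplex (.up ℤ)).obj K.obj))

/-- An injective representative of an object of `D⁺`. -/
lemma exists_rep [EnoughInjectives A] (Y : DerivedCategory.Plus A) :
    ∃ I : HomotopyCategory.Plus A, CochainComplex.IsKInjective I.obj.as ∧
      (∀ n, Injective (I.obj.as.X n)) ∧ Nonempty (DerivedCategory.Plus.Qh.obj I ≅ Y) :=
  let X := ((InjectiveObject.ι A).mapHomotopyCategoryPlus ⋙ DerivedCategory.Plus.Qh).objPreimage Y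
  ⟨(InjectiveObject.ι A).mapHomotopyCategoryPlus.obj X, isKInjective_mapι X, fun _ => inferInstance,
    ⟨((InjectiveObject.ι A).mapHomotopyCategoryPlus ⋙ DerivedCategory.Plus.Qh).objObjPreimageIso Y⟩⟩

variable (A) in
lemma qhPlus_isLeftAdjoint [EnoughInjectives A] :
    (DerivedCategory.Plus.Qh (C := A)).IsLeftAdjoint := by
  choose I hI hI' e using exists_rep (A := A)
  exact (Adjunction.adjunctionOfEquivRight (G_obj := I)
    (fun X Y => ((Equiv.ofBijective _ (DerivedCategory.Plus.Qh_map_bijective_of_isKInjective X (I Y)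
      (hI Y))).trans (e Y).some.homToEquiv).symm)
    (fun X' X Y f g => by
      rw [Equiv.symm_apply_eq]
      generalize hu : ((Equiv.ofBijective _ (_ : Function.Bijective
        (DerivedCategory.Plus.Qh.map : (X ⟶ I Y) → _))).trans
          (e Y).some.homToEquiv).symm g = u
      rw [Equiv.symm_apply_eq] at hu
      subst hu
      simp [Iso.homToEquiv])).isLeftAdjoint

variable {B : Type u'} [Category.{v'} B] [Abelian B] [HasDerivedCategory.{w'} B]
  {F : A ⥤ B} {G : B ⥤ A} [F.Additive] [G.Additive]

lemma inverts_of_exact [PreservesFiniteLimits F] [PreservesFiniteColimits F] :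
    (HomotopyCategory.Plus.quasiIso A).IsInvertedBy
      (F.mapHomotopyCategoryPlus ⋙ DerivedCategory.Plus.Qh) := fun X Y f hf => by
  rw [← isIso_iff_of_reflects_iso _ DerivedCategory.Plus.ι]
  have := Localization.inverts (DerivedCategory.Qh (C := A)) (HomotopyCategory.quasiIso A (.up ℤ))
    f.hom hf
  exact (NatIso.isIso_map_iff F.mapDerivedCategoryFactorsh f.hom).1
    (inferInstanceAs (IsIso (F.mapDerivedCategory.map (DerivedCategory.Qh.map f.hom))))

/-- An adjunction passes to bounded below homotopy categories. -/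
noncomputable def adjPlus (adj : F ⊣ G) : F.mapHomotopyCategoryPlus ⊣ G.mapHomotopyCategoryPlus :=
  (SerreDerived.adjHtpy (ComplexShape.up ℤ) adj).restrictFullyFaithful
    (HomotopyCategory.plus A).fullyFaithfulι (HomotopyCategory.plus B).fullyFaithfulι
    (Iso.refl _) (Iso.refl _)

/-- The bounded below derived adjunction. -/
theorem nonempty_adj [EnoughInjectives A] [EnoughInjectives B] (adj : F ⊣ G)
    [PreservesFiniteLimits F] [PreservesFiniteColimits F] :
    Nonempty (F.rightDerivedFunctorPlus ⊣ G.rightDerivedFunctorPlus) := by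
  have := qhPlus_isLeftAdjoint B
  let adjQ := Adjunction.ofIsLeftAdjoint (DerivedCategory.Plus.Qh (C := B))
  let RB := (DerivedCategory.Plus.Qh (C := B)).rightAdjoint
  have := TriCat.isRightDerivedFunctor_of_adjunction adjQ (HomotopyCategory.Plus.quasiIso B)
    (G.mapHomotopyCategoryPlus ⋙ DerivedCategory.Plus.Qh)
  have e : RB ⋙ G.mapHomotopyCategoryPlus ⋙ DerivedCategory.Plus.Qh ≅ G.rightDerivedFunctorPlus :=
    Functor.rightDerivedUnique _ _ (Functor.whiskerRight adjQ.unit
      (G.mapHomotopyCategoryPlus ⋙ DerivedCategory.Plus.Qh) :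
      G.mapHomotopyCategoryPlus ⋙ DerivedCategory.Plus.Qh ⟶
        DerivedCategory.Plus.Qh ⋙ RB ⋙ G.mapHomotopyCategoryPlus ⋙ DerivedCategory.Plus.Qh)
      G.rightDerivedFunctorPlusUnit (HomotopyCategory.Plus.quasiIso B)
  have : IsIso F.rightDerivedFunctorPlusUnit :=
    Functor.isIso_of_isRightDerivedFunctor_of_inverts (W := HomotopyCategory.Plus.quasiIso A) _ _
      inverts_of_exact
  exact ⟨(AdjDescend.descend DerivedCategory.Plus.Qh (HomotopyCategory.Plus.quasiIso A)
    (L' := F.rightDerivedFunctorPlus)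
    (((adjPlus adj).comp adjQ).ofNatIsoLeft (asIso F.rightDerivedFunctorPlusUnit))).ofNatIsoRight
      (Functor.associator _ _ _ ≪≫ e)⟩

end Groth.Agent.H9Misc.PlusRB
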