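import Groth.Agent.H9Misc.DRingTorDim
import Groth.Agent.H9Misc.DRingRestrict

/-! Tor amplitude and restriction of scalars. -/

set_option linter.style.haveILetI false

universe u

open CategoryTheory CategoryTheory.Category CategoryTheory.Limits
open CategoryTheory.Pretriangulated

attribute [local instance] HasDerivedCategory.standard

namespace Groth.Agent.H9Misc.DRingTor

open Groth.Agent.TorBridge TensorProduct

variable {A B : Type u} [CommRing A] [CommRing B] [Algebra A B]

lemma exact_lTensor_of_flat (F : Type u) [AddCommGroup F] [Module A F] [Module B F]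
    [IsScalarTower A B F] [Module.Flat B F] {X Y Z : Type u} [AddCommGroup X] [AddCommGroup Y]
    [AddCommGroup Z] [Module A X] [Module A Y] [Module A Z] (f : X →ₗ[A] Y) (g : Y →ₗ[A] Z)
    (h : Function.Exact (f.lTensor B) (g.lTensor B)) :
    Function.Exact (f.lTensor F) (g.lTensor F) := by
  have hB : Function.Exact (f.baseChange B) (g.baseChange B) := h
  have hF := Module.Flat.lTensor_exact F hB
  refine (Function.Exact.of_ladder_linearEquiv_of_exact
    (e₁ := (AlgebraTensorModule.cancelBaseChange A B B F X).restrictScalars A)
    (e₂ := (AlgebraTensorModule.cancelBaseChange A B B F Y).restrictScalars A)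
    (e₃ := (AlgebraTensorModule.cancelBaseChange A B B F Z).restrictScalars A)
    (f₁₂ := ((f.baseChange B).lTensor F).restrictScalars A)
    (f₂₃ := ((g.baseChange B).lTensor F).restrictScalars A) ?_ ?_ hF :
    Function.Exact (f.lTensor F) (g.lTensor F))
  · refine LinearMap.ext fun x => ?_
    change _ = AlgebraTensorModule.cancelBaseChange A B B F _ _
    induction x using TensorProduct.induction_on with
    | zero => simp
    | add p q hp hq => simp only [map_add] at hp hq ⊢; rw [hp, hq]
    | tmul x y =>
      induction y using TensorProduct.induction_on with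
      | zero => simp
      | add p q hp hq => simp only [TensorProduct.tmul_add, map_add] at hp hq ⊢; rw [hp, hq]
      | tmul b z => simp
  · refine LinearMap.ext fun x => ?_
    change _ = AlgebraTensorModule.cancelBaseChange A B B F _ _
    induction x using TensorProduct.induction_on with
    | zero => simp
    | add p q hp hq => simp only [map_add] at hp hq ⊢; rw [hp, hq]
    | tmul x y =>
      induction y using TensorProduct.induction_on with
      | zero => simp
      | add p q hp hq => simp only [TensorProduct.tmul_add, map_add] at hp hq ⊢; rw [hp, hq]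
      | tmul b z => simp

/-- Flat modules over an algebra of bounded tor dimension have bounded tor dimension. -/
theorem torDimLE_of_flat {d : ℕ} (hB : DRing.HasTorDimLE A d B) (F : Type u) [AddCommGroup F]
    [Module A F] [Module B F] [IsScalarTower A B F] [Module.Flat B F] :
    DRing.HasTorDimLE A d F := by
  intro N _ _ p hp
  obtain ⟨i, rfl⟩ : ∃ i, p = i + 1 := ⟨p - 1, by omega⟩
  let P : ProjectiveResolution (ModuleCat.of A N) := ProjectiveResolution.of _
  have key : ∀ (X : ModuleCat.{u} A),
      IsZero (((Tor (ModuleCat.{u} A) (i + 1)).obj X).obj (ModuleCat.of A N)) ↔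
      Function.Exact ((P.complex.d (i + 2) (i + 1)).hom.lTensor X)
        ((P.complex.d (i + 1) i).hom.lTensor X) := by
    intro X
    refine (Iso.isZero_iff (P.isoLeftDerivedObj (tenF X) (i + 1))).trans ?_
    refine (HomologicalComplex.exactAt_iff_isZero_homology _ _).symm.trans ?_
    rw [HomologicalComplex.exactAt_iff' _ (i + 2) (i + 1) i (by simp) (by simp),
      ShortComplex.ShortExact.moduleCat_exact_iff_function_exact]
    rfl
  have h1 := (key (ModuleCat.of A B)).1 (ModuleCat.isZero_iff_subsingleton.2 (hB N (i + 1) hp))
  exact ModuleCat.isZero_iff_subsingleton.1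
    ((key (ModuleCat.of A F)).2 (exact_lTensor_of_flat F _ _ h1))

/-- Restriction of scalars lowers tor amplitude by at most the tor dimension of the algebra. -/
theorem hasTorAmplitudeIn_restrictScalars (d : ℕ)
    (hB : DRing.HasTorAmplitudeIn A (-(d : ℤ)) 0 (Dual.inD A B)) (K : Dual.D B) (a b : ℤ)
    (hK : DRing.HasTorAmplitudeIn B a b K) :
    DRing.HasTorAmplitudeIn A (a - d) b ((DRing.restrictD (algebraMap A B)).obj K) := by
  obtain ⟨E, hz, hf, ⟨e⟩⟩ := hK
  have hB' : DRing.HasTorDimLE A d B := (torDimLE_iff d (ModuleCat.of A B)).2 hB
  refine of_iso (((ModuleCat.restrictScalars (algebraMap A B)).mapDerivedCategoryFactors.app E).symm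
    ≪≫ (DRing.restrictD (algebraMap A B)).mapIso e) ?_
  refine toD_of_terms _ a b le_rfl _
    (fun i hi => (ModuleCat.restrictScalars (algebraMap A B)).map_isZero (hz i hi)) (fun i => ?_)
  by_cases hi : i < a ∨ b < i
  · exact of_isZero ((DerivedCategory.singleFunctor (ModuleCat.{u} A) 0).map_isZero
      ((ModuleCat.restrictScalars (algebraMap A B)).map_isZero (hz i hi)))
  · letI : Module A (E.X i) := Module.compHom _ (algebraMap A B)
    haveI : IsScalarTower A B (E.X i) := IsScalarTower.of_algebraMap_smul fun _ _ => rfl
    haveI := hf i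
    exact mono (a := -(d : ℤ)) (b := 0) (by omega) (by omega)
      ((torDimLE_iff d _).1 (torDimLE_of_flat hB' (E.X i)))

end Groth.Agent.H9Misc.DRingTor
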