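import Groth.Agent.H28.RegTwist
import Groth.Agent.AmpleVan.Tw
import Groth.Agent.AmpleVan.FiniteSurj
import Groth.Agent.QCoh.RpushClosed
import Groth.Agent.H9Misc.RelExtTwistVanish
import Groth.Prelude.Def_DDual2
import Groth.Agent.QCoh.ProperOver2
import Groth.Agent.QCoh.Support
import Groth.Agent.QCoh.Devissage
import Groth.Agent.TriCat.RightDerivedBridge
import Groth.Agent.SpObjSS.Grothendieck

/-! Vanishing of the first direct image of high twists of modules with proper support. -/

set_option linter.style.haveILetI false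
set_option backward.isDefEq.respectTransparency false
set_option backward.isDefEq.respectTransparency.types false
set_option maxHeartbeats 800000

universe u

open CategoryTheory CategoryTheory.Limits AlgebraicGeometry
open Groth.Agent.H23.PicMul

noncomputable section

namespace Groth.Agent.H9Misc.AmplePush

open Groth.Agent

/-- Relative ampleness restricts to closed subschemes. -/
theorem isAmple_pullback_restrict {T X Y : Scheme.{u}} (i : T ⟶ X) [IsClosedImmersion i] (f : X ⟶ Y)
    [QuasiCompact f] {L : X.Modules} (W : Y.Opens) (hW : IsAffineOpen W)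
    (h : CohB1.IsAmple (L.restrict (f ⁻¹ᵁ W).ι)) :
    CohB1.IsAmple (((Scheme.Modules.pullback i).obj L).restrict ((i ≫ f) ⁻¹ᵁ W).ι) := by
  let V : X.Opens := f ⁻¹ᵁ W
  haveI : CompactSpace (i ⁻¹ᵁ V).toScheme := isCompact_iff_compactSpace.mp
    (QuasiCompact.isCompact_preimage (f := i ≫ f) _ W.2 hW.isCompact)
  haveI : IsClosedImmersion (i ∣_ V) := IsZariskiLocalAtTarget.restrict ‹IsClosedImmersion i› V
  exact AmpleX.isAmple_of_iso
    ((Scheme.Modules.pullback (i ∣_ V)).mapIso
        ((Scheme.Modules.restrictFunctorIsoPullback V.ι).app L) ≪≫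
      (Scheme.Modules.pullbackComp (i ∣_ V) V.ι).app _ ≪≫
      (Scheme.Modules.pullbackCongr (morphismRestrict_ι i V)).app _ ≪≫
      ((Scheme.Modules.pullbackComp (i ⁻¹ᵁ V).ι i).app _).symm ≪≫
      ((Scheme.Modules.restrictFunctorIsoPullback (i ⁻¹ᵁ V).ι).app _).symm)
    (H28.RegTwist.isAmple_pull (i ∣_ V) h)

variable {X Y : Scheme.{u}} (f : X ⟶ Y)

/-- Higher direct images of high twists of a coherent module with proper support vanish. -/
theorem exists_isZero_Rpush [AlgebraicGeometry.IsNoetherian Y] [LocallyOfFiniteType f] [QuasiCompact f]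
    [HasInjectiveResolutions X.Modules]
    {L : X.Modules} (hL : PicF.IsInvertible L) (hamp : RelAmple.IsRelAmple f L) {M : X.Modules}
    (hM : Coh.IsCoh M) (hs : ClSub.IsProperOver f (CohB1.support M)) :
    ∃ N : ℕ, ∀ n : ℕ, N ≤ n → ∀ q : ℕ,
      IsZero ((Coh.Rpush f (q + 1)).obj (CohB1.tensorMod M (CohB1.tensorPow L n))) := by
  obtain ⟨T, i, G, hi, hr, hG, hGft, ⟨e⟩⟩ := QCoh.exists_closed_model hM.1 hM.2
  haveI := hi
  rw [← hr] at hs
  haveI : IsProper (i ≫ f) := (QCoh.isProperOver_iff i).1 hs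
  haveI : HasInjectiveResolutions T.Modules := KFlatLib.hasInjectiveResolutions_modules
  let L' := (Scheme.Modules.pullback i).obj L
  have hL' : PicF.IsInvertible L' := PicClLib.isInvertible_pullback i hL
  obtain ⟨N, hN⟩ := AmpleVan.RelVanish.exists_vanishing (i ≫ f) hL'
    (fun W hW => isAmple_pullback_restrict i f W hW (hamp.2 ⟨W, hW⟩)) (M := G) ⟨hG, hGft⟩
  refine ⟨N, fun n hn q => ?_⟩
  have hLn : PicF.IsInvertible (CohB1.tensorPow L n) := InvX.isInvertible_tensorPow hL n
  obtain ⟨p⟩ := AmpleVan.FiniteSurj.nonempty_push_twist i G hLn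
  obtain ⟨t⟩ := AmpleVan.RelVanish.pullback_tensorPow i L n
  obtain ⟨t'⟩ := AmpleVan.RelVanish.tensor_congr (Iso.refl G) t
  obtain ⟨t''⟩ := AmpleVan.RelVanish.tensor_congr e.symm (Iso.refl (CohB1.tensorPow L n))
  have hq : Coh.IsQCoh (CohB1.tensorMod G (CohB1.tensorPow L' n)) :=
    KFlatLib.isQCoh_tensor hG (ProjUPX.isQCoh_of_isInvertible (InvX.isInvertible_tensorPow hL' n))
  obtain ⟨r⟩ := QCoh.nonempty_Rpush_affine_push i f hq (q + 1)
  refine (RelExtTwistVanish.isZero_Rpush_of_RpushAb _ _ q (hN n hn (q + 1) q.succ_pos)).of_iso ?_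
  exact (Coh.Rpush f (q + 1)).mapIso (t'' ≪≫ p ≪≫ (Scheme.Modules.pushforward i).mapIso t') ≪≫ r

/-- Tensoring by the tensor right functor agrees with twisting. -/
def tensorRightIso (M : X.Modules) : DCoh.tensorRightMod M ≅ AmpleVan.tw M :=
  NatIso.ofComponents (fun _ => Iso.refl _) (fun f => by
    rw [Iso.refl_hom, Iso.refl_hom, Category.comp_id, Category.id_comp]
    rfl)

/-- A left exact functor with vanishing first derived functor at a kernel preserves an epimorphism. -/
theorem epi_map {C D : Type*} [Category C] [Abelian C] [EnoughInjectives C] [Category D] [Abelian D]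
    (Φ : C ⥤ D) [Φ.Additive] [PreservesFiniteLimits Φ] {S : ShortComplex C} (hS : S.ShortExact)
    (h : IsZero ((Φ.rightDerived 1).obj S.X₁)) : Epi (Φ.map S.g) := by
  let := HasDerivedCategory.standard C
  let := HasDerivedCategory.standard D
  obtain ⟨δ, w₁, w₂, w₃, -, e₂, -⟩ := TriCat.exists_rightDerived_ses Φ hS 0
  haveI : Epi ((Φ.rightDerived 0).map S.g) := e₂.epi_f (h.eq_of_tgt _ _)
  let ρ := Φ.rightDerivedZeroIsoSelf
  rw [show Φ.map S.g = ρ.inv.app S.X₂ ≫ (Φ.rightDerived 0).map S.g ≫ ρ.hom.app S.X₃ by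
    rw [ρ.hom.naturality, ← Category.assoc, Iso.inv_hom_id_app, Category.id_comp]]
  infer_instance

/-- The criterion for exactness after twisting and pushing forward. -/
theorem exists_exact [AlgebraicGeometry.IsNoetherian Y] [LocallyOfFiniteType f] [QuasiCompact f]
    {L : X.Modules} (hL : PicF.IsInvertible L) (hamp : RelAmple.IsRelAmple f L)
    (C : ShortComplex X.Modules) (hC : C.Exact) (h1 : Coh.IsCoh C.X₁) (h2 : Coh.IsCoh C.X₂)
    (hs1 : ClSub.IsProperOver f (CohB1.support C.X₁)) :
    ∃ N : ℕ, ∀ n : ℕ, N ≤ n →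
      (C.map (DCoh.tensorRightMod (CohB1.tensorPow L n) ⋙ Coh.push f)).Exact := by
  haveI : IsLocallyNoetherian X := LocallyOfFiniteType.isLocallyNoetherian f
  haveI : HasInjectiveResolutions X.Modules := KFlatLib.hasInjectiveResolutions_modules
  haveI := SpObjSS.enoughInjectives_of_hasInjectiveResolutions (C := X.Modules)
  let K := kernel C.f
  have hK : Coh.IsCoh K := QCoh.isCoh_kernel h1 h2 C.f
  have hsK : ClSub.IsProperOver f (CohB1.support K) := QCoh.IsProperOver.subset hs1
    (QCoh.isClosed_support_of_isFT hK.1 hK.2) (QCoh.mem_support_of_mono hK.1 h1.1 (kernel.ι C.f))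
  obtain ⟨N, hN⟩ := exists_isZero_Rpush f hL hamp hK hsK
  refine ⟨N, fun n hn => ?_⟩
  let P := CohB1.tensorPow L n
  haveI := AmpleVan.isEquivalence_tw (InvX.isInvertible_tensorPow hL n)
  haveI : (DCoh.tensorRightMod P).IsEquivalence := Functor.isEquivalence_of_iso (tensorRightIso P).symm
  haveI := QCoh.preservesFiniteLimits_push f
  haveI : (Scheme.Modules.pushforward f).Additive :=
    (Scheme.Modules.pullbackPushforwardAdjunction f).right_adjoint_additive
  haveI : PreservesFiniteLimits (DCoh.tensorRightMod P ⋙ Coh.push f) := comp_preservesFiniteLimits _ _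
  let l := kernel.lift C.g C.f C.zero
  haveI : Epi l := (ShortComplex.exact_iff_epi_kernel_lift C).1 hC
  let S : ShortComplex X.Modules := ShortComplex.mk (kernel.ι C.f) l ((cancel_mono (kernel.ι C.g)).1 (by
    rw [Category.assoc, kernel.lift_ι, kernel.condition, zero_comp]))
  have hS : S.ShortExact :=
    { exact := S.exact_of_f_is_kernel (KernelFork.IsLimit.ofι' _ _ fun {T} t ht =>
        ⟨kernel.lift C.f t (by rw [← kernel.lift_ι C.g C.f C.zero, ← Category.assoc, ht, zero_comp]),
          kernel.lift_ι _ _ _⟩)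
      mono_f := inferInstance
      epi_g := inferInstance }
  let T := DCoh.tensorRightMod P
  haveI : Epi ((Scheme.Modules.pushforward f).map (T.map l)) :=
    epi_map (Scheme.Modules.pushforward f) (hS.map_of_exact T) (hN n hn 0)
  let Φ := T ⋙ Coh.push f
  haveI : Epi (Φ.map l) := ‹Epi ((Scheme.Modules.pushforward f).map (T.map l))›
  refine (ShortComplex.exact_iff_epi_kernel_lift _).2 ?_
  have he : kernel.lift (Φ.map C.g) (Φ.map C.f) (by rw [← Φ.map_comp, C.zero, Φ.map_zero]) =
      Φ.map l ≫ (PreservesKernel.iso Φ C.g).hom := by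
    refine (cancel_mono (kernel.ι (Φ.map C.g))).1 ?_
    rw [kernel.lift_ι, Category.assoc, PreservesKernel.iso_hom, kernelComparison_comp_ι, ← Φ.map_comp, kernel.lift_ι]
  show Epi (kernel.lift (Φ.map C.g) (Φ.map C.f) _)
  rw [he]
  infer_instance

end Groth.Agent.H9Misc.AmplePush
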