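import Groth.Agent.H9Misc.TFactor
import Mathlib.CategoryTheory.Preadditive.AdditiveFunctor
import Mathlib.Data.Int.Interval
import Mathlib.CategoryTheory.Limits.Preserves.Shapes.Biproducts

/-! Splitting of objects with vanishing higher extensions between cohomology objects. -/

universe w v u

open CategoryTheory CategoryTheory.Limits Pretriangulated DerivedCategory

namespace Groth.Agent.H9Misc

variable {C : Type u} [Category.{v} C] [Abelian C] [HasDerivedCategory.{w} C]

local notation "tS" => (DerivedCategory.TStructure.t (C := C))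
local notation "H" => DerivedCategory.homologyFunctor C

lemma nonempty_iso_single_homology (m : ℤ) (X : DerivedCategory C) [X.IsLE m] [X.IsGE m] :
    Nonempty (X ≅ (singleFunctor C m).obj ((H m).obj X)) := by
  obtain ⟨B, ⟨e⟩⟩ := exists_iso_singleFunctor_obj_of_isGE_of_isLE X m
  exact ⟨e ≪≫ (singleFunctor C m).mapIso
    (((singleFunctorCompHomologyFunctorIso C m).app B).symm ≪≫ (H m).mapIso e.symm)⟩

lemma zero_single_shift (A B : C) (i j : ℤ) (p : ℕ) (hp : (p : ℤ) = 1 + i - j)
    (hz : ∀ g : (singleFunctor C 0).obj A ⟶ ((singleFunctor C 0).obj B)⟦(p : ℤ)⟧, g = 0)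
    (f : (singleFunctor C i).obj A ⟶ ((singleFunctor C j).obj B)⟦(1 : ℤ)⟧) : f = 0 := by
  apply (shiftFunctor (DerivedCategory C) i).map_injective
  rw [Functor.map_zero]
  let eA : ((singleFunctor C i).obj A)⟦i⟧ ≅ (singleFunctor C 0).obj A :=
    ((singleFunctors C).shiftIso i 0 i (add_zero i)).app A
  let eB : ((singleFunctor C j).obj B)⟦(1 : ℤ)⟧⟦i⟧ ≅ ((singleFunctor C 0).obj B)⟦(p : ℤ)⟧ :=
    ((shiftFunctorAdd' (DerivedCategory C) 1 i (1 + i) rfl).app _).symm ≪≫
      (shiftFunctorAdd' (DerivedCategory C) j p (1 + i) (by lia)).app _ ≪≫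
      (shiftFunctor (DerivedCategory C) (p : ℤ)).mapIso
        (((singleFunctors C).shiftIso j 0 j (add_zero j)).app B)
  have h := hz (eA.inv ≫ (shiftFunctor (DerivedCategory C) i).map f ≫ eB.hom)
  rw [← cancel_epi eA.inv, ← cancel_mono eB.hom, Category.assoc, h, comp_zero, zero_comp]

variable (K : DerivedCategory C) (a i : ℤ)
  (hExt : ∀ (j : ℤ) (p : ℕ), j < i → 2 ≤ p → ∀ f : (singleFunctor C 0).obj
      ((homologyFunctor C i).obj K) ⟶
    ((singleFunctor C 0).obj ((homologyFunctor C j).obj K))⟦(p : ℤ)⟧, f = 0)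

include hExt

lemma zero_to_shift (k : ℕ) : a + k ≤ i → ∀ (X : DerivedCategory C) [X.IsGE a]
    [X.IsLE (a + k - 1)], (∀ j, a ≤ j → j ≤ a + k - 1 → Nonempty ((H j).obj X ≅ (H j).obj K)) →
      ∀ f : (singleFunctor C i).obj ((H i).obj K) ⟶ X⟦(1 : ℤ)⟧, f = 0 := by
  induction k with
  | zero =>
    intro _ X _ _ _ f
    have hX : IsZero X := (tS).isZero X (a + (0 : ℕ) - 1) a (by simp)
    exact ((shiftFunctor (DerivedCategory C) (1 : ℤ)).map_isZero hX).eq_of_tgt _ _
  | succ k ih =>
    intro hk X _ hle hX f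
    have : X.IsLE (a + k) := (tS).isLE_of_le X (a + (k + 1 : ℕ) - 1) (a + k) (by push_cast; lia)
    have hT := Triangle.shift_distinguished _
      ((tS).triangleLTGE_distinguished (a + k) X) (1 : ℤ)
    let S := ((tS).truncGE (a + k)).obj X
    have hSl : S.IsLE (a + k) := inferInstanceAs ((tS).IsLE (((tS).truncGE (a + k)).obj X) (a + k))
    have hSg : S.IsGE (a + k) := (tS).isGE_truncGE_obj ..
    obtain ⟨eS⟩ := nonempty_iso_single_homology (a + k) S
    have := isIso_map_truncGEπ (a + k) (a + k) le_rfl X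
    obtain ⟨eH⟩ := hX (a + k) (by lia) (by push_cast; lia)
    let e : S ≅ (singleFunctor C (a + k)).obj ((H (a + k)).obj K) :=
      eS ≪≫ (singleFunctor C (a + k)).mapIso
        ((asIso ((H (a + k)).map (((tS).truncGEπ (a + k)).app X))).symm ≪≫ eH)
    have h2 : f ≫ (((tS).truncGEπ (a + k)).app X)⟦(1 : ℤ)⟧' = 0 := by
      obtain ⟨p, hp⟩ : ∃ p : ℕ, (p : ℤ) = 1 + i - (a + k) := ⟨(1 + i - (a + k)).toNat, by lia⟩
      have hz := hExt (a + k) p (by lia) (by lia)
      have := zero_single_shift ((H i).obj K) ((H (a + k)).obj K) i (a + k) p hp hz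
        ((f ≫ (((tS).truncGEπ (a + k)).app X)⟦(1 : ℤ)⟧') ≫ e.hom⟦(1 : ℤ)⟧')
      rw [← cancel_mono (e.hom⟦(1 : ℤ)⟧'), this, zero_comp]
    obtain ⟨g, hg⟩ := Triangle.coyoneda_exact₂ _ hT f (by
      show f ≫ ((1 : ℤ).negOnePow • (((tS).truncGEπ (a + k)).app X)⟦(1 : ℤ)⟧') = 0
      rw [Linear.comp_units_smul, h2, smul_zero])
    let X' := ((tS).truncLT (a + k)).obj X
    have : X'.IsGE a := by
      rw [DerivedCategory.isGE_iff]
      intro j hj
      have := isIso_map_truncLTι (a + k) j (by lia) X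
      exact (isZero_of_isGE X a j hj).of_iso (asIso ((H j).map (((tS).truncLTι (a + k)).app X)))
    have : X'.IsLE (a + k - 1) := (tS).isLE_truncLT_obj ..
    have hg0 : g = 0 := ih (by lia) X' (fun j hja hjb => by
      have := isIso_map_truncLTι (a + k) j (by lia) X
      obtain ⟨e'⟩ := hX j hja (by push_cast; lia)
      exact ⟨asIso ((H j).map (((tS).truncLTι (a + k)).app X)) ≪≫ e'⟩) g
    rw [hg, hg0]
    exact zero_comp

lemma exists_single_to (h : a ≤ i) [K.IsGE a] :
    ∃ s : (singleFunctor C i).obj ((H i).obj K) ⟶ K, IsIso ((H i).map s) := by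
  let W := ((tS).truncLT (i + 1)).obj K
  have : W.IsLE i := (tS).isLE_truncLT_obj ..
  let S := ((tS).truncGE i).obj W
  have hSl : S.IsLE i := inferInstanceAs ((tS).IsLE (((tS).truncGE i).obj W) i)
  have hSg : S.IsGE i := (tS).isGE_truncGE_obj ..
  obtain ⟨eS⟩ := nonempty_iso_single_homology i S
  have e1 := isIso_map_truncGEπ i i le_rfl W
  have e2 := isIso_map_truncLTι (i + 1) i (lt_add_one i) K
  let e : S ≅ (singleFunctor C i).obj ((H i).obj K) :=
    eS ≪≫ (singleFunctor C i).mapIso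
      ((asIso ((H i).map (((tS).truncGEπ i).app W))).symm ≪≫
        asIso ((H i).map (((tS).truncLTι (i + 1)).app K)))
  let V := ((tS).truncLT i).obj W
  obtain ⟨k, hk⟩ : ∃ k : ℕ, a + k = i := ⟨(i - a).toNat, by lia⟩
  have : V.IsGE a := by
    rw [DerivedCategory.isGE_iff]
    intro j hj
    have := isIso_map_truncLTι i j (by lia) W
    have := isIso_map_truncLTι (i + 1) j (by lia) K
    exact (isZero_of_isGE K a j hj).of_iso (asIso ((H j).map (((tS).truncLTι i).app W)) ≪≫
      asIso ((H j).map (((tS).truncLTι (i + 1)).app K)))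
  have : V.IsLE (a + k - 1) := (tS).isLE_truncLT_obj _ _ _ (by lia)
  have hδ : e.inv ≫ ((tS).truncGEδLT i).app W = 0 :=
    zero_to_shift K a i hExt k (by lia) V (fun j hja hjb => by
      have := isIso_map_truncLTι i j (by lia) W
      have := isIso_map_truncLTι (i + 1) j (by lia) K
      exact ⟨asIso ((H j).map (((tS).truncLTι i).app W)) ≪≫
        asIso ((H j).map (((tS).truncLTι (i + 1)).app K))⟩) _
  obtain ⟨σ', hσ'⟩ := Triangle.coyoneda_exact₃ _ ((tS).triangleLTGE_distinguished i W) e.inv hδ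
  suffices key : ∀ σ : (singleFunctor C i).obj ((H i).obj K) ⟶ W,
      σ ≫ ((tS).truncGEπ i).app W = e.inv →
        ∃ s : (singleFunctor C i).obj ((H i).obj K) ⟶ K, IsIso ((H i).map s) from key σ' hσ'.symm
  intro σ hσ
  refine ⟨σ ≫ ((tS).truncLTι (i + 1)).app K, ?_⟩
  have h3 : (H i).map σ ≫ (H i).map (((tS).truncGEπ i).app W) = (H i).map e.inv := by
    rw [← Functor.map_comp, hσ]
  have : IsIso ((H i).map σ ≫ (H i).map (((tS).truncGEπ i).app W)) := h3 ▸ inferInstance
  have : IsIso ((H i).map σ) := by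
    exact @IsIso.of_isIso_comp_right _ _ _ _ _ _ _ e1 this
  rw [Functor.map_comp]
  exact IsIso.comp_isIso' this e2

omit hExt in
lemma nonempty_iso_biproduct_single (b : ℤ) [K.IsGE a] [K.IsLE b]
    (hExt : ∀ (i j : ℤ) (p : ℕ), j < i → 2 ≤ p → ∀ f : (singleFunctor C 0).obj ((H i).obj K) ⟶
      ((singleFunctor C 0).obj ((H j).obj K))⟦(p : ℤ)⟧, f = 0)
    [HasBiproduct (fun j : Finset.Icc a b => (singleFunctor C (j : ℤ)).obj ((H (j : ℤ)).obj K))] :
    Nonempty (K ≅ ⨁ (fun j : Finset.Icc a b => (singleFunctor C (j : ℤ)).obj ((H (j : ℤ)).obj K))) := by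
  classical
  have hs := fun j : Finset.Icc a b =>
    exists_single_to K a (j : ℤ) (hExt (j : ℤ)) (Finset.mem_Icc.1 j.2).1
  choose s hs using hs
  let F := fun j : Finset.Icc a b => (singleFunctor C (j : ℤ)).obj ((H (j : ℤ)).obj K)
  suffices IsIso (biproduct.desc s) from ⟨(asIso (biproduct.desc s)).symm⟩
  rw [DerivedCategory.isIso_iff]
  intro k
  have hz : ∀ (j : Finset.Icc a b), (j : ℤ) ≠ k → IsZero ((H k).obj (F j)) := fun j hj => by
    rcases lt_or_gt_of_ne hj with h | h
    · exact isZero_of_isLE _ (j : ℤ) k h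
    · exact isZero_of_isGE _ (j : ℤ) k h
  have hid : 𝟙 ((H k).obj (⨁ F)) =
      ∑ j, (H k).map (biproduct.π F j) ≫ (H k).map (biproduct.ι F j) := by
    rw [← (H k).map_id, ← biproduct.total, Functor.map_sum]
    simp only [Functor.map_comp]
  by_cases hk : k ∈ Finset.Icc a b
  · let j₀ : Finset.Icc a b := ⟨k, hk⟩
    have h1 : (H k).map (biproduct.π F j₀) ≫ (H k).map (biproduct.ι F j₀) = 𝟙 _ := by
      rw [hid, Finset.sum_eq_single j₀ (fun j _ hj => by
        rw [(hz j fun h => hj (Subtype.ext h)).eq_of_tgt ((H k).map (biproduct.π F j)) 0,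
          zero_comp]) (fun h => absurd (Finset.mem_univ _) h)]
    have : IsIso ((H k).map (biproduct.ι F j₀)) :=
      ⟨_, by rw [← Functor.map_comp, biproduct.ι_π_self, CategoryTheory.Functor.map_id], h1⟩
    have h2 : (H k).map (biproduct.ι F j₀) ≫ (H k).map (biproduct.desc s) = (H k).map (s j₀) := by
      rw [← Functor.map_comp, biproduct.ι_desc]
    have : IsIso ((H k).map (biproduct.ι F j₀) ≫ (H k).map (biproduct.desc s)) := h2 ▸ hs j₀
    exact IsIso.of_isIso_comp_left ((H k).map (biproduct.ι F j₀)) _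
  · have hK : IsZero ((H k).obj K) := by
      rw [Finset.mem_Icc, not_and_or, not_le, not_le] at hk
      rcases hk with h | h
      · exact isZero_of_isGE K a k h
      · exact isZero_of_isLE K b k h
    have hS : IsZero ((H k).obj (⨁ F)) := by
      rw [IsZero.iff_id_eq_zero, hid]
      exact Finset.sum_eq_zero fun j _ => by
        rw [(hz j fun h => hk (by rw [← h]; exact j.2)).eq_of_tgt ((H k).map (biproduct.π F j)) 0,
          zero_comp]
    exact isIso_of_source_target_iso_zero _ hS.isoZero hK.isoZero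

end Groth.Agent.H9Misc
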