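import Mathlib.Algebra.Homology.DerivedCategory.TStructure
import Mathlib.Algebra.Homology.DerivedCategory.FullyFaithful
import Mathlib.Algebra.Homology.DerivedCategory.HomologySequence
import Mathlib.CategoryTheory.Triangulated.TStructure.TruncLTGE

/-! Factoring morphisms through truncations. -/

universe w v u

open CategoryTheory CategoryTheory.Limits Pretriangulated DerivedCategory

namespace Groth.Agent.H9Misc

variable {C : Type u} [Category.{v} C] [Abelian C] [HasDerivedCategory.{w} C]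

local notation "tS" => (DerivedCategory.TStructure.t (C := C))
local notation "H" => DerivedCategory.homologyFunctor C

lemma isIso_map_truncLTι (m i : ℤ) (hi : i < m) (X : DerivedCategory C) :
    IsIso ((H i).map (((tS).truncLTι m).app X)) := by
  have hT := (tS).triangleLTGE_distinguished m X
  have : (((tS).truncGE m).obj X).IsGE m := (tS).isGE_truncGE_obj ..
  have hm : Mono ((H i).map (((tS).truncLTι m).app X)) :=
    (HomologySequence.mono_homologyMap_mor₁_iff _ hT (i - 1) i).2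
      ((isZero_of_isGE _ m (i - 1) (by lia)).eq_of_src _ _)
  have he : Epi ((H i).map (((tS).truncLTι m).app X)) :=
    (HomologySequence.epi_homologyMap_mor₁_iff _ hT i).2
      ((isZero_of_isGE _ m i hi).eq_of_tgt _ _)
  exact isIso_of_mono_of_epi _

lemma isIso_map_truncGEπ (m i : ℤ) (hi : m ≤ i) (X : DerivedCategory C) :
    IsIso ((H i).map (((tS).truncGEπ m).app X)) := by
  have hT := (tS).triangleLTGE_distinguished m X
  have : (((tS).truncLT m).obj X).IsLE (m - 1) := (tS).isLE_truncLT_obj ..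
  have hm : Mono ((H i).map (((tS).truncGEπ m).app X)) :=
    (HomologySequence.mono_homologyMap_mor₂_iff _ hT i).2
      ((isZero_of_isLE _ (m - 1) i (by lia)).eq_of_src _ _)
  have he : Epi ((H i).map (((tS).truncGEπ m).app X)) :=
    (HomologySequence.epi_homologyMap_mor₂_iff _ hT i (i + 1)).2
      ((isZero_of_isLE _ (m - 1) (i + 1) (by lia)).eq_of_tgt _ _)
  exact isIso_of_mono_of_epi _

lemma zero_of_homologyMap_heart (m : ℤ) {X Y : DerivedCategory C} [X.IsLE m] [X.IsGE m]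
    [Y.IsLE m] [Y.IsGE m] (h : X ⟶ Y) (h0 : (H m).map h = 0) : h = 0 := by
  obtain ⟨A, ⟨eA⟩⟩ := exists_iso_singleFunctor_obj_of_isGE_of_isLE X m
  obtain ⟨B, ⟨eB⟩⟩ := exists_iso_singleFunctor_obj_of_isGE_of_isLE Y m
  obtain ⟨φ, hφ⟩ := (singleFunctor C m).map_surjective (eA.inv ≫ h ≫ eB.hom)
  have h1 : (singleFunctor C m ⋙ H m).map φ = 0 := by
    show (H m).map ((singleFunctor C m).map φ) = 0
    rw [hφ, Functor.map_comp, Functor.map_comp, h0, zero_comp, comp_zero]
  have h2 := NatIso.naturality_1 (singleFunctorCompHomologyFunctorIso C m) φ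
  rw [h1, zero_comp, comp_zero] at h2
  have h3 : φ = 0 := h2.symm
  rw [h3, Functor.map_zero] at hφ
  have h4 : h = eA.hom ≫ (eA.inv ≫ h ≫ eB.hom) ≫ eB.inv := by simp
  rw [h4, ← hφ, zero_comp, comp_zero]

/-- Morphisms from `≤ m` to `≥ m` are detected by `H^m`. -/
lemma zero_of_homologyMap (m : ℤ) {X Y : DerivedCategory C} [X.IsLE m] [Y.IsGE m]
    (h : X ⟶ Y) (h0 : (H m).map h = 0) : h = 0 := by
  have h1 : ((tS).truncLTι m).app X ≫ h = 0 := (tS).zero _ (m - 1) m
  obtain ⟨g, hg⟩ := Triangle.yoneda_exact₂ _ ((tS).triangleLTGE_distinguished m X) h h1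
  have : (((tS).truncGE m).obj X).IsLE m := inferInstance
  have : (((tS).truncGE m).obj X).IsGE m := (tS).isGE_truncGE_obj ..
  have : (((tS).truncLT (m + 1)).obj Y).IsLE m := (tS).isLE_truncLT_obj ..
  have : (((tS).truncLT (m + 1)).obj Y).IsGE m := inferInstance
  suffices key : ∀ g : ((tS).truncGE m).obj X ⟶ Y,
      h = ((tS).truncGEπ m).app X ≫ g → h = 0 from key g hg
  intro g hg
  have h2 : g ≫ ((tS).truncGEπ (m + 1)).app Y = 0 := (tS).zero _ m (m + 1)
  obtain ⟨g', hg'⟩ := Triangle.coyoneda_exact₂ _ ((tS).triangleLTGE_distinguished (m + 1) Y) g h2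
  suffices key' : ∀ g' : ((tS).truncGE m).obj X ⟶ ((tS).truncLT (m + 1)).obj Y,
      g = g' ≫ ((tS).truncLTι (m + 1)).app Y → h = 0 from key' g' hg'
  intro g' hg'
  have e1 := isIso_map_truncGEπ m m le_rfl X
  have e2 := isIso_map_truncLTι (m + 1) m (lt_add_one m) Y
  have h3 : (H m).map g' = 0 := by
    rw [← cancel_epi ((H m).map (((tS).truncGEπ m).app X)),
      ← cancel_mono ((H m).map (((tS).truncLTι (m + 1)).app Y)), comp_zero, zero_comp,
      Category.assoc, ← Functor.map_comp, ← Functor.map_comp, ← hg', ← hg, h0]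
  rw [hg, hg', zero_of_homologyMap_heart m g' h3, zero_comp, comp_zero]

/-- A morphism from `≤ m` which is zero on `H^m` factors through `τ<m`. -/
lemma exists_lift_truncLT (m : ℤ) {X Y : DerivedCategory C} [X.IsLE m] (h : X ⟶ Y)
    (h0 : (H m).map h = 0) :
    ∃ g : X ⟶ ((tS).truncLT m).obj Y, g ≫ ((tS).truncLTι m).app Y = h := by
  have : (((tS).truncGE m).obj Y).IsGE m := (tS).isGE_truncGE_obj ..
  have h1 : h ≫ ((tS).truncGEπ m).app Y = 0 := by
    refine zero_of_homologyMap m _ ?_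
    rw [Functor.map_comp, h0, zero_comp]
  obtain ⟨g, hg⟩ := Triangle.coyoneda_exact₂ _ ((tS).triangleLTGE_distinguished m Y) h h1
  exact ⟨g, hg.symm⟩

/-- A morphism to `≥ m` which is zero on `H^m` factors through `τ≥(m+1)`. -/
lemma exists_desc_truncGE (m : ℤ) {X Y : DerivedCategory C} [Y.IsGE m] (h : X ⟶ Y)
    (h0 : (H m).map h = 0) :
    ∃ g : ((tS).truncGE (m + 1)).obj X ⟶ Y, ((tS).truncGEπ (m + 1)).app X ≫ g = h := by
  have : (((tS).truncLT (m + 1)).obj X).IsLE m := (tS).isLE_truncLT_obj ..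
  have h1 : ((tS).truncLTι (m + 1)).app X ≫ h = 0 := by
    refine zero_of_homologyMap m _ ?_
    rw [Functor.map_comp, h0, comp_zero]
  obtain ⟨g, hg⟩ := Triangle.yoneda_exact₂ _ ((tS).triangleLTGE_distinguished (m + 1) X) h h1
  exact ⟨g, hg.symm⟩

lemma cancel_truncGEπ (m : ℤ) {X Y : DerivedCategory C} [Y.IsGE (m - 1)]
    {f g : ((tS).truncGE m).obj X ⟶ Y}
    (h : ((tS).truncGEπ m).app X ≫ f = ((tS).truncGEπ m).app X ≫ g) : f = g := by
  rw [← sub_eq_zero]
  obtain ⟨φ, hφ⟩ := Triangle.yoneda_exact₃ _ ((tS).triangleLTGE_distinguished m X) (f - g)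
    (show ((tS).truncGEπ m).app X ≫ (f - g) = 0 by rw [Preadditive.comp_sub]; exact sub_eq_zero.2 h)
  rw [hφ, (tS).zero_of_isLE_of_isGE φ (m - 2) (m - 1) (by lia)
    (by exact (tS).isLE_shift _ (m - 1) 1 (m - 2) (by lia)) inferInstance]
  exact comp_zero

lemma cancel_truncLTι (m : ℤ) {X Y : DerivedCategory C} [X.IsLE m]
    {f g : X ⟶ ((tS).truncLT m).obj Y}
    (h : f ≫ ((tS).truncLTι m).app Y = g ≫ ((tS).truncLTι m).app Y) : f = g := by
  rw [← sub_eq_zero]
  obtain ⟨φ, hφ⟩ := Triangle.coyoneda_exact₂ _ (inv_rot_of_distTriang _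
    ((tS).triangleLTGE_distinguished m Y)) (f - g) (by
      show (f - g) ≫ ((tS).truncLTι m).app Y = 0
      rw [Preadditive.sub_comp]; exact sub_eq_zero.2 h)
  rw [hφ, (tS).zero_of_isLE_of_isGE φ m (m + 1) (by lia) inferInstance
    (by exact (tS).isGE_shift _ m (-1) (m + 1) (by lia))]
  exact zero_comp

lemma exists_lift_ιTruncLE (L : CochainComplex C ℤ) (m : ℤ) {Z : DerivedCategory C} [Z.IsLE m]
    (f : Z ⟶ Q.obj L) : ∃ φ : Z ⟶ Q.obj (L.truncLE m), φ ≫ Q.map (L.ιTruncLE m) = f := by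
  have hT := triangleOfSES_distinguished (L.shortComplexTruncLE_shortExact m)
  let e := asIso (Q.map (L.shortComplexTruncLEX₃ToTruncGE m (m + 1) rfl))
  have : (Q.obj (L.shortComplexTruncLE m).X₃).IsGE (m + 1) := (tS).isGE_of_iso e.symm (m + 1)
  obtain ⟨φ, hφ⟩ := Triangle.coyoneda_exact₂ _ hT f
    ((tS).zero_of_isLE_of_isGE _ m (m + 1) (lt_add_one m) inferInstance this)
  exact ⟨φ, hφ.symm⟩

lemma exists_desc_πTruncGE (L : CochainComplex C ℤ) (m : ℤ) {W : DerivedCategory C} [W.IsGE m]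
    (f : Q.obj L ⟶ W) : ∃ φ : Q.obj (L.truncGE m) ⟶ W, Q.map (L.πTruncGE m) ≫ φ = f := by
  have hT := triangleOfSES_distinguished (L.shortComplexTruncLE_shortExact (m - 1))
  obtain ⟨g, hg⟩ := Triangle.yoneda_exact₂ _ hT f
    ((tS).zero_of_isLE_of_isGE _ (m - 1) m (by lia)
      (inferInstanceAs ((Q.obj (L.truncLE (m - 1))).IsLE (m - 1))) inferInstance)
  refine ⟨inv (Q.map (L.shortComplexTruncLEX₃ToTruncGE (m - 1) m (by lia))) ≫ g, ?_⟩
  refine Eq.trans ?_ hg.symm
  have e : Q.map (L.πTruncGE m) = Q.map (L.shortComplexTruncLE (m - 1)).g ≫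
      Q.map (L.shortComplexTruncLEX₃ToTruncGE (m - 1) m (by lia)) := by
    rw [← Functor.map_comp]
    exact congrArg _ (CochainComplex.g_shortComplexTruncLEX₃ToTruncGE L (m - 1) m (by lia)).symm
  refine (congrArg (· ≫ _) e).trans ((Category.assoc _ _ _).trans ?_)
  rw [IsIso.hom_inv_id_assoc]
  rfl

end Groth.Agent.H9Misc
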