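import Mathlib
import Groth.Agent.LC.ExtCechAcyclic
import Groth.Agent.LC.ExtCechZero

/-! Support, torsion and contractibility of the extended Čech complex. -/

set_option linter.style.haveILetI false

universe u

open CategoryTheory CategoryTheory.Category CategoryTheory.Limits
open CategoryTheory.Pretriangulated HomotopyCategory

namespace Groth.Agent.H9Misc.ExtCechTors

open Groth.Agent.LC.ExtCech

variable {R : Type u} [CommRing R]

lemma isZero_X_gt (M : ModuleCat.{u} R) :
    ∀ (fs : List R) (n : ℤ), (fs.length : ℤ) < n → IsZero ((DerCA.extCech M fs).X n)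
  | [], n, hn => HomologicalComplex.isZero_single_obj_X (ComplexShape.up ℤ) 0 M n (by simp at hn; omega)
  | g :: fs, n, hn => by
    simp only [List.length_cons, Nat.cast_succ] at hn
    refine IsZero.of_iso ?_ (DerCA.mappingCoconeXIso (DerCA.locCxUnit (Submonoid.powers g) (DerCA.extCech M fs)) n)
    refine (IsZero.iff_id_eq_zero _).2 (biprod.hom_ext _ _ ?_ ?_)
    · exact (isZero_X_gt M fs n (by omega)).eq_of_tgt _ _
    · exact (Functor.map_isZero (DerCA.locFunctor (Submonoid.powers g))
        (isZero_X_gt M fs (n - 1) (by omega))).eq_of_tgt _ _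

lemma isZero_H_of_lt_or_gt (M : ModuleCat.{u} R) (fs : List R) (q : ℤ) (hq : q < 0 ∨ (fs.length : ℤ) < q) :
    IsZero (DerCA.extCechH fs M q) :=
  ShortComplex.isZero_homology_of_isZero_X₂ _
    (hq.elim (isZero_extCech_X_neg M fs q) (isZero_X_gt M fs q))

lemma isZero_quotient_cocone {K L : DRing.Cx R} (φ : K ⟶ L)
    (h : IsZero ((HomotopyCategory.quotient _ _).obj (CochainComplex.mappingCone φ))) :
    IsZero ((HomotopyCategory.quotient _ _).obj (CochainComplex.mappingCocone φ)) :=
  (Functor.map_isZero (shiftFunctor (HomotopyCategory (ModuleCat.{u} R) (ComplexShape.up ℤ)) (-1 : ℤ)) h).of_iso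
    (((HomotopyCategory.quotient (ModuleCat.{u} R) (ComplexShape.up ℤ)).commShiftIso (-1 : ℤ)).app
      (CochainComplex.mappingCone φ))

lemma isZero_quotient_extCech {f : R} (hu : IsUnit f) (M : ModuleCat.{u} R) :
    ∀ fs : List R, f ∈ fs → IsZero ((HomotopyCategory.quotient _ _).obj (DerCA.extCech M fs))
  | [], h => absurd h List.not_mem_nil
  | g :: fs, h => by
    refine isZero_quotient_cocone _ ?_
    rcases List.mem_cons.1 h with rfl | h'
    · have hiso := isIso_locCxUnit (f := f) (DerCA.extCech M fs) (fun n => by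
        obtain ⟨v, rfl⟩ := hu
        exact ⟨(↑v⁻¹ : R) • 𝟙 _, by simp [smul_smul], by simp [smul_smul]⟩)
      exact (Triangle.isZero₃_iff_isIso₁ _ (mappingCone_triangleh_distinguished _)).2
        (@Functor.map_isIso _ _ _ _ _ _ (HomotopyCategory.quotient _ _) _ hiso)
    · have hK := isZero_quotient_extCech hu M fs h'
      have hL : IsZero ((HomotopyCategory.quotient _ _).obj
          ((DerCA.locCx (Submonoid.powers g)).obj (DerCA.extCech M fs))) :=
        (Functor.map_isZero ((DerCA.locFunctor (Submonoid.powers g)).mapHomotopyCategory (ComplexShape.up ℤ))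
          hK).of_iso ((((DerCA.locFunctor (Submonoid.powers g)).mapHomotopyCategoryFactors
            (ComplexShape.up ℤ)).app (DerCA.extCech M fs)).symm)
      refine (Triangle.isZero₃_iff_isIso₁ _ (mappingCone_triangleh_distinguished _)).2 ?_
      exact ⟨0, hK.eq_of_src _ _, hL.eq_of_src _ _⟩

/-- Every element is killed by a power of `f`. -/
def Tors (f : R) (N : ModuleCat.{u} R) : Prop := ∀ x : N, ∃ n : ℕ, f ^ n • x = 0

lemma tors_of_zero (f : R) {N : ModuleCat.{u} R} (h : IsZero N) : Tors f N := fun _ =>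
  haveI := ModuleCat.subsingleton_of_isZero h
  ⟨0, Subsingleton.elim _ _⟩

lemma Tors.of_iso {f : R} {N N' : ModuleCat.{u} R} (h : Tors f N) (e : N ≅ N') : Tors f N' := fun x => by
  obtain ⟨n, hn⟩ := h (e.inv x)
  refine ⟨n, e.toLinearEquiv.symm.injective ?_⟩
  rw [map_smul, map_zero]
  exact hn

lemma exists_cycle_rep (K : DRing.Cx R) (q : ℤ) (x : K.homology q) :
    ∃ z : K.cycles q, K.homologyπ q z = x :=
  (ModuleCat.epi_iff_surjective (K.homologyπ q)).1 inferInstance x

lemma homologyπ_eq_zero (K : DRing.Cx R) (q : ℤ) (z : K.cycles q) (y : K.X (q - 1))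
    (h : K.d (q - 1) q y = K.iCycles q z) : K.homologyπ q z = 0 := by
  have hz : K.toCycles (q - 1) q y = z := by
    apply (ModuleCat.mono_iff_injective (K.iCycles q)).1 inferInstance
    rw [← ConcreteCategory.comp_apply, K.toCycles_i, h]
  rw [← hz, ← ConcreteCategory.comp_apply, K.toCycles_comp_homologyπ]
  rfl

lemma exists_of_homologyπ_eq_zero (K : DRing.Cx R) (q : ℤ) (z : K.cycles q) (h : K.homologyπ q z = 0) :
    ∃ y : K.X (q - 1), K.d (q - 1) q y = K.iCycles q z := by
  let S := ShortComplex.mk (K.toCycles (q - 1) q) (K.homologyπ q) (K.toCycles_comp_homologyπ _ _)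
  have hS : S.Exact := S.exact_of_g_is_cokernel (K.homologyIsCokernel (q - 1) q (by simp))
  rw [ShortComplex.moduleCat_exact_iff] at hS
  obtain ⟨y, hy⟩ := hS z h
  exact ⟨y, by rw [← hy, ← ConcreteCategory.comp_apply, K.toCycles_i]⟩

lemma exists_cycle_of_d_eq_zero (K : DRing.Cx R) (q : ℤ) (x : K.X q) (h : K.d q (q + 1) x = 0) :
    ∃ z : K.cycles q, K.iCycles q z = x := by
  let S := ShortComplex.mk (K.iCycles q) (K.d q (q + 1)) (K.iCycles_d _ _)
  have hS : S.Exact := S.exact_of_f_is_kernel (K.cyclesIsKernel q (q + 1) (by simp))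
  rw [ShortComplex.moduleCat_exact_iff] at hS
  exact hS x h

lemma tors_locCx {f : R} (S : Submonoid R) {K : DRing.Cx R} (h : ∀ q, Tors f (K.homology q)) (q : ℤ) :
    Tors f (((DerCA.locCx S).obj K).homology q) := by
  intro x
  let L := (DerCA.locCx S).obj K
  obtain ⟨z, rfl⟩ := exists_cycle_rep L q x
  obtain ⟨⟨m, s⟩, hm⟩ := IsLocalizedModule.mk'_surjective S (LocalizedModule.mkLinearMap S (K.X q)) (L.iCycles q z)
  have hd : L.d q (q + 1) (L.iCycles q z) = 0 := by
    rw [← ConcreteCategory.comp_apply, L.iCycles_d]; rfl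
  rw [← hm] at hd
  have hd' : IsLocalizedModule.mk' (LocalizedModule.mkLinearMap S (K.X (q + 1))) (K.d q (q + 1) m) s = 0 := by
    refine Eq.trans ?_ hd
    exact (IsLocalizedModule.map_mk' (S := S) (LocalizedModule.mkLinearMap S (K.X q))
      (LocalizedModule.mkLinearMap S (K.X (q + 1))) (K.d q (q + 1)).hom m s).symm
  obtain ⟨t, ht⟩ := (IsLocalizedModule.mk'_eq_zero' _ _).1 hd'
  obtain ⟨w, hw⟩ := exists_cycle_of_d_eq_zero K q ((t : R) • m) (by rw [map_smul]; exact ht)
  obtain ⟨n, hn⟩ := h q (K.homologyπ q w)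
  rw [← map_smul] at hn
  obtain ⟨y, hy⟩ := exists_of_homologyπ_eq_zero K q _ hn
  refine ⟨n, ?_⟩
  rw [← map_smul]
  refine homologyπ_eq_zero L q _ (IsLocalizedModule.mk' (LocalizedModule.mkLinearMap S (K.X (q - 1))) y (t * s) :
    LocalizedModule S (K.X (q - 1))) ?_
  rw [map_smul, ← hm]
  refine (IsLocalizedModule.map_mk' (S := S) (LocalizedModule.mkLinearMap S (K.X (q - 1)))
    (LocalizedModule.mkLinearMap S (K.X q)) (K.d (q - 1) q).hom y (t * s)).trans ?_
  show IsLocalizedModule.mk' (LocalizedModule.mkLinearMap S (K.X q)) (K.d (q - 1) q y) (t * s) = _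
  rw [hy, map_smul, hw]
  exact (IsLocalizedModule.mk'_smul _ _ _ _).trans
    (congrArg (f ^ n • ·) (IsLocalizedModule.mk'_cancel_left _ m t s))

attribute [local instance] HasDerivedCategory.standard

lemma tors_of_seq {f : R} {A B C D E : ModuleCat.{u} R} (a : A ⟶ B) (b : B ⟶ C) (c : C ⟶ D) (d : D ⟶ E)
    (hab : a ≫ b = 0) (hcd : c ≫ d = 0) (hex : ∀ x : C, c x = 0 → ∃ y : B, b y = x)
    (hker : ∀ x : D, d x = 0 → ∃ i : ℕ, f ^ i • x = 0)
    (hcok : ∀ y : B, ∃ (i : ℕ) (x : A), a x = f ^ i • y) : Tors f C := by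
  intro x
  obtain ⟨i, hi⟩ := hker (c x) (by rw [← ConcreteCategory.comp_apply, hcd]; rfl)
  obtain ⟨y, hy⟩ := hex (f ^ i • x) (by rw [map_smul, hi])
  obtain ⟨j, z, hz⟩ := hcok y
  refine ⟨j + i, ?_⟩
  rw [pow_add, mul_smul, ← hy, ← map_smul, ← hz, ← ConcreteCategory.comp_apply, hab]
  rfl

lemma tors_cone {f : R} {K L : DRing.Cx R} (φ : K ⟶ L) (n : ℤ)
    (hker : ∀ x : K.homology (n + 1), HomologicalComplex.homologyMap φ (n + 1) x = 0 → ∃ i : ℕ, f ^ i • x = 0)
    (hcok : ∀ b : L.homology n, ∃ (i : ℕ) (a : K.homology n), HomologicalComplex.homologyMap φ n a = f ^ i • b) :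
    Tors f ((CochainComplex.mappingCone φ).homology n) := by
  let T := DerivedCategory.Q.mapTriangle.obj (CochainComplex.mappingCone.triangle φ)
  have hT : T ∈ distinguishedTriangles := DerivedCategory.mappingCone_triangle_distinguished φ
  let H := fun i : ℤ => DerivedCategory.homologyFunctor (ModuleCat.{u} R) i
  let e : ∀ (X : DRing.Cx R) (i : ℤ), (H i).obj (DerivedCategory.Q.obj X) ≅ X.homology i := fun X i =>
    (DerivedCategory.homologyFunctorFactors (ModuleCat.{u} R) i).app X
  have nat : ∀ i, (H i).map (DerivedCategory.Q.map φ) ≫ (e L i).hom =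
      (e K i).hom ≫ HomologicalComplex.homologyMap φ i := fun i =>
    (DerivedCategory.homologyFunctorFactors (ModuleCat.{u} R) i).hom.naturality φ
  refine Tors.of_iso ?_ (e (CochainComplex.mappingCone φ) n)
  let δ : (H n).obj (DerivedCategory.Q.obj (CochainComplex.mappingCone φ)) ⟶
      (H (n + 1)).obj (DerivedCategory.Q.obj K) := DerivedCategory.HomologySequence.δ T n (n + 1) rfl
  have hex := (DerivedCategory.HomologySequence.exact₃ T hT n (n + 1) rfl)
  rw [ShortComplex.moduleCat_exact_iff] at hex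
  refine tors_of_seq ((e K n).inv ≫ (H n).map (DerivedCategory.Q.map φ)) ((H n).map T.mor₂) δ
    ((H (n + 1)).map (DerivedCategory.Q.map φ) ≫ (e L (n + 1)).hom) ?_ ?_ hex (fun x hx => ?_) fun y => ?_
  · refine (assoc _ _ _).trans ?_
    refine (congrArg ((e K n).inv ≫ ·) (((H n).map_comp _ _).symm.trans
      ((congrArg (H n).map (comp_distTriang_mor_zero₁₂ T hT)).trans ((H n).map_zero _ _)))).trans comp_zero
  · exact (assoc _ _ _).symm.trans ((congrArg (· ≫ (e L (n + 1)).hom)
      (DerivedCategory.HomologySequence.δ_comp T hT n (n + 1) rfl)).trans zero_comp)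
  · rw [nat] at hx
    obtain ⟨i, hi⟩ := hker ((e K (n + 1)).hom x) hx
    refine ⟨i, (e K (n + 1)).toLinearEquiv.injective ?_⟩
    rw [map_smul, map_zero]
    exact hi
  · obtain ⟨i, z, hz⟩ := hcok ((e L n).hom y)
    refine ⟨i, z, (e L n).toLinearEquiv.injective ?_⟩
    rw [map_smul]
    refine Eq.trans ?_ hz
    show (((e K n).inv ≫ (H n).map (DerivedCategory.Q.map φ)) ≫ (e L n).hom) z = _
    rw [assoc, nat, Iso.inv_hom_id_assoc]

lemma tors_cocone {f : R} {K L : DRing.Cx R} (φ : K ⟶ L)
    (h : ∀ n, Tors f ((CochainComplex.mappingCone φ).homology n)) (q : ℤ) :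
    Tors f ((CochainComplex.mappingCocone φ).homology q) :=
  (h (-1 + q)).of_iso (((HomologicalComplex.homologyFunctor (ModuleCat.{u} R) (ComplexShape.up ℤ) 0).shiftIso
    (-1) q (-1 + q) rfl).app (CochainComplex.mappingCone φ)).symm

lemma unit_kernel_cokernel (f : R) (K : DRing.Cx R) (q : ℤ) :
    (∀ x : K.homology q, HomologicalComplex.homologyMap (DerCA.locCxUnit (Submonoid.powers f) K) q x = 0 →
      ∃ i : ℕ, f ^ i • x = 0) ∧
    (∀ b : ((DerCA.locCx (Submonoid.powers f)).obj K).homology q, ∃ (i : ℕ) (a : K.homology q),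
      HomologicalComplex.homologyMap (DerCA.locCxUnit (Submonoid.powers f) K) q a = f ^ i • b) := by
  let S := Submonoid.powers f
  let L := (DerCA.locCx S).obj K
  let φ := DerCA.locCxUnit S K
  have hφ : ∀ (z : K.cycles q), L.iCycles q (HomologicalComplex.cyclesMap φ q z) =
      LocalizedModule.mkLinearMap S (K.X q) (K.iCycles q z) := fun z =>
    ConcreteCategory.congr_hom (HomologicalComplex.cyclesMap_i φ q) z
  have hπ : ∀ (z : K.cycles q), HomologicalComplex.homologyMap φ q (K.homologyπ q z) =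
      L.homologyπ q (HomologicalComplex.cyclesMap φ q z) := fun z =>
    ConcreteCategory.congr_hom (HomologicalComplex.homologyπ_naturality φ q) z
  constructor
  · intro x hx
    obtain ⟨z, rfl⟩ := exists_cycle_rep K q x
    rw [hπ] at hx
    obtain ⟨y, hy⟩ := exists_of_homologyπ_eq_zero L q _ hx
    rw [hφ] at hy
    obtain ⟨⟨m, s⟩, rfl⟩ := IsLocalizedModule.mk'_surjective S (LocalizedModule.mkLinearMap S (K.X (q - 1))) y
    have hy' : IsLocalizedModule.mk' (LocalizedModule.mkLinearMap S (K.X q)) (K.d (q - 1) q m) s =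
        LocalizedModule.mkLinearMap S (K.X q) (K.iCycles q z) := by
      refine Eq.trans ?_ hy
      exact (IsLocalizedModule.map_mk' (S := S) (LocalizedModule.mkLinearMap S (K.X (q - 1)))
        (LocalizedModule.mkLinearMap S (K.X q)) (K.d (q - 1) q).hom m s).symm
    rw [IsLocalizedModule.mk'_eq_iff, Submonoid.smul_def, ← map_smul] at hy'
    obtain ⟨t, ht⟩ := (IsLocalizedModule.eq_iff_exists S (LocalizedModule.mkLinearMap S (K.X q))).1 hy'
    obtain ⟨k, hk⟩ := (t * s).2
    refine ⟨k, ?_⟩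
    rw [← map_smul]
    refine homologyπ_eq_zero K q _ ((t : R) • m) ?_
    simp only [Submonoid.smul_def] at ht
    rw [map_smul, map_smul, show f ^ k = ((t : R) * (s : R)) from hk, mul_smul, ht]
  · intro b
    obtain ⟨w, rfl⟩ := exists_cycle_rep L q b
    obtain ⟨⟨m, s⟩, hm⟩ := IsLocalizedModule.mk'_surjective S (LocalizedModule.mkLinearMap S (K.X q)) (L.iCycles q w)
    have hd : L.d q (q + 1) (L.iCycles q w) = 0 := by
      rw [← ConcreteCategory.comp_apply, L.iCycles_d]; rfl
    rw [← hm] at hd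
    have hd' : IsLocalizedModule.mk' (LocalizedModule.mkLinearMap S (K.X (q + 1))) (K.d q (q + 1) m) s = 0 := by
      refine Eq.trans ?_ hd
      exact (IsLocalizedModule.map_mk' (S := S) (LocalizedModule.mkLinearMap S (K.X q))
        (LocalizedModule.mkLinearMap S (K.X (q + 1))) (K.d q (q + 1)).hom m s).symm
    obtain ⟨t, ht⟩ := (IsLocalizedModule.mk'_eq_zero' _ _).1 hd'
    obtain ⟨z, hz⟩ := exists_cycle_of_d_eq_zero K q ((t : R) • m) (by rw [map_smul]; exact ht)
    obtain ⟨k, hk⟩ := (t * s).2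
    refine ⟨k, K.homologyπ q z, ?_⟩
    rw [hπ, ← map_smul]
    refine congrArg _ ((ModuleCat.mono_iff_injective (L.iCycles q)).1 inferInstance ?_)
    rw [hφ, hz, map_smul, map_smul, ← hm, show f ^ k = ((t : R) * (s : R)) from hk, mul_smul]
    refine congrArg ((t : R) • ·) ?_
    exact (IsLocalizedModule.mk'_cancel' _ m s).symm

theorem tors_extCech {f : R} (M : ModuleCat.{u} R) :
    ∀ fs : List R, f ∈ fs → ∀ q, Tors f ((DerCA.extCech M fs).homology q)
  | [], h, _ => absurd h List.not_mem_nil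
  | g :: fs, h, q => by
    refine tors_cocone _ (fun n => ?_) q
    rcases List.mem_cons.1 h with rfl | h'
    · exact tors_cone _ n (unit_kernel_cokernel f _ (n + 1)).1 (unit_kernel_cokernel f _ n).2
    · have hK := tors_extCech M fs h'
      refine tors_cone _ n (fun x _ => hK (n + 1) x) fun b => ?_
      obtain ⟨i, hi⟩ := tors_locCx (Submonoid.powers g) hK n b
      exact ⟨i, 0, by rw [map_zero, hi]⟩

lemma exists_uniform (fs : List R) {N : Type u} [AddCommGroup N] [Module R N] (x : N)
    (h : ∀ f ∈ fs, ∃ n : ℕ, f ^ n • x = 0) : ∃ n : ℕ, 1 ≤ n ∧ ∀ f ∈ fs, f ^ n • x = 0 := by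
  induction fs with
  | nil => exact ⟨1, le_rfl, fun f hf => absurd hf List.not_mem_nil⟩
  | cons g fs ih =>
    obtain ⟨i, hi⟩ := h g List.mem_cons_self
    obtain ⟨n, hn1, hn⟩ := ih fun f hf => h f (List.mem_cons_of_mem _ hf)
    refine ⟨n + i, by omega, fun f hf => ?_⟩
    rcases List.mem_cons.1 hf with rfl | hf'
    · rw [pow_add, mul_smul, hi, smul_zero]
    · rw [add_comm, pow_add, mul_smul, hn f hf', smul_zero]

theorem isZero_H_of_mem_span (fs : List R) (M : ModuleCat.{u} R) {f : R}
    (hf : f ∈ Ideal.span {a : R | a ∈ fs}) (hM : IsIso (f • 𝟙 M)) (q : ℤ) :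
    IsZero ((DerCA.extCech M fs).homology q) := by
  let K := DerCA.extCech M fs
  refine ModuleCat.isZero_iff_subsingleton.2 (subsingleton_of_forall_eq 0 fun x => ?_)
  let J : Ideal R := LinearMap.ker (LinearMap.toSpanSingleton R (K.homology q) x)
  have hJ : ∀ c, c ∈ J ↔ c • x = 0 := fun c => Iff.rfl
  have hrad : Ideal.span {a : R | a ∈ fs} ≤ J.radical := Ideal.span_le.2 fun a ha =>
    let ⟨n, hn⟩ := tors_extCech M fs ha q x
    ⟨n, (hJ _).2 hn⟩
  obtain ⟨N, hN⟩ := hrad hf
  have hu : IsIso (f • 𝟙 K) := by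
    haveI : ∀ i, IsIso ((f • 𝟙 K).f i) := fun i => isUnitOn_extCech M hM fs i
    exact HomologicalComplex.Hom.isIso_of_components _
  have hinj : Function.Injective (fun y : K.homology q => f • y) := by
    haveI := hu
    have hb : Function.Bijective ((HomologicalComplex.homologyFunctor (ModuleCat.{u} R) (ComplexShape.up ℤ) q).map
      (f • 𝟙 K)) := ConcreteCategory.bijective_of_isIso _
    rw [show (HomologicalComplex.homologyFunctor (ModuleCat.{u} R) (ComplexShape.up ℤ) q).map (f • 𝟙 K) =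
        f • 𝟙 (K.homology q) from (ShortComplex.homologyMap_smul (𝟙 (K.sc q)) f).trans
          (congrArg (f • ·) (ShortComplex.homologyMap_id (K.sc q)))] at hb
    exact hb.1
  have key : ∀ n : ℕ, f ^ n • x = 0 → x = 0 := by
    intro n
    induction n with
    | zero => intro h; rwa [pow_zero, one_smul] at h
    | succ n ih =>
      intro h
      rw [pow_succ', mul_smul] at h
      exact ih (hinj (h.trans (smul_zero f).symm))
  exact key N ((hJ _).1 hN)

end Groth.Agent.H9Misc.ExtCechTors
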