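import Mathlib

/-! Adic completion of flat modules over Noetherian rings. -/

set_option linter.style.haveILetI false

universe u

open scoped TensorProduct

namespace Groth.Agent.H9Misc.FlatAdicCompl

variable {A : Type u} [CommRing A] (I : Ideal A)

section Linearity

variable {X Y : Type u} [AddCommGroup X] [Module A X] [AddCommGroup Y] [Module A Y]

lemma map_add_hom (f g : X →ₗ[A] Y) (z : AdicCompletion I X) :
    AdicCompletion.map I (f + g) z = AdicCompletion.map I f z + AdicCompletion.map I g z := by
  induction z using AdicCompletion.induction_on with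
  | _ a => ext n; simp <;> rfl

lemma map_smul_hom (r : A) (f : X →ₗ[A] Y) (z : AdicCompletion I X) :
    AdicCompletion.map I (r • f) z = r • AdicCompletion.map I f z := by
  induction z using AdicCompletion.induction_on with
  | _ a => ext n; simp <;> rfl

lemma map_sum_hom {ι : Type*} (s : Finset ι) (f : ι → X →ₗ[A] Y) (z : AdicCompletion I X) :
    AdicCompletion.map I (∑ i ∈ s, f i) z = ∑ i ∈ s, AdicCompletion.map I (f i) z := by
  classical
  induction s using Finset.induction_on with
  | empty => simp [AdicCompletion.map_zero]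
  | insert i s hi ih => rw [Finset.sum_insert hi, Finset.sum_insert hi, map_add_hom, ih]

lemma mem_smul_top_map (J : Ideal A) (f : X →ₗ[A] Y) {x : X} (hx : x ∈ J • (⊤ : Submodule A X)) :
    f x ∈ J • (⊤ : Submodule A Y) := by
  have h := Submodule.mem_map_of_mem (f := f) hx
  rw [Submodule.map_smul''] at h
  exact Submodule.smul_mono le_rfl le_top h

end Linearity

section AR

variable [IsNoetherianRing A] {K M M' N : Type u} [AddCommGroup K] [Module A K] [AddCommGroup M] [Module A M]
  [Module.Finite A M] [AddCommGroup M'] [Module A M'] [AddCommGroup N] [Module A N] [Module.Flat A N]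

/-- Artin–Rees after tensoring with a flat module. -/
theorem artinRees_rTensor (f : K →ₗ[A] M) (hf : Function.Injective f) :
    ∃ k : ℕ, ∀ n : ℕ, ∀ z : K ⊗[A] N, f.rTensor N z ∈ I ^ (n + k) • (⊤ : Submodule A (M ⊗[A] N)) →
      z ∈ I ^ n • (⊤ : Submodule A (K ⊗[A] N)) := by
  obtain ⟨k, hk⟩ := Ideal.exists_pow_inf_eq_pow_smul I (LinearMap.range f)
  refine ⟨k, fun n z hz => ?_⟩
  let p : Submodule A M := I ^ (n + k) • ⊤
  let q : K →ₗ[A] M ⧸ p := p.mkQ ∘ₗ f
  have hq : LinearMap.ker q ≤ I ^ n • (⊤ : Submodule A K) := by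
    intro x hx
    rw [LinearMap.mem_ker, LinearMap.comp_apply, Submodule.mkQ_apply, Submodule.Quotient.mk_eq_zero] at hx
    have h1 : f x ∈ I ^ (n + k) • (⊤ : Submodule A M) ⊓ LinearMap.range f := ⟨hx, x, rfl⟩
    rw [hk (n + k) (by omega), Nat.add_sub_cancel] at h1
    have h2 : f x ∈ Submodule.map f (I ^ n • ⊤) := by
      rw [Submodule.map_smul'', Submodule.map_top]
      exact Submodule.smul_mono le_rfl inf_le_right h1
    obtain ⟨y, hy, hxy⟩ := h2
    rwa [← hf hxy]
  have h0 : q.rTensor N z = 0 := by
    rw [LinearMap.rTensor_comp, LinearMap.comp_apply]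
    refine Submodule.smul_induction_on (p := fun t => p.mkQ.rTensor N t = 0) hz (fun r hr t _ => ?_)
      fun a b ha hb => by rw [map_add, ha, hb, add_zero]
    rw [map_smul]
    induction t using TensorProduct.induction_on with
    | zero => simp
    | tmul x y =>
      rw [LinearMap.rTensor_tmul, TensorProduct.smul_tmul', ← map_smul, Submodule.mkQ_apply,
        (Submodule.Quotient.mk_eq_zero p).2 (Submodule.smul_mem_smul hr Submodule.mem_top),
        TensorProduct.zero_tmul]
    | add a b ha hb => rw [map_add, smul_add, ha trivial, hb trivial, add_zero]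
  obtain ⟨w, rfl⟩ := (Module.Flat.rTensor_exact (M := N) (LinearMap.exact_subtype_ker_map q) z).1 h0
  clear hz h0
  induction w using TensorProduct.induction_on with
  | zero => rw [map_zero]; exact zero_mem _
  | tmul x y =>
    rw [LinearMap.rTensor_tmul]
    exact mem_smul_top_map _ ((TensorProduct.mk A K N).flip y) (hq x.2)
  | add a b ha hb =>
    rw [map_add]
    exact add_mem ha hb

end AR

section Exact

variable {X Y Z : Type u} [AddCommGroup X] [Module A X] [AddCommGroup Y] [Module A Y] [AddCommGroup Z]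
  [Module A Z] {f : X →ₗ[A] Y} {g : Y →ₗ[A] Z}
  (har : ∃ k : ℕ, ∀ n : ℕ, ∀ x : X, f x ∈ I ^ (n + k) • (⊤ : Submodule A Y) → x ∈ I ^ n • (⊤ : Submodule A X))

include har in
lemma map_injective_of_ar : Function.Injective (AdicCompletion.map I f) := by
  obtain ⟨k, hk⟩ := har
  rw [← LinearMap.ker_eq_bot, LinearMap.ker_eq_bot']
  intro z hz
  induction z using AdicCompletion.induction_on with
  | _ a =>
    refine AdicCompletion.mk_zero_of _ _ _ ⟨0, fun n _ => ⟨n + k, by omega, n, le_rfl, hk n _ ?_⟩⟩
    simpa using congrArg (fun t => t.val (n + k)) hz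

include har in
lemma map_exact_of_ar (hfg : Function.Exact f g) (hg : Function.Surjective g) :
    Function.Exact (AdicCompletion.map I f) (AdicCompletion.map I g) := by
  obtain ⟨k, hk⟩ := har
  refine LinearMap.exact_of_comp_eq_zero_of_ker_le_range ?_ fun y => ?_
  · rw [AdicCompletion.map_comp, hfg.linearMap_comp_eq_zero, AdicCompletion.map_zero]
  induction y using AdicCompletion.induction_on with
  | _ b =>
    intro hz
    have hb : ∀ n, g (b n) ∈ I ^ n • (⊤ : Submodule A Z) := fun n => by
      simpa using congrArg (fun t => t.val n) hz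
    have hpre : ∀ n, ∃ x : X, f x - b n ∈ I ^ n • (⊤ : Submodule A Y) := fun n => by
      have h : g (b n) ∈ Submodule.map g (I ^ n • ⊤ : Submodule A Y) := by
        rw [Submodule.map_smul'', Submodule.map_top, LinearMap.range_eq_top.2 hg]
        exact hb n
      obtain ⟨d, hd, hgd⟩ := h
      obtain ⟨x, hx⟩ := (hfg (b n - d)).1 (by rw [map_sub, hgd, sub_self])
      refine ⟨x, ?_⟩
      rw [hx, sub_sub_cancel_left]
      exact neg_mem hd
    choose x hx using hpre
    have hc : ∀ m n : ℕ, m ≤ n → b m - b n ∈ I ^ m • (⊤ : Submodule A Y) := fun m n hmn =>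
      (Submodule.Quotient.eq _).1 (b.2 hmn)
    have hcauchy : ∀ n, x (n + k) ≡ x (n + 1 + k) [SMOD (I ^ n • ⊤ : Submodule A X)] := fun n => by
      rw [SModEq.sub_mem]
      refine hk n _ ?_
      rw [map_sub, show f (x (n + k)) - f (x (n + 1 + k)) = (f (x (n + k)) - b (n + k)) +
        (b (n + k) - b (n + 1 + k)) - (f (x (n + 1 + k)) - b (n + 1 + k)) by abel]
      refine sub_mem (add_mem (hx _) (hc _ _ (by omega))) ?_
      exact Submodule.smul_mono_left (Ideal.pow_le_pow_right (by omega)) (hx _)
    refine ⟨AdicCompletion.mk I X (AdicCompletion.AdicCauchySequence.mk I X (fun n => x (n + k)) hcauchy), ?_⟩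
    ext n
    suffices h : Submodule.Quotient.mk (p := (I ^ n • ⊤ : Submodule A Y)) (f (x (n + k))) =
        Submodule.Quotient.mk (p := (I ^ n • ⊤ : Submodule A Y)) (b n) by simpa using h
    rw [Submodule.Quotient.eq, show f (x (n + k)) - b n = (f (x (n + k)) - b (n + k)) - (b n - b (n + k)) by abel]
    exact sub_mem (Submodule.smul_mono_left (Ideal.pow_le_pow_right (by omega)) (hx _)) (hc n _ (by omega))

end Exact

section Comparison

variable (N : Type u) [AddCommGroup N] [Module A N] (M : Type u) [AddCommGroup M] [Module A M]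

/-- `M ⊗ N^ → (M ⊗ N)^`. -/
noncomputable def φ : M ⊗[A] AdicCompletion I N →ₗ[A] AdicCompletion I (M ⊗[A] N) :=
  TensorProduct.lift (LinearMap.mk₂ A (fun x y => AdicCompletion.map I (TensorProduct.mk A M N x) y)
    (fun x x' y => by rw [map_add, map_add_hom])
    (fun r x y => by rw [map_smul, map_smul_hom])
    (fun x y y' => map_add _ y y')
    (fun r x y => LinearMap.map_smul_of_tower _ r y))

variable {M}

lemma φ_tmul (x : M) (y : AdicCompletion I N) :
    φ I N M (x ⊗ₜ y) = AdicCompletion.map I (TensorProduct.mk A M N x) y := rfl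

lemma φ_naturality {M' : Type u} [AddCommGroup M'] [Module A M'] (g : M →ₗ[A] M') (z : M ⊗[A] AdicCompletion I N) :
    φ I N M' (g.rTensor _ z) = AdicCompletion.map I (g.rTensor N) (φ I N M z) := by
  induction z using TensorProduct.induction_on with
  | zero => simp
  | tmul x y =>
    rw [LinearMap.rTensor_tmul, φ_tmul, φ_tmul, AdicCompletion.map_comp_apply]
    rfl
  | add a b ha hb => simp only [map_add, ha, hb]

/-- The comparison map for finite free modules. -/
lemma bijective_φ_pi (n : ℕ) : Function.Bijective (φ I N (Fin n → A)) := by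
  classical
  let p : Fin n → (Fin n → A) ⊗[A] N →ₗ[A] N := fun i =>
    (TensorProduct.lid A N).toLinearMap ∘ₗ (LinearMap.proj i : (Fin n → A) →ₗ[A] A).rTensor N
  let ψ : AdicCompletion I ((Fin n → A) ⊗[A] N) → (Fin n → A) ⊗[A] AdicCompletion I N := fun z =>
    ∑ i, (Pi.single i (1 : A)) ⊗ₜ AdicCompletion.map I (p i) z
  have hid : ∀ z, φ I N (Fin n → A) (ψ z) = z := fun z => by
    simp only [ψ, map_sum, φ_tmul, AdicCompletion.map_comp_apply, ← map_sum_hom]
    have h : (∑ i, TensorProduct.mk A (Fin n → A) N (Pi.single i 1) ∘ₗ p i) = LinearMap.id := by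
      refine TensorProduct.ext' fun x y => ?_
      simp only [LinearMap.sum_apply, LinearMap.comp_apply, TensorProduct.mk_apply, p, LinearMap.rTensor_tmul,
        LinearEquiv.coe_coe, TensorProduct.lid_tmul, LinearMap.proj_apply, LinearMap.id_apply,
        TensorProduct.tmul_smul, TensorProduct.smul_tmul', ← TensorProduct.sum_tmul]
      exact congrArg (fun t => t ⊗ₜ[A] y) (pi_eq_sum_univ' x).symm
    rw [h, AdicCompletion.map_id, LinearMap.id_apply]
  refine ⟨Function.LeftInverse.injective (g := ψ) fun z => ?_, fun z => ⟨ψ z, hid z⟩⟩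
  induction z using TensorProduct.induction_on with
  | zero => simp [ψ]
  | tmul x y =>
    simp only [ψ, φ_tmul, AdicCompletion.map_comp_apply]
    have h : ∀ i, p i ∘ₗ TensorProduct.mk A (Fin n → A) N x = x i • LinearMap.id := fun i =>
      LinearMap.ext fun t => by simp [p]
    simp only [h, map_smul_hom, AdicCompletion.map_id, LinearMap.id_apply, TensorProduct.tmul_smul,
      TensorProduct.smul_tmul', ← TensorProduct.sum_tmul]
    exact congrArg (fun t => t ⊗ₜ[A] y) (pi_eq_sum_univ' x).symm
  | add a b ha hb =>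
    have hadd : ∀ u v, ψ (u + v) = ψ u + ψ v := fun u v => by
      simp only [ψ, map_add, TensorProduct.tmul_add, Finset.sum_add_distrib]
    rw [map_add, hadd, ha, hb]

variable [IsNoetherianRing A] [Module.Flat A N] (M) [Module.Finite A M]

/-- `M ⊗ N^ = (M ⊗ N)^` for finite `M` and flat `N`. -/
theorem bijective_φ : Function.Bijective (φ I N M) := by
  obtain ⟨n, π, hπ⟩ := Module.Finite.exists_fin' A M
  obtain ⟨m, ρ, hρ⟩ := Module.Finite.exists_fin' A (LinearMap.ker π)
  let g : (Fin m → A) →ₗ[A] (Fin n → A) := (LinearMap.ker π).subtype ∘ₗ ρ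
  have hπg : π ∘ₗ g = 0 := LinearMap.ext fun x => (ρ x).2
  have hex := map_exact_of_ar I (artinRees_rTensor I (N := N) (LinearMap.ker π).subtype Subtype.val_injective)
    (rTensor_exact N (LinearMap.exact_subtype_ker_map π) hπ) (LinearMap.rTensor_surjective N hπ)
  refine ⟨(injective_iff_map_eq_zero _).2 fun t ht => ?_, fun z => ?_⟩
  · obtain ⟨s, rfl⟩ := LinearMap.rTensor_surjective (AdicCompletion I N) hπ t
    rw [φ_naturality] at ht
    obtain ⟨w, hw⟩ := (hex _).1 ht
    obtain ⟨r', rfl⟩ := AdicCompletion.map_surjective I (LinearMap.rTensor_surjective N hρ) w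
    obtain ⟨r, rfl⟩ := (bijective_φ_pi I N m).2 r'
    rw [AdicCompletion.map_comp_apply, ← LinearMap.rTensor_comp, ← φ_naturality] at hw
    rw [← (bijective_φ_pi I N n).1 hw, ← LinearMap.comp_apply, ← LinearMap.rTensor_comp]
    rw [hπg, LinearMap.rTensor_zero, LinearMap.zero_apply]
  · obtain ⟨w, rfl⟩ := AdicCompletion.map_surjective I (LinearMap.rTensor_surjective N hπ) z
    obtain ⟨s, rfl⟩ := (bijective_φ_pi I N n).2 w
    exact ⟨π.rTensor _ s, φ_naturality I N π s⟩

end Comparison

/-- The completion of a flat module is flat. -/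
theorem flat_adicCompletion [IsNoetherianRing A] (N : Type u) [AddCommGroup N] [Module A N] [Module.Flat A N] :
    Module.Flat A (AdicCompletion I N) := by
  refine Module.Flat.iff_rTensor_injective'.2 fun J => ?_
  have hinj := map_injective_of_ar I (artinRees_rTensor I (N := N) (M := A) J.subtype Subtype.val_injective)
  refine Function.Injective.of_comp (f := φ I N A) ?_
  have e : (φ I N A) ∘ (J.subtype.rTensor (AdicCompletion I N)) =
      AdicCompletion.map I (J.subtype.rTensor N) ∘ φ I N J := funext fun z => φ_naturality I N J.subtype z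
  rw [e]
  exact hinj.comp (bijective_φ I N J).1

end Groth.Agent.H9Misc.FlatAdicCompl
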