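import Groth.Agent.H9Misc.DRingAdicCompl
import Groth.Agent.H9Misc.FlatAdicCompl
import Groth.Agent.H9Misc.DRingLTensorCx
import Groth.Agent.Triage.NoethPC

/-! Derived completion of `M ⊗ N` for finite `M` and flat `N`. -/

set_option linter.style.haveILetI false

universe u

open CategoryTheory CategoryTheory.Category CategoryTheory.Limits MonoidalCategory
open CategoryTheory.Pretriangulated CochainComplex CochainComplex.HomComplex

attribute [local instance] HasDerivedCategory.standard

namespace Groth.Agent.H9Misc.DRingFlatCompl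

open DRingHomCx DRingCompl DRingLTensor DRingNakayama DRingAdic DRingRHomCompl DRingExactPairing
open DRingComplTensor DRingAdicCompl Groth.Agent.KFlatLib

variable {A : Type u} [CommRing A] (I : Ideal A) (N : ModuleCat.{u} A)

/-- `N^` as a module. -/
noncomputable abbrev hatN : ModuleCat.{u} A := ModuleCat.of A (AdicCompletion I N)

/-- `N → N^`. -/
noncomputable def ηN : N ⟶ hatN I N := ModuleCat.ofHom (AdicCompletion.of I N)

variable [IsNoetherianRing A]

lemma isIso_rTensor_ηN : IsIso ((tensorRight (ModuleCat.of A (A ⧸ I))).map (ηN I N)) := by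
  have hfg : I.FG := IsNoetherian.noetherian _
  have hker : (I • ⊤ : Submodule A (AdicCompletion I N)) = LinearMap.ker (AdicCompletion.eval I N 1) := by
    rw [← AdicCompletion.pow_smul_top_eq_ker_eval hfg, pow_one]
  refine (ConcreteCategory.isIso_iff_bijective _).2
    (bijective_rTensor_quotient I (AdicCompletion.of I N) (fun x hx => ?_) fun y => ?_)
  · rw [hker, LinearMap.mem_ker] at hx
    have := (Submodule.Quotient.mk_eq_zero _).1 hx
    simpa using this
  · obtain ⟨x, hx⟩ := Submodule.Quotient.mk_surjective _ (AdicCompletion.eval I N 1 y)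
    refine ⟨x, ?_⟩
    rw [hker, LinearMap.mem_ker, map_sub, sub_eq_zero]
    exact hx.symm

variable [Module.Flat A N]

/-- `N → N^` reflects into derived complete objects. -/
theorem bij_ηN (Z : Dual.D A) (hZ : DRing.IsDerivedComplete I Z) (n : ℤ) :
    Function.Bijective fun g : DerivedCategory.Q.obj ((single₀ A).obj (hatN I N)) ⟶ Z⟦n⟧ =>
      DerivedCategory.Q.map ((single₀ A).map (ηN I N)) ≫ g := by
  have hfg : I.FG := IsNoetherian.noetherian _
  obtain ⟨s, hs⟩ := hfg
  let S := HomologicalComplex.single (ModuleCat.{u} A) (ComplexShape.up ℤ) 0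
  let P := CochainComplex.mappingCone (S.map (ηN I N))
  have hflat : ∀ n, Module.Flat A (P.X n) := by
    intro n
    have h : ∀ (M : ModuleCat.{u} A), Module.Flat A M → ∀ k, Module.Flat A ((S.obj M).X k) := by
      intro M hM k
      by_cases hk : k = 0
      · subst hk
        exact Module.Flat.of_linearEquiv
          (HomologicalComplex.singleObjXSelf (ComplexShape.up ℤ) 0 M).toLinearEquiv
      · have := ModuleCat.subsingleton_of_isZero
          (HomologicalComplex.isZero_single_obj_X (ComplexShape.up ℤ) 0 M k hk)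
        infer_instance
    exact (KFlatLib.ringCover A).of_iso
      (HomologicalComplex.homotopyCofiber.XIsoBiprod (S.map (ηN I N)) n (n + 1) rfl).symm
      ((KFlatLib.ringCover A).biprod _ _ (h _ (inferInstanceAs (Module.Flat A N)) _)
        (h _ (FlatAdicCompl.flat_adicCompletion I N) _))
  have hz : ∀ n, 0 < n → IsZero (P.X n) := fun n hn => by
    refine IsZero.of_iso (biprod_isZero_iff _ _ |>.2
      ⟨HomologicalComplex.isZero_single_obj_X _ _ _ _ (by omega),
        HomologicalComplex.isZero_single_obj_X _ _ _ _ (by omega)⟩)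
      (HomologicalComplex.homotopyCofiber.XIsoBiprod (S.map (ηN I N)) n (n + 1) rfl)
  haveI : P.IsStrictlyLE 0 := (CochainComplex.isStrictlyLE_iff _ _).2 hz
  have hK : DRingLTensor.IsKF P :=
    KFlatLib.kFlat_of_isStrictlyLE 0 fun n => KFlatLib.flatObj_ringCover _ (hflat n)
  have hac : ((G P).obj (ModuleCat.of A (A ⧸ I))).Acyclic := by
    let T := tensorRight (ModuleCat.of A (A ⧸ I))
    haveI : IsIso ((T.mapHomologicalComplex (ComplexShape.up ℤ)).map (S.map (ηN I N))) := by
      haveI := isIso_rTensor_ηN I N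
      exact (NatIso.isIso_map_iff (HomologicalComplex.singleMapHomologicalComplex T (ComplexShape.up ℤ) 0)
        (ηN I N)).2 (inferInstanceAs (IsIso ((HomologicalComplex.single (ModuleCat.{u} A) (ComplexShape.up ℤ) 0).map
          (T.map (ηN I N)))))
    have hzero : IsZero (DerivedCategory.Q.obj
        (CochainComplex.mappingCone ((T.mapHomologicalComplex (ComplexShape.up ℤ)).map (S.map (ηN I N))))) :=
      (Triangle.isZero₃_iff_isIso₁ _ (DerivedCategory.mappingCone_triangle_distinguished _)).2
        (inferInstanceAs (IsIso (DerivedCategory.Q.map ((T.mapHomologicalComplex (ComplexShape.up ℤ)).map (S.map (ηN I N))))))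
    intro i
    refine HomologicalComplex.ExactAt.of_iso ?_ (CochainComplex.mappingCone.mapHomologicalComplexIso (S.map (ηN I N)) T).symm
    exact (HomologicalComplex.exactAt_iff_isZero_homology _ i).2
      (((DerivedCategory.homologyFunctor (ModuleCat.{u} A) i).map_isZero hzero).of_iso
        ((DerivedCategory.homologyFunctorFactors (ModuleCat.{u} A) i).app _).symm)
  have hl : I ≤ Ideal.ofList (s.toList ++ []) := by
    refine le_of_eq (hs.symm.trans (congrArg Ideal.span ?_))
    ext; simp
  let eρ : (G P).obj (𝟙_ (ModuleCat.{u} A)) ≅ P :=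
    HomologicalComplex.Hom.isoOfComponents (fun m => ρ_ (P.X m))
      (fun i j _ => (MonoidalCategory.rightUnitor_naturality (P.d i j)).symm)
  have ho : LOrth Z (DerivedCategory.Q.obj P) :=
    lOrth_of_complete I s.toList (fun f hf => hs ▸ Ideal.subset_span (Finset.mem_toList.1 hf))
      (fun X hX => lOrth_iso (DerivedCategory.Q.mapIso eρ)
        (lOrth_GD I hK hflat hac s.toList [] hl (𝟙_ (ModuleCat.{u} A)) X
          (fun f hf => absurd hf List.not_mem_nil) hX))
      s.toList [] _ (fun f => by simp) hZ (fun f hf => absurd hf List.not_mem_nil)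
  have hT := DerivedCategory.mappingCone_triangle_distinguished (S.map (ηN I N))
  exact bij_of_lOrth _ hT ho n

/-- `F ⊗ N → F ⊗ N^` reflects into derived complete objects, for K-flat `F`. -/
theorem bij_tensC {F : DRing.Cx A} (hF : IsKF F) (E : Dual.D A) (hE : DRing.IsDerivedComplete I E) :
    Function.Bijective fun g : DerivedCategory.Q.obj ((G F).obj (hatN I N)) ⟶ E =>
      DerivedCategory.Q.map ((G F).map (ηN I N)) ≫ g := by
  obtain ⟨J, hJ, -, ⟨eJ⟩⟩ := exists_resolution E
  haveI := hJ
  haveI := hasRHomCx F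
  have hH : DRing.IsDerivedComplete I (DerivedCategory.Q.obj (DRing.homCx F J)) := fun f hf n => by
    have := cg_rhom F f E (hE f hf) n
    exact (Iso.homCongr (Iso.refl _) ((CategoryTheory.shiftFunctor (Dual.D A) n).mapIso
      (isoOfKInjective F J ≪≫ (DRing.RHomCx F).mapIso eJ.symm))).subsingleton
  have hb := bijective_whiskerRight_kFlat ((single₀ A).map (ηN I N)) hF J (fun n => bij_ηN I N _ hH n)
  have hbE : Function.Bijective fun φ : DerivedCategory.Q.obj ((single₀ A).obj (hatN I N) ⊗ F) ⟶ E =>
      DerivedCategory.Q.map ((single₀ A).map (ηN I N) ▷ F) ≫ φ := by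
    refine ⟨fun x y h => ?_, fun y => ?_⟩
    · rw [← cancel_mono eJ.hom]
      refine hb.1 ?_
      simp only [← assoc]
      exact congrArg (· ≫ eJ.hom) h
    · obtain ⟨x, hx⟩ := hb.2 (y ≫ eJ.hom)
      refine ⟨x ≫ eJ.inv, ?_⟩
      dsimp only at hx ⊢
      rw [← assoc, hx, assoc, eJ.hom_inv_id, comp_id]
  let sy := symmIso (curriedTensorFlipIso (A := A)) F
  let sI := singleIso (curriedTensor (ModuleCat.{u} A))
  let i₁ : ((single₀ A).obj N ⊗ F) ≅ (G F).obj N :=
    sy.app ((single₀ A).obj N) ≪≫ (sI N).app F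
  let i₂ : ((single₀ A).obj (hatN I N) ⊗ F) ≅ (G F).obj (hatN I N) :=
    sy.app ((single₀ A).obj (hatN I N)) ≪≫ (sI (hatN I N)).app F
  refine bij_of_sq _ _ (DerivedCategory.Q.mapIso i₁) (DerivedCategory.Q.mapIso i₂) ?_ hbE
  rw [Functor.mapIso_hom, Functor.mapIso_hom, ← Functor.map_comp, ← Functor.map_comp]
  refine congrArg _ ?_
  exact sq_comp (sy.hom.naturality ((single₀ A).map (ηN I N))) (singleIso_natural F (ηN I N))

omit [IsNoetherianRing A] [Module.Flat A N] in
lemma sq_aux {X M N N' P P' : ModuleCat.{u} A} (a : X ⟶ M) (g : N ⟶ N') (b : P ≅ M ⊗ N) (d : P' ≅ M ⊗ N') :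
    X ◁ g ≫ a ▷ N' ≫ d.inv = ((a ▷ N) ≫ b.inv) ≫ b.hom ≫ M ◁ g ≫ d.inv := by
  rw [assoc, b.inv_hom_id_assoc, whisker_exchange_assoc]

omit [IsNoetherianRing A] [Module.Flat A N] in
/-- Degree zero of an object isomorphic to a single module. -/
lemma exists_equiv_of_iso {X T : ModuleCat.{u} A} {L : Dual.D A}
    (η : (DerivedCategory.singleFunctor (ModuleCat.{u} A) 0).obj X ⟶ L)
    (y : L ≅ (DerivedCategory.singleFunctor (ModuleCat.{u} A) 0).obj T) (o : X ⟶ T)
    (hy : η ≫ y.hom = (DerivedCategory.singleFunctor (ModuleCat.{u} A) 0).map o) :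
    ∃ e : Dual.HD A L 0 ≃ₗ[A] T, ∀ x : X,
      e (((DerivedCategory.singleFunctorCompHomologyFunctorIso (ModuleCat.{u} A) 0).inv.app X ≫
        (DerivedCategory.homologyFunctor (ModuleCat.{u} A) 0).map η).hom x) = o.hom x := by
  let c := DerivedCategory.singleFunctorCompHomologyFunctorIso (ModuleCat.{u} A) 0
  refine ⟨((DerivedCategory.homologyFunctor (ModuleCat.{u} A) 0).mapIso y ≪≫ c.app T).toLinearEquiv, fun x => ?_⟩
  have hc : c.inv.app X ≫ (DerivedCategory.homologyFunctor (ModuleCat.{u} A) 0).map η ≫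
      (DerivedCategory.homologyFunctor (ModuleCat.{u} A) 0).map y.hom ≫ c.hom.app T = o := by
    rw [← Functor.map_comp_assoc, hy]
    exact (congrArg (fun t => c.inv.app X ≫ t) (c.hom.naturality o)).trans (Iso.inv_hom_id_app_assoc c X o)
  exact ConcreteCategory.congr_hom hc x

/-- `M ⊗ N → M ⊗ N^`. -/
theorem bij_inD (M : ModuleCat.{u} A) [Module.Finite A M] (E : Dual.D A) (hE : DRing.IsDerivedComplete I E) :
    Function.Bijective fun g : (DerivedCategory.singleFunctor (ModuleCat.{u} A) 0).obj (M ⊗ hatN I N) ⟶ E =>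
      (DerivedCategory.singleFunctor (ModuleCat.{u} A) 0).map (M ◁ ηN I N) ≫ g := by
  obtain ⟨F, c, hFc, hFf, ⟨eF⟩⟩ := Triage.NoethPC.pc' (A := A) M
  haveI := DRingProjAmp.isKProjective (R := A) (P := F)
    (fun i => by haveI := (hFf i).2; exact Module.Projective.of_free) hFc
  obtain ⟨β, hβ⟩ := DRingLTensorCx.exists_quasiIso_of_iso
    (eF ≪≫ (DerivedCategory.singleFunctorIsoCompQ (ModuleCat.{u} A) 0).app M :
      DerivedCategory.Q.obj F ≅ DerivedCategory.Q.obj ((single₀ A).obj M))
  haveI := hβ
  have hF : IsKF F := DRingTor.isKF_of_flat (fun i => haveI := (hFf i).2; inferInstance) hFc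
  haveI : Module.Flat A (hatN I N) := FlatAdicCompl.flat_adicCompletion I N
  have hq : ∀ (X : ModuleCat.{u} A), Module.Flat A X →
      IsIso (DerivedCategory.Q.map ((tensC X).map β)) := fun X hX => by
    haveI := hX
    haveI : PreservesFiniteLimits (tensorRight X) := inferInstance
    exact (DerivedCategory.isIso_Q_map_iff_quasiIso _ _).2 inferInstance
  let s := fun X : ModuleCat.{u} A =>
    (HomologicalComplex.singleMapHomologicalComplex (tensorRight X) (ComplexShape.up ℤ) 0).app M
  let q := DerivedCategory.singleFunctorIsoCompQ (ModuleCat.{u} A) 0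
  haveI := hq N inferInstance
  haveI := hq (hatN I N) inferInstance
  let v : ∀ (X : ModuleCat.{u} A) [IsIso (DerivedCategory.Q.map ((tensC X).map β))],
      DerivedCategory.Q.obj ((G F).obj X) ≅ (DerivedCategory.singleFunctor (ModuleCat.{u} A) 0).obj (M ⊗ X) :=
    fun X hX => @asIso _ _ _ _ (DerivedCategory.Q.map ((tensC X).map β)) hX ≪≫ DerivedCategory.Q.mapIso (s X) ≪≫
      (q.app (M ⊗ X)).symm
  refine bij_of_sq _ _ (v N) (v (hatN I N)) ?_ (bij_tensC I N hF E hE)
  refine sq_comp (y := DerivedCategory.Q.map ((G ((single₀ A).obj M)).map (ηN I N))) ?_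
    (sq_comp (y := DerivedCategory.Q.map ((single₀ A).map (M ◁ ηN I N))) ?_ (q.inv.naturality (M ◁ ηN I N)))
  · refine (Functor.map_comp _ _ _).symm.trans ((congrArg _ ?_).trans (Functor.map_comp _ _ _))
    ext i : 1
    exact MonoidalCategory.whisker_exchange (β.f i) (ηN I N)
  · refine (Functor.map_comp _ _ _).symm.trans ((congrArg _ ?_).trans (Functor.map_comp _ _ _))
    refine HomologicalComplex.to_single_hom_ext ?_
    simp only [s, Iso.app_hom, HomologicalComplex.comp_f, HomologicalComplex.singleMapHomologicalComplex_hom_app_self,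
      HomologicalComplex.single_map_f_self, assoc, Iso.inv_hom_id_assoc]
    exact sq_aux _ _ _ _

/-- The derived completion of `M ⊗ N` is the adic completion in degree zero. -/
theorem completion_tensor [DRing.HasDerivedCompletion I] (M : ModuleCat.{u} A) [Module.Finite A M] :
    (∀ i : ℤ, i ≠ 0 → Subsingleton (Dual.HD A ((DRing.derivedCompletion I).obj
      (Dual.inD A (TensorProduct A M N))).obj i)) ∧
      ∃ e : Dual.HD A ((DRing.derivedCompletion I).obj (Dual.inD A (TensorProduct A M N))).obj 0 ≃ₗ[A]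
          AdicCompletion I (TensorProduct A M N),
        ∀ x : TensorProduct A M N,
          e ((((DerivedCategory.singleFunctorCompHomologyFunctorIso (ModuleCat.{u} A) 0).inv.app
                (ModuleCat.of A (TensorProduct A M N))) ≫
              (DerivedCategory.homologyFunctor (ModuleCat.{u} A) 0).map
                (DRing.toDerivedCompletion I (Dual.inD A (TensorProduct A M N)))).hom x) =
            AdicCompletion.of I (TensorProduct A M N) x := by
  have hfg : I.FG := IsNoetherian.noetherian _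
  let S₀ := DerivedCategory.singleFunctor (ModuleCat.{u} A) 0
  let T : ModuleCat.{u} A := ModuleCat.of A (TensorProduct A M N)
  let T' : ModuleCat.{u} A := ModuleCat.of A (AdicCompletion I T)
  let eφ : M ⊗ hatN I N ≅ T' :=
    (LinearEquiv.ofBijective _ (FlatAdicCompl.bijective_φ I N M)).toModuleIso
  let o : T ⟶ T' := ModuleCat.ofHom (AdicCompletion.of I T)
  have ho : (M ◁ ηN I N) ≫ eφ.hom = o := by
    refine ModuleCat.hom_ext (TensorProduct.ext' fun x y => ?_)
    change FlatAdicCompl.φ I N M (x ⊗ₜ AdicCompletion.of I N y) = _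
    rw [FlatAdicCompl.φ_tmul, AdicCompletion.map_of]
    rfl
  let K : Dual.D A := S₀.obj T
  let u' : K ⟶ S₀.obj T' := S₀.map o
  have hu' : Refl (DRing.IsDerivedComplete I) u' := by
    refine ⟨(DRingTel.isDerivedComplete_inD_iff I _).2 fun f hf => ?_, fun Z hZ m => ?_⟩
    · haveI : IsAdicComplete I (AdicCompletion I T) := AdicCompletion.isAdicComplete hfg
      exact TBMod.tbm_of_isAdicComplete I hf
    · refine bij_of_sq (S₀.map (M ◁ ηN I N)) u' (Iso.refl _) (S₀.mapIso eφ) ?_
        (bij_inD I N M _ (DRingCompl.isDerivedComplete_shift hZ m))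
      exact (S₀.map_comp _ _).symm.trans ((congrArg S₀.map ho).trans (id_comp _).symm)
  have hu := refl_unit (I := I) K
  let L := ((DRing.derivedCompletion I).obj K).obj
  let z₁ := (shiftFunctorZero (Dual.D A) ℤ).app L
  let z₂ := (shiftFunctorZero (Dual.D A) ℤ).app (S₀.obj T')
  obtain ⟨a, ha⟩ := (hu.bij _ hu'.mem 0).2 (u' ≫ z₂.inv)
  obtain ⟨b, hb⟩ := (hu'.bij _ hu.mem 0).2 (DRing.toDerivedCompletion I K ≫ z₁.inv)
  dsimp only at ha hb
  let y : L ≅ S₀.obj T' :=
    { hom := a ≫ z₂.hom
      inv := b ≫ z₁.hom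
      hom_inv_id := by
        rw [← cancel_mono z₁.inv]
        refine hu.cancel hu.mem ?_
        simp [reassoc_of% ha, hb]
      inv_hom_id := by
        rw [← cancel_mono z₂.inv]
        refine hu'.cancel hu'.mem ?_
        simp [reassoc_of% hb, ha] }
  have hy : DRing.toDerivedCompletion I K ≫ y.hom = u' := by
    change _ ≫ a ≫ z₂.hom = _
    rw [← assoc, ha, assoc, z₂.inv_hom_id]
    exact comp_id _
  let H := fun m => DerivedCategory.homologyFunctor (ModuleCat.{u} A) m
  refine ⟨fun i hi => ?_, ?_⟩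
  · haveI : (S₀.obj T').IsLE 0 := inferInstance
    haveI : (S₀.obj T').IsGE 0 := inferInstance
    refine ModuleCat.subsingleton_of_isZero (IsZero.of_iso ?_ ((H i).mapIso y))
    rcases lt_or_gt_of_ne hi with h | h
    · exact DerivedCategory.isZero_of_isGE _ 0 i h
    · exact DerivedCategory.isZero_of_isLE _ 0 i h
  · exact exists_equiv_of_iso (DRing.toDerivedCompletion I K) y o hy

end Groth.Agent.H9Misc.DRingFlatCompl
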