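import Groth.Agent.H9Misc.DRingNakayama
import Groth.Agent.H9Misc.DRingCompl
import Groth.Agent.KFlatLib.Bounded
import Mathlib.LinearAlgebra.TensorProduct.Quotient
import Mathlib.RingTheory.AdicCompletion.AsTensorProduct
import Mathlib.RingTheory.AdicCompletion.Completeness
import Mathlib.RingTheory.AdicCompletion.Algebra
import Mathlib.Algebra.Homology.DerivedCategory.FullyFaithful
import Mathlib.Algebra.Homology.HomotopyCategory.MappingCone

/-! The adic completion of a Noetherian ring is the derived completion. -/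

set_option linter.style.haveILetI false

universe u

open CategoryTheory CategoryTheory.Category CategoryTheory.Limits MonoidalCategory
open CategoryTheory.Pretriangulated

attribute [local instance] HasDerivedCategory.standard

namespace Groth.Agent.H9Misc.DRingAdic

open Groth.Agent.H9Misc.DRingNakayama

variable {A : Type u} [CommRing A]

lemma isDerivedComplete_shift {I : Ideal A} {Z : Dual.D A} (h : DRing.IsDerivedComplete I Z) (a : ℤ) :
    DRing.IsDerivedComplete I (Z⟦a⟧) := fun f hf n => by
  have := h f hf (a + n)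
  exact ⟨fun p q => (cancel_mono ((shiftFunctorAdd (Dual.D A) a n).app Z).inv).1 (this.elim _ _)⟩

/-- Objects without maps to torsion objects have no maps to derived complete objects. -/
lemma lOrth_of_complete (I : Ideal A) (l : List A) (hl : ∀ f ∈ l, f ∈ I) {W : Dual.D A}
    (ho : ∀ X : Dual.D A, Tors l X → LOrth X W) :
    ∀ (l₁ l₂ : List A) (Z : Dual.D A), (∀ f, f ∈ l ↔ f ∈ l₁ ∨ f ∈ l₂) → DRing.IsDerivedComplete I Z →
      Tors l₂ Z → LOrth Z W := by
  intro l₁
  induction l₁ with
  | nil =>
    intro l₂ Z hmem _ hZ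
    exact ho Z fun f hf => hZ f ((hmem f).1 hf |>.resolve_left List.not_mem_nil)
  | cons f l₁ ih =>
    intro l₂ Z hmem hc hZ n
    obtain ⟨C, j, δ, hT⟩ := distinguished_cocone_triangle (f • 𝟙 Z)
    have hfj : f • j = 0 := by
      rw [← id_comp j, ← Linear.smul_comp]
      exact comp_distTriang_mor_zero₁₂ _ hT
    have hfδ : f • δ = 0 := by
      have hsh : (shiftFunctor (Dual.D A) (1 : ℤ)).map (f • 𝟙 Z) = f • 𝟙 (Z⟦(1 : ℤ)⟧) := by
        rw [Functor.map_smul, CategoryTheory.Functor.map_id]
      have h1 : δ ≫ (shiftFunctor (Dual.D A) (1 : ℤ)).map (f • 𝟙 Z) = 0 :=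
        comp_distTriang_mor_zero₃₁ _ hT
      rwa [hsh, Linear.comp_smul, comp_id] at h1
    have hC : Tors (f :: l₂) C := by
      intro g hg
      rcases List.mem_cons.1 hg with rfl | hg
      · exact ⟨2, cone_killed hT hfj hfδ⟩
      · obtain ⟨k, hk⟩ := hZ g hg
        refine ⟨k * 2, ?_⟩
        rw [pow_mul]
        refine cone_killed hT ?_ (smul_hom_eq_zero (smul_shift_eq_zero hk 1) δ)
        rw [← id_comp j, ← Linear.smul_comp, hk, zero_comp]
    have hCo : LOrth C W := ih (f :: l₂) C (fun g => by rw [hmem g]; simp only [List.mem_cons]; tauto)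
      (isDerivedComplete_obj₃ I _ hT hc hc) hC
    have hTn := Triangle.shift_distinguished _ hT n
    have hsurj : ∀ x : W ⟶ Z⟦n⟧, ∃ y : W ⟶ Z⟦n⟧, f • y = x := by
      intro x
      obtain ⟨y, hy⟩ : ∃ y : W ⟶ Z⟦n⟧, x = y ≫ (n.negOnePow • (shiftFunctor (Dual.D A) n).map (f • 𝟙 Z)) := by
        obtain ⟨y, hy⟩ := Triangle.coyoneda_exact₂ _ hTn x ((hCo n).elim _ _)
        exact ⟨y, hy⟩
      rcases Int.units_eq_one_or n.negOnePow with h1 | h1
      · refine ⟨y, ?_⟩
        rw [hy, h1, one_smul, Functor.map_smul, CategoryTheory.Functor.map_id, Linear.comp_smul, comp_id]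
      · refine ⟨-y, ?_⟩
        rw [hy, h1, Units.neg_smul, one_smul, Functor.map_smul, CategoryTheory.Functor.map_id,
          Preadditive.comp_neg, Linear.comp_smul, comp_id, smul_neg]
    choose g hg using hsurj
    have hf : f ∈ I := hl f ((hmem f).2 (Or.inl List.mem_cons_self))
    have htb := TelLocal.tb_sc_of_separating f (Z⟦n⟧) _ (DRingCompl.isSeparating_self (A := A))
      (fun P hP => by
        rw [ObjectProperty.singleton_iff] at hP
        subst hP
        exact (DRingCompl.cg_iff_tbOn f _).1 (isDerivedComplete_shift hc n f hf)) W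
    exact subsingleton_of_forall_eq 0 fun x => by
      have hx := htb.eq_zero (fun k => g^[k] x) (fun k => by
        rw [Function.iterate_succ_apply']
        exact (hg _).symm) 0
      simpa using hx

lemma bijective_rTensor_quotient (I : Ideal A) {M N : Type u} [AddCommGroup M] [Module A M]
    [AddCommGroup N] [Module A N] (η : M →ₗ[A] N)
    (h₁ : ∀ x, η x ∈ (I • ⊤ : Submodule A N) → x ∈ (I • ⊤ : Submodule A M))
    (h₂ : ∀ y, ∃ x, y - η x ∈ (I • ⊤ : Submodule A N)) :
    Function.Bijective (η.rTensor (A ⧸ I)) := by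
  let eM := TensorProduct.tensorQuotEquivQuotSMul M I
  let eN := TensorProduct.tensorQuotEquivQuotSMul N I
  let q : (M ⧸ (I • ⊤ : Submodule A M)) →ₗ[A] N ⧸ (I • ⊤ : Submodule A N) :=
    Submodule.mapQ _ _ η ((Submodule.map_le_iff_le_comap).1 (by
      rw [Submodule.map_smul'']; exact Submodule.smul_mono le_rfl le_top))
  have hq : Function.Bijective q := by
    refine ⟨(injective_iff_map_eq_zero _).2 fun z hz => ?_, fun z => ?_⟩
    · obtain ⟨x, rfl⟩ := Submodule.Quotient.mk_surjective _ z
      exact (Submodule.Quotient.mk_eq_zero _).2 (h₁ x ((Submodule.Quotient.mk_eq_zero _).1 hz))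
    · obtain ⟨y, rfl⟩ := Submodule.Quotient.mk_surjective _ z
      obtain ⟨x, hx⟩ := h₂ y
      exact ⟨Submodule.Quotient.mk x, ((Submodule.Quotient.eq _).2 hx).symm⟩
  have he : (eN.toLinearMap.comp (η.rTensor (A ⧸ I))) = q.comp eM.toLinearMap := by
    refine TensorProduct.ext' fun m r => ?_
    obtain ⟨r, rfl⟩ := Ideal.Quotient.mk_surjective r
    simp [eM, eN, q]
  have : Function.Bijective (eN.toLinearMap.comp (η.rTensor (A ⧸ I))) := by
    rw [he]; exact hq.comp eM.bijective
  exact (Function.Bijective.of_comp_iff' eN.bijective _).1 this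

variable [IsNoetherianRing A]

/-- `A → Â` as a map of modules. -/
noncomputable def η (I : Ideal A) : ModuleCat.of A A ⟶ ModuleCat.of A (AdicCompletion I A) :=
  ModuleCat.ofHom (AdicCompletion.of I A)

lemma isIso_rTensor_η (I : Ideal A) :
    IsIso ((tensorRight (ModuleCat.of A (A ⧸ I))).map (η I)) := by
  have hfg : I.FG := IsNoetherian.noetherian _
  have hker : (I • ⊤ : Submodule A (AdicCompletion I A)) = LinearMap.ker (AdicCompletion.eval I A 1) := by
    rw [← AdicCompletion.pow_smul_top_eq_ker_eval hfg, pow_one]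
  refine (ConcreteCategory.isIso_iff_bijective _).2
    (bijective_rTensor_quotient I (AdicCompletion.of I A) (fun x hx => ?_) fun y => ?_)
  · rw [hker, LinearMap.mem_ker] at hx
    have := (Submodule.Quotient.mk_eq_zero _).1 hx
    simpa using this
  · obtain ⟨x, hx⟩ := Submodule.Quotient.mk_surjective _ (AdicCompletion.eval I A 1 y)
    refine ⟨x, ?_⟩
    rw [hker, LinearMap.mem_ker, map_sub, sub_eq_zero]
    exact hx.symm

/-- Maps out of `Â` into derived complete modules are determined by and extend maps out of `A`. -/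
theorem bijective_comp_η (I : Ideal A) (N : Type u) [AddCommGroup N] [Module A N]
    (hN : DRing.IsDerivedComplete I (Dual.inD A N)) :
    Function.Bijective fun ψ : AdicCompletion I A →ₗ[A] N => ψ (AdicCompletion.of I A 1) := by
  have hfg : I.FG := IsNoetherian.noetherian _
  obtain ⟨s, hs⟩ := hfg
  let S := HomologicalComplex.single (ModuleCat.{u} A) (ComplexShape.up ℤ) 0
  let P := CochainComplex.mappingCone (S.map (η I))
  have hflat : ∀ n, Module.Flat A (P.X n) := by
    intro n
    have h : ∀ (M : ModuleCat.{u} A), Module.Flat A M → ∀ k, Module.Flat A ((S.obj M).X k) := by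
      intro M hM k
      by_cases hk : k = 0
      · subst hk
        exact Module.Flat.of_linearEquiv
          (HomologicalComplex.singleObjXSelf (ComplexShape.up ℤ) 0 M).toLinearEquiv
      · have := ModuleCat.subsingleton_of_isZero
          (HomologicalComplex.isZero_single_obj_X (ComplexShape.up ℤ) 0 M k hk)
        infer_instance
    exact (KFlatLib.ringCover A).of_iso
      (HomologicalComplex.homotopyCofiber.XIsoBiprod (S.map (η I)) n (n + 1) rfl).symm
      ((KFlatLib.ringCover A).biprod _ _ (h _ (inferInstanceAs (Module.Flat A A)) _)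
        (h _ (inferInstanceAs (Module.Flat A (AdicCompletion I A))) _))
  have hz : ∀ n, 0 < n → IsZero (P.X n) := fun n hn => by
    refine IsZero.of_iso (biprod_isZero_iff _ _ |>.2
      ⟨HomologicalComplex.isZero_single_obj_X _ _ _ _ (by omega),
        HomologicalComplex.isZero_single_obj_X _ _ _ _ (by omega)⟩)
      (HomologicalComplex.homotopyCofiber.XIsoBiprod (S.map (η I)) n (n + 1) rfl)
  haveI : P.IsStrictlyLE 0 := (CochainComplex.isStrictlyLE_iff _ _).2 hz
  have hK : DRingLTensor.IsKF P :=
    KFlatLib.kFlat_of_isStrictlyLE 0 fun n => KFlatLib.flatObj_ringCover _ (hflat n)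
  have hac : ((G P).obj (ModuleCat.of A (A ⧸ I))).Acyclic := by
    let T := tensorRight (ModuleCat.of A (A ⧸ I))
    haveI : IsIso ((T.mapHomologicalComplex (ComplexShape.up ℤ)).map (S.map (η I))) := by
      haveI := isIso_rTensor_η I
      exact (NatIso.isIso_map_iff (HomologicalComplex.singleMapHomologicalComplex T (ComplexShape.up ℤ) 0)
        (η I)).2 (inferInstanceAs (IsIso ((HomologicalComplex.single (ModuleCat.{u} A) (ComplexShape.up ℤ) 0).map
          (T.map (η I)))))
    have hzero : IsZero (DerivedCategory.Q.obj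
        (CochainComplex.mappingCone ((T.mapHomologicalComplex (ComplexShape.up ℤ)).map (S.map (η I))))) :=
      (Triangle.isZero₃_iff_isIso₁ _ (DerivedCategory.mappingCone_triangle_distinguished _)).2
        (inferInstanceAs (IsIso (DerivedCategory.Q.map ((T.mapHomologicalComplex (ComplexShape.up ℤ)).map (S.map (η I))))))
    intro i
    refine HomologicalComplex.ExactAt.of_iso ?_ (CochainComplex.mappingCone.mapHomologicalComplexIso (S.map (η I)) T).symm
    exact (HomologicalComplex.exactAt_iff_isZero_homology _ i).2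
      (((DerivedCategory.homologyFunctor (ModuleCat.{u} A) i).map_isZero hzero).of_iso
        ((DerivedCategory.homologyFunctorFactors (ModuleCat.{u} A) i).app _).symm)
  have hl : I ≤ Ideal.ofList (s.toList ++ []) := by
    refine le_of_eq (hs.symm.trans (congrArg Ideal.span ?_))
    ext; simp
  let eρ : (G P).obj (𝟙_ (ModuleCat.{u} A)) ≅ P :=
    HomologicalComplex.Hom.isoOfComponents (fun m => ρ_ (P.X m))
      (fun i j _ => (MonoidalCategory.rightUnitor_naturality (P.d i j)).symm)
  have ho : LOrth (Dual.inD A N) (DerivedCategory.Q.obj P) :=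
    lOrth_of_complete I s.toList (fun f hf => hs ▸ Ideal.subset_span (Finset.mem_toList.1 hf))
      (fun X hX => lOrth_iso (DerivedCategory.Q.mapIso eρ)
        (lOrth_GD I hK hflat hac s.toList [] hl (𝟙_ (ModuleCat.{u} A)) X
          (fun f hf => absurd hf List.not_mem_nil) hX))
      s.toList [] _ (fun f => by simp) hN (fun f hf => absurd hf List.not_mem_nil)
  have hT := DerivedCategory.mappingCone_triangle_distinguished (S.map (η I))
  let e : ∀ M : ModuleCat.{u} A, DerivedCategory.Q.obj (S.obj M) ≅
      (DerivedCategory.singleFunctor (ModuleCat.{u} A) 0).obj M := fun M => (KFlatLib.singleQ 0 M).symm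
  let Z := (DerivedCategory.singleFunctor (ModuleCat.{u} A) 0).obj (ModuleCat.of A N)
  let z := (shiftFunctorZero (Dual.D A) ℤ).app Z
  have hb : Function.Bijective fun g : DerivedCategory.Q.obj (S.obj (ModuleCat.of A (AdicCompletion I A))) ⟶ Z =>
      DerivedCategory.Q.map (S.map (η I)) ≫ g := by
    constructor
    · intro g g' hg
      refine sub_eq_zero.1 ((cancel_mono z.inv).1 ?_)
      rw [zero_comp]
      refine lOrth_mor₁ _ hT ho (n := 0) ?_
      show DerivedCategory.Q.map (S.map (η I)) ≫ ((g - g') ≫ z.inv) = 0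
      rw [← assoc, Preadditive.comp_sub, show DerivedCategory.Q.map (S.map (η I)) ≫ g =
        DerivedCategory.Q.map (S.map (η I)) ≫ g' from hg, sub_self, zero_comp]
    · intro x
      have hr := inv_rot_of_distTriang _ hT
      obtain ⟨y, hy⟩ := Triangle.yoneda_exact₂ _ hr (x ≫ z.inv) ((lOrth_shift ho (-1) 0).elim _ _)
      refine ⟨y ≫ z.hom, ?_⟩
      dsimp only
      rw [← assoc]
      refine ((congrArg (· ≫ z.hom) hy).symm.trans (assoc _ _ _)).trans ?_
      exact (congrArg (fun k => CategoryStruct.comp x k) z.inv_hom_id).trans (comp_id x)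
  let F := DerivedCategory.singleFunctor (ModuleCat.{u} A) 0
  have hnat : (KFlatLib.singleQ 0 (ModuleCat.of A A)).hom ≫ DerivedCategory.Q.map (S.map (η I)) =
      F.map (η I) ≫ (KFlatLib.singleQ 0 (ModuleCat.of A (AdicCompletion I A))).hom :=
    (((DerivedCategory.singleFunctorIsoCompQ (ModuleCat.{u} A) 0)).hom.naturality (η I)).symm
  have hkey : ∀ φ : ModuleCat.of A (AdicCompletion I A) ⟶ ModuleCat.of A N,
      (KFlatLib.singleQ 0 (ModuleCat.of A A)).hom ≫ DerivedCategory.Q.map (S.map (η I)) ≫
        (KFlatLib.singleQ 0 (ModuleCat.of A (AdicCompletion I A))).inv ≫ F.map φ = F.map (η I ≫ φ) := by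
    intro φ
    rw [F.map_comp, ← assoc, hnat]
    simp only [assoc, Iso.hom_inv_id_assoc]
  constructor
  · intro ψ ψ' h
    have h' : η I ≫ ModuleCat.ofHom ψ = η I ≫ ModuleCat.ofHom ψ' :=
      ModuleCat.hom_ext (LinearMap.ext_ring h)
    have hq : (KFlatLib.singleQ 0 (ModuleCat.of A (AdicCompletion I A))).inv ≫ F.map (ModuleCat.ofHom ψ) =
        (KFlatLib.singleQ 0 (ModuleCat.of A (AdicCompletion I A))).inv ≫ F.map (ModuleCat.ofHom ψ') :=
      hb.1 ((cancel_epi (KFlatLib.singleQ 0 (ModuleCat.of A A)).hom).1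
        ((hkey _).trans ((congrArg F.map h').trans (hkey _).symm)))
    exact congrArg ModuleCat.Hom.hom (F.map_injective ((cancel_epi _).1 hq))
  · intro x
    obtain ⟨g, hg⟩ := hb.2 ((KFlatLib.singleQ 0 (ModuleCat.of A A)).inv ≫
      F.map (ModuleCat.ofHom (LinearMap.toSpanSingleton A N x)))
    obtain ⟨φ, hφ⟩ := F.map_surjective ((KFlatLib.singleQ 0 (ModuleCat.of A (AdicCompletion I A))).hom ≫ g)
    refine ⟨φ.hom, ?_⟩
    have h2 : (KFlatLib.singleQ 0 (ModuleCat.of A (AdicCompletion I A))).inv ≫ F.map φ = g := by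
      rw [hφ]; exact Iso.inv_hom_id_assoc _ _
    have : η I ≫ φ = ModuleCat.ofHom (LinearMap.toSpanSingleton A N x) := F.map_injective
      ((hkey φ).symm.trans ((congrArg (fun k => (KFlatLib.singleQ 0 (ModuleCat.of A A)).hom ≫
        DerivedCategory.Q.map (S.map (η I)) ≫ k) h2).trans
        ((congrArg (fun k => (KFlatLib.singleQ 0 (ModuleCat.of A A)).hom ≫ k) hg).trans
          (Iso.hom_inv_id_assoc _ _))))
    exact (congrArg (fun k : ModuleCat.of A A ⟶ ModuleCat.of A N => k.hom (1 : A)) this).trans
      (one_smul A x)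

end Groth.Agent.H9Misc.DRingAdic
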