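import Groth.Agent.H9Misc.DRingCompl

/-! Amplitude of derived completion: consequences. -/

set_option linter.style.haveILetI false

universe u

open CategoryTheory CategoryTheory.Category CategoryTheory.Limits
open CategoryTheory.Pretriangulated

attribute [local instance] HasDerivedCategory.standard

namespace Groth.Agent.H9Misc.DRingCompl

variable {A : Type u} [CommRing A] {I : Ideal A}

lemma isDerivedComplete_iff_gens (s : Finset A) (hs : Ideal.span (s : Set A) = I) (K : Dual.D A) :
    DRing.IsDerivedComplete I K ↔ ∀ f ∈ s.toList, Cg f K := by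
  refine ⟨fun h f hf => h f (hs ▸ Ideal.subset_span (Finset.mem_toList.1 hf)), fun h => ?_⟩
  rw [DRingTel.isDerivedComplete_iff]
  intro f hf i
  have hle : I ≤ TBMod.tbIdeal (Dual.HD A K i) (A := A) := hs ▸ Ideal.span_le.2 fun g hg =>
    (DRingTel.tbOn_iff g K).1 ((DRingTel.subsingleton_iff g K).1 (h g (Finset.mem_toList.2 hg))) i
  exact hle hf

lemma isDerivedComplete_shift {K : Dual.D A} (h : DRing.IsDerivedComplete I K) (a : ℤ) :
    DRing.IsDerivedComplete I (K⟦a⟧) := fun f hf n => by
  have := h f hf (a + n)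
  exact ⟨fun p q => (cancel_mono ((shiftFunctorAdd (Dual.D A) a n).app K).inv).1 (this.elim _ _)⟩

lemma refl_unit [DRing.HasDerivedCompletion I] (K : Dual.D A) :
    Refl (DRing.IsDerivedComplete I) (DRing.toDerivedCompletion I K) := by
  refine ⟨((DRing.derivedCompletion I).obj K).property, fun Z hZ n => ?_⟩
  let Z' : DRing.DComp I := ⟨Z⟦n⟧, isDerivedComplete_shift hZ n⟩
  let e := (DRing.derivedCompletionAdj I).homEquiv K Z'
  have he : ∀ g : (DRing.derivedCompletion I).obj K ⟶ Z',
      e g = DRing.toDerivedCompletion I K ≫ g.hom := fun g => Adjunction.homEquiv_unit ..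
  exact ⟨fun g g' h => congrArg (fun k => k.hom)
      (e.injective ((he ⟨g⟩).trans (h.trans (he ⟨g'⟩).symm))),
    fun g => ⟨(e.symm g).hom, (he _).symm.trans (e.apply_symm_apply g)⟩⟩

lemma subsingleton_HD_of_iso {K L : Dual.D A} (e : K ≅ L) {i : ℤ} (h : Subsingleton (Dual.HD A K i)) :
    Subsingleton (Dual.HD A L i) :=
  ModuleCat.subsingleton_of_isZero ((isZ h).of_iso
    ((DerivedCategory.homologyFunctor (ModuleCat.{u} A) i).mapIso e.symm))

/-- Derived completion is right t-exact. -/
theorem LE.of_refl {C C' : Dual.D A} {c : C ⟶ C'} (hc : Refl (DRing.IsDerivedComplete I) c) {b : ℤ}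
    (hC : LE C b) : LE C' b := by
  obtain ⟨P, Z, hP, hZ, f, g, d, hT⟩ :=
    DerivedCategory.TStructure.t.exists_triangle C' b (b + 1) rfl
  haveI : Z.IsGE (b + 1) := ⟨hZ⟩
  haveI : P.IsLE b := ⟨hP⟩
  haveI : C.IsLE b := (DerivedCategory.isLE_iff C b).2 fun i hi => isZ (hC i hi)
  have hiso : ∀ i, b < i → IsIso ((DerivedCategory.homologyFunctor (ModuleCat.{u} A) i).map g) := by
    intro i hi
    haveI : Mono ((DerivedCategory.homologyFunctor (ModuleCat.{u} A) i).map g) :=
      (DerivedCategory.HomologySequence.mono_homologyMap_mor₂_iff _ hT i).2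
        ((DerivedCategory.isZero_of_isLE P b i hi).eq_of_src _ _)
    haveI : Epi ((DerivedCategory.homologyFunctor (ModuleCat.{u} A) i).map g) :=
      (DerivedCategory.HomologySequence.epi_homologyMap_mor₂_iff _ hT i (i + 1) rfl).2
        ((DerivedCategory.isZero_of_isLE P b (i + 1) (by omega)).eq_of_tgt _ _)
    exact isIso_of_mono_of_epi _
  have hZc : DRing.IsDerivedComplete I Z := by
    rw [DRingTel.isDerivedComplete_iff]
    intro f' hf' i
    rcases le_or_gt i b with hi | hi
    · haveI : Subsingleton (Dual.HD A Z i) :=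
        ModuleCat.subsingleton_of_isZero (DerivedCategory.isZero_of_isGE Z (b + 1) i (by omega))
      exact TBMod.tbm_of_subsingleton f'
    · haveI := hiso i hi
      exact ((DRingTel.isDerivedComplete_iff I C').1 hc.mem f' hf' i).of_equiv
        (asIso ((DerivedCategory.homologyFunctor (ModuleCat.{u} A) i).map g)).toLinearEquiv
  intro i hi
  have hg : g = 0 := by
    let e := (shiftFunctorZero (Dual.D A) ℤ).app Z
    rw [← cancel_mono e.inv]
    refine (hc.cancel hZc (n := 0) ?_).trans zero_comp.symm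
    rw [comp_zero, ← assoc, DerivedCategory.TStructure.t.zero (c ≫ g) b (b + 1) (by omega), zero_comp]
  haveI := hiso i hi
  refine ModuleCat.subsingleton_of_isZero ?_
  rw [IsZero.iff_id_eq_zero, ← cancel_mono ((DerivedCategory.homologyFunctor (ModuleCat.{u} A) i).map g)]
  simp [hg]

/-- Derived completion at `r` elements lowers the lower bound by at most `r`. -/
theorem GE.of_refl (s : Finset A) (hs : Ideal.span (s : Set A) = I) {C C' : Dual.D A} {c : C ⟶ C'}
    (hc : Refl (DRing.IsDerivedComplete I) c) {a : ℤ} (hC : GE C a) : GE C' (a - s.card) := by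
  obtain ⟨Y, η, hη, hY⟩ := exists_refl s.toList C
  have hη' : Refl (DRing.IsDerivedComplete I) η :=
    ⟨(isDerivedComplete_iff_gens s hs Y).2 hη.mem,
      fun Z hZ n => hη.bij Z ((isDerivedComplete_iff_gens s hs Z).1 hZ) n⟩
  obtain ⟨e⟩ := hη'.exists_iso hc
  intro i hi
  exact subsingleton_HD_of_iso e (hY a hC i (by rw [Finset.length_toList]; exact hi))

/-- The cones of a map and of its completion are related by a reflection. -/
theorem exists_cone_refl [DRing.HasDerivedCompletion I] {K L : Dual.D A} (φ : K ⟶ L) :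
    ∃ (C C' : Dual.D A) (j : L ⟶ C) (d : C ⟶ K⟦(1 : ℤ)⟧)
      (j' : ((DRing.derivedCompletion I).obj L).obj ⟶ C')
      (d' : C' ⟶ ((DRing.derivedCompletion I).obj K).obj⟦(1 : ℤ)⟧) (c : C ⟶ C'),
      Triangle.mk φ j d ∈ distTriang _ ∧
      Triangle.mk ((DRing.derivedCompletion I).map φ).hom j' d' ∈ distTriang _ ∧
      Refl (DRing.IsDerivedComplete I) c := by
  obtain ⟨C, j, d, hT⟩ := distinguished_cocone_triangle φ
  obtain ⟨C', j', d', hT'⟩ := distinguished_cocone_triangle ((DRing.derivedCompletion I).map φ).hom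
  have hnat : φ ≫ DRing.toDerivedCompletion I L =
      DRing.toDerivedCompletion I K ≫ ((DRing.derivedCompletion I).map φ).hom :=
    (DRing.derivedCompletionAdj I).unit.naturality φ
  obtain ⟨c, hc₂, hc₃⟩ := complete_distinguished_triangle_morphism _ _ hT hT'
    (DRing.toDerivedCompletion I K) (DRing.toDerivedCompletion I L) hnat
  refine ⟨C, C', j, d, j', d', c, hT, hT', Refl.third hT hT' (Triangle.homMk _ _
    (DRing.toDerivedCompletion I K) (DRing.toDerivedCompletion I L) c hnat hc₂ hc₃)
    (refl_unit K) (refl_unit L) ?_⟩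
  exact DRingNakayama.isDerivedComplete_obj₃ I _ hT' ((DRing.derivedCompletion I).obj K).property
    ((DRing.derivedCompletion I).obj L).property

lemma le_obj₃ {T : Triangle (Dual.D A)} (hT : T ∈ distTriang _) (b : ℤ)
    (hiso : ∀ i, b + 2 ≤ i → IsIso ((DerivedCategory.homologyFunctor (ModuleCat.{u} A) i).map T.mor₁))
    (hepi : Epi ((DerivedCategory.homologyFunctor (ModuleCat.{u} A) (b + 1)).map T.mor₁)) :
    LE T.obj₃ b := by
  intro i hi
  refine ModuleCat.subsingleton_of_isZero
    ((DerivedCategory.HomologySequence.exact₃ _ hT i (i + 1) rfl).isZero_of_both_zeros ?_ ?_)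
  · refine (DerivedCategory.HomologySequence.epi_homologyMap_mor₁_iff _ hT i).1 ?_
    rcases eq_or_lt_of_le (show b + 1 ≤ i by omega) with rfl | h
    · exact hepi
    · haveI := hiso i (by omega); infer_instance
  · haveI := hiso (i + 1) (by omega)
    exact (DerivedCategory.HomologySequence.mono_homologyMap_mor₁_iff _ hT i (i + 1) rfl).1 inferInstance

lemma ge_obj₃ {T : Triangle (Dual.D A)} (hT : T ∈ distTriang _) (a : ℤ)
    (hiso : ∀ i, i < a → IsIso ((DerivedCategory.homologyFunctor (ModuleCat.{u} A) i).map T.mor₁))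
    (hmono : Mono ((DerivedCategory.homologyFunctor (ModuleCat.{u} A) a).map T.mor₁)) :
    GE T.obj₃ a := by
  intro i hi
  refine ModuleCat.subsingleton_of_isZero
    ((DerivedCategory.HomologySequence.exact₃ _ hT i (i + 1) rfl).isZero_of_both_zeros ?_ ?_)
  · haveI := hiso i hi
    exact (DerivedCategory.HomologySequence.epi_homologyMap_mor₁_iff _ hT i).1 inferInstance
  · refine (DerivedCategory.HomologySequence.mono_homologyMap_mor₁_iff _ hT i (i + 1) rfl).1 ?_
    rcases eq_or_lt_of_le (show i + 1 ≤ a by omega) with h | h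
    · rw [h]; exact hmono
    · haveI := hiso (i + 1) h; infer_instance

lemma epi_of_le {T : Triangle (Dual.D A)} (hT : T ∈ distTriang _) {b : ℤ} (h : LE T.obj₃ b) {i : ℤ}
    (hi : b < i) : Epi ((DerivedCategory.homologyFunctor (ModuleCat.{u} A) i).map T.mor₁) :=
  (DerivedCategory.HomologySequence.epi_homologyMap_mor₁_iff _ hT i).2
    ((isZ (h i hi)).eq_of_tgt _ _)

lemma mono_of_zero {T : Triangle (Dual.D A)} (hT : T ∈ distTriang _) {i : ℤ}
    (h : Subsingleton (Dual.HD A T.obj₃ (i - 1))) :
    Mono ((DerivedCategory.homologyFunctor (ModuleCat.{u} A) i).map T.mor₁) :=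
  (DerivedCategory.HomologySequence.mono_homologyMap_mor₁_iff _ hT (i - 1) i (by omega)).2
    ((isZ h).eq_of_src _ _)

end Groth.Agent.H9Misc.DRingCompl
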