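import Groth.Agent.H9Misc.DRingComplTensor
import Groth.Agent.H9Misc.DRingAdic
import Groth.Agent.H9Misc.DRingComplAmp
import Groth.Agent.KFlatLib.SingleIso
import Mathlib.RingTheory.Flat.CategoryTheory
import Mathlib.RingTheory.AdicCompletion.AsTensorProduct

/-! Derived completion of complexes with finite cohomology over Noetherian rings. -/

set_option linter.style.haveILetI false

universe u

open CategoryTheory CategoryTheory.Category CategoryTheory.Limits MonoidalCategory
open CategoryTheory.Pretriangulated CochainComplex CochainComplex.HomComplex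

attribute [local instance] HasDerivedCategory.standard

namespace Groth.Agent.H9Misc.DRingAdicCompl

open DRingHomCx DRingCompl DRingLTensor DRingNakayama DRingAdic DRingRHomCompl DRingExactPairing
open DRingComplTensor Groth.Agent.KFlatLib

variable {A : Type u} [CommRing A]

lemma bij_of_lOrth {X : Dual.D A} (T : Triangle (Dual.D A)) (hT : T ∈ distTriang (Dual.D A))
    (h : LOrth X T.obj₃) (n : ℤ) : Function.Bijective fun g : T.obj₂ ⟶ X⟦n⟧ => T.mor₁ ≫ g := by
  refine ⟨fun g g' hg => sub_eq_zero.1 (lOrth_mor₁ T hT h ?_), fun x => ?_⟩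
  · rw [Preadditive.comp_sub]
    exact sub_eq_zero.2 hg
  · obtain ⟨y, hy⟩ := Triangle.yoneda_exact₂ _ (inv_rot_of_distTriang _ hT) x
      ((lOrth_shift h (-1) n).elim _ _)
    exact ⟨y, hy.symm⟩

lemma bij_of_sq {X₁ X₂ Y₁ Y₂ E : Dual.D A} (x : X₁ ⟶ X₂) (y : Y₁ ⟶ Y₂) (e₁ : X₁ ≅ Y₁) (e₂ : X₂ ≅ Y₂)
    (sq : x ≫ e₂.hom = e₁.hom ≫ y) (h : Function.Bijective fun φ : X₂ ⟶ E => x ≫ φ) :
    Function.Bijective fun φ : Y₂ ⟶ E => y ≫ φ := by
  refine ⟨fun a b hab => ?_, fun w => ?_⟩
  · rw [← cancel_epi e₂.hom]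
    refine h.1 ?_
    dsimp only at hab ⊢
    rw [← assoc, sq, assoc, hab, ← assoc, ← sq, assoc]
  · obtain ⟨v, hv⟩ := h.2 (e₁.hom ≫ w)
    refine ⟨e₂.inv ≫ v, ?_⟩
    dsimp only at hv ⊢
    rw [← cancel_epi e₁.hom, ← assoc e₁.hom, ← sq, assoc, e₂.hom_inv_id_assoc, hv]

/-- Precomposition with a whiskered map into a K-injective complex. -/
theorem bijective_whiskerRight_kFlat {P₁ P₂ : DRing.Cx A} (α : P₁ ⟶ P₂) {F : DRing.Cx A} (hF : IsKF F)
    (J : DRing.Cx A) [J.IsKInjective]
    (h : ∀ n : ℤ, Function.Bijective (fun φ : DerivedCategory.Q.obj P₂ ⟶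
        (DerivedCategory.Q.obj (DRing.homCx F J))⟦n⟧ => DerivedCategory.Q.map α ≫ φ)) :
    Function.Bijective (fun φ : DerivedCategory.Q.obj (P₂ ⊗ F) ⟶ DerivedCategory.Q.obj J =>
      DerivedCategory.Q.map (α ▷ F) ≫ φ) := by
  let i := DerivedCategory.quotientCompQhIso (ModuleCat.{u} A)
  let H := DRing.homCx F J
  haveI := isKInjective_homCx (I := J) hF
  let c : ∀ (P : DRing.Cx A) (n : ℤ),
      ((qH A).obj P ⟶ (qH A).obj (H⟦n⟧)) ≃
        (DerivedCategory.Q.obj P ⟶ (DerivedCategory.Q.obj H)⟦n⟧) := fun P n =>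
    (Equiv.ofBijective _ (CochainComplex.IsKInjective.Qh_map_bijective ((qH A).obj P) (H⟦n⟧))).trans
      (Iso.homCongr (i.app P) (i.app (H⟦n⟧) ≪≫ (DerivedCategory.Q.commShiftIso n).app H))
  haveI : QuasiIso (homCxPre α H) := by
    refine quasiIso_homCxPre α H fun n => ?_
    have e : (c P₁ n) ∘ (fun φ : (qH A).obj P₂ ⟶ (qH A).obj (H⟦n⟧) => (qH A).map α ≫ φ) =
        (fun φ => DerivedCategory.Q.map α ≫ φ) ∘ (c P₂ n) := by
      funext φ
      simp only [Function.comp_apply, c, Equiv.trans_apply, Equiv.ofBijective_apply, Iso.homCongr_apply,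
        Functor.map_comp, Iso.app_inv, ← Category.assoc]
      rw [q_map]
    refine (Function.Bijective.of_comp_iff' (c P₁ n).bijective _).1 ?_
    rw [e]
    exact (h n).comp (c P₂ n).bijective
  haveI : QuasiIso (homCxPre (α ▷ F) J) := by
    have := pre_homTensorIso α F J
    rw [← Iso.inv_comp_eq] at this
    rw [← this]
    infer_instance
  have hH : Function.Bijective
      (fun φ : (qH A).obj (P₂ ⊗ F) ⟶ (qH A).obj (J⟦(0 : ℤ)⟧) => (qH A).map (α ▷ F) ≫ φ) := by
    have hq := (quasiIsoAt_iff_isIso_homologyMap (homCxPre (α ▷ F) J) 0).1 inferInstance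
    have hm : Mono (HomologicalComplex.homologyMap (homCxPre (α ▷ F) J) 0) := inferInstance
    have he : Epi (HomologicalComplex.homologyMap (homCxPre (α ▷ F) J) 0) := inferInstance
    rw [CxLib.mono_homologyMap_iff _ 0 (-1) 1 (CochainComplex.prev ℤ 0) (CochainComplex.next ℤ 0)] at hm
    rw [CxLib.epi_homologyMap_iff _ 0 (-1) 1 (CochainComplex.prev ℤ 0) (CochainComplex.next ℤ 0)] at he
    refine ⟨fun φ ψ hφψ => ?_, fun ψ => ?_⟩
    · obtain ⟨z, hz, rfl⟩ := cls_surjective φ
      obtain ⟨w, hw, rfl⟩ := cls_surjective ψ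
      dsimp only at hφψ
      rw [← sub_eq_zero, ← Preadditive.comp_sub, ← cls_sub _ _ hz hw, ← cls_pre, cls_eq_zero_iff] at hφψ
      obtain ⟨v, hv⟩ := hφψ
      rw [← sub_eq_zero, ← cls_sub _ _ hz hw, cls_eq_zero_iff]
      exact hm (z - w) (show δ 0 1 (z - w) = 0 by rw [δ_sub, show δ 0 1 z = 0 from hz,
        show δ 0 1 w = 0 from hw, sub_zero]) ⟨v, hv⟩
    · obtain ⟨y, hy, rfl⟩ := cls_surjective ψ
      obtain ⟨(x : Cochain (P₂ ⊗ F) J 0), (hx : δ 0 1 x = 0), v, hv⟩ := he y hy
      refine ⟨cls x (show δ 0 (0 + 1) x = 0 from hx), (cls_pre _ _ _).symm.trans (Eq.symm ?_)⟩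
      rw [← sub_eq_zero, ← cls_sub _ _ hy (by rw [δ_ofHom_comp, show δ 0 (0 + 1) x = 0 from hx, Cochain.comp_zero]),
        cls_eq_zero_iff]
      exact ⟨v, hv⟩
  let d : ∀ X : DRing.Cx A, ((qH A).obj X ⟶ (qH A).obj (J⟦(0 : ℤ)⟧)) ≃
      (DerivedCategory.Q.obj X ⟶ DerivedCategory.Q.obj J) := fun X =>
    (Equiv.ofBijective _ (CochainComplex.IsKInjective.Qh_map_bijective ((qH A).obj X) (J⟦(0 : ℤ)⟧))).trans
      (Iso.homCongr (i.app X) (i.app (J⟦(0 : ℤ)⟧) ≪≫
        DerivedCategory.Q.mapIso ((shiftFunctorZero (DRing.Cx A) ℤ).app J)))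
  have e : (fun φ => DerivedCategory.Q.map (α ▷ F) ≫ φ) ∘ d (P₂ ⊗ F) =
      d (P₁ ⊗ F) ∘ (fun φ => (qH A).map (α ▷ F) ≫ φ) := by
    funext φ
    simp only [Function.comp_apply, d, Equiv.trans_apply, Equiv.ofBijective_apply, Iso.homCongr_apply,
      Functor.map_comp, Iso.app_inv, ← Category.assoc]
    rw [q_map]
  refine (Function.Bijective.of_comp_iff _ (d (P₂ ⊗ F)).bijective).1 ?_
  rw [e]
  exact (d (P₁ ⊗ F)).bijective.comp hH

variable [IsNoetherianRing A] (I : Ideal A)

/-- `Â` as a module. -/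
noncomputable abbrev hatA : ModuleCat.{u} A := ModuleCat.of A (AdicCompletion I A)

/-- `A → Â` reflects into derived complete objects. -/
theorem bij_η (Z : Dual.D A) (hZ : DRing.IsDerivedComplete I Z) (n : ℤ) :
    Function.Bijective fun g : DerivedCategory.Q.obj ((single₀ A).obj (hatA I)) ⟶ Z⟦n⟧ =>
      DerivedCategory.Q.map ((single₀ A).map (η I)) ≫ g := by
  have hfg : I.FG := IsNoetherian.noetherian _
  obtain ⟨s, hs⟩ := hfg
  let S := HomologicalComplex.single (ModuleCat.{u} A) (ComplexShape.up ℤ) 0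
  let P := CochainComplex.mappingCone (S.map (η I))
  have hflat : ∀ n, Module.Flat A (P.X n) := by
    intro n
    have h : ∀ (M : ModuleCat.{u} A), Module.Flat A M → ∀ k, Module.Flat A ((S.obj M).X k) := by
      intro M hM k
      by_cases hk : k = 0
      · subst hk
        exact Module.Flat.of_linearEquiv
          (HomologicalComplex.singleObjXSelf (ComplexShape.up ℤ) 0 M).toLinearEquiv
      · have := ModuleCat.subsingleton_of_isZero
          (HomologicalComplex.isZero_single_obj_X (ComplexShape.up ℤ) 0 M k hk)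
        infer_instance
    exact (KFlatLib.ringCover A).of_iso
      (HomologicalComplex.homotopyCofiber.XIsoBiprod (S.map (η I)) n (n + 1) rfl).symm
      ((KFlatLib.ringCover A).biprod _ _ (h _ (inferInstanceAs (Module.Flat A A)) _)
        (h _ (inferInstanceAs (Module.Flat A (AdicCompletion I A))) _))
  have hz : ∀ n, 0 < n → IsZero (P.X n) := fun n hn => by
    refine IsZero.of_iso (biprod_isZero_iff _ _ |>.2
      ⟨HomologicalComplex.isZero_single_obj_X _ _ _ _ (by omega),
        HomologicalComplex.isZero_single_obj_X _ _ _ _ (by omega)⟩)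
      (HomologicalComplex.homotopyCofiber.XIsoBiprod (S.map (η I)) n (n + 1) rfl)
  haveI : P.IsStrictlyLE 0 := (CochainComplex.isStrictlyLE_iff _ _).2 hz
  have hK : DRingLTensor.IsKF P :=
    KFlatLib.kFlat_of_isStrictlyLE 0 fun n => KFlatLib.flatObj_ringCover _ (hflat n)
  have hac : ((G P).obj (ModuleCat.of A (A ⧸ I))).Acyclic := by
    let T := tensorRight (ModuleCat.of A (A ⧸ I))
    haveI : IsIso ((T.mapHomologicalComplex (ComplexShape.up ℤ)).map (S.map (η I))) := by
      haveI := isIso_rTensor_η I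
      exact (NatIso.isIso_map_iff (HomologicalComplex.singleMapHomologicalComplex T (ComplexShape.up ℤ) 0)
        (η I)).2 (inferInstanceAs (IsIso ((HomologicalComplex.single (ModuleCat.{u} A) (ComplexShape.up ℤ) 0).map
          (T.map (η I)))))
    have hzero : IsZero (DerivedCategory.Q.obj
        (CochainComplex.mappingCone ((T.mapHomologicalComplex (ComplexShape.up ℤ)).map (S.map (η I))))) :=
      (Triangle.isZero₃_iff_isIso₁ _ (DerivedCategory.mappingCone_triangle_distinguished _)).2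
        (inferInstanceAs (IsIso (DerivedCategory.Q.map ((T.mapHomologicalComplex (ComplexShape.up ℤ)).map (S.map (η I))))))
    intro i
    refine HomologicalComplex.ExactAt.of_iso ?_ (CochainComplex.mappingCone.mapHomologicalComplexIso (S.map (η I)) T).symm
    exact (HomologicalComplex.exactAt_iff_isZero_homology _ i).2
      (((DerivedCategory.homologyFunctor (ModuleCat.{u} A) i).map_isZero hzero).of_iso
        ((DerivedCategory.homologyFunctorFactors (ModuleCat.{u} A) i).app _).symm)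
  have hl : I ≤ Ideal.ofList (s.toList ++ []) := by
    refine le_of_eq (hs.symm.trans (congrArg Ideal.span ?_))
    ext; simp
  let eρ : (G P).obj (𝟙_ (ModuleCat.{u} A)) ≅ P :=
    HomologicalComplex.Hom.isoOfComponents (fun m => ρ_ (P.X m))
      (fun i j _ => (MonoidalCategory.rightUnitor_naturality (P.d i j)).symm)
  have ho : LOrth Z (DerivedCategory.Q.obj P) :=
    lOrth_of_complete I s.toList (fun f hf => hs ▸ Ideal.subset_span (Finset.mem_toList.1 hf))
      (fun X hX => lOrth_iso (DerivedCategory.Q.mapIso eρ)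
        (lOrth_GD I hK hflat hac s.toList [] hl (𝟙_ (ModuleCat.{u} A)) X
          (fun f hf => absurd hf List.not_mem_nil) hX))
      s.toList [] _ (fun f => by simp) hZ (fun f hf => absurd hf List.not_mem_nil)
  have hT := DerivedCategory.mappingCone_triangle_distinguished (S.map (η I))
  exact bij_of_lOrth _ hT ho n

omit [IsNoetherianRing A] in
lemma sq_of_inv {X X' Y Y' : DRing.Cx A} (iM : X ≅ X') (iN : Y ≅ Y') {p : X ⟶ Y} {q : X' ⟶ Y'}
    (h : iM.inv ≫ p = q ≫ iN.inv) : p ≫ iN.hom = iM.hom ≫ q := by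
  rw [← cancel_epi iM.inv, ← assoc, h, assoc, iN.inv_hom_id, comp_id, iM.inv_hom_id_assoc]

omit [IsNoetherianRing A] in
/-- Naturality of `F ⊗ M[0] = F ⊗ M` in `M`. -/
lemma singleIso_natural (F : DRing.Cx A) {M N : ModuleCat.{u} A} (g : M ⟶ N) :
    ((curriedTensor (ModuleCat.{u} A)).map₂CochainComplex.obj F).map ((single₀ A).map g) ≫
        (singleIso (curriedTensor (ModuleCat.{u} A)) N).hom.app F =
      (singleIso (curriedTensor (ModuleCat.{u} A)) M).hom.app F ≫ (G F).map g := by
  refine sq_of_inv ((singleIso (curriedTensor (ModuleCat.{u} A)) M).app F)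
    ((singleIso (curriedTensor (ModuleCat.{u} A)) N).app F) ?_
  ext n : 1
  change singleSummand (T := curriedTensor (ModuleCat.{u} A)) F M 0 n n (add_zero n) ≫
      (HomologicalComplex.mapBifunctorMap (𝟙 F) ((single₀ A).map g) (curriedTensor (ModuleCat.{u} A))
        (ComplexShape.up ℤ)).f n =
    (F.X n ◁ g) ≫ singleSummand (T := curriedTensor (ModuleCat.{u} A)) F N 0 n n (add_zero n)
  simp only [singleSummand, assoc]
  erw [HomologicalComplex.ι_mapBifunctorMap]
  rw [HomologicalComplex.id_f, CategoryTheory.Functor.map_id, NatTrans.id_app, id_comp,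
    ← Functor.map_comp_assoc, HomologicalComplex.single_map_f_self, Iso.inv_hom_id_assoc, Functor.map_comp,
    assoc]
  rfl

/-- `M → M ⊗ Â`. -/
noncomputable def τ : 𝟭 (ModuleCat.{u} A) ⟶ tensorRight (hatA I) where
  app M := (ρ_ M).inv ≫ M ◁ η I
  naturality M N g := by
    change g ≫ (ρ_ N).inv ≫ N ◁ η I = ((ρ_ M).inv ≫ M ◁ η I) ≫ g ▷ hatA I
    rw [assoc, rightUnitor_inv_naturality_assoc, whisker_exchange]

/-- `F → F ⊗ Â`. -/
noncomputable def j (F : DRing.Cx A) : F ⟶ (tensC (hatA I)).obj F :=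
  (NatTrans.mapHomologicalComplex (τ I) (ComplexShape.up ℤ)).app F

/-- `F → F ⊗ Â` reflects into derived complete objects, for K-flat `F`. -/
theorem bij_j {F : DRing.Cx A} (hF : IsKF F) (E : Dual.D A) (hE : DRing.IsDerivedComplete I E) :
    Function.Bijective fun g : DerivedCategory.Q.obj ((tensC (hatA I)).obj F) ⟶ E =>
      DerivedCategory.Q.map (j I F) ≫ g := by
  obtain ⟨J, hJ, -, ⟨eJ⟩⟩ := exists_resolution E
  haveI := hJ
  haveI := hasRHomCx F
  have hH : DRing.IsDerivedComplete I (DerivedCategory.Q.obj (DRing.homCx F J)) := fun f hf n => by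
    have := cg_rhom F f E (hE f hf) n
    exact (Iso.homCongr (Iso.refl _) ((CategoryTheory.shiftFunctor (Dual.D A) n).mapIso
      (isoOfKInjective F J ≪≫ (DRing.RHomCx F).mapIso eJ.symm))).subsingleton
  have hb := bijective_whiskerRight_kFlat ((single₀ A).map (η I)) hF J (fun n => bij_η I _ hH n)
  have hbE : Function.Bijective fun φ : DerivedCategory.Q.obj ((single₀ A).obj (hatA I) ⊗ F) ⟶ E =>
      DerivedCategory.Q.map ((single₀ A).map (η I) ▷ F) ≫ φ := by
    refine ⟨fun x y h => ?_, fun y => ?_⟩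
    · rw [← cancel_mono eJ.hom]
      refine hb.1 ?_
      simp only [← assoc]
      exact congrArg (· ≫ eJ.hom) h
    · obtain ⟨x, hx⟩ := hb.2 (y ≫ eJ.hom)
      refine ⟨x ≫ eJ.inv, ?_⟩
      dsimp only at hx ⊢
      rw [← assoc, hx, assoc, eJ.hom_inv_id, comp_id]
  let sy := symmIso (curriedTensorFlipIso (A := A)) F
  let sI := singleIso (curriedTensor (ModuleCat.{u} A))
  let eρ : (G F).obj (ModuleCat.of A A) ≅ F :=
    HomologicalComplex.Hom.isoOfComponents (fun m => ρ_ (F.X m))
      (fun i k _ => (MonoidalCategory.rightUnitor_naturality (F.d i k)).symm)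
  let i₁ : ((single₀ A).obj (ModuleCat.of A A) ⊗ F) ≅ F :=
    sy.app ((single₀ A).obj (ModuleCat.of A A)) ≪≫ (sI (ModuleCat.of A A)).app F ≪≫ eρ
  let i₂ : ((single₀ A).obj (hatA I) ⊗ F) ≅ (tensC (hatA I)).obj F :=
    sy.app ((single₀ A).obj (hatA I)) ≪≫ (sI (hatA I)).app F
  refine bij_of_sq _ _ (DerivedCategory.Q.mapIso i₁) (DerivedCategory.Q.mapIso i₂) ?_ hbE
  rw [Functor.mapIso_hom, Functor.mapIso_hom, ← Functor.map_comp, ← Functor.map_comp]
  refine congrArg _ ?_
  have h1 : ((single₀ A).map (η I) ▷ F) ≫ sy.hom.app _ = sy.hom.app _ ≫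
      ((curriedTensor (ModuleCat.{u} A)).map₂CochainComplex.obj F).map ((single₀ A).map (η I)) :=
    sy.hom.naturality _
  have h3 : eρ.hom ≫ j I F = (G F).map (η I) := by
    ext m : 1
    exact Iso.hom_inv_id_assoc (ρ_ (F.X m)) _
  change ((single₀ A).map (η I) ▷ F) ≫ sy.hom.app _ ≫ (sI (hatA I)).hom.app F =
    (sy.hom.app _ ≫ (sI (ModuleCat.of A A)).hom.app F ≫ eρ.hom) ≫ j I F
  exact sq_comp h1 (((singleIso_natural F (η I)).trans
    (congrArg (fun t => (sI (ModuleCat.of A A)).hom.app F ≫ t) h3.symm)).trans (assoc _ _ _).symm)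

/-- Homology of `F ⊗ Â`. -/
lemma exists_homology_iso (F : DRing.Cx A) (i : ℤ) [Module.Finite A (F.homology i)] :
    ∃ e : ((tensC (hatA I)).obj F).homology i ≃ₗ[A] AdicCompletion I (F.homology i),
      ∀ v, e ((HomologicalComplex.homologyMap (j I F) i).hom v) = AdicCompletion.of I _ v := by
  haveI : Module.Flat A (hatA I) := AdicCompletion.flat_of_isNoetherian I
  haveI : PreservesFiniteLimits (tensorRight (hatA I)) := inferInstance
  let h : ((tensC (hatA I)).obj F).homology i ≅ (tensorRight (hatA I)).obj (F.homology i) :=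
    (F.sc i).mapHomologyIso (tensorRight (hatA I))
  let θ : F.homology i ≅ F.homology i := (F.sc i).mapHomologyIso (𝟭 (ModuleCat.{u} A))
  have hn : HomologicalComplex.homologyMap (j I F) i ≫ h.hom = θ.hom ≫ (τ I).app (F.homology i) := by
    refine (congrArg (· ≫ h.hom) (ShortComplex.homologyMap_mapNatTrans (F.sc i) (τ I))).trans ?_
    exact (assoc _ _ _).trans (congrArg (fun t => θ.hom ≫ t)
      ((assoc _ _ _).trans ((congrArg (fun t => (τ I).app (F.homology i) ≫ t) h.inv_hom_id).trans (comp_id _))))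
  let e₂ : (tensorRight (hatA I)).obj (F.homology i) ≃ₗ[A] AdicCompletion I (F.homology i) :=
    TensorProduct.comm A (F.homology i) (AdicCompletion I A) ≪≫ₗ
      (LinearEquiv.ofBijective _ (AdicCompletion.ofTensorProduct_bijective_of_finite_of_isNoetherian I
        (F.homology i))).restrictScalars A
  refine ⟨h.toLinearEquiv ≪≫ₗ e₂ ≪≫ₗ (AdicCompletion.congr I θ.toLinearEquiv.symm).restrictScalars A, fun v => ?_⟩
  refine (congrArg (fun t => (AdicCompletion.congr I θ.toLinearEquiv.symm) (e₂ t))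
    (ConcreteCategory.congr_hom hn v)).trans ?_
  change (AdicCompletion.congr I θ.toLinearEquiv.symm)
    (AdicCompletion.ofTensorProduct I (F.homology i) (AdicCompletion.of I A 1 ⊗ₜ[A] θ.hom v)) = _
  rw [AdicCompletion.ofTensorProduct_tmul, show AdicCompletion.of I A 1 = (1 : AdicCompletion I A) from
    AdicCompletion.ext fun _ => rfl, one_smul, AdicCompletion.congr_apply, AdicCompletion.map_of]
  exact congrArg _ (θ.toLinearEquiv.symm_apply_apply v)

/-- The cohomology of the derived completion. -/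
theorem homology_completion [DRing.HasDerivedCompletion I] (K : Dual.D A)
    (hK : ∀ n : ℤ, Module.Finite A (Dual.HD A K n)) (n : ℤ) :
    ∃ e : Dual.HD A ((DRing.derivedCompletion I).obj K).obj n ≃ₗ[A] AdicCompletion I (Dual.HD A K n),
      ∀ x : Dual.HD A K n,
        e (((DerivedCategory.homologyFunctor (ModuleCat.{u} A) n).map (DRing.toDerivedCompletion I K)).hom x) =
          AdicCompletion.of I (Dual.HD A K n) x := by
  have hfg : I.FG := IsNoetherian.noetherian _
  obtain ⟨F, hF, -, ⟨eK⟩⟩ := exists_rep K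
  let H := fun m => DerivedCategory.homologyFunctor (ModuleCat.{u} A) m
  let fc := fun (m : ℤ) (X : DRing.Cx A) =>
    (DerivedCategory.homologyFunctorFactors (ModuleCat.{u} A) m).app X
  let eF : ∀ m, (H m).obj K ≅ F.homology m := fun m => (H m).mapIso eK.symm ≪≫ fc m F
  have hfin : ∀ m, Module.Finite A (F.homology m) := fun m =>
    haveI := hK m
    Module.Finite.equiv (eF m).toLinearEquiv
  let T := (tensC (hatA I)).obj F
  let u' : K ⟶ DerivedCategory.Q.obj T := eK.inv ≫ DerivedCategory.Q.map (j I F)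
  have hu' : Refl (DRing.IsDerivedComplete I) u' := by
    refine ⟨(DRingTel.isDerivedComplete_iff I _).2 fun f hf m => ?_, fun Z hZ m => ?_⟩
    · haveI := hfin m
      obtain ⟨e, -⟩ := exists_homology_iso I F m
      haveI : IsAdicComplete I (AdicCompletion I (F.homology m)) := AdicCompletion.isAdicComplete hfg
      exact (TBMod.tbm_of_isAdicComplete I hf).of_equiv (((fc m T).toLinearEquiv ≪≫ₗ e).symm)
    · exact bij_of_sq (DerivedCategory.Q.map (j I F)) u' eK (Iso.refl _) (by simp [u'])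
        (bij_j I hF _ (DRingCompl.isDerivedComplete_shift hZ m))
  have hu := refl_unit (I := I) K
  let L := ((DRing.derivedCompletion I).obj K).obj
  let z₁ := (shiftFunctorZero (Dual.D A) ℤ).app L
  let z₂ := (shiftFunctorZero (Dual.D A) ℤ).app (DerivedCategory.Q.obj T)
  obtain ⟨a, ha⟩ := (hu.bij _ hu'.mem 0).2 (u' ≫ z₂.inv)
  obtain ⟨b, hb⟩ := (hu'.bij _ hu.mem 0).2 (DRing.toDerivedCompletion I K ≫ z₁.inv)
  dsimp only at ha hb
  let y : L ≅ DerivedCategory.Q.obj T :=
    { hom := a ≫ z₂.hom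
      inv := b ≫ z₁.hom
      hom_inv_id := by
        rw [← cancel_mono z₁.inv]
        refine hu.cancel hu.mem ?_
        simp [reassoc_of% ha, hb]
      inv_hom_id := by
        rw [← cancel_mono z₂.inv]
        refine hu'.cancel hu'.mem ?_
        simp [reassoc_of% hb, ha] }
  have hy : DRing.toDerivedCompletion I K ≫ y.hom = u' := by
    change _ ≫ a ≫ z₂.hom = _
    rw [← assoc, ha, assoc, z₂.inv_hom_id]
    exact comp_id _
  haveI := hfin n
  obtain ⟨e, he⟩ := exists_homology_iso I F n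
  refine ⟨((H n).mapIso y ≪≫ fc n T).toLinearEquiv ≪≫ₗ e ≪≫ₗ
    (AdicCompletion.congr I (eF n).toLinearEquiv.symm).restrictScalars A, fun x => ?_⟩
  have hc : (H n).map (DRing.toDerivedCompletion I K) ≫ (H n).map y.hom ≫ (fc n T).hom =
      (eF n).hom ≫ HomologicalComplex.homologyMap (j I F) n := by
    rw [← Functor.map_comp_assoc, hy, Functor.map_comp, assoc]
    change _ = ((H n).map eK.inv ≫ (fc n F).hom) ≫ _
    rw [assoc]
    exact congrArg _ ((DerivedCategory.homologyFunctorFactors (ModuleCat.{u} A) n).hom.naturality (j I F))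
  refine (congrArg (fun t => (AdicCompletion.congr I (eF n).toLinearEquiv.symm) (e t))
    (ConcreteCategory.congr_hom hc x)).trans ?_
  refine (congrArg (AdicCompletion.congr I (eF n).toLinearEquiv.symm) (he ((eF n).hom x))).trans ?_
  rw [AdicCompletion.congr_apply, AdicCompletion.map_of]
  exact congrArg _ ((eF n).toLinearEquiv.symm_apply_apply x)

end Groth.Agent.H9Misc.DRingAdicCompl
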