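import Groth.Agent.KFlatLib.Ring.CompactPerfect
import Groth.Agent.H9Misc.BrownGroth
import Groth.Agent.H9Misc.DRingPC
import Groth.Agent.TriCat.KInjRes
import Groth.Agent.S0978

/-! Perfect objects of the derived category of a ring are the compact objects. -/

set_option linter.style.haveILetI false

universe t w w₁ w₂ u

open CategoryTheory CategoryTheory.Category CategoryTheory.Limits Pretriangulated ZeroObject

namespace Groth.Agent.H9Misc.DRingCompact

variable {R : Type u} [CommRing R]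

/-- The projection of a coproduct onto a finite partial sum. -/
noncomputable def part {J : Type u} (K : J → DRing.Cx R) (s : Finset J) : ∐ K ⟶ ∐ K :=
  ∑ j ∈ s, KFlatLib.sigmaProj K j ≫ Sigma.ι K j

lemma ι_part {J : Type u} (K : J → DRing.Cx R) {s : Finset J} {j : J} (h : j ∈ s) :
    Sigma.ι K j ≫ part K s = Sigma.ι K j := by
  rw [part, Preadditive.comp_sum, Finset.sum_eq_single j (fun i _ hi => by
    rw [← Category.assoc, KFlatLib.ι_sigmaProj_ne K (Ne.symm hi), zero_comp]) (fun h' => absurd h h'),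
    ← Category.assoc, KFlatLib.ι_sigmaProj_self, id_comp]

/-- Maps from `E` into coproducts of complexes live on finitely many summands, after localizing by `L`. -/
def Fin' {D : Type*} [Category D] (L : DRing.Cx R ⥤ D) (E : DRing.Cx R) : Prop :=
  ∀ (J : Type u) (K : J → DRing.Cx R) (f : L.obj E ⟶ L.obj (∐ K)),
    ∃ s : Finset J, f ≫ L.map (part K s) = f

lemma fin'_transfer {D₁ : Type*} [Category D₁] {D₂ : Type*} [Category D₂] (L₁ : DRing.Cx R ⥤ D₁)
    (L₂ : DRing.Cx R ⥤ D₂)
    [L₁.IsLocalization (HomologicalComplex.quasiIso (ModuleCat.{u} R) (ComplexShape.up ℤ))]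
    [L₂.IsLocalization (HomologicalComplex.quasiIso (ModuleCat.{u} R) (ComplexShape.up ℤ))]
    {E : DRing.Cx R} (h : Fin' L₁ E) : Fin' L₂ E := by
  intro J K f
  let W := HomologicalComplex.quasiIso (ModuleCat.{u} R) (ComplexShape.up ℤ)
  let F := (Localization.uniq L₁ L₂ W).functor
  let e : L₁ ⋙ F ≅ L₂ := Localization.compUniqFunctor L₁ L₂ W
  obtain ⟨g, hg⟩ := F.map_surjective (e.hom.app E ≫ f ≫ e.inv.app (∐ K))
  obtain ⟨s, hs⟩ := h J K g
  refine ⟨s, ?_⟩
  have hf : f = e.inv.app E ≫ F.map g ≫ e.hom.app (∐ K) := by simp [hg]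
  have hn : e.hom.app (∐ K) ≫ L₂.map (part K s) = F.map (L₁.map (part K s)) ≫ e.hom.app (∐ K) :=
    (e.hom.naturality (part K s)).symm
  rw [hf]
  simp only [assoc]
  rw [hn, ← F.map_comp_assoc, hs]

/-- Finite sums of maps through summands extend to bijectivity. -/
lemma bijective_of_finFactor {D : Type*} [Category D] [Preadditive D] (K : D) {ι : Type*} (X : ι → D)
    [HasCoproduct X] (h : ∀ f : K ⟶ ∐ X, TriCat.FinFactor f) :
    Function.Bijective (CohDer.homSumToHomCoprod K X) := by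
  classical
  have hof : ∀ i (a : K ⟶ X i), CohDer.homSumToHomCoprod K X (DirectSum.of _ i a) = a ≫ Sigma.ι X i :=
    fun i a => by simp [CohDer.homSumToHomCoprod, Preadditive.rightComp]
  constructor
  · refine (injective_iff_map_eq_zero _).2 fun x hx => DFinsupp.ext fun j => ?_
    have key : ∀ y, CohDer.homSumToHomCoprod K X y ≫ TriCat.coprodProj X j = y j := fun y => by
      induction y using DirectSum.induction_on with
      | zero => simp
      | of i g =>
        rw [hof, assoc]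
        by_cases hij : i = j
        · subst hij; simp [TriCat.ι_coprodProj_self]
        · rw [TriCat.ι_coprodProj_ne hij, comp_zero, DirectSum.of_eq_of_ne _ _ _ (Ne.symm hij)]
      | add a b ha hb => rw [map_add, Preadditive.add_comp, ha, hb]; rfl
    rw [← key x, hx, zero_comp]
    rfl
  · intro f
    obtain ⟨s, a, rfl⟩ := h f
    exact ⟨∑ i ∈ s, DirectSum.of _ i (a i), by simp [hof]⟩

lemma finFactor_of_bijective {D : Type*} [Category D] [Preadditive D] (K : D) {ι : Type*} (X : ι → D)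
    [HasCoproduct X] (h : Function.Bijective (CohDer.homSumToHomCoprod K X)) (f : K ⟶ ∐ X) :
    TriCat.FinFactor f := by
  classical
  obtain ⟨x, rfl⟩ := h.2 f
  induction x using DirectSum.induction_on with
  | zero => rw [map_zero]; exact TriCat.FinFactor.zero
  | of i a =>
    simp only [CohDer.homSumToHomCoprod, DirectSum.toAddMonoid_of, Preadditive.rightComp,
      AddMonoidHom.mk'_apply]
    exact TriCat.FinFactor.postcomp_ι i a
  | add x y hx hy => rw [map_add]; exact hx.add hy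

section AnyUniverse

variable [HasDerivedCategory.{w} (ModuleCat.{u} R)]

lemma exists_coprod_iso {J : Type u} {ι : Type t} (e : J ≃ ι)
    (X : ι → DerivedCategory (ModuleCat.{u} R)) [HasCoproduct X] :
    ∃ (K : J → DRing.Cx R) (a : ∀ j, DerivedCategory.Q.obj (K j) ≅ X (e j))
      (c : DerivedCategory.Q.obj (∐ K) ≅ ∐ X),
      ∀ j, DerivedCategory.Q.map (Sigma.ι K j) ≫ c.hom = (a j).hom ≫ Sigma.ι X (e j) := by
  let Q := DerivedCategory.Q (C := ModuleCat.{u} R)
  have := Localization.essSurj Q (HomologicalComplex.quasiIso _ (ComplexShape.up ℤ))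
  let K := fun j => Q.objPreimage (X (e j))
  let a := fun j => Q.objObjPreimageIso (X (e j))
  have := BrownGroth.preservesColimit_Q K
  haveI : HasCoproduct (fun j => Q.obj (K j)) := ⟨⟨_,
    (Cofan.isColimitMapCoconeEquiv Q _ _) (isColimitOfPreserves Q (coproductIsCoproduct K))⟩⟩
  let c := PreservesCoproduct.iso Q K ≪≫ Sigma.whiskerEquiv (g := X) e (fun j => (a j).symm)
  refine ⟨K, a, c, fun j => ?_⟩
  have h1 : Q.map (Sigma.ι K j) ≫ (PreservesCoproduct.iso Q K).hom = Sigma.ι (fun m => Q.obj (K m)) j := by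
    rw [← Iso.eq_comp_inv, PreservesCoproduct.inv_hom, ι_comp_sigmaComparison]
  show Q.map (Sigma.ι K j) ≫ c.hom = _
  simp only [c, Iso.trans_hom, reassoc_of% h1]
  simp

lemma finFactor_of_fin' {E : DRing.Cx R} (h : Fin' DerivedCategory.Q E) {J : Type u} {ι : Type t}
    (e : J ≃ ι) (X : ι → DerivedCategory (ModuleCat.{u} R)) [HasCoproduct X]
    {M : DerivedCategory (ModuleCat.{u} R)} (eM : DerivedCategory.Q.obj E ≅ M) (f : M ⟶ ∐ X) :
    TriCat.FinFactor f := by
  classical
  obtain ⟨K, a, c, hc⟩ := exists_coprod_iso e X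
  obtain ⟨s, hs⟩ := h J K (eM.hom ≫ f ≫ c.inv)
  let b : ∀ i, M ⟶ X i := fun i => (eM.inv ≫ (eM.hom ≫ f ≫ c.inv) ≫
    DerivedCategory.Q.map (KFlatLib.sigmaProj K (e.symm i)) ≫ (a (e.symm i)).hom) ≫
      eqToHom (by rw [e.apply_symm_apply])
  refine ⟨s.map e.toEmbedding, b, ?_⟩
  rw [Finset.sum_map, ← cancel_epi eM.hom]
  have h1 : eM.hom ≫ f = ((eM.hom ≫ f ≫ c.inv) ≫ DerivedCategory.Q.map (part K s)) ≫ c.hom := by
    rw [hs]; simp
  rw [h1, part, Functor.map_sum, Preadditive.comp_sum, Preadditive.sum_comp, Preadditive.comp_sum]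
  refine Finset.sum_congr rfl fun j _ => ?_
  rw [Functor.map_comp]
  simp only [assoc, hc, b, Iso.hom_inv_id_assoc]
  congr 3
  have key : ∀ (i : J) (hi : e i = e j), (i = j) → DerivedCategory.Q.map (KFlatLib.sigmaProj K i) ≫
      (a i).hom ≫ eqToHom (congrArg X hi) ≫ Sigma.ι X (e j) =
      DerivedCategory.Q.map (KFlatLib.sigmaProj K j) ≫ (a j).hom ≫ Sigma.ι X (e j) := by
    rintro i hi rfl; simp
  exact (key (e.symm (e j)) (e.apply_symm_apply _) (e.symm_apply_apply j)).symm

lemma fin'_of_finFactor {E : DRing.Cx R} {M : DerivedCategory (ModuleCat.{u} R)}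
    (eM : DerivedCategory.Q.obj E ≅ M)
    (h : ∀ (J : Type u) (X : ULift.{t} J → DerivedCategory (ModuleCat.{u} R)) [HasCoproduct X]
      (f : M ⟶ ∐ X), TriCat.FinFactor f) : Fin' DerivedCategory.Q E := by
  classical
  intro J K f
  let Q := DerivedCategory.Q (C := ModuleCat.{u} R)
  haveI := BrownGroth.preservesColimit_Q K
  haveI : HasCoproduct (fun j => Q.obj (K j)) := ⟨⟨_,
    (Cofan.isColimitMapCoconeEquiv Q _ _) (isColimitOfPreserves Q (coproductIsCoproduct K))⟩⟩
  let X : ULift.{t} J → DerivedCategory (ModuleCat.{u} R) := fun i => Q.obj (K i.down)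
  haveI : HasCoproduct X := by
    haveI : HasColimit (Discrete.functor fun j => Q.obj (K j)) := inferInstance
    exact hasColimit_of_iso (F := (Discrete.equivalence Equiv.ulift).functor ⋙ Discrete.functor fun j => Q.obj (K j))
      (Discrete.natIso fun _ => Iso.refl _)
  let d : (∐ X) ⟶ Q.obj (∐ K) := Sigma.desc fun i => Q.map (Sigma.ι K i.down)
  let d' : Q.obj (∐ K) ⟶ ∐ X := (PreservesCoproduct.iso Q K).hom ≫ Sigma.desc fun j => Sigma.ι X ⟨j⟩
  have hdd : d' ≫ d = 𝟙 _ := by
    rw [← cancel_epi (PreservesCoproduct.iso Q K).inv]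
    refine Sigma.hom_ext _ _ fun j => ?_
    have h1 : (PreservesCoproduct.iso Q K).inv ≫ d' = Sigma.desc fun j => Sigma.ι X ⟨j⟩ := by
      simp only [d']
      exact Iso.inv_hom_id_assoc _ _
    rw [reassoc_of% h1, comp_id, PreservesCoproduct.inv_hom, ι_comp_sigmaComparison,
      Sigma.ι_desc_assoc]
    exact Sigma.ι_desc (fun i : ULift.{t} J => Q.map (Sigma.ι K i.down)) ⟨j⟩
  obtain ⟨s, a, ha⟩ := h J X (eM.inv ≫ f ≫ d')
  refine ⟨s.map Equiv.ulift.toEmbedding, ?_⟩
  have hf : f = eM.hom ≫ (∑ i ∈ s, a i ≫ Q.map (Sigma.ι K i.down)) := by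
    have h2 : (eM.inv ≫ f ≫ d') ≫ d = eM.inv ≫ f :=
      (assoc _ _ _).trans (congrArg (eM.inv ≫ ·) ((assoc _ _ _).trans ((congrArg (f ≫ ·) hdd).trans (comp_id f))))
    rw [← Iso.inv_comp_eq, ← h2, ha, Preadditive.sum_comp]
    refine Finset.sum_congr rfl fun i _ => ?_
    exact (assoc _ _ _).trans (congrArg (a i ≫ ·) (Sigma.ι_desc (fun i : ULift.{t} J => Q.map (Sigma.ι K i.down)) i))
  rw [hf, assoc, Preadditive.sum_comp]
  refine congrArg _ (Finset.sum_congr rfl fun i hi => ?_)
  rw [assoc, ← Functor.map_comp, ι_part K (j := i.down) (Finset.mem_map.2 ⟨i, hi, rfl⟩)]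

end AnyUniverse

section Standard

attribute [local instance] HasDerivedCategory.standard

lemma fin'_of_isPerfect {E : DRing.Cx R} (hE : DRing.IsPerfect R (DRing.toD E)) :
    Fin' DerivedCategory.Q E := by
  classical
  intro J K f
  obtain ⟨s, a, ha⟩ := KFlatLib.finF_of_isPerfect hE J K f
  refine ⟨s, ?_⟩
  rw [ha, Preadditive.sum_comp]
  refine Finset.sum_congr rfl fun j hj => ?_
  rw [assoc, ← Functor.map_comp, ι_part K hj]

lemma isPerfect_gen_zero : DRing.IsPerfect R (DRing.toD (BrownGroth.gen R 0)) := by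
  refine ⟨BrownGroth.gen R 0, 0, 0, fun i hi => HomologicalComplex.isZero_single_obj_X _ 0 _ i (by omega),
    fun i => ?_, ⟨Iso.refl _⟩⟩
  by_cases h : i = 0
  · subst h
    let e : (BrownGroth.gen R 0).X 0 ≃ₗ[R] R := (HomologicalComplex.singleObjXSelf _ (0 : ℤ) _).toLinearEquiv
    exact ⟨Module.Finite.equiv e.symm, Module.Projective.of_equiv e.symm⟩
  · haveI := ModuleCat.subsingleton_of_isZero
      (HomologicalComplex.isZero_single_obj_X (ComplexShape.up ℤ) (0 : ℤ) (ModuleCat.of R R) i h)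
    exact ⟨inferInstance, inferInstance⟩

lemma isPerfect_retract {K K' : Dual.D R} (r : Retract K K') (h : DRing.IsPerfect R K') :
    DRing.IsPerfect R K := by
  obtain ⟨C, p, q, hT⟩ := Pretriangulated.distinguished_cocone_triangle r.i
  have hq : q = 0 := by
    haveI : Mono r.i := mono_of_mono_fac r.retract
    have h' : q ≫ r.i⟦(1 : ℤ)⟧' = 0 := comp_distTriang_mor_zero₃₁ _ hT
    have : IsSplitMono (r.i⟦(1 : ℤ)⟧') := ⟨⟨⟨r.r⟦(1 : ℤ)⟧', by
      rw [← Functor.map_comp, r.retract, CategoryTheory.Functor.map_id]⟩⟩⟩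
    exact (cancel_mono (r.i⟦(1 : ℤ)⟧')).1 (by rw [h', zero_comp])
  obtain ⟨e, -, -⟩ := exists_iso_binaryBiproduct_of_distTriang _ hT hq
  exact (DRingPC.isPerfect_summand (DRingPC.isPerfect_of_iso e h)).1

end Standard

/-- Objects of a derived category represented by perfect complexes. -/
def perfP [HasDerivedCategory.{w} (ModuleCat.{u} R)] :
    ObjectProperty (DerivedCategory (ModuleCat.{u} R)) :=
  fun X => ∃ E : DRing.Cx R,
    @DRing.IsPerfect R _ (@DRing.toD R _ E) ∧ Nonempty (DerivedCategory.Q.obj E ≅ X)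

section Small

variable [HD : HasDerivedCategory.{w} (ModuleCat.{u} R)]

instance : (perfP (R := R)).IsClosedUnderIsomorphisms where
  of_iso e := fun ⟨E, hE, ⟨a⟩⟩ => ⟨E, hE, ⟨a ≪≫ e⟩⟩

instance : (perfP (R := R)).IsStableUnderShift ℤ where
  isStableUnderShiftBy n := ⟨fun X ⟨E, hE, ⟨a⟩⟩ => ⟨E⟦n⟧, by
    letI := HasDerivedCategory.standard (ModuleCat.{u} R)
    exact DRingPC.isPerfect_of_iso ((DerivedCategory.Q.commShiftIso n).app E).symm
      (DRingPC.isPerfect_shift hE n), ⟨(DerivedCategory.Q.commShiftIso n).app E ≪≫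
      (shiftFunctor (DerivedCategory (ModuleCat.{u} R)) n).mapIso a⟩⟩⟩

lemma perfect_of_quasiIso {Z E : DRing.Cx R} (s : Z ⟶ E) [IsIso (DerivedCategory.Q.map s)]
    (h : @DRing.IsPerfect R _ (@DRing.toD R _ E)) : @DRing.IsPerfect R _ (@DRing.toD R _ Z) := by
  have hs : QuasiIso s := (DerivedCategory.isIso_Q_map_iff_quasiIso (φ := s)).1 inferInstance
  letI := HasDerivedCategory.standard (ModuleCat.{u} R)
  haveI : IsIso (DerivedCategory.Q.map s) := (DerivedCategory.isIso_Q_map_iff_quasiIso (φ := s)).2 hs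
  exact DRingPC.isPerfect_of_iso (asIso (DerivedCategory.Q.map s)).symm h

lemma perfect_cone {Z E : DRing.Cx R} (φ : Z ⟶ E) (hZ : @DRing.IsPerfect R _ (@DRing.toD R _ Z))
    (hE : @DRing.IsPerfect R _ (@DRing.toD R _ E)) :
    @DRing.IsPerfect R _ (@DRing.toD R _ (CochainComplex.mappingCone φ)) := by
  letI := HasDerivedCategory.standard (ModuleCat.{u} R)
  exact DRingPC.isPerfect₃ _ (DerivedCategory.mappingCone_triangle_distinguished φ) hZ hE

instance : (perfP (R := R)).IsTriangulatedClosed₃ where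
  ext₃' T hT := by
    rintro ⟨E₁, h₁, ⟨a₁⟩⟩ ⟨E₂, h₂, ⟨a₂⟩⟩
    obtain ⟨Z, s, hs, φ, hφ⟩ := DerivedCategory.right_fac (a₁.hom ≫ T.mor₁ ≫ a₂.inv)
    have := hs
    refine ObjectProperty.le_isoClosure _ _ ⟨CochainComplex.mappingCone φ,
      perfect_cone φ (perfect_of_quasiIso s h₁) h₂, ?_⟩
    refine ⟨Triangle.π₃.mapIso (isoTriangleOfIso₁₂ _ T
      (DerivedCategory.mappingCone_triangle_distinguished φ) hT
      (@asIso _ _ _ _ (DerivedCategory.Q.map s) hs ≪≫ a₁) a₂ ?_)⟩
    show DerivedCategory.Q.map φ ≫ a₂.hom = (DerivedCategory.Q.map s ≫ a₁.hom) ≫ T.mor₁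
    have h := congrArg (fun g => DerivedCategory.Q.map s ≫ g ≫ a₂.hom) hφ
    simp only [assoc, Iso.inv_hom_id, comp_id, IsIso.hom_inv_id_assoc] at h
    rw [assoc, ← h]

instance : (perfP (R := R)).IsStableUnderRetracts where
  of_retract := by
    rintro X Y r ⟨E, hE, ⟨a⟩⟩
    have := Localization.essSurj (DerivedCategory.Q (C := ModuleCat.{u} R))
      (HomologicalComplex.quasiIso _ (ComplexShape.up ℤ))
    let F₀ := DerivedCategory.Q.objPreimage X
    let b : DerivedCategory.Q.obj F₀ ≅ X := DerivedCategory.Q.objObjPreimageIso X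
    refine ⟨F₀, ?_, ⟨b⟩⟩
    let W := HomologicalComplex.quasiIso (ModuleCat.{u} R) (ComplexShape.up ℤ)
    let L₁ : DRing.Cx R ⥤ Dual.D R := @DerivedCategory.Q _ _ _ (HasDerivedCategory.standard _)
    let L₂ : DRing.Cx R ⥤ DerivedCategory (ModuleCat.{u} R) := DerivedCategory.Q
    haveI : L₁.IsLocalization W := @DerivedCategory.instIsLocalizationCochainComplexIntQQuasiIsoUp _ _ _ (HasDerivedCategory.standard _)
    haveI : L₂.IsLocalization W := inferInstance
    let F := (Localization.uniq L₁ L₂ W).functor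
    let e : L₁ ⋙ F ≅ L₂ := Localization.compUniqFunctor L₁ L₂ W
    obtain ⟨i, hi⟩ := F.map_surjective (e.hom.app F₀ ≫ b.hom ≫ r.i ≫ a.inv ≫ e.inv.app E)
    obtain ⟨p, hp⟩ := F.map_surjective (e.hom.app E ≫ a.hom ≫ r.r ≫ b.inv ≫ e.inv.app F₀)
    refine isPerfect_retract ⟨i, p, F.map_injective ?_⟩ hE
    rw [F.map_comp, hi, hp, F.map_id]
    simp
    rfl

lemma perfP_isTriangulated : (perfP (R := R)).IsTriangulated := by
  letI := HD
  have : (perfP (R := R)).IsTriangulatedClosed₂ := ObjectProperty.IsTriangulatedClosed₂.of_isTriangulatedClosed₃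
  have : (perfP (R := R)).ContainsZero := by
    refine ⟨⟨DerivedCategory.Q.obj 0, Functor.map_isZero _ (isZero_zero _), 0, ?_, ⟨Iso.refl _⟩⟩⟩
    exact DRingPC.isPerfect_of_isZero (@Functor.map_isZero _ _ _ _ _ _
      (@DerivedCategory.Q _ _ _ (HasDerivedCategory.standard _)) _ _ (isZero_zero _))
  exact { }

end Small

theorem exists_perfect_of_compact_small [HasDerivedCategory.{u} (ModuleCat.{u} R)]
    (E : DRing.Cx R) (hE : Fin' DerivedCategory.Q E)
    (hU : Fin' DerivedCategory.Q (BrownGroth.gen R 0)) :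
    perfP (DerivedCategory.Q.obj E) := by
  haveI : HasCoproducts.{u} (DerivedCategory (ModuleCat.{u} R)) := fun J =>
    TriCat.hasColimitsOfShape_derivedCategory
  haveI : HasColimitsOfShape (Discrete ℕ) (DerivedCategory (ModuleCat.{u} R)) :=
    hasColimitsOfShape_of_equivalence (Discrete.equivalence (Equiv.ulift.{u, 0} (α := ℕ)))
  let U : DerivedCategory (ModuleCat.{u} R) := DerivedCategory.Q.obj (BrownGroth.gen R 0)
  have hcU : CohDer.IsCompactObject U :=
    (TriCat.isCompactObject_iff U).2 fun ι X f => finFactor_of_fin' hU (Equiv.refl ι) X (Iso.refl _) f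
  have hcE : CohDer.IsCompactObject (DerivedCategory.Q.obj E) :=
    (TriCat.isCompactObject_iff _).2 fun ι X f => finFactor_of_fin' hE (Equiv.refl ι) X (Iso.refl _) f
  have hgen : CohDer.Generates (fun _ : Unit => U) := by
    intro X hX
    by_contra hne
    obtain ⟨⟨n⟩, f, hf⟩ := BrownGroth.detects R X hne
    apply hf
    let e : (DerivedCategory.Q.obj (BrownGroth.gen R n))⟦n⟧ ≅ U :=
      ((DerivedCategory.singleFunctors (ModuleCat.{u} R)).shiftIso n 0 n (add_zero n)).app (ModuleCat.of R R)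
    have h0 := hX () n (e.inv ≫ f⟦n⟧')
    have h0' : f⟦n⟧' = 0 := (cancel_epi e.inv).1 (h0.trans comp_zero.symm)
    exact (shiftFunctor _ n).map_injective (h0'.trans (Functor.map_zero _ _ _).symm)
  have henv := (((S0978.result U hcU).1 hgen).2 _ hcE)
  haveI := perfP_isTriangulated (R := R)
  exact (ObjectProperty.triangEnvelope_le_iff (fun Y => Y = U) (Q := perfP (R := R))).2
    (fun Y hY => ⟨BrownGroth.gen R 0, isPerfect_gen_zero, ⟨eqToIso hY.symm⟩⟩) _ henv

section Main

attribute [local instance] HasDerivedCategory.standard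

theorem isPerfect_iff_compact (K : Dual.D R) :
    DRing.IsPerfect R K ↔
      ∀ (I : Type u) (E : I → Dual.D R) [HasCoproduct fun i : ULift.{u + 1} I => E i.down],
        Function.Bijective (CohDer.homSumToHomCoprod K (fun i : ULift.{u + 1} I => E i.down)) := by
  constructor
  · intro hK I E _
    obtain ⟨F₀, a, b, hz, hF, ⟨e⟩⟩ := hK
    refine bijective_of_finFactor K _ fun f => finFactor_of_fin'
      (fin'_of_isPerfect (E := F₀) ⟨F₀, a, b, hz, hF, ⟨Iso.refl _⟩⟩) Equiv.ulift.symm _ e f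
  · intro h
    haveI := Localization.essSurj (DerivedCategory.Q (C := ModuleCat.{u} R))
      (HomologicalComplex.quasiIso _ (ComplexShape.up ℤ))
    let E₀ := DerivedCategory.Q.objPreimage K
    let e : DerivedCategory.Q.obj E₀ ≅ K := DerivedCategory.Q.objObjPreimageIso K
    have hE₀ : Fin' DerivedCategory.Q E₀ := fin'_of_finFactor.{u + 1} e fun J X _ f => by
      haveI : HasCoproduct fun i : ULift.{u + 1} J => X ⟨i.down⟩ := inferInstanceAs (HasCoproduct X)
      exact finFactor_of_bijective K _ (h J fun j => X ⟨j⟩) f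
    let H' : HasDerivedCategory.{u} (ModuleCat.{u} R) := BrownGroth.smallDerived (ModuleCat.{u} R)
      fun C => by
        obtain ⟨I, g, h₁, h₂, -⟩ := TriCat.exists_kInjective_resolution' C
        exact ⟨I, g, h₁, h₂⟩
    let L₁ : DRing.Cx R ⥤ Dual.D R := @DerivedCategory.Q (ModuleCat.{u} R) _ _ (HasDerivedCategory.standard _)
    let L₂ : DRing.Cx R ⥤ @DerivedCategory _ _ _ H' := @DerivedCategory.Q _ _ _ H'
    let W := HomologicalComplex.quasiIso (ModuleCat.{u} R) (ComplexShape.up ℤ)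
    haveI : L₂.IsLocalization W := @DerivedCategory.instIsLocalizationCochainComplexIntQQuasiIsoUp _ _ _ H'
    haveI : L₁.IsLocalization W := @DerivedCategory.instIsLocalizationCochainComplexIntQQuasiIsoUp _ _ _ (HasDerivedCategory.standard _)
    obtain ⟨E', hE', ⟨iso⟩⟩ := @exists_perfect_of_compact_small R _ H' E₀
      (fin'_transfer L₁ L₂ hE₀) (fin'_transfer L₁ L₂ (fin'_of_isPerfect isPerfect_gen_zero))
    let G := (Localization.uniq L₂ L₁ W).functor
    let eG : L₂ ⋙ G ≅ L₁ := Localization.compUniqFunctor L₂ L₁ W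
    exact DRingPC.isPerfect_of_iso ((eG.app E').symm ≪≫ G.mapIso iso ≪≫ eG.app E₀ ≪≫ e) hE'

end Main

end Groth.Agent.H9Misc.DRingCompact
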