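import Groth.Prelude.Def_DDual2
import Groth.Agent.H9Misc.DRingTel

/-! Derived completeness and restriction of scalars. -/

universe u

open CategoryTheory CategoryTheory.Limits

attribute [local instance] HasDerivedCategory.standard

namespace Groth.Agent.H9Misc.DRingTel

variable {A B : Type u} [CommRing A] [CommRing B] (φ : A →+* B)

lemma tbm_restrict_iff (f : A) (L : Dual.D B) (i : ℤ) :
    TBMod.TBm (Dual.HD A ((DRing.restrictD φ).obj L) i) f ↔ TBMod.TBm (Dual.HD B L i) (φ f) := by
  let F := ModuleCat.restrictScalars.{u} φ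
  have := Localization.essSurj (DerivedCategory.Q (C := ModuleCat.{u} B)) (HomologicalComplex.quasiIso _ (ComplexShape.up ℤ))
  obtain ⟨K, ⟨e⟩⟩ : ∃ K, Nonempty (DerivedCategory.Q.obj K ≅ L) := ⟨_, ⟨DerivedCategory.Q.objObjPreimageIso L⟩⟩
  let H := DerivedCategory.homologyFunctor (ModuleCat.{u} A) i
  let t : H.obj ((DRing.restrictD φ).obj L) ≅ F.obj ((DerivedCategory.homologyFunctor (ModuleCat.{u} B) i).obj L) :=
    H.mapIso ((DRing.restrictD φ).mapIso e.symm ≪≫ F.mapDerivedCategoryFactors.app K) ≪≫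
      (DerivedCategory.homologyFunctorFactors (ModuleCat.{u} A) i).app _ ≪≫
      (K.sc i).mapHomologyIso F ≪≫
      F.mapIso (((DerivedCategory.homologyFunctorFactors (ModuleCat.{u} B) i).app K).symm ≪≫
        (DerivedCategory.homologyFunctor (ModuleCat.{u} B) i).mapIso e)
  let a : Dual.HD A ((DRing.restrictD φ).obj L) i ≃+ Dual.HD B L i := t.toLinearEquiv.toAddEquiv
  have ha : ∀ x, a (f • x) = φ f • a x := fun x => t.toLinearEquiv.map_smul f x
  exact ⟨TelBij.tb_of_injective_surjective a ha, TelBij.tb_of_injective_surjective a.symm fun y => by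
    rw [← a.apply_eq_iff_eq, TBMod.mulBy_apply, TBMod.mulBy_apply, ha, a.apply_symm_apply, a.apply_symm_apply]⟩

/-- Derived completeness is insensitive to restriction of scalars. -/
theorem isDerivedComplete_map_iff (I : Ideal A) (L : Dual.D B) :
    DRing.IsDerivedComplete (I.map φ) L ↔ DRing.IsDerivedComplete I ((DRing.restrictD φ).obj L) := by
  rw [isDerivedComplete_iff, isDerivedComplete_iff]
  refine ⟨fun h f hf i => (tbm_restrict_iff φ f L i).2 (h _ (Ideal.mem_map_of_mem φ hf) i), fun h g hg i => ?_⟩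
  have hle : I.map φ ≤ TBMod.tbIdeal (Dual.HD B L i) :=
    Ideal.map_le_iff_le_comap.2 fun f hf => (tbm_restrict_iff φ f L i).1 (h f hf i)
  exact hle hg

end Groth.Agent.H9Misc.DRingTel
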