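import Groth.Agent.TriCat.KInjRes
import Mathlib.Algebra.Homology.HomotopyCategory.DegreewiseSplit
import Mathlib.Algebra.Homology.DerivedCategory.KInjective
import Mathlib.Algebra.Homology.DerivedCategory.ShortExact
import Mathlib.CategoryTheory.Adjunction.Unique

/-! In the derived category of a Grothendieck abelian category, the right orthogonal of a small
family of objects is reflective. -/

universe w w' v u

open CategoryTheory Category Limits ZeroObject MorphismProperty DerivedCategory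
open CochainComplex.HomComplex

namespace Groth.Agent.H9Misc.OrthLocal

variable {A : Type u} [Category.{v} A] [Abelian A] [HasDerivedCategory.{w'} A]
  {ι : Type w} (G : ι → CochainComplex A ℤ)

/-- Objects receiving no non-zero map from any shift of the family. -/
def Orth : ObjectProperty (DerivedCategory A) := fun K =>
  ∀ (i : ι) (n : ℤ), Subsingleton (Q.obj (G i) ⟶ K⟦n⟧)

lemma orth_shift {K : DerivedCategory A} (hK : Orth G K) (a : ℤ) : Orth G (K⟦a⟧) := fun i n => by
  have := hK i (a + n)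
  exact ((shiftFunctorAdd' (DerivedCategory A) a n (a + n) rfl).app K).homToEquiv.symm.subsingleton

lemma orth_of_iso {K L : DerivedCategory A} (e : K ≅ L) (hK : Orth G K) : Orth G L := fun i n => by
  have := hK i n
  exact ((shiftFunctor (DerivedCategory A) n).mapIso e).homToEquiv.symm.subsingleton

lemma subsingleton_hom (i : ι) (n : ℤ) {K : DerivedCategory A} (hK : Orth G K) :
    Subsingleton ((Q.obj (G i))⟦n⟧ ⟶ K) := by
  have : Subsingleton (Q.obj (G i) ⟶ (shiftEquiv (DerivedCategory A) n).inverse.obj K) := hK i (-n)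
  exact ((shiftEquiv (DerivedCategory A) n).toAdjunction.homEquiv _ _).subsingleton

/-- Representatives of orthogonal objects used for lifting. -/
structure Nice (M : CochainComplex A ℤ) : Prop where
  inj : ∀ n, Injective (M.X n)
  kinj : M.IsKInjective
  orth : Orth G (Q.obj M)

variable {G}

lemma Nice.shift {M : CochainComplex A ℤ} (hM : Nice G M) (a : ℤ) : Nice G (M⟦a⟧) :=
  ⟨fun n => hM.inj (n + a), have := hM.kinj; inferInstance,
    orth_of_iso G ((Q.commShiftIso a).app M).symm (orth_shift G hM.orth a)⟩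

/-- A monomorphism whose cokernel is invisible to orthogonal objects. -/
def Negl (G : ι → CochainComplex A ℤ) {X Y : CochainComplex A ℤ} (f : X ⟶ Y) : Prop :=
  Mono f ∧ ∀ K : DerivedCategory A, Orth G K → Subsingleton (Q.obj (cokernel f) ⟶ K)

lemma null_of_subsingleton {X M : CochainComplex A ℤ} (hM : M.IsKInjective)
    (h : Subsingleton (Q.obj X ⟶ Q.obj M)) (φ : X ⟶ M) : Nonempty (Homotopy φ 0) := by
  refine ⟨HomotopyCategory.homotopyOfEq _ _ ((CochainComplex.IsKInjective.Qh_map_bijective _ M).1 ?_)⟩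
  have := h
  exact (((quotientCompQhIso A).app X).homCongr ((quotientCompQhIso A).app M)).injective
    (Subsingleton.elim _ _)

lemma exists_desc_of_null {X M : CochainComplex A ℤ} (φ : X ⟶ M) (h : Nonempty (Homotopy φ 0)) :
    ∃ ψ : TriCat.coneId X ⟶ M, CochainComplex.mappingCone.inr (𝟙 X) ≫ ψ = φ := by
  obtain ⟨h⟩ := h
  obtain ⟨z, hz⟩ := Cochain.equivHomotopy _ _ h
  exact ⟨CochainComplex.mappingCone.desc (𝟙 X) z φ (by simpa using hz.symm), CochainComplex.mappingCone.inr_desc _ _ _ _⟩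

/-- Nice complexes have the extension property along negligible maps. -/
lemma extend {M X Y : CochainComplex A ℤ} (hM : Nice G M) {f : X ⟶ Y} (hf : Negl G f)
    (γ : X ⟶ M) : ∃ β : Y ⟶ M, f ≫ β = γ := by
  have := hf.1
  have := hM.inj
  exact TriCat.exists_extension_of_null f (Iso.refl _)
    (fun φ => null_of_subsingleton (hM.shift 1).kinj (hf.2 _ (hM.shift 1).orth) φ) γ

/-- The projection from the cone of the identity has the lifting property for negligible maps. -/
lemma lift_mor₃ {N X Y : CochainComplex A ℤ} (hN : Nice G N) {f : X ⟶ Y} (hf : Negl G f) :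
    HasLiftingProperty f (CochainComplex.mappingCone.triangle (𝟙 N)).mor₃ := by
  refine ⟨fun {a b} sq => ?_⟩
  have := hf.1
  have := hN.inj
  let S := CochainComplex.mappingCone.triangleRotateShortComplex (𝟙 N)
  let σ := CochainComplex.mappingCone.triangleRotateShortComplexSplitting (𝟙 N)
  have hse : S.ShortExact := HomologicalComplex.shortExact_of_degreewise_shortExact _
    fun n => (σ n).shortExact
  let a' : X ⟶ S.X₂ := a
  let b' : Y ⟶ S.X₃ := b
  have w : a' ≫ S.g = f ≫ b' := sq.w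
  have hN' : ∀ φ : cokernel f ⟶ N⟦(1 : ℤ)⟧, Nonempty (Homotopy φ 0) :=
    fun φ => null_of_subsingleton (hN.shift 1).kinj (hf.2 _ (hN.shift 1).orth) φ
  have hsq : ∀ n, (sq.map (HomologicalComplex.eval _ _ n)).LiftStruct := fun n => by
    have wn : a'.f n ≫ S.g.f n = f.f n ≫ b'.f n := congr($(w).f n)
    let r : S.X₂.X n ⟶ S.X₁.X n := (σ n).r
    let s : S.X₃.X n ⟶ S.X₂.X n := (σ n).s
    have hid : r ≫ S.f.f n + S.g.f n ≫ s = 𝟙 _ := (σ n).id
    have hfg : S.f.f n ≫ S.g.f n = 0 := congr($(S.zero).f n)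
    have hsg : s ≫ S.g.f n = 𝟙 _ := (σ n).s_g
    have : Injective (S.X₁.X n) := hN.inj n
    exact
      { l := b'.f n ≫ s + Injective.factorThru (a'.f n ≫ r) (f.f n) ≫ S.f.f n
        fac_left := by
          show f.f n ≫ _ = a'.f n
          have h1 : f.f n ≫ Injective.factorThru (a'.f n ≫ r) (f.f n) = a'.f n ≫ r :=
            Injective.comp_factorThru _ _
          calc f.f n ≫ (b'.f n ≫ s + Injective.factorThru (a'.f n ≫ r) (f.f n) ≫ S.f.f n)
              = (f.f n ≫ b'.f n) ≫ s + (f.f n ≫ Injective.factorThru (a'.f n ≫ r) (f.f n)) ≫ S.f.f n := by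
                rw [Preadditive.comp_add]
                exact congrArg₂ (· + ·) (assoc _ _ _).symm (assoc _ _ _).symm
            _ = (a'.f n ≫ S.g.f n) ≫ s + (a'.f n ≫ r) ≫ S.f.f n := by rw [h1, wn]
            _ = a'.f n ≫ (r ≫ S.f.f n + S.g.f n ≫ s) := by
                rw [Preadditive.comp_add, assoc, assoc, add_comm]
            _ = a'.f n := by rw [hid]; exact comp_id _
        fac_right := by
          show _ ≫ S.g.f n = b'.f n
          rw [Preadditive.add_comp, assoc, assoc, hfg, hsg, comp_zero, add_zero]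
          exact comp_id _ }
  obtain ⟨z, hz⟩ := TriCat.exists_δ_eq_of_null
    (CochainComplex.Lifting.cocycle₁ sq hsq (hπ := cokernel.condition f) (cokernelIsCokernel f)
      (hι := S.zero) hse.fIsKernel) hN' 0 (by simp)
  exact CochainComplex.Lifting.hasLift sq hsq (hπ := cokernel.condition f) (cokernelIsCokernel f)
    (hι := S.zero) hse.fIsKernel z hz

lemma isZero_Q_obj {X : CochainComplex A ℤ} (h : X.Acyclic) : IsZero (Q.obj X) := by
  have : IsIso (Q.map (0 : X ⟶ 0)) := by
    rw [isIso_Q_map_iff_quasiIso]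
    exact ⟨fun i => (quasiIsoAt_iff_exactAt _ i (h i)).2
      (ShortComplex.exact_of_isZero_X₂ _ ((HomologicalComplex.eval A _ i).map_isZero (isZero_zero _)))⟩
  exact (Q.map_isZero (isZero_zero _)).of_iso (asIso (Q.map (0 : X ⟶ 0)))

variable [IsGrothendieckAbelian.{w} A] (G)

/-- Indices of the generating maps. -/
abbrev GenIdx (A : Type u) [Category.{v} A] [Abelian A] [IsGrothendieckAbelian.{w} A] (ι : Type w) := ((ℤ × Subobject (separator A)) ⊕ TriCat.KInjRes.Idx.{w} A) ⊕ (ι × ℤ)

/-- Sources. -/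
noncomputable def src : GenIdx.{w} A ι → CochainComplex A ℤ
  | .inl t => TriCat.KInjRes.genSrc A t
  | .inr p => (G p.1)⟦p.2⟧

/-- Targets. -/
noncomputable def tgt : GenIdx.{w} A ι → CochainComplex A ℤ
  | .inl t => TriCat.KInjRes.genTgt A t
  | .inr p => TriCat.coneId ((G p.1)⟦p.2⟧)

/-- The generating maps. -/
noncomputable def gmap : ∀ t, src G t ⟶ tgt G t
  | .inl t => TriCat.KInjRes.genMap A t
  | .inr _ => CochainComplex.mappingCone.inr (𝟙 _)

/-- The generators. -/
abbrev gens : MorphismProperty (CochainComplex A ℤ) := ofHoms (gmap G)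

omit [HasDerivedCategory.{w'} A] in
lemma gens_le : gens G ≤ monomorphisms _ := by
  rintro _ _ _ ⟨(t | p)⟩
  · exact (TriCat.KInjRes.gen_le A _ ⟨t⟩).1
  · exact inferInstanceAs (Mono (CochainComplex.mappingCone.inr (𝟙 _)))

omit [HasDerivedCategory.{w'} A] in
lemma hasSmallObjectArgument : HasSmallObjectArgument.{w} (gens G) := by
  obtain ⟨κ, hκ', hκ⟩ := HasCardinalLT.exists_regular_cardinal.{w}
    (Σ t : GenIdx.{w} A ι, Subobject (src G t))
  have : Fact κ.IsRegular := ⟨hκ'⟩
  have : Nonempty κ.ord.ToType := by simpa using hκ'.ne_zero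
  have := WellFoundedLT.toOrderBot κ.ord.ToType
  refine ⟨κ, inferInstance, inferInstance, { preservesColimit := fun {X₁ X₂ X Y} i hi f hf => ?_ }⟩
  let hf' : (monomorphisms _).TransfiniteCompositionOfShape κ.ord.ToType f :=
    { toTransfiniteCompositionOfShape := hf.toTransfiniteCompositionOfShape
      map_mem j hj := by
        have := (hf.attachCells j hj).pushouts_coproducts
        simp only [ofHoms_homFamily] at this
        refine (?_ : _ ≤ monomorphisms _) _ this
        simp only [pushouts_le_iff, coproducts_le_iff]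
        exact gens_le G }
  have (j j' : κ.ord.ToType) (φ : j ⟶ j') : Mono (hf'.F.map φ) := hf'.mem_map φ
  apply IsGrothendieckAbelian.preservesColimit_coyoneda_obj_of_mono (Y := hf'.F) (κ := κ)
  obtain ⟨t⟩ := hi
  exact hκ.of_injective (fun S => ⟨t, S⟩) (fun _ _ h => eq_of_heq (Sigma.mk.inj h).2)

lemma negl_gens (t : GenIdx.{w} A ι) : Negl G (gmap G t) := by
  refine ⟨gens_le G _ ⟨t⟩, fun K hK => ?_⟩
  rcases t with t | p
  · have h := TriCat.KInjRes.gen_le A _ ⟨t⟩
    have : Mono (TriCat.KInjRes.genMap A t) := h.1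
    have hz : IsZero (Q.obj (cokernel (TriCat.KInjRes.genMap A t))) :=
      isZero_Q_obj ((TriCat.quasiIso_iff_acyclic_cokernel _).1 h.2)
    exact ⟨fun a b => hz.eq_of_src a b⟩
  · let S := CochainComplex.mappingCone.triangleRotateShortComplex (𝟙 ((G p.1)⟦p.2⟧))
    have hse : S.ShortExact := HomologicalComplex.shortExact_of_degreewise_shortExact _
      fun n => (CochainComplex.mappingCone.triangleRotateShortComplexSplitting _ n).shortExact
    let e : cokernel (gmap G (.inr p)) ≅ ((G p.1)⟦p.2⟧)⟦(1 : ℤ)⟧ :=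
      (cokernelIsCokernel (gmap G (.inr p))).coconePointUniqueUpToIso hse.gIsCokernel
    let e' : Q.obj (cokernel (gmap G (.inr p))) ≅ (Q.obj (G p.1))⟦p.2 + 1⟧ :=
      Q.mapIso e ≪≫ (Q.commShiftIso 1).app _ ≪≫
        (shiftFunctor (DerivedCategory A) (1 : ℤ)).mapIso ((Q.commShiftIso p.2).app _) ≪≫
        ((shiftFunctorAdd' (DerivedCategory A) p.2 1 _ rfl).app _).symm
    have := subsingleton_hom G p.1 (p.2 + 1) hK
    exact e'.homFromEquiv.subsingleton

lemma rlp_nice {M : CochainComplex A ℤ} (hM : Nice G M) :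
    (gens G).rlp (0 : M ⟶ (0 : CochainComplex A ℤ)) := by
  rintro _ _ _ ⟨t⟩
  refine ⟨fun {a b} _ => ?_⟩
  obtain ⟨β, hβ⟩ := extend hM (negl_gens G t) a
  exact ⟨⟨{ l := β, fac_left := hβ, fac_right := (isZero_zero _).eq_of_tgt _ _ }⟩⟩

lemma rlp_mor₃ {N : CochainComplex A ℤ} (hN : Nice G N) :
    (gens G).rlp (CochainComplex.mappingCone.triangle (𝟙 N)).mor₃ := by
  rintro _ _ _ ⟨t⟩
  exact lift_mor₃ hN (negl_gens G t)

lemma exists_nice (K : DerivedCategory A) (hK : Orth G K) :
    ∃ M : CochainComplex A ℤ, Nice G M ∧ Nonempty (Q.obj M ≅ K) := by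
  have := Localization.essSurj (Q (C := A)) (HomologicalComplex.quasiIso A (ComplexShape.up ℤ))
  obtain ⟨M, f, hM, hf, -, hinj⟩ := TriCat.exists_kInjective_resolution' (Q.objPreimage K)
  have e : Q.obj M ≅ K := (asIso (Q.map f)).symm ≪≫ Q.objObjPreimageIso K
  exact ⟨M, ⟨hinj, hM, orth_of_iso G e.symm hK⟩, ⟨e⟩⟩

/-- Every complex has a reflection. -/
theorem exists_reflection (K : CochainComplex A ℤ) :
    ∃ (L : CochainComplex A ℤ) (j : K ⟶ L), Orth G (Q.obj L) ∧
      ∀ M : DerivedCategory A, Orth G M →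
        Function.Bijective (fun g : Q.obj L ⟶ M => Q.map j ≫ g) := by
  have := hasSmallObjectArgument G
  let d := MorphismProperty.factorizationData (gens G).rlp.llp (gens G).rlp
    (0 : K ⟶ (0 : CochainComplex A ℤ))
  have hext : ∀ t (φ : src G t ⟶ d.Z), ∃ ψ : tgt G t ⟶ d.Z, gmap G t ≫ ψ = φ := fun t φ => by
    have := d.hp _ ⟨t⟩
    have sq : CommSq φ (gmap G t) d.p (0 : tgt G t ⟶ 0) := ⟨(isZero_zero _).eq_of_tgt _ _⟩
    exact ⟨sq.lift, sq.fac_left⟩
  have hinj : ∀ n, Injective (d.Z.X n) := fun n => by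
    rw [injective_iff_rlp_monomorphisms_zero,
      ← IsGrothendieckAbelian.generatingMonomorphisms_rlp (isSeparator_separator A)]
    rintro _ _ _ ⟨U⟩
    refine ⟨fun {a b} sq => ⟨⟨?_⟩⟩⟩
    have hc := TriCat.exists_comp_of_extends U.arrow
      (fun φ => hext (.inl (.inl (n, U))) φ) a
    exact { l := hc.choose, fac_left := hc.choose_spec, fac_right := (isZero_zero A).eq_of_tgt _ _ }
  have hgood : TriCat.KInjRes.Good.{w} d.Z := ⟨hinj, fun s φ => by
    let adj := (shiftEquiv (CochainComplex A ℤ) (1 : ℤ)).symm.toAdjunction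
    let ψ : (TriCat.KInjRes.fam A s)⟦(-1 : ℤ)⟧ ⟶ d.Z := (adj.homEquiv _ _).symm φ
    obtain ⟨ψ', hψ'⟩ := hext (.inl (.inr s)) ψ
    obtain ⟨h⟩ := TriCat.nonempty_homotopy_of_extends ψ ψ' hψ'
    have e : φ = adj.homEquiv _ _ ψ := ((adj.homEquiv _ _).apply_symm_apply φ).symm
    rw [e, Adjunction.homEquiv_unit]
    exact ⟨((h.shift 1).compLeft (adj.unit.app (TriCat.KInjRes.fam A s))).trans
      (Homotopy.ofEq ((congrArg _ ((shiftFunctor _ (1 : ℤ)).map_zero _ _)).trans comp_zero))⟩⟩
  have hZ : d.Z.IsKInjective := hgood.isKInjective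
  have horth : Orth G (Q.obj d.Z) := fun i n => by
    have hnull : ∀ φ : (G i)⟦-n⟧ ⟶ d.Z, Q.map φ = 0 := fun φ => by
      obtain ⟨ψ, hψ⟩ := hext (.inr (i, -n)) φ
      obtain ⟨h⟩ := TriCat.nonempty_homotopy_of_extends φ ψ hψ
      rw [Q_map_eq_of_homotopy _ h, Functor.map_zero]
    have h2 : Subsingleton (Q.obj ((G i)⟦-n⟧) ⟶ Q.obj d.Z) := by
      refine ⟨fun a b => ?_⟩
      have h3 : ∀ a : Q.obj ((G i)⟦-n⟧) ⟶ Q.obj d.Z, a = 0 := fun a => by
        obtain ⟨f, hf⟩ := (CochainComplex.IsKInjective.Qh_map_bijective _ d.Z).2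
          ((((quotientCompQhIso A).app ((G i)⟦-n⟧)).homCongr
            ((quotientCompQhIso A).app d.Z)).symm a)
        obtain ⟨g, rfl⟩ := (HomotopyCategory.quotient A (ComplexShape.up ℤ)).map_surjective f
        have hn := hnull g
        have := (NatIso.naturality_1 (quotientCompQhIso A) g).symm
        rw [hn] at this
        have h4 := congrArg (((quotientCompQhIso A).app ((G i)⟦-n⟧)).homCongr
          ((quotientCompQhIso A).app d.Z)) hf
        rw [Equiv.apply_symm_apply] at h4
        rw [← h4]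
        exact this.symm
      rw [h3 a, h3 b]
    have h5 : Subsingleton ((Q.obj (G i))⟦-n⟧ ⟶ Q.obj d.Z) :=
      @Equiv.subsingleton _ _ ((Q.commShiftIso (-n)).app (G i)).symm.homFromEquiv h2
    exact @Equiv.subsingleton _ _ ((shiftEquiv' (DerivedCategory A) (-n) n
      (neg_add_cancel n)).toAdjunction.homEquiv _ _).symm h5
  have hj : (monomorphisms (CochainComplex A ℤ)) d.i := by
    have h := (le_of_eq (llp_rlp_of_hasSmallObjectArgument (gens G))) _ d.hi
    refine (?_ : _ ≤ monomorphisms (CochainComplex A ℤ)) _ h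
    simp only [retracts_le_iff, transfiniteCompositions_le_iff, pushouts_le_iff, coproducts_le_iff]
    exact gens_le G
  have : Mono d.i := hj
  refine ⟨d.Z, d.i, horth, fun M₀ hM₀ => ?_⟩
  obtain ⟨M, hM, ⟨e⟩⟩ := exists_nice G M₀ hM₀
  -- any map out of the cokernel into a nice complex vanishes
  have hcok : ∀ N : CochainComplex A ℤ, Nice G N → ∀ φ : cokernel d.i ⟶ N⟦(1 : ℤ)⟧, Q.map φ = 0 := by
    intro N hN φ
    have := d.hi _ (rlp_mor₃ G hN)
    have sq : CommSq (0 : K ⟶ TriCat.coneId N) d.i (CochainComplex.mappingCone.triangle (𝟙 N)).mor₃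
        (cokernel.π d.i ≫ φ) := ⟨by rw [zero_comp, cokernel.condition_assoc, zero_comp]⟩
    obtain ⟨⟨l, hl₁, hl₂⟩⟩ := (this.sq_hasLift sq).exists_lift
    let ψ : cokernel d.i ⟶ TriCat.coneId N := cokernel.desc _ l hl₁
    have h1 : ψ ≫ (CochainComplex.mappingCone.triangle (𝟙 N)).mor₃ = φ := by
      rw [← cancel_epi (cokernel.π d.i), cokernel.π_desc_assoc]
      exact hl₂
    have hz : IsZero (Q.obj (TriCat.coneId N)) :=
      (Qh.map_isZero (TriCat.isZero_quotient_coneId N)).of_iso ((quotientCompQhIso A).app _).symm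
    rw [← h1]
    exact (Q.map_comp ψ _).trans ((congrArg (· ≫ Q.map _) (hz.eq_of_tgt (Q.map ψ) 0)).trans zero_comp)
  have hcok' : ∀ a : Q.obj (cokernel d.i) ⟶ Q.obj M, a = 0 := fun a => by
    let i : (M⟦(-1 : ℤ)⟧)⟦(1 : ℤ)⟧ ≅ M := (shiftEquiv (CochainComplex A ℤ) (1 : ℤ)).counitIso.app M
    have hM1 := hM.shift (-1)
    have := (hM1.shift 1).kinj
    obtain ⟨f, hf⟩ := (CochainComplex.IsKInjective.Qh_map_bijective _ ((M⟦(-1 : ℤ)⟧)⟦(1 : ℤ)⟧)).2
      ((((quotientCompQhIso A).app (cokernel d.i)).homCongr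
        ((quotientCompQhIso A).app _)).symm (a ≫ Q.map i.inv))
    obtain ⟨g, rfl⟩ := (HomotopyCategory.quotient A (ComplexShape.up ℤ)).map_surjective f
    have hn := hcok _ hM1 g
    have := (NatIso.naturality_1 (quotientCompQhIso A) g).symm
    rw [hn] at this
    have h4 := congrArg (((quotientCompQhIso A).app (cokernel d.i)).homCongr
      ((quotientCompQhIso A).app _)) hf
    rw [Equiv.apply_symm_apply] at h4
    have h5 : a ≫ Q.map i.inv = 0 := h4.symm.trans this.symm
    calc a = (a ≫ Q.map i.inv) ≫ Q.map i.hom := by rw [assoc, ← Q.map_comp, i.inv_hom_id, Q.map_id, comp_id]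
      _ = 0 := by rw [h5, zero_comp]
  have key : Function.Bijective (fun g : Q.obj d.Z ⟶ Q.obj M => Q.map d.i ≫ g) := by
    refine ⟨fun g g' hgg => ?_, fun g => ?_⟩
    · rw [← sub_eq_zero]
      have h0 : Q.map d.i ≫ (g - g') = 0 := by
        rw [Preadditive.comp_sub]; exact sub_eq_zero.2 hgg
      let T := DerivedCategory.triangleOfSES (TriCat.shortExact_cokernel d.i)
      obtain ⟨c, hc⟩ := Pretriangulated.Triangle.yoneda_exact₂ T
        (DerivedCategory.triangleOfSES_distinguished (TriCat.shortExact_cokernel d.i)) (g - g') h0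
      exact hc.trans ((congrArg (T.mor₂ ≫ ·) (hcok' c)).trans comp_zero)
    · obtain ⟨f, hf⟩ := (have := hM.kinj; CochainComplex.IsKInjective.Qh_map_bijective _ M).2
        ((((quotientCompQhIso A).app K).homCongr ((quotientCompQhIso A).app M)).symm g)
      obtain ⟨f', rfl⟩ := (HomotopyCategory.quotient A (ComplexShape.up ℤ)).map_surjective f
      have := d.hi _ (rlp_nice G hM)
      have sq : CommSq f' d.i (0 : M ⟶ 0) (0 : d.Z ⟶ 0) := ⟨by simp⟩
      refine ⟨Q.map sq.lift, ?_⟩
      show Q.map d.i ≫ Q.map sq.lift = g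
      rw [← Q.map_comp, sq.fac_left]
      have h4 := congrArg (((quotientCompQhIso A).app K).homCongr ((quotientCompQhIso A).app M)) hf
      rw [Equiv.apply_symm_apply] at h4
      exact (NatIso.naturality_1 (quotientCompQhIso A) f').symm.trans h4
  refine ⟨fun g g' h => ?_, fun g => ?_⟩
  · refine (cancel_mono e.inv).1 (key.1 ?_)
    simpa using congrArg (· ≫ e.inv) h
  · obtain ⟨g', hg'⟩ := key.2 (g ≫ e.inv)
    exact ⟨g' ≫ e.hom, by simp [reassoc_of% hg']⟩

theorem exists_reflection' (X : DerivedCategory A) :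
    ∃ (L : DerivedCategory A) (η : X ⟶ L), Orth G L ∧
      ∀ M, Orth G M → Function.Bijective (fun g : L ⟶ M => η ≫ g) := by
  have := Localization.essSurj (Q (C := A)) (HomologicalComplex.quasiIso A (ComplexShape.up ℤ))
  obtain ⟨L, j, hL, hb⟩ := exists_reflection G (Q.objPreimage X)
  refine ⟨_, (Q.objObjPreimageIso X).inv ≫ Q.map j, hL, fun M hM => ?_⟩
  have := (hb M hM)
  refine ⟨fun g g' h => this.1 ((cancel_epi (Q.objObjPreimageIso X).inv).1 (by simpa using h)),
    fun g => ?_⟩
  obtain ⟨g', hg'⟩ := this.2 ((Q.objObjPreimageIso X).hom ≫ g)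
  exact ⟨g', by simp [show Q.map j ≫ g' = _ from hg']⟩

theorem isRightAdjoint_of_forall {D : Type*} [Category D] (P : ObjectProperty D)
    (h : ∀ X : D, ∃ (L : D) (η : X ⟶ L), P L ∧
      ∀ M, P M → Function.Bijective (fun g : L ⟶ M => η ≫ g)) : P.ι.IsRightAdjoint := by
  choose L η hL hb using h
  refine (Adjunction.adjunctionOfEquivLeft (G := P.ι) (F_obj := fun X => ⟨L X, hL X⟩)
    (e := fun X M => ((P.fullyFaithfulι.homEquiv (X := ⟨L X, hL X⟩) (Y := M)).trans
      (Equiv.ofBijective _ (hb X M.obj M.property))))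
    (fun X Y Y' g h => ?_)).isRightAdjoint
  simp [Functor.FullyFaithful.homEquiv]

/-- Reflectivity for any property agreeing with an orthogonal. -/
theorem isRightAdjoint (P : ObjectProperty (DerivedCategory A)) (hP : ∀ K, P K ↔ Orth G K) :
    P.ι.IsRightAdjoint :=
  isRightAdjoint_of_forall P fun X => by
    obtain ⟨L, η, hL, hb⟩ := exists_reflection' G X
    exact ⟨L, η, (hP L).2 hL, fun M hM => hb M ((hP M).1 hM)⟩

end Groth.Agent.H9Misc.OrthLocal
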