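import Groth.Agent.H9Misc.FlatTwistGlobal
import Groth.Agent.H9Misc.RelExtTwistVanish
import Groth.Agent.QCoh.RpushExchange2

/-! The criterion of flatness by direct images of high twists. -/

set_option linter.style.haveILetI false
set_option backward.isDefEq.respectTransparency false
set_option backward.isDefEq.respectTransparency.types false

universe u

open CategoryTheory CategoryTheory.Limits AlgebraicGeometry TopologicalSpace

noncomputable section

namespace Groth.Agent.H9Misc.FlatTwistCrit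

open Groth.Agent

variable {X S : Scheme.{u}} (f : X ⟶ S)

theorem isFinLocFree_push [IsProper f] [IsLocallyNoetherian S] {M : X.Modules} (hM : Coh.IsCoh M)
    (hfl : FlatMod.IsFlatOver f M) (hR : ∀ i : ℕ, 0 < i → IsZero ((Coh.Rpush f i).obj M)) :
    FlatMod.IsFinLocFree ((Coh.push f).obj M) := by
  intro y
  obtain ⟨U, hy, ⟨e⟩⟩ := QCoh.exists_free_of_concentrated hM hfl 0 y
    (QCoh.concentrated_of_isZero_Rpush hM hfl hR y)
  haveI := QCoh.preservesFiniteLimits_push f
  haveI : (Scheme.Modules.pushforward f).Additive :=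
    (Scheme.Modules.pullbackPushforwardAdjunction f).right_adjoint_additive
  exact ⟨U, _, hy, ⟨(Scheme.Modules.restrictFunctor U.ι).mapIso
    ((Scheme.Modules.pushforward f).rightDerivedZeroIsoSelf.app M).symm ≪≫ e⟩⟩

theorem exists_finLocFree_push [IsProper f] [AlgebraicGeometry.IsNoetherian S] {L : X.Modules}
    (hL : PicF.IsInvertible L) (ha : ∀ W : S.Opens, IsAffineOpen W → CohB1.IsAmple (L.restrict (f ⁻¹ᵁ W).ι))
    {F : X.Modules} (hF : Coh.IsCoh F) (hfl : FlatMod.IsFlatOver f F) :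
    ∃ n₀ : ℕ, ∀ n : ℕ, n₀ ≤ n →
      FlatMod.IsFinLocFree ((Coh.push f).obj (CohB1.tensorMod F (CohB1.tensorPow L n))) := by
  haveI : IsLocallyNoetherian X := LocallyOfFiniteType.isLocallyNoetherian f
  obtain ⟨n₀, hn₀⟩ := AmpleVan.RelVanish.exists_vanishing f hL ha hF
  refine ⟨n₀, fun n hn => ?_⟩
  have hLn := InvX.isInvertible_tensorPow hL n
  have hcoh := AmpleVan.isCoh_tensor hF (AmpleVan.isCoh_invertible hLn)
  refine isFinLocFree_push f hcoh (FlatTwistGlobal.isFlatOver_tensor f hF.1 hLn hcoh.1 hfl) fun i hi => ?_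
  obtain ⟨q, rfl⟩ := Nat.exists_eq_succ_of_ne_zero hi.ne'
  exact RelExtTwistVanish.isZero_Rpush_of_RpushAb f _ q (hn₀ n hn (q + 1) q.succ_pos)

theorem isFlatOver_iff_twists [IsProper f] [AlgebraicGeometry.IsNoetherian S] {L : X.Modules}
    (hL : PicF.IsInvertible L) (ha : ∀ W : S.Opens, IsAffineOpen W → CohB1.IsAmple (L.restrict (f ⁻¹ᵁ W).ι))
    {F : X.Modules} (hF : Coh.IsCoh F) :
    FlatMod.IsFlatOver f F ↔ ∃ n₀ : ℕ, ∀ n : ℕ, n₀ ≤ n →
      FlatMod.IsFinLocFree ((Coh.push f).obj (CohB1.tensorMod F (CohB1.tensorPow L n))) :=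
  ⟨exists_finLocFree_push f hL ha hF,
    fun ⟨n₀, h⟩ => FlatTwistGlobal.isFlatOver_of_twists f hL ha hF.1 n₀ h⟩

end Groth.Agent.H9Misc.FlatTwistCrit
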