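import Groth.Agent.H9Misc.DRingTor
import Groth.Agent.H9Misc.DRingLTensorCx
import Groth.Agent.H9Misc.DRingRestrict

/-! Tor amplitude of a derived tensor product after restriction of scalars. -/

set_option linter.style.haveILetI false

universe u

open CategoryTheory CategoryTheory.Limits MonoidalCategory

attribute [local instance] HasDerivedCategory.standard

namespace Groth.Agent.H9Misc.DRingTorLTensor

open Groth.Agent.KFlatLib DRingLTensor

variable {A B : Type u} [CommRing A] [CommRing B] (φ : A →+* B)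

lemma exactAt_iff_of_quasiIso {X Y : DRing.Cx A} (f : X ⟶ Y) [QuasiIso f] (i : ℤ) :
    X.ExactAt i ↔ Y.ExactAt i := by
  rw [HomologicalComplex.exactAt_iff_isZero_homology, HomologicalComplex.exactAt_iff_isZero_homology]
  exact (isoOfQuasiIsoAt f i).isZero_iff

lemma exactAt_iff_of_iso {X Y : DRing.Cx A} (e : X ≅ Y) (i : ℤ) : X.ExactAt i ↔ Y.ExactAt i :=
  ⟨fun h => h.of_iso e, fun h => h.of_iso e.symm⟩

/-- A free resolution of a module. -/
lemma exists_resolution (M : ModuleCat.{u} A) : ∃ (F : DRing.Cx A)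
    (f : F ⟶ (HomologicalComplex.single (ModuleCat.{u} A) (ComplexShape.up ℤ) 0).obj M),
      QuasiIso f ∧ IsKF F := by
  obtain ⟨R, ψ, hψ, hflat, hRb⟩ := (ringCover A).exists_bounded_resolution
    ((HomologicalComplex.single (ModuleCat.{u} A) (ComplexShape.up ℤ) 0).obj M) 0 fun m hm =>
      HomologicalComplex.isZero_single_obj_homology _ _ _ _ (by omega)
  exact ⟨R, ψ, hψ, DRingTor.isKF_of_flat hflat hRb⟩

/-- Balancing: a resolution of the module computes the derived tensor product. -/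
lemma exactAt_balance {X X' F : DRing.Cx A} (ψ : X' ⟶ X) [QuasiIso ψ] (hX' : IsKF X') (hF : IsKF F)
    {M : ModuleCat.{u} A} (f : F ⟶ (HomologicalComplex.single (ModuleCat.{u} A) (ComplexShape.up ℤ) 0).obj M)
    [QuasiIso f] (i : ℤ) :
    (X ⊗ F).ExactAt i ↔ ((tensC M).obj X').ExactAt i := by
  let T := curriedTensor (ModuleCat.{u} A)
  haveI : QuasiIso ((T.map₂CochainComplex.map ψ).app F) := hF.quasiIso_map ψ
  haveI : QuasiIso ((T.map₂CochainComplex.obj X').map f) := quasiIso_tensorHom_id f hX'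
  refine (exactAt_iff_of_quasiIso ((T.map₂CochainComplex.map ψ).app F) i).symm.trans ?_
  refine (exactAt_iff_of_quasiIso ((T.map₂CochainComplex.obj X').map f) i).trans ?_
  exact exactAt_iff_of_iso ((singleIso T M).app X') i

/-- The projection formula, read on exactness. -/
lemma exactAt_projection (L : DRing.Cx B) (F : DRing.Cx A) (i : ℤ) :
    (L ⊗ (extC' φ).obj F).ExactAt i ↔
      (((ModuleCat.restrictScalars φ).mapHomologicalComplex (ComplexShape.up ℤ)).obj L ⊗ F).ExactAt i := by
  let e₁ : (((curriedTensor (ModuleCat.{u} B)).map₂CochainComplex.obj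
      (((𝟭 (ModuleCat.{u} B)).mapHomologicalComplex (ComplexShape.up ℤ)).obj L)).obj
        (((ModuleCat.extendScalars φ).mapHomologicalComplex (ComplexShape.up ℤ)).obj F)) ≅
      ((𝟭 (ModuleCat.{u} B)).mapHomologicalComplex (ComplexShape.up ℤ)).obj
        (((extT φ).map₂CochainComplex.obj L).obj F) :=
    totalMapIso (Φ₁ := 𝟭 (ModuleCat.{u} B)) (Φ₂ := ModuleCat.extendScalars φ)
      (Ψ := 𝟭 (ModuleCat.{u} B)) (T := extT φ) (T' := curriedTensor (ModuleCat.{u} B))
      (Iso.refl _) L F
  let e₂ := totalMapIso (extTIso φ) L F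
  refine (exactAt_iff_of_iso e₁ i).trans ?_
  refine Iff.trans ?_ (exactAt_iff_of_iso e₂ i).symm
  exact (ShortComplex.exact_map_iff_of_faithful _ (ModuleCat.restrictScalars φ)).symm

/-- The tor amplitude of `E ⊗_B L` over `A`. -/
theorem hasTorAmplitudeIn_tensor {a b c d : ℤ} (E L : DRing.Cx B) (hEz : DRing.VanishesOutside E a b)
    (hEf : DRing.TermwiseFlat E)
    (hL : DRing.HasTorAmplitudeIn A c d (DRing.toD ((DRing.restrictCx φ).obj L))) :
    DRing.HasTorAmplitudeIn A (a + c) (b + d)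
      (DerivedCategory.Q.obj (((ModuleCat.restrictScalars φ).mapHomologicalComplex (ComplexShape.up ℤ)).obj (E ⊗ L))) := by
  have hE : IsKF E := DRingTor.isKF_of_flat hEf fun i hi => hEz i (Or.inr hi)
  let X := ((ModuleCat.restrictScalars φ).mapHomologicalComplex (ComplexShape.up ℤ)).obj (E ⊗ L)
  let XL := ((ModuleCat.restrictScalars φ).mapHomologicalComplex (ComplexShape.up ℤ)).obj L
  haveI := (ringCover A).quasiIso_ψ X
  haveI := (ringCover A).quasiIso_ψ XL
  haveI : IsIso (DerivedCategory.Q.map ((ringCover A).ψ.app X)) :=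
    (DerivedCategory.isIso_Q_map_iff_quasiIso _ _).2 inferInstance
  haveI : IsIso (DerivedCategory.Q.map ((ringCover A).ψ.app XL)) :=
    (DerivedCategory.isIso_Q_map_iff_quasiIso _ _).2 inferInstance
  have hXL : IsKF ((ringCover A).P.obj XL) := kFlat_ringRes XL
  have hX : IsKF ((ringCover A).P.obj X) := kFlat_ringRes X
  have hvan := (DRingTor.iff_van hXL (asIso (DerivedCategory.Q.map ((ringCover A).ψ.app XL)))).1 hL
  refine DRingTor.hasTorAmplitudeIn_of_van hX (fun M i hi => ?_)
    (asIso (DerivedCategory.Q.map ((ringCover A).ψ.app X)))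
  obtain ⟨F, f, hf, hF⟩ := exists_resolution M
  haveI := hf
  refine (exactAt_balance ((ringCover A).ψ.app X) hX hF f i).1 ?_
  refine (exactAt_projection φ (E ⊗ L) F i).1 ?_
  refine (exactAt_iff_of_iso (α_ E L ((extC' φ).obj F)) i).2 ?_
  let Y : DRing.Cx B := L ⊗ (extC' φ).obj F
  have hY : ∀ j, (j < c ∨ d < j) → Y.ExactAt j := fun j hj =>
    (exactAt_projection φ L F j).2 ((exactAt_balance ((ringCover A).ψ.app XL) hXL hF f j).2 (hvan M j hj))
  haveI : Y.IsLE d := (CochainComplex.isLE_iff Y d).2 fun j hj => hY j (Or.inr hj)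
  haveI : Y.IsGE c := (CochainComplex.isGE_iff Y c).2 fun j hj => hY j (Or.inl hj)
  let Y₁ := Y.truncLE d
  haveI : Y₁.IsGE c := (CochainComplex.isGE_iff Y₁ c).2 fun j hj =>
    (exactAt_iff_of_quasiIso (Y.ιTruncLE d) j).2 (hY j (Or.inl hj))
  haveI h1 : QuasiIso (((curriedTensor (ModuleCat.{u} B)).map₂CochainComplex.obj E).map (Y.ιTruncLE d)) :=
    quasiIso_tensorHom_id _ hE
  haveI h2 : QuasiIso (((curriedTensor (ModuleCat.{u} B)).map₂CochainComplex.obj E).map (Y₁.πTruncGE c)) :=
    quasiIso_tensorHom_id _ hE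
  refine (exactAt_iff_of_quasiIso (((curriedTensor (ModuleCat.{u} B)).map₂CochainComplex.obj E).map (Y.ιTruncLE d)) i).1 ?_
  refine (exactAt_iff_of_quasiIso (((curriedTensor (ModuleCat.{u} B)).map₂CochainComplex.obj E).map (Y₁.πTruncGE c)) i).2 ?_
  refine ShortComplex.exact_of_isZero_X₂ _ ?_
  rcases hi with hi | hi
  · exact DRingLTensorCx.vanishesBelow_tensor (P := E) (fun j hj => hEz j (Or.inl hj))
      (fun j hj => CochainComplex.isZero_of_isStrictlyGE (Y₁.truncGE c) c j hj) i hi
  · exact DRingLTensorCx.vanishesAbove_tensor (P := E) (fun j hj => hEz j (Or.inr hj))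
      (fun j hj => CochainComplex.isZero_of_isStrictlyLE (Y₁.truncGE c) d j hj) i hi

end Groth.Agent.H9Misc.DRingTorLTensor
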