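import Groth.Agent.H9Misc.FlatTwist
import Groth.Agent.QCoh.LocFree
import Groth.Agent.QCoh.FlatOver
import Groth.Agent.AmpleX.RelAffine
import Groth.Agent.AmpleVan.RelVanish
import Groth.Agent.KFlatLib.Scheme.RelTensor

/-! Flatness over the base and twists by invertible modules. -/

set_option linter.style.haveILetI false
set_option maxHeartbeats 1000000
set_option backward.isDefEq.respectTransparency false
set_option backward.isDefEq.respectTransparency.types false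

universe u

open CategoryTheory CategoryTheory.Limits AlgebraicGeometry TopologicalSpace

noncomputable section

namespace Groth.Agent.H9Misc.FlatTwistGlobal

open Groth.Agent
open Groth.Agent.H23.PicMul

variable {X S : Scheme.{u}} (f : X ⟶ S)

/-- Twists by powers of invertible modules are quasi-coherent. -/
theorem isQCoh_twist {X : Scheme.{u}} {M L : X.Modules} (hM : Coh.IsQCoh M) (hL : PicF.IsInvertible L) (n : ℕ) :
    Coh.IsQCoh (CohB1.tensorMod M (CohB1.tensorPow L n)) :=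
  KFlatLib.isQCoh_tensor hM (ProjUPX.isQCoh_of_isInvertible (InvX.isInvertible_tensorPow hL n))

/-- Tensoring with an invertible module preserves flatness over the base. -/
theorem isFlatOver_tensor {F N : X.Modules} (hF : Coh.IsQCoh F) (hN : PicF.IsInvertible N)
    (hq : Coh.IsQCoh (CohB1.tensorMod F N)) (h : FlatMod.IsFlatOver f F) :
    FlatMod.IsFlatOver f (CohB1.tensorMod F N) := by
  intro x
  obtain ⟨_, ⟨V, hV, rfl⟩, hxV, -⟩ :=
    S.isBasis_affineOpens.exists_subset_of_mem_open (Set.mem_univ (f.base x)) isOpen_univ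
  obtain ⟨U₀, hxU₀, e₀, he₀⟩ := InvX.exists_frame hN x
  obtain ⟨_, ⟨U, hU, rfl⟩, hxU, hle⟩ := X.isBasis_affineOpens.exists_subset_of_mem_open
    (show x ∈ f ⁻¹ᵁ V ⊓ U₀ from ⟨hxV, hxU₀⟩) (f ⁻¹ᵁ V ⊓ U₀).2
  have hle1 : U ≤ f ⁻¹ᵁ V := fun y hy => (hle hy).1
  have hle2 : U ≤ U₀ := fun y hy => (hle hy).2
  refine (QCoh.flat_appLE_iff f hq hU hV hle1).1 ?_ x hxU
  letI : Module Γ(S, V) Γ(F, U) := Module.compHom _ (f.appLE V U hle1).hom
  letI : Module Γ(S, V) Γ(CohB1.tensorMod F N, U) := Module.compHom _ (f.appLE V U hle1).hom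
  haveI : Module.Flat Γ(S, V) Γ(F, U) := (QCoh.flat_appLE_iff f hF hU hV hle1).2 fun y _ => h y
  let b := AModX.res N hle2 e₀
  let l : Γ(F, U) →ₗ[Γ(S, V)] Γ(CohB1.tensorMod F N, U) :=
    { FlatTwist.tmulL (M := F) b with map_smul' := fun c a => InvX.tmul_smul_left _ a b }
  exact Module.Flat.of_linearEquiv (LinearEquiv.ofBijective l
    ⟨(injective_iff_map_eq_zero _).2 fun a ha => FlatTwist.tmul_frame_inj (he₀.res hle2) ha,
      fun w => FlatTwist.tmul_frame_surj (he₀.res hle2) w⟩).symm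

/-- The structure map to functions on the preimage of an open of the base. -/
def phi (V : S.Opens) : Γ(S, V) →+* Γ((f ⁻¹ᵁ V).toScheme, ⊤) :=
  (f.appLE V ((f ⁻¹ᵁ V).ι ''ᵁ ⊤) ((f ⁻¹ᵁ V).ι_image_le ⊤)).hom

lemma phi_res (V : S.Opens) (W : (f ⁻¹ᵁ V).toScheme.Opens) (c : Γ(S, V)) :
    ((f ⁻¹ᵁ V).ι.appIso W).inv ((f ⁻¹ᵁ V).toScheme.presheaf.map (homOfLE (le_top : W ≤ ⊤)).op (phi f V c)) =
      f.appLE V ((f ⁻¹ᵁ V).ι ''ᵁ W) ((f ⁻¹ᵁ V).ι_image_le W) c := by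
  rw [Scheme.Opens.ι_appIso]
  exact ConcreteCategory.congr_hom (f.appLE_map ((f ⁻¹ᵁ V).ι_image_le ⊤)
    (homOfLE ((f ⁻¹ᵁ V).ι.image_mono (le_top : W ≤ ⊤))).op) c

/-- Locally free direct image gives flat sections over preimages of affine opens. -/
theorem flat_top_of_push {M : X.Modules} {V : S.Opens} (hV : IsAffineOpen V)
    (h : FlatMod.IsFinLocFree ((Coh.push f).obj M)) :
    letI := QCoh.secModule (phi f V) (M.restrict (f ⁻¹ᵁ V).ι) ⊤
    Module.Flat Γ(S, V) Γ(M.restrict (f ⁻¹ᵁ V).ι, ⊤) := by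
  have hflat : Module.Flat Γ(S, V) Γ((Coh.push f).obj M, V) :=
    (QCoh.flat_sections_iff (QCoh.isQCoh_of_isFinLocFree h) hV).2 fun y _ => by
      haveI := QCoh.free_stalk_of_isFinLocFree h y
      show Module.Flat (S.presheaf.stalk y) (((Coh.push f).obj M).presheaf.stalk y)
      infer_instance
  let j := (f ⁻¹ᵁ V).ι
  have htop : j ''ᵁ ⊤ = f ⁻¹ᵁ V := (f ⁻¹ᵁ V).ι_image_top
  letI : Module Γ(S, V) Γ(M, j ''ᵁ ⊤) := Module.compHom _ (f.appLE V (j ''ᵁ ⊤) htop.le).hom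
  letI := QCoh.secModule (phi f V) (M.restrict j) ⊤
  let r : Γ((Coh.push f).obj M, V) →ₗ[Γ(S, V)] Γ(M, j ''ᵁ ⊤) :=
    { toFun := fun a => AModX.res M htop.le a
      map_add' := map_add _
      map_smul' := fun c a => AModX.res_smul htop.le _ a }
  haveI := hflat
  have hr : Function.Bijective r := by
    show Function.Bijective (AModX.res M htop.le)
    refine ⟨fun a b hab => ?_, fun b => ⟨AModX.res M htop.ge b, ?_⟩⟩
    · simpa [AModX.res_res] using congrArg (AModX.res M htop.ge) hab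
    · simp [AModX.res_res]
  haveI : Module.Flat Γ(S, V) Γ(M, j ''ᵁ ⊤) := Module.Flat.of_linearEquiv (LinearEquiv.ofBijective r hr).symm
  let r' : Γ(M.restrict j, ⊤) →ₗ[Γ(S, V)] Γ(M, j ''ᵁ ⊤) :=
    { toFun := fun a => a
      map_add' := fun _ _ => rfl
      map_smul' := fun c a => by
        show (j.appIso ⊤).inv ((f ⁻¹ᵁ V).toScheme.presheaf.map (homOfLE (le_top : (⊤ : (f ⁻¹ᵁ V).toScheme.Opens) ≤ ⊤)).op
          (phi f V c)) • (show Γ(M, j ''ᵁ ⊤) from a) = f.appLE V (j ''ᵁ ⊤) htop.le c • (show Γ(M, j ''ᵁ ⊤) from a)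
        congr 1
        exact phi_res f V ⊤ c }
  exact Module.Flat.of_linearEquiv (LinearEquiv.ofBijective r' Function.bijective_id)

/-- Flatness of sections of the restriction gives flatness of sections. -/
theorem flat_image {F : X.Modules} {V : S.Opens} (G : (f ⁻¹ᵁ V).toScheme.Opens)
    (h : letI := QCoh.secModule (phi f V) (F.restrict (f ⁻¹ᵁ V).ι) G
      Module.Flat Γ(S, V) Γ(F.restrict (f ⁻¹ᵁ V).ι, G)) :
    letI : Module Γ(S, V) Γ(F, (f ⁻¹ᵁ V).ι ''ᵁ G) :=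
      Module.compHom _ (f.appLE V ((f ⁻¹ᵁ V).ι ''ᵁ G) ((f ⁻¹ᵁ V).ι_image_le G)).hom
    Module.Flat Γ(S, V) Γ(F, (f ⁻¹ᵁ V).ι ''ᵁ G) := by
  let j := (f ⁻¹ᵁ V).ι
  letI : Module Γ(S, V) Γ(F, j ''ᵁ G) := Module.compHom _ (f.appLE V (j ''ᵁ G) ((f ⁻¹ᵁ V).ι_image_le G)).hom
  letI := QCoh.secModule (phi f V) (F.restrict j) G
  haveI := h
  let r : Γ(F, j ''ᵁ G) →ₗ[Γ(S, V)] Γ(F.restrict j, G) :=
    { toFun := fun a => a
      map_add' := fun _ _ => rfl
      map_smul' := fun c a => by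
        show f.appLE V (j ''ᵁ G) ((f ⁻¹ᵁ V).ι_image_le G) c • a =
          (j.appIso G).inv ((f ⁻¹ᵁ V).toScheme.presheaf.map (homOfLE (le_top : G ≤ ⊤)).op (phi f V c)) • a
        congr 1
        exact (phi_res f V G c).symm }
  exact Module.Flat.of_linearEquiv (LinearEquiv.ofBijective r Function.bijective_id)

/-- The converse part: eventually locally free direct images of twists force flatness. -/
theorem isFlatOver_of_twists [QuasiCompact f] [QuasiSeparated f] {L : X.Modules} (hL : PicF.IsInvertible L)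
    (ha : ∀ W : S.Opens, IsAffineOpen W → CohB1.IsAmple (L.restrict (f ⁻¹ᵁ W).ι))
    {F : X.Modules} (hF : Coh.IsQCoh F) (n₀ : ℕ)
    (h : ∀ n : ℕ, n₀ ≤ n → FlatMod.IsFinLocFree ((Coh.push f).obj (CohB1.tensorMod F (CohB1.tensorPow L n)))) :
    FlatMod.IsFlatOver f F := by
  intro x
  obtain ⟨_, ⟨V, hV, rfl⟩, hxV, -⟩ :=
    S.isBasis_affineOpens.exists_subset_of_mem_open (Set.mem_univ (f.base x)) isOpen_univ
  have hAmp : CohB1.IsAmple (L.restrict (f ⁻¹ᵁ V).ι) := ha V hV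
  haveI : CompactSpace (f ⁻¹ᵁ V).toScheme :=
    isCompact_iff_compactSpace.mp (QuasiCompact.isCompact_preimage (f := f) _ V.2 hV.isCompact)
  haveI : IsAffine (show S.Opens from V).toScheme := hV
  haveI : QuasiSeparatedSpace (f ⁻¹ᵁ V).toScheme := quasiSeparatedSpace_of_quasiSeparated (f ∣_ V)
  obtain ⟨d, hd, s, hxs, hs⟩ := (AmpleX.isAmple_iff.1 hAmp).2.2 ⟨x, hxV⟩
  have hFq : Coh.IsQCoh (F.restrict (f ⁻¹ᵁ V).ι) := QCoh.isQCoh_restrict (f ⁻¹ᵁ V).ι hF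
  have hLd : PicF.IsInvertible (CohB1.tensorPow (L.restrict (f ⁻¹ᵁ V).ι) d) :=
    InvX.isInvertible_tensorPow hAmp.1 d
  have hflat : ∀ n : ℕ, n₀ ≤ n →
      letI := QCoh.secModule (phi f V) (CohB1.tensorMod (F.restrict (f ⁻¹ᵁ V).ι)
        (CohB1.tensorPow (CohB1.tensorPow (L.restrict (f ⁻¹ᵁ V).ι) d) n)) ⊤
      Module.Flat Γ(S, V) Γ(CohB1.tensorMod (F.restrict (f ⁻¹ᵁ V).ι)
        (CohB1.tensorPow (CohB1.tensorPow (L.restrict (f ⁻¹ᵁ V).ι) d) n), ⊤) := fun n hn => by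
    obtain ⟨e⟩ := AmpleVan.RelVanish.restrict_iso (f ⁻¹ᵁ V).ι L F (d * n)
    have hcl : PicF.cl (CohB1.tensorPow (L.restrict (f ⁻¹ᵁ V).ι) (d * n)) =
        PicF.cl (CohB1.tensorPow (CohB1.tensorPow (L.restrict (f ⁻¹ᵁ V).ι) d) n) := by
      rw [H23.PicMul.cl_tensorPow, H23.PicMul.cl_tensorPow, H23.PicMul.cl_tensorPow, pow_mul]
    obtain ⟨i⟩ := H23.PicMul.cl_eq_iff.1 hcl
    obtain ⟨e'⟩ := AmpleVan.RelVanish.tensor_congr (Iso.refl (F.restrict (f ⁻¹ᵁ V).ι)) i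
    have h0 := flat_top_of_push f (M := CohB1.tensorMod F (CohB1.tensorPow L (d * n))) hV
      (h (d * n) (le_trans hn (Nat.le_mul_of_pos_left _ hd)))
    exact FlatTwist.flat_of_iso (phi f V) (M := (CohB1.tensorMod F (CohB1.tensorPow L (d * n))).restrict (f ⁻¹ᵁ V).ι)
      (e ≪≫ e') ⊤ h0
  have hq : ∀ n : ℕ, Coh.IsQCoh (CohB1.tensorMod (F.restrict (f ⁻¹ᵁ V).ι)
      (CohB1.tensorPow (CohB1.tensorPow (L.restrict (f ⁻¹ᵁ V).ι) d) n)) := fun n =>
    isQCoh_twist (X := (f ⁻¹ᵁ V).toScheme) hFq hLd n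
  have key := FlatTwist.flat_genLocus (X := (f ⁻¹ᵁ V).toScheme) (A := Γ(S, V)) (phi f V)
    (F := F.restrict (f ⁻¹ᵁ V).ι) (L := CohB1.tensorPow (L.restrict (f ⁻¹ᵁ V).ι) d) hFq hLd s n₀ hq hflat
  refine (QCoh.flat_appLE_iff f hF (hs.image_of_isOpenImmersion (f ⁻¹ᵁ V).ι) hV
    ((f ⁻¹ᵁ V).ι_image_le _)).1 ?_ x ⟨⟨x, hxV⟩, hxs, rfl⟩
  exact flat_image f (F := F) (CohB1.genLocus (CohB1.tensorPow (L.restrict (f ⁻¹ᵁ V).ι) d) s) key

end Groth.Agent.H9Misc.FlatTwistGlobal
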