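import Mathlib.Algebra.Group.Hom.Basic
import Mathlib.GroupTheory.QuotientGroup.Basic
import Mathlib.Algebra.Group.Pi.Lemmas
import Mathlib.Tactic.Abel
import Mathlib.Logic.Function.Iterate

/-! Bijectivity of telescope maps `(x_k) ↦ (x_k - f x_{k+1})`. -/

universe v u

namespace Groth.Agent.H9Misc.TelBij

variable {M : Type u} [AddCommGroup M]

/-- The telescope map of an endomorphism. -/
def Tel (f : M →+ M) : (ℕ → M) →+ (ℕ → M) where
  toFun x k := x k - f (x (k + 1))
  map_zero' := funext fun k => by simp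
  map_add' x y := funext fun k => by
    simp only [Pi.add_apply, map_add]
    abel

@[simp] lemma tel_apply (f : M →+ M) (x : ℕ → M) (k : ℕ) : Tel f x k = x k - f (x (k + 1)) := rfl

/-- The telescope map is bijective. -/
def TB (f : M →+ M) : Prop := Function.Bijective (Tel f)

lemma tb_zero : TB (0 : M →+ M) :=
  ⟨fun x y h => funext fun k => by simpa using congrFun h k,
    fun y => ⟨y, funext fun k => by simp⟩⟩

lemma TB.eq_zero {f : M →+ M} (hf : TB f) (x : ℕ → M) (hx : ∀ k, x k = f (x (k + 1))) : ∀ k, x k = 0 :=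
  fun k => congrFun (hf.1 (show Tel f x = Tel f 0 from by
    rw [map_zero]; exact funext fun i => sub_eq_zero.2 (hx i))) k

lemma tb_comp {f a : M →+ M} (hf : TB f) (hc : ∀ m, f (a m) = a (f m)) : TB (f.comp a) := by
  have hit : ∀ (i : ℕ) m, f (a^[i] m) = a^[i] (f m) := fun i => by
    induction i with
    | zero => intro m; rfl
    | succ i ih =>
      intro m
      rw [Function.iterate_succ_apply, Function.iterate_succ_apply, ih, hc]
  constructor
  · refine (injective_iff_map_eq_zero _).2 fun x hx => funext fun k => ?_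
    have hxk : ∀ j, x j = f (a (x (j + 1))) := fun j => sub_eq_zero.1 (congrFun hx j)
    refine hf.eq_zero (fun i => a^[i] (x (k + i))) (fun i => ?_) 0
    show a^[i] (x (k + i)) = f (a^[i + 1] (x (k + i + 1)))
    rw [Function.iterate_succ_apply, hit, ← hxk (k + i)]
  · intro y
    choose w hw using fun k => hf.2 fun i => a^[i] (y (k + i))
    have hw' : ∀ k i, w k i - f (w k (i + 1)) = a^[i] (y (k + i)) := fun k i => congrFun (hw k) i
    have key : ∀ k, (fun i => w k (i + 1)) = fun i => a (w (k + 1) i) := fun k => by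
      refine hf.1 (funext fun i => ?_)
      show w k (i + 1) - f (w k (i + 1 + 1)) = a (w (k + 1) i) - f (a (w (k + 1) (i + 1)))
      rw [hw', hc, ← map_sub, hw', Function.iterate_succ_apply']
      exact congrArg (fun n => a (a^[i] (y n))) (by omega)
    refine ⟨fun k => w k 0, funext fun k => ?_⟩
    show w k 0 - f (a (w (k + 1) 0)) = y k
    rw [← congrFun (key k) 0, hw']
    exact congrArg y (Nat.add_zero k)

lemma tb_neg {f : M →+ M} (hf : TB f) : TB (-f) := by
  have h := tb_comp hf (a := -AddMonoidHom.id M) fun m => by simp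
  convert h using 1
  ext m
  simp

lemma surjective_bijective_sub {e : M →+ M} (he : TB e) :
    Function.Bijective fun m => m - e m := by
  constructor
  · intro m m' h
    have := he.1 (show Tel e (fun _ => m) = Tel e (fun _ => m') from funext fun _ => h)
    exact congrFun this 0
  · intro m
    obtain ⟨x, hx⟩ := he.2 fun _ => m
    have hs : (fun k => x (k + 1)) = x :=
      he.1 (funext fun k => (congrFun hx (k + 1)).trans (congrFun hx k).symm)
    refine ⟨x 0, ?_⟩
    show x 0 - e (x 0) = m
    conv_lhs => arg 2; rw [← congrFun hs 0]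
    exact congrFun hx 0

lemma subsingleton_of_complement {e e' : M →+ M} (he : TB e) (he' : TB e') (h : ∀ m, e m + e' m = m) :
    Subsingleton M := by
  have hb : Function.Bijective e := by
    have := surjective_bijective_sub he'
    have hh : (fun m => m - e' m) = e := funext fun m => (eq_sub_of_add_eq (h m)).symm
    rwa [hh] at this
  refine ⟨fun m m' => ?_⟩
  have key : ∀ m : M, m = 0 := fun m => by
    let g := Function.surjInv hb.2
    exact he.eq_zero (fun k => g^[k] m) (fun k => by
      show g^[k] m = e (g^[k + 1] m)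
      rw [Function.iterate_succ_apply']
      exact (Function.surjInv_eq hb.2 _).symm) 0
  rw [key m, key m']

variable {N : Type v} [AddCommGroup N]

lemma tb_pi {f : M →+ M} (hf : TB f) : TB (f.compLeft ℕ) := by
  constructor
  · refine (injective_iff_map_eq_zero _).2 fun x hx => funext fun k => funext fun j => ?_
    exact hf.eq_zero (fun i => x i j) (fun i => sub_eq_zero.1 (congrFun (congrFun hx i) j)) k
  · intro y
    choose w hw using fun j => hf.2 fun i => y i j
    exact ⟨fun i j => w j i, funext fun i => funext fun j => congrFun (hw j) i⟩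

lemma tb_ker {T : M →+ N} {fM : M →+ M} {fN : N →+ N} (hc : ∀ m, T (fM m) = fN (T m)) (hM : TB fM)
    (hN : TB fN) (fK : T.ker →+ T.ker) (hK : ∀ m : T.ker, (fK m).1 = fM m.1) : TB fK := by
  constructor
  · refine (injective_iff_map_eq_zero _).2 fun x hx => funext fun k => Subtype.ext ?_
    refine hM.eq_zero (fun i => (x i).1) (fun i => ?_) k
    show (x i).1 = fM (x (i + 1)).1
    rw [← hK]
    exact congrArg Subtype.val (sub_eq_zero.1 (congrFun hx i))
  · intro y
    obtain ⟨w, hw⟩ := hM.2 fun i => (y i).1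
    have hT : ∀ i, T (w i) = 0 := hN.eq_zero (fun i => T (w i)) fun i => by
      have h := congrArg T (congrFun hw i)
      rw [tel_apply, map_sub, hc, (y i).2, sub_eq_zero] at h
      exact h
    refine ⟨fun i => ⟨w i, hT i⟩, funext fun i => Subtype.ext ?_⟩
    show w i - (fK ⟨w (i + 1), _⟩).1 = (y i).1
    rw [hK]
    exact congrFun hw i

lemma tb_coker {T : M →+ N} {fM : M →+ M} {fN : N →+ N} (hT : Function.Injective T)
    (hc : ∀ m, T (fM m) = fN (T m)) (hM : TB fM) (hN : TB fN)
    (fQ : N ⧸ T.range →+ N ⧸ T.range)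
    (hQ : ∀ n : N, fQ (QuotientAddGroup.mk n) = QuotientAddGroup.mk (fN n)) : TB fQ := by
  constructor
  · refine (injective_iff_map_eq_zero _).2 fun x hx => funext fun k => ?_
    choose w hw using fun i => QuotientAddGroup.mk_surjective (x i)
    have h : ∀ i, ∃ v, T v = w i - fN (w (i + 1)) := fun i => by
      have : QuotientAddGroup.mk (s := T.range) (w i - fN (w (i + 1))) = 0 := by
        rw [QuotientAddGroup.mk_sub, ← hQ, hw, hw]
        exact congrFun hx i
      exact (QuotientAddGroup.eq_zero_iff _).1 this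
    choose v hv using h
    obtain ⟨v', hv'⟩ := hM.2 v
    have hw' : (fun i => T (v' i)) = w := hN.1 (funext fun i => by
      show T (v' i) - fN (T (v' (i + 1))) = w i - fN (w (i + 1))
      rw [← hc, ← map_sub, ← hv]
      exact congrArg T (congrFun hv' i))
    rw [← hw k, ← congrFun hw' k]
    exact (QuotientAddGroup.eq_zero_iff _).2 ⟨_, rfl⟩
  · intro y
    choose z hz using fun i => QuotientAddGroup.mk_surjective (y i)
    obtain ⟨w, hw⟩ := hN.2 z
    refine ⟨fun i => QuotientAddGroup.mk (w i), funext fun i => ?_⟩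
    show QuotientAddGroup.mk (w i) - fQ (QuotientAddGroup.mk (w (i + 1))) = y i
    rw [hQ, ← QuotientAddGroup.mk_sub, ← hz]
    exact congrArg _ (congrFun hw i)

/-- A group on which the shift inverts `f + g` is zero when both telescopes are bijective. -/
lemma subsingleton_of_shift {f g s : M →+ M} (hf : TB f) (hg : TB g) (hfs : ∀ m, f (s m) = s (f m))
    (hgs : ∀ m, g (s m) = s (g m)) (h : ∀ m, f (s m) + g (s m) = m) : Subsingleton M :=
  subsingleton_of_complement (tb_comp hf hfs) (tb_comp hg hgs) h

theorem tb_add {f g : M →+ M} (hf : TB f) (hg : TB g) (hfg : ∀ m, f (g m) = g (f m)) : TB (f + g) := by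
  let T := Tel (f + g)
  let F := f.compLeft ℕ
  let G := g.compLeft ℕ
  let σ : (ℕ → M) →+ (ℕ → M) :=
    { toFun := fun x k => x (k + 1), map_zero' := rfl, map_add' := fun _ _ => rfl }
  have cF : ∀ x, T (F x) = F (T x) := fun x => funext fun k => by
    show f (x k) - (f (f (x (k + 1))) + g (f (x (k + 1)))) = f (x k - (f (x (k + 1)) + g (x (k + 1))))
    rw [map_sub, map_add, hfg]
  have cG : ∀ x, T (G x) = G (T x) := fun x => funext fun k => by
    show g (x k) - (f (g (x (k + 1))) + g (g (x (k + 1)))) = g (x k - (f (x (k + 1)) + g (x (k + 1))))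
    rw [map_sub, map_add, hfg]
  have cs : ∀ x, T (σ x) = σ (T x) := fun x => rfl
  have e : ∀ x, x - (F (σ x) + G (σ x)) = T x := fun x => rfl
  let onKer : ∀ h : (ℕ → M) →+ (ℕ → M), (∀ x, T (h x) = h (T x)) → (T.ker →+ T.ker) := fun h hh =>
    AddMonoidHom.mk' (fun x => ⟨h x.1, by rw [AddMonoidHom.mem_ker, hh, x.2, map_zero]⟩)
      fun x y => Subtype.ext (map_add h x.1 y.1)
  have hker : Subsingleton T.ker :=
    subsingleton_of_shift (s := onKer σ cs)
      (tb_ker (fun m => (cF m)) (tb_pi hf) (tb_pi hf) (onKer F cF) fun _ => rfl)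
      (tb_ker (fun m => (cG m)) (tb_pi hg) (tb_pi hg) (onKer G cG) fun _ => rfl)
      (fun _ => Subtype.ext rfl) (fun _ => Subtype.ext rfl)
      (fun x => Subtype.ext (sub_eq_zero.1 ((e x.1).trans x.2)).symm)
  have hinj : Function.Injective T := (injective_iff_map_eq_zero _).2 fun x hx =>
    congrArg Subtype.val (hker.elim ⟨x, hx⟩ 0)
  let onQ : ∀ h : (ℕ → M) →+ (ℕ → M), (∀ x, T (h x) = h (T x)) →
      ((ℕ → M) ⧸ T.range →+ (ℕ → M) ⧸ T.range) := fun h hh =>
    QuotientAddGroup.map T.range T.range h (by rintro _ ⟨x, rfl⟩; exact ⟨h x, hh x⟩)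
  have hq : Subsingleton ((ℕ → M) ⧸ T.range) :=
    subsingleton_of_shift (s := onQ σ cs)
      (tb_coker hinj (fun m => (cF m)) (tb_pi hf) (tb_pi hf) (onQ F cF) fun _ => rfl)
      (tb_coker hinj (fun m => (cG m)) (tb_pi hg) (tb_pi hg) (onQ G cG) fun _ => rfl)
      (fun q => QuotientAddGroup.induction_on q fun x => rfl)
      (fun q => QuotientAddGroup.induction_on q fun x => rfl)
      (fun q => QuotientAddGroup.induction_on q fun x => by
        show QuotientAddGroup.mk (F (σ x) + G (σ x)) = QuotientAddGroup.mk x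
        refine (QuotientAddGroup.eq.2 ⟨x, ?_⟩)
        rw [← e, neg_add_eq_sub])
  exact ⟨hinj, fun y => (QuotientAddGroup.eq_zero_iff y).1 (hq.elim _ _)⟩

lemma tb_of_injective_surjective {M' : Type v} [AddCommGroup M'] (φ : M ≃+ M') {f : M →+ M} {f' : M' →+ M'}
    (h : ∀ m, φ (f m) = f' (φ m)) (hf : TB f) : TB f' := by
  constructor
  · refine (injective_iff_map_eq_zero _).2 fun x hx => funext fun k => φ.symm.injective ?_
    rw [Pi.zero_apply, map_zero]
    refine hf.eq_zero (fun i => φ.symm (x i)) (fun i => φ.injective ?_) k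
    rw [h, φ.apply_symm_apply, φ.apply_symm_apply]
    exact sub_eq_zero.1 (congrFun hx i)
  · intro y
    obtain ⟨w, hw⟩ := hf.2 fun i => φ.symm (y i)
    refine ⟨fun i => φ (w i), funext fun i => ?_⟩
    show φ (w i) - f' (φ (w (i + 1))) = y i
    rw [← h, ← map_sub]
    exact (congrArg φ (congrFun hw i)).trans (φ.apply_symm_apply _)

end Groth.Agent.H9Misc.TelBij
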