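import Groth.Prelude.Def_SiteCmp
import Groth.Agent.H9Misc.LeftAdjExists
import Groth.Agent.SiteBase.ExtMod
import Groth.Agent.SiteBase.PushAcyclic

/-! The unbounded derived direct image of modules has a left adjoint. -/

universe u

open CategoryTheory CategoryTheory.Limits Opposite

attribute [local instance] HasDerivedCategory.standard

namespace Groth.Agent.H9Misc.RpushLeftAdj

variable {C D : Type u} [SmallCategory C] [SmallCategory D]
  {J : GrothendieckTopology C} {K : GrothendieckTopology D}
  {O_C : Sheaf J CommRingCat.{u}} {O_D : Sheaf K CommRingCat.{u}} (f : ModSite.RMor O_C O_D)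

lemma isTotallyAcyclic_push (E : ModSite.Mod O_C) [Injective E] :
    CohCx.IsTotallyAcyclic ((SheafOfModules.toSheaf _).obj (f.push.obj E)) :=
  SiteBase.isTotallyAcyclic_push f.fn _
    (SiteBase.isTotallyAcyclic_toSheaf_injective (ModSite.ringSh O_C) E)

theorem exists_good (M : ModSite.Mod O_D) :
    ∃ (P : ModSite.Mod O_D) (π : P ⟶ M), LeftAdjExists.Good f.push P ∧ Epi π := by
  let R := ModSite.ringSh O_D
  let S : Sheaf K (Type u) :=
    (sheafCompose K (CategoryTheory.forget AddCommGrpCat.{u})).obj ((SheafOfModules.toSheaf R).obj M)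
  refine ⟨(SiteBase.freeModSh R).obj S, (SiteBase.freeModAdj R).counit.app M, fun E hE n => ?_, ?_⟩
  · obtain ⟨e⟩ := SiteBase.nonempty_ext_freeMod_addEquiv (R := R) S (f.push.obj E) (n + 1)
    have := isTotallyAcyclic_push f E S n
    exact e.toEquiv.subsingleton
  · have h1 : (SheafOfModules.forget R ⋙ PresheafOfModules.restrictScalars (𝟙 R.obj)).Faithful :=
      inferInstance
    have h2 : (PresheafOfModules.toPresheaf R.obj).Faithful := inferInstance
    have h3 : ((Functor.whiskeringRight Dᵒᵖ AddCommGrpCat.{u} (Type u)).obj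
        (CategoryTheory.forget AddCommGrpCat.{u})).Faithful := inferInstance
    have h : ((SheafOfModules.forget R ⋙ PresheafOfModules.restrictScalars (𝟙 R.obj)) ⋙
        PresheafOfModules.toPresheaf R.obj ⋙
          (Functor.whiskeringRight Dᵒᵖ AddCommGrpCat.{u} (Type u)).obj
            (CategoryTheory.forget AddCommGrpCat.{u})).Faithful :=
      @Functor.Faithful.comp _ _ _ _ _ _ _ _ h1 (@Functor.Faithful.comp _ _ _ _ _ _ _ _ h2 h3)
    exact (@Adjunction.counit_epi_of_R_faithful _ _ _ _ _ _ (SiteBase.freeModAdj R) h M :)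

theorem isRightAdjoint_RpushD [SiteCmp.HasRpushD f] : (SiteCmp.RpushD f).IsRightAdjoint :=
  LeftAdjExists.isRightAdjoint_totalRightDerived f.adj (exists_good f)

end Groth.Agent.H9Misc.RpushLeftAdj
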