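import Groth.Agent.H9Misc.FaithfulLeftAdj
import Mathlib.CategoryTheory.Abelian.GrothendieckCategory.Basic
import Mathlib.CategoryTheory.Generator.Basic

/-! Grothendieck abelian categories through faithful exact left adjoints. -/

universe w u₁ u₂

open CategoryTheory Category Limits

namespace Groth.Agent.H9Misc.FaithfulLeftAdj

variable {A : Type u₁} [Category.{w} A] [Abelian A] [HasColimitsOfSize.{w, w} A]
  {B : Type u₂} [Category.{w} B] [Abelian B] [HasColimitsOfSize.{w, w} B] [AB5OfSize.{w, w} B]
  {ι : Type w} {s : ι → B}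
  (hsep : ∀ ⦃X Y : B⦄ (f g : X ⟶ Y), (∀ (i : ι) (h : s i ⟶ X), h ≫ f = h ≫ g) → f = g)

include hsep in
lemma isGrothendieckAbelian : IsGrothendieckAbelian.{w} B := by
  have : HasSeparator B := ⟨⟨∐ s, (isSeparator_def _).2 fun X Y f g h => hsep f g fun i φ => by
    classical
    have := congrArg (Sigma.ι s i ≫ ·) (h (Sigma.desc fun j => if e : j = i then eqToHom (congrArg s e) ≫ φ else 0))
    simpa using this⟩⟩
  exact { }

variable (F : A ⥤ B) (G : B ⥤ A) (adj : F ⊣ G) [F.Additive] [F.Faithful]
  [PreservesFiniteLimits F] [PreservesFiniteColimits F] [PreservesFilteredColimitsOfSize.{w, w} G]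

include hsep adj in
theorem isGrothendieckAbelian_source : IsGrothendieckAbelian.{w} A := by
  have := isGrothendieckAbelian hsep
  have : ∀ a : A, Small.{w} (Subobject a) := fun a => small_subobject F a
  have := ab5 F G adj
  have : HasSeparator A := ⟨⟨∐ famObj G s, (isSeparator_def _).2 fun X Y f g h =>
    fam_separates F G adj s hsep (fun _ => True) (fun _ h => h) (fun _ _ => trivial) f g fun k _ φ => by
      classical
      have := congrArg (Sigma.ι (famObj G s) k ≫ ·)
        (h (Sigma.desc fun j => if e : j = k then eqToHom (congrArg (famObj G s) e) ≫ φ else 0))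
      simpa using this⟩⟩
  exact { }

include hsep adj in
theorem exists_noetherian_family (hsN : ∀ i, IsNoetherianObject (s i)) :
    ∃ (κ : Type w) (t : κ → A), (∀ k, IsNoetherianObject (t k)) ∧
      ∀ ⦃X Y : A⦄ (f g : X ⟶ Y), (∀ (k : κ) (h : t k ⟶ X), h ≫ f = h ≫ g) → f = g := by
  have := isGrothendieckAbelian hsep
  have : ∀ a : A, Small.{w} (Subobject a) := fun a => small_subobject F a
  refine ⟨{ k : Fam G s // IsNoetherianObject (famObj G s k) }, fun k => famObj G s k.1, fun k => k.2, fun X Y f g h => ?_⟩
  refine fam_separates F G adj s hsep (fun a => IsNoetherianObject a)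
    (fun e h => have := h; isNoetherianObject_of_mono e.inv) (fun a J => ?_) f g (fun k hk φ => h ⟨k, hk⟩ φ)
  have := isNoetherianObject_cov F s hsN a J
  have : IsNoetherianObject (F.obj ((piece F G adj s a).obj J)) :=
    @isNoetherianObject_of_mono _ _ _ _
      (F.map ((pullback.snd (unitConst F G adj s a) (gHom F G s a)).app J) ≫ adj.counit.app _)
      (mono_piece F G adj s a J).2.2 this
  exact isNoetherianObject_of_map F _

end Groth.Agent.H9Misc.FaithfulLeftAdj
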