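import Groth.Agent.H9Misc.SupportsCore
import Groth.Agent.ModTensor.ExtZero
import Groth.Agent.SiteBase.ExtCompare
import Groth.Agent.SiteBase.ModGroth
import Mathlib.CategoryTheory.Abelian.GrothendieckCategory.EnoughInjectives

/-!
# Restriction to a localised site is exact and compares Ext groups
-/

universe w' w u

open CategoryTheory CategoryTheory.Limits Opposite Abelian

namespace Groth.Agent.SuppCore

variable {C : Type u} [SmallCategory C] {J : GrothendieckTopology C} {O : Sheaf J CommRingCat.{u}} (U : C)

/-- Restriction preserves epimorphisms. -/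
theorem epi_restr_map {M N : ModSite.Mod O} (f : M ⟶ N) [Epi f] : Epi ((ModSite.restr O U).map f) := by
  let g := (SheafOfModules.toSheaf (ModSite.ringSh (O.over U))).map ((ModSite.restr O U).map f)
  suffices h : Epi g from (SheafOfModules.toSheaf (ModSite.ringSh (O.over U))).epi_of_epi_map h
  have hloc : Sheaf.IsLocallySurjective g := ⟨fun {Y} s => by
    obtain ⟨S, hS, hlift⟩ := exists_cover_lift f (W := Y.left) s
    rw [GrothendieckTopology.mem_over_iff]
    refine J.superset_covering (fun W' k hk => ?_) hS
    obtain ⟨x, hx⟩ := hlift k hk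
    exact (Sieve.overEquiv_iff _ k).2 ⟨x, hx⟩⟩
  exact (Sheaf.isLocallySurjective_iff_epi' _ g).1 hloc

/-- Restriction is exact. -/
theorem preservesFiniteColimits_restr : PreservesFiniteColimits (ModSite.restr O U) := by
  have : (ModSite.restr O U).PreservesEpimorphisms := ⟨fun f _ => epi_restr_map U f⟩
  have : PreservesLimitsOfSize.{0, 0} (ModSite.restr O U) :=
    (ModSite.extZeroAdj O U).rightAdjoint_preservesLimits
  have : PreservesFiniteLimits (ModSite.restr O U) := ⟨fun _ => inferInstance⟩
  have : (ModSite.restr O U).PreservesHomology := Functor.preservesHomology_of_preservesEpis_and_kernels _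
  exact (ModSite.restr O U).preservesFiniteColimits_of_preservesHomology

/-- `Ext(M_U, N) ≅ Ext(M|_U, N|_U)`. -/
theorem nonempty_ext_openMod_addEquiv [HasExt.{w} (ModSite.Mod O)] [HasExt.{w'} (ModSite.Mod (O.over U))]
    (M N : ModSite.Mod O) (i : ℕ) :
    Nonempty (Abelian.Ext.{w} (ExtSupp.openMod U M) N i ≃+
      Abelian.Ext.{w'} ((ModSite.restr O U).obj M) ((ModSite.restr O U).obj N) i) := by
  have := preservesFiniteColimits_restr (O := O) U
  have : (ModSite.extZero O U).PreservesMonomorphisms := ⟨fun f _ => ModTensor.mono_extZero_map O U f⟩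
  exact SiteBase.nonempty_ext_addEquiv_of_adjunction (ModSite.extZeroAdj O U) (Iso.refl _) i N

end Groth.Agent.SuppCore
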