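import Groth.Agent.H9Misc.DerCompTel
import Groth.Agent.H9Misc.TelLocal
import Groth.Agent.H9Misc.RestrExt
import Groth.Agent.TriCat.KInjRes

/-! The sections `f` with bijective telescopes on an object of `D(O)` form a sheaf of ideals. -/

universe u

open CategoryTheory CategoryTheory.Category CategoryTheory.Limits Opposite
open Groth.Agent.H9Misc.DerCompTel

attribute [local instance] HasDerivedCategory.standard

namespace Groth.Agent.H9Misc.DerCompIdeal

variable {C : Type u} [SmallCategory C] {J : GrothendieckTopology C} {O : Sheaf J CommRingCat.{u}}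

lemma smulEnd_freeOn (s : DerComp.GSec O) (W : C) :
    DerComp.smulEnd s (ModSite.freeOn O W) = mulOn W (s.1 W) := by
  refine (comp_id _).symm.trans (Eq.trans ((secOn W _).injective ?_) (comp_id _))
  exact (congrArg (secOn W _) (DerComp.smulEnd_comm s (𝟙 _))).trans
    ((secOn_comp W (𝟙 _) _).trans (secOn_mulOn W (s.1 W) (𝟙 _)).symm)

lemma ofSect_add (U : C) (f g : O.obj.obj (op U)) :
    DerComp.GSec.ofSect O U (f + g) = DerComp.GSec.ofSect O U f + DerComp.GSec.ofSect O U g :=
  Subtype.ext (funext fun _ => map_add _ f g)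

lemma ofSect_mul (U : C) (f g : O.obj.obj (op U)) :
    DerComp.GSec.ofSect O U (f * g) = DerComp.GSec.ofSect O U f * DerComp.GSec.ofSect O U g :=
  Subtype.ext (funext fun _ => map_mul _ f g)

lemma ofSect_zero (U : C) : DerComp.GSec.ofSect O U 0 = 0 :=
  Subtype.ext (funext fun _ => map_zero _)

lemma mulOn_add (U : C) (f g : O.obj.obj (op U)) : mulOn U (f + g) = mulOn U f + mulOn U g := by
  unfold mulOn
  rw [ofSect_add, DerComp.smulEnd_add, Functor.map_add]

lemma mulOn_mul (U : C) (f g : O.obj.obj (op U)) : mulOn U (f * g) = mulOn U f ≫ mulOn U g := by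
  unfold mulOn
  rw [ofSect_mul, ← DerComp.smulEnd_comp, Functor.map_comp]

lemma mulOn_zero (U : C) : mulOn U (0 : O.obj.obj (op U)) = 0 := by
  unfold mulOn
  rw [ofSect_zero, DerComp.smulEnd_zero, Functor.map_zero]

section TB

universe w v u'

variable {A : Type u'} [Category.{v} A] [Abelian A] [HasDerivedCategory.{w} A]

lemma mu_add (F : A) (u v : F ⟶ F) (Y : DerivedCategory A) :
    TelOrth.mu F (u + v) Y = TelOrth.mu F u Y + TelOrth.mu F v Y := by
  ext x
  show (DerivedCategory.singleFunctor A 0).map (u + v) ≫ x =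
    (DerivedCategory.singleFunctor A 0).map u ≫ x + (DerivedCategory.singleFunctor A 0).map v ≫ x
  rw [Functor.map_add, Preadditive.add_comp]

lemma mu_zero (F : A) (Y : DerivedCategory A) : TelOrth.mu F (0 : F ⟶ F) Y = 0 := by
  ext x
  show (DerivedCategory.singleFunctor A 0).map (0 : F ⟶ F) ≫ x = 0
  rw [Functor.map_zero, zero_comp]

lemma mu_comp (F : A) (u v : F ⟶ F) (Y : DerivedCategory A) :
    TelOrth.mu F (u ≫ v) Y = (TelOrth.mu F u Y).comp (TelOrth.mu F v Y) := by
  ext x
  show (DerivedCategory.singleFunctor A 0).map (u ≫ v) ≫ x =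
    (DerivedCategory.singleFunctor A 0).map u ≫ (DerivedCategory.singleFunctor A 0).map v ≫ x
  rw [Functor.map_comp, assoc]

lemma mu_comm {F : A} {u v : F ⟶ F} (h : u ≫ v = v ≫ u) (Y : DerivedCategory A) :
    ∀ m, TelOrth.mu F u Y (TelOrth.mu F v Y m) = TelOrth.mu F v Y (TelOrth.mu F u Y m) := fun m =>
  (congrArg (fun t : _ →+ _ => t m) ((mu_comp F u v Y).symm.trans ((congrArg (TelOrth.mu F · Y) h).trans
    (mu_comp F v u Y))) :)

lemma tbOn_zero (F : A) (K : DerivedCategory A) : TelOrth.TBOn F (0 : F ⟶ F) K := fun n => by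
  rw [mu_zero]
  exact TelBij.tb_zero

lemma tbOn_add {F : A} {u v : F ⟶ F} {K : DerivedCategory A} (h : u ≫ v = v ≫ u)
    (hu : TelOrth.TBOn F u K) (hv : TelOrth.TBOn F v K) : TelOrth.TBOn F (u + v) K := fun n => by
  rw [mu_add]
  exact TelBij.tb_add (hu n) (hv n) (mu_comm h _)

lemma tbOn_comp {F : A} {u v : F ⟶ F} {K : DerivedCategory A} (h : u ≫ v = v ≫ u)
    (hu : TelOrth.TBOn F u K) : TelOrth.TBOn F (u ≫ v) K := fun n => by
  rw [mu_comp]
  exact TelBij.tb_comp (hu n) (mu_comm h _)

lemma tbOn_of_iso {F F' : A} (e : F ≅ F') {u : F ⟶ F} {u' : F' ⟶ F'} (he : e.hom ≫ u' = u ≫ e.hom)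
    {K : DerivedCategory A} (h : TelOrth.TBOn F u K) : TelOrth.TBOn F' u' K := fun n =>
  TelBij.tb_of_injective_surjective
    { toFun := fun x => ((DerivedCategory.singleFunctor A 0).mapIso e).inv ≫ x
      invFun := fun x => ((DerivedCategory.singleFunctor A 0).mapIso e).hom ≫ x
      left_inv := fun x => Iso.hom_inv_id_assoc _ x
      right_inv := fun x => Iso.inv_hom_id_assoc _ x
      map_add' := fun x y => Preadditive.comp_add _ _ _ _ x y }
    (fun x => show (DerivedCategory.singleFunctor A 0).map e.inv ≫ (DerivedCategory.singleFunctor A 0).map u ≫ x =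
      (DerivedCategory.singleFunctor A 0).map u' ≫ (DerivedCategory.singleFunctor A 0).map e.inv ≫ x by
      rw [← assoc, ← Functor.map_comp, ← assoc, ← Functor.map_comp,
        show e.inv ≫ u = u' ≫ e.inv by rw [Iso.eq_comp_inv, assoc, ← he, Iso.inv_hom_id_assoc]])
    (h n)

end TB

section OverExt

variable (U : C) (Y : Over U)

/-- Sections over `Y.left` as morphisms out of `j_{U!}` of the free module on `Y`. -/
noncomputable def secExt (F : ModSite.Mod O) :
    ((ModSite.extZero O U).obj (ModSite.freeOn (O.over U) Y) ⟶ F) ≃ ModSite.sect F Y.left :=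
  ((ModSite.extZeroAdj O U).homEquiv _ F).trans (secOn Y ((ModSite.restr O U).obj F))

lemma secExt_comp {F G : ModSite.Mod O} (φ : (ModSite.extZero O U).obj (ModSite.freeOn (O.over U) Y) ⟶ F)
    (g : F ⟶ G) : secExt U Y G (φ ≫ g) = (g.val.app (op Y.left)).hom (secExt U Y F φ) :=
  (congrArg (secOn Y _) ((ModSite.extZeroAdj O U).homEquiv_naturality_right φ g)).trans
    (secOn_comp Y _ ((ModSite.restr O U).map g))

lemma secExt_smulEnd (s : DerComp.GSec (O.over U)) {F : ModSite.Mod O}
    (φ : (ModSite.extZero O U).obj (ModSite.freeOn (O.over U) Y) ⟶ F) :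
    secExt U Y F ((ModSite.extZero O U).map (DerComp.smulEnd s (ModSite.freeOn (O.over U) Y)) ≫ φ) =
      (show (ModSite.ringSh O).obj.obj (op Y.left) from s.1 Y) • secExt U Y F φ := by
  refine (congrArg (secOn Y _) (((ModSite.extZeroAdj O U).homEquiv_naturality_left _ φ).trans
    (DerComp.smulEnd_comm s _))).trans ?_
  exact secOn_comp Y _ _

/-- `j_{U!}` of the free module on `Y` is the free module on `Y.left`. -/
noncomputable def extFreeIso :
    (ModSite.extZero O U).obj (ModSite.freeOn (O.over U) Y) ≅ ModSite.freeOn O Y.left where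
  hom := (secExt U Y _).symm (secOn Y.left _ (𝟙 _))
  inv := (secOn Y.left _).symm (secExt U Y _ (𝟙 _))
  hom_inv_id := (secExt U Y _).injective ((secExt_comp U Y _ _).trans (by
    rw [Equiv.apply_symm_apply]
    exact ((secOn_comp Y.left (𝟙 _) _).symm.trans (congrArg (secOn Y.left _) (id_comp _))).trans
      (Equiv.apply_symm_apply _ _)))
  inv_hom_id := (secOn Y.left _).injective ((secOn_comp Y.left _ _).trans (by
    rw [Equiv.apply_symm_apply]
    exact ((secExt_comp U Y (𝟙 _) _).symm.trans (congrArg (secExt U Y _) (id_comp _))).trans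
      (Equiv.apply_symm_apply _ _)))

lemma extFreeIso_comm (f : O.obj.obj (op U)) :
    (extFreeIso U Y).hom ≫ mulOn Y.left ((O.obj.map Y.hom.op).hom f) =
      (ModSite.extZero O U).map (DerComp.smulEnd (DerComp.GSec.ofSect O U f) (ModSite.freeOn (O.over U) Y)) ≫
        (extFreeIso U Y).hom := by
  refine (secExt U Y _).injective ?_
  refine (secExt_comp U Y _ _).trans (Eq.trans ?_ (secExt_smulEnd U Y _ _).symm)
  have e : secExt U Y (ModSite.freeOn O Y.left) (extFreeIso U Y).hom = secOn Y.left _ (𝟙 _) := Equiv.apply_symm_apply _ _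
  rw [e]
  refine (secOn_comp Y.left (𝟙 _) _).symm.trans ?_
  exact (congrArg (secOn Y.left _) ((id_comp _).trans (comp_id _).symm)).trans (secOn_mulOn Y.left _ _)

end OverExt

/-- Bijectivity of telescopes is local. -/
theorem tbOn_local (K : DerivedCategory (ModSite.Mod O)) (U : C) (f : O.obj.obj (op U)) (S : Sieve U)
    (hS : S ∈ J U) (h : ∀ ⦃V : C⦄ (g : V ⟶ U), S g →
      TelOrth.TBOn (ModSite.freeOn O V) (mulOn V ((O.obj.map g.op).hom f)) K) :
    TelOrth.TBOn (ModSite.freeOn O U) (mulOn U f) K := by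
  have := ModTensor.preservesFiniteLimits_extZero O U
  have := ModTensor.preservesFiniteColimits_extZero O U
  have := SuppCore.preservesFiniteColimits_restr (O := O) U
  have : PreservesLimitsOfSize.{0, 0} (ModSite.restr O U) :=
    (ModSite.extZeroAdj O U).rightAdjoint_preservesLimits
  have : PreservesFiniteLimits (ModSite.restr O U) := ⟨fun _ => inferInstance⟩
  have : (ModSite.restr O U).Additive := (ModSite.extZeroAdj O U).right_adjoint_additive
  have : HasLimitsOfShape (Discrete ℕ) (DerivedCategory (ModSite.Mod (O.over U))) :=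
    TriCat.hasProductsOfShape_derivedCategory fun L => by
      obtain ⟨I, i, hI, hi, -, -⟩ := TriCat.exists_kInjective_resolution'.{u} L
      exact ⟨I, i, hI, hi⟩
  let s := DerComp.GSec.ofSect O U f
  refine (TelLocal.tbOn_map_iff (ModSite.extZeroAdj O U) (ModSite.unit (O.over U))
    (DerComp.smulEnd s (ModSite.unit (O.over U))) K).2 ?_
  rw [show DerComp.smulEnd s (ModSite.unit (O.over U)) = s • 𝟙 _ from (comp_id _).symm]
  let G : Set (Over U) := {Y | S Y.hom}
  refine TelLocal.tbOn_of_separating s _ (ObjectProperty.ofObj fun X : G => ModSite.freeOn (O.over U) (X : Over U))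
    (ModTensor.isSeparating_freeOn G fun X => ?_) (fun P hP => ?_) _
  · let T : Sieve X := (Sieve.overEquiv X).symm (Sieve.pullback X.hom S)
    refine ⟨Σ Y : Over U, {g : Y ⟶ X // T g}, fun i => i.1, fun i => i.2.1, ?_, fun i => ?_⟩
    · refine (J.over U).superset_covering ?_ (GrothendieckTopology.overEquiv_symm_mem_over J X _
        (J.pullback_stable X.hom hS))
      exact fun Y g hg => Sieve.ofArrows_mk _ _ (⟨Y, g, hg⟩ : Σ Y : Over U, {g : Y ⟶ X // T g})
    · have h' : S (i.2.1.left ≫ X.hom) := (Sieve.overEquiv_symm_iff _ _).1 i.2.2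
      show S i.1.hom
      rwa [Over.w i.2.1] at h'
  · obtain ⟨⟨Y, hY⟩⟩ := hP
    show TelOrth.TBOn (ModSite.freeOn (O.over U) Y) (s • 𝟙 _) _
    rw [show s • 𝟙 (ModSite.freeOn (O.over U) Y) = DerComp.smulEnd s _ from comp_id _]
    refine (TelLocal.tbOn_map_iff (ModSite.extZeroAdj O U) _ _ K).1 ?_
    exact tbOn_of_iso (extFreeIso U Y).symm
      ((Iso.inv_comp_eq _).2 ((comp_id _).symm.trans (congrArg (_ ≫ ·) (Iso.hom_inv_id _).symm) |>.trans
        ((assoc _ _ _).symm.trans ((congrArg (· ≫ _) (extFreeIso_comm U Y f).symm).trans (assoc _ _ _)))))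
      (h Y.hom hY)

variable (O)

/-- The sheaf of ideals of sections with bijective telescopes on `K`. -/
def telIdeal (K : DerivedCategory (ModSite.Mod O)) : DerComp.IdealSh O where
  ideal U :=
    { carrier := {f | ∀ ⦃V : C⦄ (g : V ⟶ U),
        TelOrth.TBOn (ModSite.freeOn O V) (mulOn V ((O.obj.map g.op).hom f)) K}
      add_mem' := fun {a b} ha hb V g => by
        rw [map_add, mulOn_add]
        exact tbOn_add (by rw [← mulOn_mul, ← mulOn_mul, mul_comm]) (ha g) (hb g)
      zero_mem' := fun V g => by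
        rw [map_zero, mulOn_zero]
        exact tbOn_zero _ _
      smul_mem' := fun c a ha V g => by
        rw [smul_eq_mul, map_mul, mul_comm, mulOn_mul]
        exact tbOn_comp (by rw [← mulOn_mul, ← mulOn_mul, mul_comm]) (ha g) }
  map_mem {U V} g f hf W h := by
    have e : (O.obj.map h.op).hom ((O.obj.map g.op).hom f) = (O.obj.map (h ≫ g).op).hom f := by
      rw [op_comp, Functor.map_comp]; rfl
    rw [e]
    exact hf (h ≫ g)
  glue {U f} S hS hf W g := by
    refine tbOn_local K W _ (S.pullback g) (J.pullback_stable g hS) fun V h hh => ?_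
    have e : (O.obj.map h.op).hom ((O.obj.map g.op).hom f) =
        (O.obj.map (𝟙 V).op).hom ((O.obj.map (h ≫ g).op).hom f) := by
      rw [op_id, CategoryTheory.Functor.map_id, op_comp, Functor.map_comp]; rfl
    rw [e]
    exact hf (h ≫ g) hh (𝟙 V)

variable {O}

lemma mem_telIdeal {K : DerivedCategory (ModSite.Mod O)} {U : C} {f : O.obj.obj (op U)} :
    f ∈ (telIdeal O K).ideal U ↔ ∀ ⦃V : C⦄ (g : V ⟶ U),
      TelOrth.TBOn (ModSite.freeOn O V) (mulOn V ((O.obj.map g.op).hom f)) K := Iff.rfl

/-- Derived completeness says that the telescope ideal contains the given one. -/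
theorem isDerComp_iff_le (I : DerComp.IdealSh O) (K : DerivedCategory (ModSite.Mod O)) :
    DerComp.IsDerComp O I K ↔ I ≤ telIdeal O K := by
  refine ⟨fun h U f hf V g => (isDerComp_iff I K).1 h V _ (I.map_mem g hf),
    fun h => (isDerComp_iff I K).2 fun U f hf => ?_⟩
  have h' := h U hf (𝟙 U)
  rwa [show (O.obj.map (𝟙 U).op).hom f = f by rw [op_id, CategoryTheory.Functor.map_id]; rfl] at h'

end Groth.Agent.H9Misc.DerCompIdeal
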