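import Groth.Agent.H9Misc.DerCompIdeal
import Groth.Agent.H9Misc.TelTransfer
import Groth.Agent.H9Misc.RpushLeftAdj

/-! Telescopes and derived direct images along morphisms of ringed sites. -/

universe u

open CategoryTheory CategoryTheory.Category CategoryTheory.Limits Opposite
open Groth.Agent.H9Misc.DerCompTel

attribute [local instance] HasDerivedCategory.standard

namespace Groth.Agent.H9Misc.DerCompPush

section Corepr

variable {C : Type u} [SmallCategory C] {J : GrothendieckTopology C} {O : Sheaf J CommRingCat.{u}}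
  {W : C} {E : ModSite.Mod O} (s : ∀ F : ModSite.Mod O, (E ⟶ F) ≃ ModSite.sect F W)
  (hs : ∀ {F G : ModSite.Mod O} (φ : E ⟶ F) (g : F ⟶ G), s G (φ ≫ g) = (g.val.app (op W)).hom (s F φ))

include hs in
/-- An object corepresenting sections over `W` is the free module on `W`. -/
noncomputable def freeIso : E ≅ ModSite.freeOn O W where
  hom := (s _).symm (secOn W _ (𝟙 _))
  inv := (secOn W _).symm (s _ (𝟙 _))
  hom_inv_id := (s _).injective ((hs _ _).trans (by
    rw [Equiv.apply_symm_apply]
    exact ((secOn_comp W (𝟙 _) _).symm.trans (congrArg (secOn W _) (id_comp _))).trans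
      (Equiv.apply_symm_apply _ _)))
  inv_hom_id := (secOn W _).injective ((secOn_comp W _ _).trans (by
    rw [Equiv.apply_symm_apply]
    exact ((hs (𝟙 _) _).symm.trans (congrArg (s _) (id_comp _))).trans (Equiv.apply_symm_apply _ _)))

include hs in
lemma freeIso_comm (a : O.obj.obj (op W)) (u : E ⟶ E)
    (hu : ∀ {F : ModSite.Mod O} (φ : E ⟶ F),
      s F (u ≫ φ) = (show (ModSite.ringSh O).obj.obj (op W) from a) • s F φ) :
    (freeIso s hs).hom ≫ mulOn W a = u ≫ (freeIso s hs).hom := by
  refine (s _).injective ((hs _ _).trans (Eq.trans ?_ (hu _).symm))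
  have e : s (ModSite.freeOn O W) (freeIso s hs).hom = secOn W _ (𝟙 _) := Equiv.apply_symm_apply _ _
  rw [e]
  refine (secOn_comp W (𝟙 _) _).symm.trans ?_
  exact (congrArg (secOn W _) ((id_comp _).trans (comp_id _).symm)).trans (secOn_mulOn W _ _)

end Corepr

variable {C D : Type u} [SmallCategory C] [SmallCategory D]
  {J : GrothendieckTopology C} {K : GrothendieckTopology D}
  {O_C : Sheaf J CommRingCat.{u}} {O_D : Sheaf K CommRingCat.{u}} (f : ModSite.RMor O_C O_D)

/-- Morphisms out of the inverse image of a free module as sections. -/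
noncomputable def secPull (V : D) (F : ModSite.Mod O_C) :
    (f.pull.obj (ModSite.freeOn O_D V) ⟶ F) ≃ ModSite.sect F (f.fn.obj V) :=
  (f.adj.homEquiv _ F).trans (secOn V (f.push.obj F))

lemma secPull_comp (V : D) {F G : ModSite.Mod O_C} (φ : f.pull.obj (ModSite.freeOn O_D V) ⟶ F) (g : F ⟶ G) :
    secPull f V G (φ ≫ g) = (g.val.app (op (f.fn.obj V))).hom (secPull f V F φ) :=
  (congrArg (secOn V _) (f.adj.homEquiv_naturality_right φ g)).trans (secOn_comp V _ (f.push.map g))

lemma secPull_mulOn (V : D) (a : O_D.obj.obj (op V)) {F : ModSite.Mod O_C}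
    (φ : f.pull.obj (ModSite.freeOn O_D V) ⟶ F) :
    secPull f V F (f.pull.map (mulOn V a) ≫ φ) =
      (show (ModSite.ringSh O_C).obj.obj (op (f.fn.obj V)) from (f.sharp.hom.app (op V)).hom a) •
        secPull f V F φ :=
  (congrArg (secOn V _) (f.adj.homEquiv_naturality_left _ φ)).trans (secOn_mulOn V a _)

/-- The inverse image of a free module is free. -/
noncomputable def pullFreeIso (V : D) :
    f.pull.obj (ModSite.freeOn O_D V) ≅ ModSite.freeOn O_C (f.fn.obj V) :=
  freeIso (secPull f V) (secPull_comp f V)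

lemma pullFreeIso_comm (V : D) (a : O_D.obj.obj (op V)) :
    (pullFreeIso f V).hom ≫ mulOn (f.fn.obj V)
        (show O_C.obj.obj (op (f.fn.obj V)) from (f.sharp.hom.app (op V)).hom a) =
      f.pull.map (mulOn V a) ≫ (pullFreeIso f V).hom :=
  freeIso_comm _ _ _ _ fun φ => secPull_mulOn f V a φ

/-- The underlying sheaf of sets. -/
noncomputable abbrev underSh (M : ModSite.Mod O_D) : Sheaf K (Type u) :=
  (sheafCompose K (CategoryTheory.forget AddCommGrpCat.{u})).obj ((SheafOfModules.toSheaf (ModSite.ringSh O_D)).obj M)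

/-- Morphisms out of the free module on the sheaf represented by `V` as sections. -/
noncomputable def secFreeSh (V : D) (F : ModSite.Mod O_D) :
    ((SiteBase.freeModSh (ModSite.ringSh O_D)).obj ((presheafToSheaf K (Type u)).obj (yoneda.obj V)) ⟶ F) ≃
      ModSite.sect F V :=
  (((SiteBase.freeModAdj (ModSite.ringSh O_D)).homEquiv _ F).trans
    (((fullyFaithfulSheafToPresheaf K (Type u)).homEquiv
      (X := (presheafToSheaf K (Type u)).obj (yoneda.obj V)) (Y := underSh F)).symm.trans
      ((sheafificationAdjunction K (Type u)).homEquiv (yoneda.obj V) (underSh F)))).trans yonedaEquiv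

lemma secFreeSh_comp (V : D) {F G : ModSite.Mod O_D}
    (φ : (SiteBase.freeModSh (ModSite.ringSh O_D)).obj ((presheafToSheaf K (Type u)).obj (yoneda.obj V)) ⟶ F)
    (g : F ⟶ G) : secFreeSh V G (φ ≫ g) = (g.val.app (op V)).hom (secFreeSh V F φ) := by
  refine (congrArg (fun t => yonedaEquiv ((sheafificationAdjunction K (Type u)).homEquiv _ (underSh G) t))
    (show (fullyFaithfulSheafToPresheaf K (Type u)).homEquiv.symm
        ((SiteBase.freeModAdj (ModSite.ringSh O_D)).homEquiv _ G (φ ≫ g)) =
      (fullyFaithfulSheafToPresheaf K (Type u)).homEquiv.symm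
        ((SiteBase.freeModAdj (ModSite.ringSh O_D)).homEquiv _ F φ) ≫
      (sheafCompose K (CategoryTheory.forget AddCommGrpCat.{u})).map
        ((SheafOfModules.toSheaf (ModSite.ringSh O_D)).map g) from
      Sheaf.hom_ext ((SiteBase.freeModAdj (ModSite.ringSh O_D)).homEquiv_naturality_right φ g))).trans ?_
  refine (congrArg yonedaEquiv ((sheafificationAdjunction K (Type u)).homEquiv_naturality_right _ _)).trans ?_
  rfl

lemma good_freeOn (V : D) : LeftAdjExists.Good f.push (ModSite.freeOn O_D V) := fun E hE n => by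
  let S := (presheafToSheaf K (Type u)).obj (yoneda.obj V)
  obtain ⟨e⟩ := SiteBase.nonempty_ext_freeMod_addEquiv (R := ModSite.ringSh O_D) S (f.push.obj E) (n + 1)
  have := RpushLeftAdj.isTotallyAcyclic_push f E S n
  have := e.toEquiv.subsingleton
  let i := freeIso (secFreeSh (O_D := O_D) V) (secFreeSh_comp V)
  refine ⟨fun x y => ?_⟩
  rw [← Abelian.Ext.mk₀_id_comp x, ← Abelian.Ext.mk₀_id_comp y, ← i.inv_hom_id,
    ← Abelian.Ext.mk₀_comp_mk₀_assoc, ← Abelian.Ext.mk₀_comp_mk₀_assoc,
    Subsingleton.elim ((Abelian.Ext.mk₀ i.hom).comp x (zero_add _))]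

/-- Telescopes on derived direct images. -/
theorem tbOn_RpushD [SiteCmp.HasRpushD f] (M : DerivedCategory (ModSite.Mod O_C)) (V : D)
    (a : O_D.obj.obj (op V))
    (h : TelOrth.TBOn (ModSite.freeOn O_C (f.fn.obj V))
      (mulOn (f.fn.obj V) (show O_C.obj.obj (op (f.fn.obj V)) from (f.sharp.hom.app (op V)).hom a)) M) :
    TelOrth.TBOn (ModSite.freeOn O_D V) (mulOn V a) ((SiteCmp.RpushD f).obj M) := by
  have : f.pull.Additive := f.adj.left_adjoint_additive
  exact (TelTransfer.tbOn_totalRightDerived_iff f.adj (RpushLeftAdj.exists_good f) _ (good_freeOn f V) _ M).1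
    (DerCompIdeal.tbOn_of_iso (pullFreeIso f V).symm
      ((Iso.inv_comp_eq _).2 (by
        rw [← assoc, pullFreeIso_comm, assoc, Iso.symm_hom, Iso.hom_inv_id, comp_id])) h)

end Groth.Agent.H9Misc.DerCompPush
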