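import Groth.Agent.KFlatLib.TotalMap

/-! Naturality of the comparison of total complexes in the first variable. -/

set_option linter.style.haveILetI false

universe v₁ u₁ v₂ u₂ v u v₁' u₁' v₂' u₂' v' u'

open CategoryTheory CategoryTheory.Limits

namespace Groth.Agent.H9Misc.TotalMapNat

variable {A₁ : Type u₁} [Category.{v₁} A₁] [Preadditive A₁]
  {A₂ : Type u₂} [Category.{v₂} A₂] [Preadditive A₂]
  {A : Type u} [Category.{v} A] [Abelian A] [∀ S : Type, HasColimitsOfShape (Discrete S) A]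
  {B₁ : Type u₁'} [Category.{v₁'} B₁] [Preadditive B₁]
  {B₂ : Type u₂'} [Category.{v₂'} B₂] [Preadditive B₂]
  {B : Type u'} [Category.{v'} B] [Abelian B] [∀ S : Type, HasColimitsOfShape (Discrete S) B]
  {Φ₁ : A₁ ⥤ B₁} {Φ₂ : A₂ ⥤ B₂} {Ψ : A ⥤ B} [Φ₁.Additive] [Φ₂.Additive] [Ψ.Additive]
  {T : A₁ ⥤ A₂ ⥤ A} [T.Additive] [∀ X, (T.obj X).Additive]
  {T' : B₁ ⥤ B₂ ⥤ B} [T'.Additive] [∀ X, (T'.obj X).Additive]
  (θ : T ⋙ (Functor.whiskeringRight A₂ A B).obj Ψ ≅
    Φ₁ ⋙ T' ⋙ (Functor.whiskeringLeft A₂ B₂ B).obj Φ₂)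
  {L L' : CochainComplex A₁ ℤ} (α : L ⟶ L') (K : CochainComplex A₂ ℤ)
  [∀ J : Type, PreservesColimitsOfShape (Discrete J) Ψ]

/-- The comparison of total complexes is natural in the first variable. -/
theorem totalMapIso_hom_naturality :
    (T'.map₂CochainComplex.map ((Φ₁.mapHomologicalComplex (ComplexShape.up ℤ)).map α)).app
        ((Φ₂.mapHomologicalComplex (ComplexShape.up ℤ)).obj K) ≫ (KFlatLib.totalMapIso θ L' K).hom =
      (KFlatLib.totalMapIso θ L K).hom ≫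
        (Ψ.mapHomologicalComplex (ComplexShape.up ℤ)).map ((T.map₂CochainComplex.map α).app K) := by
  ext n : 1
  refine HomologicalComplex.mapBifunctor.hom_ext (fun p q h => ?_)
  refine (HomologicalComplex.ι_mapBifunctorMap_assoc _ (𝟙 _) T' (ComplexShape.up ℤ) p q n h _).trans ?_
  rw [HomologicalComplex.id_f, CategoryTheory.Functor.map_id, Category.id_comp]
  rw [HomologicalComplex.comp_f,
    show (KFlatLib.totalMapIso θ L' K).hom = KFlatLib.totalMapHom θ L' K from rfl,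
    show (KFlatLib.totalMapIso θ L K).hom = KFlatLib.totalMapHom θ L K from rfl]
  erw [KFlatLib.ι_totalMapHom θ L' K p q n h, KFlatLib.ι_totalMapHom_assoc θ L K p q n h]
  have hn : (T'.map (Φ₁.map (α.f p))).app (Φ₂.obj (K.X q)) ≫ (θ.inv.app (L'.X p)).app (K.X q) =
      (θ.inv.app (L.X p)).app (K.X q) ≫ Ψ.map ((T.map (α.f p)).app (K.X q)) :=
    NatTrans.congr_app (θ.inv.naturality (α.f p)) (K.X q)
  show (T'.map (Φ₁.map (α.f p))).app (Φ₂.obj (K.X q)) ≫ (_ ≫ _) = _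
  refine (Category.assoc _ _ _).symm.trans ((congrArg (· ≫ _) hn).trans ?_)
  refine (Category.assoc _ _ _).trans (Eq.trans ?_ (Category.assoc _ _ _).symm)
  refine congrArg (_ ≫ ·) ?_
  show Ψ.map _ ≫ Ψ.map _ = Ψ.map _ ≫ Ψ.map _
  refine (Ψ.map_comp _ _).symm.trans (Eq.trans ?_ (Ψ.map_comp _ _))
  refine congrArg Ψ.map ?_
  refine Eq.trans ?_ (HomologicalComplex.ι_mapBifunctorMap α (𝟙 K) T (ComplexShape.up ℤ) p q n h).symm
  rw [HomologicalComplex.id_f, CategoryTheory.Functor.map_id, Category.id_comp]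

end Groth.Agent.H9Misc.TotalMapNat
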