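import Groth.Agent.H9Misc.TensorLinear
import Groth.Agent.H9Misc.DerCompPush
import Groth.Agent.H9Misc.TotalMapNat

/-! Internal hom preserves derived completeness. -/

set_option linter.style.haveILetI false

universe u

open CategoryTheory CategoryTheory.Category CategoryTheory.Limits Opposite
open Groth.Agent.H9Misc.DerCompTel

attribute [local instance] HasDerivedCategory.standard

namespace Groth.Agent.H9Misc.DerCompRHom

variable {C : Type u} [SmallCategory C] {J : GrothendieckTopology C} {O : Sheaf J CommRingCat.{u}}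

lemma paste {D : Type*} [Category* D] {a b c d b' e : D} {x : a ⟶ b} {y : b ⟶ c} {w : c ⟶ d} {y₀ : a ⟶ b'}
    {z₀ : b' ⟶ c} {w₀ : b' ⟶ e} {v : e ⟶ d} (h₁ : x ≫ y = y₀ ≫ z₀) (h₂ : z₀ ≫ w = w₀ ≫ v) :
    x ≫ y ≫ w = (y₀ ≫ w₀) ≫ v := by
  rw [← assoc, h₁, assoc, h₂, assoc]

variable (U : C) (P : CochainComplex (ModSite.Mod O) ℤ)

/-- `O_U[-n] ⊗ P|_U`. -/
noncomputable abbrev totU [(ModSite.restr O U).Additive] (n : ℤ) : CochainComplex (ModSite.Mod (O.over U)) ℤ :=
  ((ModSite.tensorCx (O.over U)).obj ((CochainComplex.singleFunctor _ n).obj (ModSite.unit (O.over U)))).obj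
    (((ModSite.restr O U).mapHomologicalComplex (ComplexShape.up ℤ)).obj P)

/-- `j_{U!} O_U[-n] ⊗ P` is `j_{U!}` of `O_U[-n] ⊗ P|_U`, compatibly with multiplication by sections. -/
lemma exists_projIso [(ModSite.restr O U).Additive] (n : ℤ) (f : O.obj.obj (op U)) :
    ∃ e : ((ModSite.tensorCx O).obj ((CochainComplex.singleFunctor _ n).obj (ModSite.freeOn O U))).obj P ≅
        ((ModSite.extZero O U).mapHomologicalComplex (ComplexShape.up ℤ)).obj (totU U P n),
      ((ModSite.tensorCx O).map ((CochainComplex.singleFunctor _ n).map (mulOn U f))).app P ≫ e.hom =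
        e.hom ≫ ((ModSite.extZero O U).mapHomologicalComplex (ComplexShape.up ℤ)).map
          (DerComp.GSec.ofSect O U f • 𝟙 (totU U P n)) := by
  haveI := ModTensor.additive_extZero O U
  haveI : (ModTensor.restrBi O U).Additive := inferInstance
  haveI : ∀ X, ((ModTensor.restrBi O U).obj X).Additive := fun X =>
    inferInstanceAs (ModSite.restr O U ⋙ (ModSite.tensorBi (O.over U)).obj X).Additive
  haveI : PreservesColimitsOfSize.{0, 0} (ModSite.extZero O U) :=
    (ModSite.extZeroAdj O U).leftAdjoint_preservesColimits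
  let s := DerComp.GSec.ofSect O U f
  let L := (CochainComplex.singleFunctor (ModSite.Mod (O.over U)) n).obj (ModSite.unit (O.over U))
  let α : L ⟶ L := (CochainComplex.singleFunctor _ n).map (DerComp.smulEnd s (ModSite.unit (O.over U)))
  let E := (ModSite.extZero O U).mapHomologicalComplex (ComplexShape.up ℤ)
  let i : (CochainComplex.singleFunctor _ n).obj (ModSite.freeOn O U) ≅ E.obj L :=
    ((HomologicalComplex.singleMapHomologicalComplex (ModSite.extZero O U) (ComplexShape.up ℤ) n).app _).symm
  have hi : (CochainComplex.singleFunctor _ n).map (mulOn U f) ≫ i.hom = i.hom ≫ E.map α :=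
    (HomologicalComplex.singleMapHomologicalComplex (ModSite.extZero O U) (ComplexShape.up ℤ) n).inv.naturality
      (DerComp.smulEnd s (ModSite.unit (O.over U)))
  let T := KFlatLib.totalMapIso (ModTensor.projBiIso O U) L P
  let R := (ModSite.restr O U).mapHomologicalComplex (ComplexShape.up ℤ)
  have hα : ((ModSite.tensorCx (O.over U)).map α).app (R.obj P) = s • 𝟙 (totU U P n) := by
    rw [show α = s • 𝟙 L from ?_]
    · exact TensorLinear.tensorCx_map_smul s L _
    · refine HomologicalComplex.from_single_hom_ext ?_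
      show α.f n = DerComp.smulEnd s (L.X n) ≫ 𝟙 _
      rw [comp_id]
      exact (HomologicalComplex.single_map_f_self (ComplexShape.up ℤ) n _).trans
        ((congrArg (_ ≫ ·) (DerComp.smulEnd_comm s _)).trans (Iso.hom_inv_id_assoc _ _))
  have hT : ((ModSite.tensorCx O).map (E.map α)).app P ≫ T.hom =
      T.hom ≫ E.map (((ModSite.tensorCx (O.over U)).map α).app (R.obj P)) := by
    refine (TotalMapNat.totalMapIso_hom_naturality (ModTensor.projBiIso O U) α P).trans
      (congrArg (fun t => T.hom ≫ E.map t) ?_)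
    ext m : 1
    exact HomologicalComplex.mapBifunctor.hom_ext (fun p q h =>
      (HomologicalComplex.ι_mapBifunctorMap α (𝟙 P) (ModTensor.restrBi O U) (ComplexShape.up ℤ) p q m h).trans
        (HomologicalComplex.ι_mapBifunctorMap α (𝟙 (R.obj P)) (ModSite.tensorBi (O.over U)) (ComplexShape.up ℤ)
          p q m h).symm)
  refine ⟨((ModSite.tensorCx O).mapIso i).app P ≪≫ T, ?_⟩
  show _ ≫ ((ModSite.tensorCx O).map i.hom).app P ≫ T.hom = (((ModSite.tensorCx O).map i.hom).app P ≫ T.hom) ≫ _
  refine Eq.trans ?_ ((congrArg (((ModSite.tensorCx O).map i.hom).app P ≫ ·) (hT.trans (congrArg (T.hom ≫ ·)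
    (congrArg E.map hα)))).trans (assoc _ _ _).symm)
  refine (assoc _ _ _).symm.trans (Eq.trans ?_ (assoc _ _ _))
  refine congrArg (· ≫ T.hom) ?_
  rw [← NatTrans.comp_app, ← NatTrans.comp_app, ← Functor.map_comp, ← Functor.map_comp, hi]

variable {U}

/-- Telescopes for a section are bijective on everything over `U`. -/
theorem tb_sc_restr (L : DerivedCategory (ModSite.Mod O)) (f : O.obj.obj (op U))
    (h : ∀ ⦃V : C⦄ (g : V ⟶ U), TelOrth.TBOn (ModSite.freeOn O V) (mulOn V ((O.obj.map g.op).hom f)) L)
    [(ModSite.restr O U).Additive]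
    [PreservesFiniteLimits (ModSite.restr O U)] [PreservesFiniteColimits (ModSite.restr O U)]
    (Y : DerivedCategory (ModSite.Mod (O.over U))) :
    TelBij.TB (TelLocal.sc (DerComp.GSec.ofSect O U f) Y ((ModSite.restr O U).mapDerivedCategory.obj L)) := by
  have := ModTensor.preservesFiniteLimits_extZero O U
  have := ModTensor.preservesFiniteColimits_extZero O U
  have : HasLimitsOfShape (Discrete ℕ) (DerivedCategory (ModSite.Mod (O.over U))) :=
    TriCat.hasProductsOfShape_derivedCategory fun L => by
      obtain ⟨I, i, hI, hi, -, -⟩ := TriCat.exists_kInjective_resolution'.{u} L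
      exact ⟨I, i, hI, hi⟩
  refine TelLocal.tb_sc_of_separating _ _
    (ObjectProperty.ofObj fun X : (Set.univ : Set (Over U)) => ModSite.freeOn (O.over U) (X : Over U))
    (ModTensor.isSeparating_freeOn Set.univ fun X => ⟨PUnit, fun _ => X, fun _ => 𝟙 X, ?_, fun _ => trivial⟩)
    (fun P' hP => ?_) Y
  · refine (J.over U).superset_covering ?_ ((J.over U).top_mem X)
    intro W g _
    exact ⟨X, g, 𝟙 X, ⟨PUnit.unit⟩, comp_id g⟩
  · obtain ⟨⟨W, hW⟩⟩ := hP
    rw [show DerComp.GSec.ofSect O U f • 𝟙 (ModSite.freeOn (O.over U) W) = DerComp.smulEnd _ _ from comp_id _]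
    refine (TelLocal.tbOn_map_iff (ModSite.extZeroAdj O U) _ _ L).1 ?_
    exact DerCompIdeal.tbOn_of_iso (DerCompIdeal.extFreeIso U W).symm
      ((Iso.inv_comp_eq _).2 (Eq.symm ((assoc _ _ _).symm.trans
        ((congrArg (· ≫ _) (DerCompIdeal.extFreeIso_comm U W f)).trans ((assoc _ _ _).trans
          ((congrArg (_ ≫ ·) (Iso.hom_inv_id _)).trans (comp_id _)))))))
      (h W.hom)

set_option maxHeartbeats 1000000 in
/-- Internal hom into a complete object is complete. -/
theorem isDerComp_RHom (I : DerComp.IdealSh O) [ModSite.HasLTensorCx P] [DerComp.HasRHom P]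
    (L : DerivedCategory (ModSite.Mod O)) (hL : DerComp.IsDerComp O I L) :
    DerComp.IsDerComp O I ((DerComp.RHom P).obj L) := by
  refine (isDerComp_iff I _).2 fun U f hf n => ?_
  have hfl := ModTensor.preservesFiniteLimits_extZero O U
  have hfc := ModTensor.preservesFiniteColimits_extZero O U
  have : PreservesFiniteColimits (ModSite.restr O U) := SuppCore.preservesFiniteColimits_restr U
  have : PreservesLimitsOfSize.{0, 0} (ModSite.restr O U) :=
    (ModSite.extZeroAdj O U).rightAdjoint_preservesLimits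
  have : PreservesFiniteLimits (ModSite.restr O U) := ⟨fun _ => inferInstance⟩
  have : (ModSite.restr O U).Additive := (ModSite.extZeroAdj O U).right_adjoint_additive
  rw [TelTransfer.tb_mu_iff_pre]
  let a := DerComp.RHomAdj P
  have hRA : (DerComp.RHom P).Additive := by
    have : PreservesLimitsOfSize.{0, 0} (DerComp.RHom P) := a.rightAdjoint_preservesLimits
    exact Functor.additive_of_preserves_binary_products _
  let S := (DerivedCategory.singleFunctor (ModSite.Mod O) n).obj (ModSite.freeOn O U)
  let σ : S ⟶ S := (DerivedCategory.singleFunctor (ModSite.Mod O) n).map (mulOn U f)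
  let ψ : ((ModSite.LTensorCx P).obj S ⟶ L) ≃+ (S ⟶ (DerComp.RHom P).obj L) :=
    { a.homEquiv S L with
      map_add' := fun x y => show a.homEquiv S L (x + y) = a.homEquiv S L x + a.homEquiv S L y by
        rw [Adjunction.homEquiv_unit, Adjunction.homEquiv_unit, Adjunction.homEquiv_unit, Functor.map_add,
          Preadditive.comp_add] }
  refine TelBij.tb_of_injective_surjective ψ (f := TelTransfer.pre ((ModSite.LTensorCx P).map σ) L)
    (fun x => a.homEquiv_naturality_left σ x) ?_
  let K₀ := (CochainComplex.singleFunctor (ModSite.Mod O) n).obj (ModSite.freeOn O U)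
  let u₀ : K₀ ⟶ K₀ := (CochainComplex.singleFunctor _ n).map (mulOn U f)
  have hK : ModSite.IsKFlat K₀ := ModTensor.isKFlat_single _ (ModTensor.isFlat_freeOn O U) n
  let c := ((ModSite.tensorCxQ P).totalLeftDerivedCounit DerivedCategory.Q
      (HomologicalComplex.quasiIso (ModSite.Mod O) (ComplexShape.up ℤ)))
  have hc : IsIso (c.app K₀) := TensorLinear.isIso_counit P hK
  obtain ⟨e, he⟩ := exists_projIso U P n f
  let s := DerComp.GSec.ofSect O U f
  let Y := DerivedCategory.Q.obj (totU U P n)
  let F := (ModSite.extZero O U).mapDerivedCategoryFactors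
  let η : (ModSite.LTensorCx P).obj S ≅ (ModSite.extZero O U).mapDerivedCategory.obj Y :=
    @asIso _ _ _ _ (c.app K₀) hc ≪≫ DerivedCategory.Q.mapIso e ≪≫ (F.app _).symm
  have hη : (ModSite.LTensorCx P).map σ ≫ η.hom =
      η.hom ≫ (ModSite.extZero O U).mapDerivedCategory.map (s • 𝟙 Y) := by
    have h1 : (ModSite.LTensorCx P).map σ ≫ c.app K₀ = c.app K₀ ≫ (ModSite.tensorCxQ P).map u₀ :=
      c.naturality u₀
    have h2 : (ModSite.tensorCxQ P).map u₀ ≫ DerivedCategory.Q.map e.hom = DerivedCategory.Q.map e.hom ≫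
        DerivedCategory.Q.map (((ModSite.extZero O U).mapHomologicalComplex (ComplexShape.up ℤ)).map (s • 𝟙 _)) := by
      show DerivedCategory.Q.map _ ≫ _ = _
      rw [← Functor.map_comp, ← Functor.map_comp]
      exact congrArg DerivedCategory.Q.map he
    have h3 : DerivedCategory.Q.map (((ModSite.extZero O U).mapHomologicalComplex (ComplexShape.up ℤ)).map (s • 𝟙 (totU U P n))) ≫
        F.inv.app _ = F.inv.app _ ≫ (ModSite.extZero O U).mapDerivedCategory.map (s • 𝟙 Y) := by
      refine (F.inv.naturality (s • 𝟙 (totU U P n))).trans ?_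
      show _ ≫ (ModSite.extZero O U).mapDerivedCategory.map (DerivedCategory.Q.map (s • 𝟙 _)) = _
      rw [Functor.map_smul, CategoryTheory.Functor.map_id]
    exact ((CommSq.mk h1).vert_comp ((CommSq.mk h2).vert_comp (CommSq.mk h3))).w
  refine (TelTransfer.tb_pre_iff_of_iso η (show η.hom ≫ _ = _ from hη.symm) L).2 ?_
  let ad := TelLocal.derivedAdjunction (ModSite.extZeroAdj O U)
  let R := (ModSite.restr O U).mapDerivedCategory
  let φ : (Y ⟶ R.obj L) ≃+ ((ModSite.extZero O U).mapDerivedCategory.obj Y ⟶ L) :=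
    { (ad.homEquiv Y L).symm with
      map_add' := fun x y => show (ad.homEquiv Y L).symm (x + y) = _ + _ by
        rw [Adjunction.homEquiv_counit, Functor.map_add, Preadditive.add_comp]
        exact congrArg₂ (· + ·) (ad.homEquiv_counit _ _ x).symm (ad.homEquiv_counit _ _ y).symm }
  refine TelBij.tb_of_injective_surjective φ (fun x => ?_)
    (tb_sc_restr L f (fun V g => (isDerComp_iff I L).1 hL V _ (I.map_mem g hf)) Y)
  show (ad.homEquiv Y L).symm (s • x) =
    (ModSite.extZero O U).mapDerivedCategory.map (s • 𝟙 Y) ≫ (ad.homEquiv Y L).symm x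
  rw [← ad.homEquiv_naturality_left_symm, Linear.smul_comp, id_comp]

end Groth.Agent.H9Misc.DerCompRHom
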