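import Groth.Agent.H9Misc.DerCompPush
import Groth.Agent.H9Misc.ExactLeftAdj
import Groth.Agent.H9Misc.RestrExt

/-! Derived completion and restriction to an object with binary products. -/

universe u

open CategoryTheory CategoryTheory.Category CategoryTheory.Limits Opposite
open Groth.Agent.H9Misc.DerCompTel

attribute [local instance] HasDerivedCategory.standard

namespace Groth.Agent.H9Misc.DerCompRestrict

section Completion

variable {C : Type u} [SmallCategory C] {J : GrothendieckTopology C} {O : Sheaf J CommRingCat.{u}}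
  (I : DerComp.IdealSh O) [DerComp.HasDerCompletion O I]

/-- The completion map is universal. -/
lemma toDerCompletion_bijective (K N : DerivedCategory (ModSite.Mod O)) (hN : DerComp.IsDerComp O I N) :
    Function.Bijective fun g : ((DerComp.derCompletion O I).obj K).obj ⟶ N => DerComp.toDerCompletion I K ≫ g := by
  let ι := ObjectProperty.ι (DerComp.IsDerComp O I)
  let a := DerComp.derCompletionAdj O I
  refine ⟨fun g g' h => ?_, fun y => ⟨ι.map ((a.homEquiv K ⟨N, hN⟩).symm y), ?_⟩⟩
  · have : (a.homEquiv K ⟨N, hN⟩) (ObjectProperty.homMk g) = a.homEquiv K ⟨N, hN⟩ (ObjectProperty.homMk g') := by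
      rw [Adjunction.homEquiv_unit, Adjunction.homEquiv_unit]; exact h
    exact congrArg InducedCategory.Hom.hom ((a.homEquiv _ _).injective this)
  · exact (a.homEquiv_unit K ⟨N, hN⟩ _).symm.trans ((a.homEquiv K ⟨N, hN⟩).apply_symm_apply y)

/-- A map to a complete object is a completion iff it is universal. -/
theorem isIso_symm_homEquiv {X : DerivedCategory (ModSite.Mod O)} (Y : DerComp.DComp O I) (f : X ⟶ Y.obj)
    (h : ∀ N : DerivedCategory (ModSite.Mod O), DerComp.IsDerComp O I N →
      Function.Bijective fun g : Y.obj ⟶ N => f ≫ g) :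
    IsIso (((DerComp.derCompletionAdj O I).homEquiv X Y).symm f) := by
  let a := DerComp.derCompletionAdj O I
  let m := (a.homEquiv X Y).symm f
  refine isIso_of_coyoneda_map_bijective m fun Z => ?_
  have key : ∀ g : Y ⟶ Z, a.homEquiv X Z (m ≫ g) = f ≫ g.hom := fun g => by
    rw [Adjunction.homEquiv_naturality_right, Equiv.apply_symm_apply]; rfl
  refine ⟨fun g g' hg => ?_, fun k => ?_⟩
  · exact InducedCategory.Hom.ext ((h Z.obj Z.property).1
      ((key g).symm.trans ((congrArg (a.homEquiv X Z) hg).trans (key g'))))
  · obtain ⟨g, hg⟩ := (h Z.obj Z.property).2 (a.homEquiv X Z k)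
    exact ⟨ObjectProperty.homMk g, (a.homEquiv X Z).injective ((key _).trans hg)⟩

end Completion

variable {C : Type u} [SmallCategory C] [HasBinaryProducts C] {J : GrothendieckTopology C}
  {O : Sheaf J CommRingCat.{u}} (U : C)

/-- Restriction of a free module: morphisms out of it as sections. -/
noncomputable def secRestr (W : C) (F : ModSite.Mod (O.over U)) :
    ((ModSite.restr O U).obj (ModSite.freeOn O W) ⟶ F) ≃ ModSite.sect F ((Over.star U).obj W) :=
  ((SheafOfModules.overPushforwardOverAdj (R := ModSite.ringSh O) U).homEquiv _ F).trans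
    (secOn W ((SheafOfModules.pushforward.{u} (SheafOfModules.pushforwardOver (R := ModSite.ringSh O) U)).obj F))

lemma secRestr_comp (W : C) {F G : ModSite.Mod (O.over U)}
    (φ : (ModSite.restr O U).obj (ModSite.freeOn O W) ⟶ F) (g : F ⟶ G) :
    secRestr U W G (φ ≫ g) = (g.val.app (op ((Over.star U).obj W))).hom (secRestr U W F φ) :=
  (congrArg (secOn W _)
    ((SheafOfModules.overPushforwardOverAdj (R := ModSite.ringSh O) U).homEquiv_naturality_right φ g)).trans
    (secOn_comp W _ _)

lemma secRestr_mulOn (W : C) (a : O.obj.obj (op W)) {F : ModSite.Mod (O.over U)}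
    (φ : (ModSite.restr O U).obj (ModSite.freeOn O W) ⟶ F) :
    secRestr U W F ((ModSite.restr O U).map (mulOn W a) ≫ φ) =
      (show (ModSite.ringSh (O.over U)).obj.obj (op ((Over.star U).obj W)) from
        (O.obj.map (prod.snd : U ⨯ W ⟶ W).op).hom a) • secRestr U W F φ :=
  (congrArg (secOn W _)
    ((SheafOfModules.overPushforwardOverAdj (R := ModSite.ringSh O) U).homEquiv_naturality_left (mulOn W a) φ)).trans
    (secOn_mulOn W a _)

/-- Completeness over `U` gives completeness of the derived direct image. -/
theorem isDerComp_rightAdjoint (I : DerComp.IdealSh O) (N : DerivedCategory (ModSite.Mod (O.over U)))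
    (hN : DerComp.IsDerComp (O.over U) (I.over U) N) (W : C) (a : O.obj.obj (op W)) (ha : a ∈ I.ideal W) :
    TelOrth.TBOn ((ModSite.restr O U).obj (ModSite.freeOn O W)) ((ModSite.restr O U).map (mulOn W a)) N := by
  let b : (O.over U).obj.obj (op ((Over.star U).obj W)) := (O.obj.map (prod.snd : U ⨯ W ⟶ W).op).hom a
  have h := (isDerComp_iff (I.over U) N).1 hN ((Over.star U).obj W) b (I.map_mem _ ha)
  refine DerCompIdeal.tbOn_of_iso (DerCompPush.freeIso (secRestr U W) (secRestr_comp U W)).symm ?_ h
  have e := DerCompPush.freeIso_comm (secRestr U W) (secRestr_comp U W) b _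
    fun φ => secRestr_mulOn U W a φ
  exact (Iso.inv_comp_eq _).2 (Eq.symm ((assoc _ _ _).symm.trans
    ((congrArg (· ≫ _) e).trans ((assoc _ _ _).trans
      ((congrArg (_ ≫ ·) (Iso.hom_inv_id _)).trans (comp_id _))))))

/-- Completion commutes with restriction. -/
theorem isIso_restr (I : DerComp.IdealSh O) [(ModSite.restr O U).Additive]
    [PreservesFiniteLimits (ModSite.restr O U)] [PreservesFiniteColimits (ModSite.restr O U)]
    [DerComp.HasDerCompletion O I] [DerComp.HasDerCompletion (O.over U) (I.over U)]
    (F : DerivedCategory (ModSite.Mod O))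
    (h : DerComp.IsDerComp (O.over U) (I.over U)
      ((ModSite.restr O U).mapDerivedCategory.obj ((DerComp.derCompletion O I).obj F).obj)) :
    IsIso (((DerComp.derCompletionAdj (O.over U) (I.over U)).homEquiv ((ModSite.restr O U).mapDerivedCategory.obj F)
      ⟨(ModSite.restr O U).mapDerivedCategory.obj ((DerComp.derCompletion O I).obj F).obj, h⟩).symm
      ((ModSite.restr O U).mapDerivedCategory.map (DerComp.toDerCompletion I F))) := by
  let adj : ModSite.restr O U ⊣ SheafOfModules.pushforward.{u} (SheafOfModules.pushforwardOver (R := ModSite.ringSh O) U) :=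
    SheafOfModules.overPushforwardOverAdj (R := ModSite.ringSh O) U
  have hG : (SheafOfModules.pushforward.{u} (SheafOfModules.pushforwardOver (R := ModSite.ringSh O) U)).Additive :=
    adj.right_adjoint_additive
  obtain ⟨R, a, hR⟩ := @ExactLeftAdj.exists_rightAdjoint _ _ _ _ _ _ _ _ (ModSite.restr O U) _ adj inferInstance hG inferInstance inferInstance
  refine isIso_symm_homEquiv _ _ _ fun N hN => ?_
  have hc : DerComp.IsDerComp O I (R.obj N) :=
    (isDerComp_iff I _).2 fun W b hb => (hR _ _ N).1 (isDerComp_rightAdjoint U I N hN W b hb)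
  have hb := ((a.homEquiv F N).symm.bijective.comp ((toDerCompletion_bijective I F _ hc).comp (a.homEquiv _ N).bijective))
  refine (congrArg Function.Bijective (funext fun g => ?_)).mp hb
  show (a.homEquiv F N).symm (DerComp.toDerCompletion I F ≫ a.homEquiv _ N g) = _
  rw [← a.homEquiv_naturality_left, Equiv.symm_apply_apply]

end Groth.Agent.H9Misc.DerCompRestrict
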