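import Groth.Agent.ModTensor.ProjSheaf
import Groth.Agent.SiteBase.ModGroth
import Groth.Agent.H9Misc.RestrExt
import Mathlib.CategoryTheory.Adjunction.AdjointFunctorTheorems
import Mathlib.Algebra.Category.ModuleCat.Presheaf.Colimits
import Mathlib.CategoryTheory.Abelian.GrothendieckCategory.Basic
import Mathlib.CategoryTheory.Abelian.Subobject

/-!
# Restriction to a slice site has a right adjoint
-/

universe u

open CategoryTheory CategoryTheory.Limits Opposite
open Groth.Agent.ModTensor

namespace Groth.Agent.H9Misc.RestrLeftAdj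

variable {C : Type u} [SmallCategory C] {J : GrothendieckTopology C} {O : Sheaf J CommRingCat.{u}} (U : C)

theorem preservesColimits_restr : PreservesColimitsOfSize.{u, u} (ModSite.restr O U) := by
  have h1 : PreservesColimitsOfSize.{u, u} (sh O) := (shAdj O).leftAdjoint_preservesColimits
  have h2 : PreservesColimitsOfSize.{u, u} (sh (O.over U)) := (shAdj (O.over U)).leftAdjoint_preservesColimits
  have h3 : PreservesColimitsOfSize.{u, u} (resP O.obj U) :=
    ⟨fun {K} _ => ⟨fun {F} => ⟨fun {c} hc => ⟨PresheafOfModules.evaluationJointlyReflectsColimits _ _ fun X =>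
      isColimitOfPreserves (PresheafOfModules.evaluation _ (op X.unop.left)) hc⟩⟩⟩⟩
  have h4 : PreservesColimitsOfSize.{u, u} (resP O.obj U ⋙ sh (O.over U)) :=
    @comp_preservesColimits _ _ _ _ _ _ _ _ h3 h2
  have h5 : PreservesColimitsOfSize.{u, u} (sh O ⋙ ModSite.restr O U) :=
    preservesColimits_of_natIso (shRestrIso O U)
  refine ⟨fun {K} _ => ⟨fun {F} => ?_⟩⟩
  have : PreservesColimit (F ⋙ fg O ⋙ sh O) (ModSite.restr O U) := by
    have hc := colimit.isColimit (F ⋙ fg O)
    exact preservesColimit_of_preserves_colimit_cocone (isColimitOfPreserves (sh O) hc)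
      (isColimitOfPreserves (sh O ⋙ ModSite.restr O U) hc)
  exact preservesColimit_of_iso_diagram _ (Functor.isoWhiskerLeft F (counitIso O))

theorem isLeftAdjoint_restr : (ModSite.restr O U).IsLeftAdjoint := by
  have := preservesColimits_restr (O := O) U
  have : IsGrothendieckAbelian.{u} (ModSite.Mod O) := SiteBase.isGrothendieckAbelian_sheafOfModules _
  have : WellPowered.{u} (ModSite.Mod O)ᵒᵖ := Abelian.wellPowered_opposite
  exact isLeftAdjoint_of_preservesColimits_of_isSeparating
    (isSeparating_freeOn (O := O) Set.univ fun X => ⟨PUnit, fun _ => X, fun _ => 𝟙 X,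
      J.superset_covering (fun W g _ => ⟨X, g, 𝟙 X, ⟨PUnit.unit⟩, Category.comp_id g⟩) (J.top_mem X), fun _ => trivial⟩) _

end Groth.Agent.H9Misc.RestrLeftAdj
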