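import Groth.Agent.H9Misc.KosTel
import Groth.Agent.H9Misc.DerCompRHom
import Groth.Agent.H9Misc.DerCompRestrict
import Groth.Agent.H9Misc.RestrLeftAdj

/-!
# Objects with zero derived completion and Koszul complexes

For an object `N`, being left orthogonal to the derived complete objects is detected by maps out of
`j_{V!}` of Koszul complexes of local generators of the ideal.
-/

set_option linter.style.haveILetI false
set_option maxHeartbeats 1000000

universe u

open CategoryTheory CategoryTheory.Category CategoryTheory.Limits Opposite CategoryTheory.Pretriangulated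
open Groth.Agent.ModTensor

attribute [local instance] HasDerivedCategory.standard

namespace Groth.Agent.H9Misc.Kos

variable {C : Type u} [SmallCategory C] {J : GrothendieckTopology C} {O : Sheaf J CommRingCat.{u}}

instance additive_restr (U : C) : (ModSite.restr O U).Additive := (ModSite.extZeroAdj O U).right_adjoint_additive

instance preservesFiniteColimits_restr (U : C) : PreservesFiniteColimits (ModSite.restr O U) :=
  SuppCore.preservesFiniteColimits_restr U

instance preservesFiniteLimits_restr (U : C) : PreservesFiniteLimits (ModSite.restr O U) := by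
  have : PreservesLimitsOfSize.{0, 0} (ModSite.restr O U) :=
    (ModSite.extZeroAdj O U).rightAdjoint_preservesLimits
  exact ⟨fun _ => inferInstance⟩

instance preservesFiniteLimits_extZero' (U : C) : PreservesFiniteLimits (ModSite.extZero O U) :=
  ModTensor.preservesFiniteLimits_extZero O U

instance preservesFiniteColimits_extZero' (U : C) : PreservesFiniteColimits (ModSite.extZero O U) :=
  ModTensor.preservesFiniteColimits_extZero O U

variable (O) in
/-- Left orthogonality to the derived complete objects. -/
def LOrth (I : DerComp.IdealSh O) (N : DerivedCategory (ModSite.Mod O)) : Prop :=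
  ∀ L, DerComp.IsDerComp O I L → ∀ n : ℤ, Subsingleton (N ⟶ L⟦n⟧)

/-- The Koszul complex of a list of sections of `O` over `V`, on `O_V`. -/
noncomputable abbrev kosUnit (V : C) (l : List (O.obj.obj (op V))) : CochainComplex (ModSite.Mod (O.over V)) ℤ :=
  KosCx.Kc (l.map fun a => DerComp.GSec.ofSect O V a)
    ((HomologicalComplex.single (ModSite.Mod (O.over V)) (ComplexShape.up ℤ) 0).obj (ModSite.unit (O.over V)))

/-- Its extension by zero. -/
noncomputable abbrev kosFree (V : C) (l : List (O.obj.obj (op V))) : CochainComplex (ModSite.Mod O) ℤ :=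
  ((ModSite.extZero O V).mapHomologicalComplex (ComplexShape.up ℤ)).obj (kosUnit V l)

variable (O) in
/-- The Koszul condition: no maps from extended Koszul complexes of local generators. -/
def KosOrth (I : DerComp.IdealSh O) (N : DerivedCategory (ModSite.Mod O)) : Prop :=
  ∀ V l, GenPair I V l → ∀ n : ℤ, Subsingleton (DerivedCategory.Q.obj (kosFree V l) ⟶ N⟦n⟧)

/-- Morphisms out of an extension by zero. -/
noncomputable def extHomEquiv (V : C) (K : CochainComplex (ModSite.Mod (O.over V)) ℤ)
    (N : DerivedCategory (ModSite.Mod O)) (n : ℤ) :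
    (DerivedCategory.Q.obj (((ModSite.extZero O V).mapHomologicalComplex (ComplexShape.up ℤ)).obj K) ⟶ N⟦n⟧) ≃
      (DerivedCategory.Q.obj K ⟶ ((ModSite.restr O V).mapDerivedCategory.obj N)⟦n⟧) :=
  (((ModSite.extZero O V).mapDerivedCategoryFactors.app K).symm.homFromEquiv).trans
    (((TelLocal.derivedAdjunction (ModSite.extZeroAdj O V)).homEquiv _ _).trans
      (((ModSite.restr O V).mapDerivedCategory.commShiftIso n).app N).homToEquiv)

lemma isDerComp_shift {I : DerComp.IdealSh O} {L : DerivedCategory (ModSite.Mod O)}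
    (hL : DerComp.IsDerComp O I L) (a : ℤ) : DerComp.IsDerComp O I (L⟦a⟧) := fun U f hf n => by
  have := hL U f hf (a + n)
  exact ((shiftFunctorAdd' (DerivedCategory (ModSite.Mod O)) a n (a + n) rfl).app L).homToEquiv.symm.subsingleton

variable {I : DerComp.IdealSh O} {V : C} {l : List (O.obj.obj (op V))}

/-- Objects with nilpotent generators are right orthogonal to restricted localisations. -/
theorem subsingleton_tel_hom (hl : GenPair I V l) {W' : C} {b : O.obj.obj (op W')} (hb : b ∈ I.ideal W')
    {W : DerivedCategory (ModSite.Mod (O.over V))}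
    (hW : ∀ a ∈ l, KosTri.Nil (DerComp.GSec.ofSect O V a) W) (n : ℤ) :
    Subsingleton ((DerivedCategory.singleFunctor (ModSite.Mod (O.over V)) 0).obj
      ((ModSite.restr O V).obj ((ModSite.extZero O W').obj (DerComp.awayOver O W' b))) ⟶ W⟦n⟧) := by
  let T := (ModSite.restr O V).obj ((ModSite.extZero O W').obj (DerComp.awayOver O W' b))
  have hz := isZero_Kc_tel l b hl hb
  have h := (KosCx.chain_Q (l.map fun a => DerComp.GSec.ofSect O V a)
    ((HomologicalComplex.single (ModSite.Mod (O.over V)) (ComplexShape.up ℤ) 0).obj T)).vanish_left (W := W)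
    (fun r hr Y m => by
      obtain ⟨a, ha, rfl⟩ := List.mem_map.1 hr
      obtain ⟨k, hk, -⟩ := ((hW a ha).shift m).smul_eq_zero
      exact KosTri.tb_of_pow_smul_eq_zero _ k fun x => hk _ x)
    (fun m => ⟨fun x y => hz.eq_of_src x y⟩) n
  exact ((KFlatLib.singleQ 0 T).homFromEquiv).subsingleton

/-- Restrictions of objects left orthogonal to complete ones are left orthogonal to objects with nilpotent
generators. -/
theorem subsingleton_restr_hom (hl : GenPair I V l) {N : DerivedCategory (ModSite.Mod O)} (hN : LOrth O I N)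
    (W : DerivedCategory (ModSite.Mod (O.over V)))
    (hW : ∀ a ∈ l, KosTri.Nil (DerComp.GSec.ofSect O V a) W) :
    Subsingleton ((ModSite.restr O V).mapDerivedCategory.obj N ⟶ W) := by
  have := RestrLeftAdj.isLeftAdjoint_restr (O := O) V
  let adj := Adjunction.ofIsLeftAdjoint (ModSite.restr O V)
  have hG : (ModSite.restr O V).rightAdjoint.Additive := adj.right_adjoint_additive
  obtain ⟨R, a, hR⟩ := @ExactLeftAdj.exists_rightAdjoint _ _ _ _ _ _ _ _ (ModSite.restr O V) _ adj inferInstance hG inferInstance inferInstance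
  have hc : DerComp.IsDerComp O I (R.obj W) := (DerCompTel.isDerComp_iff I _).2 fun W' b hb => by
    refine (hR _ _ W).1 ?_
    have : PreservesColimitsOfSize.{0, 0} (ModSite.extZero O W') :=
      (ModSite.extZeroAdj O W').leftAdjoint_preservesColimits
    have : PreservesColimitsOfSize.{0, 0} (ModSite.restr O V) := adj.leftAdjoint_preservesColimits
    let F := ModSite.extZero O W' ⋙ ModSite.restr O V
    let m := DerComp.smulEnd (DerComp.GSec.ofSect O W' b) (ModSite.unit (O.over W'))
    let ι := fun k => Sigma.ι (fun _ : ℕ => ModSite.unit (O.over W')) k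
    have hcol : IsColimit (Cofan.mk (F.obj (∐ fun _ : ℕ => ModSite.unit (O.over W'))) fun k => F.map (ι k)) :=
      isColimitCofanMkObjOfIsColimit F _ _ (coproductIsCoproduct _)
    exact (TelOrth.forall_subsingleton_iff_tbOn ((DerCompTel.shortExact W' b).map_of_exact (ModSite.restr O V))
      (F.map m) _ hcol _ hcol (fun k => by
        refine (F.map_comp _ _).symm.trans ?_
        refine (congrArg F.map (Sigma.ι_desc (fun j => ι j - m ≫ ι (j + 1)) k)).trans ?_
        exact (Functor.map_sub _).trans (congrArg (_ - ·) (Functor.map_comp _ _ _))) W).1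
      fun n => subsingleton_tel_hom hl hb hW n
  have := hN _ hc 0
  have h0 : Subsingleton (N ⟶ R.obj W) :=
    ((shiftFunctorZero (DerivedCategory (ModSite.Mod O)) ℤ).app (R.obj W)).symm.homToEquiv.subsingleton
  exact (a.homEquiv N W).subsingleton

/-- Objects with nilpotent generators have no maps to restrictions of objects left orthogonal to complete ones. -/
theorem subsingleton_nil_hom (hl : GenPair I V l) {N : DerivedCategory (ModSite.Mod O)} (hN : LOrth O I N)
    {Y : DerivedCategory (ModSite.Mod (O.over V))} (hY : ∀ a ∈ l, KosTri.Nil (DerComp.GSec.ofSect O V a) Y)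
    (n : ℤ) : Subsingleton (Y ⟶ ((ModSite.restr O V).mapDerivedCategory.obj N)⟦n⟧) := by
  let A := ModSite.Mod (O.over V)
  let r := l.map fun a => DerComp.GSec.ofSect O V a
  let X := (ModSite.restr O V).mapDerivedCategory.obj N
  obtain ⟨X₀, ⟨e⟩⟩ : ∃ X₀, Nonempty (DerivedCategory.Q.obj X₀ ≅ X) := by
    have := Localization.essSurj (DerivedCategory.Q (C := A)) (HomologicalComplex.quasiIso A (ComplexShape.up ℤ))
    exact ⟨_, ⟨DerivedCategory.Q.objObjPreimageIso X⟩⟩
  let Z := DerivedCategory.Q.obj (KosCx.Kc r X₀)
  have hnil : ∀ a ∈ l, KosTri.Nil (DerComp.GSec.ofSect O V a) Z := fun a ha =>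
    KosCx.nil_Q r X₀ _ (List.mem_map.2 ⟨a, ha, rfl⟩)
  have h1 : ∀ m : ℤ, Subsingleton (DerivedCategory.Q.obj X₀ ⟶ Z⟦m⟧) := fun m => by
    have := subsingleton_restr_hom hl hN (Z⟦m⟧) fun a ha => (hnil a ha).shift m
    exact e.homFromEquiv.subsingleton
  have hZ : IsZero Z := by
    have := (KosCx.chain_Q r X₀).orth h1 0
    rw [IsZero.iff_id_eq_zero]
    rw [← cancel_mono ((shiftFunctorZero (DerivedCategory A) ℤ).inv.app Z)]
    exact Subsingleton.elim _ _
  have := (KosCx.chain_Q r X₀).vanish_right (V := Y)
    (fun s hs => by obtain ⟨a, ha, rfl⟩ := List.mem_map.1 hs; exact hY a ha)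
    (fun m => ⟨fun x y => ((shiftFunctor (DerivedCategory A) m).map_isZero hZ).eq_of_tgt x y⟩) n
  exact ((shiftFunctor (DerivedCategory A) n).mapIso e).symm.homToEquiv.subsingleton

/-- Objects left orthogonal to complete ones satisfy the Koszul condition. -/
theorem kosOrth_of_lOrth {N : DerivedCategory (ModSite.Mod O)} (hN : LOrth O I N) : KosOrth O I N :=
  fun V l hl n =>
    have := subsingleton_nil_hom hl hN (Y := DerivedCategory.Q.obj (kosUnit V l))
      (fun a ha => KosCx.nil_Q _ _ _ (List.mem_map.2 ⟨a, ha, rfl⟩)) n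
    (extHomEquiv V _ N n).subsingleton

lemma GenPair.restrict (hl : GenPair I V l) {V' : C} (g : V' ⟶ V) :
    GenPair I V' (l.map fun a => (O.obj.map g.op).hom a) where
  mem a' ha' := by
    obtain ⟨a, ha, rfl⟩ := List.mem_map.1 ha'
    exact I.map_mem g (hl.mem a ha)
  loc X h x hx := by
    obtain ⟨S, hS, hs⟩ := hl.loc (h ≫ g) x hx
    refine ⟨S, hS, fun X' k hk => ?_⟩
    have e : spanAt l (k ≫ h ≫ g) = spanAt (l.map fun a => (O.obj.map g.op).hom a) (k ≫ h) := by
      rw [spanAt, spanAt]
      congr 1
      ext y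
      simp only [Set.mem_image, Set.mem_setOf_eq, List.mem_map]
      constructor
      · rintro ⟨a, ha, rfl⟩
        refine ⟨_, ⟨a, ha, rfl⟩, ?_⟩
        rw [← assoc, op_comp (g := g), Functor.map_comp]
        rfl
      · rintro ⟨_, ⟨a, ha, rfl⟩, rfl⟩
        refine ⟨a, ha, ?_⟩
        rw [← assoc, op_comp (g := g), Functor.map_comp]
        rfl
    exact e ▸ hs k hk

/-- The objects with generators of `I` cover. -/
theorem exists_genPair (hI : I.IsFiniteType) (U : C) :
    ∃ S ∈ J U, ∀ ⦃V : C⦄ (g : V ⟶ U), S g → ∃ l, GenPair I V l := by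
  obtain ⟨S, hS, h⟩ := hI U
  refine ⟨S, hS, fun V g hg => ?_⟩
  obtain ⟨r, a, ha⟩ := h g hg
  refine ⟨List.ofFn a, ?_, ?_⟩
  · intro x hx
    obtain ⟨i, rfl⟩ := List.mem_ofFn.1 hx
    have h1 := ha.1 i (Over.mk (𝟙 V))
    change (O.obj.map (𝟙 V).op).hom (a i) ∈ I.ideal V at h1
    rwa [op_id, CategoryTheory.Functor.map_id] at h1
  · intro X h x hx
    let K : DerComp.IdealSh (O.over V) :=
      { ideal := fun Z =>
          { carrier := {g | ∃ S ∈ J Z.left, ∀ ⦃X' : C⦄ (k : X' ⟶ Z.left), S k →
              (O.obj.map k.op).hom g ∈ spanAt (List.ofFn a) (k ≫ Z.hom)}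
            zero_mem' := ⟨⊤, J.top_mem _, fun X' k _ =>
              (congrArg (· ∈ spanAt (List.ofFn a) (k ≫ Z.hom)) (map_zero (O.obj.map k.op).hom)).mpr (zero_mem _)⟩
            add_mem' := by
              rintro x y ⟨S, hS, hx⟩ ⟨T, hT, hy⟩
              exact ⟨S ⊓ T, J.intersection_covering hS hT, fun X' k hk =>
                (congrArg (· ∈ spanAt (List.ofFn a) (k ≫ Z.hom)) (map_add (O.obj.map k.op).hom x y)).mpr
                  (add_mem (hx k hk.1) (hy k hk.2))⟩
            smul_mem' := by
              rintro c x ⟨S, hS, hx⟩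
              exact ⟨S, hS, fun X' k hk =>
                (congrArg (· ∈ spanAt (List.ofFn a) (k ≫ Z.hom)) (map_mul (O.obj.map k.op).hom c x)).mpr
                  (Ideal.mul_mem_left _ _ (hx k hk))⟩ }
        map_mem := fun {Z Z'} m g hg => by
          obtain ⟨S, hS, hs⟩ := hg
          refine ⟨S.pullback m.left, J.pullback_stable _ hS, fun X' k hk => ?_⟩
          have := hs (k ≫ m.left) hk
          rw [assoc, Over.w, op_comp, Functor.map_comp] at this
          exact this
        glue := fun {Z f} T hT hf => by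
          rw [GrothendieckTopology.mem_over_iff] at hT
          refine ⟨{ arrows := fun X' k => (O.obj.map k.op).hom f ∈ spanAt (List.ofFn a) (k ≫ Z.hom)
                    downward_closed := fun {X₁ X₂ k} hk t => by
                      have h1 := spanAt_map _ _ t hk
                      rw [assoc, op_comp, Functor.map_comp]
                      exact h1 }, J.transitive hT _ fun X' k hk => ?_, fun X' k hk => hk⟩
          obtain ⟨S, hS, hs⟩ := hf (Over.homMk k : Over.mk (k ≫ Z.hom) ⟶ Z) ((Sieve.overEquiv_iff T k).1 hk)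
          refine J.superset_covering (fun X'' t ht => ?_) hS
          have := hs t ht
          show (O.obj.map (t ≫ k).op).hom f ∈ spanAt (List.ofFn a) ((t ≫ k) ≫ Z.hom)
          rw [assoc, op_comp, Functor.map_comp]
          exact this }
    have hK : K.Contains fun i => DerComp.GSec.ofSect O V (a i) := fun i Z =>
      ⟨⊤, J.top_mem _, fun X' k _ => Ideal.subset_span ⟨a i, List.mem_ofFn.2 ⟨i, rfl⟩, by
        show _ = (O.obj.map k.op).hom ((O.obj.map Z.hom.op).hom (a i))
        rw [op_comp, Functor.map_comp]; rfl⟩⟩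
    exact ha.2 K hK (Over.mk h) hx

/-- A complete object satisfying the Koszul condition is zero. -/
theorem isZero_of_kosOrth (hI : I.IsFiniteType) {L : DerivedCategory (ModSite.Mod O)}
    (hL : DerComp.IsDerComp O I L) (hk : KosOrth O I L) : IsZero L := by
  let G : Set C := {V | ∃ l, GenPair I V l}
  refine TelLocal.isZero_of_separating _ (isSeparating_freeOn (O := O) G fun U => ?_) L fun P hP n => ?_
  · obtain ⟨S, hS, h⟩ := exists_genPair hI U
    exact ⟨Σ V : C, {g : V ⟶ U // S g}, fun i => i.1, fun i => i.2.1,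
      J.superset_covering (fun V g hg => Sieve.ofArrows_mk (fun i : Σ V : C, {g : V ⟶ U // S g} => i.1)
        (fun i => i.2.1) ⟨V, g, hg⟩) hS, fun i => h i.2.1 i.2.2⟩
  obtain ⟨⟨V, l, hl⟩⟩ := hP
  let r := l.map fun a => DerComp.GSec.ofSect O V a
  let X := (ModSite.restr O V).mapDerivedCategory.obj L
  have h2 := (KosCx.chain_Q r ((HomologicalComplex.single (ModSite.Mod (O.over V)) (ComplexShape.up ℤ) 0).obj
    (ModSite.unit (O.over V)))).vanish_left (W := X)
    (fun s hs Y m => by
      obtain ⟨a, ha, rfl⟩ := List.mem_map.1 hs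
      have h' := DerCompRHom.tb_sc_restr (L⟦m⟧) a
        (fun W g => (DerCompTel.isDerComp_iff I _).1 (isDerComp_shift hL m) W _ (I.map_mem g (hl.mem a ha))) Y
      exact TelLocal.tb_sc_of_iso _ (Iso.refl Y) (((ModSite.restr O V).mapDerivedCategory.commShiftIso m).app L) h')
    (fun m => by
      have := hk V l hl m
      exact (extHomEquiv V _ L m).symm.subsingleton) n
  have h3 := (extHomEquiv V ((HomologicalComplex.single (ModSite.Mod (O.over V)) (ComplexShape.up ℤ) 0).obj
    (ModSite.unit (O.over V))) L n).subsingleton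
  exact @Equiv.subsingleton _ _ (((KFlatLib.singleQ 0 (ModSite.freeOn O V)).trans (DerivedCategory.Q.mapIso
    ((HomologicalComplex.singleMapHomologicalComplex (ModSite.extZero O V) (ComplexShape.up ℤ) 0).app
      (ModSite.unit (O.over V))).symm)).homFromEquiv) h3

/-- The cone of the completion map is left orthogonal to complete objects. -/
theorem lOrth_cone [DerComp.HasDerCompletion O I] (N : DerivedCategory (ModSite.Mod O))
    {D : DerivedCategory (ModSite.Mod O)} (g : ((DerComp.derCompletion O I).obj N).obj ⟶ D) (h : D ⟶ N⟦(1 : ℤ)⟧)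
    (hT : Triangle.mk (DerComp.toDerCompletion I N) g h ∈ distTriang _) : LOrth O I D := fun L hL =>
  (TelOrth.forall_subsingleton_iff _ hT L).2 fun n =>
    DerCompRestrict.toDerCompletion_bijective I N _ (isDerComp_shift hL n)

/-- The Koszul condition implies left orthogonality to complete objects. -/
theorem lOrth_of_kosOrth [DerComp.HasDerCompletion O I] (hI : I.IsFiniteType)
    {N : DerivedCategory (ModSite.Mod O)} (hN : KosOrth O I N) : LOrth O I N := by
  obtain ⟨D, g, h, hT⟩ := distinguished_cocone_triangle (DerComp.toDerCompletion I N)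
  have hD := kosOrth_of_lOrth (lOrth_cone N g h hT)
  have hz : IsZero ((DerComp.derCompletion O I).obj N).obj := by
    refine isZero_of_kosOrth hI ((DerComp.derCompletion O I).obj N).property fun V l hl n => ?_
    refine subsingleton_of_forall_eq 0 fun f => ?_
    obtain ⟨f', hf'⟩ := Triangle.coyoneda_exact₂ _ (Triangle.shift_distinguished _ hT n) f
      ((hD V l hl n).elim _ _)
    rw [hf', (hN V l hl n).elim f' 0]
    exact zero_comp
  intro L hL n
  refine subsingleton_of_forall_eq 0 fun x => ?_
  obtain ⟨y, rfl⟩ := (DerCompRestrict.toDerCompletion_bijective I N _ (isDerComp_shift hL n)).2 x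
  show _ ≫ y = 0
  rw [hz.eq_of_src y 0, comp_zero]

/-- The cone of a completion map satisfies the Koszul condition. -/
theorem kosOrth_cone [DerComp.HasDerCompletion O I] (N : DerivedCategory (ModSite.Mod O))
    {D : DerivedCategory (ModSite.Mod O)} (g : ((DerComp.derCompletion O I).obj N).obj ⟶ D) (h : D ⟶ N⟦(1 : ℤ)⟧)
    (hT : Triangle.mk (DerComp.toDerCompletion I N) g h ∈ distTriang _) : KosOrth O I D :=
  kosOrth_of_lOrth (lOrth_cone N g h hT)

end Groth.Agent.H9Misc.Kos
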