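import Groth.Agent.H9Misc.FinDimDerived
import Groth.Agent.KFlatLib.BrutalTrunc
import Groth.Agent.TriCat.DerivedCoproducts
import Mathlib.CategoryTheory.Triangulated.Adjunction
import Groth.Agent.TriCat.SeqColimit
import Groth.Agent.TriCat.DerivedOfAdjunction
import Groth.Agent.TriCat.KInjRes
import Groth.Agent.IndExt.Additive
import Mathlib.Algebra.Homology.Factorizations.CM5b
import Mathlib.Algebra.Homology.HomotopyCategory.DegreewiseSplit
import Mathlib.Algebra.Homology.GrothendieckAbelian
import Mathlib.Algebra.Category.Grp.AB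

/-! Complexes of acyclic objects compute a derived functor commuting with countable sums. -/

set_option linter.style.haveILetI false

universe w w' v v' u u'

open CategoryTheory Category Limits Pretriangulated HomologicalComplex

namespace Groth.Agent.H9Misc.AcyclicUnit

open Groth.Agent.TriCat

section BddBelow

variable {A : Type u} [Category.{v} A] [Abelian A] [EnoughInjectives A]
  {B : Type u'} [Category.{v'} B] [Abelian B] (F : A ⥤ B) [F.Additive] [PreservesFiniteLimits F]

theorem exactAt_map (Q : CochainComplex A ℤ) (a : ℤ) [Q.IsStrictlyGE a] (hQ : Q.Acyclic)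
    (hP : ∀ j, IsRightAcyclic F (Q.X j)) (m : ℤ) :
    ((F.mapHomologicalComplex (ComplexShape.up ℤ)).obj Q).ExactAt m := by
  have hw : ∀ a b : ℤ, Q.iCycles a ≫ Q.toCycles a b = 0 := fun a b => by
    rw [← cancel_mono (Q.iCycles b), assoc, Q.toCycles_i, Q.iCycles_d, zero_comp]
  have hepi : ∀ a b : ℤ, a + 1 = b → Epi (Q.toCycles a b) := fun a b h => by
    subst h
    have hp : (ComplexShape.up ℤ).prev (a + 1) = a := by simp
    have e := hQ (a + 1)
    rw [exactAt_iff_isZero_homology] at e
    have hc := Q.homologyIsCokernel a (a + 1) hp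
    exact Preadditive.epi_of_cancel_zero _ fun {T} g hg => by
      obtain ⟨l, hl⟩ := CokernelCofork.IsColimit.desc' hc g hg
      rw [← hl, e.eq_of_src l 0, comp_zero]
  have hS : ∀ a b : ℤ, a + 1 = b → (ShortComplex.mk _ _ (hw a b)).ShortExact := fun a b h =>
    { exact := by
        have hd : (ShortComplex.mk (Q.iCycles a) (Q.d a b) (Q.iCycles_d a b)).Exact :=
          ShortComplex.exact_of_f_is_kernel _ (Q.cyclesIsKernel a b (by simp [← h]))
        rw [ShortComplex.exact_iff_exact_up_to_refinements]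
        intro T x hx
        exact hd.exact_up_to_refinements x (by
          show x ≫ Q.d a b = 0
          rw [← Q.toCycles_i a b, reassoc_of% hx, zero_comp])
      mono_f := inferInstanceAs (Mono (Q.iCycles a))
      epi_g := hepi a b h }
  have key : ∀ (k : ℕ) (j : ℤ), j < a + k → IsRightAcyclic F (Q.cycles j) := by
    intro k
    induction k with
    | zero =>
      intro j hj i _
      exact (F.rightDerived i).map_isZero
        (IsZero.of_mono (Q.iCycles j) (Q.isZero_of_isStrictlyGE a j (by omega)))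
    | succ k ih =>
      intro j hj
      exact acyclic₃ (hS (j - 1) j (by omega)) (ih (j - 1) (by omega)) (hP (j - 1))
  have hZ : ∀ j, IsRightAcyclic F (Q.cycles j) := fun j => key (j - a + 1).toNat j (by omega)
  have hA := isAdapted_isRightAcyclic (F := F)
  have s₁ := hA.map_shortExact (hS (m - 1) m (by omega)) (hZ _) (hP _)
  have s₂ := hA.map_shortExact (hS m (m + 1) rfl) (hZ _) (hP _)
  let s : ImgStep F (IsRightAcyclic F) (Q.d (m - 1) m) :=
    { Z := Q.cycles m
      p := Q.toCycles (m - 1) m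
      i := Q.iCycles m
      fac := Q.toCycles_i _ _
      mem := hZ m
      epi_p := hepi _ _ (by omega)
      mono_i := inferInstance
      epi_Fp := s₁.epi_g
      mono_Fi := s₂.mono_f }
  rw [HomologicalComplex.exactAt_iff' _ (m - 1) m (m + 1) (by simp) (by simp)]
  exact (exists_imgStep_next s _ (Q.d_comp_d _ _ _)
    ((Q.exactAt_iff' (m - 1) m (m + 1) (by simp) (by simp)).1 (hQ m)) hA (hP _) (hP _)).2

variable [HasDerivedCategory.{w} A] [HasDerivedCategory.{w'} B]

theorem isIso_map_of_quasiIso {K L : CochainComplex A ℤ} (f : K ⟶ L) (a : ℤ) [K.IsStrictlyGE a]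
    [L.IsStrictlyGE a] [QuasiIso f] (hK : ∀ j, IsRightAcyclic F (K.X j))
    (hL : ∀ j, IsRightAcyclic F (L.X j)) :
    IsIso ((F.mapHomotopyCategory (ComplexShape.up ℤ) ⋙ DerivedCategory.Qh).map
      ((HomotopyCategory.quotient A (ComplexShape.up ℤ)).map f)) := by
  have hT := HomotopyCategory.mappingCone_triangleh_distinguished f
  let C₀ := CochainComplex.mappingCone f
  have hz : IsZero (DerivedCategory.Qh.obj ((HomotopyCategory.quotient A (.up ℤ)).obj C₀)) :=
    (Triangle.isZero₃_iff_isIso₁ _ (DerivedCategory.Qh.map_distinguished _ hT)).2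
      ((NatIso.isIso_map_iff (DerivedCategory.quotientCompQhIso A) f).2 inferInstance)
  have hC : C₀.Acyclic :=
    (FinDimDerived.isZero_Q_obj_iff C₀).1 (hz.of_iso ((DerivedCategory.quotientCompQhIso A).symm.app C₀))
  haveI : C₀.IsStrictlyGE (a - 1) := by
    rw [CochainComplex.isStrictlyGE_iff]
    intro i hi
    exact IsZero.of_iso ((biprod_isZero_iff _ _).2
      ⟨K.isZero_of_isStrictlyGE a (i + 1) (by omega), L.isZero_of_isStrictlyGE a i (by omega)⟩)
      (HomologicalComplex.homotopyCofiber.XIsoBiprod f i (i + 1) rfl)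
  have hP : ∀ j, IsRightAcyclic F (C₀.X j) := fun j i hi => by
    have := preservesBinaryBiproducts_of_preservesBiproducts (F.rightDerived i)
    have hb : IsZero ((F.rightDerived i).obj (K.X (j + 1) ⊞ L.X j)) :=
      ((F.rightDerived i).mapBiprod _ _).symm.isZero_iff.1
        ((biprod_isZero_iff _ _).2 ⟨hK (j + 1) i hi, hL j i hi⟩)
    exact hb.of_iso ((F.rightDerived i).mapIso
      (HomologicalComplex.homotopyCofiber.XIsoBiprod f j (j + 1) rfl))
  refine (Triangle.isZero₃_iff_isIso₁ _
    ((F.mapHomotopyCategory (ComplexShape.up ℤ) ⋙ DerivedCategory.Qh).map_distinguished _ hT)).1 ?_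
  exact ((FinDimDerived.isZero_Q_obj_iff _).2 (fun j => exactAt_map F C₀ (a - 1) hC hP j)).of_iso
    ((Functor.isoWhiskerRight (F.mapHomotopyCategoryFactors (ComplexShape.up ℤ)) DerivedCategory.Qh).app C₀ ≪≫
      (DerivedCategory.quotientCompQhIso B).app _)

theorem isIso_map_unit {R : DerivedCategory A ⥤ HomotopyCategory A (ComplexShape.up ℤ)}
    (adj : DerivedCategory.Qh ⊣ R) (K : CochainComplex A ℤ) (a : ℤ) [K.IsStrictlyGE a]
    (hK : ∀ j, IsRightAcyclic F (K.X j)) :
    IsIso ((F.mapHomotopyCategory (ComplexShape.up ℤ) ⋙ DerivedCategory.Qh).map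
      (adj.unit.app ((HomotopyCategory.quotient A (ComplexShape.up ℤ)).obj K))) := by
  obtain ⟨I, f, hf, hinj, hI⟩ := CochainComplex.Plus.modelCategoryQuillen.exists_quasiIso_injective K a
  haveI := hf
  haveI := hI
  haveI : ∀ n, Injective (I.X n) := hinj
  haveI : I.IsKInjective := CochainComplex.isKInjective_of_injective I a
  haveI := TriCat.isIso_unit_of_isKInjective adj I
  let Φ : HomotopyCategory A (ComplexShape.up ℤ) ⥤ DerivedCategory B :=
    F.mapHomotopyCategory (ComplexShape.up ℤ) ⋙ DerivedCategory.Qh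
  let g := (HomotopyCategory.quotient A (ComplexShape.up ℤ)).map f
  haveI : IsIso (Φ.map g) := isIso_map_of_quasiIso F f a hK fun j => isRightAcyclic_of_injective _
  haveI : IsIso (DerivedCategory.Qh.map g) :=
    (NatIso.isIso_map_iff (DerivedCategory.quotientCompQhIso A) f).2 inferInstance
  have e : Φ.map g ≫ Φ.map (adj.unit.app _) =
      Φ.map (adj.unit.app _) ≫ Φ.map (R.map (DerivedCategory.Qh.map g)) := by
    rw [← Φ.map_comp, ← Φ.map_comp]
    exact congrArg Φ.map (adj.unit.naturality g)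
  have hI' : IsIso (Φ.map (adj.unit.app ((HomotopyCategory.quotient A (ComplexShape.up ℤ)).obj I))) :=
    inferInstance
  haveI : IsIso (Φ.map (adj.unit.app _) ≫ Φ.map (R.map (DerivedCategory.Qh.map g))) :=
    e ▸ IsIso.comp_isIso' inferInstance hI'
  exact IsIso.of_isIso_comp_right _ (Φ.map (R.map (DerivedCategory.Qh.map g)))

end BddBelow

section Trunc

variable {A : Type u} [Category.{v} A] [Abelian A] (K : CochainComplex A ℤ)

/-- The brutal truncation in degrees `≥ -n`. -/
noncomputable abbrev T (n : ℕ) : CochainComplex A ℤ :=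
  K.stupidTrunc (ComplexShape.embeddingUpIntGE (-(n : ℤ)))

/-- The inclusion of the truncation. -/
noncomputable abbrev ι (n : ℕ) : T K n ⟶ K := KFlatLib.sigmaGEι K (-(n : ℤ))

lemma isStrictlyGE_T (n : ℕ) : (T K n).IsStrictlyGE (-(n : ℤ)) :=
  (CochainComplex.isStrictlyGE_iff _ _).2 fun i hi => KFlatLib.isZero_stupidTrunc_of_lt K _ i hi

lemma exists_trans (n : ℕ) : ∃ t : T K n ⟶ T K (n + 1), t ≫ ι K (n + 1) = ι K n := by
  have h : ∀ i, ∃ g : (T K n).X i ⟶ (T K (n + 1)).X i, g ≫ (ι K (n + 1)).f i = (ι K n).f i := by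
    intro i
    by_cases hi : -((n + 1 : ℕ) : ℤ) ≤ i
    · haveI := KFlatLib.isIso_sigmaGEι_f K _ i hi
      exact ⟨(ι K n).f i ≫ inv ((ι K (n + 1)).f i), by simp⟩
    · exact ⟨0, (KFlatLib.isZero_stupidTrunc_of_lt K _ i (by omega)).eq_of_src _ _⟩
  choose g hg using h
  refine ⟨{ f := g, comm' := fun i j _ => ?_ }, HomologicalComplex.hom_ext _ _ hg⟩
  haveI := KFlatLib.mono_sigmaGEι_f K (-((n + 1 : ℕ) : ℤ)) j
  rw [← cancel_mono ((ι K (n + 1)).f j), assoc, assoc, hg, ← (ι K (n + 1)).comm, reassoc_of% hg,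
    (ι K n).comm]

/-- The system of truncations. -/
noncomputable def truncSystem : ℕ ⥤ CochainComplex A ℤ :=
  Functor.ofSequence fun n => (exists_trans K n).choose

/-- The truncations form a cocone. -/
noncomputable def truncCocone : Cocone (truncSystem K) where
  pt := K
  ι := NatTrans.ofSequence (fun n => ι K n) fun n => by
    refine Eq.trans ?_ (comp_id _).symm
    refine (congrArg (· ≫ ι K (n + 1)) ?_).trans (exists_trans K n).choose_spec
    exact Functor.ofSequence_map_homOfLE_succ _ n

lemma isIso_truncCocone_f (i : ℤ) (n : ℕ) (hn : (-i).toNat ≤ n) :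
    IsIso (((truncCocone K).ι.app n).f i) :=
  KFlatLib.isIso_sigmaGEι_f K (-(n : ℤ)) i (by omega)

/-- A sequential cocone with eventually invertible legs is a colimit. -/
noncomputable def isColimitOfEventuallyIso {C : Type*} [Category C] {G : ℕ ⥤ C} (c : Cocone G) (N : ℕ)
    (h : ∀ n, N ≤ n → IsIso (c.ι.app n)) : IsColimit c :=
  haveI := h N le_rfl
  { desc := fun s => inv (c.ι.app N) ≫ s.ι.app N
    fac := fun s n => by
      rcases le_total n N with hn | hn
      · rw [← c.w (homOfLE hn), assoc, IsIso.hom_inv_id_assoc]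
        exact s.w (homOfLE hn)
      · haveI := h n hn
        have e : G.map (homOfLE hn) ≫ c.ι.app n = c.ι.app N := c.w (homOfLE hn)
        haveI : IsIso (G.map (homOfLE hn) ≫ c.ι.app n) := by rw [e]; infer_instance
        haveI : IsIso (G.map (homOfLE hn)) := IsIso.of_isIso_comp_right _ (c.ι.app n)
        rw [← cancel_epi (G.map (homOfLE hn)), reassoc_of% e, IsIso.hom_inv_id_assoc, s.w (homOfLE hn)]
    uniq := fun s m hm => (IsIso.eq_inv_comp _).2 (hm _) }

/-- It is a colimit. -/
noncomputable def isColimitTruncCocone : IsColimit (truncCocone K) :=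
  HomologicalComplex.isColimitOfEval _ _ fun i =>
    isColimitOfEventuallyIso _ (-i).toNat fun n hn => isIso_truncCocone_f K i n hn

end Trunc

section Coprod

/-- `Q` preserves coproducts. -/
lemma preservesColimit_Q {A : Type u} [Category.{v} A] [Abelian A] {J : Type}
    [HasDerivedCategory.{w} A] [HasColimitsOfShape (Discrete J) A] [HasExactColimitsOfShape (Discrete J) A]
    (K : J → CochainComplex A ℤ) :
    PreservesColimit (Discrete.functor K)
      (DerivedCategory.Q : CochainComplex A ℤ ⥤ DerivedCategory A) := by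
  let Q : CochainComplex A ℤ ⥤ DerivedCategory A := DerivedCategory.Q
  have hdesc : ∀ {T : DerivedCategory A} (k : ∀ j, Q.obj (K j) ⟶ T),
      ∃ d : Q.obj (∐ K) ⟶ T, ∀ j, Q.map (Sigma.ι K j) ≫ d = k j := by
    intro T k
    let eT := Q.objObjPreimageIso T
    choose Z s hs f hf using fun j => DerivedCategory.right_fac (k j ≫ eT.inv)
    haveI : IsIso (Q.map (Limits.Sigma.map s)) := (DerivedCategory.isIso_Q_map_iff_quasiIso _ _).2
      (TriCat.quasiIso_sigmaMap s fun j => (DerivedCategory.isIso_Q_map_iff_quasiIso _ _).1 (hs j))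
    refine ⟨inv (Q.map (Limits.Sigma.map s)) ≫ Q.map (Sigma.desc f) ≫ eT.hom, fun j => ?_⟩
    haveI : IsIso (Q.map (s j)) := hs j
    rw [← cancel_epi (Q.map (s j)), ← Q.map_comp_assoc, ← Sigma.ι_map s j, Q.map_comp_assoc,
      IsIso.hom_inv_id_assoc, ← Q.map_comp_assoc, Sigma.ι_desc]
    have h := congrArg (fun g => Q.map (s j) ≫ g ≫ eT.hom) (hf j)
    simp only [Category.assoc, Iso.inv_hom_id, Category.comp_id] at h
    rw [h]
    exact (IsIso.hom_inv_id_assoc _ _).symm
  refine preservesColimit_of_preserves_colimit_cocone (coproductIsCoproduct K) ?_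
  refine (Cofan.isColimitMapCoconeEquiv Q _ _).symm ?_
  exact Cofan.IsColimit.mk _ (fun t => (hdesc t.inj).choose)
    (fun t j => (hdesc t.inj).choose_spec j)
    (fun t m hm => sub_eq_zero.1 (TriCat.sigma_Q_hom_ext _ fun j => by
      rw [Preadditive.comp_sub, sub_eq_zero]
      exact (hm j).trans ((hdesc t.inj).choose_spec j).symm))


variable {A : Type u} [Category.{v} A] [Abelian A] [IsGrothendieckAbelian.{v} A]
  (F : A ⥤ AddCommGrpCat.{v}) [F.Additive] [PreservesFiniteLimits F]

lemma preservesColimitsOfShape_discrete_nat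
    (h : ∀ (J : Type v) [SmallCategory J] [IsFiltered J], PreservesColimitsOfShape J (F.rightDerived 0)) :
    PreservesColimitsOfShape (Discrete ℕ) F := by
  haveI : PreservesFilteredColimitsOfSize.{v, v} F :=
    ⟨fun J _ _ => haveI := h J
      preservesColimitsOfShape_of_natIso F.rightDerivedZeroIsoSelf⟩
  haveI := IndExt.preservesCoproducts_of_finite_of_filtered F (ULift.{v} ℕ)
  exact preservesColimitsOfShape_of_equiv (Discrete.equivalence Equiv.ulift) F

lemma preservesColimitsOfShape_mapHomologicalComplex [PreservesColimitsOfShape (Discrete ℕ) F] :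
    PreservesColimitsOfShape (Discrete ℕ) (F.mapHomologicalComplex (ComplexShape.up ℤ)) :=
  ⟨fun {_} => ⟨fun {c} hc => ⟨HomologicalComplex.isColimitOfEval _ _ fun i =>
    isColimitOfPreserves (HomologicalComplex.eval A (ComplexShape.up ℤ) i ⋙ F) hc⟩⟩⟩

end Coprod

section Main

variable {A : Type u} [Category.{v} A] [Abelian A] [IsGrothendieckAbelian.{v} A]
  [HasDerivedCategory.{w} A] [HasDerivedCategory.{w'} AddCommGrpCat.{v}]
  (F : A ⥤ AddCommGrpCat.{v}) [F.Additive] [PreservesFiniteLimits F]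

theorem isIso_totalRightDerivedUnit [PreservesColimitsOfShape (Discrete ℕ) F]
    [(F.mapHomotopyCategory (ComplexShape.up ℤ) ⋙ DerivedCategory.Qh).HasRightDerivedFunctor
      (HomotopyCategory.quasiIso A (ComplexShape.up ℤ))]
    [PreservesColimitsOfShape (Discrete ℕ) ((F.mapHomotopyCategory (ComplexShape.up ℤ) ⋙
      DerivedCategory.Qh).totalRightDerived DerivedCategory.Qh (HomotopyCategory.quasiIso A (ComplexShape.up ℤ)))]
    (K : CochainComplex A ℤ) (hK : ∀ m, IsRightAcyclic F (K.X m)) :
    IsIso (((F.mapHomotopyCategory (ComplexShape.up ℤ) ⋙ DerivedCategory.Qh).totalRightDerivedUnit DerivedCategory.Qh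
      (HomotopyCategory.quasiIso A (ComplexShape.up ℤ))).app ((HomotopyCategory.quotient A (ComplexShape.up ℤ)).obj K)) := by
  let W := HomotopyCategory.quasiIso A (ComplexShape.up ℤ)
  let Φ := F.mapHomotopyCategory (ComplexShape.up ℤ) ⋙ DerivedCategory.Qh
  let q := HomotopyCategory.quotient A (ComplexShape.up ℤ)
  let Qh : HomotopyCategory A (ComplexShape.up ℤ) ⥤ DerivedCategory A := DerivedCategory.Qh
  haveI : (DerivedCategory.Qh (C := A)).IsLeftAdjoint :=
    TriCat.qh_isLeftAdjoint_of_exists_resolution fun K => by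
      obtain ⟨I, f, h1, h2, -, -⟩ := TriCat.exists_kInjective_resolution'.{v} K
      exact ⟨I, f, h1, h2⟩
  let R := Functor.rightAdjoint (DerivedCategory.Qh (C := A))
  let adj : DerivedCategory.Qh ⊣ R := Adjunction.ofIsLeftAdjoint _
  haveI : (R ⋙ Φ).IsRightDerivedFunctor (L := DerivedCategory.Qh)
      (Functor.whiskerRight adj.unit Φ : Φ ⟶ DerivedCategory.Qh ⋙ R ⋙ Φ) W :=
    TriCat.isRightDerivedFunctor_of_adjunction adj W Φ
  let RF := Φ.totalRightDerived DerivedCategory.Qh W
  let φ : RF ≅ R ⋙ Φ := Functor.rightDerivedUnique RF (R ⋙ Φ) (Φ.totalRightDerivedUnit DerivedCategory.Qh W)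
    (Functor.whiskerRight adj.unit Φ : Φ ⟶ DerivedCategory.Qh ⋙ R ⋙ Φ) W
  suffices h : IsIso (Φ.map (adj.unit.app (q.obj K))) by
    have e : (Φ.totalRightDerivedUnit DerivedCategory.Qh W).app (q.obj K) ≫
        φ.hom.app (DerivedCategory.Qh.obj (q.obj K)) = Φ.map (adj.unit.app (q.obj K)) := by
      simp only [φ, Functor.rightDerivedUnique, Functor.rightDerivedNatIso, Iso.refl_hom]
      exact (Functor.rightDerivedNatTrans_app _ _ _ _ W (𝟙 Φ) _).trans (id_comp _)
    haveI : IsIso ((Φ.totalRightDerivedUnit DerivedCategory.Qh W).app (q.obj K) ≫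
        φ.hom.app (DerivedCategory.Qh.obj (q.obj K))) := e ▸ h
    exact IsIso.of_isIso_comp_right _ (φ.hom.app (DerivedCategory.Qh.obj (q.obj K)))
  letI : R.CommShift ℤ := adj.rightAdjointCommShift ℤ
  haveI : adj.CommShift ℤ := adj.commShift_of_leftAdjoint ℤ
  haveI : R.IsTriangulated := adj.isTriangulated_rightAdjoint
  haveI : HasColimitsOfShape ℕ A := inferInstance
  haveI : HasExactColimitsOfShape (Discrete ℕ) A := inferInstance
  let T' := truncSystem K
  let S := ShortComplex.mk _ _ (TriCat.telescope_comp_desc T')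
  have hS : S.ShortExact := TriCat.telescope_shortExact T'
  let c : colimit T' ≅ K := (colimit.isColimit T').coconePointUniqueUpToIso (isColimitTruncCocone K)
  have hc : ∀ (i : ℤ) (n : ℕ), (-i).toNat ≤ n → IsIso ((colimit.ι T' n).f i) := fun i n h => by
    have e : colimit.ι T' n ≫ c.hom = (truncCocone K).ι.app n :=
      (colimit.isColimit T').comp_coconePointUniqueUpToIso_hom (isColimitTruncCocone K) n
    haveI := isIso_truncCocone_f K i n h
    haveI : IsIso ((colimit.ι T' n).f i ≫ c.hom.f i) := by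
      rw [← HomologicalComplex.comp_f, e]; exact isIso_truncCocone_f K i n h
    exact IsIso.of_isIso_comp_right _ (c.hom.f i)
  have hsec : ∀ i, ∃ z : S.X₃.X i ⟶ S.X₂.X i, z ≫ S.g.f i = 𝟙 _ := fun i => by
    haveI hci : IsIso ((colimit.ι T' (-i).toNat).f i) := hc i (-i).toNat le_rfl
    refine ⟨inv ((colimit.ι T' (-i).toNat).f i) ≫ (Sigma.ι T'.obj (-i).toNat).f i, ?_⟩
    show (inv ((colimit.ι T' (-i).toNat).f i) ≫ (Sigma.ι T'.obj (-i).toNat).f i) ≫
      (Sigma.desc fun n => colimit.ι T' n).f i = 𝟙 _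
    rw [assoc, ← HomologicalComplex.comp_f, Sigma.ι_desc, IsIso.inv_hom_id]
  let σ : ∀ i, (S.map (HomologicalComplex.eval A (ComplexShape.up ℤ) i)).Splitting := fun i =>
    ShortComplex.Splitting.ofExactOfSection _ (hS.map_of_exact _).exact
      (hsec i).choose (hsec i).choose_spec (hS.map_of_exact _).mono_f
  have hdist : CochainComplex.trianglehOfDegreewiseSplit S σ ∈ distTriang _ :=
    (HomotopyCategory.distinguished_iff_iso_trianglehOfDegreewiseSplit _).2 ⟨S, σ, ⟨Iso.refl _⟩⟩
  let η : 𝟭 _ ⟶ Qh ⋙ R := adj.unit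
  -- the truncations
  have h₀ : ∀ n, IsIso (Φ.map (adj.unit.app (q.obj (T'.obj n)))) := fun n => by
    haveI := isStrictlyGE_T K n
    refine isIso_map_unit F adj (T K n) (-(n : ℤ)) fun j => ?_
    by_cases hj : -(n : ℤ) ≤ j
    · haveI := KFlatLib.isIso_sigmaGEι_f K _ j hj
      exact fun i hi => (hK j i hi).of_iso ((F.rightDerived i).mapIso (asIso ((ι K n).f j)))
    · exact fun i _ => (F.rightDerived i).map_isZero
        (KFlatLib.isZero_stupidTrunc_of_lt K _ j (by omega))
  -- the sum
  have h₁ : IsIso (Φ.map (adj.unit.app (q.obj (∐ T'.obj)))) := by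
    haveI := preservesColimitsOfShape_mapHomologicalComplex F
    haveI : PreservesColimitsOfShape (Discrete ℕ) (q ⋙ Qh) :=
      haveI : PreservesColimitsOfShape (Discrete ℕ) (DerivedCategory.Q (C := A)) :=
        haveI : ∀ f : ℕ → CochainComplex A ℤ, PreservesColimit (Discrete.functor f)
            (DerivedCategory.Q (C := A)) := fun f => preservesColimit_Q f
        preservesColimitsOfShape_of_discrete _
      preservesColimitsOfShape_of_natIso (DerivedCategory.quotientCompQhIso A).symm
    haveI : PreservesColimitsOfShape (Discrete ℕ) (HomotopyCategory.quotient AddCommGrpCat.{v}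
        (ComplexShape.up ℤ) ⋙ DerivedCategory.Qh) :=
      haveI : PreservesColimitsOfShape (Discrete ℕ) (DerivedCategory.Q (C := AddCommGrpCat.{v})) :=
        haveI : ∀ f : ℕ → CochainComplex AddCommGrpCat.{v} ℤ, PreservesColimit (Discrete.functor f)
            (DerivedCategory.Q (C := AddCommGrpCat.{v})) := fun f => preservesColimit_Q f
        preservesColimitsOfShape_of_discrete _
      preservesColimitsOfShape_of_natIso (DerivedCategory.quotientCompQhIso AddCommGrpCat.{v}).symm
    haveI : PreservesColimitsOfShape (Discrete ℕ) (R ⋙ Φ) := preservesColimitsOfShape_of_natIso φ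
    haveI : PreservesColimitsOfShape (Discrete ℕ) (q ⋙ Φ) :=
      preservesColimitsOfShape_of_natIso (show F.mapHomologicalComplex (ComplexShape.up ℤ) ⋙
        (HomotopyCategory.quotient AddCommGrpCat.{v} (ComplexShape.up ℤ) ⋙ DerivedCategory.Qh) ≅ q ⋙ Φ from
        Functor.isoWhiskerRight (F.mapHomotopyCategoryFactors (ComplexShape.up ℤ)).symm DerivedCategory.Qh)
    let ν : q ⋙ Φ ⟶ (q ⋙ Qh) ⋙ R ⋙ Φ :=
      { app := fun L => Φ.map (η.app (q.obj L))
        naturality := fun L M g =>
          (Φ.map_comp _ _).symm.trans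
            ((congrArg Φ.map (η.naturality (q.map g))).trans (Φ.map_comp _ _)) }
    have hu := isColimitOfPreserves (q ⋙ Φ) (coproductIsCoproduct T'.obj)
    have hv := isColimitOfPreserves ((q ⋙ Qh) ⋙ R ⋙ Φ) (coproductIsCoproduct T'.obj)
    haveI : ∀ j, IsIso ((Functor.whiskerLeft (Discrete.functor T'.obj) ν).app j) := fun j => h₀ j.as
    haveI : IsIso (Functor.whiskerLeft (Discrete.functor T'.obj) ν) := NatIso.isIso_of_isIso_app _
    let e := IsColimit.coconePointsIsoOfNatIso hu hv (asIso (Functor.whiskerLeft (Discrete.functor T'.obj) ν))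
    have he : e.hom = ν.app (∐ T'.obj) := hu.hom_ext fun j => by
      refine (IsColimit.comp_coconePointsIsoOfNatIso_hom hu hv _ j).trans ?_
      exact (ν.naturality ((Cofan.mk _ (Sigma.ι T'.obj)).ι.app j)).symm
    show IsIso (ν.app (∐ T'.obj))
    rw [← he]; infer_instance
  -- the colimit
  have h₂ : IsIso (Φ.map (adj.unit.app (q.obj (colimit T')))) := by
    let Tr := CochainComplex.trianglehOfDegreewiseSplit S σ
    let ψ : Tr ⟶ (Qh ⋙ R).mapTriangle.obj Tr :=
      { hom₁ := η.app Tr.obj₁
        hom₂ := η.app Tr.obj₂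
        hom₃ := η.app Tr.obj₃
        comm₁ := η.naturality Tr.mor₁
        comm₂ := η.naturality Tr.mor₂
        comm₃ := by
          show Tr.mor₃ ≫ (η.app Tr.obj₁)⟦(1 : ℤ)⟧' =
            η.app Tr.obj₃ ≫ (Qh ⋙ R).map Tr.mor₃ ≫ ((Qh ⋙ R).commShiftIso (1 : ℤ)).hom.app Tr.obj₁
          rw [← assoc, ← η.naturality Tr.mor₃, Functor.id_map, assoc]
          have := NatTrans.shift_app_comm η (1 : ℤ) Tr.obj₁
          simp only [Functor.commShiftIso_id_hom_app] at this
          exact congrArg (Tr.mor₃ ≫ ·) ((id_comp _).symm.trans this) }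
    exact isIso₃_of_isIso₁₂ (Φ.mapTriangle.map ψ) (Φ.map_distinguished _ hdist)
      (Φ.map_distinguished _ ((Qh ⋙ R).map_distinguished _ hdist)) h₁ h₁
  show IsIso (Φ.map (η.app (q.obj K)))
  have e : Φ.map (q.map c.hom) ≫ Φ.map (η.app (q.obj K)) =
      Φ.map (η.app (q.obj (colimit T'))) ≫ Φ.map (R.map (Qh.map (q.map c.hom))) := by
    rw [← Φ.map_comp, ← Φ.map_comp]
    exact congrArg Φ.map (η.naturality (q.map c.hom))
  haveI : IsIso (Φ.map (η.app (q.obj (colimit T')))) := h₂
  haveI : IsIso (Φ.map (q.map c.hom) ≫ Φ.map (η.app (q.obj K))) := e ▸ inferInstance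
  exact IsIso.of_isIso_comp_left (Φ.map (q.map c.hom)) _

end Main

end Groth.Agent.H9Misc.AcyclicUnit
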