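import Groth.Agent.H9Misc.TensorLinear
import Groth.Agent.H9Misc.RlimSmul
import Groth.Agent.KFlatLib.SingleIso
import Groth.Agent.FlatCxLib.HomologyColim
import Groth.Agent.SiteBase.ModGroth
import Mathlib.CategoryTheory.Limits.Shapes.Biproducts

/-! `RHom(O_f, K)` is a derived limit `T(K, f)`. -/

set_option linter.style.haveILetI false

universe u

open CategoryTheory CategoryTheory.Category CategoryTheory.Limits Opposite MonoidalCategory
open DerivedCategory

attribute [local instance] HasDerivedCategory.standard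

namespace Groth.Agent.H9Misc.DerCompT

variable {C : Type u} [SmallCategory C] {J : GrothendieckTopology C} {O : Sheaf J CommRingCat.{u}}

/-- Scalars on the second factor are scalars on the tensor product. -/
lemma tensorBi_obj_map_smulEnd (s : DerComp.GSec O) (F G : ModSite.Mod O) :
    ((ModSite.tensorBi O).obj F).map (DerComp.smulEnd s G) =
      DerComp.smulEnd s (((ModSite.tensorBi O).obj F).obj G) := by
  let f := (ModTensor.fg O).obj F
  let g := (ModTensor.fg O).obj G
  let a := f ◁ (ModTensor.fg O).map (DerComp.smulEnd s G)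
  show (ModTensor.sh O).map a = DerComp.smulEnd s ((ModTensor.sh O).obj (f ⊗ g))
  refine ((ModTensor.shAdj O).homEquiv _ _).injective ?_
  rw [Adjunction.homEquiv_unit, Adjunction.homEquiv_unit]
  refine ((ModTensor.shAdj O).unit.naturality a).symm.trans ?_
  ext X : 1
  apply ModuleCat.hom_ext
  apply TensorProduct.ext'
  intro x y
  let r : (O.obj ⋙ forget₂ CommRingCat.{u} RingCat.{u}).obj X := s.1 X.unop
  show ((ModTensor.shAdj O).unit.app (f ⊗ g)).app X (x ⊗ₜ (r • y)) =
    r • ((ModTensor.shAdj O).unit.app (f ⊗ g)).app X (x ⊗ₜ y)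
  refine Eq.trans ?_ ((((ModTensor.shAdj O).unit.app (f ⊗ g)).app X).hom.map_smul r (x ⊗ₜ y))
  exact congrArg _ (TensorProduct.tmul_smul r x y)

/-- Scalars on the second factor are scalars on the total complex. -/
lemma tensorCx_obj_map_smul (s : DerComp.GSec O) (L K : CochainComplex (ModSite.Mod O) ℤ) :
    ((ModSite.tensorCx O).obj L).map (s • 𝟙 K) = s • 𝟙 (((ModSite.tensorCx O).obj L).obj K) := by
  ext n : 1
  refine HomologicalComplex.mapBifunctor.hom_ext (fun p q h => ?_)
  refine (HomologicalComplex.ι_mapBifunctorMap (𝟙 L) (s • 𝟙 K) (ModSite.tensorBi O) (ComplexShape.up ℤ) p q n h).trans ?_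
  rw [HomologicalComplex.id_f, CategoryTheory.Functor.map_id, NatTrans.id_app, id_comp, HomologicalComplex.smul_f_apply,
    HomologicalComplex.smul_f_apply, HomologicalComplex.id_f, HomologicalComplex.id_f]
  show ((ModSite.tensorBi O).obj (L.X p)).map (DerComp.smulEnd s (K.X q) ≫ 𝟙 _) ≫ _ =
    _ ≫ DerComp.smulEnd s _ ≫ 𝟙 _
  rw [comp_id, comp_id, tensorBi_obj_map_smulEnd]
  exact DerComp.smulEnd_comm s _

lemma single_map_smul (s : DerComp.GSec O) (M : ModSite.Mod O) :
    (CochainComplex.singleFunctor (ModSite.Mod O) 0).map (DerComp.smulEnd s M) =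
      s • 𝟙 ((CochainComplex.singleFunctor (ModSite.Mod O) 0).obj M) := by
  refine HomologicalComplex.from_single_hom_ext ?_
  show _ = DerComp.smulEnd s (((CochainComplex.singleFunctor (ModSite.Mod O) 0).obj M).X 0) ≫ 𝟙 _
  rw [comp_id]
  exact (HomologicalComplex.single_map_f_self (ComplexShape.up ℤ) 0 _).trans
    ((congrArg (_ ≫ ·) (DerComp.smulEnd_comm s _)).trans (Iso.hom_inv_id_assoc _ _))

variable (s : DerComp.GSec O)

/-- `O` multiplied repeatedly by `s`. -/
noncomputable abbrev seq : ℕ ⥤ ModSite.Mod O :=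
  Functor.ofSequence (X := fun _ => ModSite.unit O) fun _ => DerComp.smulEnd s (ModSite.unit O)

/-- The inclusions into `O_s`. -/
noncomputable abbrev awayι (n : ℕ) : ModSite.unit O ⟶ DerComp.locAway s (ModSite.unit O) :=
  Sigma.ι (fun _ : ℕ => ModSite.unit O) n ≫ cokernel.π (DerComp.awayMap s (ModSite.unit O))

lemma smul_awayι (n : ℕ) : DerComp.smulEnd s (ModSite.unit O) ≫ awayι s (n + 1) = awayι s n := by
  have h := congrArg (Sigma.ι (fun _ : ℕ => ModSite.unit O) n ≫ ·)
    (cokernel.condition (DerComp.awayMap s (ModSite.unit O)))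
  simp only [comp_zero] at h
  rw [← assoc, DerComp.awayMap, Sigma.ι_desc, Preadditive.sub_comp, sub_eq_zero, assoc] at h
  exact h.symm

/-- Multiplication by `s` is invertible on `O_s`. -/
lemma isIso_smulEnd_locAway : IsIso (DerComp.smulEnd s (DerComp.locAway s (ModSite.unit O))) := by
  let t : DerComp.locAway s (ModSite.unit O) ⟶ DerComp.locAway s (ModSite.unit O) :=
    cokernel.desc _ (Sigma.desc fun n => awayι s (n + 1)) (Sigma.hom_ext _ _ fun n => by
      rw [comp_zero, ← assoc, DerComp.awayMap, Sigma.ι_desc, Preadditive.sub_comp, Sigma.ι_desc, assoc,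
        Sigma.ι_desc, smul_awayι, sub_self])
  have h : DerComp.smulEnd s _ ≫ t = 𝟙 _ := by
    refine (cancel_epi (cokernel.π _)).1 (Sigma.hom_ext _ _ fun n => ?_)
    rw [comp_id, ← assoc (cokernel.π _), ← DerComp.smulEnd_comm, ← assoc, ← assoc, ← DerComp.smulEnd_comm,
      assoc, assoc, cokernel.π_desc, Sigma.ι_desc]
    exact smul_awayι s n
  exact ⟨t, h, by rw [← DerComp.smulEnd_comm]; exact h⟩

/-- `O_s` as a cocone. -/
noncomputable def awayCocone : Cocone (seq s) :=
  Cocone.mk (DerComp.locAway s (ModSite.unit O)) (NatTrans.ofSequence (fun n => awayι s n) fun n => by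
    erw [Functor.ofSequence_map_homOfLE_succ, comp_id]
    exact smul_awayι s n)

/-- `O_s` is the colimit of multiplication by `s`. -/
noncomputable def isColimitAwayCocone : IsColimit (awayCocone s) where
  desc c :=
    let g : ℕ → (ModSite.unit O ⟶ c.pt) := fun n => c.ι.app n
    cokernel.desc _ (Sigma.desc g) (Sigma.hom_ext _ _ fun n => by
      have h : DerComp.smulEnd s (ModSite.unit O) ≫ g (n + 1) = g n := by
        have := c.w (homOfLE (Nat.le_succ n))
        erw [Functor.ofSequence_map_homOfLE_succ] at this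
        exact this
      rw [comp_zero, ← assoc, DerComp.awayMap, Sigma.ι_desc, Preadditive.sub_comp, Sigma.ι_desc, assoc,
        Sigma.ι_desc, sub_eq_zero]
      exact h.symm)
  fac c n := by
    exact (assoc _ _ _).trans ((congrArg (_ ≫ ·) (cokernel.π_desc _ _ _)).trans
      (Sigma.ι_desc (fun n => (c.ι.app n : ModSite.unit O ⟶ c.pt)) n))
  uniq c m hm := by
    refine (cancel_epi (cokernel.π (DerComp.awayMap s (ModSite.unit O)))).1 (Sigma.hom_ext _ _ fun n => ?_)
    refine ((assoc _ _ _).symm.trans (hm n)).trans ?_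
    exact ((congrArg (_ ≫ ·) (cokernel.π_desc _ _ _)).trans
      (Sigma.ι_desc (fun n => (c.ι.app n : ModSite.unit O ⟶ c.pt)) n)).symm

lemma map_smul_id_of_iso {T : Type*} [Category* T] [Preadditive T] {R : Type*} [CommRing R] [Linear R T]
    (L : T ⥤ T) (r : R) {X Y : T} (e : X ≅ Y) (h : L.map (r • 𝟙 X) = r • 𝟙 (L.obj X)) :
    L.map (r • 𝟙 Y) = r • 𝟙 (L.obj Y) := by
  have h1 : r • 𝟙 Y = e.inv ≫ (r • 𝟙 X) ≫ e.hom := by
    rw [Linear.smul_comp, id_comp, Linear.comp_smul, Iso.inv_hom_id]
  rw [h1, L.map_comp, L.map_comp, h, Linear.smul_comp, id_comp, Linear.comp_smul, ← L.map_comp,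
    Iso.inv_hom_id, L.map_id]

variable {s}

lemma loc_iff_quasiIso {X : CochainComplex (ModSite.Mod O) ℤ} :
    RlimSmul.Loc s (Q.obj X) ↔ QuasiIso (s • 𝟙 X) := by
  rw [RlimSmul.Loc, ← CategoryTheory.Functor.map_id, ← Functor.map_smul, isIso_Q_map_iff_quasiIso]

variable (s)

/-- `X ⊗ O_s`. -/
noncomputable abbrev cxAway : CochainComplex (ModSite.Mod O) ℤ :=
  (CochainComplex.singleFunctor (ModSite.Mod O) 0).obj (DerComp.locAway s (ModSite.unit O))

/-- Tensoring a complex with single modules. -/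
noncomputable abbrev singleTensor (X : CochainComplex (ModSite.Mod O) ℤ) :
    ModSite.Mod O ⥤ CochainComplex (ModSite.Mod O) ℤ :=
  CochainComplex.singleFunctor (ModSite.Mod O) 0 ⋙ (ModSite.tensorCx O).obj X

/-- `s` is invertible on `X ⊗ O_s`. -/
lemma isIso_smul_tensor_away (X : CochainComplex (ModSite.Mod O) ℤ) :
    IsIso (s • 𝟙 (((ModSite.tensorCx O).obj X).obj (cxAway s))) := by
  rw [← tensorCx_obj_map_smul, ← single_map_smul]
  have := isIso_smulEnd_locAway s
  infer_instance

lemma smul_singleTensor (X : CochainComplex (ModSite.Mod O) ℤ) (M : ModSite.Mod O) :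
    (singleTensor X).map (DerComp.smulEnd s M) = s • 𝟙 ((singleTensor X).obj M) :=
  (congrArg ((ModSite.tensorCx O).obj X).map (single_map_smul s M)).trans (tensorCx_obj_map_smul s X _)

lemma quasiIso_awayι_tensor (X : CochainComplex (ModSite.Mod O) ℤ)
    (h : QuasiIso (s • 𝟙 ((singleTensor X).obj (ModSite.unit O)))) :
    QuasiIso ((singleTensor X).map (awayι s 0)) := by
  have : PreservesColimitsOfShape ℕ (singleTensor X) := by
    haveI : PreservesColimitsOfShape ℕ ((ModSite.tensorCx O).obj X) :=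
      haveI : ∀ p : ℤ, PreservesColimitsOfShape ℕ ((ModSite.tensorBi O).obj (X.X p)) := fun p => by
        have : PreservesColimitsOfSize.{0, 0} ((ModSite.tensorBi O).obj (X.X p)) :=
          preservesColimitsOfSize_shrink.{0, u, 0, u} _
        infer_instance
      KFlatLib.preservesColimitsOfShape₂ (ModSite.tensorBi O) ℕ X
    haveI : PreservesColimitsOfShape ℕ (CochainComplex.singleFunctor (ModSite.Mod O) 0) :=
      inferInstanceAs (PreservesColimitsOfShape ℕ (HomologicalComplex.single (ModSite.Mod O) (ComplexShape.up ℤ) 0))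
    infer_instance
  let hc := isColimitOfPreserves (singleTensor X) (isColimitAwayCocone s)
  refine ⟨fun i => ?_⟩
  rw [quasiIsoAt_iff_isIso_homologyMap]
  have := FlatCxLib.preservesColimitsOfShape_complexHomology (C := ModSite.Mod O) (J := ℕ) (ComplexShape.up ℤ) i
  let H := HomologicalComplex.homologyFunctor (ModSite.Mod O) (ComplexShape.up ℤ) i
  let c' := H.mapCocone ((singleTensor X).mapCocone (awayCocone s))
  have hc' : IsColimit c' := isColimitOfPreserves H hc
  have hs : ∀ j, IsIso (((seq s) ⋙ singleTensor X ⋙ H).map (homOfLE (Nat.le_add_right j 1))) := fun j => by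
    show IsIso (H.map ((singleTensor X).map ((seq s).map (homOfLE (Nat.le_add_right j 1)))))
    erw [Functor.ofSequence_map_homOfLE_succ, smul_singleTensor]
    exact (quasiIsoAt_iff_isIso_homologyMap _ _).1 (h.quasiIsoAt i)
  have hconst : ∀ ⦃j : ℕ⦄ (φ : 0 ⟶ j), IsIso (((seq s) ⋙ singleTensor X ⋙ H).map φ) := by
    intro j φ
    induction j with
    | zero => rw [Subsingleton.elim φ (𝟙 0), CategoryTheory.Functor.map_id]; infer_instance
    | succ j ih =>
      have := ih (homOfLE (Nat.zero_le j))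
      have := hs j
      rw [Subsingleton.elim φ (homOfLE (Nat.zero_le j) ≫ homOfLE (Nat.le_add_right j 1)), Functor.map_comp]
      infer_instance
  have : IsIso (c'.ι.app 0) :=
    Functor.IsEventuallyConstantFrom.isIso_ι_of_isColimit (F := (seq s) ⋙ singleTensor X ⋙ H) (i₀ := 0)
      (fun j φ => hconst φ) hc'
  exact this

variable [ModSite.HasLTensorCx (cxAway s)]

/-- The derived tensor product with `O_s`. -/
noncomputable abbrev LT : DerivedCategory (ModSite.Mod O) ⥤ DerivedCategory (ModSite.Mod O) :=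
  ModSite.LTensorCx (cxAway s)

/-- The counit. -/
noncomputable abbrev counitLT : Q ⋙ LT s ⟶ ModSite.tensorCxQ (cxAway s) :=
  (ModSite.tensorCxQ (cxAway s)).totalLeftDerivedCounit Q (HomologicalComplex.quasiIso (ModSite.Mod O) (ComplexShape.up ℤ))

/-- `X ≅ X ⊗ O`. -/
noncomputable def unitIso :
    (ModSite.tensorCx O).flip.obj ((CochainComplex.singleFunctor (ModSite.Mod O) 0).obj (ModSite.unit O)) ≅
      𝟭 (CochainComplex (ModSite.Mod O) ℤ) :=
  KFlatLib.singleIso (T := ModSite.tensorBi O) (ModSite.unit O) ≪≫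
    NatIso.mapHomologicalComplex ((ModTensor.tensorFlipIso O).app (ModSite.unit O) ≪≫ ModTensor.unitTensorIso O)
      (ComplexShape.up ℤ) ≪≫ Functor.mapHomologicalComplexIdIso (ModSite.Mod O) (ComplexShape.up ℤ)

/-- `X → X ⊗ O_s`. -/
noncomputable def toTensor : Q ⟶ ModSite.tensorCxQ (cxAway s) :=
  (Functor.leftUnitor _).inv ≫ Functor.whiskerRight
    (unitIso.inv ≫ (ModSite.tensorCx O).flip.map ((CochainComplex.singleFunctor (ModSite.Mod O) 0).map (awayι s 0))) Q

/-- `K → K ⊗^L O_s`. -/
noncomputable def toLT : 𝟭 (DerivedCategory (ModSite.Mod O)) ⟶ LT s :=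
  Functor.leftDerivedLift (LT s) (counitLT s) (HomologicalComplex.quasiIso (ModSite.Mod O) (ComplexShape.up ℤ))
    (𝟭 _) ((Functor.rightUnitor Q).hom ≫ toTensor s)

lemma toLT_fac (X : CochainComplex (ModSite.Mod O) ℤ) :
    (toLT s).app (Q.obj X) ≫ (counitLT s).app X = (toTensor s).app X := by
  refine (Functor.leftDerived_fac_app (LT s) (counitLT s) _ (𝟭 _) _ X).trans ?_
  simp

lemma exists_kFlat (Y : DerivedCategory (ModSite.Mod O)) :
    ∃ (X : CochainComplex (ModSite.Mod O) ℤ), ModSite.IsKFlat X ∧ Nonempty (Q.obj X ≅ Y) := by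
  have := Localization.essSurj (Q (C := ModSite.Mod O)) (HomologicalComplex.quasiIso _ (ComplexShape.up ℤ))
  obtain ⟨K, q, hK, -, hq, -⟩ := ModTensor.exists_resolution (Q.objPreimage Y)
  exact ⟨K, hK, ⟨asIso (Q.map q) ≪≫ Q.objObjPreimageIso Y⟩⟩

/-- `s` is invertible on `Y ⊗^L O_s`. -/
lemma loc_LT (Y : DerivedCategory (ModSite.Mod O)) : RlimSmul.Loc s ((LT s).obj Y) := by
  obtain ⟨X, hX, ⟨e⟩⟩ := exists_kFlat Y
  refine RlimSmul.Loc.of_iso s ((LT s).mapIso e) ?_
  have hc : IsIso ((counitLT s).app X) := TensorLinear.isIso_counit _ hX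
  refine RlimSmul.Loc.of_iso s (@asIso _ _ _ _ _ hc).symm ?_
  refine loc_iff_quasiIso.2 ?_
  have := isIso_smul_tensor_away s X
  exact (inferInstance : QuasiIso (s • 𝟙 (((ModSite.tensorCx O).obj X).obj (cxAway s))))

/-- `Y → Y ⊗^L O_s` is invertible when `s` is invertible on `Y`. -/
lemma isIso_toLT {Y : DerivedCategory (ModSite.Mod O)} (hY : RlimSmul.Loc s Y) : IsIso ((toLT s).app Y) := by
  obtain ⟨X, hX, ⟨e⟩⟩ := exists_kFlat Y
  suffices h : IsIso ((toLT s).app (Q.obj X)) from (NatTrans.isIso_app_iff_of_iso (toLT s) e).1 h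
  have hc : IsIso ((counitLT s).app X) := TensorLinear.isIso_counit _ hX
  have hX' : QuasiIso (s • 𝟙 X) := loc_iff_quasiIso.1 (hY.of_iso s e.symm)
  let i : (singleTensor X).obj (ModSite.unit O) ≅ X := unitIso.app X
  have hq : QuasiIso (s • 𝟙 ((singleTensor X).obj (ModSite.unit O))) := by
    rw [show s • 𝟙 ((singleTensor X).obj (ModSite.unit O)) = i.hom ≫ (s • 𝟙 X) ≫ i.inv by
      rw [Linear.smul_comp, id_comp, Linear.comp_smul, Iso.hom_inv_id]]
    infer_instance
  have := quasiIso_awayι_tensor s X hq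
  have ht : IsIso ((toTensor s).app X) := by
    have e' : (toTensor s).app X = Q.map (i.inv ≫ (singleTensor X).map (awayι s 0)) := by
      simp only [toTensor, NatTrans.comp_app]
      exact id_comp _
    rw [e']
    exact (isIso_Q_map_iff_quasiIso (φ := _)).2 inferInstance
  have : IsIso ((toLT s).app (Q.obj X) ≫ (counitLT s).app X) := by rw [toLT_fac]; exact ht
  exact IsIso.of_isIso_comp_right _ ((counitLT s).app X)

/-- Derived tensor product with `O_s` is linear in `s`. -/
lemma LT_map_smul_id (Y : DerivedCategory (ModSite.Mod O)) : (LT s).map (s • 𝟙 Y) = s • 𝟙 ((LT s).obj Y) := by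
  obtain ⟨X, hX, ⟨e⟩⟩ := exists_kFlat Y
  have h : (LT s).map (s • 𝟙 (Q.obj X)) = s • 𝟙 ((LT s).obj (Q.obj X)) := by
    have hc : IsIso ((counitLT s).app X) := TensorLinear.isIso_counit _ hX
    let c := (counitLT s).app X
    let T := ((ModSite.tensorCx O).obj X).obj (cxAway s)
    refine (cancel_mono c).1 ?_
    have e1 : Q.map (s • 𝟙 X) = s • 𝟙 (Q.obj X) := by rw [Functor.map_smul, CategoryTheory.Functor.map_id]
    have e2 : Q.map (s • 𝟙 T) = s • 𝟙 (Q.obj T) := by rw [Functor.map_smul, CategoryTheory.Functor.map_id]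
    have h1 : (LT s).map (Q.map (s • 𝟙 X)) ≫ c = c ≫ Q.map (((ModSite.tensorCx O).map (s • 𝟙 X)).app (cxAway s)) :=
      (counitLT s).naturality (s • 𝟙 X)
    refine ((congrArg (fun t => (LT s).map t ≫ c) e1.symm).trans (h1.trans
      (congrArg (c ≫ ·) ((congrArg Q.map (TensorLinear.tensorCx_map_smul s X (cxAway s))).trans e2)))).trans ?_
    exact ((Linear.comp_smul _ _ _ c s _).trans (congrArg (s • ·) (comp_id _))).trans
      ((congrArg (s • ·) (id_comp c)).symm.trans (Linear.smul_comp _ _ _ s _ c).symm)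
  exact map_smul_id_of_iso (LT s) s e h

variable [DerComp.HasRHom (cxAway s)] (K : DerivedCategory (ModSite.Mod O))

lemma loc_RHom : RlimSmul.Loc s ((DerComp.RHom (cxAway s)).obj K) := by
  let a := DerComp.RHomAdj (cxAway s)
  have : PreservesLimitsOfSize.{0, 0} (DerComp.RHom (cxAway s)) := a.rightAdjoint_preservesLimits
  have : (DerComp.RHom (cxAway s)).Additive := Functor.additive_of_preserves_binary_products _
  let R := (DerComp.RHom (cxAway s)).obj K
  show IsIso (s • 𝟙 R)
  refine (isIso_iff_yoneda_map_bijective _).2 fun Z => ?_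
  have key : ∀ y : (LT s).obj Z ⟶ K, a.homEquiv Z K (s • y) = a.homEquiv Z K y ≫ (s • 𝟙 R) := fun y => by
    rw [Linear.comp_smul, comp_id, show s • a.homEquiv Z K y = (s • 𝟙 Z) ≫ a.homEquiv Z K y by
      rw [Linear.smul_comp, id_comp]]
    refine Eq.trans ?_ (a.homEquiv_naturality_left _ y)
    refine congrArg (a.homEquiv Z K) ?_
    show s • y = (LT s).map (s • 𝟙 Z) ≫ y
    rw [LT_map_smul_id, Linear.smul_comp, id_comp]
  have hl := loc_LT s Z
  refine ⟨fun g g' hg => ?_, fun y => ?_⟩
  · obtain ⟨x, rfl⟩ := (a.homEquiv Z K).surjective g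
    obtain ⟨x', rfl⟩ := (a.homEquiv Z K).surjective g'
    exact congrArg _ (RlimSmul.smul_injective s hl
      ((a.homEquiv Z K).injective ((key x).trans (hg.trans (key x').symm))))
  · obtain ⟨x, rfl⟩ := (a.homEquiv Z K).surjective y
    exact ⟨a.homEquiv Z K (RlimSmul.inv' s hl ≫ x),
      (key _).symm.trans (congrArg _ (RlimSmul.smul_inv' s hl x))⟩

/-- `RHom(O_s, K)` is a derived limit of multiplication by `s` on `K`. -/
theorem isT_RHom [HasProduct fun _ : ℕ => K] : DerComp.IsT s K ((DerComp.RHom (cxAway s)).obj K) := by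
  let a := DerComp.RHomAdj (cxAway s)
  let R := (DerComp.RHom (cxAway s)).obj K
  obtain ⟨F, p, c, hF⟩ := Pretriangulated.distinguished_cocone_triangle₁ (RlimSmul.δ s K)
  refine RlimSmul.isRlim_of_universal s hF (loc_RHom s K) ((toLT s).app R ≫ a.counit.app K) fun Y hY => ?_
  have := isIso_toLT s hY
  have e : (fun g : Y ⟶ R => g ≫ (toLT s).app R ≫ a.counit.app K) =
      (fun h : (LT s).obj Y ⟶ K => (toLT s).app Y ≫ h) ∘ (a.homEquiv Y K).symm := funext fun g => by
    show g ≫ (toLT s).app R ≫ a.counit.app K = (toLT s).app Y ≫ (a.homEquiv Y K).symm g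
    rw [Adjunction.homEquiv_counit]
    exact ((assoc _ _ _).symm.trans (congrArg (· ≫ a.counit.app K) ((toLT s).naturality g))).trans (assoc _ _ _)
  rw [e]
  exact Function.Bijective.comp ((asIso ((toLT s).app Y)).homFromEquiv.symm.bijective) (Equiv.bijective _)

end Groth.Agent.H9Misc.DerCompT
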