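import Groth.Agent.H9Misc.KosLin
import Groth.Agent.H9Misc.FinDimDerived
import Groth.Agent.ModTensor.OverSum
import Mathlib.Algebra.Category.ModuleCat.ChangeOfRings

/-!
# Componentwise scalars on extensions by zero of presheaves
-/

universe u

open CategoryTheory CategoryTheory.Limits Opposite
open scoped DirectSum
open Groth.Agent.H9Misc

attribute [local instance] HasDerivedCategory.standard

namespace Groth.Agent.ModTensor

variable {C : Type u} [SmallCategory C] {R : Cᵒᵖ ⥤ CommRingCat.{u}} {U : C} (G : PU R U)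

unseal extObj inclO in
/-- Applies a linear map on each summand. -/
noncomputable def mapSummands {V : Cᵒᵖ} (φ : ∀ k : V.unop ⟶ U, smd G k →ₗ[R.obj V] smd G k) :
    (extObj G).obj V →ₗ[R.obj V] (extObj G).obj V :=
  open Classical in
  DirectSum.toModule (R.obj V) _ (extSec G V) (fun k => (inclBase G k).comp (φ k))

unseal extObj inclO in
lemma mapSummands_inclO {V : Cᵒᵖ} (φ : ∀ k : V.unop ⟶ U, smd G k →ₗ[R.obj V] smd G k) (k : V.unop ⟶ U)
    (x : smd G k) :
    mapSummands G φ (inclO G (Over.mk k) (𝟙 _) x) = inclO G (Over.mk k) (𝟙 _) (φ k x) := by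
  classical
  show DirectSum.toModule (R.obj V) _ (extSec G V) (fun k => (inclBase G k).comp (φ k))
    (incl G (Over.mk k) (𝟙 _) x) = incl G (Over.mk k) (𝟙 _) (φ k x)
  rw [← inclBase_eq_incl, ← inclBase_eq_incl]
  exact DirectSum.toModule_lof (R.obj V) (φ := fun k => (inclBase G k).comp (φ k)) k x

unseal extObj inclO in
lemma inclO_smul_mk {V : Cᵒᵖ} (k : V.unop ⟶ U) (r : R.obj V) (x : smd G k) :
    inclO G (Over.mk k) (𝟙 _) (r • x) = r • inclO G (Over.mk k) (𝟙 _) x := by
  show incl G (Over.mk k) (𝟙 _) (r • x) = r • incl G (Over.mk k) (𝟙 _) x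
  rw [← inclBase_eq_incl, ← inclBase_eq_incl]
  exact map_smul (inclBase G k) r x

attribute [irreducible] mapSummands

unseal extObj inclO in
lemma extObj_induction {V : Cᵒᵖ} (P : (extObj G).obj V → Prop) (h0 : P 0)
    (hadd : ∀ x y, P x → P y → P (x + y))
    (hi : ∀ (k : V.unop ⟶ U) (x : smd G k), P (inclO G (Over.mk k) (𝟙 _) x)) (x : (extObj G).obj V) : P x := by
  classical
  induction (x : extSec G V) using DirectSum.induction_on with
  | zero => exact h0
  | of k y =>
    have h := hi k y
    change P (incl G (Over.mk k) (𝟙 _) y) at h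
    rw [← inclBase_eq_incl] at h
    exact h
  | add x y hx hy => exact hadd x y hx hy

section Part

variable {V : Cᵒᵖ}

/-- Sections of the extension by zero, over the commutative ring. -/
noncomputable abbrev esec (V : Cᵒᵖ) : ModuleCat.{u} (R.obj V) := (extObj G).obj V

variable (P : (V.unop ⟶ U) → Prop)

/-- The span of the summands selected by `P`. -/
noncomputable def part : Submodule (R.obj V) (esec G V) :=
  Submodule.span _ {x | ∃ k : V.unop ⟶ U, P k ∧ ∃ y : smd G k, inclO G (Over.mk k) (𝟙 _) y = x}

lemma inclO_mem_part {k : V.unop ⟶ U} (hk : P k) (y : smd G k) :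
    (inclO G (Over.mk k) (𝟙 _) y : esec G V) ∈ part G P :=
  Submodule.subset_span ⟨k, hk, y, rfl⟩

lemma part_induction {Q : esec G V → Prop} {x : esec G V} (hx : x ∈ part G P) (h0 : Q 0)
    (hadd : ∀ x y, Q x → Q y → Q (x + y)) (hgen : ∀ k, P k → ∀ y : smd G k, Q (inclO G (Over.mk k) (𝟙 _) y)) :
    Q x := by
  induction hx using Submodule.closure_induction with
  | zero => exact h0
  | add x y _ _ hx hy => exact hadd x y hx hy
  | smul_mem r x hx =>
    obtain ⟨k, hk, y, rfl⟩ := hx
    exact (congrArg Q (inclO_smul_mk G k r y)).mp (hgen k hk (r • y))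

/-- Maps on summands restrict to the part. -/
noncomputable def mapPart (φ : ∀ k : V.unop ⟶ U, smd G k →ₗ[R.obj V] smd G k) : part G P →ₗ[R.obj V] part G P :=
  LinearMap.codRestrict (part G P) ((mapSummands G φ).comp (part G P).subtype) fun x => by
    refine part_induction G P (Q := fun x => mapSummands G φ x ∈ part G P) x.2 ?_ ?_ ?_
    · exact (congrArg (· ∈ part G P) (map_zero (mapSummands G φ))).mpr (zero_mem _)
    · exact fun x y hx hy => (congrArg (· ∈ part G P) (map_add (mapSummands G φ) x y)).mpr (add_mem hx hy)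
    · exact fun k hk y => (congrArg (· ∈ part G P) (mapSummands_inclO G φ k y)).mpr (inclO_mem_part G P hk _)

lemma part_hom_ext {N : Type u} [AddCommGroup N] [Module (R.obj V) N] {f g : part G P →ₗ[R.obj V] N}
    (h : ∀ k (hk : P k) (y : smd G k), f ⟨_, inclO_mem_part G P hk y⟩ = g ⟨_, inclO_mem_part G P hk y⟩) :
    f = g := by
  refine LinearMap.ext fun ⟨x, hx⟩ => ?_
  obtain ⟨hx', e⟩ : ∃ hx : x ∈ part G P, f ⟨x, hx⟩ = g ⟨x, hx⟩ := by
    refine part_induction G P (Q := fun x => ∃ hx : x ∈ part G P, f ⟨x, hx⟩ = g ⟨x, hx⟩) hx ?_ ?_ ?_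
    · exact ⟨zero_mem _, (map_zero f).trans (map_zero g).symm⟩
    · rintro x y ⟨hx, ex⟩ ⟨hy, ey⟩
      exact ⟨add_mem hx hy, (map_add f ⟨x, hx⟩ ⟨y, hy⟩).trans
        ((congrArg₂ (· + ·) ex ey).trans (map_add g ⟨x, hx⟩ ⟨y, hy⟩).symm)⟩
    · exact fun k hk y => ⟨inclO_mem_part G P hk y, h k hk y⟩
  exact e

lemma mapPart_gen (φ : ∀ k : V.unop ⟶ U, smd G k →ₗ[R.obj V] smd G k) {k : V.unop ⟶ U} (hk : P k) (y : smd G k) :
    mapPart G P φ ⟨_, inclO_mem_part G P hk y⟩ = ⟨_, inclO_mem_part G P hk (φ k y)⟩ :=
  Subtype.ext (mapSummands_inclO G φ k y)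

/-- Componentwise scalars as endomorphisms of the part. -/
noncomputable def csHom : ((V.unop ⟶ U) → R.obj V) →+* Module.End (R.obj V) (part G P) where
  toFun c := mapPart G P fun k => c k • LinearMap.id
  map_one' := part_hom_ext G P fun k hk y => by
    refine (mapPart_gen G P _ hk y).trans (Subtype.ext (congrArg (inclO G (Over.mk k) (𝟙 _)) ?_))
    exact one_smul _ y
  map_mul' c d := part_hom_ext G P fun k hk y => by
    refine (mapPart_gen G P _ hk y).trans ?_
    show _ = mapPart G P _ (mapPart G P _ _)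
    rw [mapPart_gen G P _ hk, mapPart_gen G P _ hk]
    exact Subtype.ext (congrArg (inclO G (Over.mk k) (𝟙 _)) (mul_smul (c k) (d k) y))
  map_zero' := part_hom_ext G P fun k hk y => by
    refine (mapPart_gen G P _ hk y).trans (Subtype.ext ?_)
    exact (congrArg (inclO G (Over.mk k) (𝟙 _)) (zero_smul _ y)).trans (inclO_zero G _ _)
  map_add' c d := part_hom_ext G P fun k hk y => by
    refine (mapPart_gen G P _ hk y).trans ?_
    show _ = mapPart G P _ _ + mapPart G P _ _
    rw [mapPart_gen G P _ hk, mapPart_gen G P _ hk]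
    exact Subtype.ext ((congrArg (inclO G (Over.mk k) (𝟙 _)) (add_smul (c k) (d k) y)).trans (inclO_add G _ _ _ _))

lemma exists_coeff {K : Type u} [CommRing K] {ι : Type u} : ∀ (L : List K) (f : ι → K),
    (∀ k, f k ∈ Ideal.span {x | x ∈ L}) → f ∈ Ideal.span {x : ι → K | x ∈ L.map (Function.const ι)}
  | [], f, h => by
    obtain rfl : f = 0 := funext fun k => by simpa using h k
    exact zero_mem _
  | a :: L, f, h => by
    have e : {x | x ∈ a :: L} = insert a {x | x ∈ L} := by ext; simp
    have e' : {x | x ∈ Function.const ι a :: L.map (Function.const ι)} =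
        insert (Function.const ι a) {x | x ∈ L.map (Function.const ι)} := by ext; simp
    simp only [e, Ideal.mem_span_insert] at h
    choose c y hy hf using h
    rw [List.map_cons, e', Ideal.mem_span_insert]
    exact ⟨c, y, exists_coeff L y hy, funext hf⟩

set_option maxHeartbeats 1000000 in
/-- If on every selected summand some combination of `L` is bijective, the Koszul complex of `L` on the part
is acyclic. -/
theorem acyclic_part (L : List (R.obj V)) (f : (V.unop ⟶ U) → R.obj V)
    (hf : ∀ k, P k → f k ∈ Ideal.span {x | x ∈ L})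
    (hbij : ∀ k, P k → Function.Bijective fun y : smd G k => f k • y) :
    (KosCx.Kc L ((HomologicalComplex.single (ModuleCat.{u} (R.obj V)) (ComplexShape.up ℤ) 0).obj
      (ModuleCat.of (R.obj V) (part G P)))).Acyclic := by
  classical
  let M : ModuleCat.{u} ((V.unop ⟶ U) → R.obj V) :=
    @ModuleCat.of _ _ (part G P) _ (Module.compHom _ (csHom G P))
  let diag : R.obj V →+* ((V.unop ⟶ U) → R.obj V) := Pi.constRingHom _ _
  let F := ModuleCat.restrictScalars diag
  let β : (V.unop ⟶ U) → R.obj V := fun k => if P k then f k else 0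
  have hspan : β ∈ Ideal.span {x | x ∈ L.map diag} := exists_coeff L β fun k => by
    dsimp only [β]
    split_ifs with hk
    · exact hf k hk
    · exact zero_mem _
  have hb' : ∀ k, P k → Function.Bijective ⇑(f k • (LinearMap.id : smd G k →ₗ[R.obj V] smd G k)) := fun k hk => by
    convert hbij k hk using 1
    funext y
    simp
  let inv : ∀ k : V.unop ⟶ U, smd G k →ₗ[R.obj V] smd G k := fun k =>
    if hk : P k then (LinearEquiv.ofBijective (f k • LinearMap.id) (hb' k hk)).symm.toLinearMap else 0
  have hiso : IsIso (β • 𝟙 M) := by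
    rw [ConcreteCategory.isIso_iff_bijective]
    show Function.Bijective (csHom G P β)
    refine Function.bijective_iff_has_inverse.2 ⟨mapPart G P inv,
      DFunLike.congr_fun (show (mapPart G P inv).comp (csHom G P β) = LinearMap.id from
        part_hom_ext G P fun k hk y => ?_),
      DFunLike.congr_fun (show LinearMap.comp (csHom G P β) (mapPart G P inv) = LinearMap.id from
        part_hom_ext G P fun k hk y => ?_)⟩
    · refine (congrArg (mapPart G P inv) (mapPart_gen G P _ hk y)).trans ((mapPart_gen G P _ hk _).trans ?_)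
      refine Subtype.ext (congrArg (inclO G (Over.mk k) (𝟙 _)) ?_)
      simp only [inv, β, dif_pos hk, if_pos hk]
      exact LinearEquiv.symm_apply_apply (LinearEquiv.ofBijective (f k • LinearMap.id) (hb' k hk)) y
    · refine (congrArg (mapPart G P _) (mapPart_gen G P inv hk y)).trans ((mapPart_gen G P _ hk _).trans ?_)
      refine Subtype.ext (congrArg (inclO G (Over.mk k) (𝟙 _)) ?_)
      simp only [inv, β, dif_pos hk, if_pos hk]
      exact LinearEquiv.apply_symm_apply (LinearEquiv.ofBijective (f k • LinearMap.id) (hb' k hk)) y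
  let S := (HomologicalComplex.single (ModuleCat.{u} ((V.unop ⟶ U) → R.obj V)) (ComplexShape.up ℤ) 0).obj M
  have hz : IsZero (DerivedCategory.Q.obj (KosCx.Kc (L.map diag) S)) := by
    refine (KosCx.chain_Q (L.map diag) S).isZero_of_span hspan ?_
    rw [← DerivedCategory.Q.map_id, ← Functor.map_smul, ← KosLin.single_map_smul_id]
    infer_instance
  have hac : (KosCx.Kc (L.map diag) S).Acyclic := (FinDimDerived.isZero_Q_obj_iff _).1 hz
  let lin : (F.obj M : ModuleCat.{u} (R.obj V)) ≃ₗ[R.obj V] (ModuleCat.of (R.obj V) (part G P) : ModuleCat.{u} (R.obj V)) :=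
    { toFun := fun x => x
      invFun := fun x => x
      left_inv := fun _ => rfl
      right_inv := fun _ => rfl
      map_add' := fun _ _ => rfl
      map_smul' := fun r x => DFunLike.congr_fun (show csHom G P (diag r) = r • LinearMap.id from
        part_hom_ext G P fun k hk y =>
          (mapPart_gen G P _ hk y).trans (Subtype.ext (inclO_smul_mk G k r y))) x }
  let e : F.obj M ≅ ModuleCat.of (R.obj V) (part G P) := lin.toModuleIso
  have hI := KosCx.inter_Kc (fun a => diag a) (fun a => a) F (𝟭 _) L
    (KosLin.inter_single (fun a => diag a) (fun a => a) F (𝟭 _) 0 e fun a => by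
      refine ModuleCat.hom_ext (LinearMap.ext fun x => ?_)
      exact e.hom.hom.map_smul a x)
  rw [List.map_id'] at hI
  obtain ⟨i, -⟩ := hI
  intro n
  have h := hac n
  rw [HomologicalComplex.exactAt_iff_isZero_homology] at h ⊢
  refine IsZero.of_iso ?_ (HomologicalComplex.homologyMapIso
    (((Functor.mapHomologicalComplexIdIso _ _).app _).symm ≪≫ i.symm) n)
  exact (F.map_isZero h).of_iso (((KosCx.Kc (L.map diag) S).sc n).mapHomologyIso F)

end Part

end Groth.Agent.ModTensor
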