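import Groth.Agent.H9Misc.KosLin
import Groth.Agent.H9Misc.KosScale
import Groth.Agent.H9Misc.DerCompT
import Groth.Agent.H9Misc.FinDimDerived
import Groth.Agent.ModTensor.ProjSheaf
import Mathlib.Algebra.Category.ModuleCat.ChangeOfRings

/-!
# Koszul complexes of extended localisations vanish

If `b ∈ I(W)` and `l` generates `I` locally on `C/V`, then the Koszul complex of `l` on the restriction to
`C/V` of `j_{W!} O_{W,b}` is acyclic.
-/

set_option linter.style.haveILetI false

universe u

open CategoryTheory CategoryTheory.Category CategoryTheory.Limits Opposite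
open Groth.Agent.ModTensor

attribute [local instance] HasDerivedCategory.standard

set_option maxHeartbeats 800000

namespace Groth.Agent.H9Misc.Kos

variable {C : Type u} [SmallCategory C] {J : GrothendieckTopology C} {O : Sheaf J CommRingCat.{u}}

/-- The ideal generated by the restrictions of a list of sections. -/
def spanAt {V X : C} (l : List (O.obj.obj (op V))) (h : X ⟶ V) : Ideal (O.obj.obj (op X)) :=
  Ideal.span ((fun a => (O.obj.map h.op).hom a) '' {a | a ∈ l})

lemma spanAt_map {V X X' : C} (l : List (O.obj.obj (op V))) (h : X ⟶ V) (g : X' ⟶ X)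
    {x : O.obj.obj (op X)} (hx : x ∈ spanAt l h) : (O.obj.map g.op).hom x ∈ spanAt l (g ≫ h) := by
  refine (Ideal.map_le_iff_le_comap.1 (le_of_eq ?_) :
    spanAt l h ≤ Ideal.comap (O.obj.map g.op).hom (spanAt l (g ≫ h))) hx
  rw [spanAt, spanAt, Ideal.map_span, Set.image_image, op_comp, Functor.map_comp]
  rfl

/-- `l` consists of sections of `I` over `V` generating `I` locally on `C/V`. -/
structure GenPair (I : DerComp.IdealSh O) (V : C) (l : List (O.obj.obj (op V))) : Prop where
  mem : ∀ a ∈ l, a ∈ I.ideal V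
  loc : ∀ ⦃X : C⦄ (h : X ⟶ V) (g : O.obj.obj (op X)), g ∈ I.ideal X →
    ∃ S ∈ J X, ∀ ⦃X' : C⦄ (k : X' ⟶ X), S k → (O.obj.map k.op).hom g ∈ spanAt l (k ≫ h)

/-- A semilinear additive map as a map to a restriction of scalars. -/
noncomputable def mkRes {A B : Type u} [Ring A] [Ring B] {M : ModuleCat.{u} A} {N : ModuleCat.{u} B} (φ : A →+* B)
    (f : M → N) (hadd : ∀ x y, f (x + y) = f x + f y) (hsmul : ∀ (r : A) x, f (r • x) = φ r • f x) :
    M ⟶ (ModuleCat.restrictScalars φ).obj N :=
  ModuleCat.ofHom (Y := (ModuleCat.restrictScalars φ).obj N) { toFun := f, map_add' := hadd, map_smul' := hsmul }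

/-- An additive linear function as a map of modules. -/
noncomputable def idHom {A : Type u} [Ring A] {M N : ModuleCat.{u} A}
    (f : M → N) (hadd : ∀ x y, f (x + y) = f x + f y) (hsmul : ∀ (r : A) x, f (r • x) = r • f x) : M ⟶ N :=
  ModuleCat.ofHom { toFun := f, map_add' := hadd, map_smul' := hsmul }

section Pointwise

variable {V W : C} (l : List (O.obj.obj (op V))) (b : O.obj.obj (op W))

/-- `O_{W,b}` as a presheaf on `C/W`. -/
noncomputable abbrev awayP : PU O.obj W := (fg (O.over W)).obj (DerComp.awayOver O W b)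

/-- The restriction of its extension by zero. -/
noncomputable abbrev telP : PU O.obj V := (resP O.obj V).obj (extObj (awayP b))

lemma bijective_smul {X : C} (k : X ⟶ W) :
    Function.Bijective (fun x : smd (awayP b) (V := op X) k => (O.obj.map k.op).hom b • x) := by
  let s := DerComp.GSec.ofSect O W b
  have h : IsIso (DerComp.smulEnd s (DerComp.awayOver O W b)) := DerCompT.isIso_smulEnd_locAway s
  have h2 : IsIso (((fg (O.over W)).map (DerComp.smulEnd s (DerComp.awayOver O W b))).app (op (Over.mk k))) :=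
    inferInstanceAs (IsIso ((PresheafOfModules.evaluation _ (op (Over.mk k))).map
      ((fg (O.over W)).map (DerComp.smulEnd s (DerComp.awayOver O W b)))))
  exact (ConcreteCategory.isIso_iff_bijective _).1 h2

/-- Summands on which `b` lies in the ideal generated by `l`. -/
def Good {X : C} (h : X ⟶ V) (k : X ⟶ W) : Prop := (O.obj.map k.op).hom b ∈ spanAt l h

/-- The good part at an object. -/
noncomputable abbrev goodPart (Z : (Over V)ᵒᵖ) :
    Submodule (O.obj.obj (op Z.unop.left)) (esec (awayP b) (op Z.unop.left)) :=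
  part (awayP b) (V := op Z.unop.left) (Good l b Z.unop.hom)

lemma rs_mem {Z Z' : (Over V)ᵒᵖ} (g : Z ⟶ Z') {x : esec (awayP b) (op Z.unop.left)} (hx : x ∈ goodPart l b Z) :
    (rs (extObj (awayP b)) g.unop.left.op x : esec (awayP b) (op Z'.unop.left)) ∈ goodPart l b Z' := by
  refine part_induction (awayP b) (V := op Z.unop.left) _
    (Q := fun x => (rs (extObj (awayP b)) g.unop.left.op x : esec (awayP b) (op Z'.unop.left)) ∈ goodPart l b Z') hx
    ((congrArg (· ∈ goodPart l b Z') (map_zero ((extObj (awayP b)).map g.unop.left.op).hom)).mpr (zero_mem _))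
    (fun x y hx hy => (congrArg (· ∈ goodPart l b Z') (rs_add (P := extObj (awayP b)) g.unop.left.op x y)).mpr (add_mem hx hy)) ?_
  intro k hk y
  let a := g.unop.left
  have hk' : Good l b Z'.unop.hom (a ≫ k) := by
    have h := spanAt_map l Z.unop.hom a hk
    rw [Over.w] at h
    rw [Good, op_comp, Functor.map_comp]
    exact h
  refine (congrArg (· ∈ goodPart l b Z') ?_).mp (inclO_mem_part (awayP b) (V := op Z'.unop.left) _ hk'
    (rsO (awayP b) (Over.homMk a : Over.mk (a ≫ k) ⟶ Over.mk k) y))
  refine (inclO_rsO (awayP b) (V := op Z'.unop.left) (Z := Over.mk (a ≫ k)) _ (𝟙 _) y).trans ?_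
  refine Eq.trans ?_ (rs_inclO (awayP b) a.op (Over.mk k) (𝟙 _) y).symm
  exact congrArg (fun t => inclO (awayP b) (V := op Z'.unop.left) (Over.mk k) t y) ((id_comp _).trans (comp_id _).symm)

/-- The presheaf of good parts. -/
noncomputable def goodP : PU O.obj V where
  obj Z := ModuleCat.of (O.obj.obj (op Z.unop.left)) (goodPart l b Z)
  map {Z Z'} g :=
    mkRes (A := (((Over.forget V).op ⋙ O.obj) ⋙ forget₂ CommRingCat.{u} RingCat.{u}).obj Z)
      (B := (((Over.forget V).op ⋙ O.obj) ⋙ forget₂ CommRingCat.{u} RingCat.{u}).obj Z')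
      (M := ModuleCat.of (O.obj.obj (op Z.unop.left)) (goodPart l b Z))
      (N := ModuleCat.of (O.obj.obj (op Z'.unop.left)) (goodPart l b Z')) _
      (fun x => (⟨rs (extObj (awayP b)) g.unop.left.op x.1, rs_mem l b g x.2⟩ : goodPart l b Z'))
      (fun x y => Subtype.ext (rs_add (P := extObj (awayP b)) _ x.1 y.1))
      (fun r x => Subtype.ext (rs_smul (P := extObj (awayP b)) _ r x.1))
  map_id Z := by
    refine ModuleCat.hom_ext (LinearMap.ext fun x => Subtype.ext ?_)
    exact rs_id (P := extObj (awayP b)) x.1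
  map_comp {Z Z' Z''} g g' := by
    refine ModuleCat.hom_ext (LinearMap.ext fun x => Subtype.ext ?_)
    exact rs_comp (P := extObj (awayP b)) g.unop.left.op g'.unop.left.op x.1

/-- The inclusion of the good parts. -/
noncomputable def goodι : goodP l b ⟶ telP (V := V) b where
  app Z := idHom (A := (((Over.forget V).op ⋙ O.obj) ⋙ forget₂ CommRingCat.{u} RingCat.{u}).obj Z)
    (M := ModuleCat.of (O.obj.obj (op Z.unop.left)) (goodPart l b Z)) (N := (telP (V := V) b).obj Z)
    (fun x => x.1) (fun x y => rfl) (fun r x => rfl)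
  naturality g := by
    refine ModuleCat.hom_ext (LinearMap.ext fun x => ?_)
    rfl

attribute [local instance] KosLin.linP

/-- The Koszul complex on the good parts is acyclic. -/
theorem acyclic_goodP :
    (KosCx.Kc (l.map fun a => DerComp.GSec.ofSect O V a)
      ((HomologicalComplex.single (P₀ (O.over V)) (ComplexShape.up ℤ) 0).obj (goodP l b))).Acyclic := by
  refine KosLin.acyclic_of_eval _ fun Z => ?_
  let r' := fun a : O.obj.obj (op V) => (O.obj.map Z.unop.hom.op).hom a
  have e : {x | x ∈ l.map r'} = r' '' {a | a ∈ l} := by ext; simp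
  have hac := acyclic_part (awayP b) (V := op Z.unop.left) (Good l b Z.unop.hom) (l.map r')
    (fun k => (O.obj.map k.op).hom b) (fun k hk => e ▸ hk) (fun k _ => bijective_smul b k)
  let M : ModuleCat.{u} (O.obj.obj (op Z.unop.left)) := ModuleCat.of (O.obj.obj (op Z.unop.left)) (goodPart l b Z)
  let F : P₀ (O.over V) ⥤ ModuleCat.{u} (O.obj.obj (op Z.unop.left)) := PresheafOfModules.evaluation _ Z
  haveI : F.Additive := inferInstanceAs (PresheafOfModules.evaluation _ Z).Additive
  let P : P₀ (O.over V) := goodP l b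
  let e' : F.obj P ≅ (𝟭 (ModuleCat.{u} (O.obj.obj (op Z.unop.left)))).obj M := Iso.refl M
  have he : ∀ a, F.map (DerComp.GSec.ofSect O V a • 𝟙 P) ≫ e'.hom =
      e'.hom ≫ (𝟭 (ModuleCat.{u} (O.obj.obj (op Z.unop.left)))).map (r' a • 𝟙 M) := fun a => by
    rw [KosLin.smul_id_eq]
    refine ModuleCat.hom_ext (LinearMap.ext fun x => ?_)
    exact KosLin.smulP_app (DerComp.GSec.ofSect O V a) P Z x
  obtain ⟨i, -⟩ := KosCx.inter_Kc (fun a => DerComp.GSec.ofSect O V a) r' F
    (𝟭 (ModuleCat.{u} (O.obj.obj (op Z.unop.left)))) l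
    (KosLin.inter_single (fun a => DerComp.GSec.ofSect O V a) r' F
      (𝟭 (ModuleCat.{u} (O.obj.obj (op Z.unop.left)))) 0 e' he)
  intro n
  have h := hac n
  rw [HomologicalComplex.exactAt_iff_isZero_homology] at h ⊢
  exact h.of_iso (HomologicalComplex.homologyMapIso (i ≪≫ (Functor.mapHomologicalComplexIdIso _ _).app _) n)

lemma mono_goodι (Z : (Over V)ᵒᵖ) : Function.Injective ((goodι l b).app Z) := fun x y h => Subtype.ext h

/-- The arrows along which a section becomes good. -/
def goodSieve (Z : Over V) (s : (extObj (awayP b)).obj (op Z.left)) : Sieve Z where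
  arrows Z' g := rs (extObj (awayP b)) g.left.op s ∈ goodPart l b (op Z')
  downward_closed := fun {Z₁ Z₂ g} hg t => by
    have h := rs_mem l b t.op hg
    exact (congrArg (· ∈ goodPart l b (op Z₂)) (rs_comp (P := extObj (awayP b)) g.left.op t.left.op s)).mpr h

/-- Locally every summand is good. -/
theorem locallySurjective_goodι {I : DerComp.IdealSh O} (hl : GenPair I V l) (hb : b ∈ I.ideal W) :
    Presheaf.IsLocallySurjective (J.over V) ((PresheafOfModules.toPresheaf _).map (goodι (O := O) l b)) where
  imageSieve_mem {Z} s := by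
    refine (J.over V).superset_covering (S := goodSieve l b Z s) (fun Z' g hg => ⟨(⟨_, hg⟩ : goodPart l b (op Z')), by rfl⟩) ?_
    rw [GrothendieckTopology.mem_over_iff]
    refine extObj_induction (awayP b) (V := op Z.left)
      (fun s => Sieve.overEquiv Z (goodSieve l b Z s) ∈ J Z.left) ?_ ?_ ?_ s
    · refine J.superset_covering (fun X g _ => ?_) (J.top_mem _)
      refine (Sieve.overEquiv_iff _ _).2 ((congrArg (· ∈ goodPart l b _) ?_).mpr (zero_mem _))
      exact map_zero ((extObj (awayP b)).map _).hom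
    · intro x y hx hy
      refine J.superset_covering (fun X g hg => ?_) (J.intersection_covering hx hy)
      refine (Sieve.overEquiv_iff _ _).2 ((congrArg (· ∈ goodPart l b _) (rs_add (P := extObj (awayP b)) _ x y)).mpr
        (add_mem ((Sieve.overEquiv_iff _ _).1 hg.1) ((Sieve.overEquiv_iff _ _).1 hg.2)))
    · intro k y
      obtain ⟨S, hS, hgood⟩ := hl.loc Z.hom ((O.obj.map k.op).hom b) (I.map_mem k hb)
      refine J.superset_covering (fun X g hg => ?_) hS
      refine (Sieve.overEquiv_iff _ _).2 ?_
      have hk' : Good l b (g ≫ Z.hom) (g ≫ k) := by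
        rw [Good, op_comp, Functor.map_comp]
        exact hgood g hg
      refine (congrArg (· ∈ goodPart l b _) ?_).mp (inclO_mem_part (awayP b) (V := op X) _ hk'
        (rsO (awayP b) (Over.homMk g : Over.mk (g ≫ k) ⟶ Over.mk k) y))
      refine (inclO_rsO (awayP b) (V := op X) (Z := Over.mk (g ≫ k)) _ (𝟙 _) y).trans ?_
      refine Eq.trans ?_ (rs_inclO (awayP b) g.op (Over.mk k) (𝟙 _) y).symm
      exact congrArg (fun t => inclO (awayP b) (V := op X) (Over.mk k) t y) ((id_comp _).trans (comp_id _).symm)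

/-- The restriction of `j_{W!} O_{W,b}` is the sheafification of the good parts. -/
theorem nonempty_shGoodIso {I : DerComp.IdealSh O} (hl : GenPair I V l) (hb : b ∈ I.ideal W) :
    Nonempty ((sh (O.over V)).obj (goodP l b) ≅
      (ModSite.restr O V).obj ((ModSite.extZero O W).obj (DerComp.awayOver O W b))) := by
  have h1 : Presheaf.IsLocallyInjective (J.over V) ((PresheafOfModules.toPresheaf _).map (goodι (O := O) l b)) :=
    Presheaf.isLocallyInjective_of_injective _ _ fun Z => mono_goodι l b Z
  have h2 := locallySurjective_goodι l b hl hb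
  have h3 := @isIso_sh_map_of_locallyBijective _ _ _ (O.over V) _ _ (goodι l b) h1 h2
  exact ⟨@asIso _ _ _ _ ((sh (O.over V)).map (goodι l b)) h3 ≪≫ (shRestrIso O V).app (extObj (awayP b)) ≪≫
    (ModSite.restr O V).mapIso ((extZeroIso O W).app (DerComp.awayOver O W b)).symm⟩

/-- The Koszul complex of `l` on the restriction of `j_{W!} O_{W,b}` is zero in the derived category. -/
theorem isZero_Kc_tel {I : DerComp.IdealSh O} (hl : GenPair I V l) (hb : b ∈ I.ideal W) :
    IsZero (DerivedCategory.Q.obj (KosCx.Kc (l.map fun a => DerComp.GSec.ofSect O V a)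
      ((HomologicalComplex.single (ModSite.Mod (O.over V)) (ComplexShape.up ℤ) 0).obj
        ((ModSite.restr O V).obj ((ModSite.extZero O W).obj (DerComp.awayOver O W b)))))) := by
  obtain ⟨e⟩ := nonempty_shGoodIso l b hl hb
  let r := fun a => DerComp.GSec.ofSect O V a
  obtain ⟨i, -⟩ := KosCx.inter_Kc r r (sh (O.over V)) (𝟭 (ModSite.Mod (O.over V))) l
    (KosLin.inter_single r r (sh (O.over V)) (𝟭 _) 0 e fun a => by
      rw [KosLin.smul_id_eq, KosLin.sh_smulP, KosLin.smulEnd_id_eq]
      exact DerComp.smulEnd_comm _ e.hom)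
  refine (FinDimDerived.isZero_Q_obj_iff _).2 fun n => ?_
  have h := KosLin.acyclic_sh _ (acyclic_goodP l b) n
  rw [HomologicalComplex.exactAt_iff_isZero_homology] at h ⊢
  exact h.of_iso (HomologicalComplex.homologyMapIso (i ≪≫ (Functor.mapHomologicalComplexIdIso _ _).app _) n).symm

end Pointwise

end Groth.Agent.H9Misc.Kos
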