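import Groth.Prelude.Def_DerComp
import Groth.Agent.H9Misc.OrthLocal
import Groth.Agent.SiteBase.ModGroth

/-! Existence of derived completion on a ringed site. -/

universe u

open CategoryTheory CategoryTheory.Limits Opposite

namespace Groth.Agent.H9Misc.DerCompExists

attribute [local instance] HasDerivedCategory.standard

variable {C : Type u} [SmallCategory C] {J : GrothendieckTopology C} (O : Sheaf J CommRingCat.{u})
  (I : DerComp.IdealSh O)

/-- The test complexes. -/
noncomputable def gen : (Σ U : C, {f : O.obj.obj (op U) // f ∈ I.ideal U}) → CochainComplex (ModSite.Mod O) ℤ :=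
  fun p => (CochainComplex.singleFunctor (ModSite.Mod O) 0).obj
    ((ModSite.extZero O p.1).obj (DerComp.awayOver O p.1 p.2.1))

theorem hasDerCompletion : DerComp.HasDerCompletion O I := by
  refine OrthLocal.isRightAdjoint (gen O I) _ fun K => ⟨fun h p n => ?_, fun h U f hf n => ?_⟩
  · exact @Equiv.subsingleton _ _
      ((DerivedCategory.singleFunctorIsoCompQ (ModSite.Mod O) 0).symm.app _).homFromEquiv
      (h p.1 p.2.1 p.2.2 n)
  · exact @Equiv.subsingleton _ _
      ((DerivedCategory.singleFunctorIsoCompQ (ModSite.Mod O) 0).app _).homFromEquiv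
      (h ⟨U, f, hf⟩ n)

end Groth.Agent.H9Misc.DerCompExists
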