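import Groth.Agent.H28.KPn
import Groth.Agent.H28.LineTwist
import Groth.Agent.H23.UnitSec
import Groth.Agent.H23.PnChart
import Groth.Agent.Snapper.DimVanish
import Groth.Agent.AlgSpLib.CartierDim
import Groth.Agent.Lib.CurvePoint
import Groth.Agent.CurveCohLib.Proper
import Groth.Agent.CurveCohLib.Rank
import Groth.Agent.QCoh.SupportFT
import Groth.Agent.S10829
import Groth.Agent.S4466

/-! Cohomology of the twists of a hypersurface in projective space. -/

set_option autoImplicit false
set_option linter.style.haveILetI false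
set_option linter.unusedSectionVars false
set_option backward.isDefEq.respectTransparency false
set_option backward.isDefEq.respectTransparency.types false

universe u

open CategoryTheory CategoryTheory.Limits AlgebraicGeometry TopologicalSpace
open Groth.Agent.PnCoh.Finite (mapLin deltaLin)

noncomputable section

namespace Groth.Agent.H9Misc.HypCoh

open Groth.Agent

theorem finrank_exact {K A B C : Type*} [Field K] [AddCommGroup A] [Module K A] [AddCommGroup B] [Module K B]
    [AddCommGroup C] [Module K C] [Module.Finite K B] {f : A →ₗ[K] B} {g : B →ₗ[K] C}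
    (h : LinearMap.ker g = LinearMap.range f) :
    Module.finrank K (LinearMap.range f) + Module.finrank K (LinearMap.range g) = Module.finrank K B := by
  rw [← h, add_comm]
  exact LinearMap.finrank_range_add_finrank_ker g

section General

variable {k : Type u} [Field k] {X : Scheme.{u}} [X.Over (Spec (CommRingCat.of k))]
  [IsProper (X ↘ Spec (CommRingCat.of k))] {S : ShortComplex X.Modules}

include k in
theorem subsingleton_X₃ (hS : S.ShortExact) (p : ℕ) (h₂ : Subsingleton (Coh.HH X S.X₂ p))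
    (h₁ : Subsingleton (Coh.HH X S.X₁ (p + 1))) : Subsingleton (Coh.HH X S.X₃ p) :=
  subsingleton_of_forall_eq 0 fun x => by
    have hx : x ∈ LinearMap.ker (deltaLin k hS p) := Subsingleton.elim _ _
    rw [CurveCohLib.ker_deltaLin k hS p] at hx
    obtain ⟨y, rfl⟩ := hx
    rw [Subsingleton.elim y 0, map_zero]

/-- The start of the long exact sequence, up to the degree two. -/
theorem finrank_zero (hS : S.ShortExact) (h₂ : Coh.IsCoh S.X₂) (h₃ : Coh.IsCoh S.X₃) :
    Module.finrank k (Coh.HH X S.X₃ 0) + Module.finrank k (Coh.HH X S.X₁ 0) =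
      Module.finrank k (Coh.HH X S.X₂ 0) + Module.finrank k (LinearMap.range (deltaLin k hS 0)) := by
  haveI := CurveCohLib.finite_HH (k := k) h₂ 0
  haveI := CurveCohLib.finite_HH (k := k) h₃ 0
  have e₂ := finrank_exact (CurveCohLib.ker_mapLin_g k hS 0)
  have e₃ := finrank_exact (CurveCohLib.ker_deltaLin k hS 0)
  rw [LinearMap.finrank_range_of_inj (CurveCohLib.mapLin_f_zero_injective k hS)] at e₂
  omega

theorem finrank_delta_range (hS : S.ShortExact) (p : ℕ) (h₁ : Coh.IsCoh S.X₁) (h₂ : Coh.IsCoh S.X₂)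
    (h₃ : Subsingleton (Coh.HH X S.X₃ (p + 1))) :
    Module.finrank k (LinearMap.range (deltaLin k hS p)) + Module.finrank k (Coh.HH X S.X₂ (p + 1)) =
      Module.finrank k (Coh.HH X S.X₁ (p + 1)) := by
  haveI := CurveCohLib.finite_HH (k := k) h₁ (p + 1)
  haveI := CurveCohLib.finite_HH (k := k) h₂ (p + 1)
  have e₁ := finrank_exact (CurveCohLib.ker_mapLin_f_succ k hS p)
  have e₂ := finrank_exact (CurveCohLib.ker_mapLin_g k hS (p + 1))
  have h0 : Module.finrank k (LinearMap.range (mapLin k S.g (p + 1))) = 0 := by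
    haveI := h₃
    exact Module.finrank_zero_of_subsingleton
  omega

theorem finrank_top (hS : S.ShortExact) (p : ℕ) (h₁ : Coh.IsCoh S.X₁) (h₂ : Coh.IsCoh S.X₂)
    (h₃ : Coh.IsCoh S.X₃) (hp : Subsingleton (Coh.HH X S.X₂ p))
    (hp' : Subsingleton (Coh.HH X S.X₃ (p + 1))) :
    Module.finrank k (Coh.HH X S.X₃ p) + Module.finrank k (Coh.HH X S.X₂ (p + 1)) =
      Module.finrank k (Coh.HH X S.X₁ (p + 1)) := by
  rw [← finrank_delta_range hS p h₁ h₂ hp']
  congr 1
  refine (LinearMap.finrank_range_of_inj ((injective_iff_map_eq_zero _).2 fun x hx => ?_)).symm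
  have hx' : x ∈ LinearMap.ker (deltaLin k hS p) := hx
  rw [CurveCohLib.ker_deltaLin k hS p] at hx'
  obtain ⟨y, rfl⟩ := hx'
  rw [Subsingleton.elim y 0, map_zero]

/-- A quotient of the structure module by a module with a nonzero stalk vanishes where the local ring is a field. -/
theorem subsingleton_quot_stalk {S : ShortComplex X.Modules} (hS : S.ShortExact)
    (e : S.X₂ ≅ Coh.structureModule X) (x : X) (hx : IsField (X.presheaf.stalk x))
    (hne : ¬ Subsingleton (S.X₁.presheaf.stalk x)) : Subsingleton (S.X₃.presheaf.stalk x) := by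
  let Φ := DerSch.stalkFunctor X x
  have hS' : (S.map Φ).ShortExact := hS.map_of_exact Φ
  haveI : Epi (Φ.map S.g) := hS'.epi_g
  haveI : Mono (Φ.map S.f) := hS'.mono_f
  letI := hx.toField
  refine subsingleton_of_forall_eq 0 fun q => ?_
  obtain ⟨b, rfl⟩ := (ModuleCat.epi_iff_surjective (Φ.map S.g)).1 inferInstance q
  obtain ⟨a, ha⟩ : ∃ a : Φ.obj S.X₁, a ≠ 0 := by
    by_contra! h
    exact hne (subsingleton_of_forall_eq 0 h)
  let one : Φ.obj (Coh.structureModule X) := H23.UnitSec.one x
  have hsp : ∀ v : Φ.obj (Coh.structureModule X), ∃ r : X.presheaf.stalk x, r • one = v := fun v =>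
    Submodule.mem_span_singleton.1 ((H23.UnitSec.span_one x).ge (Submodule.mem_top (x := v)))
  let ψ := (Φ.mapIso e).toLinearEquiv
  obtain ⟨r, hr⟩ := hsp (ψ (Φ.map S.f a))
  obtain ⟨s, hs⟩ := hsp (ψ b)
  have hr0 : r ≠ 0 := fun h => by
    rw [h, zero_smul] at hr
    exact ha ((ModuleCat.mono_iff_injective _).1 inferInstance
      ((ψ.map_eq_zero_iff.1 hr.symm).trans (map_zero _).symm))
  obtain ⟨r', hr'⟩ := hx.mul_inv_cancel hr0
  have hb : b = (s * r') • Φ.map S.f a := ψ.injective (by
    rw [map_smul, ← hr, smul_smul, mul_assoc, mul_comm r' r, hr', mul_one, hs])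
  rw [hb, map_smul]
  refine (congrArg _ ?_).trans (smul_zero _)
  exact LinearMap.congr_fun (congrArg ModuleCat.Hom.hom (S.map Φ).zero) a

end General

section Pn

variable {F : Type u} [Field F] {N : ℕ}

abbrev O (N : ℕ) (F : Type u) [Field F] (a : ℤ) : (CohB1.ProjSpace N F).Modules := Twist.twistProjSpace N F a

instance isProper_over : IsProper (CohB1.ProjSpace N F ↘ Spec (CommRingCat.of F)) :=
  PnCoh.Chow.isProper_toSpec.{u} N F

theorem isCoh_O [IsLocallyNoetherian (CohB1.ProjSpace N F)] (a : ℤ) : Coh.IsCoh (O N F a) :=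
  CurveDeg.isCoh_of_isInvertible (H28.KPn.inv_tw F N a)

theorem finrank_H0 (a : ℤ) (hN : 0 < N) :
    Module.finrank F (Coh.HH (CohB1.ProjSpace N F) (O N F a) 0) = Nat.choose (a + (N : ℤ)).toNat N := by
  rcases le_or_gt 0 a with h | h
  · lift a to ℕ using h
    obtain ⟨e⟩ := S0843.result F N a
    rw [e.finrank_eq, (S18464.finite_finrank_homogeneous F N a).2,
      show ((a : ℤ) + (N : ℤ)).toNat = N + a by omega, ← Nat.choose_symm_add]
  · haveI := S0844.result F N a 0 (by omega) (by omega)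
    rw [Module.finrank_zero_of_subsingleton, Nat.choose_eq_zero_of_lt (by omega)]

theorem finrank_Htop (a : ℤ) (hN : 0 < N) :
    Module.finrank F (Coh.HH (CohB1.ProjSpace N F) (O N F a) N) = Nat.choose (-a - 1).toNat N := by
  rcases le_or_gt a (-((N : ℤ) + 1)) with h | h
  · obtain ⟨m, rfl⟩ : ∃ m : ℕ, a = -((N : ℤ) + 1 + m) := ⟨(-a - ((N : ℤ) + 1)).toNat, by omega⟩
    obtain ⟨e⟩ := S0845.result F N m
    rw [e.finrank_eq, (S18464.finite_finrank_homogeneous F N m).2,
      show (- -((N : ℤ) + 1 + m) - 1).toNat = N + m by omega, ← Nat.choose_symm_add]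
  · haveI := S0844.result F N a N (by omega) (by omega)
    rw [Module.finrank_zero_of_subsingleton, Nat.choose_eq_zero_of_lt (by omega)]

theorem exists_ses (d k : ℕ) (hd : N = d + 1) (I : (CohB1.ProjSpace N F).IdealSheafData)
    (hI : Nonempty (ClSub.idealMod I ≅ O N F (-(k : ℤ)))) (n : ℤ) :
    ∃ S : ShortComplex (CohB1.ProjSpace N F).Modules, S.ShortExact ∧
      Nonempty (S.X₁ ≅ O N F (n - (k : ℤ))) ∧ Nonempty (S.X₂ ≅ O N F n) ∧
      Nonempty (S.X₃ ≅ CohB1.tensorMod (ClSub.quotMod I) (O N F n)) ∧ Coh.IsCoh S.X₃ ∧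
      ∀ i, d + 1 ≤ i → Subsingleton (Coh.HH (CohB1.ProjSpace N F) S.X₃ i) := by
  obtain ⟨eI⟩ := hI
  haveI : IsNoetherian (CohB1.ProjSpace N F) := CurveCohLib.isNoetherian_of_proper (k := F)
  haveI : (CohB1.ProjSpace N F).IsSeparated := AmpleVan.isSeparated_of_proper (A := F)
  haveI := H23.PnChart.isIntegral_projSpace N F
  haveI := CurvePoint.epi_toSubscheme I
  have h0 : (ShortComplex.mk (ClSub.idealModι I) (ClSub.toSubscheme I) (kernel.condition _)).ShortExact :=
    CurveSlope.shortExact_kernel_of_epi _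
  have hlf : FlatMod.IsFinLocFree (O N F n) := H28.LineTwist.lf_invertible (H28.KPn.inv_tw F N n)
  have hS := CurveTensor.shortExact_tensor hlf _ _ _ h0
  obtain ⟨c⟩ := H23.PicMul.comm (O N F n) (ClSub.quotMod I)
  obtain ⟨t⟩ := H28.KPn.tw_add F N n (-(k : ℤ))
  have hQ : Coh.IsCoh (ClSub.quotMod I) := ParShLib.isCoh_quotMod I
  have hT : Coh.IsCoh ((DCoh.tensorBi.obj (O N F n)).obj (ClSub.quotMod I)) := CurveTensor.isCoh_tensor hlf hQ
  refine ⟨_, hS, ⟨(DCoh.tensorBi.obj (O N F n)).mapIso eI ≪≫ t ≪≫ eqToIso (congrArg (O N F) (sub_eq_add_neg n k).symm)⟩,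
    ⟨KFlatLib.tensorUnitIso _⟩, ⟨c⟩, hT, fun i hi => ?_⟩
  let η := genericPoint (CohB1.ProjSpace N F)
  have hη : η ∉ CohB1.support (ClSub.quotMod I) := by
    refine not_not.2 (subsingleton_quot_stalk h0 (Iso.refl _) η ?_ ?_)
    · letI : Field ((CohB1.ProjSpace N F).presheaf.stalk η) :=
        inferInstanceAs (Field (CohB1.ProjSpace N F).functionField)
      exact Field.toIsField _
    · intro hsub
      have hne : Nontrivial ((O N F (-(k : ℤ))).presheaf.stalk η) := by
        haveI := QCoh.free_stalk_of_isFinLocFree (H28.LineTwist.lf_invertible (H28.KPn.inv_tw F N (-(k : ℤ)))) η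
        obtain ⟨b⟩ := CurveTensor.exists_basis_stalk (InvEnd.isFinLocFreeOfRank_one (H28.KPn.inv_tw F N (-(k : ℤ)))) η
        exact b.repr.toEquiv.nontrivial
      haveI : Subsingleton ((DerSch.stalkFunctor (CohB1.ProjSpace N F) η).obj (ClSub.idealMod I)) := hsub
      haveI : Nontrivial ((DerSch.stalkFunctor (CohB1.ProjSpace N F) η).obj (O N F (-(k : ℤ)))) := hne
      exact not_subsingleton _ (((DerSch.stalkFunctor _ η).mapIso eI).toLinearEquiv.symm.toEquiv.subsingleton)
  have hcl : IsClosed (CohB1.support (ClSub.quotMod I)) := QCoh.isClosed_support_of_ft hQ.2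
  have hdim := AlgSpLib.CartierDim.topologicalKrullDim_lt hcl
    (fun z _ => ⟨η, hη, genericPoint_specializes z⟩)
    (by rw [S10829.result F N]; exact fun h => ENat.natCast_ne_top N (WithBot.coe_eq_top.1 h))
  subst hd
  rw [S10829.result F (d + 1)] at hdim
  exact Snapper.subsingleton_HH_of_dim_lt (d + 1) ⟨_, hcl⟩ hdim _ hT.1 CurveTensor.support_tensor_subset i hi

end Pn

end Groth.Agent.H9Misc.HypCoh
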