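import Groth.Agent.KFlatLib.KFlat
import Groth.Agent.H9Misc.ExtCechTors
import Groth.Prelude.Def_Koszul
import Mathlib

/-! The Koszul functor on complexes. -/

set_option linter.style.haveILetI false

universe u

open CategoryTheory CategoryTheory.Limits CategoryTheory.Pretriangulated CochainComplex

attribute [local instance] HasDerivedCategory.standard

namespace Groth.Agent.H9Misc.KonLib

open Groth.Agent.KFlatLib

variable {R : Type u} [CommRing R]

/-- The cone of multiplication by `f`, functorially. -/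
noncomputable def F (f : R) : DRing.Cx R ⥤ DRing.Cx R where
  obj X := mappingCone (f • 𝟙 X)
  map {X Y} φ := mappingCone.map (f • 𝟙 X) (f • 𝟙 Y) φ φ (by simp)
  map_id X := mappingCone.map_id _
  map_comp {X Y Z} φ ψ := mappingCone.map_comp _ _ _ φ φ (by simp) ψ ψ (by simp)

instance (f : R) : (F f).Additive where
  map_add {X Y φ ψ} := by
    change mappingCone.map (f • 𝟙 X) (f • 𝟙 Y) (φ + ψ) (φ + ψ) (by simp) =
      mappingCone.map (f • 𝟙 X) (f • 𝟙 Y) φ φ (by simp) + mappingCone.map (f • 𝟙 X) (f • 𝟙 Y) ψ ψ (by simp)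
    refine HomologicalComplex.hom_ext _ _ fun p => ?_
    apply mappingCone.ext_from _ (p + 1) p rfl <;> simp [F, mappingCone.map]

/-- Iterated cones. -/
noncomputable def kon : List R → DRing.Cx R ⥤ DRing.Cx R
  | [] => 𝟭 _
  | f :: r => kon r ⋙ F f

instance kon_preservesZero : ∀ fs : List R, (kon fs).PreservesZeroMorphisms
  | [] => inferInstanceAs (𝟭 (DRing.Cx R)).PreservesZeroMorphisms
  | f :: r => by
    haveI := kon_preservesZero r
    exact inferInstanceAs (kon r ⋙ F f).PreservesZeroMorphisms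

lemma F_map_smul (f g : R) (X : DRing.Cx R) : (F f).map (g • 𝟙 X) = g • 𝟙 ((F f).obj X) := by
  change mappingCone.map (f • 𝟙 X) (f • 𝟙 X) (g • 𝟙 X) (g • 𝟙 X) (by simp [smul_comm f g]) =
    g • 𝟙 (mappingCone (f • 𝟙 X))
  refine HomologicalComplex.hom_ext _ _ fun p => ?_
  apply mappingCone.ext_from _ (p + 1) p rfl <;> simp [F, mappingCone.map]

lemma kon_map_smul (g : R) (X : DRing.Cx R) : ∀ fs : List R, (kon fs).map (g • 𝟙 X) = g • 𝟙 ((kon fs).obj X)
  | [] => rfl
  | f :: r => (congrArg (F f).map (kon_map_smul g X r)).trans (F_map_smul f g _)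

@[reassoc]
lemma inl_F_map (f : R) {X Y : DRing.Cx R} (φ : X ⟶ Y) (p : ℤ) :
    (mappingCone.inl (f • 𝟙 X)).v (p + 1) p (by omega) ≫ ((F f).map φ).f p =
      φ.f (p + 1) ≫ (mappingCone.inl (f • 𝟙 Y)).v (p + 1) p (by omega) := by
  change _ ≫ (mappingCone.map (f • 𝟙 X) (f • 𝟙 Y) φ φ (by simp)).f p = _
  simp [mappingCone.map]

@[reassoc]
lemma inr_F_map (f : R) {X Y : DRing.Cx R} (φ : X ⟶ Y) (p : ℤ) :
    (mappingCone.inr (f • 𝟙 X)).f p ≫ ((F f).map φ).f p = φ.f p ≫ (mappingCone.inr (f • 𝟙 Y)).f p := by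
  change _ ≫ (mappingCone.map (f • 𝟙 X) (f • 𝟙 Y) φ φ (by simp)).f p = _
  simp [mappingCone.map]

/-- A degreewise map between cones. -/
noncomputable def coneHom (f : R) {X Y : DRing.Cx R} (a : ∀ n, X.X n ⟶ Y.X n) (p : ℤ) :
    (mappingCone (f • 𝟙 X)).X p ⟶ (mappingCone (f • 𝟙 Y)).X p :=
  (mappingCone.fst (f • 𝟙 X)).1.v p (p + 1) rfl ≫ a (p + 1) ≫ (mappingCone.inl (f • 𝟙 Y)).v (p + 1) p (by omega) +
    (mappingCone.snd (f • 𝟙 X)).v p p (add_zero p) ≫ a p ≫ (mappingCone.inr (f • 𝟙 Y)).f p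

lemma inl_coneHom (f : R) {X Y : DRing.Cx R} (a : ∀ n, X.X n ⟶ Y.X n) (p : ℤ) :
    (mappingCone.inl (f • 𝟙 X)).v (p + 1) p (by omega) ≫ coneHom f a p =
      a (p + 1) ≫ (mappingCone.inl (f • 𝟙 Y)).v (p + 1) p (by omega) := by
  simp [coneHom]

lemma inr_coneHom (f : R) {X Y : DRing.Cx R} (a : ∀ n, X.X n ⟶ Y.X n) (p : ℤ) :
    (mappingCone.inr (f • 𝟙 X)).f p ≫ coneHom f a p = a p ≫ (mappingCone.inr (f • 𝟙 Y)).f p := by
  simp [coneHom]

lemma coneHom_eq_map (f : R) {X Y : DRing.Cx R} (φ : X ⟶ Y) (p : ℤ) :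
    ((F f).map φ).f p = coneHom f φ.f p :=
  mappingCone.ext_from (f • 𝟙 X) (p + 1) p rfl
    ((inl_F_map f φ p).trans (inl_coneHom f φ.f p).symm)
    ((inr_F_map f φ p).trans (inr_coneHom f φ.f p).symm)

lemma coneHom_comp (f : R) {X Y Z : DRing.Cx R} (a : ∀ n, X.X n ⟶ Y.X n) (b : ∀ n, Y.X n ⟶ Z.X n) (p : ℤ) :
    coneHom f a p ≫ coneHom f b p = coneHom f (fun n => a n ≫ b n) p := by
  simp [coneHom]

lemma coneHom_id (f : R) (X : DRing.Cx R) (p : ℤ) :
    coneHom f (fun n => 𝟙 (X.X n)) p = 𝟙 ((mappingCone (f • 𝟙 X)).X p) := by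
  simp only [coneHom, Category.id_comp]
  exact mappingCone.id_X (f • 𝟙 X) p (p + 1) rfl

lemma coneHom_add (f : R) {X Y : DRing.Cx R} (a b : ∀ n, X.X n ⟶ Y.X n) (p : ℤ) :
    coneHom f a p + coneHom f b p = coneHom f (fun n => a n + b n) p := by
  simp [coneHom]
  abel

/-- The degreewise splittings of an `F f`-image. -/
noncomputable def splitF (f : R) {S : ShortComplex (DRing.Cx R)}
    (σ : ∀ n, (S.map (HomologicalComplex.eval _ (ComplexShape.up ℤ) n)).Splitting) (p : ℤ) :
    ((S.map (F f)).map (HomologicalComplex.eval _ (ComplexShape.up ℤ) p)).Splitting where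
  r := coneHom f (X := S.X₂) (Y := S.X₁) (fun n => (σ n).r) p
  s := coneHom f (X := S.X₃) (Y := S.X₂) (fun n => (σ n).s) p
  f_r := by
    let r' : ∀ n, S.X₂.X n ⟶ S.X₁.X n := fun n => (σ n).r
    have h : ∀ n, S.f.f n ≫ r' n = 𝟙 _ := fun n => (σ n).f_r
    have key : coneHom f S.f.f p ≫ coneHom f r' p = 𝟙 _ := by
      rw [coneHom_comp, funext h, coneHom_id]
    exact (congrArg (fun t => t ≫ coneHom f r' p) (coneHom_eq_map f S.f p)).trans key
  s_g := by
    let s' : ∀ n, S.X₃.X n ⟶ S.X₂.X n := fun n => (σ n).s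
    have h : ∀ n, s' n ≫ S.g.f n = 𝟙 _ := fun n => (σ n).s_g
    have key : coneHom f s' p ≫ coneHom f S.g.f p = 𝟙 _ := by
      rw [coneHom_comp, funext h, coneHom_id]
    exact (congrArg (fun t => coneHom f s' p ≫ t) (coneHom_eq_map f S.g p)).trans key
  id := by
    let r' : ∀ n, S.X₂.X n ⟶ S.X₁.X n := fun n => (σ n).r
    let s' : ∀ n, S.X₃.X n ⟶ S.X₂.X n := fun n => (σ n).s
    have h : ∀ n, r' n ≫ S.f.f n + S.g.f n ≫ s' n = 𝟙 _ := fun n => (σ n).id
    have key : coneHom f r' p ≫ coneHom f S.f.f p + coneHom f S.g.f p ≫ coneHom f s' p = 𝟙 _ := by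
      rw [coneHom_comp, coneHom_comp, coneHom_add, funext h, coneHom_id]
    exact (congrArg₂ (fun (a : (mappingCone (f • 𝟙 S.X₁)).X p ⟶ (mappingCone (f • 𝟙 S.X₂)).X p) (b : (mappingCone (f • 𝟙 S.X₂)).X p ⟶ (mappingCone (f • 𝟙 S.X₃)).X p) => coneHom f r' p ≫ a + b ≫ coneHom f s' p)
      (coneHom_eq_map f S.f p) (coneHom_eq_map f S.g p)).trans key

lemma split_kon {S : ShortComplex (DRing.Cx R)}
    (σ : ∀ n, (S.map (HomologicalComplex.eval _ (ComplexShape.up ℤ) n)).Splitting) :
    ∀ fs : List R, Nonempty (∀ n, ((S.map (kon fs)).map (HomologicalComplex.eval _ (ComplexShape.up ℤ) n)).Splitting)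
  | [] => ⟨σ⟩
  | f :: r => by
    obtain ⟨τ⟩ := split_kon σ r
    exact ⟨fun n => splitF f τ n⟩

lemma nonempty_shift (n : ℤ) (X : DRing.Cx R) :
    ∀ fs : List R, Nonempty ((kon fs).obj (X⟦n⟧) ≅ ((kon fs).obj X)⟦n⟧)
  | [] => ⟨Iso.refl _⟩
  | f :: r => by
    obtain ⟨e⟩ := nonempty_shift n X r
    have h : (CategoryTheory.shiftFunctor (DRing.Cx R) n).map (f • 𝟙 ((kon r).obj X)) =
        f • 𝟙 ((CategoryTheory.shiftFunctor (DRing.Cx R) n).obj ((kon r).obj X)) := by
      ext p
      simp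
    exact ⟨(F f).mapIso e ≪≫ eqToIso (show (F f).obj _ = mappingCone ((CategoryTheory.shiftFunctor (DRing.Cx R) n).map (f • 𝟙 ((kon r).obj X))) by rw [h]; rfl) ≪≫ (mappingCone.shiftIso _ n).symm⟩

section LES

variable (f : R) (X : DRing.Cx R)

/-- The homology exact sequence of `F f`. -/
lemma exists_seq (n : ℤ) : ∃ (b : X.homology n ⟶ ((F f).obj X).homology n)
    (δ : ((F f).obj X).homology n ⟶ X.homology (n + 1)),
    (∀ y, δ y = 0 → ∃ x, b x = y) ∧ (∀ y, f • δ y = 0) ∧
      (∀ x : X.homology (n + 1), f • x = 0 → ∃ y, δ y = x) := by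
  let φ := f • 𝟙 X
  let T := DerivedCategory.Q.mapTriangle.obj (mappingCone.triangle φ)
  have hT : T ∈ distinguishedTriangles := DerivedCategory.mappingCone_triangle_distinguished φ
  let H := fun i : ℤ => DerivedCategory.homologyFunctor (ModuleCat.{u} R) i
  let e : ∀ (Y : DRing.Cx R) (i : ℤ), (H i).obj (DerivedCategory.Q.obj Y) ≅ Y.homology i := fun Y i =>
    (DerivedCategory.homologyFunctorFactors (ModuleCat.{u} R) i).app Y
  have hsmul : ∀ (i : ℤ) (x : X.homology i), HomologicalComplex.homologyMap φ i x = f • x := fun i x => by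
    have h : HomologicalComplex.homologyMap φ i = f • 𝟙 (X.homology i) := by
      have h' : (HomologicalComplex.shortComplexFunctor (ModuleCat.{u} R) (ComplexShape.up ℤ) i).map φ =
          f • 𝟙 (X.sc i) := by
        ext <;> simp [φ] <;> rfl
      change ShortComplex.homologyMap ((HomologicalComplex.shortComplexFunctor (ModuleCat.{u} R) (ComplexShape.up ℤ) i).map φ) = _
      rw [h', ShortComplex.homologyMap_smul, ShortComplex.homologyMap_id]
      rfl
    rw [h]
    rfl
  have nat : ∀ i, (H i).map (DerivedCategory.Q.map φ) ≫ (e X i).hom =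
      (e X i).hom ≫ HomologicalComplex.homologyMap φ i := fun i =>
    (DerivedCategory.homologyFunctorFactors (ModuleCat.{u} R) i).hom.naturality φ
  let δ : (H n).obj (DerivedCategory.Q.obj (mappingCone φ)) ⟶
      (H (n + 1)).obj (DerivedCategory.Q.obj X) := DerivedCategory.HomologySequence.δ T n (n + 1) rfl
  let b : (H n).obj (DerivedCategory.Q.obj X) ⟶ (H n).obj (DerivedCategory.Q.obj (mappingCone φ)) :=
    (H n).map T.mor₂
  refine ⟨(e X n).inv ≫ b ≫ (e (mappingCone φ) n).hom,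
    (e (mappingCone φ) n).inv ≫ δ ≫ (e X (n + 1)).hom, fun y hy => ?_, fun y => ?_, fun x hx => ?_⟩
  · have hex := (DerivedCategory.HomologySequence.exact₃ T hT n (n + 1) rfl)
    rw [ShortComplex.moduleCat_exact_iff] at hex
    obtain ⟨x, hx⟩ := hex ((e (mappingCone φ) n).inv y)
      ((e X (n + 1)).toLinearEquiv.injective (hy.trans (map_zero _).symm))
    refine ⟨(e X n).hom x, ?_⟩
    show (e (mappingCone φ) n).hom (b ((e X n).inv ((e X n).hom x))) = y
    rw [← ConcreteCategory.comp_apply (e X n).hom, Iso.hom_inv_id]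
    refine (congrArg (e (mappingCone φ) n).hom hx).trans ?_
    rw [← ConcreteCategory.comp_apply, Iso.inv_hom_id]
    rfl
  · rw [← hsmul]
    show ((e X (n + 1)).hom ≫ HomologicalComplex.homologyMap φ (n + 1)) (δ ((e (mappingCone φ) n).inv y)) = 0
    rw [← nat]
    have h0 : δ ≫ (H (n + 1)).map (DerivedCategory.Q.map φ) = 0 :=
      DerivedCategory.HomologySequence.δ_comp T hT n (n + 1) rfl
    rw [← ConcreteCategory.comp_apply δ, ← Category.assoc, h0, zero_comp]
    rfl
  · have hex := (DerivedCategory.HomologySequence.exact₁ T hT n (n + 1) rfl)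
    rw [ShortComplex.moduleCat_exact_iff] at hex
    obtain ⟨y, hy⟩ := hex ((e X (n + 1)).inv x) (by
      refine (e X (n + 1)).toLinearEquiv.injective ?_
      refine Eq.trans ?_ (map_zero _).symm
      show ((H (n + 1)).map (DerivedCategory.Q.map φ) ≫ (e X (n + 1)).hom) ((e X (n + 1)).inv x) = 0
      rw [nat, ← ConcreteCategory.comp_apply, Iso.inv_hom_id_assoc, hsmul, hx])
    refine ⟨(e (mappingCone φ) n).hom y, ?_⟩
    show (e X (n + 1)).hom (δ ((e (mappingCone φ) n).inv ((e (mappingCone φ) n).hom y))) = x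
    rw [← ConcreteCategory.comp_apply (e (mappingCone φ) n).hom, Iso.hom_inv_id]
    refine (congrArg (e X (n + 1)).hom hy).trans ?_
    rw [← ConcreteCategory.comp_apply, Iso.inv_hom_id]
    rfl

lemma isZero_F (n : ℤ) (h₁ : IsZero (X.homology n)) (h₂ : IsZero (X.homology (n + 1))) :
    IsZero (((F f).obj X).homology n) := by
  obtain ⟨b, δ, hbδ, -, -⟩ := exists_seq f X n
  haveI := ModuleCat.subsingleton_of_isZero h₁
  haveI := ModuleCat.subsingleton_of_isZero h₂
  haveI : Subsingleton (((F f).obj X).homology n) := ⟨fun a c => by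
    have h0 : ∀ y : ((F f).obj X).homology n, y = 0 := fun y => by
      obtain ⟨x, rfl⟩ := hbδ y (Subsingleton.elim _ _)
      rw [Subsingleton.elim x 0, map_zero]
    rw [h0 a, h0 c]⟩
  exact ModuleCat.isZero_of_subsingleton _

end LES

open Groth.Agent.H9Misc.ExtCechTors in
/-- The lowest cohomology through iterated cones. -/
theorem lowest (X : DRing.Cx R) (j : ℤ) (hlow : ∀ q < j, IsZero (X.homology q)) (hne : ¬ IsZero (X.homology j)) :
    ∀ fs : List R, (∀ f ∈ fs, Tors f (X.homology j)) →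
      (∀ q < j - fs.length, IsZero (((kon fs).obj X).homology q)) ∧
      ¬ IsZero (((kon fs).obj X).homology (j - fs.length)) ∧
      ∀ g : R, Tors g (X.homology j) → Tors g (((kon fs).obj X).homology (j - fs.length))
  | [], _ => ⟨by simpa [kon] using hlow, by simpa [kon] using hne, by simp [kon]⟩
  | f :: r, ht => by
    obtain ⟨h1, h2, h3⟩ := lowest X j hlow hne r fun g hg => ht g (List.mem_cons_of_mem f hg)
    have hlen : j - ((f :: r).length : ℤ) = j - r.length - 1 := by simp; omega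
    rw [hlen]
    let Y := (kon r).obj X
    obtain ⟨b, δ, hbδ, hfδ, hex⟩ := exists_seq f Y (j - r.length - 1)
    haveI := ModuleCat.subsingleton_of_isZero (h1 (j - r.length - 1) (by omega))
    have hinj : Function.Injective δ := (injective_iff_map_eq_zero δ.hom).2 fun y hy => by
      obtain ⟨x, rfl⟩ := hbδ y hy
      rw [Subsingleton.elim x 0, map_zero]
    rw [show j - (r.length : ℤ) = j - r.length - 1 + 1 by omega] at h2 h3
    refine ⟨fun q hq => isZero_F f Y q (h1 q (by omega)) (h1 (q + 1) (by omega)), fun hz => h2 ?_, fun g hg y => ?_⟩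
    · haveI : Subsingleton (((F f).obj Y).homology (j - r.length - 1)) := ModuleCat.subsingleton_of_isZero hz
      haveI : Subsingleton (Y.homology (j - r.length - 1 + 1)) := ⟨fun a c => by
        have h0 : ∀ x : Y.homology (j - r.length - 1 + 1), x = 0 := fun x => by
          obtain ⟨k, hk⟩ := h3 f (ht f List.mem_cons_self) x
          induction k generalizing x with
          | zero => simpa using hk
          | succ k ih =>
            rw [pow_succ, mul_smul] at hk
            obtain ⟨y, hy⟩ := hex x (ih (f • x) hk)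
            rw [← hy, Subsingleton.elim (α := ((F f).obj Y).homology (j - r.length - 1)) y 0, map_zero]
        rw [h0 a, h0 c]⟩
      exact ModuleCat.isZero_of_subsingleton _
    · obtain ⟨k, hk⟩ := h3 g hg (δ y)
      exact ⟨k, hinj ((δ.hom.map_smul _ _).trans (hk.trans (map_zero δ.hom).symm))⟩

lemma acyclic_F {f : R} {X : DRing.Cx R} (h : ∀ n, IsZero (X.homology n)) (n : ℤ) :
    IsZero (((F f).obj X).homology n) :=
  isZero_F f X n (h n) (h (n + 1))

/-- Multiplication invertible kills. -/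
theorem acyclic_of_unit {g : R} {Y : DRing.Cx R} [IsIso (g • 𝟙 Y)] :
    ∀ fs : List R, g ∈ fs → ∀ n, IsZero (((kon fs).obj Y).homology n)
  | [], h, _ => absurd h List.not_mem_nil
  | f :: r, h, n => by
    rcases List.mem_cons.1 h with rfl | h'
    · haveI : IsIso (g • 𝟙 ((kon r).obj Y)) := by
        rw [← kon_map_smul]
        infer_instance
      have hz := (Triangle.isZero₃_iff_isIso₁ _
        (HomotopyCategory.mappingCone_triangleh_distinguished (g • 𝟙 ((kon r).obj Y)))).2
          (inferInstanceAs (IsIso ((HomotopyCategory.quotient _ _).map (g • 𝟙 ((kon r).obj Y)))))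
      exact (Groth.Agent.LC.ExtCech.isZero_quotient_iff _ n).1 (Functor.map_isZero _ hz)
    · exact acyclic_F (acyclic_of_unit r h') n

lemma isIso_smul_locCx (g : R) (X : DRing.Cx R) :
    IsIso (g • 𝟙 ((DerCA.locCx (Submonoid.powers g)).obj X)) := by
  haveI : ∀ i, IsIso ((g • 𝟙 ((DerCA.locCx (Submonoid.powers g)).obj X)).f i) := fun i =>
    (ConcreteCategory.isIso_iff_bijective _).2 ((Module.End.isUnit_iff _).1
      (IsLocalizedModule.map_units (LocalizedModule.mkLinearMap (Submonoid.powers g) (X.X i))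
        ⟨g, Submonoid.mem_powers g⟩))
  exact HomologicalComplex.Hom.isIso_of_components _

/-- The extended Cech complex becomes `M` after the Koszul functor. -/
theorem nonempty_homology_iso (fs : List R) (M : ModuleCat.{u} R) :
    ∀ gs : List R, (∀ g ∈ gs, g ∈ fs) → ∀ q : ℤ,
      Nonempty (((kon fs).obj (DerCA.extCech M gs)).homology q ≅
        ((kon fs).obj ((HomologicalComplex.single (ModuleCat.{u} R) (ComplexShape.up ℤ) 0).obj M)).homology q)
  | [], _, q => ⟨Iso.refl _⟩
  | g :: gs, h, q => by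
    obtain ⟨ih⟩ := nonempty_homology_iso fs M gs (fun a ha => h a (List.mem_cons_of_mem g ha)) q
    let φ := DerCA.locCxUnit (Submonoid.powers g) (DerCA.extCech M gs)
    let L : DRing.Cx R := (DerCA.locCx (Submonoid.powers g)).obj (DerCA.extCech M gs)
    haveI : IsIso (g • 𝟙 L) := isIso_smul_locCx g _
    have hacyc : ∀ n, IsZero (((kon fs).obj L).homology n) := acyclic_of_unit fs (h g List.mem_cons_self)
    obtain ⟨τ⟩ := split_kon (fun n => coneSeqSplitting φ n) fs
    have hS : ((coneSeq φ).map (kon fs)).ShortExact :=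
      HomologicalComplex.shortExact_of_degreewise_shortExact _ fun n => (τ n).shortExact
    haveI := quasiIso_g_of_acyclic hS ((acyclic_iff_isZero _).2 hacyc)
    obtain ⟨e1⟩ := nonempty_shift (-1) (mappingCone φ) fs
    obtain ⟨e2⟩ := nonempty_shift 1 (DerCA.extCech M gs) fs
    let H := fun i : ℤ => HomologicalComplex.homologyFunctor (ModuleCat.{u} R) (ComplexShape.up ℤ) i
    let sh := fun (a n n' : ℤ) (ha : a + n = n') (Y : DRing.Cx R) =>
      ((HomologicalComplex.homologyFunctor (ModuleCat.{u} R) (ComplexShape.up ℤ) 0).shiftIso a n n' ha).app Y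
    exact ⟨(H q).mapIso e1 ≪≫ sh (-1) q (q - 1) (by omega) _ ≪≫
      isoOfQuasiIsoAt ((coneSeq φ).map (kon fs)).g (q - 1) ≪≫
      (H (q - 1)).mapIso e2 ≪≫ sh 1 (q - 1) q (by omega) _ ≪≫ ih⟩

lemma nonempty_koszul : ∀ fs : List R, Nonempty ((kon fs).obj
    ((HomologicalComplex.single (ModuleCat.{u} R) (ComplexShape.up ℤ) 0).obj (ModuleCat.of R R)) ≅
      Koszul.koszul R fs)
  | [] => ⟨Iso.refl _⟩
  | f :: r => by
    obtain ⟨e⟩ := nonempty_koszul r
    exact ⟨(F f).mapIso e⟩

end Groth.Agent.H9Misc.KonLib
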