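import Groth.Agent.KExact.AmpleFamily
import Groth.Agent.KFlatLib.Scheme.Exact

/-!
# Finite subfamilies of generating families of modules of finite type
-/

set_option autoImplicit false
set_option linter.style.haveILetI false
set_option backward.isDefEq.respectTransparency false
set_option backward.isDefEq.respectTransparency.types false

universe u

open CategoryTheory CategoryTheory.Limits AlgebraicGeometry TopologicalSpace

attribute [local instance] Groth.Agent.QCoh.hasFiniteBiproducts

namespace Groth.Agent.H9Misc.FinSubfamily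

open Groth.Agent

variable {X : Scheme.{u}}

/-- Finitely many members of a jointly epimorphic family already cover a module of finite type. -/
theorem exists_finite_epi [CompactSpace X] {M : X.Modules} (hM : Coh.IsQCoh M) (hft : CohB1.IsFT M) {J : Type u}
    (N : J → X.Modules) (f : ∀ j, N j ⟶ M) (h : Epi (Sigma.desc f)) :
    ∃ (n : ℕ) (j : Fin n → J), Epi (biproduct.desc fun i : Fin n => f (j i)) := by
  classical
  haveI := h
  have htop : ∀ x : X, (⨆ j, LinearMap.range ((DerSch.stalkFunctor X x).map (f j)).hom) = ⊤ := fun x => by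
    let R := ⨆ j, LinearMap.range ((DerSch.stalkFunctor X x).map (f j)).hom
    haveI : Epi ((DerSch.stalkFunctor X x).map (Sigma.desc f)) := inferInstance
    have h0 : (DerSch.stalkFunctor X x).map (Sigma.desc f) ≫ ModuleCat.ofHom R.mkQ = 0 := by
      refine (isColimitOfPreserves (DerSch.stalkFunctor X x) (coproductIsCoproduct N)).hom_ext fun j => ?_
      rw [comp_zero]
      refine Eq.trans (Category.assoc _ _ _).symm ?_
      show ((DerSch.stalkFunctor X x).map (Sigma.ι N j.as) ≫ (DerSch.stalkFunctor X x).map (Sigma.desc f)) ≫ _ = 0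
      rw [← Functor.map_comp, Sigma.ι_desc]
      refine ModuleCat.hom_ext (LinearMap.ext fun a => ?_)
      exact (Submodule.Quotient.mk_eq_zero R).2 (Submodule.mem_iSup_of_mem j.as ⟨a, rfl⟩)
    have h1 := (cancel_epi ((DerSch.stalkFunctor X x).map (Sigma.desc f))).1 (h0.trans comp_zero.symm)
    show R = ⊤
    rw [← Submodule.ker_mkQ R, show R.mkQ = 0 from congrArg ModuleCat.Hom.hom h1, LinearMap.ker_zero]
  have hloc : ∀ x : X, ∃ (W : X.Opens) (n : ℕ) (j : Fin n → J), x ∈ W ∧
      ∀ y ∈ W, Epi ((DerSch.stalkFunctor X y).map (biproduct.desc fun i : Fin n => f (j i))) := by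
    intro x
    obtain ⟨U, hU, hxU, -⟩ := exists_isAffineOpen_mem_and_subset (X := X) (x := x) (U := ⊤) trivial
    obtain ⟨c, t, ht⟩ := Submodule.fg_iff_exists_fin_generating_family.1 (QCoh.finite_of_isFT hM hft hU).fg_top
    have hspan : ∀ y (hy : y ∈ U), Submodule.span (X.presheaf.stalk y)
        (Set.range fun k => M.presheaf.germ U y hy (t k)) = ⊤ := fun y hy => by
      letI := QCoh.stalkAlg (X := X) hy
      letI := QCoh.stalkModule M hy
      haveI := QCoh.isScalarTower_stalk M hy
      haveI := QCoh.isLocalization_stalk' hU hy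
      haveI := QCoh.isLocalizedModule_germLin hM hU hy
      have h1 : Submodule.localized' (X.presheaf.stalk y) (hU.primeIdealOf ⟨y, hy⟩).asIdeal.primeCompl
          (QCoh.germLin M hy) (Submodule.span Γ(X, U) (Set.range t)) = ⊤ := by
        rw [ht, Submodule.localized'_top]
      rw [Submodule.localized'_span, ← Set.range_comp] at h1
      exact h1
    have hs : ∀ k, ∃ s : Finset J, M.presheaf.germ U x hxU (t k) ∈
        ⨆ j ∈ s, LinearMap.range ((DerSch.stalkFunctor X x).map (f j)).hom := fun k =>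
      Submodule.exists_finset_of_mem_iSup _ (by rw [htop x]; trivial)
    choose s hs using hs
    let T := Finset.univ.biUnion s
    let e := T.equivFin
    let j : Fin T.card → J := fun i => (e.symm i).1
    let D := biproduct.desc fun i => f (j i)
    have hle : (⨆ q ∈ T, LinearMap.range ((DerSch.stalkFunctor X x).map (f q)).hom) ≤
        LinearMap.range ((DerSch.stalkFunctor X x).map D).hom := iSup₂_le fun q hq => by
      rintro _ ⟨a, rfl⟩
      obtain ⟨i, hi⟩ : ∃ i, j i = q := ⟨e ⟨q, hq⟩, by simp [j]⟩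
      subst hi
      refine ⟨((DerSch.stalkFunctor X x).map (biproduct.ι (fun i => N (j i)) i)).hom a, ?_⟩
      show ((DerSch.stalkFunctor X x).map (biproduct.ι (fun i => N (j i)) i) ≫ (DerSch.stalkFunctor X x).map D).hom a = _
      rw [← Functor.map_comp, biproduct.ι_desc]
    have hk : ∀ k, ∃ (W : X.Opens) (_ : x ∈ W) (hWU : W ≤ U) (m : Γ(⨁ fun i => N (j i), W)),
        D.app W m = M.presheaf.map (homOfLE hWU).op (t k) := fun k => by
      obtain ⟨a, ha⟩ := hle ((iSup₂_le fun q hq => le_iSup₂_of_le (f := fun q (_ : q ∈ T) =>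
        LinearMap.range ((DerSch.stalkFunctor X x).map (f q)).hom) q
        (Finset.mem_biUnion.2 ⟨k, Finset.mem_univ _, hq⟩) le_rfl) (hs k))
      obtain ⟨V, hxV, m, rfl⟩ := (⨁ fun i => N (j i)).presheaf.exists_germ_eq (x := x) a
      rw [DerSch.stalkFunctor_map_germ] at ha
      obtain ⟨W, hxW, iV, iU, hW⟩ := TopCat.Presheaf.germ_eq _ x hxV hxU _ _ ha
      exact ⟨W, hxW, leOfHom iU, (⨁ fun i => N (j i)).presheaf.map iV.op m,
        (QCoh.map_app_comm D iV m).trans hW⟩
    choose W hxW hWU m hm using hk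
    have hmem : ∀ z : X, z ∈ Finset.univ.inf W ↔ ∀ k, z ∈ W k := fun z => by
      rw [← SetLike.mem_coe, Opens.coe_finset_inf, Finset.inf_set_eq_iInter]
      simp
    refine ⟨U ⊓ Finset.univ.inf W, T.card, j, ⟨hxU, (hmem _).2 hxW⟩, fun y hy => ?_⟩
    refine (ModuleCat.epi_iff_surjective _).2 (LinearMap.range_eq_top.1 (top_le_iff.1
      ((hspan y hy.1).ge.trans (Submodule.span_le.2 ?_))))
    rintro _ ⟨k, rfl⟩
    have hyW : y ∈ W k := (hmem y).1 hy.2 k
    refine ⟨(⨁ fun i => N (j i)).presheaf.germ (W k) y hyW (m k), ?_⟩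
    refine (DerSch.stalkFunctor_map_germ y D (W k) hyW (m k)).trans ?_
    rw [hm k]
    exact M.presheaf.germ_res_apply (homOfLE (hWU k)) y hyW (t k)
  choose W n j hxW hW using hloc
  obtain ⟨S, hS⟩ := isCompact_univ.elim_finite_subcover (fun x => (W x : Set X)) (fun x => (W x).2)
    (fun x _ => Set.mem_iUnion.2 ⟨x, hxW x⟩)
  let e := (Fintype.equivFin (Σ x : S, Fin (n x.1)))
  refine ⟨_, fun i => j (e.symm i).1.1 (e.symm i).2, RegularResolution.epi_of_stalk _ fun y => ?_⟩
  obtain ⟨x, hxS, hy⟩ := Set.mem_iUnion₂.1 (hS (Set.mem_univ y))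
  haveI := hW x y hy
  have hθ : ∀ a : Fin (n x), ∃ θ : N (j x a) ⟶ ⨁ fun i => N (j (e.symm i).1.1 (e.symm i).2),
      θ ≫ biproduct.desc (fun i => f (j (e.symm i).1.1 (e.symm i).2)) = f (j x a) := fun a => by
    have key : ∀ (p p' : Σ x : S, Fin (n x.1)), p = p' →
        ∃ φ : N (j p'.1.1 p'.2) ⟶ N (j p.1.1 p.2), φ ≫ f (j p.1.1 p.2) = f (j p'.1.1 p'.2) := by
      rintro p _ rfl
      exact ⟨𝟙 _, Category.id_comp _⟩
    obtain ⟨φ, hφ⟩ := key _ _ (e.symm_apply_apply ⟨⟨x, hxS⟩, a⟩)
    exact ⟨φ ≫ biproduct.ι (fun i => N (j (e.symm i).1.1 (e.symm i).2)) (e ⟨⟨x, hxS⟩, a⟩),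
      (Category.assoc _ _ _).trans ((congrArg (φ ≫ ·) (biproduct.ι_desc (fun i => f (j (e.symm i).1.1 (e.symm i).2)) _)).trans hφ)⟩
  choose θ hθ using hθ
  refine epi_of_epi_fac (f := (DerSch.stalkFunctor X y).map (biproduct.desc θ))
    (h := (DerSch.stalkFunctor X y).map (biproduct.desc fun a => f (j x a))) ?_
  rw [← Functor.map_comp]
  congr 1
  exact biproduct.hom_ext' _ _ fun a => by rw [biproduct.ι_desc_assoc, hθ, biproduct.ι_desc]

end Groth.Agent.H9Misc.FinSubfamily
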