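import Groth.Agent.H9Misc.QuasiAffineComp
import Groth.Agent.FCov14.QuotEt
import Groth.Agent.FCov14.QuotDiagProp
import Groth.Agent.AlgStLib.Small
import Groth.Agent.AlgStLib.SepDiag
import Groth.Agent.AlgStLib.Diag
import Groth.Agent.AlgStLib.RepDiag
import Groth.Agent.AlgSpDec.LimDescentRep

/-!
# Affine diagonals of quotient stacks
-/

set_option autoImplicit false
set_option linter.style.haveILetI false
set_option backward.isDefEq.respectTransparency false
set_option backward.isDefEq.respectTransparency.types false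

universe u

open CategoryTheory CategoryTheory.Limits MonoidalCategory CartesianMonoidalCategory AlgebraicGeometry AlgSp
open Groth.Agent.AlgSpLib Groth.Agent.AlgStLib Groth.Agent.FibBase Groth.Agent.QuotLib

noncomputable section

namespace Groth.Agent.H9Misc.QuotAffineDiag

variable {S : Scheme.{u}} {G : Over S} [GrpObj G] {X : Over S} {aX : AlgGrp.Action G X}

local notation "K₀" => Scheme.fppfPrecoverage

/-- The structure map of a torsor under an affine group is affine. -/
theorem isAffineMor_π [IsAffineHom G.hom] (A : AlgSt.QuotObj K₀ G aX) {U : Over S} (eU : A.base = U) :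
    IsAffineMor ((yon S).map (A.π ≫ eqToHom eU)) := by
  subst eU
  rw [eqToHom_refl, Category.comp_id]
  obtain ⟨Rv, hR, hsec⟩ := A.loc
  have hcov : ∀ x : ↥A.base.left, ∃ (T' : Scheme.{u}) (f : T' ⟶ A.base.left), Rv f ∧ x ∈ Set.range f := fun x => by
    obtain ⟨Y, g, ⟨hg⟩, hx⟩ := hR.1 x
    exact ⟨_, _, hg, hx⟩
  choose T f hf hx using hcov
  choose s hs using fun x => hsec (f x) (hf x)
  have hs' : ∀ x, s x ≫ A.π.left = f x := hs
  let Ts : ↥A.base.left → Over S := fun x => Over.mk (f x ≫ A.base.hom)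
  let b : ∀ x, Ts x ⟶ A.P := fun x => Over.homMk (s x) (by
    show s x ≫ A.P.hom = f x ≫ A.base.hom
    rw [← Over.w A.π, ← Category.assoc, hs'])
  refine ((isLocalOnBase_fppf_of_fpqc isLocalOnBase_fpqc_isAffineMor) (fun x => (yon S).obj (Ts x))
    (fun x => (yon S).map (b x ≫ A.π)) (IsAlgSpace.yon_obj _) (fun x => IsAlgSpace.yon_obj _)
    (isFppfCover_yon_map Ts (fun x => b x ≫ A.π) (fun x => ?_) (fun x => ?_) (fun x => ⟨x, ?_⟩))
    ((yon S).map A.π) (IsAlgSpace.yon_obj _) (fun x => (yon S).obj (G ⊗ Ts x))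
    (fun x => (yon S).map (snd G (Ts x))) (fun x => (yon S).map ((G ◁ b x) ≫ A.act.act))
    (fun x => IsAlgSpace.yon_obj _)
    (fun x => ((AlgSt.isPullback_whiskerLeft (b x)).paste_horiz A.cart).map (yon S))).2
    fun x => Groth.Agent.AlgSpDec.isAffineMor_of_repWith le_rfl
      ((repWith_yon_map_iff _ _).2 (flat_snd (R := @IsAffineHom) ‹_› (Ts x)))
  · show Flat (s x ≫ A.π.left)
    rw [hs']; exact (hR.2 (hf x)).1
  · show LocallyOfFinitePresentation (s x ≫ A.π.left)
    rw [hs']; exact (hR.2 (hf x)).2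
  · show x ∈ Set.range (s x ≫ A.π.left)
    rw [hs']; exact hx x

theorem diag_isClosedImmersion {F H : Sp S} {b : F ⟶ H} (h : IsAffineMor b) : IsAffineMor (pullback.diagonal b) :=
  Groth.Agent.AlgSpDec.isAffineMor_of_repWith le_rfl (repWith_mono
    (fun _ _ e (_ : IsClosedImmersion e) => (inferInstance : IsAffineHom e)) _
    (Groth.Agent.AlgSpDec.isSeparatedMor_of_repWith_affine (Groth.Agent.AlgSpDec.repWith_isAffineHom_of_isAffineMor h)))

theorem cancels_isAffineMor : Cancels (IsAffineMor (S := S)) IsSeparatedMor := fun _ _ _ _ _ _ a b hab hb =>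
  Groth.Agent.AlgSpDec.isAffineMor_of_repWith le_rfl (Groth.Agent.AlgSpLib.of_comp_of_diagonal (RepWith @IsAffineHom) a b
    (Groth.Agent.AlgSpDec.repWith_isAffineHom_of_isAffineMor hab)
    (repWith_mono (fun _ _ e (_ : IsClosedImmersion e) => (inferInstance : IsAffineHom e)) _ hb))

/-- If the diagonal of the quotient is affine, so is the diagonal of the scheme. -/
theorem isAffineHom_diagonal_of_quot [IsAffineHom G.hom]
    (h : AlgSt.RepByAlgSpWith IsAffineMor (FibCat.diag (FibCat.toSelf (AlgSt.QuotSt K₀ G aX)))) :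
    IsAffineHom (pullback.diagonal X.hom) := by
  obtain ⟨k, hk⟩ : ∃ k : X ⟶ Over.mk (𝟙 S), k.left = X.hom := ⟨Over.homMk X.hom (Category.comp_id _), rfl⟩
  let q : AlgSt.ofSch X ⥤ᵇ AlgSt.QuotSt K₀ G aX :=
    BasedFunctor.comp (AlgSt.toOverCat X) (quotOver K₀ G aX)
  have hz : FibCat.IsFibGrpd (AlgSt.QuotSt K₀ G aX).p := (Groth.Agent.FCov14.Compare.isStack_quotSt).1
  have hX : FibCat.IsFibGrpd (AlgSt.ofSch X).p := Stk.isFibGrpd_ofPsh _
  have hq : AlgSt.RepByAlgSpWith IsAffineMor (quotOver K₀ G aX) :=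
    repByAlgSpWith_quot _ fun A _ eU => isAffineMor_π A eU
  have hq' : AlgSt.RepByAlgSpWith IsAffineMor q :=
    repByAlgSpWith_isAffineMor_comp hX (isFibGrpd_overCat X)
      (repByAlgSpWith_of_isEquivOver (fun φ _ => Groth.Agent.AlgSpDec.isAffineMor_of_repWith le_rfl
        (repWith_of_isIso _ φ)) (isEquivOver_toOverCat X)) hq
  have hdq : AlgSt.RepByAlgSpWith IsAffineMor (FibCat.diag q) :=
    repByAlgSpWith_diag_of_repByAlgSp1 stableBC_isAffineMor (repByAlgSp1_of_repByAlgSpWith hq')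
      fun a _ y e he ha => diag_isClosedImmersion (ha ▸ (RepOver.property_of_stableBC stableBC_isAffineMor (hq' _ y) e he).2)
  have h1 : AlgSt.RepByAlgSpWith IsAffineMor (FibCat.diag (BasedFunctor.comp q (FibCat.toSelf (AlgSt.QuotSt K₀ G aX)))) :=
    repByAlgSpWith_diag_comp stableBC_isAffineMor stableComp_isAffineMor
      (isLocalOnBase_fppf_of_fpqc isLocalOnBase_fpqc_isAffineMor) hX hz hdq h
  rw [comp_toSelf, ← comp_toSelf (AlgSt.ofSpMap ((yon S).map k))] at h1
  have hsep : AlgSt.RepByAlgSpWith IsSeparatedMor (FibCat.diag (FibCat.toSelf (AlgSt.ofSch (Over.mk (𝟙 S))))) :=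
    repByAlgSpWith_diag_of_repByAlgSp1 stableBC_isSeparatedMor
      (repByAlgSp1_toSelf_of_repByAlgSp ⟨⟨(yon S).obj _, IsAlgSpace.yon_obj _⟩, BasedFunctor.id _, isEquivOver_id⟩)
      fun a _ _ _ _ _ => by
        show RepWith @IsClosedImmersion (pullback.diagonal (pullback.diagonal a))
        exact repWith_of_isIso _ _
  have h2 := repBySpWith_diagonal stableBC_isAffineMor ((yon S).map k)
    (repByAlgSpWith_diag_of_comp stableBC_isAffineMor cancels_isAffineMor hsep h1)
  have h3 := (repWith_diagonal_yon_map_iff (P := @IsAffineHom) k).1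
    (Groth.Agent.AlgSpDec.repWith_isAffineHom_of_isAffineMor (isAffineMor_of_repBySpWith _ h2))
  rw [← hk]
  exact h3

theorem diag_of_affine (X : Over S) [IsAffineHom (pullback.diagonal X.hom)] :
    IsAffineMor (Limits.diag ((yon S).obj X)) := by
  obtain ⟨k, hk⟩ : ∃ k : X ⟶ Over.mk (𝟙 S), k.left = X.hom := ⟨Over.homMk X.hom (Category.comp_id _), rfl⟩
  haveI : IsAffineHom (pullback.diagonal k.left) := hk ▸ ‹_›
  have h : ∀ j : (yon S).obj X ⟶ (yon S).obj (Over.mk (𝟙 S)), (yon S).map k = j →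
      RepWith @IsAffineHom (pullback.diagonal j) := fun j e => by
    subst e
    exact (repWith_diagonal_yon_map_iff (P := @IsAffineHom) k).2 inferInstance
  exact Groth.Agent.AlgSpDec.isAffineMor_of_repWith le_rfl ((AlgSpPts.repWith_diag_iff _ _).2
    (h _ ((AlgSpPts.isTerminalYon S).hom_ext _ _)))

theorem iff_affine [IsAffineHom G.hom] :
    AlgSt.RepByAlgSpWith IsAffineMor (FibCat.diag (FibCat.toSelf (AlgSt.QuotSt K₀ G aX))) ↔
      IsAffineHom (pullback.diagonal X.hom) := by
  refine ⟨isAffineHom_diagonal_of_quot, fun hX => ?_⟩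
  refine Groth.Agent.FCov14.Het.repByAlgSpWith_diag Groth.Agent.FCov14.Compare.functor_isEquivOver
    (Groth.Agent.FCov14.QuotDiag.repByAlgSpWith_diag (IsAlgSpace.yon_obj _) (IsAlgSpace.yon_obj G) (IsAlgSpace.yon_obj X)
      stableBC_isAffineMor stableComp_isAffineMor
      (isLocalOnBase_fppf_of_fpqc isLocalOnBase_fpqc_isAffineMor) ?_ (diag_of_affine X))
  obtain ⟨h, hh, e⟩ := Groth.Agent.FCov14.Compare.hom_left_eq (G := G)
  haveI : IsAffineHom h.left := e ▸ ‹_›
  rw [← hh]
  exact Groth.Agent.AlgSpDec.isAffineMor_of_repWith le_rfl ((repWith_yon_map_iff @IsAffineHom h).2 ‹_›)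

end Groth.Agent.H9Misc.QuotAffineDiag
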