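import Mathlib.CategoryTheory.Abelian.GrothendieckCategory.Subobject
import Mathlib.CategoryTheory.Subobject.NoetherianObject
import Mathlib.CategoryTheory.Preadditive.Injective.Basic
import Mathlib

/-! Injective hulls in Grothendieck abelian categories. -/

set_option linter.style.haveILetI false
set_option linter.unusedSectionVars false
set_option backward.isDefEq.respectTransparency false
set_option backward.isDefEq.respectTransparency.types false

universe v u

open CategoryTheory CategoryTheory.Limits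

namespace Groth.Agent.H9Misc.AbHull

variable {C : Type u} [Category.{v} C] [Abelian C]

/-- An essential monomorphism, tested by maps out of the target. -/
def IsEss {B E : C} (i : B ⟶ E) : Prop := ∀ ⦃Z : C⦄ (g : E ⟶ Z), Mono (i ≫ g) → Mono g

theorem mono_of_cancel_zero' {X Y : C} (f : X ⟶ Y) (h : ∀ (P : C) (z : P ⟶ X), z ≫ f = 0 → z = 0) : Mono f :=
  Preadditive.mono_of_cancel_zero f fun g hg => h _ g hg

/-- Two subobjects are disjoint symmetrically. -/
theorem mono_comp_cokernel_symm {A B I : C} (a : A ⟶ I) (b : B ⟶ I) [Mono a] [Mono b]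
    (h : Mono (a ≫ cokernel.π b)) : Mono (b ≫ cokernel.π a) := by
  refine mono_of_cancel_zero' _ fun P z hz => ?_
  rw [← Category.assoc] at hz
  have hl := Abelian.monoLift_comp a (z ≫ b) hz
  have h0 : Abelian.monoLift a (z ≫ b) hz ≫ a ≫ cokernel.π b = 0 := by
    rw [reassoc_of% hl, cokernel.condition, comp_zero]
  exact zero_of_comp_mono b (by
    have h2 := zero_of_comp_mono (a ≫ cokernel.π b) h0
    rw [← hl, h2, zero_comp])

section Chain

variable [IsGrothendieckAbelian.{v} C]

/-- Unions of chains of subobjects, with injectivity tested on the members. -/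
theorem exists_chain_sup {I : C} (c : Set (Subobject I)) (hc : IsChain (· ≤ ·) c) (S₀ : Subobject I) (h₀ : S₀ ∈ c) :
    ∃ T : Subobject I, (∀ S ∈ c, S ≤ T) ∧ ∀ ⦃Z : C⦄ (g : (T : C) ⟶ Z),
      (∀ S ∈ c, ∀ h : S ≤ T, Mono (Subobject.ofLE S T h ≫ g)) → Mono g := by
  obtain ⟨K, ⟨e⟩⟩ : ∃ K : Type v, Nonempty (K ≃ c) := ⟨_, ⟨(equivShrink c).symm⟩⟩
  let S : K → Subobject I := fun k => (e k).1
  letI : Preorder K := Preorder.lift S
  haveI : IsDirectedOrder K := ⟨fun k l => by
    rcases hc.total (e k).2 (e l).2 with h | h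
    · exact ⟨l, h, le_refl _⟩
    · exact ⟨k, le_refl _, h⟩⟩
  haveI : Nonempty K := ⟨e.symm ⟨S₀, h₀⟩⟩
  let F : K ⥤ MonoOver I :=
    { obj := fun k => MonoOver.mk (S k).arrow
      map := fun {k l} f => MonoOver.homMk (Subobject.ofLE (S k) (S l) (show S k ≤ S l from (show k ≤ l from leOfHom f))) (Subobject.ofLE_arrow _)
      map_id := fun _ => Subsingleton.elim _ _
      map_comp := fun _ _ => Subsingleton.elim _ _ }
  haveI hcol : HasColimitsOfShape K C := inferInstance
  let D : K ⥤ C := F ⋙ MonoOver.forget _ ⋙ Over.forget _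
  let f : colimit D ⟶ I := colimit.desc D (Cocone.mk I
    { app := fun k => (S k).arrow
      naturality := fun k l φ => by
        change Subobject.ofLE (S k) (S l) (show S k ≤ S l from (show k ≤ l from leOfHom φ)) ≫ (S l).arrow = (S k).arrow ≫ 𝟙 I
        simp })
  have hf : ∀ k, colimit.ι D k ≫ f = (S k).arrow := fun k => colimit.ι_desc _ _
  haveI : Mono f := IsGrothendieckAbelian.mono_of_isColimit_monoOver F (colimit.isColimit D) f hf
  have hle : ∀ k, S k ≤ Subobject.mk f := fun k => Subobject.le_mk_of_comm (colimit.ι D k) (hf k)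
  have hι : ∀ k, Subobject.ofLE (S k) (Subobject.mk f) (hle k) ≫ (Subobject.underlyingIso f).hom = colimit.ι D k :=
    fun k => by rw [← cancel_mono f, Category.assoc, Subobject.underlyingIso_hom_comp_eq_mk, Subobject.ofLE_arrow, hf]
  refine ⟨Subobject.mk f, fun T hT => by simpa [S] using hle (e.symm ⟨T, hT⟩), fun Z g hg => ?_⟩
  let g' : colimit D ⟶ Z := (Subobject.underlyingIso f).inv ≫ g
  have hm : ∀ k, Mono (colimit.ι D k ≫ g') := fun k => by
    have h1 : colimit.ι D k ≫ g' = Subobject.ofLE (S k) (Subobject.mk f) (hle k) ≫ g := by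
      rw [← hι k]; simp [g']
    rw [h1]
    exact hg _ (e k).2 _
  let G : K ⥤ MonoOver Z :=
    { obj := fun k => haveI := hm k; MonoOver.mk (colimit.ι D k ≫ g')
      map := fun {k l} φ => MonoOver.homMk (D.map φ) (by
        show D.map φ ≫ colimit.ι D l ≫ g' = colimit.ι D k ≫ g'
        rw [colimit.w_assoc])
      map_id := fun _ => Subsingleton.elim _ _
      map_comp := fun _ _ => Subsingleton.elim _ _ }
  let c' : Cocone (G ⋙ MonoOver.forget _ ⋙ Over.forget _) := Cocone.mk (colimit D)
    { app := fun k => colimit.ι D k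
      naturality := fun k l φ => by
        show D.map φ ≫ colimit.ι D l = colimit.ι D k ≫ 𝟙 _
        rw [colimit.w, Category.comp_id] }
  let hc' : IsColimit c' :=
    { desc := fun s => colimit.desc D (Cocone.mk s.pt { app := fun k => s.ι.app k, naturality := fun k l φ => s.ι.naturality φ })
      fac := fun s k => colimit.ι_desc _ _
      uniq := fun s m h => colimit.hom_ext (F := D) fun k => (h k).trans (colimit.ι_desc (F := D) _ k).symm }
  haveI : Mono g' := IsGrothendieckAbelian.mono_of_isColimit_monoOver G hc' g' (fun k => rfl)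
  have : g = (Subobject.underlyingIso f).hom ≫ g' := by simp [g']
  rw [this]
  exact mono_comp _ _

/-- Every subobject of an injective object has a hull inside it. -/
theorem exists_hull {B I : C} (i : B ⟶ I) [Mono i] [Injective I] :
    ∃ (E : C) (b : B ⟶ E) (e : E ⟶ I), b ≫ e = i ∧ Mono e ∧ Mono b ∧ IsEss b ∧ Injective E := by
  let P : Set (Subobject I) := {S | ∃ h : Subobject.mk i ≤ S, IsEss (Subobject.ofMkLE i S h)}
  have hP₀ : Subobject.mk i ∈ P := ⟨le_rfl, fun Z g hg => by
    have : g = (Subobject.underlyingIso i).hom ≫ (Subobject.ofMkLE i (Subobject.mk i) le_rfl ≫ g) := by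
      rw [← Category.assoc, show (Subobject.underlyingIso i).hom ≫ Subobject.ofMkLE i (Subobject.mk i) le_rfl = 𝟙 _ from by
        rw [← cancel_mono (Subobject.mk i).arrow]; simp, Category.id_comp]
    rw [this]
    exact mono_comp _ _⟩
  obtain ⟨Es, hEs0, hEmax⟩ := zorn_le_nonempty₀ P (fun c hcP hc y hy => by
    obtain ⟨T, hT, hTm⟩ := exists_chain_sup c hc y hy
    refine ⟨T, ⟨(hcP hy).1.trans (hT y hy), fun Z g hg => hTm g fun S hS h => ?_⟩, hT⟩
    obtain ⟨hiS, hess⟩ := hcP hS
    refine hess _ ?_
    rw [← Category.assoc, show Subobject.ofMkLE i S hiS ≫ Subobject.ofLE S T h = Subobject.ofMkLE i T ((hcP hy).1.trans (hT y hy)) from by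
      rw [← cancel_mono T.arrow]; simp]
    exact hg) (Subobject.mk i) hP₀
  obtain ⟨hiE, hess⟩ := hEmax.prop
  let b := Subobject.ofMkLE i Es hiE
  have hb : b ≫ Es.arrow = i := Subobject.ofMkLE_arrow hiE
  haveI : Mono b := mono_of_mono_fac hb
  let Q : Set (Subobject I) := {K | Mono (K.arrow ≫ cokernel.π Es.arrow)}
  have hQ₀ : (⊥ : Subobject I) ∈ Q := mono_of_cancel_zero' _ fun P z _ =>
    zero_of_comp_mono (⊥ : Subobject I).arrow (by simp [Subobject.bot_arrow])
  obtain ⟨K, -, hKmax⟩ := zorn_le_nonempty₀ Q (fun c hcQ hc y hy => by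
    obtain ⟨T, hT, hTm⟩ := exists_chain_sup c hc y hy
    refine ⟨T, hTm _ fun S hS h => ?_, hT⟩
    rw [Subobject.ofLE_arrow_assoc]
    exact hcQ hS) ⊥ hQ₀
  haveI := hKmax.prop
  let m := Es.arrow ≫ cokernel.π K.arrow
  haveI hm : Mono m := mono_comp_cokernel_symm K.arrow Es.arrow hKmax.prop
  have hmess : IsEss m := fun Z g hg => by
    let K' := kernelSubobject (cokernel.π K.arrow ≫ g)
    have hle : K ≤ K' := le_kernelSubobject _ _ (by rw [cokernel.condition_assoc, zero_comp])
    have hK' : K' ∈ Q := by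
      refine mono_comp_cokernel_symm Es.arrow K'.arrow ?_
      refine mono_of_cancel_zero' _ fun P z hz => ?_
      rw [← Category.assoc] at hz
      have hl := Abelian.monoLift_comp K'.arrow (z ≫ Es.arrow) hz
      refine zero_of_comp_mono (m ≫ g) ?_
      have h1 := congrArg (fun w => w ≫ cokernel.π K.arrow ≫ g) hl
      simp only [Category.assoc] at h1
      rw [kernelSubobject_arrow_comp, comp_zero] at h1
      simpa [m] using h1.symm
    have heq : K' ≤ K := hKmax.2 hK' hle
    refine mono_of_cancel_zero' _ fun P z hz => ?_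
    have hp : (pullback.fst (cokernel.π K.arrow) z) ≫ cokernel.π K.arrow ≫ g = 0 := by
      rw [pullback.condition_assoc, hz, comp_zero]
    have h2 : pullback.fst (cokernel.π K.arrow) z ≫ cokernel.π K.arrow = 0 := by
      rw [← factorThruKernelSubobject_comp_arrow _ _ hp, ← Subobject.ofLE_arrow heq, Category.assoc, Category.assoc,
        cokernel.condition, comp_zero, comp_zero]
    rw [pullback.condition] at h2
    exact (cancel_epi (pullback.snd (cokernel.π K.arrow) z)).1 (h2.trans comp_zero.symm)
  let ψ := Injective.factorThru Es.arrow m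
  have hψ : m ≫ ψ = Es.arrow := Injective.comp_factorThru _ _
  haveI : Mono ψ := hmess ψ (by rw [hψ]; infer_instance)
  have hle : Es ≤ Subobject.mk ψ := Subobject.le_mk_of_comm m hψ
  have hmem : Subobject.mk ψ ∈ P := by
    refine ⟨hiE.trans hle, fun Z g hg => ?_⟩
    have h1 : Subobject.ofLE Es (Subobject.mk ψ) hle = m ≫ (Subobject.underlyingIso ψ).inv := by
      rw [← cancel_mono (Subobject.mk ψ).arrow]
      simp [hψ]
    have h2 : Mono (Subobject.ofLE Es (Subobject.mk ψ) hle ≫ g) := hess _ (by
      rw [← Category.assoc, show b ≫ Subobject.ofLE Es (Subobject.mk ψ) hle = Subobject.ofMkLE i (Subobject.mk ψ) (hiE.trans hle) from by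
        rw [← cancel_mono (Subobject.mk ψ).arrow]; simp [b]]
      exact hg)
    rw [h1, Category.assoc] at h2
    haveI := hmess _ h2
    rw [show g = (Subobject.underlyingIso ψ).hom ≫ (Subobject.underlyingIso ψ).inv ≫ g from by simp]
    exact mono_comp _ _
  have heq : Subobject.mk ψ ≤ Es := hEmax.2 hmem hle
  let r := Subobject.ofMkLE ψ Es heq
  have hr : m ≫ r = 𝟙 _ := by
    rw [← cancel_mono Es.arrow, Category.assoc, Subobject.ofMkLE_arrow, hψ, Category.id_comp]
  let ret : Retract (Es : C) I :=
    { i := Es.arrow, r := cokernel.π K.arrow ≫ r, retract := by rw [← Category.assoc]; exact hr }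
  exact ⟨Es, b, Es.arrow, hb, inferInstance, inferInstance, hess, ret.injective⟩

end Chain

end Groth.Agent.H9Misc.AbHull
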