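import Groth.Agent.H9Misc.SerreDerived
import Groth.Agent.TriCat.DerivedOfAdjunction
import Mathlib.CategoryTheory.Adjunction.FullyFaithful

/-! An exact left adjoint induces a left adjoint on derived categories. -/

universe w w' v v' u u'

open CategoryTheory Category Limits

namespace Groth.Agent.H9Misc.AdjDescend

section Descend

variable {C D E : Type*} [Category C] [Category D] [Category E] (L : C ⥤ D) (W : MorphismProperty C)
  [L.IsLocalization W] {L' : D ⥤ E} {R : E ⥤ C} (adj : L ⋙ L' ⊣ R)

/-- An adjunction whose left adjoint factors through a localization descends. -/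
noncomputable def descend : L' ⊣ R ⋙ L :=
  let τ : L ⟶ L ⋙ L' ⋙ R ⋙ L :=
    { app := fun X => L.map (adj.unit.app X)
      naturality := fun X Y f => (L.map_comp _ _).symm.trans
        ((congrArg L.map (adj.unit.naturality f)).trans (L.map_comp _ _)) }
  letI : Localization.Lifting L W L (𝟭 D) := ⟨L.rightUnitor⟩
  letI : Localization.Lifting L W (L ⋙ L' ⋙ R ⋙ L) (L' ⋙ R ⋙ L) := ⟨Iso.refl _⟩
  let η : 𝟭 D ⟶ L' ⋙ R ⋙ L := Localization.liftNatTrans L W _ _ _ _ τ
  have hη : ∀ X, η.app (L.obj X) = L.map (adj.unit.app X) := fun X => by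
    refine (Localization.liftNatTrans_app L W _ _ _ _ τ X).trans ?_
    exact (id_comp _).trans (comp_id _)
  { unit := η
    counit := { app := fun Y => adj.counit.app Y, naturality := fun X Y f => adj.counit.naturality f }
    left_triangle_components := fun Y => by
      have := Localization.essSurj L W
      let Φ : L' ⟶ L' :=
        { app := fun Y => L'.map (η.app Y) ≫ adj.counit.app (L'.obj Y)
          naturality := fun Y Y' f => by
            have h₁ := congrArg L'.map (η.naturality f)
            rw [L'.map_comp, L'.map_comp] at h₁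
            exact (assoc _ _ _).symm.trans ((congrArg (· ≫ _) h₁).trans ((assoc _ _ _).trans
              ((congrArg (_ ≫ ·) (adj.counit.naturality (L'.map f))).trans (assoc _ _ _).symm))) }
      have hΦ : Φ = 𝟙 L' := Localization.natTrans_ext L W fun X => by
        show L'.map (η.app (L.obj X)) ≫ _ = 𝟙 _
        rw [hη]
        exact adj.left_triangle_components X
      exact congr_app hΦ Y
    right_triangle_components := fun Y => by
      show η.app (L.obj (R.obj Y)) ≫ L.map (R.map (adj.counit.app Y)) = _
      rw [hη, ← L.map_comp, adj.right_triangle_components]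
      exact L.map_id _ }

lemma descend_counit_app (Y : E) : (descend L W adj).counit.app Y = adj.counit.app Y := rfl

end Descend

variable {A : Type u} [Category.{v} A] [Abelian A] [HasDerivedCategory.{w} A]
  {B : Type u'} [Category.{v'} B] [Abelian B] [HasDerivedCategory.{w'} B]
  {F : A ⥤ B} {G : B ⥤ A} (adj : F ⊣ G) [F.Additive] [G.Additive]
  [PreservesFiniteLimits F] [PreservesFiniteColimits F]
  {RB : DerivedCategory B ⥤ HomotopyCategory B (ComplexShape.up ℤ)} (adjQ : DerivedCategory.Qh ⊣ RB)

/-- The adjunction on derived categories. -/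
noncomputable def derivedAdj :
    F.mapDerivedCategory ⊣ (RB ⋙ G.mapHomotopyCategory (ComplexShape.up ℤ)) ⋙ DerivedCategory.Qh :=
  descend DerivedCategory.Qh (HomotopyCategory.quasiIso A (ComplexShape.up ℤ))
    (((SerreDerived.adjHtpy (ComplexShape.up ℤ) adj).comp adjQ).ofNatIsoLeft F.mapDerivedCategoryFactorsh.symm)

lemma isIso_derivedAdj_counit [IsIso adj.counit] [IsIso adjQ.counit] :
    IsIso (derivedAdj adj adjQ).counit := by
  have hK : ∀ K, IsIso ((SerreDerived.adjHtpy (ComplexShape.up ℤ) adj).counit.app K) := fun K => by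
    let s : (G.mapHomologicalComplex _ ⋙ F.mapHomologicalComplex _).obj K.as ⟶ K.as :=
      { f := fun i => adj.counit.app (K.as.X i)
        comm' := fun i j _ => (adj.counit.naturality (K.as.d i j)).symm }
    have : ∀ i, IsIso (s.f i) := fun i => inferInstanceAs (IsIso (adj.counit.app (K.as.X i)))
    have hs : IsIso s := HomologicalComplex.Hom.isIso_of_components _
    exact ((HomotopyCategory.quotient B _).mapIso (@asIso _ _ _ _ _ hs)).isIso_hom
  have : ∀ Y, IsIso ((derivedAdj adj adjQ).counit.app Y) := fun Y => by
    rw [derivedAdj, descend_counit_app]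
    have := hK (RB.obj Y)
    show IsIso (_ ≫ ((SerreDerived.adjHtpy (ComplexShape.up ℤ) adj).comp adjQ).counit.app Y)
    have : IsIso (((SerreDerived.adjHtpy (ComplexShape.up ℤ) adj).comp adjQ).counit.app Y) := by
      rw [Adjunction.comp_counit_app]; infer_instance
    exact IsIso.comp_isIso' (Iso.isIso_hom (F.mapDerivedCategoryFactorsh.app _)) this
  exact NatIso.isIso_of_isIso_app _

end Groth.Agent.H9Misc.AdjDescend
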