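import Groth.Agent.AmpleVan.RelVanish
import Groth.Agent.AmpleVan.FiniteSurj
import Groth.Agent.AmpleVan.FinGen
import Groth.Agent.AmpleX.Generated
import Groth.Agent.AmpleX.CounitEpi
import Groth.Agent.H28.RegTwist
import Groth.Agent.H23.PullPush
import Groth.Agent.PnCoh.PushNat
import Groth.Agent.ProjCl17.Basic
import Groth.Agent.InvX.Frame

/-!
# Twists of a direct image along an affine base change
-/

set_option autoImplicit false
set_option backward.isDefEq.respectTransparency false
set_option backward.isDefEq.respectTransparency.types false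
set_option linter.style.haveILetI false
set_option linter.unusedSectionVars false
set_option maxHeartbeats 1600000
set_option synthInstance.maxHeartbeats 200000

universe u

open CategoryTheory CategoryTheory.Limits AlgebraicGeometry TopologicalSpace Opposite
open Groth.Agent.H23.PicMul

noncomputable section

namespace Groth.Agent.H9Misc.AffineBCTwist

open Groth.Agent

/-- The structure maps generate a pushout ring. -/
theorem closure_eq_top_of_isPushout {R A B C : CommRingCat.{u}} {f : R ⟶ A} {g : R ⟶ B} {i : A ⟶ C}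
    {j : B ⟶ C} (h : IsPushout f g i j) :
    Subring.closure (Set.range i.hom ∪ Set.range j.hom) = ⊤ := by
  let S := Subring.closure (Set.range i.hom ∪ Set.range j.hom)
  let i' : A ⟶ CommRingCat.of S := CommRingCat.ofHom (i.hom.codRestrict S
    fun a => Subring.subset_closure (Or.inl ⟨a, rfl⟩))
  let j' : B ⟶ CommRingCat.of S := CommRingCat.ofHom (j.hom.codRestrict S
    fun a => Subring.subset_closure (Or.inr ⟨a, rfl⟩))
  let ι : CommRingCat.of S ⟶ C := CommRingCat.ofHom S.subtype
  have hw : f ≫ i' = g ≫ j' := by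
    ext r
    exact ConcreteCategory.congr_hom h.w r
  have hd : h.desc i' j' hw ≫ ι = 𝟙 C := by
    refine h.hom_ext ?_ ?_
    · rw [← Category.assoc, h.inl_desc, Category.comp_id]; rfl
    · rw [← Category.assoc, h.inr_desc, Category.comp_id]; rfl
  refine eq_top_iff.2 fun c _ => ?_
  have := ConcreteCategory.congr_hom hd c
  rw [← show ((h.desc i' j' hw).hom c : C) = c from this]
  exact ((h.desc i' j' hw).hom c).2

/-- Generating sections go to generating sections along an isomorphism. -/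
theorem generated_of_iso {X : Scheme.{u}} {M N : X.Modules} (e : M ≅ N) {ι : Type u} {s : ι → Γ(M, ⊤)}
    (h : ProjUP.GeneratedBy M s) : ProjUP.GeneratedBy N fun i => e.hom.app ⊤ (s i) := fun x => by
  let a : KFlatLib.stalkMod x (DCoh.toP.obj M) ≃ₗ[X.presheaf.stalk x] KFlatLib.stalkMod x (DCoh.toP.obj N) :=
    ((KFlatLib.stalkP x).mapIso (DCoh.toP.mapIso e)).toLinearEquiv
  refine eq_top_iff.2 fun z _ => ?_
  obtain ⟨w, rfl⟩ := a.surjective z
  have hw : w ∈ Submodule.span (X.presheaf.stalk x)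
      (Set.range fun i => KFlatLib.germP (DCoh.toP.obj M) ⊤ (show x ∈ (⊤ : X.Opens) from trivial) (s i)) :=
    (h x).ge trivial
  induction hw using Submodule.span_induction with
  | mem y hy =>
    obtain ⟨i, rfl⟩ := hy
    exact Submodule.subset_span ⟨i, (KFlatLib.stalkModMap_germ (DCoh.toP.map e.hom) ⊤ trivial (s i)).symm⟩
  | zero => rw [map_zero]; exact Submodule.zero_mem _
  | add y z _ _ hy hz => rw [map_add]; exact Submodule.add_mem _ (hy trivial) (hz trivial)
  | smul c y _ hy => rw [map_smul]; exact Submodule.smul_mem _ c (hy trivial)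

variable {X Y X' Y' : Scheme.{u}} (f : X ⟶ Y) (g : Y' ⟶ Y) (g' : X' ⟶ X) (f' : X' ⟶ Y')

/-- The sections on an affine base open span. -/
theorem exists_open [IsProper f] [IsNoetherian Y'] [IsAffineHom g]
    (hsq : IsPullback g' f' f g) {L : X.Modules} (hL : PicF.IsInvertible L) (hamp : RelAmple.IsRelAmple f L)
    {G : X'.Modules} (hG : Coh.IsCoh G) (W : Y.affineOpens) :
    ∃ N : ℕ, ∀ n : ℕ, N ≤ n →
      (∀ q, Subsingleton (Coh.HH (f ⁻¹ᵁ W.1).toScheme (((Coh.push g').obj
        (CohB1.tensorMod G (CohB1.tensorPow ((Scheme.Modules.pullback g').obj L) n))).restrict (f ⁻¹ᵁ W.1).ι) (q + 1))) ∧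
      ∀ {Q : X.Modules}
        (π : (Coh.push g').obj (CohB1.tensorMod G (CohB1.tensorPow ((Scheme.Modules.pullback g').obj L) n)) ⟶ Q),
        (∀ a, π.app (f ⁻¹ᵁ W.1) a = 0) →
        ∀ O : X.Opens, IsAffineOpen O → O ≤ f ⁻¹ᵁ W.1 → ∀ s, π.app O s = 0 := by
  classical
  haveI : IsProper f' := MorphismProperty.of_isPullback (P := @IsProper) hsq ‹_›
  haveI : IsAffineHom g' := MorphismProperty.of_isPullback (P := @IsAffineHom) hsq.flip ‹_›
  haveI : IsLocallyNoetherian X' := LocallyOfFiniteType.isLocallyNoetherian f'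
  let W' : Y'.Opens := g ⁻¹ᵁ W.1
  have hW' : IsAffineOpen W' := W.2.preimage g
  let U : X.Opens := f ⁻¹ᵁ W.1
  let U' : X'.Opens := g' ⁻¹ᵁ U
  have hU' : U' = f' ⁻¹ᵁ W' := by
    show g' ⁻¹ᵁ (f ⁻¹ᵁ W.1) = f' ⁻¹ᵁ (g ⁻¹ᵁ W.1)
    rw [← Scheme.Hom.comp_preimage, ← Scheme.Hom.comp_preimage, hsq.w]
  let L' := (Scheme.Modules.pullback g').obj L
  haveI : IsAffine W'.toScheme := hW'
  haveI : IsNoetherianRing Γ(Y', W') := IsLocallyNoetherian.component_noetherian ⟨W', hW'⟩
  letI : U'.toScheme.Over (Spec (CommRingCat.of Γ(Y', W'))) :=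
    ⟨(X'.isoOfEq hU').hom ≫ (f' ∣_ W') ≫ hW'.isoSpec.hom⟩
  haveI : IsProper (f' ∣_ W') := IsZariskiLocalAtTarget.restrict ‹IsProper f'› W'
  haveI hp : IsProper (U'.toScheme ↘ Spec (CommRingCat.of Γ(Y', W'))) :=
    MorphismProperty.comp_mem @IsProper _ _ inferInstance
      (MorphismProperty.comp_mem @IsProper _ _ ‹_› inferInstance)
  haveI : CompactSpace U'.toScheme := QuasiCompact.compactSpace_of_compactSpace
    (U'.toScheme ↘ Spec (CommRingCat.of Γ(Y', W')))
  haveI : U'.toScheme.IsSeparated := ⟨by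
    rw [show terminal.from U'.toScheme = (U'.toScheme ↘ Spec (CommRingCat.of Γ(Y', W'))) ≫ terminal.from _ from
      terminal.hom_ext _ _]
    infer_instance⟩
  haveI : IsAffineHom (g' ∣_ U) := IsZariskiLocalAtTarget.restrict ‹IsAffineHom g'› U
  have hA : CohB1.IsAmple (L'.restrict U'.ι) :=
    AmpleX.isAmple_of_iso
      ((Scheme.Modules.pullback (g' ∣_ U)).mapIso ((Scheme.Modules.restrictFunctorIsoPullback U.ι).app L) ≪≫
        (Scheme.Modules.pullbackComp (g' ∣_ U) U.ι).app _ ≪≫
        (Scheme.Modules.pullbackCongr (morphismRestrict_ι g' U)).app _ ≪≫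
        ((Scheme.Modules.pullbackComp U'.ι g').app _).symm ≪≫
        ((Scheme.Modules.restrictFunctorIsoPullback U'.ι).app _).symm)
      (H28.RegTwist.isAmple_pull (g' ∣_ U) (hamp.2 W))
  have hGU : Coh.IsCoh (G.restrict U'.ι) := QCoh.isCoh_restrict_open hG
  obtain ⟨N₁, h₁⟩ := AmpleVan.exists_vanishing (A := Γ(Y', W')) hA hGU
  obtain ⟨N₂, h₂⟩ := AmpleX.eventually_generated_finite hA hGU.1 hGU.2
  refine ⟨N₁ + N₂, fun n hn => ?_⟩
  obtain ⟨r⟩ := AmpleVan.RelVanish.restrict_iso U'.ι L' G n
  let Gn := CohB1.tensorMod G (CohB1.tensorPow L' n)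
  have hGn : Coh.IsQCoh Gn := KFlatLib.isQCoh_tensor hG.1 (ProjUPX.isQCoh_of_isInvertible
    (InvX.isInvertible_tensorPow (PicClLib.isInvertible_pullback g' hL) n))
  refine ⟨fun q => ?_, fun {Q} π hπ O hO hOU => ?_⟩
  · letI : U.toScheme.Over (Spec (CommRingCat.of Γ(Y, W.1))) := ⟨(f ∣_ W.1) ≫ W.2.isoSpec.hom⟩
    letI : U'.toScheme.Over (Spec (CommRingCat.of Γ(Y, W.1))) := ⟨(g' ∣_ U) ≫ (f ∣_ W.1) ≫ W.2.isoSpec.hom⟩
    obtain ⟨el⟩ := PnCoh.exists_linearEquiv_push Γ(Y, W.1) (g' ∣_ U) rfl
      (QCoh.isQCoh_restrict U'.ι hGn) (q + 1)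
    haveI := QCoh.subsingleton_HH_of_iso r.symm _ (h₁ n (by omega) q)
    exact QCoh.subsingleton_HH_of_iso
      (@asIso _ _ _ _ _ (H23.PullPush.isIso_pushRestrict_app g' U Gn)).symm _ el.symm.toEquiv.subsingleton
  · obtain ⟨G₀, iso₀, κ, _, s₀, hs₀⟩ := h₂ n (by omega)
    let e : G₀ ≅ Gn.restrict U'.ι := iso₀ ≪≫ r.symm
    let t : κ → Γ(Gn.restrict U'.ι, (⊤ : U'.toScheme.Opens)) := fun k => e.hom.app ⊤ (s₀ k)
    have ht : ProjUP.GeneratedBy (Gn.restrict U'.ι) t := generated_of_iso e hs₀
    let a : κ → Γ(Gn, U') := fun k => AModX.res Gn U'.ι_image_top.ge (t k)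
    have hspan : ∀ (O' : X'.Opens), IsAffineOpen O' → ∀ (hle : O' ≤ U') (s : Γ(Gn, O')),
        s ∈ Submodule.span Γ(X', O') (Set.range fun k => AModX.res Gn hle (a k)) := by
      intro O' hO' hle
      obtain ⟨O'', rfl⟩ : ∃ O'' : U'.toScheme.Opens, U'.ι ''ᵁ O'' = O' :=
        ⟨U'.ι ⁻¹ᵁ O', by rw [Scheme.Hom.image_preimage_eq_opensRange_inf, Scheme.Opens.opensRange_ι, inf_eq_right.2 hle]⟩
      have hO'' : IsAffineOpen O'' := (U'.ι.isAffineOpen_iff_of_isOpenImmersion).1 hO'
      have h := AmpleVan.span_eq_top_of_germs (F := Gn.restrict U'.ι) (QCoh.isQCoh_restrict U'.ι hGn) hO''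
        (fun k => AModX.res (Gn.restrict U'.ι) (le_top : O'' ≤ ⊤) (t k)) fun x hx => by
          rw [← ht x]
          refine congrArg (Submodule.span _) (congrArg Set.range (funext fun k => ?_))
          exact InvX.germ_res' le_top hx (t k)
      have key : ∀ y : Γ(Gn.restrict U'.ι, O''), y ∈ Submodule.span Γ(U'.toScheme, O'')
          (Set.range fun k => AModX.res (Gn.restrict U'.ι) (le_top : O'' ≤ ⊤) (t k)) →
          (show Γ(Gn, U'.ι ''ᵁ O'') from y) ∈
            Submodule.span Γ(X', U'.ι ''ᵁ O'') (Set.range fun k => AModX.res Gn hle (a k)) := by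
        intro y hy
        induction hy using Submodule.span_induction with
        | mem y hy =>
          obtain ⟨k, rfl⟩ := hy
          refine Submodule.subset_span ⟨k, ?_⟩
          show AModX.res Gn hle (AModX.res Gn U'.ι_image_top.ge (t k)) = _
          rw [AModX.res_res]
          rfl
        | zero => exact Submodule.zero_mem _
        | add y z _ _ hy hz => exact Submodule.add_mem _ hy hz
        | smul c y _ hy => exact Submodule.smul_mem _ ((U'.ι.appIso O'').inv c) hy
      exact fun s => key s (h ▸ trivial)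
    have hOW : g' ⁻¹ᵁ O ≤ f' ⁻¹ᵁ W' := hU' ▸ (fun x hx => hOU hx)
    have hpo := (isIso_pushoutSection_iff hsq (US := W.1) (UT := W') (UX := O) le_rfl hOU
      (UY := g' ⁻¹ᵁ O) (inf_eq_left.2 hOW).symm).1
      (isIso_pushoutSection_of_isAffineOpen hsq le_rfl hOU _ W.2 hW' hO)
    have hO' : IsAffineOpen (g' ⁻¹ᵁ O) := hO.preimage g'
    have hle : g' ⁻¹ᵁ O ≤ U' := fun x hx => hOU hx
    have base : ∀ (c : Γ(X', U')) (k : κ),
        π.app O (AModX.resR hle c • AModX.res Gn hle (a k)) = 0 := fun c k => by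
      rw [← AModX.res_smul]
      refine (AModX.app_res π hOU (show Γ((Coh.push g').obj Gn, U) from c • a k)).trans ?_
      rw [hπ, map_zero]
    have step : ∀ (c : Γ(X', g' ⁻¹ᵁ O)) (y : Γ(Gn, g' ⁻¹ᵁ O)),
        (∀ d : Γ(X', U'), π.app O (AModX.resR hle d • y) = 0) →
        ∀ d : Γ(X', U'), π.app O (AModX.resR hle d • c • y) = 0 := by
      intro c
      have hc : c ∈ Subring.closure (Set.range (g'.appLE O (g' ⁻¹ᵁ O) le_rfl).hom ∪
          Set.range (f'.appLE W' (g' ⁻¹ᵁ O) hOW).hom) := by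
        rw [closure_eq_top_of_isPushout hpo]; trivial
      induction hc using Subring.closure_induction with
      | mem c hc =>
        intro y hy d
        rcases hc with ⟨o, rfl⟩ | ⟨b, rfl⟩
        · rw [smul_comm]
          refine Eq.trans ?_ (show o • π.app O (show Γ((Coh.push g').obj Gn, O) from AModX.resR hle d • y) = 0 by
            rw [hy d, smul_zero])
          refine Eq.trans ?_ (Scheme.Modules.Hom.app_smul π o
            (show Γ((Coh.push g').obj Gn, O) from AModX.resR hle d • y))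
          rw [← Scheme.Hom.app_eq_appLE]
          rfl
        · have hb : (f'.appLE W' (g' ⁻¹ᵁ O) hOW).hom b = AModX.resR hle (f'.appLE W' U' hU'.le b) :=
            (ConcreteCategory.congr_hom (f'.appLE_map hU'.le (homOfLE hle).op) b).symm
          rw [hb, ← mul_smul, ← map_mul]
          exact hy _
      | zero => intro y hy d; rw [zero_smul, smul_zero, map_zero]
      | one => intro y hy d; rw [one_smul]; exact hy d
      | add c c' _ _ h h' => intro y hy d; rw [add_smul, smul_add, map_add, h y hy d, h' y hy d, add_zero]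
      | neg c _ h => intro y hy d; rw [neg_smul, smul_neg, map_neg, h y hy d, neg_zero]
      | mul c c' _ _ h h' => intro y hy d; rw [mul_smul]; exact h _ (fun d' => h' y hy d') d
    intro s
    have hs := hspan _ hO' hle s
    have key : ∀ d : Γ(X', U'), π.app O (AModX.resR hle d • (show Γ(Gn, g' ⁻¹ᵁ O) from s)) = 0 := by
      induction hs using Submodule.span_induction with
      | mem y hy => obtain ⟨k, rfl⟩ := hy; exact fun d => base d k
      | zero => intro d; rw [smul_zero, map_zero]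
      | add y z _ _ hy hz => intro d; rw [smul_add, map_add, hy d, hz d, add_zero]
      | smul c y _ hy => exact step c y hy
    have := key 1
    rwa [map_one, one_smul] at this

theorem exists_vanish_and_epi [AlgebraicGeometry.IsNoetherian Y] [IsProper f] [IsAffineHom g]
    [LocallyOfFiniteType g] (hsq : IsPullback g' f' f g) {L : X.Modules} (hL : PicF.IsInvertible L)
    (hamp : RelAmple.IsRelAmple f L) {G : X'.Modules} (hG : Coh.IsCoh G) :
    ∃ N : ℕ, ∀ n : ℕ, N ≤ n →
      (∀ p : ℕ, 0 < p →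
        IsZero ((Coh.RpushAb f p).obj (Coh.toAb (CohB1.tensorMod ((Coh.push g').obj G) (CohB1.tensorPow L n))))) ∧
      Epi ((Scheme.Modules.pullbackPushforwardAdjunction f).counit.app
        (CohB1.tensorMod ((Coh.push g').obj G) (CohB1.tensorPow L n))) := by
  classical
  haveI : IsLocallyNoetherian Y' := LocallyOfFiniteType.isLocallyNoetherian g
  haveI : CompactSpace Y' := QuasiCompact.compactSpace_of_compactSpace g
  haveI : IsNoetherian Y' := {}
  haveI : IsAffineHom g' := MorphismProperty.of_isPullback (P := @IsAffineHom) hsq.flip ‹_›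
  obtain ⟨B, hBfin, hBT⟩ := isCompact_iff_finite_and_eq_biUnion_affineOpens.mp
    (show IsCompact ((⊤ : Y.Opens) : Set Y) by simpa using isCompact_univ)
  have hcov : ∀ y : Y, ∃ W ∈ B, y ∈ (W : Y.affineOpens).1 := fun y => by
    have hy : y ∈ (⊤ : Y.Opens) := trivial
    rw [hBT] at hy
    simpa using hy
  choose N hN using exists_open f g g' f' hsq hL hamp hG
  refine ⟨hBfin.toFinset.sup N, fun n hn => ?_⟩
  have hle : ∀ W ∈ B, N W ≤ n := fun W hW => (Finset.le_sup (hBfin.mem_toFinset.2 hW)).trans hn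
  let L' := (Scheme.Modules.pullback g').obj L
  let P := (Coh.push g').obj (CohB1.tensorMod G (CohB1.tensorPow L' n))
  obtain ⟨e⟩ : Nonempty (P ≅ CohB1.tensorMod ((Coh.push g').obj G) (CohB1.tensorPow L n)) := by
    obtain ⟨p⟩ := AmpleVan.FiniteSurj.nonempty_push_twist g' G (InvX.isInvertible_tensorPow hL n)
    obtain ⟨t⟩ := AmpleVan.RelVanish.pullback_tensorPow g' L n
    obtain ⟨t'⟩ := AmpleVan.RelVanish.tensor_congr (Iso.refl G) t
    exact ⟨(Scheme.Modules.pushforward g').mapIso t'.symm ≪≫ p.symm⟩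
  have hP : Coh.IsQCoh P := QCoh.isQCoh_pushforward g' (KFlatLib.isQCoh_tensor hG.1
    (ProjUPX.isQCoh_of_isInvertible (InvX.isInvertible_tensorPow (PicClLib.isInvertible_pullback g' hL) n)))
  refine ⟨fun p hp => ?_, ?_⟩
  · exact (AmpleVan.RelVanish.isZero_RpushAb_of_cover f hP B hcov (fun W hW q => (hN W n (hle W hW)).1 q) p hp).of_iso
      ((Coh.RpushAb f p).mapIso ((QCoh.toAbFunctor X).mapIso e.symm))
  · let adj := Scheme.Modules.pullbackPushforwardAdjunction f
    haveI : Epi (adj.counit.app P) := by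
      refine Preadditive.epi_of_cancel_zero _ fun {Q} π hπ => ?_
      have hπ' : (Scheme.Modules.pushforward f).map π = 0 := by
        have h0 := congrArg (adj.homEquiv _ _) hπ
        rw [Adjunction.homEquiv_unit, Adjunction.homEquiv_unit, Functor.map_comp,
          Adjunction.right_triangle_components_assoc] at h0
        rw [h0]
        have h1 : (Scheme.Modules.pushforward f).map
            (0 : (Scheme.Modules.pullback f).obj ((Scheme.Modules.pushforward f).obj P) ⟶ Q) = 0 := by
          refine Scheme.Modules.hom_ext _ _ fun V'' => ?_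
          rfl
        rw [h1]
        exact Limits.comp_zero
      refine Scheme.Modules.hom_ext _ _ fun V => ?_
      ext s
      refine AModX.eq_of_locally _ _ fun x hx => ?_
      obtain ⟨W, hW, hxW⟩ := hcov (f x)
      obtain ⟨_, ⟨O, hO, rfl⟩, hxO, hOV⟩ :=
        X.isBasis_affineOpens.exists_subset_of_mem_open (a := x) (show x ∈ f ⁻¹ᵁ W.1 ⊓ V from ⟨hxW, hx⟩)
          (f ⁻¹ᵁ W.1 ⊓ V).2
      have hOV' : O ≤ V := fun z hz => (hOV hz).2
      refine ⟨O, hOV', hxO, ?_⟩
      have h0 := (hN W n (hle W hW)).2 (Q := Q) π (fun a => by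
        show ((Scheme.Modules.pushforward f).map π).app W.1 a = 0
        rw [hπ']
        rfl) O hO (fun z hz => (hOV hz).1) (AModX.res P hOV' s)
      refine ((AModX.app_res π hOV' s).symm.trans h0).trans ?_
      exact (map_zero (AModX.res Q hOV')).symm
    have hnat := adj.counit.naturality e.hom
    haveI : Epi (adj.counit.app P ≫ (𝟭 X.Modules).map e.hom) := by
      rw [Functor.id_map]; infer_instance
    exact @epi_of_epi _ _ _ _ _ ((Scheme.Modules.pushforward f ⋙ Scheme.Modules.pullback f).map e.hom) _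
      (by rw [hnat]; infer_instance)

end Groth.Agent.H9Misc.AffineBCTwist
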