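import Groth.Agent.KFlatLib.Scheme.AffinePush
import Groth.Agent.KFlatLib.Scheme.Adjoint
import Groth.Agent.KFlatLib.Scheme.RpushQCoh
import Groth.Agent.QCoh.Local
import Groth.Agent.KFlatLib.Scheme.ProjLocFree

/-! Direct images along affine morphisms are acyclic. -/

set_option linter.style.haveILetI false
set_option backward.isDefEq.respectTransparency false

universe u

open CategoryTheory CategoryTheory.Limits AlgebraicGeometry

attribute [local instance] HasDerivedCategory.standard

namespace Groth.Agent.H9Misc.AffineHomAcyclic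

open KFlatLib

variable {X Y Z : Scheme.{u}}

/-- For an affine morphism `Rg_* M = g_* M`. -/
theorem nonempty_rpush_inD_iso (g : X ⟶ Y) [IsAffineHom g] [DCoh.HasRpush g] {M : X.Modules}
    (hM : Coh.IsQCoh M) :
    Nonempty ((DCoh.Rpush g).obj (DCoh.inD X M) ≅ DCoh.inD Y ((Scheme.Modules.pushforward g).obj M)) := by
  let F := (HomologicalComplex.single X.Modules (ComplexShape.up ℤ) 0).obj M
  have hq : ∀ n, Coh.IsQCoh (F.X n) := fun n => by
    rcases eq_or_ne n 0 with rfl | hn
    · exact isQCoh_of_iso (HomologicalComplex.singleObjXSelf (ComplexShape.up ℤ) 0 M) hM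
    · exact isQCoh_of_isZero (HomologicalComplex.isZero_single_obj_X (ComplexShape.up ℤ) 0 M n hn)
  haveI := isIso_unit_of_isAffineHom g F hq
  let e₁ : DerivedCategory.Qh.obj ((HomotopyCategory.quotient _ _).obj F) ≅ DCoh.inD X M :=
    (DerivedCategory.quotientCompQhIso X.Modules).app F ≪≫
      (((SingleFunctors.evaluation _ _ 0).mapIso
        (DerivedCategory.singleFunctorsPostcompQIso X.Modules)).app M).symm
  let α := asIso (((DCoh.pushKh g).totalRightDerivedUnit DerivedCategory.Qh
      (HomotopyCategory.quasiIso X.Modules (ComplexShape.up ℤ))).app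
        ((HomotopyCategory.quotient X.Modules (ComplexShape.up ℤ)).obj F))
  let e₂ := DerivedCategory.Qh.mapIso (((Scheme.Modules.pushforward g).mapHomotopyCategoryFactors
      (ComplexShape.up ℤ)).app F) ≪≫ (DerivedCategory.quotientCompQhIso Y.Modules).app
        (((Scheme.Modules.pushforward g).mapHomologicalComplex (ComplexShape.up ℤ)).obj F)
  let e₃ : DerivedCategory.Q.obj (((Scheme.Modules.pushforward g).mapHomologicalComplex (ComplexShape.up ℤ)).obj F) ≅
      DCoh.inD Y ((Scheme.Modules.pushforward g).obj M) :=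
    DerivedCategory.Q.mapIso ((HomologicalComplex.singleMapHomologicalComplex (Scheme.Modules.pushforward g)
      (ComplexShape.up ℤ) 0).app M) ≪≫
      (((SingleFunctors.evaluation _ _ 0).mapIso
        (DerivedCategory.singleFunctorsPostcompQIso Y.Modules)).app _).symm
  exact ⟨(DCoh.Rpush g).mapIso e₁.symm ≪≫ α.symm ≪≫ e₂ ≪≫ e₃⟩

/-- `R^j f_*` kills direct images along affine morphisms whose composite with `f` is affine. -/
theorem isZero_rpush_pushforward (g : X ⟶ Y) (f : Y ⟶ Z) [IsAffineHom g] [IsAffineHom (g ≫ f)]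
    [HasInjectiveResolutions Y.Modules] {M : X.Modules} (hM : Coh.IsQCoh M) (j : ℕ) (hj : 0 < j) :
    IsZero ((Coh.Rpush f j).obj ((Scheme.Modules.pushforward g).obj M)) := by
  haveI := hasRpush_scheme g
  haveI := hasRpush_scheme f
  haveI := hasRpush_scheme (g ≫ f)
  obtain ⟨c⟩ := nonempty_rpush_comp g f
  obtain ⟨e₁⟩ := nonempty_rpush_inD_iso g hM
  obtain ⟨e₂⟩ := nonempty_rpush_inD_iso (g ≫ f) hM
  obtain ⟨e₃⟩ := nonempty_hd_rpush_single f ((Scheme.Modules.pushforward g).obj M) j
  haveI : (DCoh.inD Z ((Scheme.Modules.pushforward (g ≫ f)).obj M)).IsLE 0 := inferInstance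
  refine IsZero.of_iso ?_ (e₃.symm ≪≫ (DerivedCategory.homologyFunctor Z.Modules (j : ℤ)).mapIso
    ((DCoh.Rpush f).mapIso e₁.symm ≪≫ c.app (DCoh.inD X M) ≪≫ e₂))
  exact DerivedCategory.isZero_of_isLE _ 0 (j : ℤ) (by omega)

end Groth.Agent.H9Misc.AffineHomAcyclic
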