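import Groth.Agent.H9Misc.TildeSky
import Groth.Agent.H23.SkyPoint
import Groth.Agent.H23.UnitSec
import Groth.Agent.KFlatLib.Scheme.Exact
import Groth.Agent.Lib.NegVanClosed
import Groth.Agent.KFlatLib.Perfect.Betti
import Mathlib.AlgebraicGeometry.ResidueField

/-! The structure sheaf of a closed point as a skyscraper. -/

set_option linter.style.haveILetI false
set_option linter.unusedSectionVars false
set_option backward.isDefEq.respectTransparency false
set_option backward.isDefEq.respectTransparency.types false
set_option maxHeartbeats 800000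

universe u

open CategoryTheory CategoryTheory.Limits AlgebraicGeometry TopologicalSpace IsLocalRing

noncomputable section

namespace Groth.Agent.H9Misc.SkyPush

open Groth.Agent KFlatLib

variable {X : Scheme.{u}}

theorem stalk_toSky (M : X.Modules) (x : X) :
    (DerSch.stalkFunctor X x).map (TildeSky.toSky M x) ≫
      (skyStalkIso x).hom.app ((DerSch.stalkFunctor X x).obj M) = 𝟙 _ := by
  refine ModuleCat.hom_ext (LinearMap.ext fun z => ?_)
  obtain ⟨U, hU, s, rfl⟩ := TopCat.Presheaf.exists_germ_eq M.presheaf z
  refine (congrArg (fun z => (skyStalkIso x).hom.app ((DerSch.stalkFunctor X x).obj M) z)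
    (TopCat.Presheaf.stalkFunctor_map_germ_apply (F := M.presheaf)
      (G := ((sky x).obj ((DerSch.stalkFunctor X x).obj M)).presheaf) U x hU (TildeSky.toSky M x).mapPresheaf s)).trans ?_
  show skyEval x _ ((stalkToPIso x).hom.app ((sky x).obj _) (((sky x).obj _).presheaf.germ U x hU _)) = _
  refine (skyEval_germ x _ U hU _).trans ?_
  rfl

theorem isIso_toSky (M : X.Modules) (x : X) (hx : IsClosed ({x} : Set X))
    (hM : ∀ y, y ≠ x → Subsingleton (M.presheaf.stalk y)) : IsIso (TildeSky.toSky M x) := by
  refine isIso_of_stalk _ fun y => ?_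
  by_cases hy : y = x
  · subst hy
    haveI : IsIso ((DerSch.stalkFunctor X y).map (TildeSky.toSky M y) ≫
        (skyStalkIso y).hom.app ((DerSch.stalkFunctor X y).obj M)) := by
      rw [stalk_toSky]; infer_instance
    exact IsIso.of_isIso_comp_right _ ((skyStalkIso y).hom.app ((DerSch.stalkFunctor X y).obj M))
  · haveI := hM y hy
    haveI := H23.SkyPoint.subsingleton_stalk_sky (ξ := x) (N := (DerSch.stalkFunctor X x).obj M) (x := y)
      fun h => hy (Set.mem_singleton_iff.1 (h.mem_closed hx rfl))
    exact (ConcreteCategory.isIso_iff_bijective _).2 ⟨fun a b _ => Subsingleton.elim (α := M.presheaf.stalk y) a b,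
      fun b => ⟨0, Subsingleton.elim (α := ((sky x).obj ((DerSch.stalkFunctor X x).obj M)).presheaf.stalk y) _ _⟩⟩

/-- `O_x` is the skyscraper of the residue field. -/
theorem nonempty_push_iso (x : X) (hx : IsClosed ({x} : Set X)) :
    Nonempty ((Coh.push (X.fromSpecResidueField x)).obj (Coh.structureModule _) ≅
      (sky x).obj (ModuleCat.of (X.presheaf.stalk x) (X.presheaf.stalk x ⧸ maximalIdeal (X.presheaf.stalk x)))) := by
  let ι := X.fromSpecResidueField x
  haveI : IsClosedImmersion ι := isClosed_singleton_iff_isClosedImmersion.mp hx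
  let S : Scheme.{u} := Spec (X.residueField x)
  let O := Coh.structureModule S
  let P := (Coh.push ι).obj O
  have hM : ∀ y, y ≠ x → Subsingleton (P.presheaf.stalk y) := fun y hy =>
    H23.ClosedPushLen.subsingleton_stalk ι O (by
      rintro ⟨z, hz⟩
      exact hy (hz.symm.trans (X.fromSpecResidueField_apply x z)))
  haveI := isIso_toSky P x hx hM
  let z : S := default
  suffices h : Nonempty ((DerSch.stalkFunctor X x).obj P ≅
      ModuleCat.of (X.presheaf.stalk x) (X.presheaf.stalk x ⧸ maximalIdeal (X.presheaf.stalk x))) by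
    obtain ⟨h⟩ := h
    exact ⟨asIso (TildeSky.toSky P x) ≪≫ (sky x).mapIso h⟩
  have key : ∀ y, ι z = y → Nonempty ((DerSch.stalkFunctor X y).obj P ≅
      ModuleCat.of (X.presheaf.stalk y) (X.presheaf.stalk y ⧸ maximalIdeal (X.presheaf.stalk y))) := by
    rintro _ rfl
    letI : Module (X.presheaf.stalk (ι z)) (O.presheaf.stalk z) := Module.compHom _ (ι.stalkMap z).hom
    obtain ⟨e⟩ := NegVanClosed.nonempty_stalk_push_equiv ι O z
    let l : X.presheaf.stalk (ι z) →ₗ[X.presheaf.stalk (ι z)] O.presheaf.stalk z :=
      LinearMap.toSpanSingleton _ _ (H23.UnitSec.one z)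
    have hl : Function.Surjective l := fun m => by
      obtain ⟨a, ha⟩ := Submodule.mem_span_singleton.1 ((H23.UnitSec.span_one z).ge (Submodule.mem_top (x := m)))
      obtain ⟨r, rfl⟩ := ι.stalkMap_surjective z a
      exact ⟨r, ha⟩
    have hker : LinearMap.ker l = maximalIdeal (X.presheaf.stalk (ι z)) := by
      ext r
      have hfield : IsField (S.presheaf.stalk z) := by
        exact KFlatLib.isField_stalk_spec _ z
      letI := hfield.toField
      constructor
      · intro hr
        have h0 : (ι.stalkMap z).hom r = 0 := H23.UnitSec.eq_zero_of_smul_one _ hr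
        exact fun hu => (hu.map (ι.stalkMap z).hom).ne_zero h0
      · intro hr
        have h0 : (ι.stalkMap z).hom r = 0 := by
          by_contra hne
          exact hr ((isUnit_map_iff (ι.stalkMap z).hom r).1 (isUnit_iff_ne_zero.2 hne))
        show (ι.stalkMap z).hom r • H23.UnitSec.one z = 0
        rw [h0, zero_smul]
    exact ⟨(e ≪≫ₗ ((Submodule.quotEquivOfEq _ _ hker.symm).trans (l.quotKerEquivOfSurjective hl)).symm).toModuleIso⟩
  exact key x (X.fromSpecResidueField_apply x z)

end Groth.Agent.H9Misc.SkyPush
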