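import Groth.Agent.H9Misc.KillDer
import Groth.Agent.H9Misc.SkyPush
import Groth.Agent.H9Misc.TelLocal
import Groth.Agent.H9Misc.QCohHull
import Groth.Agent.KFlatLib.Scheme.TildeD
import Groth.Agent.QCoh.SpecFT
import Groth.Agent.KFlatLib.Perfect.Basic
import Groth.Agent.SiteBase.RpushD.Devissage
import Groth.Agent.QCoh.DevissageP

/-! Complexes orthogonal to a closed point vanish there. -/

set_option linter.style.haveILetI false
set_option linter.unusedSectionVars false
set_option backward.isDefEq.respectTransparency false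
set_option backward.isDefEq.respectTransparency.types false
set_option maxHeartbeats 800000

universe u

open CategoryTheory CategoryTheory.Limits AlgebraicGeometry TopologicalSpace Opposite

attribute [local instance] HasDerivedCategory.standard

noncomputable section

namespace Groth.Agent.H9Misc.AffinePoint

open Groth.Agent KFlatLib

/-- Vanishing at a closed point. -/
theorem notMem_support_of_hom_eq_zero {X : Scheme.{u}} [IsLocallyNoetherian X] (x : X)
    (hx : IsClosed ({x} : Set X)) (K : DCoh.D X) (hK : DCoh.IsCohD K) (c : ℤ) [DerivedCategory.IsGE K c]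
    (h : ∀ (i : ℤ) (φ : DCoh.inD X ((Coh.push (X.fromSpecResidueField x)).obj (Coh.structureModule _)) ⟶
      (shiftFunctor (DCoh.D X) i).obj K), φ = 0) (i : ℤ) : x ∉ CohB1.support (DCoh.HD K i) := by
  obtain ⟨V, hV, hxV⟩ := QCoh.exists_affine_mem x
  let R := Γ(X, V)
  haveI : IsNoetherianRing R := IsLocallyNoetherian.component_noetherian ⟨V, hV⟩
  let j : Spec R ⟶ X := hV.fromSpec
  obtain ⟨p, hp⟩ : x ∈ Set.range j := hV.range_fromSpec.ge hxV
  let L := Scheme.Modules.restrictFunctor j
  haveI : L.Additive := Functor.additive_of_preserves_binary_products _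
  haveI : p.asIdeal.IsMaximal := (PrimeSpectrum.isClosed_singleton_iff_isMaximal p).1 (by
    have : ({p} : Set (Spec R)) = j ⁻¹' {x} := by
      ext q
      exact ⟨fun hq => by rw [Set.mem_singleton_iff.1 hq]; exact hp,
        fun hq => j.isOpenEmbedding.injective ((Set.mem_singleton_iff.1 hq).trans hp.symm)⟩
    show IsClosed ({p} : Set (Spec R))
    rw [this]
    exact hx.preimage j.continuous)
  let P := (Coh.push (X.fromSpecResidueField x)).obj (Coh.structureModule _)
  let ι := X.fromSpecResidueField x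
  haveI : IsClosedImmersion ι := isClosed_singleton_iff_isClosedImmersion.mp hx
  -- the residue field as a module
  let N : ModuleCat.{u} R := (moduleSpecΓFunctor (R := R)).obj (L.obj P)
  have hPq : Coh.IsQCoh (L.obj P) := QCoh.isQCoh_restrict j
    (QCoh.isQCoh_pushforward ι (CurveDeg.isCoh_of_isInvertible InvX.isInvertible_structureModule).1)
  haveI := (isQuasicoherent_iff_isIso_fromTildeΓ (L.obj P)).1 hPq
  let eN : tilde N ≅ L.obj P := asIso (L.obj P).fromTildeΓ
  have hN : ∀ a ∈ p.asIdeal, ∀ n : N, a • n = 0 := by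
    intro a ha n
    let a' : Γ(X, j ''ᵁ ⊤) := (j.appIso ⊤).inv ((Scheme.ΓSpecIso R).inv a)
    have hxa : x ∉ X.basicOpen a' := by
      intro hmem
      rw [show a' = (j.appIso ⊤).inv ((Scheme.ΓSpecIso R).inv a) from rfl, ← Scheme.image_basicOpen] at hmem
      obtain ⟨q, hq, hqx⟩ := hmem
      have hqp : q = p := j.isOpenEmbedding.injective (hqx.trans hp.symm)
      subst hqp
      rw [basicOpen_eq_of_affine, SetLike.mem_coe, PrimeSpectrum.mem_basicOpen] at hq
      exact hq ha
    have h0 : (ι.app (j ''ᵁ ⊤)).hom a' = 0 := by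
      let W := ι ⁻¹ᵁ (j ''ᵁ ⊤)
      refine TopCat.Presheaf.section_ext (Spec (X.residueField x)).sheaf W _ _ fun y hy => ?_
      refine Eq.trans ?_ (map_zero _).symm
      by_contra hne
      letI := (KFlatLib.isField_stalk_spec (X.residueField x) y).toField
      have hu : IsUnit ((Spec (X.residueField x)).presheaf.germ W y hy ((ι.app (j ''ᵁ ⊤)).hom a')) :=
        isUnit_iff_ne_zero.2 hne
      rw [← Scheme.mem_basicOpen] at hu
      have hmem : y ∈ ι ⁻¹ᵁ X.basicOpen a' := by rw [Scheme.preimage_basicOpen]; exact hu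
      have hmem' : ι y ∈ X.basicOpen a' := hmem
      rw [X.fromSpecResidueField_apply] at hmem'
      exact hxa hmem'
    show (show Γ(Spec (X.residueField x), ι ⁻¹ᵁ (j ''ᵁ ⊤)) from (ι.app (j ''ᵁ ⊤)).hom a') *
      (show Γ(Spec (X.residueField x), ι ⁻¹ᵁ (j ''ᵁ ⊤)) from n) = 0
    rw [h0, zero_mul]
  haveI : Nontrivial N := by
    by_contra hc
    rw [not_nontrivial_iff_subsingleton] at hc
    have hz : IsZero (L.obj P) :=
      ((tilde.functor R).map_isZero (ModuleCat.isZero_of_iff_subsingleton.2 hc)).of_iso eN.symm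
    have hz' := QCohHull.isZero_stalk_of_restrict j P hz p
    rw [show j.base p = x from hp] at hz'
    obtain ⟨e⟩ := SkyPush.nonempty_push_iso x hx
    have := ModuleCat.subsingleton_of_isZero (hz'.of_iso
      (((DerSch.stalkFunctor X x).mapIso e ≪≫ (skyStalkIso x).app _).symm))
    haveI : Nontrivial (X.presheaf.stalk x ⧸ IsLocalRing.maximalIdeal (X.presheaf.stalk x)) :=
      Ideal.Quotient.nontrivial_iff.2 (IsLocalRing.maximalIdeal.isMaximal _).ne_top
    exact not_subsingleton (X.presheaf.stalk x ⧸ IsLocalRing.maximalIdeal (X.presheaf.stalk x)) ‹Subsingleton _›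
  -- the complex of modules
  let K' : DCoh.D (Spec R) := L.mapDerivedCategory.obj K
  have hH : ∀ i, Nonempty (DCoh.HD K' i ≅ L.obj (DCoh.HD K i)) := fun i =>
    SiteBase.RpushD.nonempty_homology_mapDerived L K i
  have hK' : DCoh.IsQCohD K' := fun i => (QCoh.isQCoh_iff_iso (hH i).some).2 (QCoh.isQCoh_restrict j (hK i).1)
  obtain ⟨M, ⟨eM⟩⟩ := exists_tildeD_iso hK'
  have eH : ∀ i, Nonempty (tilde (KillDer.H i M) ≅ L.obj (DCoh.HD K i)) := fun i =>
    ⟨((mapDCHomologyIso (tilde.functor R) i).app M).symm ≪≫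
      (DerivedCategory.homologyFunctor _ i).mapIso eM ≪≫ (hH i).some⟩
  have hfg : ∀ i, Module.Finite R (KillDer.H i M) := fun i =>
    (QCoh.isFT_tilde_iff _).1 (SheafHomX.isCoh_of_iso (eH i).some.symm (SheafHomX.isCoh_restrict j (hK i))).2
  have hM : M.IsGE c := (DerivedCategory.isGE_iff M c).2 fun i hi => by
    have hz : IsZero (tilde (KillDer.H i M)) :=
      (L.map_isZero (DerivedCategory.isZero_of_isGE K c i hi)).of_iso (eH i).some
    rw [IsZero.iff_id_eq_zero]
    exact (tilde.functor R).map_injective (hz.eq_of_src _ _)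
  -- transfer of the orthogonality
  let a := TelLocal.derivedAdjunction (lshAdj j)
  have hhom : ∀ (i : ℤ) (f : (DerivedCategory.singleFunctor (ModuleCat.{u} R) 0).obj N ⟶ M⟦i⟧), f = 0 := by
    intro i f
    haveI : IsIso ((lshAdj j).counit.app P) := by
      refine isIso_of_stalk _ fun y => ?_
      by_cases hy : y ∈ Set.range j
      · obtain ⟨q, rfl⟩ := hy
        haveI : IsIso (L.map ((lshAdj j).counit.app P)) :=
          IsIso.of_isIso_fac_left ((lshAdj j).right_triangle_components P)
        have hb := ConcreteCategory.bijective_of_isIso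
          ((DerSch.stalkFunctor (Spec R) q).map (L.map ((lshAdj j).counit.app P)))
        exact (ConcreteCategory.isIso_iff_bijective _).2 ⟨injective_stalk_of_restrict j _ q hb.1,
          surjective_stalk_of_restrict j _ q hb.2⟩
      · have h1 := isZero_stalk_lsh j y (fun ⟨q, hq⟩ => hy ⟨q, hq⟩) (L.obj P)
        have h2 : IsZero ((DerSch.stalkFunctor X y).obj P) := ModuleCat.isZero_of_iff_subsingleton.2
          (H23.ClosedPushLen.subsingleton_stalk ι _ (by
            rintro ⟨z, hz⟩
            exact hy ⟨p, hp.trans ((X.fromSpecResidueField_apply x z).symm.trans hz)⟩))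
        exact ⟨0, h1.eq_of_src _ _, h2.eq_of_src _ _⟩
    let eS : (DCoh.tildeD R).obj ((DerivedCategory.singleFunctor (ModuleCat.{u} R) 0).obj N) ≅
        DCoh.inD (Spec R) (L.obj P) :=
      ((tilde.functor R).mapDerivedCategorySingleFunctor 0).app N ≪≫
        (DerivedCategory.singleFunctor (Spec R).Modules 0).mapIso eN
    let eT : (DCoh.tildeD R).obj (M⟦i⟧) ≅ L.mapDerivedCategory.obj (K⟦i⟧) :=
      ((tilde.functor R).mapDerivedCategory.commShiftIso i).app M ≪≫
        (shiftFunctor (DCoh.D (Spec R)) i).mapIso eM ≪≫ (L.mapDerivedCategory.commShiftIso i).symm.app K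
    let eP : (lsh j).mapDerivedCategory.obj (DCoh.inD (Spec R) (L.obj P)) ≅ DCoh.inD X P :=
      ((lsh j).mapDerivedCategorySingleFunctor 0).app _ ≪≫
        (DerivedCategory.singleFunctor X.Modules 0).mapIso (asIso ((lshAdj j).counit.app P))
    apply (tildeD_map_bijective _ _).1
    haveI := a.right_adjoint_additive
    rw [← cancel_epi eS.inv, ← cancel_mono eT.hom, Functor.map_zero]
    simp only [comp_zero, zero_comp, Category.assoc]
    refine (a.homEquiv _ _).symm.injective ?_
    have h0 := h i (eP.inv ≫ (a.homEquiv _ _).symm (eS.inv ≫ (DCoh.tildeD R).map f ≫ eT.hom))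
    rw [zero_of_epi_comp _ h0, Adjunction.homEquiv_counit, Functor.map_zero, zero_comp]
  obtain ⟨s, hs⟩ := (IsNoetherian.noetherian p.asIdeal)
  have key := KillDer.locally_zero p.asIdeal N hN s.toList (by
    rw [← hs]; simp [Ideal.submodule_span_eq]) s.toList M
    (fun b hb => hs ▸ Submodule.subset_span (Finset.mem_toList.1 hb)) hfg ⟨c, hM⟩ hhom
    (fun b hb => Or.inl hb) i
  -- conclusion
  have hz : Subsingleton ((tilde (KillDer.H i M)).presheaf.stalk p) := by
    refine (QCoh.subsingleton_stalk_iff (QCoh.isQCoh_spec_iff.2 ⟨_, ⟨Iso.refl _⟩⟩) (isAffineOpen_top _)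
      (x := p) trivial).2 fun m => ?_
    obtain ⟨z, rfl⟩ : ∃ z, (tilde.toOpen (KillDer.H i M) ⊤).hom z = m :=
      (ConcreteCategory.bijective_of_isIso (tilde.toOpen (KillDer.H i M) ⊤)).2 m
    obtain ⟨r, hr, hrz⟩ := key z
    refine ⟨(Scheme.ΓSpecIso R).inv r, ?_, ?_⟩
    · rw [basicOpen_eq_of_affine, PrimeSpectrum.mem_basicOpen]
      exact hr
    · exact ((tilde.toOpen (KillDer.H i M) ⊤).hom.map_smul r z).symm.trans
        ((congrArg _ hrz).trans (map_zero _))
  intro hmem
  refine hmem ?_
  have h1 : IsZero ((DerSch.stalkFunctor (Spec R) p).obj (L.obj (DCoh.HD K i))) :=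
    (ModuleCat.isZero_of_iff_subsingleton.2 hz : IsZero ((DerSch.stalkFunctor (Spec R) p).obj
      (tilde (KillDer.H i M)))).of_iso ((DerSch.stalkFunctor (Spec R) p).mapIso (eH i).some).symm
  haveI := ModuleCat.subsingleton_of_isZero h1
  let eAb := (Scheme.Modules.restrictStalkNatIso j p).app (DCoh.HD K i)
  rw [← hp]
  exact @Equiv.subsingleton _ _ eAb.addCommGroupIsoToAddEquiv.symm.toEquiv this

end Groth.Agent.H9Misc.AffinePoint
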