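import Groth.Agent.ExistSep.Closed
import Groth.Agent.SymAlgX.Exists
import Groth.Agent.RelSpecX.AffHom
import Groth.Agent.RelSpecX.Gamma
import Groth.Agent.S8267
import Groth.Agent.S0040

/-!
# Algebraization of finite schemes over the thickenings
-/

set_option autoImplicit false
set_option backward.isDefEq.respectTransparency false
set_option backward.isDefEq.respectTransparency.types false
set_option linter.style.haveILetI false
set_option maxHeartbeats 800000

universe u

open CategoryTheory CategoryTheory.Limits AlgebraicGeometry TopologicalSpace Opposite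

noncomputable section

namespace Groth.Agent.H9Misc.AlgFinite

open Groth.Agent Groth.Agent.PicLift Groth.Agent.FFun

section Maps

variable {X X' P : Scheme.{u}} {A : Type u} [CommRing A] [P.Over (Spec (CommRingCat.of A))] {J : Ideal A}

variable {g : X' ⟶ X} {c : X ⟶ P} {c' : X' ⟶ P} (h : g ≫ c = c')
  {q : X' ⟶ Spec (CommRingCat.of (A ⧸ J))}
  (sq : IsPullback g q (c ≫ (P ↘ Spec (CommRingCat.of A))) (Spec.map (CommRingCat.ofHom (Ideal.Quotient.mk J))))
  [IsAffineHom c] [IsAffineHom c']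

include sq in
theorem pushMap_surjective' {U : P.Opens} (hU : IsAffineOpen U) : Function.Surjective ((pushMap g c c' h).app U) := by
  subst h
  intro y
  haveI := closed_of_sq Ideal.Quotient.mk_surjective sq
  obtain ⟨x, hx⟩ := g.app_surjective (c ⁻¹ᵁ U) (hU.preimage c) y
  refine ⟨x, ?_⟩
  show g.appLE _ _ _ x = y
  rw [← hx, Scheme.Hom.app_eq_appLE]
  rfl

include sq in
theorem pushMap_eq_zero' {U : P.Opens} (hU : IsAffineOpen U) (x : Γ(X, c ⁻¹ᵁ U)) :
    (pushMap g c c' h).app U x = 0 ↔ x ∈ J.map (str (c ≫ (P ↘ Spec (CommRingCat.of A))) (c ⁻¹ᵁ U)) := by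
  subst h
  haveI := closed_of_sq Ideal.Quotient.mk_surjective sq
  have e := ideal_ker Ideal.Quotient.mk_surjective sq (hU.preimage c)
  rw [Ideal.mk_ker, Scheme.Hom.ker_apply] at e
  rw [← e, RingHom.mem_ker]
  show g.appLE _ _ _ x = 0 ↔ g.app _ x = 0
  rw [Scheme.Hom.app_eq_appLE]
  rfl

include sq in
theorem isCokernel_pushMap' [IsNoetherian X] [IsNoetherian X'] :
    ∃ hz : Formal.smulFamily J ((Scheme.Modules.pushforward c).obj (Coh.structureModule X)) ≫ pushMap g c c' h = 0,
      IsIso (cokernel.desc _ _ hz) := by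
  have hM : Coh.IsQCoh ((Scheme.Modules.pushforward c).obj (Coh.structureModule X)) :=
    QCoh.isQCoh_pushforward c QCoh.isQCoh_structureModule
  have hN : Coh.IsQCoh ((Scheme.Modules.pushforward c').obj (Coh.structureModule X')) :=
    QCoh.isQCoh_pushforward c' QCoh.isQCoh_structureModule
  have hsm : ∀ a ∈ J, Formal.smulMod A _ a ≫ pushMap g c c' h = 0 := fun a ha =>
    FFun.hom_eq_zero_of_cover hM hN _ (fun i : P.affineOpens => i.1) (fun i => i.2)
      (fun x => by
        obtain ⟨_, ⟨V, hV, rfl⟩, hxV, -⟩ := P.isBasis_affineOpens.exists_subset_of_mem_open (Set.mem_univ x) isOpen_univ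
        exact ⟨⟨V, hV⟩, hxV⟩) fun U x => by
        show (pushMap g c c' h).app U.1 ((Formal.smulMod A _ a).app U.1 x) = 0
        rw [FFun.smulMod_app]
        refine (pushMap_eq_zero' h sq U.2 _).2 ?_
        show c.app U.1 (FFun.φsec (A := A) U.1 a) * (show Γ(X, c ⁻¹ᵁ U.1) from x) ∈ _
        rw [c_app_φsec]
        exact Ideal.mul_mem_right _ _ (Ideal.mem_map_of_mem _ ha)
  have hz : Formal.smulFamily J ((Scheme.Modules.pushforward c).obj (Coh.structureModule X)) ≫ pushMap g c c' h = 0 := by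
    refine Sigma.hom_ext _ _ fun a => ?_
    rw [comp_zero, ← Category.assoc]
    exact (congrArg (· ≫ _) (Sigma.ι_desc _ _)).trans (hsm a.1 a.2)
  refine ⟨hz, QCoh.isIso_of_isBasis _ P.isBasis_affineOpens fun U hU => ?_⟩
  have hC : Coh.IsQCoh (cokernel (Formal.smulFamily J ((Scheme.Modules.pushforward c).obj (Coh.structureModule X)))) :=
    QCoh.isQCoh_cokernel (QCoh.isQCoh_colimit _ fun _ => hM) hM _
  have hd : ∀ x, (cokernel.desc _ _ hz).app U ((cokernel.π (Formal.smulFamily J ((Scheme.Modules.pushforward c).obj (Coh.structureModule X)))).app U x) = (pushMap g c c' h).app U x := fun x =>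
    congr(($(cokernel.π_desc _ _ hz)).app U x)
  refine ⟨(injective_iff_map_eq_zero _).2 fun z hz0 => ?_, fun y => ?_⟩
  · obtain ⟨x, rfl⟩ := QCoh.app_surjective_of_epi hM hC (cokernel.π _) hU z
    rw [hd] at hz0
    refine FFun.π_app_eq_zero _ J U ?_
    obtain hx := (pushMap_eq_zero' h sq hU x).1 hz0
    refine Submodule.span_induction (p := fun (r : Γ(X, c ⁻¹ᵁ U)) _ => (show Γ((Scheme.Modules.pushforward c).obj (Coh.structureModule X), U) from r) ∈
      J.map (FFun.φsec (A := A) U) • (⊤ : Submodule Γ(P, U) Γ((Scheme.Modules.pushforward c).obj (Coh.structureModule X), U)))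
      ?_ ?_ ?_ ?_ hx
    · rintro _ ⟨a, ha, rfl⟩
      have := Submodule.smul_mem_smul (Ideal.mem_map_of_mem (FFun.φsec (A := A) U) ha)
        (Submodule.mem_top (x := (show Γ((Scheme.Modules.pushforward c).obj (Coh.structureModule X), U) from (1 : Γ(X, c ⁻¹ᵁ U)))))
      convert this using 1
      show _ = c.app U (FFun.φsec (A := A) U a) * 1
      rw [mul_one, c_app_φsec]
    · exact zero_mem _
    · exact fun r r' _ _ hr hr' => add_mem hr hr'
    · intro b r _ hr
      refine Submodule.smul_induction_on (p := fun (m : Γ((Scheme.Modules.pushforward c).obj (Coh.structureModule X), U)) => (show Γ((Scheme.Modules.pushforward c).obj (Coh.structureModule X), U) from b * (show Γ(X, c ⁻¹ᵁ U) from m)) ∈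
        J.map (FFun.φsec (A := A) U) • (⊤ : Submodule Γ(P, U) Γ((Scheme.Modules.pushforward c).obj (Coh.structureModule X), U)))
        hr (fun a ha m _ => ?_) (fun m m' hm hm' => ?_)
      · have := Submodule.smul_mem_smul ha
          (Submodule.mem_top (x := (show Γ((Scheme.Modules.pushforward c).obj (Coh.structureModule X), U) from b * (show Γ(X, c ⁻¹ᵁ U) from m))))
        convert this using 1
        exact mul_left_comm b (c.app U a) (show Γ(X, c ⁻¹ᵁ U) from m)
      · show b * ((show Γ(X, c ⁻¹ᵁ U) from m) + (show Γ(X, c ⁻¹ᵁ U) from m')) ∈ _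
        rw [mul_add]
        exact add_mem hm hm'
  · obtain ⟨x, hx⟩ := pushMap_surjective' h sq hU y
    exact ⟨(cokernel.π (Formal.smulFamily J ((Scheme.Modules.pushforward c).obj (Coh.structureModule X)))).app U x, (hd x).trans hx⟩

end Maps

variable {A : Type u} [CommRing A] [IsNoetherianRing A] (I : Ideal A) [IsAdicComplete I A]
  (P : Scheme.{u}) [P.Over (Spec (CommRingCat.of A))] [IsSeparated (P ↘ Spec (CommRingCat.of A))]
  [LocallyOfFiniteType (P ↘ Spec (CommRingCat.of A))] [QuasiCompact (P ↘ Spec (CommRingCat.of A))]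

/-- A compatible system of finite schemes sits in a vector bundle by compatible closed immersions. -/
theorem exists_bundle (Xs : ℕ → Scheme.{u}) (t : ∀ k, Xs k ⟶ Xs (k + 1)) (c : ∀ k, Xs k ⟶ P)
    [∀ k, IsFinite (c k)] (q : ∀ k, Xs k ⟶ Spec (CommRingCat.of (A ⧸ I ^ (k + 1))))
    (htc : ∀ k, t k ≫ c (k + 1) = c k)
    (sq : ∀ k, IsPullback (t k) (q k) (c (k + 1) ≫ (P ↘ Spec (CommRingCat.of A))) (CohB1.specQuot I k))
    (hp : IsProper (c 0 ≫ (P ↘ Spec (CommRingCat.of A)))) :
    ∃ (V : Scheme.{u}) (π : V ⟶ P) (e : ∀ k, Xs k ⟶ V), IsAffineHom π ∧ LocallyOfFiniteType π ∧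
      (∀ k, IsClosedImmersion (e k)) ∧ (∀ k, e k ≫ π = c k) ∧ ∀ k, t k ≫ e (k + 1) = e k := by
  haveI : CompactSpace P := QuasiCompact.compactSpace_of_compactSpace (P ↘ Spec (CommRingCat.of A))
  haveI : IsLocallyNoetherian P := LocallyOfFiniteType.isLocallyNoetherian (P ↘ Spec (CommRingCat.of A))
  haveI : IsNoetherian P := ⟨⟩
  haveI : ∀ k, IsNoetherian (Xs k) := fun k => by
    haveI := LocallyOfFiniteType.isLocallyNoetherian (c k)
    haveI : CompactSpace (Xs k) := QuasiCompact.compactSpace_of_compactSpace (c k)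
    exact ⟨⟩
  let G : ℕ → P.Modules := fun k => (Scheme.Modules.pushforward (c k)).obj (Coh.structureModule (Xs k))
  have hG : ∀ k, Coh.IsCoh (G k) := fun k => QCoh.isCoh_pushforward_finite (c k) QCoh.isCoh_structureModule'
  let tr : ∀ k, G (k + 1) ⟶ G k := fun k => PicLift.pushMap (t k) (c (k + 1)) (c k) (htc k)
  have hck : ∀ k, ∃ hz : Formal.smulFamily (I ^ (k + 1)) (G (k + 1)) ≫ tr k = 0, IsIso (cokernel.desc _ _ hz) :=
    fun k => isCokernel_pushMap' (htc k) (sq k)
  have hkill : ∀ k, Formal.KilledBy (I ^ (k + 1)) (G k) := fun k => by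
    obtain ⟨hz, hiso⟩ := hck k
    haveI : Epi (tr k) := by
      haveI := hiso
      rw [← cokernel.π_desc _ _ hz]
      exact epi_comp _ _
    exact PicLift.killedBy_of_epi (tr k) hz
  let F : ℕᵒᵖ ⥤ P.Modules := Functor.ofOpSequence (X := G) tr
  have hFm : ∀ k, F.map (homOfLE (Nat.le_succ k)).op = tr k := fun k => Functor.ofOpSequence_map_homOfLE_succ (X := G) tr k
  have hF : Formal.IsCohFormal I F := by
    refine ⟨hG, hkill, fun k => ?_⟩
    rw [hFm k]
    exact hck k
  have hFs : ClSub.IsProperOver (P ↘ Spec (CommRingCat.of A)) (CohB1.support (F.obj (op 0))) := by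
    haveI := hp
    refine QCoh.IsProperOver.subset (QCoh.isProperOver_range (c 0)) (QCoh.isClosed_support_of_isFT (hG 0).1 (hG 0).2) ?_
    exact (H26.FMod.support_pushforward_subset (c 0) QCoh.isQCoh_structureModule (hG 0).1
      ((c 0).isClosedMap _ (QCoh.isClosed_support_of_isFT QCoh.isQCoh_structureModule QCoh.isCoh_structureModule'.2))).trans
      (Set.image_subset_range _ _)
  obtain ⟨M, hM, -, ⟨β⟩⟩ := ExistSep.exists_algebraization_properSupport I P F hF hFs
  let φ : ∀ k, M ⟶ G k := fun k => modJπ (I ^ (k + 1)) M ≫ β.hom.app (op k)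
  have hφ : ∀ k, φ (k + 1) ≫ tr k = φ k := fun k => by
    show (modJπ _ M ≫ β.hom.app _) ≫ tr k = _
    have hn := β.hom.naturality (homOfLE (Nat.le_succ k)).op
    rw [hFm k] at hn
    rw [Category.assoc]
    refine (congrArg (modJπ (I ^ (k + 1 + 1)) M ≫ ·) hn.symm).trans ?_
    rw [← Category.assoc]
    refine congrArg (· ≫ β.hom.app (op k)) ?_
    rw [show (Formal.completion I M).map (homOfLE (Nat.le_succ k)).op = Formal.modPowTrans I (k + 1) M from
      Functor.ofOpSequence_map_homOfLE_succ _ k]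
    exact cokernel.π_desc _ _ _
  let S := SymAlgX.symAlg hM.1
  have hS : RelSpec.IsSymAlg M S (SymAlgX.symJ hM.1) := SymAlgX.isSymAlg_symAlg hM.1
  choose ψ hψ hψu using fun k => hS (RelSpec.QCAlg.directImage (c k)) (φ k)
  let ω : ∀ k, AffAlg.algHoms S.π (c k) := fun k => ⟨S.gammaMap ≫ (ψ k).hom, by
    rw [← Category.assoc, S.π_c_gammaMap]
    exact (ψ k).comm⟩
  let e : ∀ k, Xs k ⟶ S.spec := fun k => RelSpecX.ofAlgHom S.π (c k) (ω k)
  have he : ∀ k, e k ≫ S.π = c k := fun k => RelSpecX.ofAlgHom_comp S.π (c k) (ω k)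
  haveI hft : LocallyOfFiniteType S.π := Groth.Agent.S8267.result M hM S _ hS
  refine ⟨S.spec, S.π, e, inferInstance, hft, fun k => ?_, he, fun k => ?_⟩
  · refine RelSpecX.isClosedImmersion_of_surjective S.π (c k) (e k) (he k) fun U => ?_
    show Function.Surjective (((AffAlg.algHom S.π (c k) (RelSpecX.ofAlgHom S.π (c k) (ω k)) _).app (op U.1)).hom)
    rw [RelSpecX.algHom_ofAlgHom]
    haveI : IsIso S.gammaMap := RelSpecX.isIso_gammaMap S
    haveI : IsIso (S.gammaMap.app (op U.1)) := NatIso.isIso_app_of_isIso S.gammaMap _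
    have h2 : Function.Surjective (S.gammaMap.app (op U.1)) :=
      (ConcreteCategory.bijective_of_isIso (S.gammaMap.app (op U.1))).2
    refine Function.Surjective.comp (g := ⇑((ψ k).hom.app (op U.1))) ?_ h2
    intro y
    haveI : Epi (modJπ (I ^ (k + 1)) M) := coequalizer.π_epi
    obtain ⟨z, hz⟩ := QCoh.app_surjective_of_epi hM.1 (hG k).1 (φ k) U.2 (show Γ(G k, U.1) from y)
    refine ⟨(SymAlgX.symJ hM.1).app U.1 z, ?_⟩
    exact (congrArg (fun β : M ⟶ (RelSpec.QCAlg.directImage (c k)).toModule => β.app U.1 z) (hψ k)).trans hz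
  · let T : RelSpec.QCAlg.directImage (c (k + 1)) ⟶ RelSpec.QCAlg.directImage (c k) :=
      ⟨AffAlg.algHom (c (k + 1)) (c k) (t k) (htc k), AffAlg.algHom_comm _ _ _ _⟩
    have hT : ∀ (U : P.Opens) (x : Γ((RelSpec.QCAlg.directImage (c (k + 1))).toModule, U)),
        (RelSpec.QCAlg.Hom.toModuleMap T).app U x = (tr k).app U x := fun U x =>
      ConcreteCategory.congr_hom (RelSpecX.algHom_app (c (k + 1)) (c k) (t k) (htc k) U) x
    have hcomp : ψ (k + 1) ≫ T = ψ k := by
      refine hψu k _ (QCoh.hom_ext_app fun U x => ?_)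
      have h1 := congrArg (fun β : M ⟶ (RelSpec.QCAlg.directImage (c (k + 1))).toModule => β.app U x) (hψ (k + 1))
      refine ((congrArg ((RelSpec.QCAlg.Hom.toModuleMap T).app U) h1).trans (hT U _)).trans ?_
      exact congr(($(hφ k)).app U x)
    refine RelSpecX.algHom_injective S.π (c k) (by rw [Category.assoc, he, htc]) (he k) fun U => ?_
    rw [RelSpecX.algHom_comp S.π (c (k + 1)) (c k) (e (k + 1)) (he (k + 1)) (t k) (htc k)]
    show ((AffAlg.algHom S.π (c (k + 1)) (RelSpecX.ofAlgHom S.π (c (k + 1)) (ω (k + 1))) _) ≫ _).app _ =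
      (AffAlg.algHom S.π (c k) (RelSpecX.ofAlgHom S.π (c k) (ω k)) _).app _
    rw [RelSpecX.algHom_ofAlgHom, RelSpecX.algHom_ofAlgHom]
    show ((S.gammaMap ≫ (ψ (k + 1)).hom) ≫ T.hom).app (op U.1) = (S.gammaMap ≫ (ψ k).hom).app (op U.1)
    rw [Category.assoc, ← hcomp]
    rfl

omit [IsAdicComplete I A] [IsNoetherianRing A] in
theorem isPullback_thick {X V : Scheme.{u}} (f : X ⟶ Spec (CommRingCat.of A)) (π : V ⟶ X) (n : ℕ) :
    IsPullback (CohB1.thickι (π ≫ f) I n)
      (pullback.lift (CohB1.thickι (π ≫ f) I n ≫ π) (CohB1.thickToBase (π ≫ f) I n)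
        (by rw [Category.assoc]; exact pullback.condition))
      π (CohB1.thickι f I n) := by
  refine IsPullback.of_bot (v₂₁ := CohB1.thickToBase f I n) (v₂₂ := f) (h₃₁ := CohB1.specQuot I n) ?_ ?_
    (IsPullback.of_hasPullback _ _)
  · rw [pullback.lift_snd]
    exact IsPullback.of_hasPullback _ _
  · exact (pullback.lift_fst _ _ _).symm

end Groth.Agent.H9Misc.AlgFinite
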