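import Groth.Agent.S3616
import Groth.Agent.KFlatLib.Scheme.EvalPerfect
import Groth.Agent.KFlatLib.Scheme.QCohDerived

/-!
# The dualizing complex of a Gorenstein morphism is perfect
-/

set_option autoImplicit false
set_option linter.style.haveILetI false

universe u

open CategoryTheory CategoryTheory.Limits AlgebraicGeometry

attribute [local instance] HasDerivedCategory.standard

namespace Groth.Agent.H9Misc

open KFlatLib

/-- Relative dualizing complexes of proper Gorenstein morphisms are perfect. -/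
theorem isPerfect_dualizingCx {S X : Scheme.{u}} [IsNoetherian S] (f : X ⟶ S) [IsProper f] [Flat f]
    (hG : Dual3.IsGorensteinMor f)
    [DCoh.HasRpush f] (hR : DCoh.RpushPreservesQCoh f) [DCoh.HasShriek f hR]
    (OS : DCoh.DQCoh S) (hOS : OS.obj ≅ DCoh.inD S (Coh.structureModule S)) :
    DCoh.IsPerfect (DCoh.dualizingCx f hR OS) := by
  haveI : Dual3.IsSepFT f := ⟨inferInstance, inferInstance, inferInstance⟩
  haveI : Dual3.IsSepFT (𝟙 S) := ⟨inferInstance, inferInstance, inferInstance⟩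
  let c : DEt.Compactification f := ⟨X, 𝟙 X, f, inferInstance, inferInstance, Category.id_comp f⟩
  haveI : DCoh.HasRpush c.fbar := ‹DCoh.HasRpush f›
  have key := (S3616.result S X S f (𝟙 _) f (Category.comp_id f) c hR (DCoh.shriek f hR) (DCoh.shriekAdj f hR)
    OS ⟨hOS⟩).1
  refine (isPerfect_iff _).2 (LocSP.of_local fun x => ?_)
  obtain ⟨U, hxU, hU⟩ := (key x).1 (hG x)
  obtain ⟨V, n, hxV, ⟨e⟩⟩ := hU ⟨x, hxU⟩
  refine ⟨_, V.ι ≫ U.ι ≫ 𝟙 X, inferInstance, ⟨⟨⟨x, hxU⟩, hxV⟩, rfl⟩, ?_⟩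
  exact ((locSP_structure.of_iso ((DerivedCategory.singleFunctorIsoCompQ _ 0).app
    (Coh.structureModule (V : Scheme.{u}))).symm).shift n).of_iso
    (e.symm ≪≫ (rho V.ι).mapIso (rhoComp U.ι (𝟙 X) (U.ι ≫ 𝟙 X) rfl _) ≪≫
      rhoComp V.ι (U.ι ≫ 𝟙 X) (V.ι ≫ U.ι ≫ 𝟙 X) rfl _)

end Groth.Agent.H9Misc
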