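import Groth.Agent.Lib.DerivedNat
import Groth.Agent.KFlatLib.Scheme.ProjClosed
import Groth.Agent.KFlatLib.Scheme.AcyclicPush
import Groth.Agent.KFlatLib.Scheme.ProjFormula

/-!
# The derived tensor product with `i_* O_Z` for a closed immersion `i`
-/

set_option autoImplicit false
set_option linter.style.haveILetI false

universe u

open CategoryTheory CategoryTheory.Limits AlgebraicGeometry

attribute [local instance] HasDerivedCategory.standard

namespace Groth.Agent.H9Misc

open KFlatLib Lib.DerivedNat

variable {X Y : Scheme.{u}} (f : X ⟶ Y)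

theorem isIso_rpushUnit_closed [IsClosedImmersion f] [DCoh.HasRpush f] (C : CochainComplex X.Modules ℤ) :
    IsIso ((rpushUnit f).app C) := by
  haveI : PreservesFiniteColimits (Scheme.Modules.pushforward f) :=
    ⟨fun J _ _ => preservesColimitsOfShape_push f J⟩
  haveI := QCoh.preservesFiniteLimits_push f
  obtain ⟨J, s, hJ, hs⟩ : ∃ (J : CochainComplex X.Modules ℤ) (s : C ⟶ J), J.IsKInjective ∧ QuasiIso s :=
    exists_kInjective_res C
  haveI := hJ
  haveI := hs
  let P := (Scheme.Modules.pushforward f).mapHomologicalComplex (ComplexShape.up ℤ)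
  haveI h1 : IsIso (DerivedCategory.Q.map (P.map s)) := isIso_Q_map _ inferInstance
  haveI h2 : IsIso (DerivedCategory.Q.map s) := isIso_Q_map s hs
  haveI h3 := isIso_rpushUnit_of_kInjective f J
  have w := (rpushUnit f).naturality s
  simp only [Functor.comp_map] at w
  have h4 : IsIso ((rpushUnit f).app C ≫ (DCoh.Rpush f).map (DerivedCategory.Q.map s)) := by
    rw [← w]
    exact IsIso.comp_isIso' h1 h3
  haveI : IsIso ((DCoh.Rpush f).map (DerivedCategory.Q.map s)) := Functor.map_isIso _ _
  exact IsIso.of_isIso_comp_right _ ((DCoh.Rpush f).map (DerivedCategory.Q.map s))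

/-- `Rf_*` of a closed immersion is computed termwise. -/
noncomputable def computesPushClosed [IsClosedImmersion f] [DCoh.HasRpush f] :
    Computes (Scheme.Modules.pushforward f) (DCoh.Rpush f) :=
  haveI : ∀ C, IsIso ((rpushUnit f).app C) := isIso_rpushUnit_closed f
  haveI := NatIso.isIso_of_isIso_app (rpushUnit f)
  { c := inv (rpushUnit f)
    iso := fun _ _ => inferInstance }

/-- `Lf^*` followed by `Rf_*`, for a closed immersion. -/
noncomputable def computesPullPush [IsClosedImmersion f] [DCoh.HasRpush f] [DCoh.HasLpull f] :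
    Computes (Scheme.Modules.pullback f ⋙ Scheme.Modules.pushforward f) (DCoh.Lpull f ⋙ DCoh.Rpush f) :=
  (computesPull f).comp (computesPushClosed f) (presKFlat_pull f)

/-- A functor computed by a functor of complexes that is isomorphic to a termwise one. -/
noncomputable def computesOfIso {F : X.Modules ⥤ Y.Modules} [F.Additive] {L : DCoh.D X ⥤ DCoh.D Y}
    {T : CochainComplex X.Modules ℤ ⥤ CochainComplex Y.Modules ℤ}
    (c : DerivedCategory.Q ⋙ L ⟶ T ⋙ DerivedCategory.Q) (hc : ∀ K, DCoh.IsKFlat K → IsIso (c.app K))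
    (e : T ≅ F.mapHomologicalComplex (ComplexShape.up ℤ)) : Computes F L where
  c := c ≫ Functor.whiskerRight e.hom DerivedCategory.Q
  iso K hK := by
    haveI := hc K hK
    simp only [NatTrans.comp_app, Functor.whiskerRight_app]
    infer_instance

/-- The comparison of the functors of complexes. -/
noncomputable def tensorCxSingleIso (M : X.Modules) :
    DCoh.tensorCx.flip.obj ((HomologicalComplex.single X.Modules (ComplexShape.up ℤ) 0).obj M) ≅
      (DCoh.tensorBi.flip.obj M).mapHomologicalComplex (ComplexShape.up ℤ) :=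
  singleIso (DCoh.tensorBi (X := X)) M

/-- A derived tensor product whose tensor product is computed termwise. -/
theorem nonempty_computesTensorCx (E : CochainComplex X.Modules ℤ) [DCoh.HasLTensorCx E]
    {F : X.Modules ⥤ X.Modules} [F.Additive]
    (e : DCoh.tensorCx.flip.obj E ≅ F.mapHomologicalComplex (ComplexShape.up ℤ)) :
    Nonempty (Computes F (DCoh.LTensorCx E)) :=
  ⟨computesOfIso (T := DCoh.tensorCx.flip.obj E)
    ((DCoh.tensorCxQ E).totalLeftDerivedCounit DerivedCategory.Q (qisX X))
    (fun _ hK => isIso_LTensorCx_counit E hK) e⟩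

theorem nonempty_computesTensorSingle (M : X.Modules)
    [DCoh.HasLTensorCx ((HomologicalComplex.single X.Modules (ComplexShape.up ℤ) 0).obj M)] :
    Nonempty (Computes (DCoh.tensorBi.flip.obj M)
      (DCoh.LTensorCx ((HomologicalComplex.single X.Modules (ComplexShape.up ℤ) 0).obj M))) :=
  nonempty_computesTensorCx ((HomologicalComplex.single X.Modules (ComplexShape.up ℤ) 0).obj M) (F := DCoh.tensorBi.flip.obj M)
    (tensorCxSingleIso M)

/-- `N ⊗ f_* O ≅ f_* f^* N`. -/
theorem nonempty_tensorPushIso [IsClosedImmersion f] :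
    Nonempty (DCoh.tensorBi.flip.obj ((Scheme.Modules.pushforward f).obj (Coh.structureModule X)) ≅
      Scheme.Modules.pullback f ⋙ Scheme.Modules.pushforward f) := by
  let O := Coh.structureModule X
  let η : DCoh.tensorBi.obj ((Scheme.Modules.pushforward f).obj O) ⟶
      (Scheme.Modules.pullback f ⋙ DCoh.tensorBi.obj O) ⋙ Scheme.Modules.pushforward f :=
    { app := fun N => projMod f O N
      naturality := fun _ _ g => projMod_naturality_right f O g }
  haveI : ∀ N, IsIso (η.app N) := fun N => isIso_projMod_of_isClosedImmersion f O N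
  haveI := NatIso.isIso_of_isIso_app η
  exact ⟨(tensorBiFlipIso Y).app _ ≪≫ asIso η ≪≫
    Functor.isoWhiskerRight (Functor.isoWhiskerLeft (Scheme.Modules.pullback f) (((tensorBiFlipIso X).app _).symm ≪≫ flipIso _ ≪≫ tensorStructureIso X) ≪≫
      Functor.rightUnitor _) _⟩

theorem nonempty_ltensor_pushStructure [IsClosedImmersion f] [DCoh.HasRpush f] [DCoh.HasLpull f]
    (K : CochainComplex Y.Modules ℤ) [DCoh.HasLTensorCx K]
    (hK : Nonempty (DerivedCategory.Q.obj K ≅
      DCoh.inD Y ((Coh.push f).obj (Coh.structureModule X)))) :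
    Nonempty (DCoh.LTensorCx K ≅ DCoh.Lpull f ⋙ DCoh.Rpush f) := by
  let M := (Scheme.Modules.pushforward f).obj (Coh.structureModule X)
  haveI := hasLTensorCx ((HomologicalComplex.single Y.Modules (ComplexShape.up ℤ) 0).obj M)
  obtain ⟨e⟩ := hK
  obtain ⟨e₁⟩ := nonempty_LTensorCx_congr_D
    (P := K) (E := (HomologicalComplex.single Y.Modules (ComplexShape.up ℤ) 0).obj M)
    (e ≪≫ (DerivedCategory.singleFunctorIsoCompQ Y.Modules 0).app M)
  obtain ⟨i⟩ := nonempty_tensorPushIso f
  obtain ⟨c⟩ := nonempty_computesTensorSingle M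
  exact ⟨e₁ ≪≫ c.uniq (computesPullPush f) i⟩

/-- Derived direct image along the identity. -/
theorem nonempty_rpush_id (X : Scheme.{u}) [DCoh.HasRpush (𝟙 X)] : Nonempty (DCoh.Rpush (𝟙 X) ≅ 𝟭 _) := by
  haveI := hasLpull (𝟙 X)
  obtain ⟨adj⟩ := nonempty_lpull_rpush_adj (𝟙 X)
  obtain ⟨e⟩ := KExact.A1Shriek.nonempty_lpull_id (𝟙 X) rfl
  exact ⟨(adj.ofNatIsoLeft e).rightAdjointUniq Adjunction.id⟩

end Groth.Agent.H9Misc
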