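import Groth.Agent.H9Misc.KernelBC
import Groth.Agent.KFlatLib.Scheme.FlatBCDerived
import Groth.Agent.KFlatLib.Scheme.PCQCoh

/-!
# Base change of composite kernels
-/

set_option autoImplicit false
set_option linter.style.haveILetI false
set_option maxHeartbeats 1000000

universe u

open CategoryTheory CategoryTheory.Limits AlgebraicGeometry

attribute [local instance] HasDerivedCategory.standard

namespace Groth.Agent.H9Misc

open KFlatLib Lib.DerivedBC Lib.DerivedNat

variable {X Y : Scheme.{u}}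

/-- For flat `f` the termwise pullback is the derived one. -/
theorem nonempty_cxPull_iso_lpull (f : X ⟶ Y) [Flat f] [DCoh.HasLpull f] (K : CochainComplex Y.Modules ℤ) :
    Nonempty (DCoh.toD X ((FMK.cxPull f).obj K) ≅ (DCoh.Lpull f).obj (DCoh.toD Y K)) := by
  haveI := hasRpush_scheme f
  haveI := FlatBC.isIso_alpha_of_flat (f := f) ((HomotopyCategory.quotient Y.Modules (ComplexShape.up ℤ)).obj K)
  exact ⟨((quotientMapIso (Scheme.Modules.pullback f)).app K).symm ≪≫
    (asIso ((FlatBC.alpha f).app ((HomotopyCategory.quotient Y.Modules (ComplexShape.up ℤ)).obj K))).symm ≪≫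
    (DCoh.Lpull f).mapIso ((DerivedCategory.quotientCompQhIso Y.Modules).app K)⟩

/-- Perfect objects have quasi-coherent cohomology. -/
theorem isQCohD_of_isPerfect {E : DCoh.D X} (hE : DCoh.IsPerfect E) : DCoh.IsQCohD E := fun i => by
  refine isQCoh_HD_of_pseudoCoherent (m := i - 1) ?_ i (by omega)
  intro x
  obtain ⟨V, hx, hV⟩ := hE x
  refine ⟨V, hx, fun F hF => ?_⟩
  obtain ⟨P, hP, ⟨e⟩⟩ := hV F hF
  exact ⟨P, e.inv, hP, fun j _ => inferInstance, inferInstance⟩

section Triple

variable {S S' X Y Z : Scheme.{u}} (a : X ⟶ S) (b : Y ⟶ S) (c : Z ⟶ S) (g : S' ⟶ S)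

/-- The triple product is the base change of the middle factor to the product of the outer ones. -/
theorem isPullback_p13 :
    IsPullback (FMK.p12 a b c ≫ pullback.snd a b) (FMK.p13 a b c) b (pullback.fst a c ≫ a) := by
  have h1 := (IsPullback.of_hasPullback (pullback.snd a b) (pullback.fst b c)).paste_vert
    (IsPullback.of_hasPullback b c)
  have e : pullback.snd a b ≫ b = pullback.fst a b ≫ a := pullback.condition.symm
  rw [e] at h1
  change IsPullback (FMK.p12 a b c) (FMK.p23 a b c ≫ pullback.snd b c) (pullback.fst a b ≫ a) c at h1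
  rw [← FMK.p13_snd a b c] at h1
  have h2 := IsPullback.of_bot h1 (FMK.p13_fst a b c).symm (IsPullback.of_hasPullback a c)
  exact h2.paste_horiz (IsPullback.of_hasPullback a b).flip

theorem flat_p13 [Flat b] : Flat (FMK.p13 a b c) :=
  MorphismProperty.of_isPullback (P := @Flat) (isPullback_p13 a b c) inferInstance

/-- The map between triple products after base change. -/
noncomputable abbrev bcTriple :
    FMK.T (pullback.snd a g) (pullback.snd b g) (pullback.snd c g) ⟶ FMK.T a b c :=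
  pullback.map _ _ _ _ (bcProd a b g) (bcProd b c g) (pullback.fst b g)
    (bcProd_snd a b g).symm (bcProd_fst b c g).symm

theorem bcTriple_p12 : bcTriple a b c g ≫ FMK.p12 a b c =
    FMK.p12 (pullback.snd a g) (pullback.snd b g) (pullback.snd c g) ≫ bcProd a b g :=
  pullback.lift_fst _ _ _

theorem bcTriple_p23 : bcTriple a b c g ≫ FMK.p23 a b c =
    FMK.p23 (pullback.snd a g) (pullback.snd b g) (pullback.snd c g) ≫ bcProd b c g :=
  pullback.lift_snd _ _ _

theorem bcTriple_p13 : bcTriple a b c g ≫ FMK.p13 a b c =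
    FMK.p13 (pullback.snd a g) (pullback.snd b g) (pullback.snd c g) ≫ bcProd a c g := by
  apply pullback.hom_ext
  · rw [Category.assoc, Category.assoc, FMK.p13_fst, bcProd_fst, reassoc_of% bcTriple_p12 a b c g, bcProd_fst,
      ← Category.assoc, ← Category.assoc, FMK.p13_fst]
  · rw [Category.assoc, Category.assoc, FMK.p13_snd, bcProd_snd, reassoc_of% bcTriple_p23 a b c g, bcProd_snd,
      ← Category.assoc, ← Category.assoc, FMK.p13_snd]

theorem isPullback_bcTriple :
    IsPullback (bcTriple a b c g) (FMK.p13 (pullback.snd a g) (pullback.snd b g) (pullback.snd c g))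
      (FMK.p13 a b c) (bcProd a c g) := by
  have h := (isPullback_p13 (pullback.snd a g) (pullback.snd b g) (pullback.snd c g)).paste_horiz
    (IsPullback.of_hasPullback b g)
  have e : (pullback.fst (pullback.snd a g) (pullback.snd c g) ≫ pullback.snd a g) ≫ g =
      bcProd a c g ≫ pullback.fst a c ≫ a := by
    rw [reassoc_of% bcProd_fst a c g, Category.assoc, pullback.condition]
  have e' : (FMK.p12 (pullback.snd a g) (pullback.snd b g) (pullback.snd c g) ≫
      pullback.snd (pullback.snd a g) (pullback.snd b g)) ≫ pullback.fst b g =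
      bcTriple a b c g ≫ FMK.p12 a b c ≫ pullback.snd a b := by
    rw [reassoc_of% bcTriple_p12 a b c g, bcProd_snd, Category.assoc]
  rw [e, e'] at h
  exact IsPullback.of_right h (bcTriple_p13 a b c g) (isPullback_p13 a b c)

/-- Base change of composite kernels. -/
theorem nonempty_pull_conv [Flat a] [Flat b] [QuasiCompact a] [QuasiSeparated a] [QuasiCompact b] [QuasiSeparated b]
    (K : CochainComplex (pullback a b).Modules ℤ) (M : CochainComplex (pullback b c).Modules ℤ)
    (hK : DCoh.IsQCohD (DCoh.toD _ K)) (hM : DCoh.IsQCohD (DCoh.toD _ M))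
    [DCoh.HasLpull (FMK.p12 a b c)] [DCoh.HasLTensorCx ((FMK.cxPull (FMK.p23 a b c)).obj M)]
    [DCoh.HasRpush (FMK.p13 a b c)]
    [DCoh.HasLpull (bcProd a b g)] [DCoh.HasLpull (bcProd b c g)] [DCoh.HasLpull (bcProd a c g)]
    (K₁ : CochainComplex (pullback (pullback.snd a g) (pullback.snd b g)).Modules ℤ)
    (eK : DCoh.toD _ K₁ ≅ (DCoh.Lpull (bcProd a b g)).obj (DCoh.toD _ K))
    (M₁ : CochainComplex (pullback (pullback.snd b g) (pullback.snd c g)).Modules ℤ)
    (eM : DCoh.toD _ M₁ ≅ (DCoh.Lpull (bcProd b c g)).obj (DCoh.toD _ M))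
    [DCoh.HasLpull (FMK.p12 (pullback.snd a g) (pullback.snd b g) (pullback.snd c g))]
    [DCoh.HasLTensorCx ((FMK.cxPull (FMK.p23 (pullback.snd a g) (pullback.snd b g) (pullback.snd c g))).obj M₁)]
    [DCoh.HasRpush (FMK.p13 (pullback.snd a g) (pullback.snd b g) (pullback.snd c g))] :
    Nonempty ((DCoh.Lpull (bcProd a c g)).obj (FMK.conv a b c K ((FMK.cxPull (FMK.p23 a b c)).obj M)) ≅
      FMK.conv (pullback.snd a g) (pullback.snd b g) (pullback.snd c g) K₁
        ((FMK.cxPull (FMK.p23 (pullback.snd a g) (pullback.snd b g) (pullback.snd c g))).obj M₁)) := by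
  haveI := flat_p13 a b c
  haveI := hasLpull (bcTriple a b c g)
  haveI := hasLpull (FMK.p23 a b c)
  haveI := hasLpull (FMK.p23 (pullback.snd a g) (pullback.snd b g) (pullback.snd c g))
  haveI := hasLpull (bcTriple a b c g ≫ FMK.p12 a b c)
  haveI := hasLpull (bcTriple a b c g ≫ FMK.p23 a b c)
  obtain ⟨eL⟩ := nonempty_cxPull_iso_lpull (FMK.p23 a b c) M
  obtain ⟨eL₁⟩ := nonempty_cxPull_iso_lpull (FMK.p23 (pullback.snd a g) (pullback.snd b g) (pullback.snd c g)) M₁
  obtain ⟨bc⟩ := nonempty_baseChange_of_flat (isPullback_bcTriple a b c g)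
  obtain ⟨c12⟩ := KExact.A1Shriek.nonempty_lpull_comp' (bcTriple a b c g) (FMK.p12 a b c) _ rfl
  obtain ⟨c12'⟩ := KExact.A1Shriek.nonempty_lpull_comp' (FMK.p12 (pullback.snd a g) (pullback.snd b g) (pullback.snd c g))
    (bcProd a b g) (bcTriple a b c g ≫ FMK.p12 a b c) (bcTriple_p12 a b c g).symm
  obtain ⟨c23⟩ := KExact.A1Shriek.nonempty_lpull_comp' (bcTriple a b c g) (FMK.p23 a b c) _ rfl
  obtain ⟨c23'⟩ := KExact.A1Shriek.nonempty_lpull_comp' (FMK.p23 (pullback.snd a g) (pullback.snd b g) (pullback.snd c g))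
    (bcProd b c g) (bcTriple a b c g ≫ FMK.p23 a b c) (bcTriple_p23 a b c g).symm
  obtain ⟨l⟩ := nonempty_lpull_ltensorCx (bcTriple a b c g) ((FMK.cxPull (FMK.p23 a b c)).obj M)
    ((FMK.cxPull (FMK.p23 (pullback.snd a g) (pullback.snd b g) (pullback.snd c g))).obj M₁)
    (eL₁ ≪≫ (DCoh.Lpull _).mapIso eM ≪≫ c23'.app _ ≪≫ (c23.app _).symm ≪≫ (DCoh.Lpull _).mapIso eL.symm)
  have hL : DCoh.IsQCohD (DCoh.toD _ ((FMK.cxPull (FMK.p23 a b c)).obj M)) :=
    isQCohD_of_iso eL.symm (isQCohD_lpull _ hM)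
  let N₁ := (DCoh.LTensorCx ((FMK.cxPull (FMK.p23 a b c)).obj M)).obj ((DCoh.Lpull (FMK.p12 a b c)).obj (DCoh.toD _ K))
  have hN₁ : DCoh.IsQCohD N₁ := isQCohD_ltensor _ hL (isQCohD_lpull _ hK)
  exact ⟨bc.app ⟨N₁, hN₁⟩ ≪≫ (DCoh.Rpush _).mapIso (l.app _ ≪≫ (DCoh.LTensorCx _).mapIso
    (c12.app _ ≪≫ (c12'.app _).symm ≪≫ (DCoh.Lpull _).mapIso eK.symm))⟩

end Triple

end Groth.Agent.H9Misc
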