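import Groth.Agent.H9Misc.DiagBC
import Groth.Agent.H9Misc.DiagKernel
import Groth.Agent.H9Misc.KernelConvBC
import Groth.Agent.KExact.External
import Groth.Agent.PnCoh.Unit

/-!
# Base change of the kernel of the identity
-/

set_option autoImplicit false
set_option linter.style.haveILetI false

universe u

open CategoryTheory CategoryTheory.Limits AlgebraicGeometry

attribute [local instance] HasDerivedCategory.standard

namespace Groth.Agent.H9Misc

open KFlatLib KExact Lib.DerivedNat

variable {X Y : Scheme.{u}}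

/-- Direct image of a module along a closed immersion. -/
theorem nonempty_rpush_inD_closed (f : X ⟶ Y) [IsClosedImmersion f] [DCoh.HasRpush f] (M : X.Modules) :
    Nonempty ((DCoh.Rpush f).obj (DCoh.inD X M) ≅ DCoh.inD Y ((Scheme.Modules.pushforward f).obj M)) := by
  obtain ⟨e⟩ := nonempty_rpush_iso_closed f ((HomologicalComplex.single X.Modules (ComplexShape.up ℤ) 0).obj M)
  exact ⟨(DCoh.Rpush f).mapIso ((DerivedCategory.singleFunctorIsoCompQ X.Modules 0).app M) ≪≫ e ≪≫
    DerivedCategory.Q.mapIso ((HomologicalComplex.singleMapHomologicalComplex (Scheme.Modules.pushforward f)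
      (ComplexShape.up ℤ) 0).app M) ≪≫
    ((DerivedCategory.singleFunctorIsoCompQ Y.Modules 0).app _).symm⟩

/-- The kernel of the identity is compatible with base change. -/
theorem nonempty_lpull_diagO {S S' X : Scheme.{u}} (a : X ⟶ S) (g : S' ⟶ S) [Flat a] [IsSeparated a]
    [DCoh.HasLpull (bcProd a a g)] :
    Nonempty ((DCoh.Lpull (bcProd a a g)).obj (FMK.diagO a) ≅ FMK.diagO (pullback.snd a g)) := by
  let Δ := pullback.diagonal a
  let Δ' := pullback.diagonal (pullback.snd a g)
  haveI : IsClosedImmersion Δ := IsSeparated.diagonal_isClosedImmersion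
  haveI : IsClosedImmersion Δ' := IsSeparated.diagonal_isClosedImmersion
  haveI := hasRpush_scheme Δ
  haveI := hasRpush_scheme Δ'
  haveI := hasRpush_scheme (bcProd a a g)
  haveI := hasRpush_scheme (pullback.fst a g)
  haveI := hasLpull (pullback.fst a g)
  have hP := isPullback_bcProd a a g
  have hw : pullback.fst a g ≫ Δ = Δ' ≫ bcProd a a g := by
    apply pullback.hom_ext
    · rw [Category.assoc, Category.assoc, pullback.diagonal_fst, bcProd_fst, pullback.diagonal_fst_assoc,
        Category.comp_id]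
    · rw [Category.assoc, Category.assoc, pullback.diagonal_snd, bcProd_snd, pullback.diagonal_snd_assoc,
        Category.comp_id]
  have hsq : IsPullback (pullback.fst a g) Δ' Δ (bcProd a a g) := by
    refine IsPullback.of_bot ?_ hw hP
    rw [pullback.diagonal_snd, pullback.diagonal_snd]
    exact IsPullback.of_vert_isIso ⟨by simp⟩
  haveI : Flat (Δ ≫ pullback.snd a a) := by
    rw [pullback.diagonal_snd]; infer_instance
  obtain ⟨A⟩ := nonempty_lpull_rpush_adj (bcProd a a g)
  obtain ⟨A'⟩ := nonempty_lpull_rpush_adj (pullback.fst a g)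
  obtain ⟨e, he⟩ := CanBC.exists_isCan hsq.w
  have hO : DCoh.IsQCohD (DCoh.inD X (Coh.structureModule X)) :=
    isQCohD_inD_of_isQCoh (PnCoh.isQCoh_structureModule X)
  haveI : IsIso (DCoh.baseChangeApp A A' e (DCoh.inD X (Coh.structureModule X))) :=
    holds_of_flat_over hP hsq hsq.w e he A A' _ hO
  obtain ⟨i⟩ := nonempty_rpush_inD_closed Δ (Coh.structureModule X)
  obtain ⟨i'⟩ := nonempty_rpush_inD_closed Δ' (Coh.structureModule (pullback a g))
  obtain ⟨u₀⟩ := KExact.nonempty_lpull_unitCx (pullback.fst a g)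
  let u : DCoh.inD (pullback a g) (Coh.structureModule (pullback a g)) ≅
      (DCoh.Lpull (pullback.fst a g)).obj (DCoh.inD X (Coh.structureModule X)) :=
    (DerivedCategory.singleFunctorIsoCompQ _ 0).app _ ≪≫ u₀ ≪≫
      (DCoh.Lpull (pullback.fst a g)).mapIso ((DerivedCategory.singleFunctorIsoCompQ _ 0).app _).symm
  exact ⟨(DCoh.Lpull (bcProd a a g)).mapIso i.symm ≪≫
    asIso (DCoh.baseChangeApp A A' e (DCoh.inD X (Coh.structureModule X))) ≪≫
    (DCoh.Rpush Δ').mapIso u.symm ≪≫ i'⟩

end Groth.Agent.H9Misc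

namespace Groth.Agent.H9Misc

/-- Perfectness is invariant under isomorphism. -/
theorem isPerfect_congr {X : Scheme.{u}} {E E' : DCoh.D X} (e : E ≅ E') (h : DCoh.IsPerfect E) :
    DCoh.IsPerfect E' := fun x => by
  obtain ⟨V, hx, hV⟩ := h x
  exact ⟨V, hx, fun F hF => hV F ⟨hF.some ≪≫ e.symm⟩⟩

end Groth.Agent.H9Misc
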