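import Groth.Agent.H9Misc.KernelComp
import Groth.Agent.H9Misc.KernelConvBC
import Groth.Agent.H9Misc.DiagKernel
import Groth.Agent.KFlatLib.Scheme.ProperFlatPerfect
import Groth.Agent.KFlatLib.Scheme.RpushUnbounded
import Groth.Agent.H9Misc.DiagKernelBC
import Groth.Agent.S13565

/-!
# Equivalence kernels give equivalences on full subcategories
-/

set_option autoImplicit false
set_option linter.style.haveILetI false
set_option maxHeartbeats 1000000

universe u

open CategoryTheory CategoryTheory.Limits AlgebraicGeometry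

attribute [local instance] HasDerivedCategory.standard

namespace Groth.Agent.H9Misc

section Cat

variable {C D : Type*} [Category C] [Category D]

/-- Mutually quasi-inverse functors on full subcategories. -/
theorem isEquivalence_lift_of_iso {P : ObjectProperty C} {Q : ObjectProperty D} (F : C ⥤ D) (G : D ⥤ C)
    (hF : ∀ M, P M → Q (F.obj M)) (hG : ∀ M, Q M → P (G.obj M))
    (η : P.ι ≅ P.ι ⋙ F ⋙ G) (ε : Q.ι ⋙ G ⋙ F ≅ Q.ι) :
    (ObjectProperty.lift Q (P.ι ⋙ F) fun M => hF M.obj M.property).IsEquivalence := by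
  let G' := ObjectProperty.lift P (Q.ι ⋙ G) fun M => hG M.obj M.property
  let F' := ObjectProperty.lift Q (P.ι ⋙ F) fun M => hF M.obj M.property
  let η' : 𝟭 _ ≅ F' ⋙ G' := NatIso.ofComponents (fun M => P.isoMk (η.app M))
    (fun {M N} f => P.hom_ext (η.hom.naturality f))
  let ε' : G' ⋙ F' ≅ 𝟭 _ := NatIso.ofComponents (fun M => Q.isoMk (ε.app M))
    (fun {M N} f => Q.hom_ext (ε.hom.naturality f))
  exact (CategoryTheory.Equivalence.mk F' G' η' ε').isEquivalence_functor

end Cat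

open KFlatLib

local notation "qc" Z:max => ObjectProperty.ι (DCoh.IsQCohD (X := Z))

variable {S X Y : Scheme.{u}}

/-- An equivalence kernel has a quasi-inverse kernel on quasi-coherent objects, on one side. -/
theorem nonempty_phi_phi_iso_id (a : X ⟶ S) (b : Y ⟶ S)
    [QuasiCompact a] [QuasiSeparated a] [QuasiCompact b] [QuasiSeparated b] [IsSeparated a] [Flat a] [Flat b]
    (K : CochainComplex (pullback a b).Modules ℤ) (M : CochainComplex (pullback b a).Modules ℤ)
    (hK : DCoh.IsQCohD (DCoh.toD _ K)) (hM : DCoh.IsQCohD (DCoh.toD _ M))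
    [DCoh.HasLpull (pullback.fst a b)] [DCoh.HasLTensorCx K] [DCoh.HasRpush (pullback.snd a b)]
    [DCoh.HasLpull (pullback.fst b a)] [DCoh.HasLTensorCx M] [DCoh.HasRpush (pullback.snd b a)]
    [DCoh.HasLpull (FMK.p12 a b a)] [DCoh.HasRpush (FMK.p13 a b a)]
    [DCoh.HasLTensorCx ((FMK.cxPull (FMK.p23 a b a)).obj M)]
    (e : FMK.diagO a ≅ FMK.conv a b a K ((FMK.cxPull (FMK.p23 a b a)).obj M)) :
    Nonempty (qc X ≅ qc X ⋙ FMK.phi a b K ⋙ FMK.phi b a M) := by
  haveI := hasLpull (FMK.p23 a b a)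
  haveI := hasLpull (pullback.fst a a)
  haveI := hasRpush_scheme (pullback.snd a a)
  haveI : Flat (FMK.p23 a b a) := inferInstanceAs (Flat (pullback.snd (pullback.snd a b) (pullback.fst b a)))
  obtain ⟨N, ⟨eN⟩⟩ : ∃ N : CochainComplex (pullback a a).Modules ℤ, Nonempty (DCoh.toD _ N ≅ FMK.diagO a) :=
    ⟨_, ⟨DerivedCategory.Q.objObjPreimageIso _⟩⟩
  haveI := hasLTensorCx N
  obtain ⟨eL⟩ := nonempty_cxPull_iso_lpull (FMK.p23 a b a) M
  obtain ⟨i⟩ := nonempty_phi_conv a b a (Or.inl inferInstance) K M hK hM _ eL N (eN ≪≫ e)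
  obtain ⟨j⟩ := Groth.Agent.S13565.result a N ⟨eN⟩
  exact ⟨(Functor.rightUnitor _).symm ≪≫ Functor.isoWhiskerLeft _ j.symm ≪≫ i⟩

/-- The tensor product of perfect objects is perfect, for any representing complex. -/
theorem isPerfect_ltensor' (L : CochainComplex X.Modules ℤ) [DCoh.HasLTensorCx L]
    (hL : DCoh.IsPerfect (DCoh.toD X L)) {E : DCoh.D X} (hE : DCoh.IsPerfect E) :
    DCoh.IsPerfect ((DCoh.LTensorCx L).obj E) := by
  let P := (kRes X).obj L
  let eP : DCoh.toD X P ≅ DCoh.toD X L := (resQIso X).app L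
  haveI := hasLTensorCx P
  obtain ⟨c⟩ := nonempty_LTensorCx_congr_D (P := P) (E := L) eP
  exact isPerfect_congr (c.app E) (isPerfect_ltensor P (isKFlat_kRes _) (isPerfect_congr eP.symm hL) hE)

/-- Fourier–Mukai functors with quasi-coherent kernels preserve quasi-coherence. -/
theorem isQCohD_phi (a : X ⟶ S) (b : Y ⟶ S) [QuasiCompact a] [QuasiSeparated a]
    (K : CochainComplex (pullback a b).Modules ℤ) (hK : DCoh.IsQCohD (DCoh.toD _ K))
    [DCoh.HasLpull (pullback.fst a b)] [DCoh.HasLTensorCx K] [DCoh.HasRpush (pullback.snd a b)]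
    {E : DCoh.D X} (hE : DCoh.IsQCohD E) : DCoh.IsQCohD ((FMK.phi a b K).obj E) :=
  isQCohD_rpush (pullback.snd a b) (isQCohD_ltensor K hK (isQCohD_lpull _ hE))

/-- Fourier–Mukai functors with perfect kernels preserve perfect objects. -/
theorem isPerfect_phi (a : X ⟶ S) (b : Y ⟶ S) [IsProper a] [Flat a] [LocallyOfFinitePresentation a]
    (K : CochainComplex (pullback a b).Modules ℤ) (hK : DCoh.IsPerfect (DCoh.toD _ K))
    [DCoh.HasLpull (pullback.fst a b)] [DCoh.HasLTensorCx K] [DCoh.HasRpush (pullback.snd a b)]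
    {E : DCoh.D X} (hE : DCoh.IsPerfect E) : DCoh.IsPerfect ((FMK.phi a b K).obj E) :=
  (isPerfect_iff _).2 (TorBC.locSP_rpush_properFlat (pullback.snd a b)
    ((isPerfect_iff _).1 (isPerfect_ltensor' K hK (isPerfect_lpull _ hE))))

end Groth.Agent.H9Misc

namespace Groth.Agent.H9Misc

open KFlatLib

variable {S X Y : Scheme.{u}}

/-- Equivalence kernels give equivalences on any pair of corresponding subcategories of quasi-coherent objects. -/
theorem isEquivalence_phiOn (a : X ⟶ S) (b : Y ⟶ S)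
    [QuasiCompact a] [QuasiSeparated a] [QuasiCompact b] [QuasiSeparated b] [IsSeparated a] [IsSeparated b]
    [Flat a] [Flat b]
    (K : CochainComplex (pullback a b).Modules ℤ)
    [DCoh.HasLpull (pullback.fst a b)] [DCoh.HasLTensorCx K] [DCoh.HasRpush (pullback.snd a b)]
    [DCoh.HasLpull (FMK.p12 a b a)] [DCoh.HasRpush (FMK.p13 a b a)]
    [∀ L : CochainComplex (FMK.T a b a).Modules ℤ, DCoh.HasLTensorCx L]
    [DCoh.HasLpull (FMK.p12 b a b)] [DCoh.HasRpush (FMK.p13 b a b)]
    [∀ L : CochainComplex (FMK.T b a b).Modules ℤ, DCoh.HasLTensorCx L]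
    (hK : FMK.IsRelEquivKernel a b K)
    (P : ObjectProperty (DCoh.D X)) (Q : ObjectProperty (DCoh.D Y))
    (hP : ∀ M, P M → DCoh.IsQCohD M) (hQ : ∀ M, Q M → DCoh.IsQCohD M)
    (hG : ∀ (M : CochainComplex (pullback b a).Modules ℤ), DCoh.IsPerfect (DCoh.toD _ M) →
      ∀ [DCoh.HasLpull (pullback.fst b a)] [DCoh.HasLTensorCx M] [DCoh.HasRpush (pullback.snd b a)] (E : DCoh.D Y),
        Q E → P ((FMK.phi b a M).obj E))
    (h : ∀ M : DCoh.D X, P M → Q ((FMK.phi a b K).obj M)) :
    (FMK.phiOn a b K P Q h).IsEquivalence := by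
  obtain ⟨hp, K', hK', ⟨e₁⟩, ⟨e₂⟩⟩ := hK
  haveI := hasLpull (pullback.fst b a)
  haveI := hasLTensorCx K'
  haveI := hasRpush_scheme (pullback.snd b a)
  obtain ⟨i₁⟩ := nonempty_phi_phi_iso_id a b K K' (isQCohD_of_isPerfect hp) (isQCohD_of_isPerfect hK') e₁
  obtain ⟨i₂⟩ := nonempty_phi_phi_iso_id b a K' K (isQCohD_of_isPerfect hK') (isQCohD_of_isPerfect hp) e₂
  let jP := ObjectProperty.ιOfLE (fun M h => hP M h)
  let jQ := ObjectProperty.ιOfLE (fun M h => hQ M h)
  exact isEquivalence_lift_of_iso (FMK.phi a b K) (FMK.phi b a K') h (fun E hE => hG K' hK' E hE)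
    (NatIso.ofComponents (fun M => i₁.app (jP.obj M)) (fun {M N} f => i₁.hom.naturality (jP.map f)))
    (NatIso.ofComponents (fun M => (i₂.app (jQ.obj M)).symm) (fun {M N} f => i₂.inv.naturality (jQ.map f)))

end Groth.Agent.H9Misc

namespace Groth.Agent.H9Misc

/-- Restrict an isomorphism of functors to a smaller full subcategory. -/
noncomputable def restrictIso {C D : Type*} [Category C] [Category D] {P Q : ObjectProperty C} (h : ∀ M, P M → Q M)
    {F G : C ⥤ D} (e : Q.ι ⋙ F ≅ Q.ι ⋙ G) : P.ι ⋙ F ≅ P.ι ⋙ G :=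
  NatIso.ofComponents (fun M => e.app ⟨M.obj, h M.obj M.property⟩)
    (fun {M N} f => e.hom.naturality ((ObjectProperty.ιOfLE (P := P) (P' := Q) h).map f))

end Groth.Agent.H9Misc
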