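import Groth.Agent.H9Misc.DualNat
import Groth.Agent.H9Misc.PhiEquiv
import Groth.Agent.KExact.AdjTensorMain

/-!
# The right adjoint of a Fourier–Mukai functor with perfect kernel
-/

set_option autoImplicit false
set_option linter.style.haveILetI false
set_option maxHeartbeats 1000000

universe u

open CategoryTheory CategoryTheory.Limits AlgebraicGeometry

attribute [local instance] HasDerivedCategory.standard

namespace Groth.Agent.H9Misc

open KFlatLib Lib.DerivedNat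

section Cat

variable {C D : Type*} [Category C] [Category D]

/-- An adjunction restricts to preserved full subcategories. -/
theorem nonempty_lift_adj {P : ObjectProperty C} {Q : ObjectProperty D} {F : C ⥤ D} {G : D ⥤ C} (adj : F ⊣ G)
    (hF : ∀ M, P M → Q (F.obj M)) (hG : ∀ M, Q M → P (G.obj M)) :
    Nonempty (ObjectProperty.lift Q (P.ι ⋙ F) (fun M => hF M.obj M.property) ⊣
      ObjectProperty.lift P (Q.ι ⋙ G) (fun M => hG M.obj M.property)) :=
  ⟨adj.restrictFullyFaithful P.fullyFaithfulι Q.fullyFaithfulι (Iso.refl _) (Iso.refl _)⟩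

/-- An isomorphism after including a full subcategory is an isomorphism. -/
noncomputable def isoOfι {P : ObjectProperty C} {F G : D ⥤ P.FullSubcategory} (e : F ⋙ P.ι ≅ G ⋙ P.ι) : F ≅ G :=
  NatIso.ofComponents (fun M => P.isoMk (e.app M)) (fun f => P.hom_ext (e.hom.naturality f))

end Cat

local notation "qc" Z:max => ObjectProperty.ι (DCoh.IsQCohD (X := Z))

variable {S X Y : Scheme.{u}}

/-- Pulling back and pushing forward along an isomorphism is the identity. -/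
theorem nonempty_lpull_rpush_iso {U V : Scheme.{u}} (σ : U ≅ V) [DCoh.HasLpull σ.hom] [DCoh.HasRpush σ.hom] :
    Nonempty (DCoh.Lpull σ.hom ⋙ DCoh.Rpush σ.hom ≅ 𝟭 (DCoh.D V)) := by
  haveI := hasLpull σ.inv
  obtain ⟨i⟩ := nonempty_rpush_iso_lpull_inv σ.hom σ.inv σ.hom_inv_id σ.inv_hom_id
  haveI := hasLpull (σ.inv ≫ σ.hom)
  obtain ⟨c⟩ := KExact.A1Shriek.nonempty_lpull_comp' σ.inv σ.hom (σ.inv ≫ σ.hom) rfl
  obtain ⟨l⟩ := KExact.A1Shriek.nonempty_lpull_id (σ.inv ≫ σ.hom) σ.inv_hom_id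
  exact ⟨Functor.isoWhiskerLeft _ i ≪≫ c ≪≫ l⟩

/-- The transposed form of the right adjoint kernel functor. -/
theorem nonempty_phi_swap (a : X ⟶ S) (b : Y ⟶ S)
    [DCoh.HasLpull (pullback.snd a b)] [DCoh.HasRpush (pullback.fst a b)]
    [DCoh.HasLpull (pullbackSymmetry b a).hom]
    (N : CochainComplex (pullback a b).Modules ℤ) [DCoh.HasLTensorCx N]
    (K' : CochainComplex (pullback b a).Modules ℤ)
    (e : DCoh.toD _ K' ≅ (DCoh.Lpull (pullbackSymmetry b a).hom).obj (DCoh.toD _ N))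
    [DCoh.HasLpull (pullback.fst b a)] [DCoh.HasLTensorCx K'] [DCoh.HasRpush (pullback.snd b a)] :
    Nonempty (DCoh.Lpull (pullback.snd a b) ⋙ DCoh.LTensorCx N ⋙ DCoh.Rpush (pullback.fst a b) ≅
      FMK.phi b a K') := by
  let σ := pullbackSymmetry b a
  haveI := hasRpush_scheme σ.hom
  obtain ⟨c⟩ := KExact.A1Shriek.nonempty_lpull_comp' σ.hom (pullback.snd a b) (pullback.fst b a)
    (pullbackSymmetry_hom_comp_snd b a)
  obtain ⟨c'⟩ := nonempty_rpush_comp' σ.hom (pullback.fst a b) (pullback.snd b a)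
    (pullbackSymmetry_hom_comp_fst b a)
  obtain ⟨l⟩ := nonempty_lpull_ltensorCx σ.hom N K' e
  obtain ⟨j⟩ := nonempty_lpull_rpush_iso σ
  exact ⟨Functor.isoWhiskerLeft _ (Functor.isoWhiskerLeft _
      ((Functor.leftUnitor _).symm ≪≫ Functor.isoWhiskerRight j.symm _ ≪≫ Functor.associator _ _ _ ≪≫
        Functor.isoWhiskerLeft _ c')) ≪≫ Iso.refl _ ≪≫
    Functor.isoWhiskerLeft _ (Functor.isoWhiskerRight l (DCoh.Rpush (pullback.snd b a))) ≪≫ Iso.refl _ ≪≫
    Functor.isoWhiskerRight c (DCoh.LTensorCx K' ⋙ DCoh.Rpush (pullback.snd b a))⟩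

/-- Adjunction for a Fourier–Mukai functor with perfect kernel, given the dualizing complex of the projection. -/
theorem nonempty_phiOn_adj (a : X ⟶ S) (b : Y ⟶ S) [QuasiCompact a] [QuasiSeparated a] [QuasiCompact b]
    [QuasiSeparated b]
    (K : CochainComplex (pullback a b).Modules ℤ) (hK : DCoh.IsPerfect (DCoh.toD _ K))
    [DCoh.HasLpull (pullback.fst a b)] [DCoh.HasLTensorCx K] [DCoh.HasRpush (pullback.snd a b)]
    [DCoh.HasRSheafHom K] [DCoh.HasLpull (pullback.snd a b)]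
    (hR : DCoh.RpushPreservesQCoh (pullback.snd a b))
    (G : DCoh.DQCoh Y ⥤ DCoh.DQCoh (pullback a b)) (adj : DCoh.RpushQ (pullback.snd a b) hR ⊣ G)
    (E : CochainComplex (pullback a b).Modules ℤ) [DCoh.HasLTensorCx E] (hE : DCoh.IsQCohD (DCoh.toD _ E))
    (eG : G ⋙ ObjectProperty.ι _ ≅ qc Y ⋙ DCoh.Lpull (pullback.snd a b) ⋙ DCoh.LTensorCx E)
    [DCoh.HasLpull (pullbackSymmetry b a).hom]
    (K' : CochainComplex (pullback b a).Modules ℤ)
    (hK' : DCoh.toD _ K' ≅ (DCoh.Lpull (pullbackSymmetry b a).hom).obj ((DCoh.RSheafHom K).obj (DCoh.toD _ E)))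
    [DCoh.HasLpull (pullback.fst b a)] [DCoh.HasLTensorCx K'] [DCoh.HasRpush (pullback.snd b a)]
    (h : ∀ M : DCoh.D X, DCoh.IsQCohD M → DCoh.IsQCohD ((FMK.phi a b K).obj M))
    (h' : ∀ N : DCoh.D Y, DCoh.IsQCohD N → DCoh.IsQCohD ((FMK.phi b a K').obj N)) :
    Nonempty (FMK.phiOn a b K DCoh.IsQCohD DCoh.IsQCohD h ⊣ FMK.phiOn b a K' DCoh.IsQCohD DCoh.IsQCohD h') := by
  haveI := hasRpush_scheme (pullback.fst a b)
  obtain ⟨A⟩ := nonempty_lpull_rpush_adj (pullback.fst a b)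
  have hp : ∀ M, DCoh.IsQCohD M → DCoh.IsQCohD ((DCoh.Rpush (pullback.fst a b)).obj M) :=
    fun M hM => isQCohD_rpush (pullback.fst a b) hM
  obtain ⟨A₁⟩ := nonempty_lift_adj (P := DCoh.IsQCohD (X := X)) (Q := DCoh.IsQCohD (X := pullback a b)) A
    (fun M hM => isQCohD_lpull _ hM) hp
  have hT : ∀ M, DCoh.IsQCohD M → DCoh.IsQCohD ((DCoh.LTensorCx K).obj M) :=
    fun M hM => isQCohD_ltensor K (isQCohD_of_isPerfect hK) hM
  have hH : ∀ M, DCoh.IsQCohD M → DCoh.IsQCohD ((DCoh.RSheafHom K).obj M) :=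
    fun M hM => isQCohD_RSheafHom_of_isPerfect K hK M hM
  obtain ⟨A₂⟩ := nonempty_lift_adj (P := DCoh.IsQCohD (X := pullback a b)) (Q := DCoh.IsQCohD (X := pullback a b))
    (DCoh.RSheafHomAdj K) hT hH
  obtain ⟨Kd, ⟨eKd⟩⟩ : ∃ Kd : CochainComplex (pullback a b).Modules ℤ, Nonempty (DCoh.toD _ Kd ≅
      (DCoh.RSheafHom K).obj (DCoh.inD _ (Coh.structureModule (pullback a b)))) :=
    ⟨_, ⟨DerivedCategory.Q.objObjPreimageIso _⟩⟩
  haveI := hasLTensorCx Kd
  obtain ⟨θ⟩ := nonempty_ltensor_dual_natIso K hK Kd eKd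
  obtain ⟨N, ⟨eN⟩⟩ : ∃ N : CochainComplex (pullback a b).Modules ℤ, Nonempty (DCoh.toD _ N ≅
      (DCoh.RSheafHom K).obj (DCoh.toD _ E)) := ⟨_, ⟨DerivedCategory.Q.objObjPreimageIso _⟩⟩
  haveI := hasLTensorCx N
  obtain ⟨t⟩ := nonempty_ltensorCx_ltensorCx E Kd N (eN ≪≫ (θ.app _).symm)
  obtain ⟨w⟩ := nonempty_phi_swap a b N K' (hK' ≪≫ (DCoh.Lpull _).mapIso eN.symm)
  let eι : (G ⋙ ObjectProperty.ι _) ⋙ DCoh.RSheafHom K ⋙ DCoh.Rpush (pullback.fst a b) ≅ qc Y ⋙ FMK.phi b a K' :=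
    Functor.isoWhiskerRight eG _ ≪≫ Iso.refl _ ≪≫
      Functor.isoWhiskerLeft _ (Functor.isoWhiskerLeft (DCoh.Lpull (pullback.snd a b))
        (Functor.isoWhiskerLeft _ (Functor.isoWhiskerRight θ.symm _) ≪≫
          (Functor.associator _ _ _).symm ≪≫ Functor.isoWhiskerRight t _) ≪≫ w)
  exact ⟨(((A₁.comp A₂).comp adj).ofNatIsoLeft (isoOfι (Iso.refl _))).ofNatIsoRight (isoOfι eι)⟩

end Groth.Agent.H9Misc
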