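import Groth.Agent.S3618
import Groth.Agent.PerfMor.Scheme
import Groth.Agent.H9Misc.GorenDual
import Groth.Agent.H9Misc.PhiAdjoint
import Groth.Agent.KExact.External
import Groth.Agent.KExact.ExternalBdd
import Groth.Agent.S1766
import Groth.Agent.S3658

/-!
# The dualizing complex of a projection from a fibre product
-/

set_option autoImplicit false
set_option linter.style.haveILetI false
set_option maxHeartbeats 1000000

universe u

open CategoryTheory CategoryTheory.Limits AlgebraicGeometry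

attribute [local instance] HasDerivedCategory.standard

namespace Groth.Agent.H9Misc

open KFlatLib Lib.DerivedNat

variable {S X Y : Scheme.{u}}

/-- The pulled back structure module, as an object of `D_QCoh`. -/
theorem exists_structureQ (b : Y ⟶ S) [DCoh.HasLpull b] (OS : DCoh.DQCoh S)
    (hOS : OS.obj ≅ DCoh.inD S (Coh.structureModule S)) :
    Nonempty ((DCoh.Lpull b).obj OS.obj ≅ DCoh.inD Y (Coh.structureModule Y)) := by
  obtain ⟨u₀⟩ := KExact.nonempty_lpull_unitCx b
  exact ⟨(DCoh.Lpull b).mapIso (hOS ≪≫ (DerivedCategory.singleFunctorIsoCompQ _ 0).app _) ≪≫ u₀.symm ≪≫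
    ((DerivedCategory.singleFunctorIsoCompQ _ 0).app _).symm⟩

/-- Flat base change of relative dualizing complexes. -/
theorem nonempty_dualizingCx_baseChange {P : Scheme.{u}} (a : X ⟶ S) (b : Y ⟶ S) (p : P ⟶ X) (q : P ⟶ Y)
    (sq : IsPullback p q a b) [IsNoetherian S] [IsNoetherian X] [IsNoetherian Y]
    [CompactSpace ↥P] [QuasiSeparatedSpace ↥P]
    [IsProper a] [Flat a] [Flat b]
    [DCoh.HasRpush a] (hRa : DCoh.RpushPreservesQCoh a) [DCoh.HasShriek a hRa]
    [DCoh.HasRpush q] (hR : DCoh.RpushPreservesQCoh q)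
    [DCoh.HasShriek q hR] [DCoh.HasLpull b] [DCoh.HasLpull p]
    (OS : DCoh.DQCoh S) :
    Nonempty ((DCoh.Lpull p).obj (DCoh.dualizingCx a hRa OS) ≅
      DCoh.dualizingCx q hR ⟨(DCoh.Lpull b).obj OS.obj, isQCohD_lpull b OS.property⟩) := by
  haveI := hasRpush_scheme b
  haveI := hasRpush_scheme p
  haveI : LocallyOfFinitePresentation a := inferInstance
  haveI : QuasiCompact b := inferInstance
  haveI : QuasiSeparated b := inferInstance
  haveI : QuasiCompact p := MorphismProperty.of_isPullback (P := @QuasiCompact) sq.flip ‹QuasiCompact b›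
  haveI : QuasiSeparated p := MorphismProperty.of_isPullback (P := @QuasiSeparated) sq.flip ‹QuasiSeparated b›
  let hLg : Dual3.LpullPreservesQCoh b := fun K hK => isQCohD_lpull b hK
  let hLg' : Dual3.LpullPreservesQCoh p := fun K hK => isQCohD_lpull _ hK
  obtain ⟨A⟩ := nonempty_lpull_rpush_adj b
  obtain ⟨A'⟩ := nonempty_lpull_rpush_adj p
  obtain ⟨adjg⟩ := nonempty_lift_adj (P := DCoh.IsQCohD (X := S)) (Q := DCoh.IsQCohD (X := Y)) A hLg
    (fun K hK => isQCohD_rpush b hK)
  obtain ⟨adjg'⟩ := nonempty_lift_adj (P := DCoh.IsQCohD (X := X)) (Q := DCoh.IsQCohD (X := P)) A' hLg'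
    (fun K hK => isQCohD_rpush p hK)
  obtain ⟨e, hξ, hiso⟩ := Groth.Agent.S3618.result X S P Y a b q p
    sq (PerfMor.perfMor_of_flat a) hRa hR (fun K hK => isQCohD_rpush b hK)
    (fun K hK => isQCohD_rpush p hK) (DCoh.shriek a hRa) (DCoh.shriek q hR)
    (DCoh.shriekAdj a hRa) (DCoh.shriekAdj q hR) hLg hLg' adjg adjg'
  haveI := hiso OS
  exact ⟨(ObjectProperty.ι _).mapIso (asIso (Dual3.bcMap (DCoh.shriekAdj a hRa)
    (DCoh.shriekAdj q hR) e adjg adjg' OS (hξ _)))⟩

end Groth.Agent.H9Misc
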