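import Mathlib.RingTheory.LocalRing.Module
import Mathlib.RingTheory.Ideal.AssociatedPrime.Basic
import Mathlib.RingTheory.Ideal.Height
import Mathlib.RingTheory.Spectrum.Prime.FreeLocus
import Mathlib.RingTheory.Spectrum.Prime.Module
import Mathlib.Algebra.Module.LocalizedModule.Exact
import Mathlib.Algebra.Module.LocalizedModule.Submodule

/-!
# Basic elements (Serre's splitting theorem in small heights)
-/

set_option linter.style.haveILetI false
set_option maxHeartbeats 800000

universe u

open TensorProduct

namespace Groth.Agent.H9Misc.BasicElement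

variable {A : Type u} [CommRing A]

/-- Affine forms at finitely many primes can be made simultaneously nonzero. -/
theorem exists_avoid {n : ℕ} (S : Finset (PrimeSpectrum A)) (c0 : PrimeSpectrum A → A)
    (c : PrimeSpectrum A → Fin n → A) (h : ∀ p ∈ S, c0 p ∉ p.asIdeal ∨ ∃ i, c p i ∉ p.asIdeal) :
    ∃ a : Fin n → A, ∀ p ∈ S, c0 p + ∑ i, a i * c p i ∉ p.asIdeal := by
  classical
  induction S using Finset.strongInduction with
  | H S ih =>
    rcases S.eq_empty_or_nonempty with rfl | hne
    · exact ⟨0, by simp⟩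
    obtain ⟨p, hp, hmin⟩ := S.exists_minimal hne
    obtain ⟨a, ha⟩ := ih (S.erase p) (Finset.erase_ssubset hp) fun q hq => h q (Finset.mem_of_mem_erase hq)
    by_cases hpa : c0 p + ∑ i, a i * c p i ∈ p.asIdeal
    swap
    · exact ⟨a, fun q hq => if hqp : q = p then hqp ▸ hpa else ha q (Finset.mem_erase.2 ⟨hqp, hq⟩)⟩
    obtain ⟨i, hi⟩ : ∃ i, c p i ∉ p.asIdeal := by
      rcases h p hp with h0 | h1
      · by_contra hc
        push Not at hc
        exact h0 ((p.asIdeal.add_mem_iff_left (p.asIdeal.sum_mem fun i _ => Ideal.mul_mem_left _ _ (hc i))).1 hpa)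
      · exact h1
    have hb' : ∀ q ∈ S.erase p, ∃ x ∈ q.asIdeal, x ∉ p.asIdeal := fun q hq => by
      by_contra hc
      push Not at hc
      exact Finset.ne_of_mem_erase hq (le_antisymm hc (hmin (Finset.mem_of_mem_erase hq) hc))
    choose x hx hxp using hb'
    let b := ∏ q ∈ (S.erase p).attach, x q.1 q.2
    have hbp : b ∉ p.asIdeal := fun hb => by
      obtain ⟨q, -, hq⟩ := p.isPrime.prod_mem_iff.1 hb
      exact hxp q.1 q.2 hq
    refine ⟨a + (Pi.single i b : Fin n → A), fun q hq => ?_⟩
    have hsum : c0 q + ∑ j, (a + (Pi.single i b : Fin n → A)) j * c q j = (c0 q + ∑ j, a j * c q j) + b * c q i := by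
      simp [add_mul, Finset.sum_add_distrib, Pi.single_apply, Finset.sum_ite_eq', add_assoc]
    rw [hsum]
    rcases eq_or_ne q p with rfl | hqp
    · rw [q.asIdeal.add_mem_iff_right hpa]
      exact fun hm => (q.isPrime.mem_or_mem hm).elim hbp hi
    · have hq' : q ∈ S.erase p := Finset.mem_erase.2 ⟨hqp, hq⟩
      have hbq : b ∈ q.asIdeal := Ideal.prod_mem q.asIdeal (Finset.mem_attach _ ⟨q, hq'⟩) (hx q hq')
      rw [q.asIdeal.add_mem_iff_left (Ideal.mul_mem_right _ _ hbq)]
      exact ha q hq'

variable {M : Type u} [AddCommGroup M] [Module A M]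

/-- The fibre vector of an element. -/
noncomputable abbrev fv (p : PrimeSpectrum A) (x : M) : p.asIdeal.ResidueField ⊗[A] M := 1 ⊗ₜ x

/-- The fibre dimension. -/
noncomputable def fd (p : PrimeSpectrum A) (M : Type u) [AddCommGroup M] [Module A M] : ℕ :=
  Module.finrank p.asIdeal.ResidueField (p.asIdeal.ResidueField ⊗[A] M)

/-- The rank of a family at a prime. -/
noncomputable def rk {ι : Type*} (p : PrimeSpectrum A) (m : ι → M) : ℕ :=
  Module.finrank p.asIdeal.ResidueField
    (Submodule.span p.asIdeal.ResidueField (Set.range fun i => fv p (m i)))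

/-- Dimension of the fibre of the cokernel. -/
theorem finrank_quotient {ι : Type*} [Module.Finite A M] (p : PrimeSpectrum A) (m : ι → M) :
    fd p (M ⧸ Submodule.span A (Set.range m)) + rk p m = fd p M := by
  unfold fd
  let K := p.asIdeal.ResidueField
  let N := Submodule.span A (Set.range m)
  let π := N.mkQ.baseChange K
  have hs : Function.Surjective π := LinearMap.lTensor_surjective K N.mkQ_surjective
  have hex := lTensor_exact K (LinearMap.exact_subtype_mkQ N) N.mkQ_surjective
  have hker : LinearMap.ker π = Submodule.span K (Set.range fun i => fv p (m i)) := by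
    refine le_antisymm (fun x hx => ?_) (Submodule.span_le.2 ?_)
    · obtain ⟨y, rfl⟩ := (hex x).1 hx
      clear hx
      induction y with
      | zero => simp
      | add y z hy hz => rw [map_add]; exact add_mem hy hz
      | tmul c n =>
        obtain ⟨n, hn⟩ := n
        have h1 : fv p n ∈ Submodule.span K (Set.range fun i => fv p (m i)) := by
          induction hn using Submodule.span_induction with
          | mem z hz =>
            obtain ⟨i, rfl⟩ := hz
            exact Submodule.subset_span ⟨i, rfl⟩
          | zero => simp [fv]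
          | add a b _ _ ha hb => rw [fv, tmul_add]; exact add_mem ha hb
          | smul a z _ hz => rw [fv, tmul_smul]; exact Submodule.smul_of_tower_mem _ a hz
        have h2 := Submodule.smul_mem _ c h1
        rwa [fv, smul_tmul', smul_eq_mul, mul_one] at h2
    · rintro _ ⟨i, rfl⟩
      show N.mkQ.baseChange K (1 ⊗ₜ m i) = 0
      rw [LinearMap.baseChange_tmul, Submodule.mkQ_apply,
        (Submodule.Quotient.mk_eq_zero N).2 (Submodule.subset_span ⟨i, rfl⟩), tmul_zero]
  rw [rk, ← hker, ← (LinearMap.quotKerEquivOfSurjective π hs).finrank_eq]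
  exact Submodule.finrank_quotient_add_finrank _

/-- The fibre dimension is upper semicontinuous. -/
theorem isClosed_le_finrank [Module.Finite A M] (d : ℕ) :
    IsClosed {p : PrimeSpectrum A | d ≤ fd p M} := by
  rw [← isOpen_compl_iff, isOpen_iff_forall_mem_open]
  intro p hp
  simp only [Set.mem_compl_iff, Set.mem_setOf_eq, not_le] at hp
  let K := p.asIdeal.ResidueField
  have htop : Submodule.span K (Set.range fun x : M => fv p x) = ⊤ := by
    rw [eq_top_iff]
    intro y _
    induction y with
    | zero => simp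
    | add y z hy hz => exact add_mem (hy trivial) (hz trivial)
    | tmul c x =>
      have := Submodule.smul_mem (Submodule.span K (Set.range fun x : M => fv p x)) c (Submodule.subset_span ⟨x, rfl⟩)
      simpa only [fv, smul_tmul', smul_eq_mul, mul_one] using this
  obtain ⟨T, hT, hTspan, hTli⟩ := exists_linearIndependent K (Set.range fun x : M => fv p x)
  rw [htop] at hTspan
  have hTfin : T.Finite := hTli.setFinite
  haveI := hTfin.fintype
  have hcard : Fintype.card T = fd p M := by
    show _ = Module.finrank K (K ⊗[A] M)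
    have h := finrank_span_eq_card hTli
    rw [Subtype.range_coe, hTspan, finrank_top] at h
    exact h.symm
  choose g hg using fun t : T => hT t.2
  refine ⟨(Module.support A (M ⧸ Submodule.span A (Set.range g)))ᶜ, fun q hq => ?_, (Module.isClosed_support (R := A) (M := M ⧸ Submodule.span A (Set.range g))).isOpen_compl, ?_⟩
  · simp only [Set.mem_compl_iff, Set.mem_setOf_eq, not_le]
    rw [Set.mem_compl_iff, Module.mem_support_iff_nontrivial_residueField_tensorProduct, not_nontrivial_iff_subsingleton] at hq
    haveI := hq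
    have h := finrank_quotient q g
    rw [fd, Module.finrank_zero_of_subsingleton, zero_add] at h
    have h2 : rk q g ≤ Fintype.card T := finrank_range_le_card _
    omega
  · rw [Set.mem_compl_iff, Module.mem_support_iff_nontrivial_residueField_tensorProduct, not_nontrivial_iff_subsingleton]
    have h := finrank_quotient p g
    have h2 : rk p g = fd p M := by
      have h3 : (Set.range fun t : T => fv p (g t)) = T := by
        ext y
        exact ⟨fun ⟨t, ht⟩ => ht ▸ (show fv p (g t) ∈ T by rw [show fv p (g t) = _ from hg t]; exact t.2),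
          fun hy => ⟨⟨y, hy⟩, hg _⟩⟩
      rw [rk, h3, hTspan, finrank_top]
      rfl
    exact Module.finrank_zero_iff.1 (show fd p (M ⧸ Submodule.span A (Set.range g)) = 0 by omega)

variable [IsNoetherianRing A] [Module.Finite A M] (k : ℕ)

/-- One step: the number of elements decreases. -/
theorem exists_fewer {r n : ℕ} (hrk : k < r) (hn : 1 ≤ n)
    (hr : ∀ p : PrimeSpectrum A, p.asIdeal.height ≤ k → fd p M = r)
    (m : Fin (n + 1) → M)
    (hm : ∀ p : PrimeSpectrum A, p.asIdeal.height ≤ k → min (n + 1) (k + 1 - p.asIdeal.height.toNat) ≤ rk p m) :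
    ∃ w : Fin n → M, ∀ p : PrimeSpectrum A, p.asIdeal.height ≤ k → min n (k + 1 - p.asIdeal.height.toNat) ≤ rk p w := by
  classical
  let bad : Set (PrimeSpectrum A) := {p | p.asIdeal.height ≤ k ∧ rk p m ≤ n ∧ rk p m = k + 1 - p.asIdeal.height.toNat}
  have hbad : bad.Finite := by
    let C : ℕ → Set (PrimeSpectrum A) := fun t =>
      {p | r - t ≤ fd p (M ⧸ Submodule.span A (Set.range m))}
    have hC : ∀ t, ∃ I : Ideal A, C t = PrimeSpectrum.zeroLocus (I : Set A) :=
      fun t => (PrimeSpectrum.isClosed_iff_zeroLocus_ideal _).1 (isClosed_le_finrank _)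
    choose I hI using hC
    refine Set.Finite.subset (Set.Finite.preimage (fun _ _ _ _ h => PrimeSpectrum.ext h)
      (Set.Finite.biUnion (Set.finite_Iic n) fun t _ => (I t).finite_minimalPrimes_of_isNoetherianRing A))
      fun p ⟨hp, hpn, hpe⟩ => ?_
    refine Set.mem_biUnion (x := rk p m) hpn ⟨⟨p.isPrime, ?_⟩, ?_⟩
    · have : p ∈ C (rk p m) := by
        have h := finrank_quotient p m
        have h' := hr p hp
        simp only [C, Set.mem_setOf_eq]
        omega
      rw [hI] at this
      exact this
    · rintro q ⟨hq, hqI⟩ hqp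
      let q' : PrimeSpectrum A := ⟨q, hq⟩
      have hqC : q' ∈ C (rk p m) := by rw [hI]; exact hqI
      have hht : q'.asIdeal.height ≤ p.asIdeal.height := Ideal.height_mono hqp
      have hq'k := hht.trans hp
      have h1 := finrank_quotient q' m
      have h2 := hr q' hq'k
      have h3 := hm q' hq'k
      simp only [C, Set.mem_setOf_eq] at hqC
      by_contra hne
      haveI : q.IsPrime := hq
      haveI : p.asIdeal.FiniteHeight := ⟨Or.inr (ne_top_of_le_ne_top (ENat.natCast_ne_top k) hp)⟩
      haveI : q.FiniteHeight := ⟨Or.inr (ne_top_of_le_ne_top (ENat.natCast_ne_top k) hq'k)⟩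
      have hlt : q'.asIdeal.height < p.asIdeal.height := Ideal.height_strict_mono_of_isPrime (lt_of_le_not_ge hqp hne)
      obtain ⟨a, ha, hak⟩ := ENat.le_natCast_iff.1 hp
      obtain ⟨a', ha', ha'k⟩ := ENat.le_natCast_iff.1 hq'k
      rw [ha, ENat.toNat_natCast] at hpe
      rw [ha', ENat.toNat_natCast] at h3
      rw [ha, ha', ENat.natCast_lt_natCast] at hlt
      omega
  have hrel : ∀ p ∈ hbad.toFinset, ∃ G : Fin (n + 1) → A,
      (∃ i, G i ∉ p.asIdeal) ∧ ∑ i, algebraMap A p.asIdeal.ResidueField (G i) • fv p (m i) = 0 := fun p hp => by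
    obtain ⟨hpk, hpn, -⟩ := hbad.mem_toFinset.1 hp
    have hli : ¬ LinearIndependent p.asIdeal.ResidueField fun i => fv p (m i) := fun hli => by
      have h := finrank_span_eq_card hli
      simp only [Fintype.card_fin] at h
      change Module.finrank _ _ ≤ n at hpn
      omega
    obtain ⟨g, hg, i, hi⟩ := Fintype.not_linearIndependent_iff.1 hli
    obtain ⟨⟨D, hD⟩, hG⟩ := IsLocalization.exist_integer_multiples_of_finite (nonZeroDivisors (A ⧸ p.asIdeal)) g
    choose G' hG' using hG
    choose G hG using fun j => Ideal.Quotient.mk_surjective (G' j)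
    have hGg : ∀ j, algebraMap A p.asIdeal.ResidueField (G j) = algebraMap (A ⧸ p.asIdeal) _ D * g j := fun j => by
      rw [IsScalarTower.algebraMap_apply A (A ⧸ p.asIdeal), Ideal.Quotient.algebraMap_eq, hG, hG', Algebra.smul_def]
    refine ⟨G, ⟨i, fun hGi => hi ?_⟩, ?_⟩
    · have h0 : algebraMap A p.asIdeal.ResidueField (G i) = 0 := by
        rwa [Ideal.algebraMap_residueField_eq_zero]
      rw [hGg] at h0
      exact (mul_eq_zero.1 h0).resolve_left (IsFractionRing.to_map_ne_zero_of_mem_nonZeroDivisors hD)
    · simp only [hGg, mul_smul, ← Finset.smul_sum, hg, smul_zero]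
  choose G hG using hrel
  obtain ⟨a, ha⟩ := exists_avoid hbad.toFinset (fun p => if h : p ∈ hbad.toFinset then -G p h (Fin.last n) else 1)
    (fun p i => if h : p ∈ hbad.toFinset then G p h i.castSucc else 0) (fun p hp => by
      simp only [dif_pos hp]
      obtain ⟨i, hi⟩ := (hG p hp).1
      cases i using Fin.lastCases with
      | last => exact Or.inl (by rwa [Ideal.neg_mem_iff])
      | cast i => exact Or.inr ⟨i, hi⟩)
  refine ⟨fun i => m i.castSucc + a i • m (Fin.last n), fun p hp => ?_⟩
  let K := p.asIdeal.ResidueField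
  let w : Fin n → M := fun i => m i.castSucc + a i • m (Fin.last n)
  have hfv : ∀ i, fv p (w i) = fv p (m i.castSucc) + algebraMap A K (a i) • fv p (m (Fin.last n)) := fun i => by
    show (1 : K) ⊗ₜ[A] (m i.castSucc + a i • m (Fin.last n)) = _
    rw [tmul_add, tmul_smul, algebraMap_smul]
  have hle : Submodule.span K (Set.range fun i => fv p (m i)) ≤
      Submodule.span K (Set.range fun i => fv p (w i)) ⊔ K ∙ fv p (m (Fin.last n)) := by
    refine Submodule.span_le.2 ?_
    rintro _ ⟨i, rfl⟩
    cases i using Fin.lastCases with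
    | last => exact Submodule.mem_sup_right (Submodule.mem_span_singleton_self _)
    | cast i =>
      have : fv p (m i.castSucc) = fv p (w i) + (-algebraMap A K (a i)) • fv p (m (Fin.last n)) := by
        rw [hfv, add_assoc, ← add_smul, add_neg_cancel, zero_smul, add_zero]
      show fv p (m i.castSucc) ∈ _
      rw [this]
      exact Submodule.add_mem_sup (Submodule.subset_span ⟨i, rfl⟩)
        (Submodule.smul_mem _ _ (Submodule.mem_span_singleton_self _))
  have h1 : rk p m ≤ rk p w + 1 := by
    refine (Submodule.finrank_mono hle).trans ((Submodule.finrank_add_le_finrank_add_finrank _ _).trans ?_)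
    exact Nat.add_le_add_left ((finrank_span_le_card ({fv p (m (Fin.last n))} : Set _)).trans (by simp)) _
  have h2 := hm p hp
  by_cases hb : p ∈ bad
  · suffices h3 : rk p m ≤ rk p w by
      show _ ≤ rk p w
      omega
    have hb' := hbad.mem_toFinset.2 hb
    obtain ⟨-, hG0⟩ := hG p hb'
    have ha' := ha p hb'
    simp only [dif_pos hb'] at ha'
    rw [Fin.sum_univ_castSucc] at hG0
    have key : ∑ i : Fin n, algebraMap A K (G p hb' i.castSucc) • fv p (w i) =
        algebraMap A K (-G p hb' (Fin.last n) + ∑ i, a i * G p hb' i.castSucc) • fv p (m (Fin.last n)) := by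
      simp only [hfv, smul_add, Finset.sum_add_distrib, smul_smul, ← map_mul, map_add, map_sum, map_neg, add_smul,
        Finset.sum_smul, neg_smul, mul_comm (a _)]
      rw [eq_neg_of_add_eq_zero_left hG0]
    have hlast : fv p (m (Fin.last n)) ∈ Submodule.span K (Set.range fun i => fv p (w i)) := by
      refine (Submodule.smul_mem_iff _ (s := algebraMap A K (-G p hb' (Fin.last n) + ∑ i, a i * G p hb' i.castSucc)) ?_).1 ?_
      · rwa [Ne, Ideal.algebraMap_residueField_eq_zero]
      · rw [← key]
        exact Submodule.sum_mem _ fun i _ => Submodule.smul_mem _ _ (Submodule.subset_span ⟨i, rfl⟩)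
    exact Submodule.finrank_mono (hle.trans (sup_le le_rfl ((Submodule.span_singleton_le_iff_mem _ _).2 hlast)))
  · simp only [bad, Set.mem_setOf_eq, not_and] at hb
    show _ ≤ rk p w
    have hb' := hb hp
    omega

/-- A basic element. -/
theorem exists_basic {r : ℕ} (hrk : k < r)
    (hr : ∀ p : PrimeSpectrum A, p.asIdeal.height ≤ k → fd p M = r) :
    ∃ m : M, ∀ p : PrimeSpectrum A, p.asIdeal.height ≤ k → fv p m ≠ 0 := by
  suffices h : ∀ n : ℕ, 1 ≤ n → (∃ m : Fin n → M, ∀ p : PrimeSpectrum A, p.asIdeal.height ≤ k →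
      min n (k + 1 - p.asIdeal.height.toNat) ≤ rk p m) →
      ∃ m : Fin 1 → M, ∀ p : PrimeSpectrum A, p.asIdeal.height ≤ k → 1 ≤ rk p m by
    obtain ⟨n, g, hg⟩ := Module.Finite.exists_fin (R := A) (M := M)
    let g' : Fin (n + 1) → M := Fin.snoc g 0
    have hg' : Submodule.span A (Set.range g') = ⊤ := by
      rw [eq_top_iff, ← hg]
      exact Submodule.span_mono fun x ⟨i, hi⟩ => ⟨i.castSucc, by simp [g', hi]⟩
    obtain ⟨m, hm⟩ := h (n + 1) (by omega) ⟨g', fun p hp => by
      have h1 := finrank_quotient p g'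
      haveI : Subsingleton (M ⧸ Submodule.span A (Set.range g')) := Submodule.Quotient.subsingleton_iff.2 hg'
      rw [fd, Module.finrank_zero_of_subsingleton, zero_add, hr p hp] at h1
      omega⟩
    refine ⟨m 0, fun p hp h0 => ?_⟩
    have h1 := hm p hp
    rw [rk, show Submodule.span p.asIdeal.ResidueField (Set.range fun i => fv p (m i)) = ⊥ from
      Submodule.span_eq_bot.2 fun y ⟨i, hi⟩ => by rw [← hi, Subsingleton.elim i 0]; exact h0, finrank_bot] at h1
    exact absurd h1 (by omega)
  intro n hn
  induction n, hn using Nat.le_induction with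
  | base =>
    rintro ⟨m, hm⟩
    refine ⟨m, fun p hp => ?_⟩
    have h1 := hm p hp
    have h2 : p.asIdeal.height.toNat ≤ k := (ENat.toNat_le_toNat hp (ENat.natCast_ne_top k)).trans (ENat.toNat_natCast k).le
    omega
  | succ n hn ih =>
    rintro ⟨m, hm⟩
    exact ih (exists_fewer k hrk hn hr m hm)

omit [IsNoetherianRing A] [Module.Finite A M] in
/-- Quotient of a standard free module by a unimodular-coordinate element. -/
theorem nonempty_quot_equiv {R : Type u} [CommRing R] {F : Type u} [AddCommGroup F] [Module R F] {d : ℕ}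
    (e : F ≃ₗ[R] (Fin (d + 1) → R)) (x : F) (i : Fin (d + 1)) (hi : IsUnit (e x i)) :
    Nonempty ((F ⧸ R ∙ x) ≃ₗ[R] (Fin d → R)) := by
  obtain ⟨v, hv⟩ := hi
  let φ : F →ₗ[R] (Fin d → R) := LinearMap.pi fun j =>
    ((LinearMap.proj (i.succAbove j) : (Fin (d + 1) → R) →ₗ[R] R) ∘ₗ e.toLinearMap) -
      (e x (i.succAbove j) * (↑v⁻¹ : R)) • ((LinearMap.proj i : (Fin (d + 1) → R) →ₗ[R] R) ∘ₗ e.toLinearMap)
  have hφ : ∀ y j, φ y j = e y (i.succAbove j) - e x (i.succAbove j) * (↑v⁻¹ : R) * e y i := fun y j => rfl
  have hsurj : Function.Surjective φ := fun z => ⟨e.symm (i.insertNth 0 z), by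
    funext j
    rw [hφ]
    simp⟩
  have hker : LinearMap.ker φ = R ∙ x := by
    refine le_antisymm (fun y hy => Submodule.mem_span_singleton.2 ⟨↑v⁻¹ * e y i, e.injective ?_⟩)
      ((Submodule.span_singleton_le_iff_mem _ _).2 ?_)
    · funext j
      rw [map_smul, Pi.smul_apply, smul_eq_mul]
      obtain rfl | ⟨j, rfl⟩ := Fin.eq_self_or_eq_succAbove i j
      · rw [← hv, mul_right_comm, Units.inv_mul, one_mul]
      · have := congrFun (LinearMap.mem_ker.1 hy) j
        rw [hφ, Pi.zero_apply, sub_eq_zero] at this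
        rw [this]; ring
    · rw [LinearMap.mem_ker]
      funext j
      rw [hφ, ← hv, mul_assoc, Units.inv_mul, mul_one, sub_self]; rfl
  exact ⟨(Submodule.quotEquivOfEq _ _ hker.symm).trans (φ.quotKerEquivOfSurjective hsurj)⟩

omit [IsNoetherianRing A] [Module.Finite A M] in
/-- The fibre of a module free at a prime. -/
theorem finrank_fibre {r : ℕ} (p : PrimeSpectrum A)
    (e : LocalizedModule p.asIdeal.primeCompl M ≃ₗ[Localization.AtPrime p.asIdeal] (Fin r → Localization.AtPrime p.asIdeal)) :
    fd p M = r ∧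
      ∀ m : M, fv p m ≠ 0 → ∃ i, IsUnit (e (LocalizedModule.mk m 1) i) := by
  let R := Localization.AtPrime p.asIdeal
  let K := p.asIdeal.ResidueField
  let E := LocalizedModule.equivTensorProduct p.asIdeal.primeCompl M
  let c := AlgebraTensorModule.cancelBaseChange A R K K M
  let f : (R ⊗[A] M) ≃ₗ[R] (Fin r → R) := E.symm.trans e
  have f' : (K ⊗[A] M) ≃ₗ[K] K ⊗[R] (Fin r → R) := c.symm.trans (LinearEquiv.baseChange R K _ _ f)
  refine ⟨by rw [fd, f'.finrank_eq, Module.finrank_baseChange, Module.finrank_pi, Fintype.card_fin], fun m hm => ?_⟩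
  by_contra hc
  push Not at hc
  refine hm ?_
  have h1 : (1 : K) ⊗ₜ[R] ((1 : R) ⊗ₜ[A] m) = 0 := by
    refine (LinearEquiv.baseChange R K _ _ f).injective ?_
    rw [map_zero, LinearEquiv.baseChange_tmul]
    have hE : f ((1 : R) ⊗ₜ[A] m) = e (LocalizedModule.mk m 1) := by
      show e (E.symm ((1 : R) ⊗ₜ[A] m)) = _
      rw [LocalizedModule.equivTensorProduct_symm_apply_tmul_one]
    rw [hE, pi_eq_sum_univ (e (LocalizedModule.mk m 1)), tmul_sum]
    refine Finset.sum_eq_zero fun i _ => ?_
    rw [← smul_tmul, show (e (LocalizedModule.mk m 1) i) • (1 : K) = 0 from ?_, zero_tmul]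
    rw [Algebra.smul_def, mul_one]
    exact (IsLocalRing.residue_eq_zero_iff _).2 ((IsLocalRing.mem_maximalIdeal _).2 (hc i))
  have h2 := congrArg c h1
  rw [map_zero] at h2
  simpa [c] using h2

/-- The statement. -/
theorem exists_free_submodule {d : ℕ}
    (hAss : ∀ p ∈ associatedPrimes A A, p.height ≤ k) :
    ∀ (M : Type u) [AddCommGroup M] [Module A M] [Module.Finite A M],
    (∀ p : PrimeSpectrum A, p.asIdeal.height ≤ k →
      Nonempty (LocalizedModule p.asIdeal.primeCompl M ≃ₗ[Localization.AtPrime p.asIdeal]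
        (Fin (k + d) → Localization.AtPrime p.asIdeal))) →
    ∃ f : (Fin d → A) →ₗ[A] M, Function.Injective f ∧
      ∀ p : PrimeSpectrum A, p.asIdeal.height ≤ k →
        Nonempty (LocalizedModule p.asIdeal.primeCompl (M ⧸ LinearMap.range f) ≃ₗ[Localization.AtPrime p.asIdeal]
          (Fin k → Localization.AtPrime p.asIdeal)) := by
  induction d with
  | zero =>
    intro M _ _ _ hM
    refine ⟨0, fun a b _ => Subsingleton.elim a b, fun p hp => ?_⟩
    obtain ⟨e⟩ := hM p hp
    let q : (M ⧸ LinearMap.range (0 : (Fin 0 → A) →ₗ[A] M)) ≃ₗ[A] M :=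
      (Submodule.quotEquivOfEq _ _ (by simp)).trans (Submodule.quotEquivOfEqBot ⊥ rfl)
    exact ⟨(IsLocalizedModule.mapEquiv p.asIdeal.primeCompl (LocalizedModule.mkLinearMap _ _)
      (LocalizedModule.mkLinearMap _ _) (Localization.AtPrime p.asIdeal) q).trans e⟩
  | succ d ih =>
    intro M _ _ _ hM
    obtain ⟨m, hm⟩ := exists_basic (M := M) k (r := k + (d + 1)) (by omega)
      fun p hp => (finrank_fibre p (hM p hp).some).1
    let M' := M ⧸ A ∙ m
    obtain ⟨f', hf', hq⟩ := ih M' fun p hp => by
      obtain ⟨e⟩ := hM p hp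
      obtain ⟨i, hi⟩ := (finrank_fibre p e).2 m (hm p hp)
      obtain ⟨e'⟩ := nonempty_quot_equiv (d := k + d) e (LocalizedModule.mk m 1) i hi
      have hloc : (A ∙ m).localized p.asIdeal.primeCompl =
          Localization.AtPrime p.asIdeal ∙ (LocalizedModule.mk m 1 : LocalizedModule p.asIdeal.primeCompl M) := by
        show (A ∙ m).localized' _ _ (LocalizedModule.mkLinearMap _ _) = _
        rw [Submodule.localized'_span, Set.image_singleton]
        rfl
      exact ⟨((localizedQuotientEquiv p.asIdeal.primeCompl (A ∙ m)).symm.trans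
        (Submodule.quotEquivOfEq _ _ hloc)).trans e'⟩
    choose g hg using fun i => Submodule.mkQ_surjective (A ∙ m) (f' (Pi.single i 1))
    let f : (Fin (d + 1) → A) →ₗ[A] M := Fintype.linearCombination A (Fin.cons m g)
    have hfe : ∀ a, f a = a 0 • m + Fintype.linearCombination A g (Fin.tail a) := fun a => by
      simp [f, Fintype.linearCombination_apply, Fin.sum_univ_succ, Fin.tail]
    have hfq : ∀ a, (A ∙ m).mkQ (Fintype.linearCombination A g a) = f' a := fun a => by
      suffices h : (A ∙ m).mkQ ∘ₗ Fintype.linearCombination A g = f' from LinearMap.congr_fun h a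
      refine LinearMap.pi_ext' fun i => LinearMap.ext_ring ?_
      simp only [LinearMap.comp_apply, LinearMap.coe_single, Fintype.linearCombination_apply_single, one_smul]
      exact hg i
    refine ⟨f, (injective_iff_map_eq_zero f).2 fun a ha => ?_, fun p hp => ?_⟩
    · rw [hfe] at ha
      have ht : Fin.tail a = 0 := hf' (by
        rw [map_zero, ← hfq]
        have := congrArg (A ∙ m).mkQ ha
        rwa [map_add, map_zero, map_smul, Submodule.mkQ_apply _ m,
          (Submodule.Quotient.mk_eq_zero (A ∙ m)).2 (Submodule.mem_span_singleton_self m), smul_zero, zero_add] at this)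
      rw [ht, map_zero, add_zero] at ha
      have h0 : a 0 = 0 := by
        by_contra h0
        obtain ⟨P, hP, hle⟩ := exists_le_isAssociatedPrime_of_isNoetherianRing A (a 0) h0
        haveI := hP.isPrime
        obtain ⟨p, rfl⟩ : ∃ p : PrimeSpectrum A, p.asIdeal = P := ⟨⟨P, hP.isPrime⟩, rfl⟩
        have hp : p.asIdeal.height ≤ k := hAss p.asIdeal hP
        obtain ⟨e⟩ := hM p hp
        obtain ⟨i, hi⟩ := (finrank_fibre p e).2 m (hm p hp)
        have hz : a 0 • (LocalizedModule.mk m 1 : LocalizedModule p.asIdeal.primeCompl M) = 0 := by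
          rw [LocalizedModule.smul'_mk, ha]; exact LocalizedModule.zero_mk _
        have hz' : algebraMap A (Localization.AtPrime p.asIdeal) (a 0) * e (LocalizedModule.mk m 1) i = 0 := by
          rw [← smul_eq_mul, ← Pi.smul_apply, ← map_smul, algebraMap_smul, hz, map_zero]; rfl
        rw [hi.mul_left_eq_zero, IsLocalization.map_eq_zero_iff p.asIdeal.primeCompl] at hz'
        obtain ⟨⟨s, hs⟩, hs0⟩ := hz'
        refine hs (hle ?_)
        simpa [Submodule.mem_colon_singleton, mul_comm] using hs0
      funext i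
      refine Fin.cases h0 (fun j => congrFun ht j) i
    · obtain ⟨e⟩ := hq p hp
      let π : M →ₗ[A] M' ⧸ LinearMap.range f' := (LinearMap.range f').mkQ ∘ₗ (A ∙ m).mkQ
      have hker : LinearMap.ker π = LinearMap.range f := by
        ext x
        simp only [π, LinearMap.mem_ker, LinearMap.comp_apply, Submodule.mkQ_apply, Submodule.Quotient.mk_eq_zero,
          LinearMap.mem_range]
        constructor
        · rintro ⟨b, hb⟩
          rw [← hfq b] at hb
          replace hb := (Submodule.Quotient.eq (A ∙ m)).1 hb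
          obtain ⟨c, hc⟩ := Submodule.mem_span_singleton.1 hb
          refine ⟨Fin.cons (-c) b, ?_⟩
          rw [hfe, Fin.cons_zero, Fin.tail_cons, neg_smul, hc]
          abel
        · rintro ⟨b, rfl⟩
          refine ⟨Fin.tail b, ?_⟩
          rw [← hfq, hfe]
          refine (Submodule.Quotient.eq (A ∙ m)).2 ?_
          rw [sub_add_cancel_right]
          exact neg_mem (Submodule.smul_mem _ _ (Submodule.mem_span_singleton_self m))
      let q : (M ⧸ LinearMap.range f) ≃ₗ[A] (M' ⧸ LinearMap.range f') :=
        (Submodule.quotEquivOfEq _ _ hker.symm).trans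
          (π.quotKerEquivOfSurjective ((Submodule.mkQ_surjective _).comp (Submodule.mkQ_surjective _)))
      exact ⟨(IsLocalizedModule.mapEquiv p.asIdeal.primeCompl (LocalizedModule.mkLinearMap _ _)
        (LocalizedModule.mkLinearMap _ _) (Localization.AtPrime p.asIdeal) q).trans e⟩

end Groth.Agent.H9Misc.BasicElement
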