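import Mathlib

/-! Bounded complexes of injective objects in the derived category. -/

set_option linter.style.haveILetI false

universe w v u

open CategoryTheory CategoryTheory.Category CategoryTheory.Limits CategoryTheory.Pretriangulated

namespace Groth.Agent.H9Misc.BddInjective

variable {A : Type u} [Category.{v} A] [Abelian A] [HasDerivedCategory.{w} A]

lemma lift_to_injective {K L : CochainComplex A ℤ} [L.IsKInjective]
    (f : DerivedCategory.Q.obj K ⟶ DerivedCategory.Q.obj L) :
    ∃ ψ : K ⟶ L, DerivedCategory.Q.map ψ = f := by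
  let e := DerivedCategory.quotientCompQhIso A
  obtain ⟨g, hg⟩ := (CochainComplex.IsKInjective.Qh_map_bijective
    ((HomotopyCategory.quotient _ _).obj K) L).2 (e.hom.app K ≫ f ≫ e.inv.app L)
  obtain ⟨ψ, rfl⟩ := (HomotopyCategory.quotient _ _).map_surjective g
  refine ⟨ψ, ?_⟩
  have h := e.hom.naturality ψ
  simp only [Functor.comp_map, hg, Category.assoc, Iso.inv_hom_id_app, Category.comp_id] at h
  exact (cancel_epi (e.hom.app K)).1 h.symm

lemma shiftX_iso (E : CochainComplex A ℤ) (n i : ℤ) : Nonempty ((E⟦n⟧).X i ≅ E.X (i + n)) :=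
  ⟨Iso.refl _⟩

/-- Extensions of bounded injective complexes. -/
theorem obj₂ (T : Triangle (DerivedCategory A)) (hT : T ∈ distTriang (DerivedCategory A))
    (h₁ : (∃ (I : CochainComplex A ℤ) (b c : ℤ), I.IsStrictlyGE b ∧ I.IsStrictlyLE c ∧
        (∀ n : ℤ, Injective (I.X n)) ∧ Nonempty (T.obj₁ ≅ DerivedCategory.Q.obj I)))
    (h₃ : (∃ (I : CochainComplex A ℤ) (b c : ℤ), I.IsStrictlyGE b ∧ I.IsStrictlyLE c ∧
        (∀ n : ℤ, Injective (I.X n)) ∧ Nonempty (T.obj₃ ≅ DerivedCategory.Q.obj I))) :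
    (∃ (I : CochainComplex A ℤ) (b c : ℤ), I.IsStrictlyGE b ∧ I.IsStrictlyLE c ∧
        (∀ n : ℤ, Injective (I.X n)) ∧ Nonempty (T.obj₂ ≅ DerivedCategory.Q.obj I)) := by
  obtain ⟨I₁, b₁, c₁, hb₁, hc₁, hi₁, ⟨e₁⟩⟩ := h₁
  obtain ⟨I₃, b₃, c₃, hb₃, hc₃, hi₃, ⟨e₃⟩⟩ := h₃
  haveI := hi₁
  haveI : I₁.IsKInjective := CochainComplex.isKInjective_of_injective I₁ b₁
  let J : CochainComplex A ℤ := I₃⟦(-1 : ℤ)⟧
  let eJ : T.invRotate.obj₁ ≅ DerivedCategory.Q.obj J :=
    (shiftFunctor _ (-1 : ℤ)).mapIso e₃ ≪≫ ((DerivedCategory.Q.commShiftIso (-1 : ℤ)).app I₃).symm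
  obtain ⟨ψ, hψ⟩ := lift_to_injective (eJ.inv ≫ T.invRotate.mor₁ ≫ e₁.hom)
  obtain ⟨e, -, -⟩ := exists_iso_of_arrow_iso _ _
    (DerivedCategory.mappingCone_triangle_distinguished ψ) (inv_rot_of_distTriang _ hT)
    (Arrow.isoMk eJ.symm e₁.symm (by
      show eJ.inv ≫ T.invRotate.mor₁ = DerivedCategory.Q.map ψ ≫ e₁.inv
      rw [hψ]
      exact ((Category.assoc _ _ _).trans (congrArg (eJ.inv ≫ ·) ((Category.assoc _ _ _).trans
        ((congrArg (T.invRotate.mor₁ ≫ ·) e₁.hom_inv_id).trans (Category.comp_id _))))).symm))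
  refine ⟨CochainComplex.mappingCone ψ, min (b₃) b₁, max (c₃) c₁, ?_, ?_, fun i => ?_,
    ⟨(Triangle.π₃.mapIso e).symm⟩⟩
  · rw [CochainComplex.isStrictlyGE_iff]
    intro i hi
    haveI : HasBinaryBiproduct (J.X (i + 1)) (I₁.X i) := inferInstance
    refine IsZero.of_iso ?_ (HomologicalComplex.homotopyCofiber.XIsoBiprod ψ i (i + 1) rfl)
    rw [IsZero.iff_id_eq_zero]
    refine biprod.hom_ext _ _ ?_ ?_
    · obtain ⟨eX⟩ := shiftX_iso I₃ (-1) (i + 1)
      exact ((I₃.isZero_of_isStrictlyGE b₃ _ (by omega)).of_iso eX).eq_of_tgt _ _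
    · exact (I₁.isZero_of_isStrictlyGE b₁ i (by omega)).eq_of_tgt _ _
  · rw [CochainComplex.isStrictlyLE_iff]
    intro i hi
    haveI : HasBinaryBiproduct (J.X (i + 1)) (I₁.X i) := inferInstance
    refine IsZero.of_iso ?_ (HomologicalComplex.homotopyCofiber.XIsoBiprod ψ i (i + 1) rfl)
    rw [IsZero.iff_id_eq_zero]
    refine biprod.hom_ext _ _ ?_ ?_
    · obtain ⟨eX⟩ := shiftX_iso I₃ (-1) (i + 1)
      exact ((I₃.isZero_of_isStrictlyLE c₃ _ (by omega)).of_iso eX).eq_of_tgt _ _
    · exact (I₁.isZero_of_isStrictlyLE c₁ i (by omega)).eq_of_tgt _ _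
  · obtain ⟨eX⟩ := shiftX_iso I₃ (-1) (i + 1)
    haveI := hi₃ (i + 1 + -1)
    haveI : Injective (J.X (i + 1)) := Injective.of_iso eX.symm inferInstance
    exact Injective.of_iso
      (HomologicalComplex.homotopyCofiber.XIsoBiprod ψ i (i + 1) rfl).symm inferInstance

/-- Characterisation of finite injective dimension. -/
theorem exists_quasiIso_iff [EnoughInjectives A] (K : CochainComplex A ℤ) (a : ℤ) [K.IsStrictlyGE a] :
    (∃ (I : CochainComplex A ℤ) (b c : ℤ) (f : K ⟶ I), I.IsStrictlyGE b ∧ I.IsStrictlyLE c ∧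
        (∀ n : ℤ, Injective (I.X n)) ∧ QuasiIso f) ↔
      ∃ n₀ : ℤ, ∀ (Y : A) (i : ℤ), n₀ < i →
        ∀ φ : (DerivedCategory.singleFunctor A 0).obj Y ⟶ (DerivedCategory.Q.obj K)⟦i⟧, φ = 0 := by
  constructor
  · rintro ⟨I, b, c, f, hb, hc, hi, hf⟩
    refine ⟨c, fun Y i hic φ => ?_⟩
    haveI := hi
    haveI : ∀ m : ℤ, Injective ((I⟦i⟧).X m) := fun m => hi (m + i)
    haveI := CochainComplex.isStrictlyGE_shift I b i (b - i) (by omega)
    haveI := CochainComplex.isStrictlyLE_shift I c i (c - i) (by omega)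
    haveI : (I⟦i⟧).IsKInjective := CochainComplex.isKInjective_of_injective _ (b - i)
    let e : (DerivedCategory.Q.obj K)⟦i⟧ ≅ DerivedCategory.Q.obj (I⟦i⟧) :=
      (shiftFunctor _ i).mapIso (asIso (DerivedCategory.Q.map f)) ≪≫
        ((DerivedCategory.Q.commShiftIso i).app I).symm
    obtain ⟨ψ, hψ⟩ := lift_to_injective
      ((DerivedCategory.singleFunctorIsoCompQ A 0).inv.app Y ≫ φ ≫ e.hom)
    have h0 : ψ = 0 := HomologicalComplex.hom_ext _ _ fun m => by
      by_cases hm : m = 0
      · subst hm; exact ((I⟦i⟧).isZero_of_isStrictlyLE (c - i) 0 (by omega)).eq_of_tgt _ _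
      · exact (HomologicalComplex.isZero_single_obj_X (ComplexShape.up ℤ) 0 Y m hm).eq_of_src _ _
    rw [h0, Functor.map_zero] at hψ
    rw [← cancel_mono e.hom, ← cancel_epi ((DerivedCategory.singleFunctorIsoCompQ A 0).inv.app Y)]
    simpa using hψ.symm
  · rintro ⟨n₀, h⟩
    obtain ⟨I, φ, hφ, hinj, hI⟩ := CochainComplex.Plus.modelCategoryQuillen.exists_quasiIso_injective K a
    haveI := hφ; haveI := hinj; haveI := hI
    haveI : I.IsKInjective := CochainComplex.isKInjective_of_injective I a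
    have hfac : ∀ (i j : ℤ), j + 1 = i → n₀ < i → ∃ k : I.cycles i ⟶ I.X j, k ≫ I.d j i = I.iCycles i := by
      intro i j hj hi
      let L : CochainComplex A ℤ := (CochainComplex.singleFunctor A i).obj (I.cycles i)
      let g : L ⟶ I := HomologicalComplex.mkHomFromSingle (I.iCycles i) fun k hk => I.iCycles_d i k
      have hzero : DerivedCategory.Q.map g = 0 := by
        have hsub : ∀ ξ : (DerivedCategory.singleFunctor A i).obj (I.cycles i) ⟶ DerivedCategory.Q.obj K, ξ = 0 := by
          intro ξ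
          let s : ((DerivedCategory.singleFunctor A i).obj (I.cycles i))⟦i⟧ ≅
              (DerivedCategory.singleFunctor A 0).obj (I.cycles i) :=
            ((DerivedCategory.singleFunctors A).shiftIso i 0 i (by omega)).app _
          have := h (I.cycles i) i hi (s.inv ≫ ξ⟦i⟧')
          exact (shiftFunctor _ i).map_injective (by rw [Functor.map_zero, ← cancel_epi s.inv, this, comp_zero])
        have := hsub ((DerivedCategory.singleFunctorIsoCompQ A i).hom.app _ ≫ DerivedCategory.Q.map g ≫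
          inv (DerivedCategory.Q.map φ))
        rw [← cancel_mono (inv (DerivedCategory.Q.map φ)),
          ← cancel_epi ((DerivedCategory.singleFunctorIsoCompQ A i).hom.app _), this]
        simp
      let q := DerivedCategory.quotientCompQhIso A
      have hg : (HomotopyCategory.quotient _ _).map g = 0 := by
        refine (CochainComplex.IsKInjective.Qh_map_bijective _ I).1 ?_
        rw [Functor.map_zero, ← cancel_mono (q.hom.app I), zero_comp]
        exact (q.hom.naturality g).trans (by rw [hzero, comp_zero])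
      let H : Homotopy g 0 := HomotopyCategory.homotopyOfEq _ _ (hg.trans (Functor.map_zero _ _ _).symm)
      refine ⟨(HomologicalComplex.singleObjXSelf (ComplexShape.up ℤ) i (I.cycles i)).inv ≫ H.hom i j, ?_⟩
      have hc := H.comm i
      rw [dNext_eq _ (show (ComplexShape.up ℤ).Rel i (i + 1) from rfl),
        prevD_eq _ (show (ComplexShape.up ℤ).Rel j i from hj)] at hc
      simp only [HomologicalComplex.zero_f, add_zero] at hc
      have hd : L.d i (i + 1) = 0 :=
        (HomologicalComplex.isZero_single_obj_X (ComplexShape.up ℤ) i (I.cycles i) (i + 1) (by omega)).eq_of_tgt _ _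
      rw [hd, zero_comp, zero_add] at hc
      refine (assoc _ _ _).trans ((congrArg (_ ≫ ·) hc.symm).trans ?_)
      exact (congrArg (_ ≫ ·) (HomologicalComplex.mkHomFromSingle_f (I.iCycles i) _)).trans
        (Iso.inv_hom_id_assoc _ _)
    obtain ⟨c, hc⟩ : ∃ c, c = max n₀ a := ⟨_, rfl⟩
    have hex : ∀ i, c < i → I.ExactAt i := fun i hi => by
      obtain ⟨k, hk⟩ := hfac i (i - 1) (by omega) (by omega)
      rw [HomologicalComplex.exactAt_iff_isZero_homology, IsZero.iff_id_eq_zero,
        ← cancel_epi (I.homologyπ i), comp_zero, comp_id]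
      have h1 : k ≫ I.toCycles (i - 1) i = 𝟙 _ := by
        rw [← cancel_mono (I.iCycles i), assoc, I.toCycles_i, hk, id_comp]
      rw [← id_comp (I.homologyπ i), ← h1, assoc, I.toCycles_comp_homologyπ, comp_zero]
    haveI : Injective (I.cycles c) := by
      obtain ⟨k, hk⟩ := hfac (c + 1) c rfl (by omega)
      have h1 : (I.d c (c + 1) - I.d c (c + 1)) = 0 := sub_self _
      let t : I.X c ⟶ I.cycles c := I.liftCycles (𝟙 _ - I.toCycles c (c + 1) ≫ k) (c + 1) (by simp) (by
        rw [Preadditive.sub_comp, id_comp, assoc, hk, I.toCycles_i, sub_self])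
      have ht : I.iCycles c ≫ t = 𝟙 _ := by
        rw [← cancel_mono (I.iCycles c), assoc, I.liftCycles_i, Preadditive.comp_sub, comp_id, id_comp,
          ← assoc, show I.iCycles c ≫ I.toCycles c (c + 1) = 0 by
            rw [← cancel_mono (I.iCycles (c + 1)), assoc, I.toCycles_i, I.iCycles_d, zero_comp],
          zero_comp, sub_zero]
      exact Retract.injective ⟨I.iCycles c, t, ht⟩
    haveI : I.IsLE c := (CochainComplex.isLE_iff I c).2 fun i hi => hex i hi
    haveI : QuasiIso (I.ιTruncLE c) := ⟨fun i => by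
      rcases le_or_gt i c with hi | hi
      · exact I.quasiIsoAt_ιTruncLE c i hi
      · rw [quasiIsoAt_iff_exactAt']
        · exact CochainComplex.exactAt_of_isLE _ c i hi
        · exact hex i hi⟩
    let emb := ComplexShape.embeddingUpIntLE c
    have hTinj : ∀ i, Injective ((I.truncLE c).X i) := fun i => by
      rcases lt_or_ge c i with hic | hic
      · exact Injective.of_iso ((I.truncLE c).isZero_of_isStrictlyLE c i hic).isoZero.symm inferInstance
      obtain ⟨n, rfl⟩ : ∃ n : ℕ, c - n = i := ⟨(c - i).toNat, by omega⟩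
      rcases Nat.eq_zero_or_pos n with rfl | hn
      · have hf : Injective (I.cycles (c - (0 : ℕ))) := by rw [Nat.cast_zero, sub_zero]; assumption
        exact Injective.of_iso (HomologicalComplex.truncLEXIsoCycles I emb (i := 0) rfl
          ((ComplexShape.boundaryLE_embeddingUpIntLE_iff c 0).2 rfl)).symm hf
      · exact Injective.of_iso (HomologicalComplex.truncLEXIso I emb (i := n) rfl
          (fun hb => by have := (ComplexShape.boundaryLE_embeddingUpIntLE_iff c n).1 hb; omega)).symm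
          (hinj _)
    haveI hTge : (I.truncLE c).IsStrictlyGE a := (CochainComplex.isStrictlyGE_iff _ a).2 fun i hi => by
      obtain ⟨n, rfl⟩ : ∃ n : ℕ, c - n = i := ⟨(c - i).toNat, by omega⟩
      rcases Nat.eq_zero_or_pos n with rfl | hn
      · omega
      · exact (I.isZero_of_isStrictlyGE a _ hi).of_iso (HomologicalComplex.truncLEXIso I emb (i := n) rfl
          (fun hb => by have := (ComplexShape.boundaryLE_embeddingUpIntLE_iff c n).1 hb; omega))
    haveI := hTinj
    haveI : (I.truncLE c).IsKInjective := CochainComplex.isKInjective_of_injective _ a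
    obtain ⟨ψ, hψ⟩ := lift_to_injective (inv (DerivedCategory.Q.map (I.ιTruncLE c)))
    haveI : QuasiIso ψ := by
      rw [← DerivedCategory.isIso_Q_map_iff_quasiIso, hψ]; infer_instance
    exact ⟨I.truncLE c, a, c, φ ≫ ψ, hTge, inferInstance, hTinj, inferInstance⟩

end Groth.Agent.H9Misc.BddInjective
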