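import Mathlib.GroupTheory.SpecificGroups.Quaternion
import Mathlib.RingTheory.RootsOfUnity.PrimitiveRoots
import Mathlib.LinearAlgebra.Matrix.SpecialLinearGroup
import Mathlib.Tactic.LinearCombination
import Mathlib.Algebra.CharP.Algebra

/-! The binary dihedral group inside `SL₂`. -/

universe u v

open Matrix

namespace Groth.Agent.H9Misc

variable {K : Type u} {L : Type v} [Field K] [Field L] [CharZero K] [Algebra K L]

/-- The rotation. -/
def rot (c : K) : SpecialLinearGroup (Fin 2) K :=
  ⟨!![c, c ^ 2 - 1; 1, c], by rw [Matrix.det_fin_two_of]; ring⟩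

/-- The reflection. -/
def refl' (c x y : K) (h : x ^ 2 - (c ^ 2 - 1) * y ^ 2 = -1) : SpecialLinearGroup (Fin 2) K :=
  ⟨!![x, -((c ^ 2 - 1) * y); y, -x], by
    rw [Matrix.det_fin_two_of]; linear_combination (-1 : K) * h⟩

lemma refl'_mul_rot (c x y : K) (h) : refl' c x y h * rot c = (rot c)⁻¹ * refl' c x y h := by
  ext i j
  simp only [SpecialLinearGroup.coe_mul, SpecialLinearGroup.coe_inv]
  fin_cases i <;> fin_cases j <;>
    simp [refl', rot, Matrix.adjugate_fin_two, Matrix.mul_apply, Fin.sum_univ_two] <;> ring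

lemma refl'_mul_self (c x y : K) (h) : (refl' c x y h * refl' c x y h : Matrix (Fin 2) (Fin 2) K) = -1 := by
  ext i j
  fin_cases i <;> fin_cases j <;>
    simp [refl', Matrix.mul_apply, Fin.sum_univ_two] <;>
    first | linear_combination h | linear_combination -h | ring

lemma exists_coeff (c : K) {ξ e : L} (he : e * e = algebraMap K L (c ^ 2 - 1))
    (hξ : ξ = algebraMap K L c + e) (k : ℕ) :
    ∃ a b : K, ((rot c ^ k : SpecialLinearGroup (Fin 2) K) : Matrix (Fin 2) (Fin 2) K) =
        !![a, (c ^ 2 - 1) * b; b, a] ∧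
      algebraMap K L a + algebraMap K L b * e = ξ ^ k ∧
      algebraMap K L a - algebraMap K L b * e = (algebraMap K L c - e) ^ k := by
  induction k with
  | zero =>
    refine ⟨1, 0, ?_, by simp, by simp⟩
    ext i j
    fin_cases i <;> fin_cases j <;> simp
  | succ k ih =>
    obtain ⟨a, b, hm, h1, h2⟩ := ih
    refine ⟨a * c + (c ^ 2 - 1) * b, a + b * c, ?_, ?_, ?_⟩
    · rw [pow_succ, SpecialLinearGroup.coe_mul, hm]
      ext i j
      fin_cases i <;> fin_cases j <;> simp [rot, Matrix.mul_apply, Fin.sum_univ_two] <;> ring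
    · rw [pow_succ ξ, ← h1, hξ]
      simp only [map_add, map_mul]
      linear_combination (-algebraMap K L b) * he
    · rw [pow_succ (algebraMap K L c - e), ← h2]
      simp only [map_add, map_mul]
      linear_combination (-algebraMap K L b) * he

lemma exists_embedding (n : ℕ) (hn : 2 ≤ n) (ξ : L) (hξ : IsPrimitiveRoot ξ (2 * n)) (c : K)
    (hc : algebraMap K L (2 * c) = ξ + ξ⁻¹)
    (hsol : ∃ x y : K, x ^ 2 - (c ^ 2 - 1) * y ^ 2 = -1) :
    ∃ f : QuaternionGroup n →* SpecialLinearGroup (Fin 2) K, Function.Injective f := by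
  obtain ⟨x, y, hxy⟩ := hsol
  have : CharZero L := charZero_of_injective_ringHom (algebraMap K L).injective
  have hξ0 : ξ ≠ 0 := hξ.ne_zero (by lia)
  let e : L := ξ - algebraMap K L c
  have hc' : ξ⁻¹ = algebraMap K L c - e := by
    simp only [e]; rw [map_mul, map_ofNat] at hc; linear_combination -hc
  have he : e * e = algebraMap K L (c ^ 2 - 1) := by
    simp only [map_sub, map_pow, map_one]
    have : ξ * ξ⁻¹ = 1 := mul_inv_cancel₀ hξ0
    rw [hc'] at this
    simp only [e] at this ⊢
    linear_combination -this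
  have he0 : e ≠ 0 := fun h => by
    have h2 : ξ * ξ⁻¹ = 1 := mul_inv_cancel₀ hξ0
    have h3 : ξ⁻¹ = ξ := by rw [hc', h, sub_zero]; simp only [e] at h; linear_combination -h
    rw [h3] at h2
    exact hξ.pow_ne_one_of_pos_of_lt two_ne_zero (by lia) (by rw [sq]; exact h2)
  let R := rot c
  let T := refl' c x y hxy
  have key := exists_coeff c he (ξ := ξ) (by simp [e])
  have hpow : ∀ k, R ^ k = 1 → ξ ^ k = 1 := fun k hk => by
    obtain ⟨a, b, hm, h1, -⟩ := key k
    have hm' : (1 : Matrix (Fin 2) (Fin 2) K) = !![a, (c ^ 2 - 1) * b; b, a] := by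
      rw [← hm]; exact (congrArg Subtype.val hk).symm
    have ha : a = 1 := by simpa using (congrFun (congrFun hm' 0) 0).symm
    have hb : b = 0 := by simpa using (congrFun (congrFun hm' 1) 0).symm
    simpa [ha, hb] using h1.symm
  have hn1 : ξ ^ n = -1 :=
    IsPrimitiveRoot.eq_neg_one_of_two_right (hξ.pow (by lia) (mul_comm 2 n))
  have hRn : ((R ^ n : SpecialLinearGroup (Fin 2) K) : Matrix (Fin 2) (Fin 2) K) = -1 := by
    obtain ⟨a, b, hm, h1, h2⟩ := key n
    rw [← hc', inv_pow, hn1, inv_neg_one] at h2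
    rw [hn1] at h1
    have ha : a = -1 := (algebraMap K L).injective (by
      rw [map_neg, map_one]; linear_combination (h1 + h2) / 2)
    have hb : b = 0 := by
      have h4 : algebraMap K L b * e = 0 := by linear_combination (h1 - h2) / 2
      exact (algebraMap K L).injective (by rw [(mul_eq_zero.1 h4).resolve_right he0, map_zero])
    rw [hm, ha, hb]
    ext i j
    fin_cases i <;> fin_cases j <;> simp
  have hTT : T * T = R ^ n := by
    apply Subtype.ext
    rw [hRn]
    exact refl'_mul_self c x y hxy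
  have hR2n : R ^ (2 * n) = 1 := by
    apply Subtype.ext
    rw [two_mul, pow_add, SpecialLinearGroup.coe_mul, hRn]
    simp
  have : NeZero (2 * n) := ⟨by lia⟩
  let g : ZMod (2 * n) → SpecialLinearGroup (Fin 2) K := fun i => R ^ i.val
  have hg : ∀ i j, g (i + j) = g i * g j := fun i j => by
    simp only [g, ← pow_add, ZMod.val_add]
    exact (pow_eq_pow_mod _ hR2n).symm
  have hgn : g (n : ZMod (2 * n)) = R ^ n := by
    simp only [g]
    rw [ZMod.val_natCast, Nat.mod_eq_of_lt (by lia)]
  have hg0 : g 0 = 1 := by simp [g]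
  have hTg : ∀ i, T * g i = g (-i) * T := by
    intro i
    have h1 : ∀ k : ℕ, T * R ^ k = (R ^ k)⁻¹ * T := fun k => by
      rw [← inv_pow]
      exact (SemiconjBy.pow_right (show SemiconjBy T R R⁻¹ from refl'_mul_rot c x y hxy) k)
    have h2 : g (-i) = (g i)⁻¹ := eq_inv_of_mul_eq_one_left (by rw [← hg, neg_add_cancel, hg0])
    rw [h2]
    exact h1 _
  have hgT : ∀ i, g i * T = T * g (-i) := fun i => by rw [hTg, neg_neg]
  let f : QuaternionGroup n → SpecialLinearGroup (Fin 2) K
    | .a i => g i
    | .xa i => T * g i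
  have hmul : ∀ p q, f (p * q) = f p * f q := by
    rintro (i | i) (j | j)
    · exact hg i j
    · show T * g (j - i) = g i * (T * g j)
      rw [← mul_assoc, hgT, mul_assoc, ← hg, neg_add_eq_sub]
    · show T * g (i + j) = T * g i * g j
      rw [hg, mul_assoc]
    · show g ((n : ZMod (2 * n)) + j - i) = T * g i * (T * g j)
      rw [mul_assoc T, ← mul_assoc (g i), hgT, mul_assoc T, ← mul_assoc T, hTT, ← hgn, ← hg,
        ← hg, neg_add_eq_sub, add_sub_assoc]
  refine ⟨MonoidHom.mk' f hmul, ?_⟩
  rw [injective_iff_map_eq_one]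
  rintro (i | i) hi
  · have h := hpow _ hi
    have : i.val = 0 := by
      by_contra h0
      exact hξ.pow_ne_one_of_pos_of_lt h0 (ZMod.val_lt i) h
    rw [(ZMod.val_eq_zero i).1 this]
    rfl
  · exfalso
    have hT : T = g (-i) := by
      have : T * g i = 1 := hi
      rw [eq_mul_inv_of_mul_eq this, one_mul]
      exact inv_eq_of_mul_eq_one_left (by rw [← hg, neg_add_cancel, hg0])
    have h1 := refl'_mul_rot c x y hxy
    have hcomm : T * R = R * T := by
      rw [hT]; exact (Commute.pow_self R _).eq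
    have h2 : R * R = 1 := by
      have h3 : R * T = R⁻¹ * T := hcomm.symm.trans h1
      have h4 := mul_right_cancel h3
      calc R * R = R * R⁻¹ := by rw [← h4]
        _ = 1 := mul_inv_cancel R
    exact hξ.pow_ne_one_of_pos_of_lt two_ne_zero (by lia) (hpow 2 (by rw [sq]; exact h2))

end Groth.Agent.H9Misc
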