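import Groth.Prelude.Def_W4stkfunctorsequivSib
import Groth.Agent.S5616
import Mathlib.Algebra.Homology.DerivedCategory.SingleTriangle

/-!
# Dévissage in the bounded derived category along single objects
-/

set_option linter.style.haveILetI false
set_option maxHeartbeats 800000

universe w v u

open CategoryTheory CategoryTheory.Category CategoryTheory.Limits CategoryTheory.Pretriangulated
open scoped ZeroObject

namespace Groth.Agent.H9Misc.BoundedDev

variable {A : Type u} [Category.{v} A] [Abelian A] [HasDerivedCategory.{w} A]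

local notation "𝒟ᵇ" => DerivedCategory.Bounded A

/-- An object placed in degree `a`. -/
noncomputable abbrev S (a : ℤ) (M : A) : 𝒟ᵇ := ((DEquiv.singleB A).obj M)⟦-a⟧

/-- Its image in the derived category. -/
noncomputable def Siso (a : ℤ) (M : A) : (S a M).obj ≅ (DerivedCategory.singleFunctor A a).obj M :=
  ((DerivedCategory.Bounded.ι (C := A)).commShiftIso (-a)).app ((DEquiv.singleB A).obj M) ≪≫
    ((DerivedCategory.singleFunctors A).shiftIso (-a) a 0 (neg_add_cancel a)).app M

/-- An isomorphism in the bounded category from one in the derived category. -/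
noncomputable def isoOfObj {K L : 𝒟ᵇ} (e : K.obj ≅ L.obj) : K ≅ L :=
  (ObjectProperty.fullyFaithfulι _).preimageIso e

lemma isGE_single (a : ℤ) (M : A) : (S a M).obj.IsGE a :=
  DerivedCategory.TStructure.t.isGE_of_iso (Siso a M).symm a

lemma isLE_single (a : ℤ) (M : A) : (S a M).obj.IsLE a :=
  DerivedCategory.TStructure.t.isLE_of_iso (Siso a M).symm a

instance full_singleB : (DEquiv.singleB A).Full := by
  unfold DEquiv.singleB; infer_instance

instance faithful_singleB : (DEquiv.singleB A).Faithful := by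
  unfold DEquiv.singleB; infer_instance

/-- Negative Ext groups vanish. -/
lemma hom_eq_zero (X Y : A) (q : ℤ) (hq : q < 0)
    (f : (DEquiv.singleB A).obj X ⟶ ((DEquiv.singleB A).obj Y)⟦q⟧) : f = 0 := by
  obtain ⟨a, rfl⟩ : ∃ a, q = -a := ⟨-q, (neg_neg q).symm⟩
  apply (DerivedCategory.Bounded.ι (C := A)).map_injective
  rw [Functor.map_zero]
  haveI := isGE_single a Y
  haveI : ((DEquiv.singleB A).obj X).obj.IsLE 0 :=
    inferInstanceAs (((DerivedCategory.singleFunctor A 0).obj X).IsLE 0)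
  exact DerivedCategory.TStructure.t.zero_of_isLE_of_isGE _ 0 a (by omega) ‹_› ‹_›

/-- Positive Ext classes are effaced by epimorphisms. -/
lemma exists_epi_kill (X Y : A) (n : ℕ)
    (ξ : (DEquiv.singleB A).obj X ⟶ ((DEquiv.singleB A).obj Y)⟦((n + 1 : ℕ) : ℤ)⟧) :
    ∃ (X' : A) (p : X' ⟶ X), Epi p ∧ (DEquiv.singleB A).map p ≫ ξ = 0 := by
  haveI := hasExt_of_hasDerivedCategory A
  let ι := DerivedCategory.Bounded.ι (C := A)
  let x : Abelian.Ext.{w} X Y (n + 1) := Abelian.Ext.homEquiv.symm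
    (ι.map ξ ≫ (ι.commShiftIso ((n + 1 : ℕ) : ℤ)).hom.app ((DEquiv.singleB A).obj Y))
  obtain ⟨X', p, hp, h⟩ := Groth.Agent.S5616.exists_epi_comp_eq_zero n x
  refine ⟨X', p, hp, ?_⟩
  replace h := congrArg Abelian.Ext.hom h
  rw [Abelian.Ext.comp_hom, Abelian.Ext.mk₀_hom, ShiftedHom.mk₀_comp, Abelian.Ext.zero_hom] at h
  apply ι.map_injective
  rw [Functor.map_comp, Functor.map_zero]
  rw [← cancel_mono ((ι.commShiftIso ((n + 1 : ℕ) : ℤ)).hom.app ((DEquiv.singleB A).obj Y)), zero_comp, assoc]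
  have hx : x.hom = ι.map ξ ≫ (ι.commShiftIso ((n + 1 : ℕ) : ℤ)).hom.app ((DEquiv.singleB A).obj Y) :=
    Equiv.apply_symm_apply _ _
  rw [hx] at h
  exact h

/-- The triangle of a short exact sequence. -/
lemma exists_triangle {T : ShortComplex A} (hT : T.ShortExact) :
    ∃ δ : (DEquiv.singleB A).obj T.X₃ ⟶ ((DEquiv.singleB A).obj T.X₁)⟦(1 : ℤ)⟧,
      Triangle.mk ((DEquiv.singleB A).map T.f) ((DEquiv.singleB A).map T.g) δ ∈ distTriang 𝒟ᵇ := by
  let ι := DerivedCategory.Bounded.ι (C := A)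
  let e := (ι.commShiftIso (1 : ℤ)).app ((DEquiv.singleB A).obj T.X₁)
  refine ⟨ObjectProperty.homMk (hT.singleδ ≫ e.inv), ?_⟩
  refine isomorphic_distinguished _ hT.singleTriangle_distinguished _
    (Triangle.isoMk _ _ (Iso.refl _) (Iso.refl _) (Iso.refl _) ?_ ?_ ?_)
  · exact (comp_id _).trans (id_comp _).symm
  · exact (comp_id _).trans (id_comp _).symm
  · show ((hT.singleδ ≫ e.inv) ≫ e.hom) ≫ (𝟙 _)⟦(1 : ℤ)⟧' = 𝟙 _ ≫ hT.singleδ
    refine ((congrArg (fun t => ((hT.singleδ ≫ e.inv) ≫ e.hom) ≫ t) (CategoryTheory.Functor.map_id _ _)).trans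
      (comp_id _)).trans ?_
    refine (assoc _ _ _).trans ?_
    exact ((congrArg (fun t => hT.singleδ ≫ t) e.inv_hom_id).trans (comp_id _)).trans (id_comp _).symm

/-- Peeling off the lowest term of a representing complex. -/
lemma exists_step (K : 𝒟ᵇ) (a b : ℤ) (hab : a < b) [K.obj.IsGE a] [K.obj.IsLE b] :
    ∃ (M : A) (K' : 𝒟ᵇ) (i : K' ⟶ K) (q : K ⟶ S a M) (δ : S a M ⟶ K'⟦(1 : ℤ)⟧),
      Triangle.mk i q δ ∈ distTriang 𝒟ᵇ ∧ K'.obj.IsGE (a + 1) ∧ K'.obj.IsLE b := by
  obtain ⟨L, _, _, ⟨e⟩⟩ := DerivedCategory.exists_iso_Q_obj_of_isGE_of_isLE K.obj a b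
  let M := L.X a
  let ι := DerivedCategory.Bounded.ι (C := A)
  let H : ℤ → DerivedCategory A ⥤ A := fun n => DerivedCategory.homologyFunctor A n
  have hd : L.d (a - 1) a = 0 := (L.isZero_of_isStrictlyGE a (a - 1) (by omega)).eq_of_src _ _
  let φ : L ⟶ (CochainComplex.singleFunctor A a).obj M :=
    HomologicalComplex.mkHomToSingle (𝟙 M) (fun j hj => by
      obtain rfl : j = a - 1 := by simp at hj; omega
      rw [hd, zero_comp])
  let q : K ⟶ S a M := ObjectProperty.homMk
    (e.hom ≫ DerivedCategory.Q.map φ ≫ ((DerivedCategory.singleFunctorIsoCompQ A a).app M).inv ≫ (Siso a M).inv)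
  obtain ⟨K', i, δ, hT⟩ := distinguished_cocone_triangle₁ q
  have hT' := ι.map_distinguished _ hT
  have hq : Mono ((H a).map q.hom) := by
    haveI : Mono (HomologicalComplex.homologyMap φ a) := by
      let S' := (CochainComplex.singleFunctor A a).obj M
      have hS : S'.d (a - 1) a = 0 :=
        (HomologicalComplex.isZero_single_obj_X (ComplexShape.up ℤ) a M (a - 1) (by omega)).eq_of_src _ _
      haveI : IsIso (L.homologyπ a) := L.isIso_homologyπ (a - 1) a (by simp) hd
      haveI : IsIso (S'.homologyπ a) := S'.isIso_homologyπ (a - 1) a (by simp) hS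
      haveI : Mono (φ.f a) := by
        simp only [φ, HomologicalComplex.mkHomToSingle_f]
        exact mono_comp' inferInstance inferInstance
      haveI : Mono (HomologicalComplex.cyclesMap φ a) := mono_of_mono_fac (HomologicalComplex.cyclesMap_i φ a)
      have h := HomologicalComplex.homologyπ_naturality φ a
      rw [← IsIso.eq_inv_comp] at h
      rw [h]; infer_instance
    have h1 : Mono ((H a).map (DerivedCategory.Q.map φ)) :=
      ((MorphismProperty.monomorphisms A).arrow_mk_iso_iff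
        (((Functor.mapArrowFunctor _ _).mapIso (DerivedCategory.homologyFunctorFactors A a)).app (Arrow.mk φ))).2
        ‹Mono (HomologicalComplex.homologyMap φ a)›
    show Mono ((H a).map (e.hom ≫ DerivedCategory.Q.map φ ≫ _ ≫ _))
    simp only [Functor.map_comp]
    infer_instance
  haveI := isGE_single a M
  haveI := isLE_single a M
  refine ⟨M, K', i, q, δ, hT, ?_, ?_⟩
  · rw [DerivedCategory.isGE_iff]
    intro n hn
    haveI : Mono ((H n).map i.hom) := (DerivedCategory.HomologySequence.exact₁ _ hT' (n - 1) n (by omega)).mono_g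
      (((S a M).obj.isZero_of_isGE a (n - 1) (by omega)).eq_of_src _ _)
    haveI : Mono ((H n).map q.hom) := by
      rcases (show n < a ∨ n = a by omega) with h | rfl
      · exact ⟨fun g g' _ => (K.obj.isZero_of_isGE a n h).eq_of_tgt _ _⟩
      · exact hq
    refine IsZero.of_mono_eq_zero ((H n).map i.hom) ?_
    rw [← cancel_mono ((H n).map q.hom), zero_comp, ← Functor.map_comp]
    exact (congrArg (H n).map (comp_distTriang_mor_zero₁₂ _ hT')).trans (Functor.map_zero _ _ _)
  · rw [DerivedCategory.isLE_iff]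
    intro n hn
    exact (DerivedCategory.HomologySequence.exact₁ _ hT' (n - 1) n (by omega)).isZero_of_both_zeros
      (((S a M).obj.isZero_of_isLE a (n - 1) (by omega)).eq_of_src _ _)
      ((K.obj.isZero_of_isLE b n hn).eq_of_tgt _ _)

/-- An object concentrated in one degree. -/
lemma exists_iso_single (K : 𝒟ᵇ) (a : ℤ) [K.obj.IsGE a] [K.obj.IsLE a] : ∃ M, Nonempty (K ≅ S a M) := by
  obtain ⟨M, ⟨e⟩⟩ := DerivedCategory.exists_iso_singleFunctor_obj_of_isGE_of_isLE K.obj a
  exact ⟨M, ⟨isoOfObj (e ≪≫ (Siso a M).symm)⟩⟩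

/-- Every bounded object lies in some interval. -/
lemma exists_interval (K : 𝒟ᵇ) : ∃ (a : ℤ) (n : ℕ), K.obj.IsGE a ∧ K.obj.IsLE (a + n) := by
  obtain ⟨⟨a, ha⟩, ⟨b, hb⟩⟩ := K.property
  refine ⟨a, (b - a).toNat, ha, ?_⟩
  haveI : K.obj.IsLE b := hb
  exact DerivedCategory.TStructure.t.isLE_of_le K.obj b _ (by omega)

/-- Dévissage. -/
theorem induction (P : 𝒟ᵇ → Prop) (hiso : ∀ {K L : 𝒟ᵇ}, (K ≅ L) → P K → P L)
    (hS : ∀ (a : ℤ) (M : A), P (S a M))
    (hext : ∀ T ∈ distTriang 𝒟ᵇ, P T.obj₁ → P T.obj₃ → P T.obj₂) (K : 𝒟ᵇ) : P K := by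
  obtain ⟨a, n, h1, h2⟩ := exists_interval K
  induction n generalizing a K with
  | zero =>
    haveI : K.obj.IsLE a := by simpa using h2
    obtain ⟨M, ⟨e⟩⟩ := exists_iso_single K a
    exact hiso e.symm (hS a M)
  | succ n ih =>
    obtain ⟨M, K', i, q, δ, hT, h1', h2'⟩ := exists_step K a (a + (n + 1 : ℕ)) (by omega)
    haveI := h1'
    exact hext _ hT (ih K' (a + 1) h1' (by rwa [show a + 1 + (n : ℤ) = a + (n + 1 : ℕ) by omega])) (hS a M)

end Groth.Agent.H9Misc.BoundedDev
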