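import Mathlib.Algebra.Homology.DerivedCategory.Fractions
import Mathlib.Algebra.Homology.HomotopyCofiber
import Mathlib.Algebra.Homology.HomotopyCategory.MappingCone

/-! Roofs between bounded complexes in the derived category. -/

universe w v u

open CategoryTheory Category Limits HomologicalComplex

namespace Groth.Agent.H9Misc.BoundedRoofs

variable {A : Type u} [Category.{v} A] [Abelian A]

/-- A homotopy through the inclusion of a truncation lifts. -/
lemma quotient_map_eq_of_comp_ι {K Z : CochainComplex A ℤ} (n : ℤ) [K.IsStrictlyLE n] (g₁ g₂ : K ⟶ Z.truncLE n)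
    (h : (HomotopyCategory.quotient A (ComplexShape.up ℤ)).map (g₁ ≫ Z.ιTruncLE n) =
      (HomotopyCategory.quotient A (ComplexShape.up ℤ)).map (g₂ ≫ Z.ιTruncLE n)) :
    (HomotopyCategory.quotient A (ComplexShape.up ℤ)).map g₁ = (HomotopyCategory.quotient A (ComplexShape.up ℤ)).map g₂ := by
  let D : CochainComplex A ℤ := HomologicalComplex.cylinder K
  have hD : D.IsStrictlyLE n := (CochainComplex.isStrictlyLE_iff _ _).2 fun i hi => by
    have hB : IsZero ((K ⊞ K).X i) := ((biprod_isZero_iff _ _).2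
      ⟨K.isZero_of_isStrictlyLE n i hi, K.isZero_of_isStrictlyLE n i hi⟩).of_iso
        ((HomologicalComplex.eval A (ComplexShape.up ℤ) i).mapBiprod K K)
    exact ((biprod_isZero_iff _ _).2 ⟨K.isZero_of_isStrictlyLE n (i + 1) (by omega), hB⟩).of_iso
      (homotopyCofiber.XIsoBiprod (biprod.lift (𝟙 K) (-𝟙 K)) i (i + 1) rfl)
  let u : D ⟶ Z := cylinder.desc _ _ (HomotopyCategory.homotopyOfEq _ _ h)
  let u' : D ⟶ Z.truncLE n := inv (D.ιTruncLE n) ≫ CochainComplex.truncLEMap u n
  have hu : u' ≫ Z.ιTruncLE n = u := by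
    rw [assoc, CochainComplex.ιTruncLE_naturality, IsIso.inv_hom_id_assoc]
  have : Mono (Z.ιTruncLE n) := inferInstanceAs (Mono (HomologicalComplex.ιTruncLE Z _))
  have e₁ : cylinder.ι₀ K ≫ u' = g₁ := by
    rw [← cancel_mono (Z.ιTruncLE n), assoc, hu]; exact cylinder.ι₀_desc _ _ _
  have e₂ : cylinder.ι₁ K ≫ u' = g₂ := by
    rw [← cancel_mono (Z.ιTruncLE n), assoc, hu]; exact cylinder.ι₁_desc _ _ _
  rw [← e₁, ← e₂]
  clear_value u'
  rw [Functor.map_comp, Functor.map_comp, HomotopyCategory.eq_of_homotopy _ _ (cylinder.homotopy₀₁ K (fun j => ⟨j - 1, by simp⟩))]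

variable [HasDerivedCategory.{w} A]

open DerivedCategory in
lemma left_roofs (K L : CochainComplex A ℤ) (a b : ℤ) [K.IsStrictlyLE a] :
    (∀ φ : Qh.obj ((HomotopyCategory.quotient A _).obj K) ⟶ Qh.obj ((HomotopyCategory.quotient A _).obj L),
      ∃ (K' : HomotopyCategory A (ComplexShape.up ℤ)) (n : ℤ) (_ : CochainComplex.IsStrictlyLE K'.as n)
        (s : K' ⟶ (HomotopyCategory.quotient A _).obj K) (f : K' ⟶ (HomotopyCategory.quotient A _).obj L),
        HomotopyCategory.quasiIso A (ComplexShape.up ℤ) s ∧ Qh.map s ≫ φ = Qh.map f) ∧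
    (∀ f₁ f₂ : (HomotopyCategory.quotient A (ComplexShape.up ℤ)).obj K ⟶ (HomotopyCategory.quotient A _).obj L,
      Qh.map f₁ = Qh.map f₂ →
      ∃ (K' : HomotopyCategory A (ComplexShape.up ℤ)) (n : ℤ) (_ : CochainComplex.IsStrictlyLE K'.as n)
        (s : K' ⟶ (HomotopyCategory.quotient A _).obj K),
        HomotopyCategory.quasiIso A (ComplexShape.up ℤ) s ∧ s ≫ f₁ = s ≫ f₂) := by
  let E := quotientCompQhIso A
  refine ⟨fun φ => ?_, fun f₁ f₂ h => ?_⟩
  · obtain ⟨X, hX, s, hs, g, e⟩ := right_fac_of_isStrictlyLE (E.inv.app K ≫ φ ≫ E.hom.app L) a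
    refine ⟨(HomotopyCategory.quotient A _).obj X, a, hX, (HomotopyCategory.quotient A _).map s,
      (HomotopyCategory.quotient A _).map g,
      (HomotopyCategory.quotient_map_mem_quasiIso_iff s).2 ((isIso_Q_map_iff_quasiIso (φ := s)).1 hs), ?_⟩
    have hs₁ := E.hom.naturality s
    have hg := E.hom.naturality g
    rw [← cancel_mono (E.hom.app L)]
    refine Eq.trans ?_ hg.symm
    show (Qh.map _ ≫ φ) ≫ E.hom.app L = E.hom.app X ≫ Q.map g
    have e' : φ ≫ E.hom.app L = E.hom.app K ≫ inv (Q.map s) ≫ Q.map g := by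
      rw [← e]; exact (Iso.hom_inv_id_app_assoc E K _).symm
    rw [assoc, e']
    exact (assoc _ _ _).symm.trans ((congrArg (· ≫ _) hs₁).trans ((assoc _ _ _).trans
      (congrArg (_ ≫ ·) (IsIso.hom_inv_id_assoc (Q.map s) _))))
  · obtain ⟨X, t, ht, et⟩ := (MorphismProperty.map_eq_iff_precomp Qh (HomotopyCategory.quasiIso A _) _ _).1 h
    obtain ⟨X, rfl⟩ := HomotopyCategory.quotient_obj_surjective X
    obtain ⟨t, rfl⟩ := (HomotopyCategory.quotient _ _).map_surjective t
    have ht' : QuasiIso t := (HomotopyCategory.quotient_map_mem_quasiIso_iff t).1 ht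
    have hle : CochainComplex.IsLE X a := (CochainComplex.isLE_iff X a).2 fun i hi =>
      (exactAt_iff_of_quasiIsoAt t i).2 (K.exactAt_of_isLE a i hi)
    have hq : QuasiIso (CochainComplex.ιTruncLE X a) := (CochainComplex.quasiIso_ιTruncLE_iff X a).2 hle
    refine ⟨(HomotopyCategory.quotient A _).obj (CochainComplex.truncLE X a), a,
      inferInstanceAs (CochainComplex.IsStrictlyLE (CochainComplex.truncLE X a) a),
      (HomotopyCategory.quotient A _).map (CochainComplex.ιTruncLE X a ≫ t),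
      (HomotopyCategory.quotient_map_mem_quasiIso_iff _).2 (show QuasiIso _ from inferInstance), ?_⟩
    rw [Functor.map_comp, assoc, assoc, et]

open DerivedCategory in
lemma right_roofs (K L : CochainComplex A ℤ) (a b : ℤ) [K.IsStrictlyGE a] [K.IsStrictlyLE b]
    (a' b' : ℤ) [L.IsStrictlyGE a'] [L.IsStrictlyLE b'] :
    (∀ φ : Qh.obj ((HomotopyCategory.quotient A _).obj K) ⟶ Qh.obj ((HomotopyCategory.quotient A _).obj L),
      ∃ (L' : HomotopyCategory A (ComplexShape.up ℤ)) (m n : ℤ) (_ : CochainComplex.IsStrictlyGE L'.as m)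
        (_ : CochainComplex.IsStrictlyLE L'.as n)
        (f : (HomotopyCategory.quotient A _).obj K ⟶ L') (t : (HomotopyCategory.quotient A _).obj L ⟶ L'),
        HomotopyCategory.quasiIso A (ComplexShape.up ℤ) t ∧ φ ≫ Qh.map t = Qh.map f) ∧
    (∀ f₁ f₂ : (HomotopyCategory.quotient A (ComplexShape.up ℤ)).obj K ⟶ (HomotopyCategory.quotient A _).obj L,
      Qh.map f₁ = Qh.map f₂ →
      ∃ (L' : HomotopyCategory A (ComplexShape.up ℤ)) (m n : ℤ) (_ : CochainComplex.IsStrictlyGE L'.as m)
        (_ : CochainComplex.IsStrictlyLE L'.as n) (t : (HomotopyCategory.quotient A _).obj L ⟶ L'),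
        HomotopyCategory.quasiIso A (ComplexShape.up ℤ) t ∧ f₁ ≫ t = f₂ ≫ t) := by
  let E := quotientCompQhIso A
  let m := min a a'
  let n := max b b'
  have : K.IsStrictlyGE m := K.isStrictlyGE_of_ge m a (min_le_left _ _)
  have : L.IsStrictlyGE m := L.isStrictlyGE_of_ge m a' (min_le_right _ _)
  have : K.IsStrictlyLE n := K.isStrictlyLE_of_le b n (le_max_left _ _)
  have : L.IsStrictlyLE n := L.isStrictlyLE_of_le b' n (le_max_right _ _)
  refine ⟨fun φ => ?_, fun f₁ f₂ h => ?_⟩
  · obtain ⟨Y, hY, hY', g, s, hs, e⟩ := left_fac_of_isStrictlyLE_of_isStrictlyGE m n (E.inv.app K ≫ φ ≫ E.hom.app L)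
    refine ⟨(HomotopyCategory.quotient A _).obj Y, m, n, hY, hY', (HomotopyCategory.quotient A _).map g,
      (HomotopyCategory.quotient A _).map s,
      (HomotopyCategory.quotient_map_mem_quasiIso_iff s).2 ((isIso_Q_map_iff_quasiIso (φ := s)).1 hs), ?_⟩
    have hs₁ := E.hom.naturality s
    have hg := E.hom.naturality g
    rw [← cancel_mono (E.hom.app Y)]
    refine Eq.trans ?_ hg.symm
    show (φ ≫ Qh.map _) ≫ E.hom.app Y = E.hom.app K ≫ Q.map g
    have e' : φ ≫ E.hom.app L = E.hom.app K ≫ Q.map g ≫ inv (Q.map s) := by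
      rw [← e]; exact (Iso.hom_inv_id_app_assoc E K _).symm
    refine (assoc _ _ _).trans ((congrArg (_ ≫ ·) hs₁).trans ?_)
    refine (assoc _ _ _).symm.trans ((congrArg (· ≫ _) e').trans ?_)
    exact (assoc _ _ _).trans (congrArg (_ ≫ ·) ((assoc _ _ _).trans
      ((congrArg (_ ≫ ·) (IsIso.inv_hom_id (Q.map s))).trans (comp_id _))))
  · obtain ⟨Y, t, ht, et⟩ := (MorphismProperty.map_eq_iff_postcomp Qh (HomotopyCategory.quasiIso A _) _ _).1 h
    obtain ⟨Y, rfl⟩ := HomotopyCategory.quotient_obj_surjective Y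
    obtain ⟨t, rfl⟩ := (HomotopyCategory.quotient _ _).map_surjective t
    obtain ⟨g₁, rfl⟩ := (HomotopyCategory.quotient _ _).map_surjective f₁
    obtain ⟨g₂, rfl⟩ := (HomotopyCategory.quotient _ _).map_surjective f₂
    have ht' : QuasiIso t := (HomotopyCategory.quotient_map_mem_quasiIso_iff t).1 ht
    have hge : CochainComplex.IsGE Y m := (CochainComplex.isGE_iff Y m).2 fun i hi =>
      (exactAt_iff_of_quasiIsoAt t i).1 (L.exactAt_of_isGE m i hi)
    have hle : CochainComplex.IsLE Y n := (CochainComplex.isLE_iff Y n).2 fun i hi =>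
      (exactAt_iff_of_quasiIsoAt t i).1 (L.exactAt_of_isLE n i hi)
    let Z := CochainComplex.truncGE Y m
    have hp : QuasiIso (CochainComplex.πTruncGE Y m) := (CochainComplex.quasiIso_πTruncGE_iff Y m).2 hge
    let p : L ⟶ Z := t ≫ CochainComplex.πTruncGE Y m
    let p' : L ⟶ Z.truncLE n := inv (L.ιTruncLE n) ≫ CochainComplex.truncLEMap p n
    have hp' : p' ≫ Z.ιTruncLE n = p := by
      rw [assoc, CochainComplex.ιTruncLE_naturality, IsIso.inv_hom_id_assoc]
    have hq : QuasiIso p' := by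
      have : QuasiIso (CochainComplex.truncLEMap p n) :=
        (CochainComplex.quasiIso_truncLEMap_iff p n).2 fun i _ => inferInstance
      infer_instance
    refine ⟨(HomotopyCategory.quotient A _).obj (Z.truncLE n), m, n,
      inferInstanceAs (CochainComplex.IsStrictlyGE (Z.truncLE n) m),
      inferInstanceAs (CochainComplex.IsStrictlyLE (Z.truncLE n) n), (HomotopyCategory.quotient A _).map p',
      (HomotopyCategory.quotient_map_mem_quasiIso_iff _).2 hq, ?_⟩
    rw [← Functor.map_comp, ← Functor.map_comp]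
    refine quotient_map_eq_of_comp_ι n _ _ ?_
    clear_value p'
    rw [assoc, assoc, hp']
    simp only [p, Functor.map_comp, reassoc_of% et]

end Groth.Agent.H9Misc.BoundedRoofs
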