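import Groth.Agent.H28.PnBox
import Groth.Agent.H28.RzCover
import Groth.Agent.H9Misc.RpushZero
import Groth.Agent.H9Misc.PnTwistVanish

/-! Middle cohomology of arbitrary twists of inverse images on projective space over a base. -/

set_option autoImplicit false
set_option linter.style.haveILetI false
set_option linter.unusedSectionVars false
set_option backward.isDefEq.respectTransparency false
set_option backward.isDefEq.respectTransparency.types false

universe u

open CategoryTheory CategoryTheory.Limits AlgebraicGeometry TopologicalSpace Opposite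
open MvPolynomial
open scoped TensorProduct

noncomputable section

namespace Groth.Agent.H9Misc.BoxMid

open Groth.Agent Groth.Agent.PnCoh Groth.Agent.QCoh.Ab Groth.Agent.H28 Groth.Agent.H28.Box

attribute [local instance] MvPolynomial.gradedAlgebra

section Tensor

variable {A B C : Type*} [AddCommGroup A] [AddCommGroup B] [AddCommGroup C] (N : Type*) [AddCommGroup N]

theorem injective_lTensor_range (g : B →ₗ[ℤ] C) (hg : ∀ (r : ℤ) (c : C), r ≠ 0 → r • c ∈ LinearMap.range g → c ∈ LinearMap.range g) :
    Function.Injective ((LinearMap.range g).subtype.lTensor N) := by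
  haveI : Module.IsTorsionFree ℤ (C ⧸ LinearMap.range g) :=
    Module.IsTorsionFree.of_smul_eq_zero fun r x hx => by
      induction x using Submodule.Quotient.induction_on with
      | H c =>
        rw [← Submodule.Quotient.mk_smul, Submodule.Quotient.mk_eq_zero] at hx
        by_cases hr : r = 0
        · exact Or.inl hr
        · exact Or.inr ((Submodule.Quotient.mk_eq_zero _).2 (hg r c hr hx))
  exact LinearMap.lTensor_injective_of_exact_of_flat (LinearMap.range g).mkQ (Submodule.mkQ_surjective _) _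
    (LinearMap.range g).subtype_injective (LinearMap.exact_subtype_mkQ _) N

theorem injective_lTensor (g : B →ₗ[ℤ] C) (h0 : Function.Injective g)
    (hg : ∀ (r : ℤ) (c : C), r ≠ 0 → r • c ∈ LinearMap.range g → c ∈ LinearMap.range g) :
    Function.Injective (g.lTensor N) := by
  rw [show g = (LinearMap.range g).subtype ∘ₗ (LinearEquiv.ofInjective g h0).toLinearMap from LinearMap.ext fun _ => rfl,
    LinearMap.lTensor_comp]
  exact (injective_lTensor_range N g hg).comp ((LinearEquiv.ofInjective g h0).lTensor N).injective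

theorem exact_lTensor (f : A →ₗ[ℤ] B) (g : B →ₗ[ℤ] C) (hfg : Function.Exact f g)
    (hg : ∀ (r : ℤ) (c : C), r ≠ 0 → r • c ∈ LinearMap.range g → c ∈ LinearMap.range g) :
    Function.Exact (f.lTensor N) (g.lTensor N) := by
  have hfπ : Function.Exact f g.rangeRestrict := fun b =>
    ⟨fun hb => (hfg b).1 (congrArg Subtype.val hb), fun hb => Subtype.ext ((hfg b).2 hb)⟩
  intro z
  rw [← lTensor_exact N hfπ g.surjective_rangeRestrict z]
  show (((LinearMap.range g).subtype ∘ₗ g.rangeRestrict).lTensor N) z = 0 ↔ _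
  rw [LinearMap.lTensor_comp, LinearMap.comp_apply]
  exact map_eq_zero_iff _ (injective_lTensor_range N g hg)

end Tensor

variable {n : ℕ} {d : ℤ}

abbrev TwC (n : ℕ) (d : ℤ) (p : ℕ) : Type u := TwCochain (Fin (n + 1)) R0.{u} d p

/-- Exactness of the integral complex where the middle has too few slots. -/
theorem exact_dC_mid (p : ℕ) (hp : p + 1 < n) :
    Function.Exact (dC.{u} (n := n) d p) (dC.{u} (n := n) d (p + 1)) := fun c => by
  constructor
  · intro hc
    obtain ⟨k, hk, hkd⟩ := exists_natural_d_eq c.1 c.2 (congrArg Subtype.val hc) fun σ e he =>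
      bottom_zero_of_card (cochainTw_isSuppD c.1) (by rw [Fintype.card_fin]; omega) σ e he
    exact ⟨⟨k, hk⟩, Subtype.ext hkd⟩
  · rintro ⟨k, rfl⟩
    exact Subtype.ext (d_d k.1)

theorem cochainTw_zsmul {p : ℕ} (r : ℤ) (c : CC.{u} n d (p + 1)) (σ : Fin (p + 1) → Fin (n + 1)) :
    cochainTw (r • c).1 σ = r • cochainTw c.1 σ :=
  map_zsmul (secTw (R := R0.{u}) d (tupExp σ) (tupExp_ne_zero σ)) r _

/-- The cokernel of a differential with few slots has no torsion. -/
theorem tf_coker (p : ℕ) (hp : p < n) (r : ℤ) (c : CC.{u} n d (p + 2)) (hr : r ≠ 0)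
    (h : r • c ∈ LinearMap.range (dC.{u} (n := n) d p)) : c ∈ LinearMap.range (dC.{u} (n := n) d p) := by
  obtain ⟨k, hk⟩ := h
  haveI := Box.isTorsionFree_CC.{u} (n := n) d (p + 2)
  have hdc : dC.{u} (n := n) d (p + 1) c = 0 := by
    have h1 : r • dC.{u} (n := n) d (p + 1) c = 0 := by
      rw [← map_zsmul, ← hk]
      exact Subtype.ext (d_d k.1)
    exact (smul_eq_zero_iff_right hr).1 h1
  obtain ⟨k', hk', hkd⟩ := exists_natural_d_eq c.1 c.2 (congrArg Subtype.val hdc) fun σ e he => by
    have h2 : r • cochainTw c.1 σ = delta (cochainTw k.1) σ := by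
      rw [← cochainTw_zsmul, ← hk]
      exact cochainTw_d k.1 k.2 σ
    have h3 := congrArg (fun z : Laur (Fin (n + 1)) R0.{u} => z.coeff e) h2
    simp only [delta, AddMonoidAlgebra.coeff_sum, Finsupp.finsetSum_apply,
      AddMonoidAlgebra.coeff_smul, Finsupp.smul_apply] at h3
    rw [Finset.sum_eq_zero fun a _ => by
      rw [bottom_zero_of_card (cochainTw_isSuppD k.1) (by rw [Fintype.card_fin]; omega) _ e he, smul_zero]] at h3
    have h4 : (r : ℤ) * ((cochainTw c.1 σ).coeff e).down = 0 := by
      have := congrArg ULift.down h3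
      simpa using this
    exact ULift.ext _ _ ((mul_eq_zero.1 h4).resolve_left hr)
  exact ⟨⟨k', hk'⟩, Subtype.ext hkd⟩

/-- No cocycles in degree zero for negative twists. -/
theorem injective_dC_zero (hn : 0 < n) (hd : d < 0) : Function.Injective (dC.{u} (n := n) d 0) := by
  refine (injective_iff_map_eq_zero _).2 fun c hc => ?_
  have hδ := delta_cochainTw_eq_zero c.1 c.2 (congrArg Subtype.val hc)
  refine Subtype.ext (natural_ext c.2 (0 : CC.{u} n d 1).2 fun σ => ?_)
  rw [show cochainTw (0 : CC.{u} n d 1).1 σ = 0 from map_zero _]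
  have key : ∀ i j : Fin (n + 1), cochainTw c.1 ![i] = cochainTw c.1 ![j] := fun i j => by
    have h : ∑ a : Fin 2, (-1 : ℤ) ^ (a : ℕ) • cochainTw c.1 (fun b : Fin 1 => ![i, j] (a.succAbove b)) = 0 :=
      hδ ![i, j]
    simp only [Fin.sum_univ_two, Fin.val_zero, Fin.val_one, pow_zero, pow_one, one_smul, neg_smul] at h
    rw [show (fun b : Fin 1 => ![i, j] ((0 : Fin 2).succAbove b)) = ![j] from funext fun b => by fin_cases b; rfl,
      show (fun b : Fin 1 => ![i, j] ((1 : Fin 2).succAbove b)) = ![i] from funext fun b => by fin_cases b; rfl,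
      add_neg_eq_zero] at h
    exact h.symm
  ext e
  by_contra hne
  obtain ⟨i, rfl⟩ : ∃ i, σ = ![i] := ⟨σ 0, funext fun b => by fin_cases b; rfl⟩
  have hs : ∀ j : Fin (n + 1), e ∈ suppD d (Set.range ![j]) := fun j =>
    AddMonoidAlgebra.mem_supported.1 (cochainTw_isSuppD c.1 ![j]) (Finsupp.mem_support_iff.2
      (by rw [← key i j]; intro h0; exact hne (by rw [h0]; simp)))
  have hpos : ∀ m, 0 ≤ e m := fun m => by
    by_contra hm
    obtain ⟨j, hj⟩ : ∃ j : Fin (n + 1), j ≠ m :=
      Fintype.exists_ne_of_one_lt_card (by rw [Fintype.card_fin]; omega) m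
    obtain ⟨b, hb⟩ := (hs j).2 m (not_le.1 hm)
    fin_cases b
    exact hj (by simpa using hb)
  have h1 := (hs i).1
  rw [Finsupp.sum_fintype _ _ (fun _ => rfl)] at h1
  have := Finset.sum_nonneg (s := (Finset.univ : Finset (Fin (n + 1)))) fun m _ => hpos m
  omega

variable {V T : Scheme.{u}} (g : V ⟶ PS (Fin (n + 1)) R0.{u}) (q : V ⟶ T) (d : ℤ) (G : T.Modules)
  (U : T.Opens) (hU : q ⁻¹ᵁ U = ⊤) [IsAffineHom g] (hUa : IsAffineOpen U)
  (hbox : ∀ D, IsAffineOpen D → IsBox g q D U (Box.hle g q U hU D)) (hG : Coh.IsQCoh G)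

set_option maxHeartbeats 1600000 in
include hUa hbox hG in
/-- Cohomology of a negative twist vanishes below `n`. -/
theorem subsingleton_HH_lt (hd : d < 0) (hM : Coh.IsQCoh (Box.Mod g q d G)) (i : ℕ) (hi : i < n) :
    Subsingleton (Coh.HH V (Box.Mod g q d G) i) := by
  have hcovT : ⨆ i, cov g i = ⊤ := by
    show ⨆ i, g ⁻¹ᵁ _ = ⊤
    rw [← Scheme.Hom.preimage_iSup, iSup_stdU, Scheme.Hom.preimage_top]
  have haff : ∀ {p : ℕ} (σ : Fin (p + 1) → Idx.{u} n), IsAffineOpen (⨅ a, cov g (σ a)) := fun {p} σ => by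
    rw [show ⨅ a, cov g (σ a) = g ⁻¹ᵁ tupOpen σ from le_antisymm
      (le_preimage_tupOpen g σ _ fun a => iInf_le _ a) (le_iInf fun a => le_cov g σ a)]
    exact (isAffineOpen_mOpen (tupExp_ne_zero _)).preimage g
  obtain ⟨e⟩ := QCoh.cechH_equiv_HH (cov g) hcovT haff hM i
  have hnat : ∀ k : ℕ, ∀ w : CC.{u} n d (k + 1) ⊗[ℤ] Γ(G, U),
      (LinearMap.lTensor Γ(G, U) (dC.{u} (n := n) d k)) (TensorProduct.comm ℤ _ _ w) =
        TensorProduct.comm ℤ _ _ ((dC.{u} (n := n) d k).rTensor Γ(G, U) w) := fun k w => by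
    induction w using TensorProduct.induction_on with
    | zero => simp only [map_zero]
    | tmul a b => rfl
    | add a b ha hb => simp only [map_add, ha, hb]
  have hzero : IsZero (((cechComplexFunctor (cov g)).obj (Box.Mod g q d G).presheaf).homology i) := by
    refine IsZero.of_iso ?_ (HomologicalComplex.homologyMapIso (cechIso _ _) i).symm
    refine (?_ : (natCx (X := V.toPresheafedSpace.carrier) (Box.Mod g q d G).presheaf (cov g)).ExactAt i).isZero_homology
    cases i with
    | zero =>
      rw [HomologicalComplex.exactAt_iff' _ 0 0 1 (by simp) (by simp), ShortComplex.ab_exact_iff]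
      simp only [HomologicalComplex.sc', HomologicalComplex.shortComplexFunctor'_obj_f,
        HomologicalComplex.shortComplexFunctor'_obj_g, natCx_d]
      intro c hc
      obtain ⟨z, rfl⟩ := (bijective_theta g q d G U hU hUa hbox hG 0).2 c
      have hc' : natD (X := V.toPresheafedSpace.carrier) (Box.Mod g q d G).presheaf (cov g) 0
          (theta g q d G U hU 0 z) = 0 := hc
      rw [natD_theta] at hc'
      have hz := (bijective_theta g q d G U hU hUa hbox hG 1).1
        (hc'.trans (theta g q d G U hU 1).map_zero.symm)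
      have hinj := injective_lTensor Γ(G, U) (dC.{u} (n := n) d 0) (injective_dC_zero hi hd) (tf_coker 0 hi)
      have h0 : TensorProduct.comm ℤ _ _ z = 0 := hinj (by rw [hnat, hz, LinearEquiv.map_zero, LinearMap.map_zero])
      rw [LinearEquiv.map_eq_zero_iff] at h0
      exact ⟨0, by rw [h0, map_zero, map_zero]⟩
    | succ p =>
      rw [HomologicalComplex.exactAt_iff' _ p (p + 1) (p + 2) (by simp) (by simp), ShortComplex.ab_exact_iff]
      simp only [HomologicalComplex.sc', HomologicalComplex.shortComplexFunctor'_obj_f,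
        HomologicalComplex.shortComplexFunctor'_obj_g, natCx_d]
      intro c hc
      obtain ⟨z, rfl⟩ := (bijective_theta g q d G U hU hUa hbox hG (p + 1)).2 c
      have hc' : natD (X := V.toPresheafedSpace.carrier) (Box.Mod g q d G).presheaf (cov g) (p + 1)
          (theta g q d G U hU (p + 1) z) = 0 := hc
      rw [natD_theta] at hc'
      have hz := (bijective_theta g q d G U hU hUa hbox hG (p + 2)).1
        (hc'.trans (theta g q d G U hU (p + 2)).map_zero.symm)
      have hex := exact_lTensor Γ(G, U) (dC.{u} (n := n) d p) (dC d (p + 1))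
        (exact_dC_mid p hi) (tf_coker (p + 1) hi)
      obtain ⟨y, hy⟩ := (hex ((TensorProduct.comm ℤ _ _) z)).1 (by rw [hnat, hz, map_zero])
      refine ⟨theta g q d G U hU p ((TensorProduct.comm ℤ _ _) y), ?_⟩
      refine Eq.trans (natD_theta g q d G U hU p _) ?_
      refine congrArg _ ?_
      apply (TensorProduct.comm ℤ (CC.{u} n d (p + 2)) Γ(G, U)).injective
      rw [← hy, ← hnat]
      simp
  haveI : Subsingleton ↑(CohB1.cechH (cov g) (Box.Mod g q d G) i) :=
    AddCommGrpCat.subsingleton_of_isZero hzero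
  exact e.symm.subsingleton

omit g q U hU hUa hbox hG [IsAffineHom g]

/-- Higher direct images of negative twists of inverse images live in degree `n`. -/
theorem rz_neg_twist (hd : d < 0) (hG : Coh.IsQCoh G) (i : ℕ) (hi : i ≠ n) :
    RKoszul.RZ (KRR.pr n T) ((H28.KRRTw.Tw n T d).obj ((Scheme.Modules.pullback (KRR.pr n T)).obj G)) i := by
  haveI hp : IsProper (KRR.pr n T) :=
    MorphismProperty.pullback_snd _ _ (PnCoh.Chow.isProper_toSpec n (ULift.{u} ℤ))
  have hq : Coh.IsQCoh ((H28.KRRTw.Tw n T d).obj ((Scheme.Modules.pullback (KRR.pr n T)).obj G)) :=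
    KFlatLib.isQCoh_tensor (QCoh.isQCoh_pullback _ (PnCoh.isQCoh_twist_mvPolynomial _ _ d))
      (QCoh.isQCoh_pullback _ hG)
  rcases lt_or_gt_of_ne hi with hi | hi
  · refine RpushZero.isZero_RpushAb (KRR.pr n T) hq i fun W hW => ?_
    obtain ⟨e⟩ := PnBox.nonempty_restrict_iso (n := n) W d G
    haveI := PnBox.isAffineHom_gU (n := n) W hW
    exact QCoh.subsingleton_HH_of_iso e.symm _
      (subsingleton_HH_lt _ _ d G W (PnBox.qU_preimage W) hW (fun D hD => PnBox.isBox W hW D hD) hG hd
        (KFlatLib.isQCoh_tensor (QCoh.isQCoh_pullback _ (PnCoh.isQCoh_twist_mvPolynomial _ _ d))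
          (QCoh.isQCoh_pullback _ hG)) i hi)
  · exact PnBox.rz_of_lt hq i hi

end Groth.Agent.H9Misc.BoxMid
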