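import Groth.Agent.FPEnough.Descend
import Groth.Agent.SheafHomX.Basic
import Groth.Agent.ClosedHom7.Basic
import Groth.Agent.InvX.Tensor
import Groth.Agent.AmpleX.QAGenerated
import Groth.Agent.AmpleX.CounitEpi
import Groth.Agent.KFlatLib.Perfect.LocFree
import Groth.Agent.KExact.RelAmpleRes

/-!
# Box products of finite locally free modules surject onto modules of finite type on a product
-/

set_option autoImplicit false
set_option linter.style.haveILetI false
set_option linter.unusedSectionVars false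
set_option backward.isDefEq.respectTransparency false
set_option backward.isDefEq.respectTransparency.types false
set_option maxHeartbeats 1000000

universe u

open CategoryTheory CategoryTheory.Limits AlgebraicGeometry TopologicalSpace

attribute [local instance] Groth.Agent.QCoh.hasFiniteBiproducts

noncomputable section

namespace Groth.Agent.H9Misc.BoxSurj

open Groth.Agent SheafHomX

variable {Z : Scheme.{u}}

theorem eq_of_one {M : Z.Modules} {a b : Coh.structureModule Z ⟶ M} (h : InvX.one a = InvX.one b) : a = b :=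
  sub_eq_zero.1 (AmpleX.eq_zero_of_one_eq_zero _ (show InvX.one a - InvX.one b = 0 by rw [h, sub_self]))

/-- A map killing every map from `A` after restriction, tested on one section. -/
theorem restrict_eq_zero {F Q A : Z.Modules} (W : Z.Opens) (s : A.restrict W.ι ⟶ F.restrict W.ι) [Epi s]
    (lam : F ⟶ Q) (h : ∀ σ : Γ((hom A).obj F, W), σ = (((restrictIso W.ι A).inv.app F).app ⊤
      (InvX.one ((ev (A.restrict W.ι) (F.restrict W.ι)).symm s))
        |> AModX.res ((hom A).obj F) (W.ι_image_top).ge) → ((hom A).map lam).app W σ = 0) :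
    (Scheme.Modules.restrictFunctor W.ι).map lam = 0 := by
  let R := Scheme.Modules.restrictFunctor W.ι
  let x := (ev (A.restrict W.ι) (F.restrict W.ι)).symm s
  let y := x ≫ (restrictIso W.ι A).inv.app F
  have hy : y ≫ R.map ((hom A).map lam) = 0 := by
    refine eq_of_one ?_
    show ((hom A).map lam).app (W.ι ''ᵁ ⊤) (InvX.one y) = _
    have h0 := h _ rfl
    have h1 : AModX.res ((hom A).obj F) (W.ι_image_top).le
        (AModX.res ((hom A).obj F) (W.ι_image_top).ge (InvX.one y)) = InvX.one y := by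
      rw [AModX.res_res, AModX.res_self]
    rw [← h1]
    refine (QCoh.map_app_comm ((hom A).map lam) (homOfLE (W.ι_image_top).le) _).trans ?_
    refine (congrArg _ h0).trans ?_
    exact (map_zero _).trans rfl
  have h2 : x ≫ (hom (A.restrict W.ι)).map (R.map lam) = 0 := by
    have hn := restrict_map W.ι A lam
    rw [← Iso.app_hom, ← Iso.eq_comp_inv] at hn
    show x ≫ (hom (A.restrict W.ι)).map (R.map lam) = 0
    refine zero_of_comp_mono ((restrictIso W.ι A).inv.app Q) ?_
    rw [Category.assoc]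
    refine Eq.trans ?_ hy
    show x ≫ _ = (x ≫ (restrictIso W.ι A).inv.app F) ≫ _
    rw [Category.assoc, hn]
    simp only [Category.assoc]
    erw [Iso.inv_hom_id_app_assoc]
    rfl
  have h3 := ev_naturality x (R.map lam)
  rw [h2, map_zero, show ev _ _ x = s from AddEquiv.apply_symm_apply _ s] at h3
  exact zero_of_epi_comp s h3.symm

variable {X Y S : Scheme.{u}} (a : X ⟶ S) (b : Y ⟶ S) [IsAffine S] [CompactSpace X] [QuasiSeparatedSpace X]
  [CompactSpace Y] [QuasiSeparatedSpace Y] [QuasiSeparated a] [QuasiCompact b] [QuasiSeparated b]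

omit [QuasiSeparated a] in
/-- The local step. -/
theorem exists_local (hX : PerfAux.HasResolutionProperty X) (hY : PerfAux.HasResolutionProperty Y)
    (F : (pullback a b).Modules) (hF : Coh.IsQCoh F) (hF' : CohB1.IsFT F) (U : X.affineOpens) :
    ∃ (E : X.Modules) (G : Y.Modules), FlatMod.IsFinLocFree E ∧ FlatMod.IsFinLocFree G ∧
      ∃ Φ : CohB1.tensorMod ((Scheme.Modules.pullback (pullback.fst a b)).obj E)
          ((Scheme.Modules.pullback (pullback.snd a b)).obj G) ⟶ F,
        Epi ((Scheme.Modules.restrictFunctor (pullback.fst a b ⁻¹ᵁ U.1).ι).map Φ) := by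
  let p := pullback.fst a b
  let q := pullback.snd a b
  let W := p ⁻¹ᵁ U.1
  haveI : IsAffine (U.1 : Scheme.{u}) := U.2
  haveI : IsAffineHom (W.ι ≫ q) :=
    MorphismProperty.of_isPullback (P := @IsAffineHom)
      ((isPullback_morphismRestrict p U.1).paste_vert (IsPullback.of_hasPullback a b)) inferInstance
  obtain ⟨H, r, hH, hfp, hr⟩ := FPEnough.exists_epi_pullback (W.ι ≫ q) (QCoh.isQCoh_restrict W.ι hF)
    (AmpleX.isFT_restrict' W.ι hF hF')
  obtain ⟨G, π, hG, hπ⟩ := hY H hH (QCoh.isFT_of_isFP hfp)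
  haveI := hr
  haveI := hπ
  let A := (Scheme.Modules.pullback q).obj G
  let eA : A.restrict W.ι ≅ (Scheme.Modules.pullback (W.ι ≫ q)).obj G :=
    (Scheme.Modules.restrictFunctorIsoPullback W.ι).app A ≪≫ (Scheme.Modules.pullbackComp W.ι q).app G
  let s : A.restrict W.ι ⟶ F.restrict W.ι := eA.hom ≫ (Scheme.Modules.pullback (W.ι ≫ q)).map π ≫ r
  haveI : Epi ((Scheme.Modules.pullback (W.ι ≫ q)).map π) := inferInstance
  haveI : Epi s := epi_comp _ _
  have hA : CohB1.IsFP A := QCoh.isFP_of_isFinLocFree (KFlatLib.isFinLocFree_pullback q hG)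
  let M := (Scheme.Modules.pushforward p).obj ((hom A).obj F)
  have hM : Coh.IsQCoh M := QCoh.isQCoh_pushforward p (ClosedHom7.isQCoh_hom_of_isFP hA hF)
  let σ : Γ((hom A).obj F, W) := ((restrictIso W.ι A).inv.app F).app ⊤
      (InvX.one ((ev (A.restrict W.ι) (F.restrict W.ι)).symm s)) |> AModX.res ((hom A).obj F) (W.ι_image_top).ge
  obtain ⟨H', ψ, hH', hfp', hz⟩ := FPEnough.exists_isFP_range hM U (S := {(show Γ(M, U.1) from σ)})
    (Set.finite_singleton _)
  obtain ⟨E, π', hE, hπ'⟩ := hX H' hH' (QCoh.isFT_of_isFP hfp')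
  haveI := hπ'
  obtain ⟨e₀, he₀⟩ := hz (Set.mem_singleton _)
  obtain ⟨e, he⟩ := QCoh.app_surjective_of_epi (QCoh.isQCoh_of_isFinLocFree hE) hH' π' U.2 e₀
  let adjp := Scheme.Modules.pullbackPushforwardAdjunction p
  let χ := (adjp.homEquiv E ((hom A).obj F)).symm (π' ≫ ψ)
  let Φ := ((adj A).homEquiv _ F).symm χ
  refine ⟨E, G, hE, hG, Φ, ?_⟩
  refine Preadditive.epi_of_cancel_zero _ fun {Q} g hg => ?_
  obtain ⟨lam, hlam, hΦ⟩ : ∃ lam : F ⟶ cokernel Φ, lam = cokernel.π Φ ∧ Φ ≫ lam = 0 :=
    ⟨_, rfl, cokernel.condition Φ⟩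
  have h0 : (Scheme.Modules.restrictFunctor W.ι).map lam = 0 := by
    refine restrict_eq_zero W s lam fun σ' hσ' => ?_
    obtain rfl : σ' = σ := hσ'
    have h1 : χ ≫ (hom A).map lam = 0 := by
      have h2 := (adj A).homEquiv_naturality_right Φ lam
      rw [Equiv.apply_symm_apply, hΦ, Adjunction.homEquiv_unit, Functor.map_zero, comp_zero] at h2
      exact h2.symm
    have h3 : (π' ≫ ψ) ≫ (Scheme.Modules.pushforward p).map ((hom A).map lam) = 0 := by
      have h4 := adjp.homEquiv_naturality_right χ ((hom A).map lam)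
      rw [Equiv.apply_symm_apply, h1, Adjunction.homEquiv_unit, Functor.map_zero, comp_zero] at h4
      exact h4.symm
    have h5 := congr(($h3).app U.1 e)
    refine Eq.trans ?_ h5
    show ((hom A).map lam).app W σ = ((hom A).map lam).app W (ψ.app U.1 (π'.app U.1 e))
    rw [he, he₀]
  haveI : PreservesFiniteColimits (Scheme.Modules.restrictFunctor W.ι) := by
    haveI := (KFlatLib.lshAdj W.ι).isRightAdjoint
    haveI := (Scheme.Modules.restrictAdjunction W.ι).isLeftAdjoint
    infer_instance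
  let c := CokernelCofork.mapIsColimit _ (cokernelIsCokernel Φ) (Scheme.Modules.restrictFunctor W.ι)
  obtain ⟨d, hd⟩ := CokernelCofork.IsColimit.desc' c g hg
  rw [← hd]
  show (Scheme.Modules.restrictFunctor W.ι).map (cokernel.π Φ) ≫ d = 0
  rw [← hlam, h0, zero_comp]

theorem sum_fac {C D M : Type*} [Category C] [Category D] [Category M] [Preadditive M] [Preadditive D] [Preadditive C]
    (B : C ⥤ D ⥤ M) [∀ P, (B.obj P).Additive] [HasFiniteBiproducts C] [HasFiniteBiproducts D]
    {C' D' : Type*} [Category C'] [Category D'] [Preadditive C'] [Preadditive D']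
    [HasFiniteBiproducts C'] [HasFiniteBiproducts D'] (P : C' ⥤ C) (Q : D' ⥤ D) [Q.Additive]
    {n : ℕ} (E : Fin n → C') (G : Fin n → D') {T : M}
    (Φ : ∀ j, (B.obj (P.obj (E j))).obj (Q.obj (G j)) ⟶ T) :
    ∃ (π : (B.obj (P.obj (⨁ E))).obj (Q.obj (⨁ G)) ⟶ T),
      ∀ j, ∃ i : (B.obj (P.obj (E j))).obj (Q.obj (G j)) ⟶ (B.obj (P.obj (⨁ E))).obj (Q.obj (⨁ G)),
        i ≫ π = Φ j := by
  classical
  let inj : ∀ j, (B.obj (P.obj (E j))).obj (Q.obj (G j)) ⟶ (B.obj (P.obj (⨁ E))).obj (Q.obj (⨁ G)) := fun j =>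
    (B.map (P.map (biproduct.ι E j))).app _ ≫ (B.obj _).map (Q.map (biproduct.ι G j))
  let pr : ∀ j, (B.obj (P.obj (⨁ E))).obj (Q.obj (⨁ G)) ⟶ (B.obj (P.obj (E j))).obj (Q.obj (G j)) := fun j =>
    (B.map (P.map (biproduct.π E j))).app _ ≫ (B.obj _).map (Q.map (biproduct.π G j))
  have hip : ∀ j, inj j ≫ pr j = 𝟙 _ := fun j => by
    simp only [inj, pr, Category.assoc, NatTrans.naturality_assoc, ← Functor.map_comp, biproduct.ι_π_self,
      CategoryTheory.Functor.map_id, Category.comp_id]
    rw [← NatTrans.comp_app, ← Functor.map_comp, ← Functor.map_comp, biproduct.ι_π_self]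
    simp
  have hij : ∀ i j, i ≠ j → inj i ≫ pr j = 0 := fun i j h => by
    simp only [inj, pr, Category.assoc, NatTrans.naturality_assoc, ← Functor.map_comp,
      biproduct.ι_π_ne _ h, Functor.map_zero, comp_zero]
  refine ⟨∑ j, pr j ≫ Φ j, fun j => ⟨inj j, ?_⟩⟩
  rw [Preadditive.comp_sum, Finset.sum_eq_single j (fun i _ hi => by
    rw [← Category.assoc, hij j i (Ne.symm hi), zero_comp]) (fun h => absurd (Finset.mem_univ j) h),
    ← Category.assoc, hip, Category.id_comp]

/-- Box products surject. -/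
theorem exists_box_surj (hX : PerfAux.HasResolutionProperty X) (hY : PerfAux.HasResolutionProperty Y)
    (F : (pullback a b).Modules) (hF : Coh.IsQCoh F) (hF' : CohB1.IsFT F) :
    ∃ (E : X.Modules) (G : Y.Modules), FlatMod.IsFinLocFree E ∧ FlatMod.IsFinLocFree G ∧
      ∃ π : CohB1.tensorMod ((Scheme.Modules.pullback (pullback.fst a b)).obj E)
          ((Scheme.Modules.pullback (pullback.snd a b)).obj G) ⟶ F, Epi π := by
  classical
  let p := pullback.fst a b
  let q := pullback.snd a b
  obtain ⟨t, ht⟩ := FPEnough.exists_finite_affine_cover (X := X)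
  choose E G hE hG Φ hΦ using fun U : t => exists_local a b hX hY F hF hF' U.1
  let σ : Fin (Fintype.card t) ≃ t := (Fintype.equivFin t).symm
  haveI : (Scheme.Modules.pullback q).Additive :=
    (Scheme.Modules.pullbackPushforwardAdjunction q).left_adjoint_additive
  obtain ⟨π, hπ⟩ := sum_fac (DCoh.tensorBi (X := pullback a b)) (Scheme.Modules.pullback p)
    (Scheme.Modules.pullback q) (fun j => E (σ j)) (fun j => G (σ j)) (T := F) fun j => Φ (σ j)
  refine ⟨⨁ fun j => E (σ j), ⨁ fun j => G (σ j), KExact.AmpleFamily.isFinLocFree_biproduct _ fun j => hE _,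
    KExact.AmpleFamily.isFinLocFree_biproduct _ fun j => hG _, π, ?_⟩
  refine KExact.RelAmpleRes.epi_of_restrict _ fun z => ?_
  obtain ⟨U, hU, hzU⟩ := ht (p z)
  obtain ⟨j, hj⟩ := σ.surjective ⟨U, hU⟩
  refine ⟨p ⁻¹ᵁ (σ j).1.1, by rw [hj]; exact hzU, ?_⟩
  haveI := hΦ (σ j)
  obtain ⟨i, hi⟩ := hπ j
  refine epi_of_epi_fac (f := (Scheme.Modules.restrictFunctor _).map i)
    (h := (Scheme.Modules.restrictFunctor _).map (Φ (σ j))) ?_
  rw [← Functor.map_comp, hi]

end Groth.Agent.H9Misc.BoxSurj
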