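import Groth.Agent.H9Misc.CompactSmall
import Mathlib.LinearAlgebra.Dual.Lemmas
import Mathlib.Algebra.DirectSum.Module
import Mathlib.CategoryTheory.Linear.Yoneda

/-!
# Representability of finite dimensional cohomological functors on compact objects
-/

set_option linter.style.haveILetI false
set_option maxHeartbeats 1000000

universe w v u w'

open CategoryTheory CategoryTheory.Category CategoryTheory.Limits Opposite CategoryTheory.Pretriangulated
open Groth.Agent.TriCat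
open Pretriangulated.Opposite
open scoped ZeroObject

namespace Groth.Agent.H9Misc.BrownFinDim

/-- A system of linear equations for a functional is solvable if every finite subsystem is. -/
theorem exists_functional {K V : Type*} [Field K] [AddCommGroup V] [Module K V] {E : Type*} (vec : E → V) (b : E → K)
    (h : ∀ s : Finset E, ∃ L : Module.Dual K V, ∀ e ∈ s, L (vec e) = b e) :
    ∃ L : Module.Dual K V, ∀ e, L (vec e) = b e := by
  classical
  let ψ := Finsupp.linearCombination K vec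
  let β := Finsupp.linearCombination K b
  have hker : LinearMap.ker ψ ≤ LinearMap.ker β := fun c hc => by
    obtain ⟨L, hL⟩ := h c.support
    rw [LinearMap.mem_ker] at hc ⊢
    show Finsupp.linearCombination K b c = 0
    have h2 : L (ψ c) = 0 := by rw [hc, map_zero]
    refine Eq.trans ?_ h2
    simp only [ψ, Finsupp.linearCombination_apply, Finsupp.sum, map_sum, map_smul]
    exact Finset.sum_congr rfl fun e he => by rw [hL e he]
  obtain ⟨L, hL⟩ := LinearMap.exists_extend (p := LinearMap.range ψ)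
    ((Submodule.liftQ (LinearMap.ker ψ) β hker) ∘ₗ ψ.quotKerEquivRange.symm.toLinearMap)
  refine ⟨L, fun e => ?_⟩
  have h1 := LinearMap.congr_fun hL ⟨ψ (Finsupp.single e 1), LinearMap.mem_range_self ψ _⟩
  have h2 : L (ψ (Finsupp.single e 1)) = β (Finsupp.single e 1) := by
    refine h1.trans ?_
    show Submodule.liftQ _ β hker (ψ.quotKerEquivRange.symm ⟨ψ (Finsupp.single e 1), _⟩) = _
    rw [show ψ.quotKerEquivRange.symm ⟨ψ (Finsupp.single e 1), LinearMap.mem_range_self ψ _⟩ =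
      Submodule.Quotient.mk (Finsupp.single e 1) from
      (LinearEquiv.symm_apply_eq _).2 (Subtype.ext (ψ.quotKerEquivRange_apply_mk _).symm)]
    rfl
  simpa [ψ, β] using h2

variable {k : Type w} [Field k] {D : Type u} [Category.{v} D] [Preadditive D] [HasZeroObject D] [HasShift D ℤ]
  [∀ n : ℤ, (shiftFunctor D n).Additive] [Pretriangulated D] [HasCoproducts.{v} D]

variable (D) in
/-- The compact objects. -/
abbrev Dc := ObjectProperty.FullSubcategory (fun K : D => CohDer.IsCompactObject K)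

/-- A compact object. -/
abbrev mkC (X : D) (h : CohDer.IsCompactObject X) : Dc D := ⟨X, h⟩

variable (H : (Dc D)ᵒᵖ ⥤ ModuleCat.{v} k) [H.Additive]

/-- Restriction along a map of compact objects. -/
noncomputable def res {C C' : Dc D} (u : C.obj ⟶ C'.obj) : H.obj (op C') →ₗ[k] H.obj (op C) :=
  (H.map (ObjectProperty.homMk u : C ⟶ C').op).hom

omit [H.Additive] in
lemma res_id (C : Dc D) (x : H.obj (op C)) : res H (𝟙 C.obj) x = x := by
  show (H.map (ObjectProperty.homMk (𝟙 C.obj) : C ⟶ C).op).hom x = x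
  rw [show (ObjectProperty.homMk (𝟙 C.obj) : C ⟶ C) = 𝟙 C from rfl, op_id, H.map_id]
  rfl

omit [H.Additive] in
lemma res_comp {C C' C'' : Dc D} (u : C.obj ⟶ C'.obj) (v : C'.obj ⟶ C''.obj) (x : H.obj (op C'')) :
    res H (u ≫ v) x = res H u (res H v x) := by
  show (H.map (ObjectProperty.homMk (u ≫ v) : C ⟶ C'').op).hom x = _
  rw [show (ObjectProperty.homMk (u ≫ v) : C ⟶ C'') = (ObjectProperty.homMk u : C ⟶ C') ≫ (ObjectProperty.homMk v : C' ⟶ C'') from rfl,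
    op_comp, H.map_comp]
  rfl

lemma res_add {C C' : Dc D} (u v : C.obj ⟶ C'.obj) (x : H.obj (op C')) :
    res H (u + v) x = res H u x + res H v x := by
  show (H.map (ObjectProperty.homMk (u + v) : C ⟶ C').op).hom x = _
  rw [show (ObjectProperty.homMk (u + v) : C ⟶ C') = (ObjectProperty.homMk u : C ⟶ C') + (ObjectProperty.homMk v : C ⟶ C') from rfl,
    op_add, Functor.map_add]
  rfl

lemma res_zero {C C' : Dc D} (x : H.obj (op C')) : res H (0 : C.obj ⟶ C'.obj) x = 0 := by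
  have h := res_add H (0 : C.obj ⟶ C'.obj) 0 x
  rw [add_zero] at h
  exact add_eq_left.1 h.symm

/-- The value of the extension of `H` to all objects: natural families. -/
def Ext (X : D) : AddSubgroup (∀ C : Dc D, (C.obj ⟶ X) → H.obj (op C)) where
  carrier := {θ | ∀ (C C' : Dc D) (u : C.obj ⟶ C'.obj) (f : C'.obj ⟶ X), θ C (u ≫ f) = res H u (θ C' f)}
  zero_mem' := fun C C' u f => (map_zero (res H u)).symm
  add_mem' := fun {a b} ha hb C C' u f => by
    show a C (u ≫ f) + b C (u ≫ f) = res H u (a C' f + b C' f)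
    rw [ha C C' u f, hb C C' u f, map_add]
  neg_mem' := fun {a} ha C C' u f => by
    show -a C (u ≫ f) = res H u (-a C' f)
    rw [ha C C' u f, map_neg]

omit [H.Additive] in
lemma Ext.nat {X : D} (θ : Ext H X) {C C' : Dc D} (u : C.obj ⟶ C'.obj) (f : C'.obj ⟶ X) :
    θ.1 C (u ≫ f) = res H u (θ.1 C' f) := θ.2 C C' u f

omit [H.Additive] in
lemma Ext.nat' {X : D} (θ : Ext H X) {C C' : Dc D} (u : C.obj ⟶ C'.obj) (f : C'.obj ⟶ X) (g : C.obj ⟶ X)
    (h : u ≫ f = g) : θ.1 C g = res H u (θ.1 C' f) := h ▸ Ext.nat H θ u f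

omit [HasCoproducts.{v} D] in
lemma exists_biprod (X Y : D) : ∃ (Z : D) (i₁ : X ⟶ Z) (i₂ : Y ⟶ Z) (p₁ : Z ⟶ X) (p₂ : Z ⟶ Y),
    i₁ ≫ p₁ = 𝟙 X ∧ i₂ ≫ p₂ = 𝟙 Y ∧ i₁ ≫ p₂ = 0 ∧ i₂ ≫ p₁ = 0 ∧ p₁ ≫ i₁ + p₂ ≫ i₂ = 𝟙 Z ∧
      ∃ (c : Y ⟶ X⟦(1 : ℤ)⟧), Triangle.mk i₁ p₂ c ∈ distTriang D :=
  ⟨X ⊞ Y, biprod.inl, biprod.inr, biprod.fst, biprod.snd, biprod.inl_fst, biprod.inr_snd, biprod.inl_snd,
    biprod.inr_fst, biprod.total, 0, binaryBiproductTriangle_distinguished X Y⟩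

lemma exists_compact_sum (C C' : Dc D) : ∃ (Z : Dc D) (i₁ : C.obj ⟶ Z.obj) (i₂ : C'.obj ⟶ Z.obj)
    (p₁ : Z.obj ⟶ C.obj) (p₂ : Z.obj ⟶ C'.obj),
    i₁ ≫ p₁ = 𝟙 _ ∧ i₂ ≫ p₂ = 𝟙 _ ∧ i₁ ≫ p₂ = 0 ∧ i₂ ≫ p₁ = 0 ∧ p₁ ≫ i₁ + p₂ ≫ i₂ = 𝟙 _ := by
  obtain ⟨Z, i₁, i₂, p₁, p₂, h1, h2, h3, h4, h5, c, hT⟩ := exists_biprod C.obj C'.obj
  exact ⟨mkC Z (ObjectProperty.ext_of_isTriangulatedClosed₂ (fun K : D => CohDer.IsCompactObject K) _ hT C.2 C'.2),
    i₁, i₂, p₁, p₂, h1, h2, h3, h4, h5⟩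

lemma Ext.add {X : D} (θ : Ext H X) (C : Dc D) (f g : C.obj ⟶ X) : θ.1 C (f + g) = θ.1 C f + θ.1 C g := by
  obtain ⟨Z, i₁, i₂, p₁, p₂, h1, h2, h3, h4, -⟩ := exists_compact_sum C C
  let d : Z.obj ⟶ X := p₁ ≫ f + p₂ ≫ g
  have hf : i₁ ≫ d = f := by simp [d, reassoc_of% h1, reassoc_of% h3]
  have hg : i₂ ≫ d = g := by simp [d, reassoc_of% h4, reassoc_of% h2]
  rw [Ext.nat' H θ (i₁ + i₂) d (f + g) (by rw [Preadditive.add_comp, hf, hg]), res_add,
    ← Ext.nat' H θ i₁ d f hf, ← Ext.nat' H θ i₂ d g hg]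

/-- The value at a map, as an additive map. -/
noncomputable def evalHom {X : D} (θ : Ext H X) (C : Dc D) : (C.obj ⟶ X) →+ H.obj (op C) :=
  AddMonoidHom.mk' (θ.1 C) (Ext.add H θ C)

lemma Ext.zero {X : D} (θ : Ext H X) (C : Dc D) : θ.1 C 0 = 0 := (evalHom H θ C).map_zero

/-- Functoriality. -/
def Ext.map {X Y : D} (g : X ⟶ Y) : Ext H Y →+ Ext H X where
  toFun θ := ⟨fun C f => θ.1 C (f ≫ g), fun C C' u f => by
    show θ.1 C ((u ≫ f) ≫ g) = _
    rw [assoc]
    exact Ext.nat H θ u (f ≫ g)⟩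
  map_zero' := rfl
  map_add' _ _ := rfl

omit [H.Additive] in
lemma Ext.ext {X : D} {θ θ' : Ext H X} (h : ∀ C f, θ.1 C f = θ'.1 C f) : θ = θ' :=
  Subtype.ext (funext fun C => funext fun f => h C f)

/-- Evaluation at a compact object. -/
theorem bijective_eval (C : Dc D) : Function.Bijective fun θ : Ext H C.obj => θ.1 C (𝟙 C.obj) := by
  refine ⟨fun θ θ' h => Ext.ext H fun C' f => ?_, fun a => ?_⟩
  · rw [Ext.nat' H θ f (𝟙 C.obj) f (comp_id f), Ext.nat' H θ' f (𝟙 C.obj) f (comp_id f)]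
    exact congrArg (res H f) h
  · refine ⟨⟨fun C' f => res H f a, fun C₁ C₂ u f => res_comp H u f a⟩, ?_⟩
    exact res_id H C a

/-- Coproducts go to products. -/
theorem exists_unique_sum {τ : Type v} (X : τ → D) (θ : ∀ j, Ext H (X j)) :
    ∃! η : Ext H (∐ X), ∀ j, Ext.map H (Sigma.ι X j) η = θ j := by
  classical
  let e : ∀ C : Dc D, DirectSum τ (fun j => C.obj ⟶ X j) ≃+ (C.obj ⟶ ∐ X) := fun C =>
    AddEquiv.ofBijective (CohDer.homSumToHomCoprod C.obj X) (C.2 τ X)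
  have he : ∀ C j g, e C (DirectSum.of _ j g) = g ≫ Sigma.ι X j := fun C j g => by
    show CohDer.homSumToHomCoprod C.obj X (DirectSum.of _ j g) = _
    rw [CohDer.homSumToHomCoprod, DirectSum.toAddMonoid_of]
    rfl
  let val : ∀ C : Dc D, DirectSum τ (fun j => C.obj ⟶ X j) →+ H.obj (op C) := fun C =>
    DirectSum.toAddMonoid fun j => evalHom H (θ j) C
  have hnat : ∀ (C C' : Dc D) (u : C.obj ⟶ C'.obj) (d : DirectSum τ (fun j => C'.obj ⟶ X j)),
      val C ((e C).symm (u ≫ e C' d)) = res H u (val C' d) := fun C C' u d => by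
    induction d using DirectSum.induction_on with
    | zero => simp
    | of j g =>
      rw [he, show u ≫ g ≫ Sigma.ι X j = e C (DirectSum.of _ j (u ≫ g)) by rw [he, assoc],
        AddEquiv.symm_apply_apply]
      simp only [val, DirectSum.toAddMonoid_of]
      exact Ext.nat H (θ j) u g
    | add a b ha hb =>
      rw [map_add, Preadditive.comp_add, map_add, map_add, ha, hb, map_add, map_add]
  refine ⟨⟨fun C f => val C ((e C).symm f), fun C C' u f => ?_⟩, fun j => Ext.ext H fun C f => ?_, fun η hη => ?_⟩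
  · obtain ⟨d, rfl⟩ := (e C').surjective f
    show val C ((e C).symm (u ≫ e C' d)) = res H u (val C' ((e C').symm (e C' d)))
    rw [AddEquiv.symm_apply_apply]
    exact hnat C C' u d
  · show val C ((e C).symm (f ≫ Sigma.ι X j)) = _
    rw [← he, AddEquiv.symm_apply_apply]
    simp only [val, DirectSum.toAddMonoid_of]
    rfl
  · refine Ext.ext H fun C f => ?_
    obtain ⟨d, rfl⟩ := (e C).surjective f
    show _ = val C ((e C).symm (e C d))
    rw [AddEquiv.symm_apply_apply]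
    induction d using DirectSum.induction_on with
    | zero => rw [map_zero, map_zero, Ext.zero]
    | of j g =>
      rw [he]
      simp only [val, DirectSum.toAddMonoid_of]
      exact congrArg (fun t : Ext H (X j) => t.1 C g) (hη j)
    | add a b ha hb => rw [map_add, map_add, Ext.add, ha, hb]

/-- Exactness at finitely many arrows: a single compact object carries them. -/
lemma exists_common {Z : D} : ∀ F : List (Σ C : Dc D, (C.obj ⟶ Z)),
    ∃ (C₀ : Dc D) (f₀ : C₀.obj ⟶ Z), ∀ i ∈ F, ∃ j : i.1.obj ⟶ C₀.obj, j ≫ f₀ = i.2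
  | [] => ⟨mkC 0 (isCompactObject_of_isZero (isZero_zero D)), 0, by simp⟩
  | i :: F => by
    obtain ⟨C₀, f₀, h⟩ := exists_common F
    obtain ⟨W, i₁, i₂, p₁, p₂, h1, h2, h3, h4, -⟩ := exists_compact_sum i.1 C₀
    refine ⟨W, p₁ ≫ i.2 + p₂ ≫ f₀, fun i' hi' => ?_⟩
    rcases List.mem_cons.1 hi' with rfl | hi'
    · exact ⟨i₁, by simp [reassoc_of% h1, reassoc_of% h3]⟩
    · obtain ⟨j, hj⟩ := h i' hi'
      exact ⟨j ≫ i₂, by simp [reassoc_of% h4, reassoc_of% h2, hj]⟩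

lemma exists_cone {K C : Dc D} (d : K.obj ⟶ C.obj) : ∃ (C' : Dc D) (q : C.obj ⟶ C'.obj)
    (c : C'.obj ⟶ K.obj⟦(1 : ℤ)⟧), Triangle.mk d q c ∈ distTriang D := by
  obtain ⟨Z, g, c, hT⟩ := distinguished_cocone_triangle d
  exact ⟨mkC Z (ObjectProperty.ext_of_isTriangulatedClosed₃ (fun K : D => CohDer.IsCompactObject K) _ hT K.2 C.2),
    g, c, hT⟩

/-- The index of all compact test arrows. -/
abbrev Idx (Z : D) := Σ C : Dc D, (C.obj ⟶ Z)

/-- Finitely many identities between test arrows hold in a single one. -/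
lemma exists_coeq {Z : D} (F : List (Idx (D := D) Z)) :
    ∀ E : List (Σ p : Idx (D := D) Z × Idx (D := D) Z, {u : p.1.1.obj ⟶ p.2.1.obj // u ≫ p.2.2 = p.1.2}),
    (∀ e ∈ E, e.1.1 ∈ F ∧ e.1.2 ∈ F) →
    ∃ (C₀ : Dc D) (f₀ : C₀.obj ⟶ Z) (j : ∀ i : Idx (D := D) Z, i.1.obj ⟶ C₀.obj),
      (∀ i ∈ F, j i ≫ f₀ = i.2) ∧ ∀ e ∈ E, e.2.1 ≫ j e.1.2 = j e.1.1
  | [], _ => by
    classical
    obtain ⟨C₀, f₀, h⟩ := exists_common F
    exact ⟨C₀, f₀, fun i => if hi : i ∈ F then (h i hi).choose else 0,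
      fun i hi => by simp only [dif_pos hi]; exact (h i hi).choose_spec, by simp⟩
  | e :: E, hE => by
    obtain ⟨C₀, f₀, j, hj, hE'⟩ := exists_coeq F E fun e' he' => hE e' (List.mem_cons_of_mem _ he')
    obtain ⟨h1, h2⟩ := hE e (by simp)
    let d : e.1.1.1.obj ⟶ C₀.obj := e.2.1 ≫ j e.1.2 - j e.1.1
    obtain ⟨C', q, c, hT⟩ := exists_cone d
    obtain ⟨f', hf'⟩ := Triangle.yoneda_exact₂ _ hT f₀ (by
      show d ≫ f₀ = 0
      simp only [d, Preadditive.sub_comp, assoc, hj _ h1, hj _ h2, e.2.2, sub_self])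
    change f₀ = q ≫ f' at hf'
    have hdq : d ≫ q = 0 := comp_distTriang_mor_zero₁₂ _ hT
    refine ⟨C', f', fun i => j i ≫ q, fun i hi => by rw [assoc, ← hf', hj i hi], fun e' he' => ?_⟩
    rcases List.mem_cons.1 he' with rfl | he'
    · rwa [Preadditive.sub_comp, sub_eq_zero, assoc] at hdq
    · rw [← assoc, hE' e' he']

/-- Finitely many prescribed arrows factor through a single one. -/
lemma exists_gather {Y Z : D} (g : Y ⟶ Z) (C₀ : Dc D) (f₀ : C₀.obj ⟶ Z) :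
    ∀ P : List (Σ C : Dc D, {p : (C.obj ⟶ C₀.obj) × (C.obj ⟶ Y) // p.1 ≫ f₀ = p.2 ≫ g}),
    ∃ (C : Dc D) (u : C.obj ⟶ C₀.obj) (y : C.obj ⟶ Y), u ≫ f₀ = y ≫ g ∧
      ∀ p ∈ P, ∃ s : p.1.obj ⟶ C.obj, s ≫ u = p.2.1.1 ∧ s ≫ y = p.2.1.2
  | [] => ⟨mkC 0 (isCompactObject_of_isZero (isZero_zero D)), 0, 0, by simp, by simp⟩
  | p :: P => by
    obtain ⟨C, u, y, h, hP⟩ := exists_gather g C₀ f₀ P
    obtain ⟨W, i₁, i₂, p₁, p₂, h1, h2, h3, h4, -⟩ := exists_compact_sum p.1 C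
    refine ⟨W, p₁ ≫ p.2.1.1 + p₂ ≫ u, p₁ ≫ p.2.1.2 + p₂ ≫ y, ?_, fun p' hp' => ?_⟩
    · simp only [Preadditive.add_comp, assoc, h, p.2.2]
    · rcases List.mem_cons.1 hp' with rfl | hp'
      · exact ⟨i₁, by simp [reassoc_of% h1, reassoc_of% h3], by simp [reassoc_of% h1, reassoc_of% h3]⟩
      · obtain ⟨s, hs₁, hs₂⟩ := hP p' hp'
        exact ⟨s ≫ i₂, by simp [reassoc_of% h4, reassoc_of% h2, hs₁], by simp [reassoc_of% h4, reassoc_of% h2, hs₂]⟩

variable (hcoh : ∀ T ∈ distTriang D, ∀ (h₁ : CohDer.IsCompactObject T.obj₁)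
      (h₂ : CohDer.IsCompactObject T.obj₂) (h₃ : CohDer.IsCompactObject T.obj₃)
      (y : H.obj (op ⟨T.obj₂, h₂⟩)),
      H.map (ObjectProperty.homMk T.mor₁ : (⟨T.obj₁, h₁⟩ : Dc D) ⟶ ⟨T.obj₂, h₂⟩).op y = 0 →
        ∃ z : H.obj (op ⟨T.obj₃, h₃⟩),
          H.map (ObjectProperty.homMk T.mor₂ : (⟨T.obj₂, h₂⟩ : Dc D) ⟶ ⟨T.obj₃, h₃⟩).op z = y)
  (hfin : ∀ C, Module.Finite k (H.obj C))

include hcoh hfin in
/-- The extension is cohomological. -/
theorem exact_ext (T : Triangle D) (hT : T ∈ distTriang D) (η : Ext H T.obj₂) (hη : Ext.map H T.mor₁ η = 0) :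
    ∃ θ : Ext H T.obj₃, Ext.map H T.mor₂ θ = η := by
  classical
  have hη' : ∀ (C : Dc D) (x : C.obj ⟶ T.obj₁), η.1 C (x ≫ T.mor₁) = 0 := fun C x =>
    congrArg (fun t : Ext H T.obj₁ => t.1 C x) hη
  let ι := Idx (D := D) T.obj₃
  let W : ι → Type v := fun i => H.obj (op i.1)
  let V := DirectSum ι fun i => Module.Dual k (W i)
  let lof := fun i => DirectSum.lof k ι (fun i => Module.Dual k (W i)) i
  let Ea := Σ p : ι × ι, {u : p.1.1.obj ⟶ p.2.1.obj // u ≫ p.2.2 = p.1.2} × Module.Dual k (W p.1)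
  let Eb := Σ i : ι, {y : i.1.obj ⟶ T.obj₂ // y ≫ T.mor₂ = i.2} × Module.Dual k (W i)
  let vec : Ea ⊕ Eb → V := Sum.elim
    (fun e => lof e.1.1 e.2.2 - lof e.1.2 (e.2.2 ∘ₗ res H e.2.1.1)) (fun e => lof e.1 e.2.2)
  let b : Ea ⊕ Eb → k := Sum.elim (fun _ => 0) (fun e => e.2.2 (η.1 e.1.1 e.2.1.1))
  obtain ⟨L, hL⟩ := exists_functional vec b fun s => by
    let as := s.toList.filterMap Sum.getLeft?
    let bs := s.toList.filterMap Sum.getRight?
    let E' : List (Σ p : ι × ι, {u : p.1.1.obj ⟶ p.2.1.obj // u ≫ p.2.2 = p.1.2}) := as.map fun e => ⟨e.1, e.2.1⟩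
    let F : List ι := as.map (fun e => e.1.1) ++ as.map (fun e => e.1.2) ++ bs.map fun e => e.1
    obtain ⟨C₀, f₀, j, hj, hE⟩ := exists_coeq (D := D) F E' fun e he => by
      obtain ⟨a, ha, rfl⟩ := List.mem_map.1 he
      exact ⟨List.mem_append_left _ (List.mem_append_left _ (List.mem_map.2 ⟨a, ha, rfl⟩)),
        List.mem_append_left _ (List.mem_append_right _ (List.mem_map.2 ⟨a, ha, rfl⟩))⟩
    let P : List (Σ C : Dc D, {p : (C.obj ⟶ C₀.obj) × (C.obj ⟶ T.obj₂) // p.1 ≫ f₀ = p.2 ≫ T.mor₂}) :=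
      bs.attach.map fun e =>
      ⟨e.1.1.1, ⟨(j e.1.1, e.1.2.1.1), by
        rw [hj _ (List.mem_append_right _ (List.mem_map.2 ⟨e.1, e.2, rfl⟩))]; exact e.1.2.1.2.symm⟩⟩
    obtain ⟨C, u, y, huy, hP⟩ := exists_gather T.mor₂ C₀ f₀ P
    obtain ⟨θ₀, hθ₀⟩ : ∃ θ₀, res H u θ₀ = η.1 C y := by
      obtain ⟨K, a, c, hK⟩ := distinguished_cocone_triangle₁ u
      have hKc : CohDer.IsCompactObject K :=
        ObjectProperty.ext_of_isTriangulatedClosed₁ (fun K : D => CohDer.IsCompactObject K) _ hK C.2 C₀.2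
      have hau : a ≫ u = 0 := comp_distTriang_mor_zero₁₂ _ hK
      obtain ⟨x, hx⟩ := Triangle.coyoneda_exact₂ T hT (a ≫ y) (by
        rw [assoc, ← huy, ← assoc, hau, zero_comp])
      have h0 : res H (C := mkC K hKc) (C' := C) a (η.1 C y) = 0 := by
        rw [← Ext.nat H η (C := mkC K hKc) a y, hx]
        exact hη' (mkC K hKc) x
      exact hcoh _ hK hKc C.2 C₀.2 (η.1 C y) h0
    let val : ∀ i : ι, W i := fun i => res H (j i) θ₀
    let L₀ : Module.Dual k V := DirectSum.toModule k ι k fun i => Module.Dual.eval k (W i) (val i)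
    have key : ∀ i (ξ : Module.Dual k (W i)), L₀ (lof i ξ) = ξ (val i) := fun i ξ => by
      simp only [L₀, lof]
      exact DirectSum.toModule_lof (R := k) (M := fun i => Module.Dual k (W i)) (N := k) (φ := fun i => Module.Dual.eval k (W i) (val i)) i ξ
    refine ⟨L₀, fun e he => ?_⟩
    rcases e with ⟨p, ⟨u', hu'⟩, ξ⟩ | ⟨i, ⟨y', hy'⟩, ξ⟩
    · have hmem : (⟨p, ⟨u', hu'⟩⟩ : Σ p : ι × ι, {u : p.1.1.obj ⟶ p.2.1.obj // u ≫ p.2.2 = p.1.2}) ∈ E' :=
        List.mem_map.2 ⟨⟨p, ⟨u', hu'⟩, ξ⟩, List.mem_filterMap.2 ⟨_, Finset.mem_toList.2 he, rfl⟩, rfl⟩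
      simp only [vec, b, Sum.elim_inl, map_sub, key, LinearMap.comp_apply, val]
      rw [← res_comp H u' (j p.2) θ₀, hE _ hmem, sub_self]
    · obtain ⟨s', hs₁, hs₂⟩ := hP ⟨i.1, (j i, y'), _⟩ (List.mem_map.2 ⟨⟨⟨i, ⟨y', hy'⟩, ξ⟩,
        List.mem_filterMap.2 ⟨_, Finset.mem_toList.2 he, rfl⟩⟩, List.mem_attach _ _, rfl⟩)
      simp only [vec, b, Sum.elim_inr, key, val]
      refine congrArg ξ ?_
      show res H (j i) θ₀ = η.1 i.1 y'
      change s' ≫ u = j i at hs₁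
      change s' ≫ y = y' at hs₂
      rw [← hs₁, res_comp, hθ₀]
      exact (Ext.nat' H η s' y y' hs₂).symm
  have hf : ∀ i : ι, Module.Finite k (W i) := fun i => hfin (op i.1)
  let θ : ∀ i : ι, W i := fun i => (Module.evalEquiv k (W i)).symm (L ∘ₗ lof i)
  have hθ : ∀ (i : ι) (ξ : Module.Dual k (W i)), ξ (θ i) = L (lof i ξ) := fun i ξ =>
    LinearMap.congr_fun ((Module.evalEquiv k (W i)).apply_symm_apply (L ∘ₗ lof i)) ξ
  refine ⟨⟨fun C f => θ ⟨C, f⟩, fun C C' u f => ?_⟩, Ext.ext H fun C y => ?_⟩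
  · refine (Module.evalEquiv k (W ⟨C, u ≫ f⟩)).injective (LinearMap.ext fun ξ => ?_)
    show ξ (θ ⟨C, u ≫ f⟩) = ξ (res H u (θ ⟨C', f⟩))
    have h := hL (.inl ⟨(⟨C, u ≫ f⟩, ⟨C', f⟩), ⟨u, rfl⟩, ξ⟩)
    simp only [vec, b, Sum.elim_inl, map_sub, sub_eq_zero] at h
    exact (hθ _ ξ).trans (h.trans (hθ ⟨C', f⟩ (ξ ∘ₗ res H u)).symm)
  · refine (Module.evalEquiv k (W ⟨C, y ≫ T.mor₂⟩)).injective (LinearMap.ext fun ξ => ?_)
    show ξ (θ ⟨C, y ≫ T.mor₂⟩) = ξ (η.1 C y)
    exact (hθ _ ξ).trans (hL (.inr ⟨⟨C, y ≫ T.mor₂⟩, ⟨y, rfl⟩, ξ⟩))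

variable {κ : Type v} (G : κ → D) (hG : ∀ X, CohDer.IsCompactObject X → ∃ s, Nonempty (G s ≅ X))

omit [H.Additive] in
include hG in
/-- The extension has small values. -/
theorem small_ext (X : D) : Small.{v} (Ext H X) := by
  let I := Σ p : {s : κ // CohDer.IsCompactObject (G s)}, (G p.1 ⟶ X)
  refine small_of_injective (f := fun θ : Ext H X => fun i : I => θ.1 (mkC (G i.1.1) i.1.2) i.2)
    fun θ θ' h => Ext.ext H fun C f => ?_
  obtain ⟨s, ⟨e⟩⟩ := hG C.obj C.2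
  have hc : CohDer.IsCompactObject (G s) := isCompactObject_of_iso e.symm C.2
  have h' : θ.1 (mkC (G s) hc) (e.hom ≫ f) = θ'.1 (mkC (G s) hc) (e.hom ≫ f) := congrFun h ⟨⟨s, hc⟩, e.hom ≫ f⟩
  rw [Ext.nat' H θ (C := C) (C' := mkC (G s) hc) e.inv (e.hom ≫ f) f (e.inv_hom_id_assoc f),
    Ext.nat' H θ' (C := C) (C' := mkC (G s) hc) e.inv (e.hom ≫ f) f (e.inv_hom_id_assoc f), h']

variable [∀ X, Small.{v} (Ext H X)]

/-- The extension, as a functor. -/
noncomputable def extFunctor : Dᵒᵖ ⥤ AddCommGrpCat.{v} where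
  obj X := AddCommGrpCat.of (Shrink.{v} (Ext H X.unop))
  map {X Y} g := AddCommGrpCat.ofHom (AddMonoidHom.mk'
    (fun t => equivShrink _ (Ext.map H g.unop ((equivShrink _).symm t)))
    (fun a b => by rw [equivShrink_symm_add, map_add, equivShrink_add]))
  map_id X := by
    refine AddCommGrpCat.ext fun t => ?_
    show equivShrink _ (Ext.map H (𝟙 X.unop) ((equivShrink _).symm t)) = t
    rw [show Ext.map H (𝟙 X.unop) ((equivShrink _).symm t) = (equivShrink _).symm t from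
      Ext.ext H fun C f => congrArg (((equivShrink _).symm t : Ext H X.unop).1 C) (comp_id f),
      Equiv.apply_symm_apply]
  map_comp {X Y Z} g h := by
    refine AddCommGrpCat.ext fun t => ?_
    show equivShrink _ (Ext.map H (h.unop ≫ g.unop) ((equivShrink _).symm t)) =
      equivShrink _ (Ext.map H h.unop ((equivShrink _).symm (equivShrink _ (Ext.map H g.unop ((equivShrink _).symm t)))))
    rw [Equiv.symm_apply_apply]
    exact congrArg _ (Ext.ext H fun C f =>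
      congrArg (((equivShrink _).symm t : Ext H X.unop).1 C) (assoc f h.unop g.unop).symm)

instance preservesZero_extFunctor : (extFunctor H).PreservesZeroMorphisms where
  map_zero X Y := by
    refine AddCommGrpCat.ext fun t => ?_
    show equivShrink _ (Ext.map H (0 : Y.unop ⟶ X.unop) ((equivShrink _).symm t)) = 0
    rw [show Ext.map H (0 : Y.unop ⟶ X.unop) ((equivShrink _).symm t) = 0 from
      Ext.ext H fun C f => (congrArg (((equivShrink _).symm t : Ext H X.unop).1 C) comp_zero).trans (Ext.zero H _ C)]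
    rfl

include hcoh hfin in
theorem isHomological_extFunctor : (extFunctor H).IsHomological where
  exact T hT := by
    rw [ShortComplex.ab_exact_iff]
    intro x hx
    let η : Ext H T.obj₂.unop := (equivShrink (Ext H T.obj₂.unop)).symm x
    have h0 : Ext.map H T.mor₂.unop η = 0 := by
      refine (equivShrink _).injective ?_
      exact hx
    obtain ⟨θ, hθ⟩ := exact_ext H hcoh hfin _ (unop_distinguished T hT) η h0
    refine ⟨equivShrink _ θ, ?_⟩
    show equivShrink _ (Ext.map H T.mor₁.unop ((equivShrink _).symm (equivShrink _ θ))) = x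
    rw [Equiv.symm_apply_apply]
    exact (congrArg (equivShrink _) hθ).trans (Equiv.apply_symm_apply _ _)

theorem preservesLimits_extFunctor (τ : Type v) : PreservesLimitsOfShape (Discrete τ) (extFunctor H) := by
  suffices PreservesLimitsOfShape (Discrete τ) (extFunctor H ⋙ forget AddCommGrpCat.{v}) from
    preservesLimitsOfShape_of_reflects_of_preserves _ (forget AddCommGrpCat.{v})
  refine ⟨fun {K} => ?_⟩
  let X : τ → D := fun j => (K.obj ⟨j⟩).unop
  have hc : IsLimit (Fan.mk (op (∐ X)) fun j => (Sigma.ι X j).op) :=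
    Cofan.IsColimit.op (coproductIsCoproduct X)
  suffices PreservesLimit (Discrete.functor fun j => op (X j)) (extFunctor H ⋙ forget AddCommGrpCat.{v}) from
    preservesLimit_of_iso_diagram (K₁ := Discrete.functor fun j => op (X j)) _ (Discrete.natIso fun j => Iso.refl _)
  refine preservesLimit_of_preserves_limit_cone hc ((Types.isLimit_iff _).2 ?_).some
  intro s hs
  obtain ⟨η, h₁, h₂⟩ := exists_unique_sum H X fun j => (equivShrink _).symm (s ⟨j⟩)
  refine ⟨equivShrink _ η, fun j => ?_, fun y hy => ?_⟩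
  · show equivShrink _ (Ext.map H (Sigma.ι X j.as) ((equivShrink _).symm (equivShrink _ η))) = s j
    rw [Equiv.symm_apply_apply, h₁]
    exact Equiv.apply_symm_apply _ _
  · refine (equivShrink _).symm.injective ?_
    rw [Equiv.symm_apply_apply]
    refine h₂ _ fun j => ?_
    refine (equivShrink _).injective ?_
    exact (hy ⟨j⟩).trans (Equiv.apply_symm_apply _ _).symm

end Groth.Agent.H9Misc.BrownFinDim
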