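import Groth.Agent.SiteBase.Horseshoe

/-!
The horseshoe lemma with prescribed outer resolutions (variant of `SESResLib.nonempty_sesRes`).
-/

universe v u

open CategoryTheory CategoryTheory.Limits

noncomputable section

namespace SESResLib

variable {C : Type u} [Category.{v} C] [Abelian C] {S : ShortComplex C} (hS : S.ShortExact)
  (I₁ : InjectiveResolution S.X₁) (I₃ : InjectiveResolution S.X₃)

include hS I₁ I₃ in
/-- The horseshoe lemma, with prescribed outer resolutions. -/
lemma exists_sesRes_eq : ∃ T : RDer.SESRes S, T.I₁ = I₁ ∧ T.I₃ = I₃ := by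
  obtain ⟨α, t₀, hα, hα'⟩ := twist_zero hS I₁ I₃
  let ts : ∀ n, Twist I₁ I₃ n := fun n =>
    Nat.rec t₀ (fun k m => (twist_succ I₁ I₃ m).choose) n
  have hts : ∀ n, I₃.cocomplex.d n (n + 1) ≫ (ts (n + 1)).1 =
      -((ts n).1 ≫ I₁.cocomplex.d (n + 1) (n + 2)) :=
    fun n => (twist_succ I₁ I₃ (ts n)).choose_spec
  let t := fun n => (ts n).1
  let M := midCx I₁ I₃ t hts
  let ι : S.X₂ ⟶ I₁.cocomplex.X 0 ⊞ I₃.cocomplex.X 0 := biprod.lift α (S.g ≫ ι₀ I₃)
  have hιD : ι ≫ midD I₁ I₃ t 0 = 0 := by
    apply biprod.hom_ext <;> simp [ι, midD, ι₀_d]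
    exact hα'
  have hι : (ι : S.X₂ ⟶ M.X 0) ≫ M.d 0 1 = 0 :=
    (congrArg (fun z => ι ≫ z) (midCx_d I₁ I₃ t hts 0)).trans hιD
  have hfi : S.f ≫ ι = ι₀ I₁ ≫ biprod.inl := by
    apply biprod.hom_ext <;> simp [ι, hα, reassoc_of% S.zero]
  have hιsnd : ι ≫ biprod.snd = S.g ≫ ι₀ I₃ := biprod.lift_snd _ _
  let η : (CochainComplex.single₀ C).obj S.X₂ ⟶ M :=
    (CochainComplex.fromSingle₀Equiv M S.X₂).symm ⟨ι, hι⟩
  have hη : η.f 0 = ι :=
    CochainComplex.fromSingle₀Equiv_symm_apply_f_zero (C := M) (ι : S.X₂ ⟶ M.X 0) hι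
  have hq : QuasiIso η := ⟨fun n => by
    cases n with
    | succ n =>
      rw [quasiIsoAt_iff_exactAt]
      · exact (midShortExact I₁ I₃ t hts).exactAt_X₂ (n + 1)
          (RDer.res_exactAt_succ I₁.cocomplex I₁.ι n) (RDer.res_exactAt_succ I₃.cocomplex I₃.ι n)
      · apply CochainComplex.exactAt_succ_single_obj
    | zero =>
      have := hS.mono_f
      have hmono : Mono ι := by
        rw [Preadditive.mono_iff_cancel_zero]
        intro A x hx
        have hxg : x ≫ S.g = 0 := by
          rw [← cancel_mono (ι₀ I₃), Category.assoc, zero_comp]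
          simpa [ι] using congrArg (fun z => z ≫ biprod.snd) hx
        rw [← hS.exact.lift_f x hxg]
        have : hS.exact.lift x hxg ≫ ι₀ I₁ = 0 := by
          rw [← hα, ← Category.assoc, hS.exact.lift_f]
          simpa [ι] using congrArg (fun z => z ≫ biprod.fst) hx
        rw [zero_of_comp_mono (ι₀ I₁) this, zero_comp]
      rw [CochainComplex.quasiIsoAt₀_iff, ShortComplex.quasiIso_iff_of_zeros]
      · refine (ShortComplex.exact_and_mono_f_iff_of_iso ?_).2
          (⟨?_, hmono⟩ : (ShortComplex.mk ι (M.d 0 1) hι).Exact ∧ Mono ι)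
        · exact ShortComplex.isoMk (Iso.refl _) (Iso.refl _) (Iso.refl _)
            ((Category.id_comp _).trans (hη.symm.trans (Category.comp_id _).symm))
            ((Category.id_comp _).trans (Category.comp_id _).symm)
        · rw [ShortComplex.exact_iff_exact_up_to_refinements]
          intro A x hx
          change A ⟶ I₁.cocomplex.X 0 ⊞ I₃.cocomplex.X 0 at x
          have hxD : x ≫ midD I₁ I₃ t 0 = 0 :=
            (congrArg (fun z => x ≫ z) (midCx_d I₁ I₃ t hts 0)).symm.trans hx
          have hx₃ : (x ≫ biprod.snd) ≫ I₃.cocomplex.d 0 1 = 0 := by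
            rw [Category.assoc, ← midD_snd I₁ I₃ t 0, ← Category.assoc, hxD, zero_comp]
          have := hS.epi_g
          obtain ⟨A₁, π, hπ, v, hv⟩ := surjective_up_to_refinements_of_epi S.g
            ((ι₀_exact I₃).lift (x ≫ biprod.snd) hx₃)
          let y := π ≫ x - v ≫ ι
          have hy₃ : y ≫ biprod.snd = 0 := by
            dsimp [y, ι]
            rw [Preadditive.sub_comp, Category.assoc, Category.assoc, biprod.lift_snd,
              ← Category.assoc v, ← hv, Category.assoc]
            erw [(ι₀_exact I₃).lift_f]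
            exact sub_self _
          have hy : y = (y ≫ biprod.fst) ≫ biprod.inl := by
            apply biprod.hom_ext <;> simp [hy₃]
          have hyd : y ≫ midD I₁ I₃ t 0 = 0 := by
            dsimp [y]
            rw [Preadditive.sub_comp, Category.assoc, Category.assoc, hιD, hxD, comp_zero,
              comp_zero, sub_zero]
          have hy₁ : (y ≫ biprod.fst) ≫ I₁.cocomplex.d 0 1 = 0 := by
            rw [← cancel_mono (biprod.inl : I₁.cocomplex.X 1 ⟶ I₁.cocomplex.X 1 ⊞ I₃.cocomplex.X 1),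
              zero_comp, Category.assoc, ← inl_midD I₁ I₃ t 0, ← Category.assoc, ← hy, hyd]
          have hl : (ι₀_exact I₁).lift (y ≫ biprod.fst) hy₁ ≫ ι₀ I₁ = y ≫ biprod.fst :=
            (ι₀_exact I₁).lift_f _ hy₁
          refine ⟨A₁, π, hπ, v + (ι₀_exact I₁).lift (y ≫ biprod.fst) hy₁ ≫ S.f, ?_⟩
          change π ≫ x = _ ≫ ι
          rw [Preadditive.add_comp, Category.assoc]
          rw [hfi, ← Category.assoc, hl, ← hy]
          dsimp [y]
          abel
      all_goals rfl⟩
  have injM : ∀ n, Injective (M.X n) := fun n => by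
    change Injective (I₁.cocomplex.X n ⊞ I₃.cocomplex.X n)
    infer_instance
  let I₂ : InjectiveResolution S.X₂ := { cocomplex := M, ι := η, quasiIso := hq }
  refine ⟨{
    I₁ := I₁, I₂ := I₂, I₃ := I₃
    f := midInl I₁ I₃ t hts
    g := midSnd I₁ I₃ t hts
    zero := by ext n; exact biprod.inl_snd
    ι_f := ?_
    ι_g := ?_
    shortExact := midShortExact I₁ I₃ t hts }, rfl, rfl⟩
  · apply HomologicalComplex.from_single_hom_ext
    rw [HomologicalComplex.comp_f, HomologicalComplex.comp_f,
      CochainComplex.single₀_map_f_zero]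
    change ι₀ I₁ ≫ biprod.inl = S.f ≫ η.f 0
    rw [hη]
    exact hfi.symm
  · apply HomologicalComplex.from_single_hom_ext
    rw [HomologicalComplex.comp_f, HomologicalComplex.comp_f,
      CochainComplex.single₀_map_f_zero]
    change η.f 0 ≫ biprod.snd = S.g ≫ ι₀ I₃
    rw [hη]
    exact hιsnd

end SESResLib
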