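import Mathlib
import Groth.Prelude.Def_CE
import Groth.Agent.H9Misc.HorseshoeEq

/-! Cartan–Eilenberg resolutions. -/

set_option linter.style.haveILetI false
set_option backward.defeqAttrib.useBackward true

universe v u

open CategoryTheory CategoryTheory.Limits HomologicalComplex

noncomputable section

namespace Groth.Agent.H9Misc.CERes

variable {A : Type u} [Category.{v} A] [Abelian A]

/-- The integer indexed extension functor. -/
abbrev ext : CochainComplex A ℕ ⥤ CochainComplex A ℤ := ComplexShape.embeddingUpNat.extendFunctor A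

section Res

variable {X : A} (R : InjectiveResolution X)

/-- The augmentation into the extended resolution. -/
def aug : X ⟶ R.cochainComplex.X 0 :=
  R.ι.f 0 ≫ (R.cochainComplexXIso 0 0 rfl).inv

lemma isInjResolutionVia : CE.IsInjResolutionVia R.cochainComplex X (aug R) := by
  have hd : aug R ≫ R.cochainComplex.d 0 1 = 0 := by
    rw [aug, R.cochainComplex_d 0 1 0 1 rfl rfl]
    simp only [Category.assoc, Iso.inv_hom_id_assoc]
    erw [reassoc_of% (RDer.res_ι_d R.cocomplex R.ι)]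
    exact zero_comp
  refine ⟨hd, inferInstance, fun q => inferInstance, fun q hq => ?_, ?_, ?_⟩
  · exact (quasiIsoAt_iff_exactAt R.ι' q (HomologicalComplex.exactAt_single_obj _ _ _ _ hq)).1
      inferInstance
  · have : Mono (R.ι.f 0) := mono_of_isLimit_fork (RDer.resIsLimitKernelFork R.cocomplex R.ι)
    exact mono_comp' this inferInstance
  · refine (ShortComplex.exact_iff_of_iso ?_).1 (RDer.res_exact₀ R.cocomplex R.ι)
    refine ShortComplex.isoMk (Iso.refl _) (R.cochainComplexXIso 0 0 rfl).symm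
      (R.cochainComplexXIso 1 1 rfl).symm ?_ ?_
    · exact Category.id_comp _
    · exact (congrArg ((R.cochainComplexXIso 0 0 rfl).inv ≫ ·) (R.cochainComplex_d 0 1 0 1 rfl rfl)).trans
        (Iso.inv_hom_id_assoc _ _)

/-- A resolution of a zero object by zero. -/
def zeroRes (h : IsZero X) : InjectiveResolution X where
  cocomplex := (CochainComplex.single₀ A).obj X
  ι := 𝟙 _
  injective n := by
    rcases eq_or_ne n 0 with rfl | hn
    · exact h.injective
    · exact (HomologicalComplex.isZero_single_obj_X (ComplexShape.up ℕ) 0 X n hn).injective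

lemma isZero_zeroRes (h : IsZero X) (n : ℕ) : IsZero ((zeroRes h).cocomplex.X n) := by
  rcases eq_or_ne n 0 with rfl | hn
  · exact h
  · exact HomologicalComplex.isZero_single_obj_X (ComplexShape.up ℕ) 0 X n hn

lemma isZero_ext (K : CochainComplex A ℕ) (h : ∀ n, IsZero (K.X n)) (q : ℤ) : IsZero ((ext.obj K).X q) := by
  rcases lt_or_ge q 0 with hq | hq
  · exact K.isZero_extend_X _ _ fun i => by dsimp; omega
  · obtain ⟨k, rfl⟩ := Int.eq_ofNat_of_zero_le hq
    exact (h k).of_iso (K.extendXIso ComplexShape.embeddingUpNat rfl)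

lemma exists_res (X : A) [EnoughInjectives A] :
    ∃ R : InjectiveResolution X, IsZero X → ∀ q, IsZero (R.cochainComplex.X q) := by
  by_cases h : IsZero X
  · exact ⟨zeroRes h, fun _ q => isZero_ext _ (isZero_zeroRes h) q⟩
  · exact ⟨injectiveResolution X, fun h' => absurd h' h⟩

lemma ext_shortExact (T : ShortComplex (CochainComplex A ℕ)) (hT : T.ShortExact) :
    (T.map ext).ShortExact := by
  refine HomologicalComplex.shortExact_of_degreewise_shortExact _ fun q => ?_
  rcases lt_or_ge q 0 with hq | hq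
  · have hz : ∀ K : CochainComplex A ℕ, IsZero ((ext.obj K).X q) := fun K =>
      K.isZero_extend_X _ _ fun i => by dsimp; omega
    exact ShortComplex.ShortExact.mk' (ShortComplex.exact_of_isZero_X₂ _ (hz T.X₂))
      ((Preadditive.mono_iff_cancel_zero _).2 fun _ g _ => (hz T.X₁).eq_of_tgt g 0)
      ((Preadditive.epi_iff_cancel_zero _).2 fun _ g _ => (hz T.X₃).eq_of_src g 0)
  · obtain ⟨k, rfl⟩ := Int.eq_ofNat_of_zero_le hq
    refine (ShortComplex.shortExact_iff_of_iso ?_).2
      (hT.map_of_exact (HomologicalComplex.eval A (ComplexShape.up ℕ) k))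
    refine ShortComplex.isoMk (T.X₁.extendXIso ComplexShape.embeddingUpNat rfl)
      (T.X₂.extendXIso ComplexShape.embeddingUpNat rfl) (T.X₃.extendXIso ComplexShape.embeddingUpNat rfl) ?_ ?_
    · exact ((congrArg (· ≫ (T.X₂.extendXIso ComplexShape.embeddingUpNat rfl).hom)
        (extendMap_f T.f ComplexShape.embeddingUpNat rfl)).trans (by simp)).symm
    · exact ((congrArg (· ≫ (T.X₃.extendXIso ComplexShape.embeddingUpNat rfl).hom)
        (extendMap_f T.g ComplexShape.embeddingUpNat rfl)).trans (by simp)).symm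

lemma ext_aug {X Y : A} (R : InjectiveResolution X) (S : InjectiveResolution Y) (φ : X ⟶ Y)
    (f : R.cocomplex ⟶ S.cocomplex) (h : R.ι ≫ f = (CochainComplex.single₀ A).map φ ≫ S.ι) :
    φ ≫ aug S = aug R ≫ (ext.map f).f 0 := by
  have h0 : R.ι.f 0 ≫ f.f 0 = φ ≫ S.ι.f 0 := by
    have := HomologicalComplex.congr_hom h 0
    rwa [HomologicalComplex.comp_f, HomologicalComplex.comp_f, CochainComplex.single₀_map_f_zero] at this
  refine Eq.trans ?_ (congrArg (aug R ≫ ·)
    (extendMap_f f ComplexShape.embeddingUpNat (i := 0) (i' := (0 : ℤ)) rfl)).symm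
  simp only [aug, InjectiveResolution.cochainComplexXIso, Category.assoc]
  erw [Iso.inv_hom_id_assoc]
  exact ((Category.assoc _ _ _).symm.trans (congrArg (· ≫ _) h0.symm)).trans (Category.assoc _ _ _)

lemma horseshoe {S : ShortComplex A} (hS : S.ShortExact) (R₁ : InjectiveResolution S.X₁)
    (R₃ : InjectiveResolution S.X₃) :
    ∃ (R₂ : InjectiveResolution S.X₂) (f : R₁.cochainComplex ⟶ R₂.cochainComplex)
      (g : R₂.cochainComplex ⟶ R₃.cochainComplex) (w : f ≫ g = 0),
      (ShortComplex.mk f g w).ShortExact ∧ S.f ≫ aug R₂ = aug R₁ ≫ f.f 0 ∧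
        S.g ≫ aug R₃ = aug R₂ ≫ g.f 0 := by
  obtain ⟨⟨I₁, I₂, I₃, f, g, w, hf, hg, hse⟩, e₁, e₃⟩ :=
    SESResLib.exists_sesRes_eq hS R₁ R₃
  subst e₁ e₃
  exact ⟨I₂, ext.map f, ext.map g, (ext.map_comp f g).symm.trans (by rw [w, Functor.map_zero]; rfl),
    ext_shortExact _ hse, ext_aug _ _ _ _ hf, ext_aug _ _ _ _ hg⟩

end Res

section Cycles

variable (L : CochainComplex A ℤ) (m : ℤ) {Z B H : A} (i : Z ⟶ L.X (m + 1)) (j : B ⟶ Z) (π : Z ⟶ H)
  (e : L.X m ⟶ B)

/-- A presentation of cycles and homology in degree `m + 1`. -/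
structure Pres : Prop where
  mono : Mono i
  i_d : i ≫ L.d (m + 1) (m + 1 + 1) = 0
  exact : (ShortComplex.mk i (L.d (m + 1) (m + 1 + 1)) i_d).Exact
  d_eq : L.d m (m + 1) = e ≫ j ≫ i
  epi : Epi e
  j_π : j ≫ π = 0
  exact_π : (ShortComplex.mk j π j_π).Exact
  epi_π : Epi π

variable {L m i j π e} (P : Pres L m i j π e)

/-- The comparison map to cycles. -/
def cz : Z ⟶ L.cycles (m + 1) := L.liftCycles i (m + 1 + 1) (by simp) P.i_d

@[reassoc (attr := simp)]
lemma cz_i : cz P ≫ L.iCycles (m + 1) = i := L.liftCycles_i _ _ _ _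

lemma isIso_cz : IsIso (cz P) := by
  have := P.mono
  have : Mono (cz P) := mono_of_mono_fac (cz_i P)
  refine ⟨P.exact.lift (L.iCycles (m + 1)) (L.iCycles_d _ _), ?_, ?_⟩
  · have h : P.exact.lift (L.iCycles (m + 1)) (L.iCycles_d _ _) ≫ i = _ := P.exact.lift_f _ _
    rw [← cancel_mono i, Category.assoc, h, cz_i, Category.id_comp]
  · have h : P.exact.lift (L.iCycles (m + 1)) (L.iCycles_d _ _) ≫ i = _ := P.exact.lift_f _ _
    rw [← cancel_mono (L.iCycles (m + 1)), Category.assoc, cz_i, h, Category.id_comp]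

lemma toCycles_eq : L.toCycles m (m + 1) = e ≫ j ≫ cz P := by
  rw [← cancel_mono (L.iCycles (m + 1)), toCycles_i, Category.assoc, Category.assoc, cz_i, P.d_eq]

lemma j_cz_π : j ≫ cz P ≫ L.homologyπ (m + 1) = 0 := by
  have := P.epi
  rw [← cancel_epi e, comp_zero, ← Category.assoc j, ← Category.assoc e, ← toCycles_eq P,
    toCycles_comp_homologyπ]

/-- The comparison map to homology. -/
def hz : H ⟶ L.homology (m + 1) :=
  haveI := P.epi_π
  P.exact_π.desc (cz P ≫ L.homologyπ (m + 1)) (j_cz_π P)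

@[reassoc (attr := simp)]
lemma π_hz : π ≫ hz P = cz P ≫ L.homologyπ (m + 1) :=
  haveI := P.epi_π
  P.exact_π.g_desc _ _

lemma isIso_hz : IsIso (hz P) := by
  have := isIso_cz P
  have := P.epi_π
  have hc := L.homologyIsCokernel m (m + 1) (by simp)
  have hw : L.toCycles m (m + 1) ≫ inv (cz P) ≫ π = 0 := by
    rw [toCycles_eq P]; simp [P.j_π]
  refine ⟨hc.desc (CokernelCofork.ofπ (inv (cz P) ≫ π) hw), ?_, ?_⟩
  · rw [← cancel_epi π, π_hz_assoc]
    have h : L.homologyπ (m + 1) ≫ hc.desc (CokernelCofork.ofπ (inv (cz P) ≫ π) hw) = inv (cz P) ≫ π :=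
      hc.fac _ WalkingParallelPair.one
    rw [h, IsIso.hom_inv_id_assoc, Category.comp_id]
  · have h : L.homologyπ (m + 1) ≫ hc.desc (CokernelCofork.ofπ (inv (cz P) ≫ π) hw) = inv (cz P) ≫ π :=
      hc.fac _ WalkingParallelPair.one
    rw [← cancel_epi (L.homologyπ (m + 1)), reassoc_of% h, π_hz, IsIso.inv_hom_id_assoc, Category.comp_id]

variable {L' : CochainComplex A ℤ} {Z' B' H' : A} {i' : Z' ⟶ L'.X (m + 1)} {j' : B' ⟶ Z'} {π' : Z' ⟶ H'}
  {e' : L'.X m ⟶ B'} (P' : Pres L' m i' j' π' e') (φ : L ⟶ L')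

lemma cz_naturality (a : Z ⟶ Z') (ha : a ≫ i' = i ≫ φ.f (m + 1)) :
    a ≫ cz P' = cz P ≫ cyclesMap φ (m + 1) := by
  rw [← cancel_mono (L'.iCycles (m + 1)), Category.assoc, cz_i, Category.assoc, cyclesMap_i, cz_i_assoc, ha]

lemma hz_naturality (a : Z ⟶ Z') (b : H ⟶ H') (ha : a ≫ i' = i ≫ φ.f (m + 1)) (hb : a ≫ π' = π ≫ b) :
    b ≫ hz P' = hz P ≫ homologyMap φ (m + 1) := by
  have := P.epi_π
  rw [← cancel_epi π, ← reassoc_of% hb, π_hz, π_hz_assoc, reassoc_of% (cz_naturality P P' φ a ha),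
    homologyπ_naturality]

end Cycles

lemma isInjResolutionVia_of_iso {C C' : CochainComplex A ℤ} (e : C ≅ C') {M : A} {a : M ⟶ C.X 0}
    {a' : M ⟶ C'.X 0} (ha : a ≫ e.hom.f 0 = a') (h : CE.IsInjResolutionVia C M a) :
    CE.IsInjResolutionVia C' M a' := by
  obtain ⟨h₀, hge, hinj, hex, hm, hex₀⟩ := h
  have hd : a' ≫ C'.d 0 1 = 0 := by
    rw [← ha, Category.assoc, e.hom.comm, reassoc_of% h₀, zero_comp]
  refine ⟨hd, CochainComplex.isStrictlyGE_of_iso e 0, fun q => ?_, fun q hq => (hex q hq).of_iso e, ?_, ?_⟩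
  · exact Injective.of_iso ((HomologicalComplex.eval A _ q).mapIso e) (hinj q)
  · rw [← ha]
    have : IsIso (e.hom.f 0) := inferInstance
    exact mono_comp _ _
  · have i : ShortComplex.mk a (C.d 0 1) h₀ ≅ ShortComplex.mk a' (C'.d 0 1) hd :=
      ShortComplex.isoMk (Iso.refl M) ((HomologicalComplex.eval A _ 0).mapIso e)
        ((HomologicalComplex.eval A _ 1).mapIso e) ((Category.id_comp _).trans ha.symm) (e.hom.comm 0 1)
    exact (ShortComplex.exact_iff_of_iso i).1 hex₀

theorem exists_ce [EnoughInjectives A] (K : CochainComplex A ℤ) (n : ℤ) [K.IsStrictlyGE n] :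
    ∃ (I : CochainComplex (CochainComplex A ℤ) ℤ) (ε : K ⟶ I.X 0) (_ : ε ≫ I.d 0 1 = 0),
      (∃ i : ℤ, ∀ p q : ℤ, p < i → IsZero ((I.X q).X p)) ∧
      (∀ p : ℤ, CE.IsInjResolutionVia (((HomologicalComplex.eval A (ComplexShape.up ℤ) p).mapHomologicalComplex (ComplexShape.up ℤ)).obj I) (K.X p) (ε.f p)) ∧
      (∀ p : ℤ, CE.IsInjResolutionVia (((HomologicalComplex.cyclesFunctor A (ComplexShape.up ℤ) p).mapHomologicalComplex (ComplexShape.up ℤ)).obj I) (K.cycles p) (HomologicalComplex.cyclesMap ε p)) ∧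
      (∀ p : ℤ, CE.IsInjResolutionVia (((HomologicalComplex.homologyFunctor A (ComplexShape.up ℤ) p).mapHomologicalComplex (ComplexShape.up ℤ)).obj I) (K.homology p) (HomologicalComplex.homologyMap ε p)) := by
  let B : ℤ → A := fun p => kernel (K.homologyπ p)
  let j : ∀ p, B p ⟶ K.cycles p := fun p => kernel.ι _
  let dB : ∀ p, K.X p ⟶ B (p + 1) := fun p =>
    kernel.lift _ (K.toCycles p (p + 1)) (K.toCycles_comp_homologyπ _ _)
  have hdB : ∀ p, dB p ≫ j (p + 1) = K.toCycles p (p + 1) := fun p => kernel.lift_ι _ _ _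
  have hdB' : ∀ p, dB p ≫ j (p + 1) ≫ K.iCycles (p + 1) = K.d p (p + 1) := fun p => by
    rw [reassoc_of% hdB, toCycles_i]
  have hepi : ∀ p, Epi (dB p) := fun p =>
    (ShortComplex.exact_iff_epi_kernel_lift
      (ShortComplex.mk _ _ (K.toCycles_comp_homologyπ p (p + 1)))).1
      (ShortComplex.exact_of_g_is_cokernel _ (K.homologyIsCokernel p (p + 1) (by simp)))
  have hS₁ : ∀ p, (ShortComplex.mk (j p) (K.homologyπ p) (kernel.condition _)).ShortExact := fun p =>
    ShortComplex.ShortExact.mk' (ShortComplex.exact_of_f_is_kernel _ (kernelIsKernel _))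
      inferInstance inferInstance
  have hw₂ : ∀ p, K.iCycles p ≫ dB p = 0 := fun p => by
    rw [← cancel_mono (j (p + 1)), Category.assoc, hdB, zero_comp,
      ← cancel_mono (K.iCycles (p + 1)), Category.assoc, toCycles_i, iCycles_d, zero_comp]
  have hS₂ : ∀ p, (ShortComplex.mk (K.iCycles p) (dB p) (hw₂ p)).ShortExact := fun p => by
    refine ShortComplex.ShortExact.mk' ?_ inferInstance (hepi p)
    have hk : (ShortComplex.mk (K.iCycles p) (K.d p (p + 1)) (K.iCycles_d _ _)).Exact :=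
      ShortComplex.exact_of_f_is_kernel _ (K.cyclesIsKernel p (p + 1) (by simp))
    let φ : ShortComplex.mk (K.iCycles p) (dB p) (hw₂ p) ⟶
        ShortComplex.mk (K.iCycles p) (K.d p (p + 1)) (K.iCycles_d _ _) :=
      { τ₁ := 𝟙 _, τ₂ := 𝟙 _, τ₃ := j (p + 1) ≫ K.iCycles (p + 1)
        comm₁₂ := by simp
        comm₂₃ := by simp [hdB'] }
    haveI : Epi φ.τ₁ := by dsimp [φ]; infer_instance
    haveI : IsIso φ.τ₂ := by dsimp [φ]; infer_instance
    haveI : Mono φ.τ₃ := by dsimp [φ]; infer_instance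
    exact (ShortComplex.exact_iff_of_epi_of_isIso_of_mono φ).2 hk
  choose RB hRB using fun p => exists_res (B p)
  choose RH hRH using fun p => exists_res (K.homology p)
  choose RZ fB gH w₁ se₁ aB aH using fun p => horseshoe (hS₁ p) (RB p) (RH p)
  choose RC fZ gB w₂ se₂ aZ aC using fun p => horseshoe (hS₂ p) (RZ p) (RB (p + 1))
  let D : CochainComplex (CochainComplex A ℤ) ℤ :=
    CochainComplex.of (fun p => (RC p).cochainComplex) (fun p => gB p ≫ fB (p + 1) ≫ fZ (p + 1))
      fun p => by simp [reassoc_of% (w₂ (p + 1))]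
  have hDd : ∀ p, D.d p (p + 1) = gB p ≫ fB (p + 1) ≫ fZ (p + 1) := fun p =>
    CochainComplex.of_d (fun p => (RC p).cochainComplex) (fun p => gB p ≫ fB (p + 1) ≫ fZ (p + 1)) p
  let I : CochainComplex (CochainComplex A ℤ) ℤ := HomologicalComplex₂.flip D
  have hεc : ∀ p, aug (RC p) ≫ (D.d p (p + 1)).f 0 = K.d p (p + 1) ≫ aug (RC (p + 1)) := fun p => by
    rw [hDd, HomologicalComplex.comp_f, HomologicalComplex.comp_f, ← reassoc_of% (aC p),
      ← reassoc_of% (aB (p + 1)), ← hdB' p, Category.assoc, Category.assoc]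
    exact (congrArg (fun z => dB p ≫ j (p + 1) ≫ z) (aZ (p + 1))).symm
  let ε : K ⟶ I.X 0 :=
    { f := fun p => aug (RC p)
      comm' := fun p q hpq => by
        obtain rfl : p + 1 = q := hpq
        exact hεc p }
  have hP : ∀ (q m : ℤ), Pres (I.X q) m ((fZ (m + 1)).f q) ((fB (m + 1)).f q) ((gH (m + 1)).f q)
      ((gB m).f q) := fun q m => by
    have e₂ := (se₂ (m + 1)).map_of_exact (HomologicalComplex.eval A (ComplexShape.up ℤ) q)
    have e₁ := (se₁ (m + 1)).map_of_exact (HomologicalComplex.eval A (ComplexShape.up ℤ) q)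
    have e₀ := (se₂ m).map_of_exact (HomologicalComplex.eval A (ComplexShape.up ℤ) q)
    have e₂' := (se₂ (m + 1 + 1)).map_of_exact (HomologicalComplex.eval A (ComplexShape.up ℤ) q)
    have e₁' := (se₁ (m + 1 + 1)).map_of_exact (HomologicalComplex.eval A (ComplexShape.up ℤ) q)
    have hd : (I.X q).d (m + 1) (m + 1 + 1) =
        (gB (m + 1)).f q ≫ (fB (m + 1 + 1)).f q ≫ (fZ (m + 1 + 1)).f q := by
      show (D.d (m + 1) (m + 1 + 1)).f q = _
      rw [hDd]; rfl
    have h0 : (fZ (m + 1)).f q ≫ (gB (m + 1)).f q = 0 := HomologicalComplex.congr_hom (w₂ (m + 1)) q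
    have hid : (fZ (m + 1)).f q ≫ (I.X q).d (m + 1) (m + 1 + 1) = 0 := by
      exact (congrArg (_ ≫ ·) hd).trans
        ((Category.assoc _ _ _).symm.trans ((congrArg (· ≫ _) h0).trans zero_comp))
    refine ⟨e₂.mono_f, hid, ?_, ?_, e₀.epi_g, HomologicalComplex.congr_hom (w₁ (m + 1)) q, e₁.exact,
      e₁.epi_g⟩
    · let φ : ShortComplex.mk ((fZ (m + 1)).f q) ((gB (m + 1)).f q) h0 ⟶
          ShortComplex.mk ((fZ (m + 1)).f q) ((I.X q).d (m + 1) (m + 1 + 1)) hid :=
        { τ₁ := 𝟙 _, τ₂ := 𝟙 _, τ₃ := (fB (m + 1 + 1)).f q ≫ (fZ (m + 1 + 1)).f q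
          comm₁₂ := by simp
          comm₂₃ := by simp only [Category.id_comp]; exact hd }
      haveI : Epi φ.τ₁ := by dsimp [φ]; infer_instance
      haveI : IsIso φ.τ₂ := by dsimp [φ]; infer_instance
      haveI : Mono φ.τ₃ := mono_comp' e₁'.mono_f e₂'.mono_f
      exact (ShortComplex.exact_iff_of_epi_of_isIso_of_mono φ).1 e₂.exact
    · show (D.d m (m + 1)).f q = _
      rw [hDd]; rfl
  have hPK : ∀ m, Pres K m (K.iCycles (m + 1)) (j (m + 1)) (K.homologyπ (m + 1)) (dB m) := fun m =>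
    ⟨inferInstance, K.iCycles_d _ _, ShortComplex.exact_of_f_is_kernel _ (K.cyclesIsKernel _ _ (by simp)),
      (hdB' m).symm, hepi m, kernel.condition _, (hS₁ (m + 1)).exact, inferInstance⟩
  have hczK : ∀ m, cz (hPK m) = 𝟙 _ := fun m => by
    rw [← cancel_mono (K.iCycles (m + 1)), cz_i, Category.id_comp]
  have hhzK : ∀ m, hz (hPK m) = 𝟙 _ := fun m => by
    rw [← cancel_epi (K.homologyπ (m + 1)), π_hz, hczK, Category.id_comp, Category.comp_id]
  have hε : ε ≫ I.d 0 1 = 0 := by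
    refine HomologicalComplex.hom_ext _ _ fun p => ?_
    exact (isInjResolutionVia (RC p)).1
  refine ⟨I, ε, hε, ⟨n, fun p q hp => ?_⟩, fun p => ?_, fun p => ?_, fun p => ?_⟩
  · have hKp : IsZero (K.X p) := K.isZero_of_isStrictlyGE n p hp
    have hZ : IsZero (K.cycles p) := IsZero.of_mono (K.iCycles p) hKp
    have hB1 : IsZero (B (p + 1)) := haveI := hepi p; IsZero.of_epi (dB p) hKp
    have hH : IsZero (K.homology p) := IsZero.of_epi (K.homologyπ p) hZ
    have hBp : IsZero (B p) := IsZero.of_mono (j p) hZ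
    have hz : IsZero ((RZ p).cochainComplex.X q) :=
      ((se₁ p).map_of_exact (HomologicalComplex.eval A (ComplexShape.up ℤ) q)).exact.isZero_X₂
        ((hRB p hBp q).eq_of_src _ _) ((hRH p hH q).eq_of_tgt _ _)
    exact ((se₂ p).map_of_exact (HomologicalComplex.eval A (ComplexShape.up ℤ) q)).exact.isZero_X₂
        (hz.eq_of_src _ _) ((hRB (p + 1) hB1 q).eq_of_tgt _ _)
  · exact isInjResolutionVia_of_iso
      (HomologicalComplex.Hom.isoOfComponents (fun q => Iso.refl _)
        (fun q q' _ => (Category.id_comp _).trans (Category.comp_id _).symm))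
      (Category.comp_id _) (isInjResolutionVia (RC p))
  · obtain ⟨m, rfl⟩ : ∃ m, p = m + 1 := ⟨p - 1, by omega⟩
    refine isInjResolutionVia_of_iso (HomologicalComplex.Hom.isoOfComponents (fun q => @asIso _ _ _ _ (cz (hP q m)) (isIso_cz _))
      (fun q q' _ => ?_)) ?_ (isInjResolutionVia (RZ (m + 1)))
    · exact (cz_naturality (hP q m) (hP q' m) (I.d q q') _ ((fZ (m + 1)).comm q q').symm).symm
    · refine Eq.trans ?_ (Eq.trans (cz_naturality (hPK m) (hP 0 m) ε (aug (RZ (m + 1))) (aZ (m + 1)).symm) ?_)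
      · rfl
      · rw [hczK, Category.id_comp]
  · obtain ⟨m, rfl⟩ : ∃ m, p = m + 1 := ⟨p - 1, by omega⟩
    refine isInjResolutionVia_of_iso (HomologicalComplex.Hom.isoOfComponents (fun q => @asIso _ _ _ _ (hz (hP q m)) (isIso_hz _))
      (fun q q' _ => ?_)) ?_ (isInjResolutionVia (RH (m + 1)))
    · exact (hz_naturality (hP q m) (hP q' m) (I.d q q') _ _ ((fZ (m + 1)).comm q q').symm
        ((gH (m + 1)).comm q q').symm).symm
    · refine Eq.trans ?_ (Eq.trans (hz_naturality (hPK m) (hP 0 m) ε (aug (RZ (m + 1))) (aug (RH (m + 1)))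
        (aZ (m + 1)).symm (aH (m + 1)).symm) ?_)
      · rfl
      · rw [hhzK, Category.id_comp]

end Groth.Agent.H9Misc.CERes
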