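import Groth.Prelude.Def_CAlg
import Groth.Agent.S0563
import Groth.Agent.S0604
import Groth.Agent.LC.GorRows
import Mathlib.RingTheory.KrullDimension.Module

/-! Cohen–Macaulay modules with full support over a regular local ring are free. -/

set_option linter.style.haveILetI false
set_option linter.unusedSectionVars false

universe u

open CategoryTheory

namespace Groth.Agent.H9Misc.CMFree

variable {R : Type u} [CommRing R] [IsRegularLocalRing R] {M : Type u} [AddCommGroup M] [Module R M]
  [Module.Finite R M]

theorem supportDim_eq (hann : Module.annihilator R M = ⊥) : Module.supportDim R M = ringKrullDim R := by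
  rw [Module.supportDim_eq_ringKrullDim_quotient_annihilator, hann]
  exact ringKrullDim_eq_of_ringEquiv (RingEquiv.quotientBot R)

theorem exists_dim (R : Type u) [CommRing R] [IsRegularLocalRing R] :
    ∃ d : ℕ, ringKrullDim R = d ∧ LocCoh.depth R R = d := by
  haveI := LC.gorenstein_of_isRegularLocalRing (R := R)
  obtain ⟨d, hd, hδ, -⟩ := LC.gorenstein_basic (R := R)
  exact ⟨d, hd, hδ⟩

theorem free_of_isCM [Nontrivial M] (hann : Module.annihilator R M = ⊥)
    (h : LocCoh.IsCohenMacaulayModule R M) : Module.Free R M := by
  obtain ⟨d, hd, hδ⟩ := exists_dim R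
  have hM : LocCoh.depth R M = d := by
    have h' := supportDim_eq hann
    rw [h, hd] at h'
    exact_mod_cast h'
  have hle : projectiveDimension (ModuleCat.of R M) ≤ d :=
    (projectiveDimension_le_iff _ d).2 (S0563.result R d hd M)
  have hnb : projectiveDimension (ModuleCat.of R M) ≠ ⊥ := fun hb =>
    not_subsingleton M (ModuleCat.isZero_of_iff_subsingleton.1 ((projectiveDimension_eq_bot_iff _).1 hb))
  obtain ⟨a, ha⟩ := WithBot.ne_bot_iff_exists.1 hnb
  obtain ⟨e, rfl⟩ : ∃ e : ℕ, a = e := by
    rw [← ha] at hle
    have : a ≤ (d : ℕ∞) := by exact_mod_cast hle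
    exact (ENat.le_natCast_iff.1 this).imp fun e he => he.1
  have hab := S0604.result R M e ha.symm
  rw [hδ, hM] at hab
  have he : e = 0 := by
    have : d = e + d := by exact_mod_cast hab
    omega
  subst he
  haveI : Module.Projective R M := (IsProjective.iff_projective (R := R) M).2
    ((projectiveDimension_eq_zero_iff (ModuleCat.of R M)).1 ha.symm).1
  exact Module.free_of_flat_of_isLocalRing

theorem isCM_of_free [Nontrivial M] [Module.Free R M] : LocCoh.IsCohenMacaulayModule R M := by
  obtain ⟨d, hd, hδ⟩ := exists_dim R
  have hann : Module.annihilator R M = ⊥ := by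
    rw [Module.annihilator_eq_bot]
    exact inferInstance
  have hp : projectiveDimension (ModuleCat.of R M) = 0 :=
    (projectiveDimension_eq_zero_iff _).2 ⟨(IsProjective.iff_projective (R := R) M).1 inferInstance, fun hz =>
      not_subsingleton M (ModuleCat.isZero_of_iff_subsingleton.1 hz)⟩
  have hab := S0604.result R M 0 (by exact_mod_cast hp)
  rw [Nat.cast_zero, zero_add] at hab
  rw [LocCoh.IsCohenMacaulayModule, supportDim_eq hann, hd, ← hab, hδ]
  rfl

end Groth.Agent.H9Misc.CMFree
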