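import Mathlib
import Groth.Prelude.Def_DRing4
import Groth.Agent.KFlatLib.ModuleFlat

/-! Hom-tensor adjunction for complexes of modules. -/

set_option linter.style.haveILetI false

universe u

open CategoryTheory CategoryTheory.Limits MonoidalCategory
open CochainComplex CochainComplex.HomComplex
open scoped TensorProduct

namespace Groth.Agent.H9Misc.DRingHomTensor

variable {A : Type u} [CommRing A] {K L M : DRing.Cx A} {n : ℤ}

/-- A pure tensor in the tensor product of two complexes. -/
noncomputable def pure (K L : DRing.Cx A) (p q a : ℤ) (h : p + q = a) :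
    K.X p →ₗ[A] L.X q →ₗ[A] (K ⊗ L).X a :=
  LinearMap.compr₂ (TensorProduct.mk A (K.X p) (L.X q))
    (HomologicalComplex.ιTensorObj K L p q a h).hom

lemma ι_d (p q a : ℤ) (h : p + q = a) :
    HomologicalComplex.ιTensorObj K L p q a h ≫ (K ⊗ L).d a (a + 1) =
      (K.d p (p + 1) ▷ L.X q) ≫ HomologicalComplex.ιTensorObj K L (p + 1) q (a + 1) (show (p + 1) + q = a + 1 by omega) +
        ((p.negOnePow : ℤˣ) : ℤ) • ((K.X p ◁ L.d q (q + 1)) ≫
          HomologicalComplex.ιTensorObj K L p (q + 1) (a + 1) (show p + (q + 1) = a + 1 by omega)) := by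
  change HomologicalComplex.ιMapBifunctor K L (curriedTensor (ModuleCat.{u} A)) (ComplexShape.up ℤ) p q a h ≫
    (HomologicalComplex.mapBifunctor K L (curriedTensor (ModuleCat.{u} A)) (ComplexShape.up ℤ)).d a (a + 1) = _
  rw [HomologicalComplex.mapBifunctor.d_eq, Preadditive.comp_add,
    HomologicalComplex.mapBifunctor.ι_D₁, HomologicalComplex.mapBifunctor.ι_D₂,
    HomologicalComplex.mapBifunctor.d₁_eq _ _ _ _ (show (ComplexShape.up ℤ).Rel p (p + 1) from rfl)
      q (a + 1) (show p + 1 + q = a + 1 by omega),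
    HomologicalComplex.mapBifunctor.d₂_eq _ _ _ _ p (show (ComplexShape.up ℤ).Rel q (q + 1) from rfl)
      (a + 1) (show p + (q + 1) = a + 1 by omega)]
  refine congrArg₂ (· + ·) ?_ ?_
  · exact one_smul _ _
  · exact Units.smul_def _ _

lemma d_pure (p q a : ℤ) (h : p + q = a) (x : K.X p) (y : L.X q) :
    ((K ⊗ L).d a (a + 1)).hom (pure K L p q a h x y) =
      pure K L (p + 1) q (a + 1) (by omega) ((K.d p (p + 1)).hom x) y +
        ((p.negOnePow : ℤˣ) : ℤ) • pure K L p (q + 1) (a + 1) (by omega) x ((L.d q (q + 1)).hom y) :=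
  ConcreteCategory.congr_hom (ι_d p q a h) (x ⊗ₜ[A] y)

lemma hom_ext {a : ℤ} {N : ModuleCat.{u} A} {f g : (K ⊗ L).X a ⟶ N}
    (h : ∀ (p q : ℤ) (hpq : p + q = a) (x : K.X p) (y : L.X q),
      f.hom (pure K L p q a hpq x y) = g.hom (pure K L p q a hpq x y)) : f = g :=
  HomologicalComplex.mapBifunctor.hom_ext fun p q hpq =>
    ModuleCat.hom_ext (TensorProduct.ext (LinearMap.ext fun x => LinearMap.ext fun y => h p q hpq x y))

/-- The inner component of a curried cochain. -/
noncomputable def comp₂ (z : Cochain K (DRing.homCx L M) n) (p q b : ℤ) (h : q + (p + n) = b) :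
    K.X p →ₗ[A] L.X q →ₗ[A] M.X b where
  toFun x := ((show Cochain L M (p + n) from (z.v p (p + n) rfl).hom x).v q b h).hom
  map_add' x x' := by
    rw [map_add]
    exact rfl
  map_smul' c x := by
    rw [map_smul]
    exact rfl

/-- Uncurrying. -/
noncomputable def uncurry (z : Cochain K (DRing.homCx L M) n) : Cochain (K ⊗ L) M n :=
  Cochain.mk fun a b hab => HomologicalComplex.mapBifunctorDesc fun p q hpq =>
    ModuleCat.ofHom (TensorProduct.lift (comp₂ z p q b (by change p + q = a at hpq; omega)))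

lemma uncurry_pure (z : Cochain K (DRing.homCx L M) n) (p q a b : ℤ) (h : p + q = a) (hb : a + n = b)
    (x : K.X p) (y : L.X q) :
    ((uncurry z).v a b hb).hom (pure K L p q a h x y) = comp₂ z p q b (by omega) x y := by
  let φ : ∀ (p q : ℤ), ComplexShape.π (ComplexShape.up ℤ) (ComplexShape.up ℤ) (ComplexShape.up ℤ) (p, q) = a →
      (((curriedTensor (ModuleCat.{u} A)).obj (K.X p)).obj (L.X q) ⟶ M.X b) := fun p q hpq =>
    ModuleCat.ofHom (TensorProduct.lift (comp₂ z p q b (by change p + q = a at hpq; omega)))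
  have := ConcreteCategory.congr_hom (HomologicalComplex.ι_mapBifunctorDesc (K₁ := K) (K₂ := L)
    (F := curriedTensor (ModuleCat.{u} A)) (c := ComplexShape.up ℤ) φ p q h) (x ⊗ₜ[A] y)
  exact this.trans (TensorProduct.lift.tmul x y)

/-- Currying. -/
noncomputable def curry (w : Cochain (K ⊗ L) M n) : Cochain K (DRing.homCx L M) n :=
  Cochain.mk fun p s hps => ModuleCat.ofHom (Y := Cochain L M s)
    { toFun := fun x => Cochain.mk fun q b hqb =>
        ModuleCat.ofHom ((w.v (p + q) b (by omega)).hom ∘ₗ pure K L p q (p + q) rfl x)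
      map_add' := fun x x' => by
        apply Cochain.ext
        intro q b hqb
        ext y
        simp
      map_smul' := fun c x => by
        apply Cochain.ext
        intro q b hqb
        ext y
        simp }

lemma curry_apply (w : Cochain (K ⊗ L) M n) (p s q b : ℤ) (hps : p + n = s) (hqb : q + s = b)
    (x : K.X p) (y : L.X q) :
    ((show Cochain L M s from ((curry w).v p s hps).hom x).v q b hqb).hom y =
      (w.v (p + q) b (by omega)).hom (pure K L p q (p + q) rfl x y) := rfl

lemma curry_uncurry (z : Cochain K (DRing.homCx L M) n) : curry (uncurry z) = z := by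
  apply Cochain.ext
  intro p s hps
  subst hps
  refine ModuleCat.hom_ext (LinearMap.ext fun x => ?_)
  refine Cochain.ext _ _ fun q b hqb => ModuleCat.hom_ext (LinearMap.ext fun y => ?_)
  exact (curry_apply (uncurry z) p _ q b rfl hqb x y).trans (uncurry_pure z p q (p + q) b rfl (by omega) x y)

lemma uncurry_curry (w : Cochain (K ⊗ L) M n) : uncurry (curry w) = w := by
  apply Cochain.ext
  intro a b hab
  refine hom_ext fun p q hpq x y => ?_
  subst hpq
  exact (uncurry_pure (curry w) p q (p + q) b rfl hab x y).trans (curry_apply w p _ q b rfl (by omega) x y)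

lemma uncurry_add (z z' : Cochain K (DRing.homCx L M) n) : uncurry (z + z') = uncurry z + uncurry z' := by
  apply Cochain.ext
  intro a b hab
  refine hom_ext fun p q hpq x y => ?_
  rw [Cochain.add_v, ModuleCat.hom_add, LinearMap.add_apply, uncurry_pure, uncurry_pure, uncurry_pure]
  rfl

lemma uncurry_smul (c : A) (z : Cochain K (DRing.homCx L M) n) : uncurry (c • z) = c • uncurry z := by
  apply Cochain.ext
  intro a b hab
  refine hom_ext fun p q hpq x y => ?_
  rw [Cochain.smul_v, ModuleCat.hom_smul, LinearMap.smul_apply, uncurry_pure, uncurry_pure]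
  rfl

/-- Currying is linear. -/
noncomputable def curryEquiv (K L M : DRing.Cx A) (n : ℤ) :
    Cochain K (DRing.homCx L M) n ≃ₗ[A] Cochain (K ⊗ L) M n where
  toFun := uncurry
  invFun := curry
  left_inv := curry_uncurry
  right_inv := uncurry_curry
  map_add' := uncurry_add
  map_smul' := uncurry_smul

lemma δ_uncurry (z : Cochain K (DRing.homCx L M) n) :
    δ n (n + 1) (uncurry z) = uncurry (δ n (n + 1) z) := by
  apply Cochain.ext
  intro a b hab
  refine hom_ext fun p q hpq x y => ?_
  rw [δ_v n (n + 1) rfl (uncurry z) a b hab (b - 1) (a + 1) (by omega) rfl, ModuleCat.hom_add,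
    LinearMap.add_apply, uncurry_pure]
  change ((M.d (b - 1) b).hom (((uncurry z).v a (b - 1) _).hom (pure K L p q a hpq x y))) +
    (((n + 1).negOnePow : ℤˣ) : ℤ) •
      (((uncurry z).v (a + 1) b _).hom (((K ⊗ L).d a (a + 1)).hom (pure K L p q a hpq x y))) = _
  rw [d_pure p q a hpq x y, map_add, map_zsmul, uncurry_pure, uncurry_pure, uncurry_pure]
  change _ = ((show Cochain L M (p + (n + 1)) from
    ((δ n (n + 1) z).v p (p + (n + 1)) rfl).hom x).v q b (by omega)).hom y
  rw [δ_v n (n + 1) rfl z p (p + (n + 1)) rfl (p + n) (p + 1) (by omega) rfl]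
  have key : ∀ (s : ℤ) (hs : p + 1 + n = s) (hq : q + s = b),
      ((show Cochain L M s from (z.v (p + 1) s hs).hom ((K.d p (p + 1)).hom x)).v q b hq).hom y =
        comp₂ z (p + 1) q b (by omega) ((K.d p (p + 1)).hom x) y := by
    intro s hs hq
    subst hs
    rfl
  let c : Cochain L M (p + n) := (z.v p (p + n) rfl).hom x
  change _ = ((δ (p + n) (p + (n + 1)) c).v q b (by omega)).hom y +
    (((n + 1).negOnePow : ℤˣ) : ℤ) •
      ((show Cochain L M (p + (n + 1)) from
        (z.v (p + 1) (p + (n + 1)) (by omega)).hom ((K.d p (p + 1)).hom x)).v q b (by omega)).hom y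
  rw [key _ _ (by omega), δ_v (p + n) (p + (n + 1)) (by omega) c q b (by omega) (b - 1) (q + 1) (by omega) rfl]
  change _ = ((M.d (b - 1) b).hom ((c.v q (b - 1) _).hom y) +
    (((p + (n + 1)).negOnePow : ℤˣ) : ℤ) • (c.v (q + 1) b _).hom ((L.d q (q + 1)).hom y)) + _
  rw [smul_add, smul_smul, ← Units.val_mul, ← Int.negOnePow_add,
    show (p + (n + 1)).negOnePow = (n + 1 + p).negOnePow from congrArg _ (add_comm p (n + 1))]
  change _ + (_ + (((n + 1 + p).negOnePow : ℤˣ) : ℤ) • comp₂ z p (q + 1) b (by omega) x _) =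
    (_ + (((n + 1 + p).negOnePow : ℤˣ) : ℤ) • comp₂ z p (q + 1) b (by omega) x _) + _
  exact (congrArg (_ + ·) (add_comm _ _)).trans (add_assoc _ _ _).symm

/-- `Hom•(K, Hom•(L, M)) = Hom•(K ⊗ L, M)`. -/
noncomputable def homTensorIso (K L M : DRing.Cx A) :
    DRing.homCx K (DRing.homCx L M) ≅ DRing.homCx (K ⊗ L) M :=
  HomologicalComplex.Hom.isoOfComponents (fun n => (curryEquiv K L M n).toModuleIso) fun i j hij => by
    obtain rfl : i + 1 = j := hij
    exact ModuleCat.hom_ext (LinearMap.ext fun (z : Cochain K (DRing.homCx L M) i) => δ_uncurry z)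

end Groth.Agent.H9Misc.DRingHomTensor
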