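import Groth.Agent.H9Misc.CechPairA
import Groth.Agent.H9Misc.CechTensorD

/-!
# The ordered Čech complex of `P ⊗_A Q`
-/

set_option linter.style.haveILetI false
set_option backward.isDefEq.respectTransparency false
set_option backward.isDefEq.respectTransparency.types false
set_option maxHeartbeats 1000000

universe w u

open CategoryTheory CategoryTheory.Limits AlgebraicGeometry TopologicalSpace Opposite MonoidalCategory

attribute [local instance] HasDerivedCategory.standard

namespace Groth.Agent.H9Misc.CechThetaA

open KFlatLib CechSys CechCompute CechSections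

variable {A : Type u} [CommRing A] {X : Scheme.{u}} [X.Over (Spec (CommRingCat.of A))]

local notation "π" => (X ↘ Spec (CommRingCat.of A))

variable {ι : Type w} [DecidableEq ι] (U : ι → X.Opens) (P : CochainComplex X.Modules ℤ) (Q : DRing.Cx A)

/-- The comparison in one value of the system. -/
noncomputable def thetaApp (W : X.Opens) :
    HTor.tensorCx (((gsRes π W).mapHomologicalComplex (ComplexShape.up ℤ)).obj P) Q ⟶
      ((gsRes π W).mapHomologicalComplex (ComplexShape.up ℤ)).obj (HTor.tensorACx π P Q) :=
  TotalCompare.totalHom (pairA W) P Q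

lemma thetaApp_naturality (W V : X.Opens) (h : W ≤ V) :
    HomologicalComplex.mapBifunctorMap
        ((NatTrans.mapHomologicalComplex (gsTrans π W V h) (ComplexShape.up ℤ)).app P) (𝟙 Q)
        (curriedTensor (ModuleCat.{u} A)) (ComplexShape.up ℤ) ≫ thetaApp P Q W =
      thetaApp P Q V ≫ (NatTrans.mapHomologicalComplex (gsTrans π W V h) (ComplexShape.up ℤ)).app _ := by
  have e := TotalCompare.totalHom_naturality (K := P) (L := Q) (pairA V) (pairA W) (gsTrans π W V h) (𝟙 _)
    (gsTrans π W V h) fun M N => by
      rw [NatTrans.id_app, CategoryTheory.Functor.map_id, Category.id_comp]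
      exact pairA_trans W V h M N
  have e1 : (NatTrans.mapHomologicalComplex (𝟙 (𝟭 (ModuleCat.{u} A))) (ComplexShape.up ℤ)).app Q = 𝟙 Q :=
    HomologicalComplex.hom_ext _ _ fun _ => rfl
  rw [e1] at e
  exact e

/-- The comparison of the systems. -/
noncomputable def theta :
    secSys π U P ⋙ ConeTensor.tenR (curriedTensor (ModuleCat.{u} A)) Q ⟶
      secSys π U (HTor.tensorACx π P Q) where
  app S := thetaApp P Q (interU U S)
  naturality S T h := thetaApp_naturality P Q (interU U T) (interU U S) (Finset.inf_mono (leOfHom h))

lemma isIso_theta_app (hq : ∀ n, Coh.IsQCoh (P.X n)) {a c : ℤ} (hP : ∀ p, a < p → IsZero (P.X p))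
    (hQ : ∀ q, c < q → IsZero (Q.X q)) {S : Finset ι} (hS : IsAffineOpen (interU U S)) :
    IsIso ((theta U P Q).app S) :=
  TotalCompare.isIso_totalHom (pairA (interU U S)) hP hQ fun p q => isIso_pairA (interU U S) hS (hq p) (Q.X q)

end Groth.Agent.H9Misc.CechThetaA
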