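import Groth.Agent.H9Misc.ClassRes
import Groth.Agent.TriCat.ResolveOp

/-! Left resolutions by a class closed under long enough syzygies. -/

universe v u

open CategoryTheory Category Limits Opposite

namespace Groth.Agent.H9Misc.ClassResOp

variable {A : Type u} [Category.{v} A] [Abelian A]

/-- All chosen `k`-th syzygies are in `P`. -/
def Bound (P : A → Prop) : ℕ → A → Prop
  | 0, X => P X
  | k + 1, X => ∀ (S : ShortComplex A), S.ShortExact → P S.X₂ → Nonempty (S.X₃ ≅ X) → Bound P k S.X₁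

lemma bound_op (P : A → Prop) : ∀ (k : ℕ) (X : A), Bound P k X →
    ClassRes.Bound (fun Y : Aᵒᵖ => P Y.unop) k (op X)
  | 0, _, h => h
  | k + 1, X, h => fun Y i hY hi => by
    let S : ShortComplex Aᵒᵖ := ShortComplex.mk i (cokernel.π i) (cokernel.condition i)
    have hS : S.ShortExact := { exact := ShortComplex.exact_cokernel i }
    exact bound_op P k _ (h S.unop hS.unop hY ⟨Iso.refl X⟩)

/-- Every complex is receives a quasi-isomorphism from a complex with terms in `P`. -/
theorem exists_left_res (P : A → Prop) (h1 : ∀ X : A, ∃ (Y : A) (p : Y ⟶ X), P Y ∧ Epi p)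
    (h2 : ∀ S : ShortComplex A, S.ShortExact → P S.X₃ → (P S.X₁ ↔ P S.X₂))
    (k : ℕ) (K : CochainComplex A ℤ) (hK : ∀ j, Bound P k (K.X j)) :
    ∃ (L : CochainComplex A ℤ) (f : L ⟶ K), QuasiIso f ∧ ∀ j, P (L.X j) := by
  let E := CochainComplex.opEquivalence A
  obtain ⟨L, φ, -, hφ, hL⟩ := ClassRes.exists_res (fun Y : Aᵒᵖ => P Y.unop)
    (fun X => by
      obtain ⟨Y, p, hY, hp⟩ := h1 X.unop
      exact ⟨op Y, p.op, hY, inferInstance⟩)
    (fun S hS h => (h2 S.unop hS.unop h).symm) k (E.functor.obj (op K))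
    (fun j => bound_op P k _ (hK (-j)))
  let u : (E.inverse.obj L).unop ⟶ K := (E.inverse.map φ).unop ≫ (E.unitIso.hom.app (op K)).unop
  refine ⟨_, u, (TriCat.quasiIso_op_iff u).1 ?_, fun n => hL _⟩
  have : E.functor.map u.op = φ ≫ E.counitIso.inv.app L := by
    have h1 : u.op = E.unitIso.hom.app (op K) ≫ E.inverse.map φ := rfl
    rw [h1, Functor.map_comp]
    exact ((E.functor.map (E.unitIso.hom.app (op K))) ≫= E.fun_inv_map _ _ φ).trans (by simp)
  rw [this]
  infer_instance

end Groth.Agent.H9Misc.ClassResOp
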