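import Mathlib.Algebra.Homology.DerivedCategory.HomologySequence
import Mathlib.Algebra.Homology.HomotopyCategory.MappingCone
import Mathlib.Algebra.Homology.HomotopyCategory.HomComplexSingle
import Mathlib.Algebra.Homology.HomologicalComplexLimits
import Mathlib.Algebra.Homology.ShortComplex.PreservesHomology
import Mathlib.CategoryTheory.Limits.Constructions.EventuallyConstant
import Mathlib.CategoryTheory.Functor.OfSequence

/-!
# Left resolutions by objects of a class, of complexes with cohomology in a weak Serre class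
-/

set_option autoImplicit false
set_option linter.style.haveILetI false

universe v u

open CategoryTheory CategoryTheory.Limits CochainComplex CochainComplex.HomComplex
open scoped ZeroObject

namespace Groth.Agent.H9Misc.ClassResolve

variable {C : Type u} [Category.{v} C] [Abelian C]

/-- A pair of classes: `P` has enough objects to cover the quotients in the weak Serre class `K`. -/
structure Cover (P K : C → Prop) : Prop where
  zero : ∀ Z : C, IsZero Z → P Z
  iso : ∀ {X Y : C}, (X ≅ Y) → P X → P Y
  le : ∀ X : C, P X → K X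
  kernel : ∀ {X Y : C} (f : X ⟶ Y), K X → K Y → K (Limits.kernel f)
  cokernel : ∀ {X Y : C} (f : X ⟶ Y), K X → K Y → K (Limits.cokernel f)
  extension : ∀ (S : ShortComplex C), S.ShortExact → K S.X₁ → K S.X₃ → K S.X₂
  cover : ∀ {A A' : C} (u : A ⟶ A'), K A' → Epi u → ∃ (B : C) (v : B ⟶ A), P B ∧ Epi (v ≫ u)

variable {P K : C → Prop} (h : Cover P K)
include h

theorem Cover.K_iso {X Y : C} (e : X ≅ Y) (hX : K X) : K Y := by
  let S : ShortComplex C := ShortComplex.mk e.hom (0 : Y ⟶ (0 : C)) comp_zero
  have hS : S.ShortExact :=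
    { exact := (S.exact_iff_epi rfl).2 (inferInstanceAs (Epi e.hom))
      mono_f := inferInstanceAs (Mono e.hom)
      epi_g := IsZero.epi (isZero_zero C) _ }
  exact h.extension S hS hX (h.le _ (h.zero _ (isZero_zero C)))

/-- The middle term of a five-term exact sequence in the class is in the class. -/
theorem Cover.K_five {A B X D E : C} (f : A ⟶ B) (g : B ⟶ X) (k : X ⟶ D) (l : D ⟶ E) (wf : f ≫ g = 0)
    (wg : g ≫ k = 0) (wk : k ≫ l = 0) (ef : (ShortComplex.mk f g wf).Exact) (eg : (ShortComplex.mk g k wg).Exact)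
    (ek : (ShortComplex.mk k l wk).Exact) (hA : K A) (hB : K B) (hD : K D) (hE : K E) : K X := by
  let i : Limits.cokernel f ⟶ X := cokernel.desc f g wf
  let q : X ⟶ Limits.kernel l := kernel.lift l k wk
  have wiq : i ≫ q = 0 := by
    rw [← cancel_epi (cokernel.π f), ← cancel_mono (kernel.ι l)]
    simp [i, q, wg]
  let S : ShortComplex C := ShortComplex.mk i q wiq
  have hi : Mono i := ef.mono_cokernelDesc
  have hq : Epi q := ek.epi_kernelLift
  have hS : S.ShortExact :=
    { exact := by
        rw [ShortComplex.exact_iff_exact_up_to_refinements]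
        intro T x hx
        have hxk : x ≫ k = 0 := by
          have := congrArg (fun z => z ≫ kernel.ι l) hx
          simpa [S, q] using this
        obtain ⟨T', π, hπ, y, hy⟩ := eg.exact_up_to_refinements x hxk
        exact ⟨T', π, hπ, y ≫ cokernel.π f, by simpa [S, i] using hy⟩
      mono_f := hi
      epi_g := hq }
  exact h.extension S hS (h.cokernel f hA hB) (h.kernel l hD hE)

/-- Cohomology of a complex with terms in the class is in the class. -/
theorem Cover.K_homology {E : CochainComplex C ℤ} (hE : ∀ i, K (E.X i)) (i : ℤ) : K (E.homology i) := by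
  have hc : ∀ j, K (E.cycles j) := fun j =>
    h.K_iso (IsLimit.conePointUniqueUpToIso (kernelIsKernel _) (E.cyclesIsKernel j (j + 1) (by simp)))
      (h.kernel (E.d j (j + 1)) (hE _) (hE _))
  exact h.K_iso (IsColimit.coconePointUniqueUpToIso (cokernelIsCokernel _)
    (E.homologyIsCokernel (i - 1) i (by simp)))
    (h.cokernel (E.toCycles (i - 1) i) (hE _) (hc i))

/-- Cohomology of a mapping cone is in the class. -/
theorem Cover.K_cone {E F : CochainComplex C ℤ} (α : E ⟶ F) (hE : ∀ i, K (E.homology i))
    (hF : ∀ i, K (F.homology i)) (i : ℤ) : K ((mappingCone α).homology i) := by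
  letI := HasDerivedCategory.standard C
  let T := DerivedCategory.Q.mapTriangle.obj (mappingCone.triangle α)
  have hT : T ∈ Pretriangulated.distinguishedTriangles :=
    DerivedCategory.mappingCone_triangle_distinguished α
  let H := DerivedCategory.homologyFunctor C
  have eE : ∀ n, K ((H n).obj T.obj₁) := fun n =>
    h.K_iso ((DerivedCategory.homologyFunctorFactors C n).app E).symm (hE n)
  have eF : ∀ n, K ((H n).obj T.obj₂) := fun n =>
    h.K_iso ((DerivedCategory.homologyFunctorFactors C n).app F).symm (hF n)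
  refine h.K_iso ((DerivedCategory.homologyFunctorFactors C i).app (mappingCone α)) (show K ((H i).obj T.obj₃) from ?_)
  exact h.K_five ((H i).map T.mor₁) ((H i).map T.mor₂)
    (DerivedCategory.HomologySequence.δ T i (i + 1) rfl) ((H (i + 1)).map T.mor₁) _ _ _
    (DerivedCategory.HomologySequence.exact₂ _ hT i) (DerivedCategory.HomologySequence.exact₃ _ hT i (i + 1) rfl)
    (DerivedCategory.HomologySequence.exact₁ _ hT i (i + 1) rfl) (eE _) (eF _) (eE _) (eF _)

omit h

theorem isIso_inr_f {S E : CochainComplex C ℤ} (g : S ⟶ E) (i : ℤ) (h : IsZero (S.X (i + 1))) :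
    IsIso ((mappingCone.inr g).f i) :=
  ⟨(mappingCone.snd g).v i i (add_zero i), by simp, by
    have := mappingCone.id_X g i (i + 1) rfl
    rw [← this, h.eq_of_tgt ((mappingCone.fst g).1.v i (i + 1) rfl) 0, zero_comp, zero_add]⟩

theorem isIso_inl_v {S E : CochainComplex C ℤ} (g : S ⟶ E) (i j : ℤ) (hij : j + 1 = i) (h : IsZero (E.X j)) :
    IsIso ((mappingCone.inl g).v i j (by omega)) :=
  ⟨(mappingCone.fst g).1.v j i hij, by simp, by
    have := mappingCone.id_X g j i hij
    rw [← this, h.eq_of_src ((mappingCone.inr g).f j) 0, comp_zero, add_zero]⟩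

variable (P) in
/-- A stage of the construction. -/
structure Stage (F : CochainComplex C ℤ) (b n : ℤ) where
  E : CochainComplex C ℤ
  α : E ⟶ F
  mem : ∀ i, P (E.X i)
  below : ∀ i, i < n → IsZero (E.X i)
  above : ∀ i, b < i → IsZero (E.X i)
  exact : ∀ i, n ≤ i → (mappingCone α).ExactAt i

include h

theorem exists_next {F : CochainComplex C ℤ} (hF : ∀ i, K (F.homology i)) {b n n' : ℤ} (hn' : n' + 1 = n)
    (hn : n ≤ b + 1) (s : Stage P F b n) :
    ∃ (s' : Stage P F b n') (ι : s.E ⟶ s'.E), ι ≫ s'.α = s.α ∧ ∀ i, n ≤ i → IsIso (ι.f i) := by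
  obtain ⟨n'', hn''⟩ : ∃ n'' : ℤ, n'' + 1 = n' := ⟨n' - 1, by omega⟩
  obtain ⟨N, v, hN, hv⟩ := h.cover ((mappingCone s.α).homologyπ n')
    (h.K_cone s.α (h.K_homology fun i => h.le _ (s.mem i)) hF n') inferInstance
  let φ : N ⟶ (mappingCone s.α).X n' := v ≫ (mappingCone s.α).iCycles n'
  have hφd : φ ≫ (mappingCone s.α).d n' n = 0 := by simp [φ]
  let S := (HomologicalComplex.single C (ComplexShape.up ℤ) n).obj N
  let σ := HomologicalComplex.singleObjXSelf (ComplexShape.up ℤ) n N
  let g : S ⟶ s.E := HomologicalComplex.mkHomFromSingle (-(φ ≫ (mappingCone.fst s.α).1.v n' n hn')) (by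
    intro j hj
    obtain rfl : n + 1 = j := hj
    have := φ ≫= mappingCone.d_fst_v s.α n' n (n + 1) hn' rfl
    rw [← Category.assoc, hφd, zero_comp] at this
    simp only [Category.assoc, Preadditive.neg_comp, Preadditive.comp_neg] at this ⊢
    exact this.symm)
  have hgn : g.f n = σ.hom ≫ (-(φ ≫ (mappingCone.fst s.α).1.v n' n hn')) :=
    HomologicalComplex.mkHomFromSingle_f _ _
  let f : S.X n ⟶ F.X n' := σ.hom ≫ φ ≫ (mappingCone.snd s.α).v n' n' (add_zero n')
  let β : Cochain S F (-1) := Cochain.single f (-1)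
  have heq : δ (-1) 0 β = Cochain.ofHom (g ≫ s.α) := by
    have h2 := φ ≫= mappingCone.d_snd_v s.α n' n hn'
    rw [← Category.assoc, hφd, zero_comp, Preadditive.comp_add] at h2
    rw [Cochain.δ_single f (-1) 0 (by omega) n' n hn' hn']
    refine Cochain.ext₀ _ _ fun p => ?_
    rcases eq_or_ne p n with hp | hp
    · subst hp
      rw [Cochain.add_v, Cochain.units_smul_v, Cochain.single_v,
        Cochain.single_v_eq_zero _ _ p p (add_zero p) (by omega), smul_zero, add_zero, Cochain.ofHom_v,
        HomologicalComplex.comp_f, hgn]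
      simp only [f, Category.assoc, Preadditive.neg_comp]
      exact congrArg (σ.hom ≫ ·) (eq_neg_of_add_eq_zero_right h2.symm)
    · exact (HomologicalComplex.isZero_single_obj_X (ComplexShape.up ℤ) n N p hp).eq_of_src _ _
  let α' := mappingCone.desc g β s.α heq
  let ι := mappingCone.inr g
  have hfac : ι ≫ α' = s.α := mappingCone.inr_desc ..
  have hiso : ∀ i, n ≤ i → IsIso (ι.f i) := fun i hi => isIso_inr_f g i
    (HomologicalComplex.isZero_single_obj_X (ComplexShape.up ℤ) n N (i + 1) (by omega))
  have hmem : ∀ i, P ((mappingCone g).X i) := fun i => by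
    rcases eq_or_ne (i + 1) n with h1 | h1
    · subst h1
      haveI := isIso_inl_v g (i + 1) i rfl (s.below i (by omega))
      exact h.iso (σ.symm ≪≫ asIso ((mappingCone.inl g).v (i + 1) i _)) hN
    · haveI := isIso_inr_f g i (HomologicalComplex.isZero_single_obj_X (ComplexShape.up ℤ) n N (i + 1) h1)
      exact h.iso (asIso ((mappingCone.inr g).f i)) (s.mem i)
  have hzero : ∀ i, i + 1 ≠ n → IsZero (s.E.X i) → IsZero ((mappingCone g).X i) := fun i h1 h2 => by
    haveI := isIso_inr_f g i (HomologicalComplex.isZero_single_obj_X (ComplexShape.up ℤ) n N (i + 1) h1)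
    exact h2.of_iso (asIso ((mappingCone.inr g).f i)).symm
  let θ : mappingCone s.α ⟶ mappingCone α' := mappingCone.map s.α α' ι (𝟙 F) (by rw [hfac, Category.comp_id])
  have hθf : ∀ p q (h : p + 1 = q), θ.f p = (mappingCone.fst s.α).1.v p q h ≫ ι.f q ≫
      (mappingCone.inl α').v q p (by omega) +
      (mappingCone.snd s.α).v p p (add_zero p) ≫ (mappingCone.inr α').f p := fun p q h => by
    simp [θ, mappingCone.map, mappingCone.desc_f _ _ _ _ p q h]
  have hθ : ∀ i, n' ≤ i → IsIso (θ.f i) := fun i hi => by
    haveI := hiso (i + 1) (by omega)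
    refine ⟨(mappingCone.fst α').1.v i (i + 1) rfl ≫ inv (ι.f (i + 1)) ≫
      (mappingCone.inl s.α).v (i + 1) i (by omega) +
      (mappingCone.snd α').v i i (add_zero i) ≫ (mappingCone.inr s.α).f i, ?_, ?_⟩
    · rw [hθf i (i + 1) rfl, ← mappingCone.id_X s.α i (i + 1) rfl]; simp
    · rw [hθf i (i + 1) rfl, ← mappingCone.id_X α' i (i + 1) rfl]; simp
  let y : N ⟶ (mappingCone α').X n'' :=
    σ.inv ≫ (mappingCone.inl g).v n n' (by omega) ≫ (mappingCone.inl α').v n' n'' (by omega)
  have h3 : y ≫ (mappingCone α').d n'' n' = φ ≫ θ.f n' := by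
    have hd : S.d n (n + 1) = 0 :=
      (HomologicalComplex.isZero_single_obj_X (ComplexShape.up ℤ) n N (n + 1) (by omega)).eq_of_tgt _ _
    rw [hθf n' n hn', Category.assoc, Category.assoc, mappingCone.inl_v_d α' n' n'' n (by omega) (by omega),
      Preadditive.comp_sub, mappingCone.inl_v_desc_f_assoc,
      mappingCone.inl_v_d_assoc g n n' (n + 1) (by omega) (by omega)]
    simp [β, f, hgn, hd, Preadditive.comp_add]
    abel
  refine ⟨⟨mappingCone g, α', hmem, fun i hi => hzero i (by omega) (s.below i (by omega)),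
    fun i hi => hzero i (by omega) (s.above i hi), fun i hi => ?_⟩, ι, hfac, hiso⟩
  haveI := hθ i hi
  haveI := hθ (i + 1) (by omega)
  rcases eq_or_lt_of_le hi with h1 | h1
  · subst h1
    rw [HomologicalComplex.exactAt_iff_isZero_homology]
    haveI : IsIso (HomologicalComplex.cyclesMap θ n') := by
      refine ⟨(mappingCone s.α).liftCycles ((mappingCone α').iCycles n' ≫ inv (θ.f n')) (n' + 1) (by simp) ?_, ?_, ?_⟩
      · rw [← cancel_mono (θ.f (n' + 1)), zero_comp, Category.assoc, Category.assoc, ← θ.comm, IsIso.inv_hom_id_assoc,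
          HomologicalComplex.iCycles_d]
      · rw [← cancel_mono ((mappingCone s.α).iCycles n'), Category.assoc, HomologicalComplex.liftCycles_i,
          HomologicalComplex.cyclesMap_i_assoc, IsIso.hom_inv_id, Category.comp_id, Category.id_comp]
      · rw [← cancel_mono ((mappingCone α').iCycles n'), Category.assoc, HomologicalComplex.cyclesMap_i,
          HomologicalComplex.liftCycles_i_assoc, Category.assoc, IsIso.inv_hom_id, Category.comp_id, Category.id_comp]
    haveI : Epi (HomologicalComplex.homologyMap θ n') := by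
      have : Epi ((mappingCone s.α).homologyπ n' ≫ HomologicalComplex.homologyMap θ n') := by
        rw [HomologicalComplex.homologyπ_naturality]
        infer_instance
      exact epi_of_epi ((mappingCone s.α).homologyπ n') _
    have hy : v ≫ HomologicalComplex.cyclesMap θ n' = y ≫ (mappingCone α').toCycles n'' n' := by
      rw [← cancel_mono ((mappingCone α').iCycles n'), Category.assoc, HomologicalComplex.cyclesMap_i,
        Category.assoc, HomologicalComplex.toCycles_i, h3]
      simp [φ]
    have h0 : HomologicalComplex.homologyMap θ n' = 0 := by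
      rw [← cancel_epi (v ≫ (mappingCone s.α).homologyπ n'), comp_zero, Category.assoc,
        HomologicalComplex.homologyπ_naturality, ← Category.assoc, hy, Category.assoc,
        HomologicalComplex.toCycles_comp_homologyπ, comp_zero]
    exact IsZero.of_epi_eq_zero _ h0
  · haveI := hθ (i - 1) (by omega)
    haveI : QuasiIsoAt θ i := by
      rw [quasiIsoAt_iff' _ (i - 1) i (i + 1) (by simp) (by simp)]
      let ψ := (HomologicalComplex.shortComplexFunctor' C (ComplexShape.up ℤ) (i - 1) i (i + 1)).map θ
      haveI : IsIso ψ.τ₁ := inferInstanceAs (IsIso (θ.f (i - 1)))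
      haveI : IsIso ψ.τ₂ := inferInstanceAs (IsIso (θ.f i))
      haveI : IsIso ψ.τ₃ := inferInstanceAs (IsIso (θ.f (i + 1)))
      exact ShortComplex.quasiIso_of_epi_of_isIso_of_mono ψ
    exact (exactAt_iff_of_quasiIsoAt θ i).1 (s.exact i (by omega))

theorem exists_resolution [HasColimitsOfShape ℕ C] {F : CochainComplex C ℤ} (hF : ∀ i, K (F.homology i)) (b : ℤ)
    (hb : ∀ i, b < i → F.ExactAt i) :
    ∃ (E : CochainComplex C ℤ) (α : E ⟶ F), (∀ i, b < i → IsZero (E.X i)) ∧ (∀ i, P (E.X i)) ∧ QuasiIso α := by
  have base : Stage P F b (b + 1) := by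
    have hz : ∀ i, IsZero ((0 : CochainComplex C ℤ).X i) := fun i =>
      (HomologicalComplex.eval _ _ i).map_isZero (isZero_zero _)
    refine ⟨0, 0, fun i => h.zero _ (hz i), fun i _ => hz i, fun i _ => hz i, fun i hi => ?_⟩
    haveI : ∀ i, IsIso ((mappingCone.inr (0 : (0 : CochainComplex C ℤ) ⟶ F)).f i) :=
      fun i => isIso_inr_f _ i (hz _)
    haveI : IsIso (mappingCone.inr (0 : (0 : CochainComplex C ℤ) ⟶ F)) :=
      HomologicalComplex.Hom.isIso_of_components _
    exact (hb i (by omega)).of_iso (asIso (mappingCone.inr _))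
  have hstep : ∀ (k : ℕ) (s : Stage P F b (b + 1 - k)), ∃ (s' : Stage P F b (b + 1 - (k + 1 : ℕ)))
      (ι : s.E ⟶ s'.E), ι ≫ s'.α = s.α ∧ ∀ i, b + 1 - k ≤ i → IsIso (ι.f i) := fun k s =>
    exists_next h hF (by push_cast; omega) (by omega) s
  choose next nι hfac hiso using hstep
  let st : ∀ k : ℕ, Stage P F b (b + 1 - k) := fun k =>
    Nat.rec (motive := fun k => Stage P F b (b + 1 - (k : ℕ))) (cast (by simp) base) next k
  let D : ℕ ⥤ CochainComplex C ℤ :=
    Functor.ofSequence (X := fun k => (st k).E) fun k => nι k (st k)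
  let c : Cocone D := Cocone.mk F (NatTrans.ofSequence (fun k => (st k).α)
    fun k => (by rw [Functor.ofSequence_map_homOfLE_succ]; exact (hfac k (st k)).trans (Category.comp_id _).symm))
  have hmap : ∀ (k l : ℕ) (hkl : k ≤ l) (i : ℤ), b + 1 - k ≤ i → IsIso ((D.map (homOfLE hkl)).f i) := by
    intro k l hkl i hi
    induction l, hkl using Nat.le_induction with
    | base => rw [show homOfLE (le_refl k) = 𝟙 k from Subsingleton.elim _ _, D.map_id]; exact inferInstanceAs (IsIso (𝟙 _))
    | succ l hkl ih =>
      rw [show homOfLE (hkl.trans (Nat.le_succ l)) = homOfLE hkl ≫ homOfLE (Nat.le_succ l) from Subsingleton.elim _ _,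
        D.map_comp, HomologicalComplex.comp_f]
      haveI := ih
      haveI : IsIso ((D.map (homOfLE (Nat.le_succ l))).f i) := by
        rw [Functor.ofSequence_map_homOfLE_succ]; exact hiso l (st l) i (by omega)
      infer_instance
  have hι : ∀ (k : ℕ) (i : ℤ), b + 1 - k ≤ i → IsIso ((colimit.ι D k).f i) := fun k i hi => by
    have h : (D ⋙ HomologicalComplex.eval _ _ i).IsEventuallyConstantFrom k := fun l f =>
      hmap k l (leOfHom f) i hi
    exact h.isIso_ι_of_isColimit (isColimitOfPreserves (HomologicalComplex.eval _ _ i) (colimit.isColimit D))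
  have hk : ∀ i : ℤ, ∃ k : ℕ, b + 1 - k < i - 1 := fun i => ⟨(b + 3 - i).toNat, by omega⟩
  refine ⟨colimit D, colimit.desc D c, fun i hi => ?_, fun i => ?_, ⟨fun i => ?_⟩⟩
  · haveI := hι 0 i (by omega)
    exact ((st 0).above i hi).of_iso (asIso ((colimit.ι D 0).f i)).symm
  · obtain ⟨k, hk⟩ := hk i
    haveI := hι k i (by omega)
    exact h.iso (asIso ((colimit.ι D k).f i)) ((st k).mem i)
  · obtain ⟨k, hk⟩ := hk i
    haveI : QuasiIsoAt (colimit.ι D k) i := by
      rw [quasiIsoAt_iff' _ (i - 1) i (i + 1) (by simp) (by simp)]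
      let ψ := (HomologicalComplex.shortComplexFunctor' C (ComplexShape.up ℤ) (i - 1) i (i + 1)).map
        (colimit.ι D k)
      haveI : IsIso ψ.τ₁ := hι k (i - 1) (by omega)
      haveI : IsIso ψ.τ₂ := hι k i (by omega)
      haveI : IsIso ψ.τ₃ := hι k (i + 1) (by omega)
      exact ShortComplex.quasiIso_of_epi_of_isIso_of_mono ψ
    haveI : QuasiIsoAt (colimit.ι D k ≫ colimit.desc D c) i := by
      rw [colimit.ι_desc, quasiIsoAt_iff_isIso_homologyMap]
      letI := HasDerivedCategory.standard C
      let T := DerivedCategory.Q.mapTriangle.obj (mappingCone.triangle (st k).α)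
      have hT : T ∈ Pretriangulated.distinguishedTriangles :=
        DerivedCategory.mappingCone_triangle_distinguished _
      have hz : ∀ j, b + 1 - k ≤ j → IsZero ((DerivedCategory.homologyFunctor C j).obj T.obj₃) := fun j hj =>
        ((st k).exact j hj).isZero_homology.of_iso ((DerivedCategory.homologyFunctorFactors C j).app _)
      haveI : Mono ((DerivedCategory.homologyFunctor C i).map T.mor₁) :=
        (DerivedCategory.HomologySequence.mono_homologyMap_mor₁_iff _ hT (i - 1) i (by omega)).2
          ((hz (i - 1) (by omega)).eq_of_src _ _)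
      haveI : Epi ((DerivedCategory.homologyFunctor C i).map T.mor₁) :=
        (DerivedCategory.HomologySequence.epi_homologyMap_mor₁_iff _ hT i).2 ((hz i (by omega)).eq_of_tgt _ _)
      have h1 : IsIso ((DerivedCategory.homologyFunctor C i).map T.mor₁) := isIso_of_mono_of_epi _
      exact (NatIso.isIso_map_iff (DerivedCategory.homologyFunctorFactors C i) (st k).α).1 h1
    exact quasiIsoAt_of_comp_left (colimit.ι D k) _ i

end Groth.Agent.H9Misc.ClassResolve
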