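import Groth.Prelude.Def_HTor
import Groth.Agent.KFlatLib.Scheme.CohD
import Groth.Agent.KFlatLib.Perfect.Basic
import Groth.Agent.KFlatLib.Scheme.LpullLE
import Groth.Agent.KFlatLib.Scheme.FlatDescent
import Groth.Agent.QCoh.RpushStalk

/-!
# Derived and flat pullback preserve bounded above objects with coherent cohomology
-/

universe u

open CategoryTheory CategoryTheory.Limits AlgebraicGeometry

attribute [local instance] HasDerivedCategory.standard

namespace Groth.Agent.H9Misc.CohLpull

variable {X Y : Scheme.{u}}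

/-- `Lf^*` preserves bounded above objects with coherent cohomology. -/
theorem isCohD_lpull [IsLocallyNoetherian X] [IsLocallyNoetherian Y] (f : X ⟶ Y) [DCoh.HasLpull f]
    {K : DCoh.D Y} (hK : DCoh.IsCohD K) (b : ℤ) (hb : ∀ i, b < i → IsZero (DCoh.HD K i)) :
    DCoh.IsCohD ((DCoh.Lpull f).obj K) := fun i =>
  KFlatLib.isCoh_of_locPC (KFlatLib.isQCohD_lpull f (KFlatLib.isCohD_isQCohD hK))
    ((KFlatLib.isPseudoCoherentD_iff i _).1 (KFlatLib.isPseudoCoherentD_lpull f
      ((KFlatLib.isPseudoCoherentD_iff i _).2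
        (KFlatLib.locPC_of_coh (KFlatLib.isCohD_isQCohD hK) (fun j _ => hK j) b hb)))) i le_rfl

/-- Cohomology of a complex in `D`. -/
noncomputable def hdToDIso (F : CochainComplex X.Modules ℤ) (i : ℤ) :
    DCoh.HD (DCoh.toD X F) i ≅ F.homology i :=
  (DerivedCategory.homologyFunctorFactors X.Modules i).app F

/-- The cohomology bound of a complex with vanishing terms. -/
theorem isZero_hd_toD (F : CochainComplex X.Modules ℤ) (b : ℤ)
    (hb : ∀ i, b < i → IsZero (F.X i)) (i : ℤ) (hi : b < i) :
    IsZero (DCoh.HD (DCoh.toD X F) i) :=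
  (ShortComplex.isZero_homology_of_isZero_X₂ _ (hb i hi)).of_iso (hdToDIso F i)

/-- Flat pullback of complexes preserves coherent cohomology. -/
theorem isCohD_pullCx [IsLocallyNoetherian X] (f : X ⟶ Y) [Flat f] (F : CochainComplex Y.Modules ℤ)
    (hF : DCoh.IsCohD (DCoh.toD Y F)) :
    DCoh.IsCohD (DCoh.toD X ((HTor.pullCx f).obj F)) := fun i => by
  haveI := KFlatLib.preservesHomology_pullback f
  have e : DCoh.HD (DCoh.toD X ((HTor.pullCx f).obj F)) i ≅
      (Scheme.Modules.pullback f).obj (DCoh.HD (DCoh.toD Y F) i) :=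
    hdToDIso _ i ≪≫ (F.sc i).mapHomologyIso (Scheme.Modules.pullback f) ≪≫
      (Scheme.Modules.pullback f).mapIso (hdToDIso F i).symm
  exact KFlatLib.isCoh_of_iso e.symm
    ⟨QCoh.isQCoh_pullback f (hF i).1, QCoh.isFT_pullback f (hF i).1 (hF i).2⟩

/-- A coherent module placed in degree zero. -/
theorem isCohD_toD_single [IsLocallyNoetherian X] (M : X.Modules) (hM : Coh.IsCoh M) :
    DCoh.IsCohD (DCoh.toD X ((HomologicalComplex.single X.Modules (ComplexShape.up ℤ) 0).obj M)) :=
  fun i => by
    by_cases hi : i = 0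
    · subst hi
      exact KFlatLib.isCoh_of_iso ((hdToDIso _ 0) ≪≫
        HomologicalComplex.singleObjHomologySelfIso (ComplexShape.up ℤ) 0 M).symm hM
    · exact KFlatLib.isCoh_of_isZero
        (((HomologicalComplex.exactAt_single_obj _ _ _ _ hi).isZero_homology).of_iso (hdToDIso _ i))

/-- Flat pullback of a coherent module in degree zero. -/
theorem isCohD_pullCx_single [IsLocallyNoetherian X] (f : X ⟶ Y) [Flat f] (M : Y.Modules)
    (hM : Coh.IsCoh M) :
    DCoh.IsCohD (DCoh.toD X ((HTor.pullCx f).obj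
      ((HomologicalComplex.single Y.Modules (ComplexShape.up ℤ) 0).obj M))) := fun i =>
  KFlatLib.isCohD_of_iso
    (DerivedCategory.Q.mapIso ((HomologicalComplex.singleMapHomologicalComplex
      (Scheme.Modules.pullback f) (ComplexShape.up ℤ) 0).app M)).symm
    (isCohD_toD_single _ ⟨QCoh.isQCoh_pullback f hM.1, QCoh.isFT_pullback f hM.1 hM.2⟩) i

end Groth.Agent.H9Misc.CohLpull
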