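import Groth.Prelude.Def_CohDer
import Groth.Agent.S0985
import Groth.Agent.KFlatLib.BrutalTrunc
import Groth.Agent.TriCat.ResolveOp
import Groth.Agent.TriCat.Hocolim
import Groth.Agent.H9Misc.BrownGroth

/-! Compact objects of derived categories are retracts of bounded complexes of generators. -/

set_option linter.style.haveILetI false

universe v u

open CategoryTheory CategoryTheory.Category CategoryTheory.Limits Opposite Pretriangulated

namespace Groth.Agent.H9Misc.CompactRetract

variable {A : Type u} [Category.{v} A] [Abelian A]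

/-- Direct sums of members of `S`. -/
def SumOf (S : Set A) [HasCoproducts.{v} A] (X : A) : Prop :=
  ∃ (ι : Type v) (E : ι → A), (∀ i, E i ∈ S) ∧ Nonempty (X ≅ ∐ E)

/-- Finite direct sums of members of `S`. -/
def FinSumOf (S : Set A) [HasFiniteBiproducts A] (X : A) : Prop :=
  ∃ (n : ℕ) (E : Fin n → A), (∀ j, E j ∈ S) ∧ Nonempty (X ≅ ⨁ E)

lemma finSumOf_of_isZero (S : Set A) [HasFiniteBiproducts A] {X : A} (h : IsZero X) : FinSumOf S X := by
  refine ⟨0, fun j => j.elim0, fun j => j.elim0, ⟨h.iso ?_⟩⟩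
  rw [IsZero.iff_id_eq_zero]
  exact biproduct.hom_ext _ _ fun j => j.elim0

lemma sumOf_of_isZero (S : Set A) [HasCoproducts.{v} A] {X : A} (h : IsZero X) : SumOf S X := by
  refine ⟨PEmpty, fun j => j.elim, fun j => j.elim, ⟨h.iso ?_⟩⟩
  rw [IsZero.iff_id_eq_zero]
  exact Sigma.hom_ext _ _ fun j => j.elim

/-- The partial sum projection. -/
noncomputable def part {ι : Type v} (E : ι → A) [HasCoproduct E] (J : Finset ι) : ∐ E ⟶ ∐ E :=
  ∑ j ∈ J, TriCat.coprodProj E j ≫ Sigma.ι E j

lemma ι_part_mem {ι : Type v} (E : ι → A) [HasCoproduct E] {J : Finset ι} {i : ι} (h : i ∈ J) :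
    Sigma.ι E i ≫ part E J = Sigma.ι E i := by
  rw [part, Preadditive.comp_sum, Finset.sum_eq_single i (fun j _ hj => by
    rw [← Category.assoc, TriCat.ι_coprodProj_ne (Ne.symm hj), zero_comp]) (fun h' => absurd h h'),
    TriCat.ι_coprodProj_self_assoc]

open Classical in
/-- The projection to the complementary sum. -/
noncomputable def out {ι : Type v} (E : ι → A) [HasCoproducts.{v} A] (J : Finset ι) :
    ∐ E ⟶ ∐ fun i : {i // i ∉ J} => E i.1 :=
  Sigma.desc fun i => if h : i ∈ J then 0 else Sigma.ι (fun i : {i // i ∉ J} => E i.1) ⟨i, h⟩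

lemma ι_out_mem {ι : Type v} (E : ι → A) [HasCoproducts.{v} A] {J : Finset ι} {i : ι} (h : i ∈ J) :
    Sigma.ι E i ≫ out E J = 0 := by simp [out, h]

/-- The inclusion of the complementary sum. -/
noncomputable def into {ι : Type v} (E : ι → A) [HasCoproducts.{v} A] (J : Finset ι) :
    (∐ fun i : {i // i ∉ J} => E i.1) ⟶ ∐ E :=
  Sigma.desc fun i => Sigma.ι E i.1

lemma into_out {ι : Type v} (E : ι → A) [HasCoproducts.{v} A] (J : Finset ι) :
    into E J ≫ out E J = 𝟙 _ := by
  refine Sigma.hom_ext _ _ fun i => ?_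
  simp [into, out, dif_neg i.2]

lemma part_add_out {ι : Type v} (E : ι → A) [HasCoproducts.{v} A] (J : Finset ι) :
    part E J + out E J ≫ into E J = 𝟙 _ := by
  refine Sigma.hom_ext _ _ fun i => ?_
  rw [Preadditive.comp_add, comp_id]
  by_cases h : i ∈ J
  · rw [ι_part_mem E h, ← Category.assoc, ι_out_mem E h, zero_comp, add_zero]
  · have h1 : Sigma.ι E i ≫ part E J = 0 := by
      rw [part, Preadditive.comp_sum]
      exact Finset.sum_eq_zero fun j hj => by
        rw [← Category.assoc, TriCat.ι_coprodProj_ne (show i ≠ j from fun e => h (e ▸ hj)), zero_comp]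
    rw [h1, zero_add]
    simp [out, into, dif_neg h]

/-- Elements of sums under a coproduct preserving corepresented functor. -/
lemma finFactor_of_preserves {E₀ : A} {ι : Type v} (E : ι → A) [HasCoproduct E]
    [PreservesColimitsOfShape (Discrete ι) (preadditiveCoyoneda.obj (op E₀))] (f : E₀ ⟶ ∐ E) :
    TriCat.FinFactor f := by
  classical
  let S : AddSubgroup (E₀ ⟶ ∐ E) :=
    { carrier := {g | TriCat.FinFactor g}
      add_mem' := fun h h' => h.add h'
      zero_mem' := TriCat.FinFactor.zero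
      neg_mem' := fun h => h.neg }
  let G := preadditiveCoyoneda.obj (op E₀)
  let π : G.obj (∐ E) ⟶ AddCommGrpCat.of ((E₀ ⟶ ∐ E) ⧸ S) := AddCommGrpCat.ofHom (QuotientAddGroup.mk' S)
  have hπ : π = 0 := by
    refine (Cofan.IsColimit.hom_ext ((Cofan.isColimitMapCoconeEquiv G _ _)
      (isColimitOfPreserves G (coproductIsCoproduct E))) _ _ fun i => ?_)
    ext a
    exact (QuotientAddGroup.eq_zero_iff _).2 (TriCat.FinFactor.postcomp_ι i a)
  exact (QuotientAddGroup.eq_zero_iff f).1 (congrArg (fun q => q.hom f) hπ)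

/-- A map out of a finite sum lands in finitely many summands. -/
lemma exists_part_eq (S : Set A) [HasFiniteBiproducts A] [HasCoproducts.{v} A]
    (h2 : ∀ E ∈ S, ∀ ι : Type v, PreservesColimitsOfShape (Discrete ι) (preadditiveCoyoneda.obj (op E)))
    {X : A} (hX : FinSumOf S X) {ι : Type v} (E : ι → A) (f : X ⟶ ∐ E) :
    ∃ J : Finset ι, f ≫ part E J = f := by
  classical
  obtain ⟨n, F, hF, ⟨e⟩⟩ := hX
  have : ∀ j, TriCat.FinFactor (biproduct.ι F j ≫ e.inv ≫ f) := fun j => by
    haveI := h2 (F j) (hF j) ι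
    exact finFactor_of_preserves E _
  choose s a ha using this
  refine ⟨Finset.univ.biUnion s, (cancel_epi e.inv).1 (biproduct.hom_ext' _ _ fun j => ?_)⟩
  have hj : biproduct.ι F j ≫ e.inv ≫ f ≫ part E (Finset.univ.biUnion s) =
      (biproduct.ι F j ≫ e.inv ≫ f) ≫ part E (Finset.univ.biUnion s) := by simp only [Category.assoc]
  rw [hj, ha j, Preadditive.sum_comp]
  refine Finset.sum_congr rfl fun i hi => ?_
  rw [Category.assoc, ι_part_mem E (Finset.mem_biUnion.2 ⟨j, Finset.mem_univ _, hi⟩)]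

/-- A cocone on a sequence which is eventually an isomorphism is a colimit. -/
noncomputable def colimit_of_eventually_iso (G : ℕ ⥤ A) (c : Cocone G) (N : ℕ)
    (h : ∀ n, N ≤ n → IsIso (c.ι.app n)) : IsColimit c :=
  haveI := h N le_rfl
  { desc := fun s => inv (c.ι.app N) ≫ s.ι.app N
    fac := fun s n => by
      haveI := h (max n N) (le_max_right _ _)
      have e3 : inv (c.ι.app N) ≫ G.map (homOfLE (le_max_right n N)) = inv (c.ι.app (max n N)) := by
        rw [IsIso.inv_comp_eq, IsIso.eq_comp_inv]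
        exact c.w _
      rw [← s.w (homOfLE (le_max_left n N)), ← s.w (homOfLE (le_max_right n N)),
        ← c.w (homOfLE (le_max_left n N)), reassoc_of% e3, Category.assoc, IsIso.hom_inv_id_assoc]
    uniq := fun s f hf => by rw [← hf N, IsIso.inv_hom_id_assoc] }

section Derived

variable [IsGrothendieckAbelian.{v} A] [HasCoproducts.{v} A] [HasFiniteBiproducts A]
  [HasDerivedCategory.{v} A] [HasCoproducts.{v} (DerivedCategory A)] (S : Set A)

lemma kernel_step {X : A} {ι : Type v} (E : ι → A) (hE : ∀ i, E i ∈ S) (J : Finset ι) (e : X ≅ ∐ E) :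
    FinSumOf S (kernel (e.hom ≫ out E J)) := by
  classical
  let v : Fin J.card → ι := fun k => (J.equivFin.symm k).1
  refine ⟨J.card, fun k => E (v k), fun k => hE _, ⟨?_⟩⟩
  let l : kernel (e.hom ≫ out E J) ⟶ ⨁ fun k => E (v k) :=
    biproduct.lift fun k => kernel.ι _ ≫ e.hom ≫ TriCat.coprodProj E (v k)
  let m : (⨁ fun k => E (v k)) ⟶ kernel (e.hom ≫ out E J) :=
    kernel.lift _ (biproduct.desc fun k => Sigma.ι E (v k) ≫ e.inv) (biproduct.hom_ext' _ _ fun k => by
      simp only [biproduct.ι_desc_assoc, Category.assoc, Iso.inv_hom_id_assoc, comp_zero]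
      exact ι_out_mem E (J.equivFin.symm k).2)
  refine ⟨l, m, ?_, ?_⟩
  · rw [← cancel_mono (kernel.ι _), Category.assoc, kernel.lift_ι, Category.id_comp,
      biproduct.lift_desc, ← cancel_mono e.hom, Preadditive.sum_comp]
    have h0 : kernel.ι (e.hom ≫ out E J) ≫ e.hom ≫ part E J = kernel.ι (e.hom ≫ out E J) ≫ e.hom := by
      have k0 : kernel.ι (e.hom ≫ out E J) ≫ e.hom ≫ out E J = 0 := kernel.condition _
      have k1 := congrArg (fun q => kernel.ι (e.hom ≫ out E J) ≫ e.hom ≫ q) (part_add_out E J)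
      simpa only [Preadditive.comp_add, comp_id, reassoc_of% k0, zero_comp, add_zero] using k1
    rw [← h0, part, Preadditive.comp_sum, Preadditive.comp_sum, ← Finset.sum_coe_sort J,
      ← J.equivFin.symm.sum_comp]
    refine Finset.sum_congr rfl fun k _ => ?_
    simp [v]
  · refine biproduct.hom_ext' _ _ fun k => biproduct.hom_ext _ _ fun k' => ?_
    simp only [l, m, Category.assoc, biproduct.lift_π, kernel.lift_ι_assoc, biproduct.ι_desc_assoc,
      Iso.inv_hom_id_assoc, Category.id_comp]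
    by_cases h : k = k'
    · subst h; simp [TriCat.ι_coprodProj_self, v]
    · have hv : v k ≠ v k' := fun e => h (J.equivFin.symm.injective (Subtype.ext e))
      rw [TriCat.ι_coprodProj_ne hv, biproduct.ι_π_ne _ h]

/-- The bounded stage of the induction. -/
def Stage (K : DerivedCategory A) (a b c : ℤ) : Prop :=
  ∃ (M : CochainComplex A ℤ), (∀ i, i < a ∨ b < i → IsZero (M.X i)) ∧
    (∀ i, i < c → FinSumOf S (M.X i)) ∧ (∀ i, SumOf S (M.X i)) ∧ Nonempty (Retract K (DerivedCategory.Q.obj M))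

lemma sumOf_of_finSumOf {X : A} (h : FinSumOf S X) : SumOf S X := by
  obtain ⟨n, F, hF, ⟨e⟩⟩ := h
  refine ⟨ULift.{v} (Fin n), fun j => F j.down, fun j => hF _, ⟨e ≪≫ ⟨biproduct.desc fun j =>
    Sigma.ι (fun j : ULift.{v} (Fin n) => F j.down) ⟨j⟩, Sigma.desc fun j => biproduct.ι F j.down, ?_, ?_⟩⟩⟩
  · exact biproduct.hom_ext' _ _ fun j => by simp
  · exact Sigma.hom_ext _ _ fun ⟨j⟩ => by simp

lemma preservesColimit_single_Q {ι : Type v} (E : ι → A) (c : ℤ) :
    PreservesColimit (Discrete.functor E) (DerivedCategory.singleFunctor A c) := by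
  let F := HomologicalComplex.single A (ComplexShape.up ℤ) c
  haveI : PreservesColimit (Discrete.functor (F.obj ∘ E)) (DerivedCategory.Q (C := A)) :=
    BrownGroth.preservesColimit_Q _
  haveI : PreservesColimit (Discrete.functor E ⋙ F) (DerivedCategory.Q (C := A)) :=
    preservesColimit_of_iso_diagram _ (Discrete.compNatIsoDiscrete E F).symm
  exact inferInstanceAs (PreservesColimit (Discrete.functor E) (F ⋙ DerivedCategory.Q (C := A)))

lemma stage_succ
    (h2 : ∀ E ∈ S, ∀ ι : Type v, PreservesColimitsOfShape (Discrete ι) (preadditiveCoyoneda.obj (op E)))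
    {K : DerivedCategory A} (hK : CohDer.IsCompactObject K) {a b c : ℤ} (h : Stage S K a b c) :
    Stage S K a b (c + 1) := by
  classical
  obtain ⟨M, hz, hf, hs, ⟨r⟩⟩ := h
  obtain ⟨ι, E, hE, ⟨e⟩⟩ := hs c
  obtain ⟨J₁, hJ₁⟩ := exists_part_eq S h2 (hf (c - 1) (by omega)) E (M.d (c - 1) c ≫ e.hom)
  haveI := preservesColimit_single_Q E c
  let Sg := DerivedCategory.singleFunctor A c
  have hd : ∀ J, J₁ ⊆ J → ∀ i, (ComplexShape.up ℤ).Rel i c → M.d i c ≫ e.hom ≫ out E J = 0 := by
    intro J hJ i hi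
    obtain rfl : i = c - 1 := by simp at hi; omega
    rw [← Category.assoc, ← hJ₁, Category.assoc, part, Preadditive.sum_comp]
    simp only [Category.assoc]
    have : ∀ j ∈ J₁, TriCat.coprodProj E j ≫ Sigma.ι E j ≫ out E J = 0 := fun j hj => by
      rw [ι_out_mem E (hJ hj), comp_zero]
    rw [Finset.sum_eq_zero this]
    simp
  have hd₀ : ∀ i, (ComplexShape.up ℤ).Rel i c → M.d i c ≫ (e.hom ≫ out E J₁ ≫ into E J₁) = 0 :=
    fun i hi => by
      have := congrArg (· ≫ into E J₁) (hd J₁ subset_rfl i hi)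
      simpa only [Category.assoc, zero_comp] using this
  let u₀ : M ⟶ (HomologicalComplex.single A (ComplexShape.up ℤ) c).obj (∐ E) :=
    HomologicalComplex.mkHomToSingle (e.hom ≫ out E J₁ ≫ into E J₁) hd₀
  let φ : K ⟶ Sg.obj (∐ E) := r.i ≫ DerivedCategory.Q.map u₀
  obtain ⟨J₂, w, hw⟩ := TriCat.IsCompactObject.finFactor hK (φ ≫ (PreservesCoproduct.iso Sg E).hom)
  let J := J₁ ∪ J₂
  let u : M ⟶ (HomologicalComplex.single A (ComplexShape.up ℤ) c).obj (∐ fun i : {i // i ∉ J} => E i.1) :=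
    HomologicalComplex.mkHomToSingle (e.hom ≫ out E J) (hd J Finset.subset_union_left)
  have hu : u = u₀ ≫ (HomologicalComplex.single A (ComplexShape.up ℤ) c).map (out E J) := by
    apply HomologicalComplex.to_single_hom_ext
    have h1 : out E J₁ ≫ into E J₁ ≫ out E J = out E J := by
      have h2 : part E J₁ ≫ out E J = 0 := by
        rw [part, Preadditive.sum_comp]
        exact Finset.sum_eq_zero fun j hj => by
          rw [Category.assoc, ι_out_mem E (Finset.mem_union_left _ hj), comp_zero]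
      conv_rhs => rw [← Category.id_comp (out E J), ← part_add_out E J₁, Preadditive.add_comp, h2,
        zero_add, Category.assoc]
    simp only [u, u₀, HomologicalComplex.comp_f, HomologicalComplex.mkHomToSingle_f,
      HomologicalComplex.single_map_f_self, Category.assoc, Iso.inv_hom_id_assoc]
    rw [reassoc_of% h1]
  have hzero : r.i ≫ DerivedCategory.Q.map u = 0 := by
    rw [hu, Functor.map_comp, ← Category.assoc]
    show φ ≫ Sg.map (out E J) = 0
    have hφ : φ = (∑ i ∈ J₂, w i ≫ Sigma.ι (fun i => Sg.obj (E i)) i) ≫ (PreservesCoproduct.iso Sg E).inv := by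
      rw [← hw, Category.assoc, Iso.hom_inv_id, comp_id]
    rw [hφ, Preadditive.sum_comp, Preadditive.sum_comp]
    refine Finset.sum_eq_zero fun i hi => ?_
    simp only [Category.assoc, PreservesCoproduct.inv_hom, ι_comp_sigmaComparison_assoc]
    rw [← Functor.map_comp, ι_out_mem E (Finset.mem_union_right J₁ hi), Functor.map_zero, comp_zero]
  let C := ShortComplex.mk (kernel.ι u) u (kernel.condition u)
  have hepi : ∀ i, Epi (u.f i) := fun i => by
    by_cases hi : i = c
    · subst hi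
      haveI : IsSplitEpi (out E J) := ⟨⟨⟨into E J, into_out E J⟩⟩⟩
      rw [HomologicalComplex.mkHomToSingle_f]
      infer_instance
    · exact ⟨fun g g' _ => (HomologicalComplex.isZero_single_obj_X _ _ _ _ hi).eq_of_src _ _⟩
  have hC : C.ShortExact :=
    { exact := ShortComplex.exact_of_f_is_kernel _ (kernelIsKernel u)
      mono_f := inferInstance
      epi_g := HomologicalComplex.epi_of_epi_f u hepi }
  obtain ⟨l, hl⟩ := Triangle.coyoneda_exact₂ _ (DerivedCategory.triangleOfSES_distinguished hC) r.i hzero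
  let κ := fun i => PreservesKernel.iso (HomologicalComplex.eval A (ComplexShape.up ℤ) i) u
  have hiso : ∀ i, i ≠ c → ((kernel u).X i ≅ M.X i) := fun i hi =>
    κ i ≪≫ kernel.mapIso (u.f i) (0 : M.X i ⟶ ((HomologicalComplex.single A (ComplexShape.up ℤ) c).obj
      (∐ fun i : {i // i ∉ J} => E i.1)).X i) (Iso.refl _) (Iso.refl _)
      ((HomologicalComplex.isZero_single_obj_X (ComplexShape.up ℤ) c _ i hi).eq_of_tgt _ _) ≪≫ kernelZeroIsoSource
  have hc : FinSumOf S ((kernel u).X c) := by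
    obtain ⟨n, F, hF, ⟨eF⟩⟩ := kernel_step S E hE J e
    refine ⟨n, F, hF, ⟨κ c ≪≫ kernel.mapIso (u.f c) (e.hom ≫ out E J) (Iso.refl _)
      (HomologicalComplex.singleObjXSelf _ c _) ?_ ≪≫ eF⟩⟩
    simp [u, HomologicalComplex.mkHomToSingle_f]
  refine ⟨kernel u, fun i hi => ?_, fun i hi => ?_, fun i => ?_, ⟨{ i := l, r := DerivedCategory.Q.map (kernel.ι u) ≫ r.r, retract := ?_ }⟩⟩
  · haveI : Mono ((kernel.ι u).f i) :=
      inferInstanceAs (Mono ((HomologicalComplex.eval A (ComplexShape.up ℤ) i).map (kernel.ι u)))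
    exact (hz i hi).of_mono ((kernel.ι u).f i)
  · rcases eq_or_ne i c with rfl | hne
    · exact hc
    · obtain ⟨n, F, hF, ⟨eF⟩⟩ := hf i (by omega)
      exact ⟨n, F, hF, ⟨hiso i hne ≪≫ eF⟩⟩
  · rcases eq_or_ne i c with rfl | hne
    · exact sumOf_of_finSumOf S hc
    · obtain ⟨ι', F, hF, ⟨eF⟩⟩ := hs i
      exact ⟨ι', F, hF, ⟨hiso i hne ≪≫ eF⟩⟩
  · rw [← Category.assoc]
    exact (congrArg (· ≫ r.r) hl.symm).trans r.retract

/-- A compact object has cohomology bounded above. -/
lemma exists_bound (C : CochainComplex A ℤ) (hC : CohDer.IsCompactObject (DerivedCategory.Q.obj C)) :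
    ∃ m : ℤ, ∀ i, m < i → C.ExactAt i := by
  classical
  let T : ℕ → CochainComplex A ℤ := fun n => C.truncGE (n : ℤ)
  haveI : HasColimitsOfShape (Discrete ℕ) A := hasColimitsOfShape_of_equivalence
    (Discrete.equivalence (Equiv.ulift.{v} : ULift.{v} ℕ ≃ ℕ))
  haveI : HasColimitsOfShape (Discrete ℕ) (DerivedCategory A) :=
    TriCat.hasCountableCoproducts_of_hasCoproducts _
  let ψf : ∀ (i : ℤ) (N : ℕ), C.X i ⟶ (∐ T).X i := fun i N =>
    ∑ n ∈ Finset.range N, (C.πTruncGE (n : ℤ) ≫ Sigma.ι T n).f i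
  have hψ : ∀ (i : ℤ) (N N' : ℕ), N ≤ N' → i < N → ψf i N' = ψf i N := by
    intro i N N' hN hi
    refine (Finset.sum_subset (Finset.range_subset_range.2 hN) fun n _ hn => ?_).symm
    have : N ≤ n := by simpa using hn
    rw [HomologicalComplex.comp_f, ((T n).isZero_of_isStrictlyGE (n : ℤ) i (by omega)).eq_of_tgt
      ((C.πTruncGE (n : ℤ)).f i) 0, zero_comp]
  let ψ : C ⟶ ∐ T :=
    { f := fun i => ψf i (i + 1).toNat
      comm' := fun i j hij => by
        obtain rfl : i + 1 = j := hij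
        show ψf i _ ≫ _ = _ ≫ ψf (i + 1) _
        rw [← hψ i (i + 1).toNat (i + 1 + 1).toNat (by omega) (by omega)]
        simp only [ψf, Preadditive.sum_comp, Preadditive.comp_sum, HomologicalComplex.Hom.comm] }
  have hproj : ∀ n : ℕ, ψ ≫ TriCat.coprodProj T n = C.πTruncGE (n : ℤ) := by
    intro n
    ext i
    rw [HomologicalComplex.comp_f]
    show ψf i (i + 1).toNat ≫ _ = _
    rw [← hψ i (i + 1).toNat (max (i + 1).toNat (n + 1)) (le_max_left _ _) (by omega)]
    simp only [ψf, Preadditive.sum_comp, ← HomologicalComplex.comp_f, Category.assoc]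
    rw [Finset.sum_eq_single n]
    · rw [TriCat.ι_coprodProj_self, comp_id]
    · intro j _ hj
      rw [TriCat.ι_coprodProj_ne hj, comp_zero]
      rfl
    · intro h
      exact absurd (Finset.mem_range.2 (by omega)) h
  let Q := DerivedCategory.Q (C := A)
  haveI := BrownGroth.preservesColimit_Q T
  obtain ⟨s, w, hw⟩ := TriCat.finFactor_of_isCompactObject hC
    (Q.map ψ ≫ (PreservesCoproduct.iso Q T).hom)
  have hψQ : Q.map ψ = ∑ j ∈ s, w j ≫ Q.map (Sigma.ι T j) := by
    rw [← cancel_mono (PreservesCoproduct.iso Q T).hom, hw, Preadditive.sum_comp]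
    refine Finset.sum_congr rfl fun j _ => ?_
    have : Q.map (Sigma.ι T j) ≫ (PreservesCoproduct.iso Q T).hom = Sigma.ι (fun m => Q.obj (T m)) j := by
      rw [← Iso.eq_comp_inv, PreservesCoproduct.inv_hom, ι_comp_sigmaComparison]
    rw [Category.assoc, this]
  refine ⟨((s.sup id : ℕ) : ℤ), fun i hi => ?_⟩
  let n := s.sup id + 1
  have hn : Q.map (C.πTruncGE (n : ℤ)) = 0 := by
    rw [← hproj n, Q.map_comp, hψQ, Preadditive.sum_comp]
    refine Finset.sum_eq_zero fun j hj => ?_
    have : j ≠ n := by have := Finset.le_sup (f := id) hj; simp [n] at this ⊢; omega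
    rw [Category.assoc, ← Q.map_comp, TriCat.ι_coprodProj_ne this, Q.map_zero, comp_zero]
  haveI : QuasiIsoAt (C.πTruncGE (n : ℤ)) i := C.quasiIsoAt_πTruncGE _ _ (by simp [n]; omega)
  have hH : HomologicalComplex.homologyMap (C.πTruncGE (n : ℤ)) i = 0 := by
    have h' := (DerivedCategory.homologyFunctorFactors A i).hom.naturality (C.πTruncGE (n : ℤ))
    simp only [Functor.comp_map] at h'
    rw [hn, Functor.map_zero, zero_comp] at h'
    exact (cancel_epi ((DerivedCategory.homologyFunctorFactors A i).hom.app C)).1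
      (h'.symm.trans comp_zero.symm)
  rw [HomologicalComplex.exactAt_iff_isZero_homology, IsZero.iff_id_eq_zero,
    ← cancel_mono (HomologicalComplex.homologyMap (C.πTruncGE (n : ℤ)) i), hH, comp_zero, comp_zero]

theorem exists_retract (h1 : ∀ X : A, ∃ (ι : Type v) (E : ι → A) (π : ∐ E ⟶ X), (∀ i, E i ∈ S) ∧ Epi π)
    (h2 : ∀ E ∈ S, ∀ ι : Type v, PreservesColimitsOfShape (Discrete ι) (preadditiveCoyoneda.obj (op E)))
    (K : DerivedCategory A) (hK : CohDer.IsCompactObject K) :
    ∃ (L : CochainComplex A ℤ) (a b : ℤ),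
      (∀ i : ℤ, i < a ∨ b < i → IsZero (L.X i)) ∧ (∀ i : ℤ, FinSumOf S (L.X i)) ∧
      Nonempty (Retract K (DerivedCategory.Q.obj L)) := by
  classical
  haveI := Localization.essSurj (DerivedCategory.Q (C := A))
    (HomologicalComplex.quasiIso _ (ComplexShape.up ℤ))
  let C := DerivedCategory.Q.objPreimage K
  let e₀ : DerivedCategory.Q.obj C ≅ K := DerivedCategory.Q.objObjPreimageIso K
  obtain ⟨m, hm⟩ := exists_bound C (TriCat.isCompactObject_of_iso e₀.symm hK)
  haveI : C.IsLE m := (CochainComplex.isLE_iff _ _).2 hm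
  haveI : QuasiIso (C.ιTruncLE m) := (C.quasiIso_ιTruncLE_iff m).2 inferInstance
  obtain ⟨L, α, hL, hLP, -, hα⟩ := TriCat.exists_quasiIso_left_resolution (SumOf S)
    ⟨_, isZero_zero A, sumOf_of_isZero S (isZero_zero A)⟩ (fun X => by
      obtain ⟨ι, E, π, hE, hπ⟩ := h1 X
      exact ⟨∐ E, π, ⟨ι, E, hE, ⟨Iso.refl _⟩⟩, hπ⟩) (C.truncLE m) m
  haveI : QuasiIso (α ≫ C.ιTruncLE m) := inferInstance
  let eK : DerivedCategory.Q.obj L ≅ K := asIso (DerivedCategory.Q.map (α ≫ C.ιTruncLE m)) ≪≫ e₀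
  let σ : ℕ → CochainComplex A ℤ := fun n => L.stupidTrunc (ComplexShape.embeddingUpIntGE (m - n))
  let j : ∀ n : ℕ, σ n ⟶ L := fun n => KFlatLib.sigmaGEι L (m - n)
  have hstep : ∀ n : ℕ, ∃ g : σ n ⟶ σ (n + 1), g ≫ j (n + 1) = j n := fun n => by
    have hS := KFlatLib.sigmaSES_shortExact L (m - ((n + 1 : ℕ) : ℤ))
    haveI := hS.mono_f
    refine ⟨hS.exact.lift (j n) ?_, hS.exact.lift_f _ _⟩
    ext i
    rcases lt_or_ge i (m - n) with h | h
    · exact (KFlatLib.isZero_stupidTrunc_of_lt L _ i h).eq_of_src _ _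
    · haveI := KFlatLib.isStrictlyLE_sigmaSES_X₃ L (m - ((n + 1 : ℕ) : ℤ))
      exact (CochainComplex.isZero_of_isStrictlyLE (KFlatLib.sigmaSES L (m - ((n + 1 : ℕ) : ℤ))).X₃
        (m - ((n + 1 : ℕ) : ℤ) - 1) i (by omega)).eq_of_tgt _ _
  choose g hg using hstep
  let F : ℕ ⥤ CochainComplex A ℤ := Functor.ofSequence g
  let cc : Cocone F :=
    { pt := L
      ι :=
        { app := j
          naturality := fun p q f => by
            have := TriCat.cocone_of_succ F j (fun k => by
              rw [Functor.ofSequence_map_homOfLE_succ]; exact hg k) (leOfHom f)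
            rw [show homOfLE (leOfHom f) = f from Subsingleton.elim _ _] at this
            exact this.trans (comp_id _).symm } }
  have hiso : ∀ (i : ℤ), ∃ N : ℕ, ∀ n, N ≤ n → IsIso ((j n).f i) := fun i =>
    ⟨(m - i).toNat, fun n hn => KFlatLib.isIso_sigmaGEι_f L _ i (by omega)⟩
  have hcc : IsColimit cc := HomologicalComplex.isColimitOfEval _ _ fun i => by
    choose N hN using hiso
    exact colimit_of_eventually_iso _ ((HomologicalComplex.eval A (ComplexShape.up ℤ) i).mapCocone cc)
      (N i) fun n hn => hN i n hn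
  haveI : HasColimitsOfShape (Discrete ℕ) A := hasColimitsOfShape_of_equivalence
    (Discrete.equivalence (Equiv.ulift.{v} : ULift.{v} ℕ ≃ ℕ))
  haveI : HasColimitsOfShape (Discrete ℕ) (DerivedCategory A) :=
    TriCat.hasCountableCoproducts_of_hasCoproducts _
  haveI := BrownGroth.preservesColimit_Q F.obj
  have hH := S0985.result F
  let ec : DerivedCategory.Q.obj (colimit F) ≅ K :=
    DerivedCategory.Q.mapIso ((colimit.isColimit F).coconePointUniqueUpToIso hcc) ≪≫ eK
  obtain ⟨n, g', hg'⟩ := TriCat.IsHocolim.exists_factor hH hK ec.inv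
  have h0 : Stage S K (m - n) m (m - n) := by
    refine ⟨σ n, fun i hi => ?_, fun i hi =>
      finSumOf_of_isZero S (KFlatLib.isZero_stupidTrunc_of_lt L _ i hi), fun i => ?_,
      ⟨{ i := g', r := DerivedCategory.Q.map (colimit.ι F n) ≫ ec.hom, retract := ?_ }⟩⟩
    · rcases lt_or_ge i (m - n) with h | h
      · exact KFlatLib.isZero_stupidTrunc_of_lt L _ i h
      · haveI := KFlatLib.isIso_sigmaGEι_f L (m - n) i h
        exact (L.isZero_of_isStrictlyLE m i (by omega)).of_iso (asIso ((j n).f i))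
    · rcases lt_or_ge i (m - n) with h | h
      · exact sumOf_of_isZero S (KFlatLib.isZero_stupidTrunc_of_lt L _ i h)
      · haveI := KFlatLib.isIso_sigmaGEι_f L (m - n) i h
        obtain ⟨ι, E, hE, ⟨e⟩⟩ := hLP i
        exact ⟨ι, E, hE, ⟨asIso ((j n).f i) ≪≫ e⟩⟩
    · exact (Category.assoc _ _ _).symm.trans ((congrArg (· ≫ ec.hom) hg').trans ec.inv_hom_id)
  have hall : ∀ k : ℕ, Stage S K (m - n) m (m - n + k) := by
    intro k
    induction k with
    | zero => simpa using h0
    | succ k ih =>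
      have := stage_succ S h2 hK ih
      rwa [Nat.cast_succ, ← add_assoc]
  obtain ⟨M, hz, hf, -, hr⟩ := hall (n + 1)
  refine ⟨M, m - n, m, hz, fun i => ?_, hr⟩
  rcases lt_or_ge i (m - n + ((n + 1 : ℕ) : ℤ)) with h | h
  · exact hf i h
  · exact finSumOf_of_isZero S (hz i (Or.inr (by omega)))

end Derived

end Groth.Agent.H9Misc.CompactRetract
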