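import Groth.Agent.TriCat.CompactFactor
import Groth.Agent.TriCat.CellResolution
import Groth.Agent.TriCat.BrownCompact
import Mathlib.Logic.Small.Basic

/-!
# The compact objects of a compactly generated triangulated category form an essentially small class
-/

universe v u

open CategoryTheory CategoryTheory.Category CategoryTheory.Limits CategoryTheory.Pretriangulated
open Groth.Agent.TriCat
open scoped ZeroObject

namespace Groth.Agent.H9Misc.CompactSmall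

variable {D : Type u} [Category.{v} D] [Preadditive D] [HasZeroObject D] [HasShift D ℤ]
  [∀ n : ℤ, (shiftFunctor D n).Additive] [Pretriangulated D]

/-- A small family of objects. -/
structure Fam (D : Type u) [Category.{v} D] where
  /-- The index type. -/
  idx : Type v
  /-- The objects. -/
  obj : idx → D

open Classical in
/-- One step: shifts, extensions and retracts. -/
noncomputable def step (S : Fam D) : Fam D where
  idx := PUnit.{v + 1} ⊕ (S.idx ⊕ ((S.idx × ℤ) ⊕ ((Σ a b : S.idx, (S.obj b ⟶ (S.obj a)⟦(1 : ℤ)⟧)) ⊕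
    (Σ a : S.idx, (S.obj a ⟶ S.obj a)))))
  obj := fun
    | .inl _ => 0
    | .inr (.inl a) => S.obj a
    | .inr (.inr (.inl p)) => (S.obj p.1)⟦p.2⟧
    | .inr (.inr (.inr (.inl p))) =>
      ((distinguished_cocone_triangle p.2.2).choose)⟦(-1 : ℤ)⟧
    | .inr (.inr (.inr (.inr p))) =>
      if h : ∃ (Y : D) (i : Y ⟶ S.obj p.1) (r : S.obj p.1 ⟶ Y), i ≫ r = 𝟙 Y ∧ r ≫ i = p.2 then h.choose else 0

/-- The `n`-fold step. -/
noncomputable def iter {ι : Type v} (E : ι → D) : ℕ → Fam D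
  | 0 => ⟨ι, E⟩
  | n + 1 => step (iter E n)

omit [Preadditive D] [HasZeroObject D] [HasShift D ℤ] [∀ n : ℤ, (shiftFunctor D n).Additive] [Pretriangulated D] in
/-- Two splittings of the same idempotent are isomorphic. -/
lemma nonempty_iso_of_split {M X Z : D} (j : X ⟶ M) (r : M ⟶ X) (i : Z ⟶ M) (q : M ⟶ Z) (hjr : j ≫ r = 𝟙 X)
    (hiq : i ≫ q = 𝟙 Z) (h : q ≫ i = r ≫ j) : Nonempty (Z ≅ X) := by
  refine ⟨⟨i ≫ r, j ≫ q, ?_, ?_⟩⟩
  · rw [assoc, ← assoc r, ← h, assoc q, hiq, comp_id, hiq]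
  · rw [assoc, ← assoc q, h, assoc r, hjr, comp_id, hjr]

/-- The objects obtained. -/
def Built {ι : Type v} (E : ι → D) : ObjectProperty D := fun X => ∃ n a, Nonempty ((iter E n).obj a ≅ X)

variable {ι : Type v} (E : ι → D)

lemma built_up {n m : ℕ} (h : n ≤ m) (a : (iter E n).idx) :
    ∃ b : (iter E m).idx, Nonempty ((iter E m).obj b ≅ (iter E n).obj a) := by
  induction m, h using Nat.le_induction with
  | base => exact ⟨a, ⟨Iso.refl _⟩⟩
  | succ m _ ih =>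
    obtain ⟨b, hb⟩ := ih
    exact ⟨.inr (.inl b), hb⟩

instance : (Built E).IsClosedUnderIsomorphisms :=
  ⟨fun {_ _} e ⟨n, a, ⟨i⟩⟩ => ⟨n, a, ⟨i ≪≫ e⟩⟩⟩

instance : (Built E).ContainsZero :=
  ⟨⟨0, isZero_zero D, 1, .inl PUnit.unit, ⟨Iso.refl _⟩⟩⟩

instance : (Built E).IsStableUnderShift ℤ :=
  ⟨fun m => ⟨fun X ⟨n, a, ⟨e⟩⟩ => ⟨n + 1, .inr (.inr (.inl (a, m))), ⟨(shiftFunctor D m).mapIso e⟩⟩⟩⟩

instance : (Built E).IsStableUnderRetracts where
  of_retract := by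
    rintro X Y r ⟨n, a, ⟨e⟩⟩
    let p : (iter E n).obj a ⟶ (iter E n).obj a := e.hom ≫ r.r ≫ r.i ≫ e.inv
    have h : ∃ (Z : D) (i : Z ⟶ (iter E n).obj a) (q : (iter E n).obj a ⟶ Z), i ≫ q = 𝟙 Z ∧ q ≫ i = p :=
      ⟨X, r.i ≫ e.inv, e.hom ≫ r.r, by simp, by simp [p]⟩
    refine ⟨n + 1, .inr (.inr (.inr (.inr ⟨a, p⟩))), ?_⟩
    simp only [iter, step]
    rw [dif_pos h]
    obtain ⟨i, q, hiq, hqi⟩ := h.choose_spec
    exact nonempty_iso_of_split (r.i ≫ e.inv) (e.hom ≫ r.r) i q (by simp) hiq (by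
      rw [hqi]; simp [p])

instance : (Built E).IsTriangulatedClosed₂ := ObjectProperty.IsTriangulatedClosed₂.mk' fun T hT h₁ h₃ => by
  obtain ⟨n, a₀, ⟨e₁⟩⟩ := h₁
  obtain ⟨m, b₀, ⟨e₃⟩⟩ := h₃
  obtain ⟨a, ⟨ea⟩⟩ := built_up E (le_max_left n m) a₀
  obtain ⟨b, ⟨eb⟩⟩ := built_up E (le_max_right n m) b₀
  let N := max n m
  let ia := ea ≪≫ e₁
  let ib := eb ≪≫ e₃
  let h : (iter E N).obj b ⟶ ((iter E N).obj a)⟦(1 : ℤ)⟧ := ib.hom ≫ T.mor₃ ≫ ia.inv⟦(1 : ℤ)⟧'
  refine ⟨N + 1, .inr (.inr (.inr (.inl ⟨a, b, h⟩))), ?_⟩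
  obtain ⟨g, c, hC⟩ := (distinguished_cocone_triangle h).choose_spec
  obtain ⟨e, -⟩ := exists_iso_of_arrow_iso _ _ hC (rot_of_distTriang _ (rot_of_distTriang _ hT))
    (Arrow.isoMk ib ((shiftFunctor D (1 : ℤ)).mapIso ia) (by
      show ib.hom ≫ T.mor₃ = h ≫ ia.hom⟦(1 : ℤ)⟧'
      simp only [h, assoc, ← Functor.map_comp, ia.inv_hom_id, CategoryTheory.Functor.map_id, comp_id]))
  exact ⟨(shiftFunctor D (-1 : ℤ)).mapIso (Triangle.π₃.mapIso e) ≪≫
    (shiftFunctorCompIsoId D (1 : ℤ) (-1) (by omega)).app _⟩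

instance : (Built E).IsTriangulated := { }

variable [HasCoproducts.{v} D] [IsTriangulated D] [HasColimitsOfShape (Discrete ℕ) D]

/-- A small family containing every compact object up to isomorphism. -/
theorem exists_small (hD : CohDer.IsCompactlyGenerated D) :
    ∃ (κ : Type v) (G : κ → D), ∀ X, CohDer.IsCompactObject X → ∃ s, Nonempty (G s ≅ X) := by
  obtain ⟨ι', E', hc', hg'⟩ := hD
  let E : PUnit.{v + 1} ⊕ ι' → D := Sum.elim (fun _ => 0) E'
  have hc : ∀ i, CohDer.IsCompactObject (E i) := by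
    rintro (_ | i)
    exacts [isCompactObject_of_isZero (show IsZero (0 : D) from isZero_zero D), hc' i]
  have hg : CohDer.Generates E := fun K hK => hg' K fun i n f => hK (.inr i) n f
  refine ⟨Σ n, (iter E n).idx, fun p => (iter E p.1).obj p.2, fun X hX => ?_⟩
  suffices Built E X by
    obtain ⟨n, a, e⟩ := this
    exact ⟨⟨n, a⟩, e⟩
  obtain ⟨F, inc, hL, ⟨κ, a, ⟨e⟩⟩, ht⟩ := exists_cell_resolution (shiftClosure E)
    (countPerfect_shiftClosure (countPerfect_of_compact hc)) (shiftClosure_stable E)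
    (isZero_of_generates hg) X
  obtain ⟨n, g, hg₀⟩ := IsHocolim.exists_factor hL hX (𝟙 X)
  obtain ⟨s, -, E₁, g₁, h₁, hE₁, hgh⟩ := envFactors_of_cell E hc F.obj
    (fun n => F.map (homOfLE (Nat.le_succ n))) ⟨κ, fun k => (a k).1, fun k => (a k).2, ⟨e⟩⟩
    (fun n => by
      obtain ⟨κ', a', y, z, h⟩ := ht n
      exact ⟨κ', fun k => (a' k).1, fun k => (a' k).2, y, z, h⟩) n X hX g
  have hB : Built E E₁ := (ObjectProperty.triangEnvelope_le_iff (finSub E s) (Q := Built E)).2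
    (fun Y ⟨i, _, hi⟩ => ⟨0, i, ⟨eqToIso hi.symm⟩⟩) _ hE₁
  exact ObjectProperty.prop_of_retract _
    { i := g₁, r := h₁ ≫ inc n, retract := by rw [← assoc, hgh, hg₀] } hB

end Groth.Agent.H9Misc.CompactSmall
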