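import Groth.Agent.Zar5.UnibranchBase
import Groth.Agent.S1297
import Groth.Prelude.Def_ega3

/-! Geometrically connected fibres for universally open morphisms with radicially closed function field. -/

set_option linter.style.haveILetI false
set_option linter.unusedSectionVars false
set_option maxHeartbeats 800000
set_option backward.isDefEq.respectTransparency false
set_option backward.isDefEq.respectTransparency.types false

universe u

open CategoryTheory CategoryTheory.Limits AlgebraicGeometry TopologicalSpace Opposite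

namespace Groth.Agent.H9Misc.ConnFibres

variable {X P S : Scheme.{u}} [IsIntegral X] [IsIntegral P] [IsIntegral S] (g : X ⟶ P) (h : P ⟶ S)

theorem stalkToFunctionField_germ (hdom : (g ≫ h).base (genericPoint X) ⤳ genericPoint S) {U : S.Opens}
    (hη : genericPoint S ∈ U) (hξ : genericPoint X ∈ (g ≫ h) ⁻¹ᵁ U) (r : Γ(S, U)) :
    CohIII.stalkToFunctionField (g ≫ h) (genericPoint S) hdom (S.presheaf.germ U _ hη r) =
      X.presheaf.germ (g ⁻¹ᵁ (h ⁻¹ᵁ U)) _ hξ (g.app (h ⁻¹ᵁ U) (h.app U r)) := by
  show (g ≫ h).stalkMap (genericPoint X) (S.presheaf.stalkSpecializes hdom (S.presheaf.germ U _ hη r)) = _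
  rw [TopCat.Presheaf.germ_stalkSpecializes_apply, Scheme.Hom.germ_stalkMap_apply]
  rfl

/-- Radicial over the generic point when the function field extension is radicially closed. -/
theorem universallyInjective_generic [IsDominant g] [IsDominant h] [IsIntegralHom h]
    (hdom : (g ≫ h).base (genericPoint X) ⤳ genericPoint S)
    (hrad : ∀ x : X.functionField,
      (∃ q : Polynomial S.functionField, q ≠ 0 ∧
        Polynomial.eval₂ (CohIII.stalkToFunctionField (g ≫ h) (genericPoint S) hdom) x q = 0) →
      ∃ e : ℕ, x ^ (ringExpChar X.functionField ^ e) ∈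
        Set.range (CohIII.stalkToFunctionField (g ≫ h) (genericPoint S) hdom)) :
    UniversallyInjective (pullback.snd h (S.fromSpecResidueField (genericPoint S))) := by
  obtain ⟨_, ⟨U, hU, rfl⟩, hη, -⟩ :=
    S.isBasis_affineOpens.exists_subset_of_mem_open (Set.mem_univ (genericPoint S)) isOpen_univ
  have hU : IsAffineOpen U := hU
  haveI : Nonempty U := ⟨⟨_, hη⟩⟩
  have hV : IsAffineOpen (h ⁻¹ᵁ U) := hU.preimage h
  have hmem : ∀ {W : X.Opens}, (W : Set X).Nonempty → genericPoint X ∈ W := fun {W} hne =>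
    ((genericPoint_spec X).mem_open_set_iff W.2).2 (by simpa using hne)
  have hne : ((g ⁻¹ᵁ (h ⁻¹ᵁ U) : X.Opens) : Set X).Nonempty := by
    obtain ⟨w, hw⟩ := h.denseRange.exists_mem_open U.2 ⟨_, hη⟩
    obtain ⟨x, hx⟩ := g.denseRange.exists_mem_open (h ⁻¹ᵁ U).2 ⟨w, hw⟩
    exact ⟨x, hx⟩
  have hξ : genericPoint X ∈ g ⁻¹ᵁ (h ⁻¹ᵁ U) := hmem hne
  haveI : Nonempty ↥(g ⁻¹ᵁ (h ⁻¹ᵁ U)) := ⟨⟨_, hξ⟩⟩
  let q := ringExpChar X.functionField
  haveI : ExpChar X.functionField q := ringExpChar.expChar _
  let κ : Γ(P, h ⁻¹ᵁ U) →+* X.functionField :=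
    (X.presheaf.germ (g ⁻¹ᵁ (h ⁻¹ᵁ U)) (genericPoint X) hξ).hom.comp (g.app (h ⁻¹ᵁ U)).hom
  have hκ : Function.Injective κ :=
    (germ_injective_of_isIntegral X (genericPoint X) hξ).comp (PnCoh.Chow.app_injective_of_isDominant g _)
  let σ := CohIII.stalkToFunctionField (g ≫ h) (genericPoint S) hdom
  have hσ : ∀ r, σ (S.presheaf.germ U _ hη r) = κ (h.app U r) := stalkToFunctionField_germ g h hdom hη hξ
  haveI : ExpChar Γ(S, U) q :=
    RingHom.expChar (κ.comp (h.app U).hom) (hκ.comp (PnCoh.Chow.app_injective_of_isDominant h U)) q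
  have hpow : ∀ b : Γ(P, h ⁻¹ᵁ U), ∃ (e : ℕ) (a s : Γ(S, U)), s ≠ 0 ∧ h.app U s * b ^ q ^ e = h.app U a := by
    intro b
    obtain ⟨p, hp, hp0⟩ := IsIntegralHom.isIntegral_app h U hU b
    obtain ⟨e, k, hk⟩ := hrad (κ b) ⟨p.map (S.presheaf.germ U _ hη).hom, (hp.map _).ne_zero, by
      rw [Polynomial.eval₂_map, show σ.comp (S.presheaf.germ U _ hη).hom = κ.comp (h.app U).hom from
        RingHom.ext hσ, ← Polynomial.hom_eval₂, hp0, map_zero]⟩
    haveI := functionField_isFractionRing_of_isAffineOpen S U hU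
    obtain ⟨⟨a, s⟩, has⟩ := IsLocalization.surj (nonZeroDivisors Γ(S, U)) k
    refine ⟨e, a, s.1, nonZeroDivisors.ne_zero s.2, hκ ?_⟩
    have has' : k * S.presheaf.germ U _ hη s.1 = S.presheaf.germ U _ hη a := has
    have h2 := congrArg σ has'
    rw [map_mul, hσ, hσ, show σ k = κ b ^ q ^ e from hk] at h2
    rw [map_mul, map_pow, mul_comm]
    exact h2
  refine ((tfae_universallyInjective (pullback.snd h (S.fromSpecResidueField (genericPoint S)))).out 0 1).2 ?_
  intro E _ t t' htt
  have htt' : t ≫ pullback.snd _ _ = t' ≫ pullback.snd _ _ := htt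
  refine pullback.hom_ext ?_ htt'
  have hpt : ∀ (s : Spec (CommRingCat.of E) ⟶ pullback h (S.fromSpecResidueField (genericPoint S))) p,
      h ((s ≫ pullback.fst h (S.fromSpecResidueField (genericPoint S))) p) = genericPoint S := fun s p => by
    show ((s ≫ pullback.fst _ _) ≫ h) p = _
    rw [Category.assoc, pullback.condition, ← Category.assoc, Scheme.Hom.comp_apply]
    exact Scheme.fromSpecResidueField_apply _ _
  have hrange : ∀ s : Spec (CommRingCat.of E) ⟶ pullback h (S.fromSpecResidueField (genericPoint S)),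
      ∃ a, Spec.map a ≫ hV.fromSpec = s ≫ pullback.fst h (S.fromSpecResidueField (genericPoint S)) := fun s => by
    have hr : Set.range (s ≫ pullback.fst h (S.fromSpecResidueField (genericPoint S))) ⊆ Set.range hV.fromSpec := by
      rintro _ ⟨p, rfl⟩
      rw [hV.range_fromSpec]
      show h _ ∈ U
      rw [hpt s p]; exact hη
    obtain ⟨a, ha⟩ := Spec.map_surjective (IsOpenImmersion.lift hV.fromSpec _ hr)
    exact ⟨a, by rw [ha, IsOpenImmersion.lift_fac]⟩
  obtain ⟨a', ha'⟩ := hrange t
  obtain ⟨b', hb'⟩ := hrange t'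
  suffices hab : a' = b' by rw [← ha', ← hb', hab]
  have hcomp : ∀ c : Γ(P, h ⁻¹ᵁ U) ⟶ CommRingCat.of E,
      Spec.map c ≫ hV.fromSpec ≫ h = Spec.map (h.app U ≫ c) ≫ hU.fromSpec := fun c => by
    rw [Scheme.Hom.app_eq_appLE, Spec.map_comp, Category.assoc, hU.SpecMap_appLE_fromSpec h hV le_rfl]
  have hab0 : h.app U ≫ a' = h.app U ≫ b' := by
    refine Spec.map_injective ((cancel_mono hU.fromSpec).1 ?_)
    rw [← hcomp, ← hcomp, ← Category.assoc, ← Category.assoc, ha', hb']
    simp only [Category.assoc, pullback.condition, reassoc_of% htt']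
  have hker : ∀ r : Γ(S, U), r ≠ 0 → (h.app U ≫ a').hom r ≠ 0 := by
    intro r hr h0
    let p₀ : ↥(Spec (CommRingCat.of E)) := IsLocalRing.closedPoint E
    have h1 : (Spec.map a' ≫ hV.fromSpec) p₀ ∈ h ⁻¹ᵁ S.basicOpen r := by
      show h _ ∈ S.basicOpen r
      rw [ha', hpt t p₀]
      refine ((genericPoint_spec S).mem_open_set_iff (S.basicOpen r).2).2 ?_
      simp only [Set.top_eq_univ, Set.univ_inter]
      by_contra hc
      rw [Set.not_nonempty_iff_eq_empty] at hc
      exact hr ((basicOpen_eq_bot_iff r).1 (Opens.ext hc))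
    rw [Scheme.preimage_basicOpen] at h1
    have h2 : Spec.map a' p₀ ∈ hV.fromSpec ⁻¹ᵁ P.basicOpen (h.app U r) := h1
    rw [hV.fromSpec_preimage_basicOpen] at h2
    exact h2 (by
      show a'.hom (h.app U r) ∈ IsLocalRing.maximalIdeal E
      rw [show a'.hom (h.app U r) = 0 from h0]
      exact zero_mem _)
  haveI : ExpChar E q := by
    refine expChar_of_injective_ringHom (f := (h.app U ≫ a').hom) ((injective_iff_map_eq_zero _).2 fun r hr => ?_) q
    by_contra hne
    exact hker r hne hr
  ext b
  obtain ⟨e, a, s, hs, heq⟩ := hpow b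
  have h1 := congrArg a'.hom heq
  have h2 := congrArg b'.hom heq
  rw [map_mul, map_pow] at h1 h2
  have e1 : ∀ r, a'.hom (h.app U r) = b'.hom (h.app U r) := fun r => congr($hab0 r)
  rw [← e1, ← e1, ← h1] at h2
  exact (iterateFrobenius_inj E q e (mul_left_cancel₀ (hker s hs) h2)).symm

/-- The Stein factor is radicial when the morphism is universally open. -/
theorem universallyInjective_of_open [IsSeparated h] [Surjective g]
    [hgen : UniversallyInjective (pullback.snd h (S.fromSpecResidueField (genericPoint S)))]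
    (hgη : h (genericPoint P) = genericPoint S)
    (hopen : ∀ Z ∈ irreducibleComponents ↥(pullback (g ≫ h) h), Dense ((pullback.snd (g ≫ h) h).base '' Z)) :
    UniversallyInjective h := by
  let i := S.fromSpecResidueField (genericPoint S)
  let p₁ := pullback.fst (g ≫ h) h
  let p₂ := pullback.snd (g ≫ h) h
  let γ : X ⟶ pullback (g ≫ h) h := pullback.lift (𝟙 X) g (Category.id_comp _)
  have hγ1 : γ ≫ p₁ = 𝟙 X := pullback.lift_fst _ _ _
  have hγ2 : γ ≫ p₂ = g := pullback.lift_snd _ _ _
  haveI : IsSeparated p₁ := MorphismProperty.pullback_fst (P := @IsSeparated) _ _ inferInstance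
  haveI : IsClosedImmersion (γ ≫ p₁) := by rw [hγ1]; infer_instance
  haveI : IsClosedImmersion γ := IsClosedImmersion.of_comp γ p₁
  have hfib : ∀ x : X, (g ≫ h) x = genericPoint S → ∀ z z' : ↥(pullback (g ≫ h) h), p₁ z = x → p₁ z' = x → z = z' := by
    intro x hx z z' hz hz'
    let x' := X.fromSpecResidueField x
    obtain ⟨φ, hφ⟩ := Zar5.exists_eq_Spec (K := X.residueField x) (x' ≫ g ≫ h) (x := genericPoint S) (by
      rw [Scheme.Hom.comp_apply]
      exact (congrArg _ (Scheme.fromSpecResidueField_apply x _)).trans hx)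
    have s1 : IsPullback (pullback.fst p₁ x' ≫ p₂) (pullback.snd p₁ x') h (Spec.map φ ≫ i) := by
      rw [hφ]
      exact (IsPullback.of_hasPullback p₁ x').paste_horiz (IsPullback.of_hasPullback (g ≫ h) h).flip
    let l := pullback.lift (f := h) (g := i) (pullback.fst p₁ x' ≫ p₂) (pullback.snd p₁ x' ≫ Spec.map φ)
      (by rw [Category.assoc _ (Spec.map φ)]; exact s1.w)
    have s2 : IsPullback l (pullback.snd p₁ x') (pullback.snd h i) (Spec.map φ) :=
      IsPullback.of_right (h₁₂ := pullback.fst h i) (v₁₃ := h) (h₂₂ := i) (by rw [pullback.lift_fst]; exact s1)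
        (pullback.lift_snd _ _ _) (IsPullback.of_hasPullback h i)
    haveI : UniversallyInjective (pullback.snd p₁ x') :=
      MorphismProperty.of_isPullback (P := @UniversallyInjective) s2 hgen
    haveI : Subsingleton ↥(pullback p₁ x') := (pullback.snd p₁ x').injective.subsingleton
    have hmem : ∀ w, p₁ w = x → ∃ v, pullback.fst p₁ x' v = w := fun w hw => by
      obtain ⟨v, hv, -⟩ := Scheme.Pullback.exists_preimage_pullback (f := p₁) (g := x') w
        (IsLocalRing.closedPoint (X.residueField x)) (hw.trans (Scheme.fromSpecResidueField_apply x _).symm)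
      exact ⟨v, hv⟩
    obtain ⟨v, rfl⟩ := hmem z hz
    obtain ⟨v', rfl⟩ := hmem z' hz'
    rw [Subsingleton.elim v v']
  have hall : ∀ z : ↥(pullback (g ≫ h) h), ∃ x, γ x = z := by
    intro z
    have hZ := irreducibleComponent_mem_irreducibleComponents z
    obtain ⟨ξ, hξ⟩ := QuasiSober.sober (isIrreducible_irreducibleComponent (x := z)) isClosed_irreducibleComponent
    have hd := hopen _ hZ
    have hp : p₂ ξ = genericPoint P := by
      refine (IsGenericPoint.eq ?_ (genericPoint_spec P))
      refine Set.eq_univ_of_univ_subset ?_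
      rw [← hd.closure_eq]
      refine closure_minimal ?_ isClosed_closure
      rw [← hξ.def]
      refine (image_closure_subset_closure_image p₂.continuous).trans ?_
      rw [Set.image_singleton]
    have hη : (g ≫ h) (p₁ ξ) = genericPoint S := by
      rw [← Scheme.Hom.comp_apply, pullback.condition, Scheme.Hom.comp_apply, hp, hgη]
    have hξγ : γ (p₁ ξ) = ξ := hfib _ hη _ _ (by rw [← Scheme.Hom.comp_apply, hγ1]; rfl) rfl
    have hz : z ∈ closure {ξ} := by rw [hξ.def]; exact mem_irreducibleComponent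
    obtain ⟨x, hx⟩ := closure_minimal (show ({ξ} : Set _) ⊆ Set.range γ from Set.singleton_subset_iff.2 ⟨p₁ ξ, hξγ⟩)
      γ.isClosedEmbedding.isClosed_range hz
    exact ⟨x, hx⟩
  let m : pullback (g ≫ h) h ⟶ pullback h h :=
    pullback.lift (p₁ ≫ g) p₂ (by rw [Category.assoc]; exact pullback.condition)
  have sq : IsPullback p₁ m g (pullback.fst h h) := by
    refine IsPullback.of_bot ?_ (pullback.lift_fst _ _ _).symm (IsPullback.of_hasPullback h h)
    rw [pullback.lift_snd]
    exact IsPullback.of_hasPullback (g ≫ h) h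
  haveI : Surjective m := MorphismProperty.of_isPullback sq inferInstance
  rw [UniversallyInjective.iff_diagonal]
  refine ⟨fun w => ?_⟩
  obtain ⟨z, rfl⟩ := m.surjective w
  obtain ⟨x, rfl⟩ := hall z
  refine ⟨g x, ?_⟩
  rw [← Scheme.Hom.comp_apply, ← Scheme.Hom.comp_apply]
  have : g ≫ pullback.diagonal h = γ ≫ m := by
    refine pullback.hom_ext ?_ ?_
    · rw [Category.assoc, Category.assoc, pullback.diagonal_fst, pullback.lift_fst, reassoc_of% hγ1,
        Category.comp_id]
    · rw [Category.assoc, Category.assoc, pullback.diagonal_snd, pullback.lift_snd, hγ2, Category.comp_id]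
  rw [this]

/-- Connected fibres for a factorization. -/
theorem geometricallyConnected_of_factor {X P S : Scheme.{u}} (f : X ⟶ S) (g : X ⟶ P) (h : P ⟶ S) (hgh : g ≫ h = f)
    [GeometricallyConnected g] [IsProper g] [Surjective g] [UniversallyInjective h] [Surjective h] :
    GeometricallyConnected f := by
  refine ⟨fun K _ y Z fst snd hp => ?_⟩
  let m : Z ⟶ pullback h y := pullback.lift (fst ≫ g) snd (by rw [Category.assoc, hgh]; exact hp.w)
  have sq : IsPullback fst m g (pullback.fst h y) := by
    refine IsPullback.of_bot ?_ (pullback.lift_fst _ _ _).symm (IsPullback.of_hasPullback h y)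
    rw [pullback.lift_snd, hgh]
    exact hp
  haveI : GeometricallyConnected m := MorphismProperty.of_isPullback sq inferInstance
  haveI : UniversallyInjective (pullback.snd h y) := MorphismProperty.pullback_snd (P := @UniversallyInjective) _ _ inferInstance
  haveI : Surjective (pullback.snd h y) := MorphismProperty.pullback_snd (P := @Surjective) _ _ inferInstance
  haveI : Subsingleton ↥(pullback h y) := (pullback.snd h y).injective.subsingleton
  obtain ⟨p, -⟩ := (pullback.snd h y).surjective (IsLocalRing.closedPoint K)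
  have hc := Scheme.Hom.isConnected_preimage_singleton m p
  have huniv : m ⁻¹' {p} = Set.univ := Set.eq_univ_of_forall fun x => Subsingleton.elim _ _
  rw [huniv] at hc
  exact connectedSpace_iff_univ.2 hc

end Groth.Agent.H9Misc.ConnFibres
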