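import Groth.Agent.H9Misc.ExtZeroModConstr
import Groth.Agent.EtFound.ConstStalk
import Groth.Agent.EtFound.JContGen
import Groth.Prelude.Def_EtModD2

/-!
# Constructible sheaves of modules are quotients of extensions by zero of constant sheaves
-/

set_option autoImplicit false

universe u

open CategoryTheory CategoryTheory.Limits AlgebraicGeometry Opposite Topology

namespace Groth.Agent.H9Misc.ConstrCover

open Groth.Agent.EtFound (ptOf ptOf_map hom_ptOf exists_geomPoint exists_lift_point toSheafify_const_germ_bijective)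
open Groth.Agent.EtModWLib (IsPiece exists_pieces isConstructible_iff_adaptedStrata nonempty_stalk_iso pullPushAdj)
open Groth.Agent.FTConst (Chart exists_chart exists_forall_rep stalk_germ stalk_surjective)

set_option backward.isDefEq.respectTransparency.types false

variable {Λ : Type (u + 1)} [CommRing Λ] {X : Scheme.{u}}

/-- The whole scheme, as an etale scheme over itself. -/
noncomputable abbrev topE (U : Scheme.{u}) : U.Etale := Scheme.Etale.mk (𝟙 U)

/-- The unit section of the constant sheaf. -/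
noncomputable def one (U : Scheme.{u}) : (EtSix.constΛ Λ U).obj.obj (op (topE U)) :=
  (toSheafify U.smallEtaleTopology ((Functor.const U.Etaleᵒᵖ).obj (ModuleCat.of Λ Λ))).app (op (topE U)) (1 : Λ)

/-- The constant sheaf of the ring is constructible. -/
theorem isConstructible_constΛ (U : Scheme.{u}) : EtModW.IsConstructible Λ (EtSix.constΛ Λ U) := by
  have h : EtModW.IsFTLocConst Λ (EtSix.constΛ Λ U) := by
    refine FTConst.isFTLocConst_of_charts _ fun x => ⟨topE U, x, rfl, ⟨{
      M := ModuleCat.of Λ Λ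
      φ := (toSheafify U.smallEtaleTopology ((Functor.const U.Etaleᵒᵖ).obj (ModuleCat.of Λ Λ))).app (op (topE U))
      const := fun Ω _ _ ξ z => ?_ }⟩⟩
    exact toSheafify_const_germ_bijective ξ (ModuleCat.{u + 1} Λ) (ModuleCat.of Λ Λ) (topE U) z
  intro V hV
  refine EtModWLib.adaptedStrata_of_cover V.2.isLocallyClosed (fun _ : Fin 1 => (V : Set U))
    (fun _ => ⟨V.toScheme, V.ι, inferInstance, V.range_ι, EtModWLib.isFTLocConst_pull V.ι h⟩) (fun _ => ?_)
    (fun x hx => Set.mem_iUnion.2 ⟨0, hx⟩)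
  rw [Subtype.coe_preimage_self]
  exact IsConstructible.univ

section Hom

variable {U : Scheme.{u}} (j : U ⟶ X) [Etale j] [EtShriek.JCont j]

/-- A section over `U` gives a map out of the extension by zero of the constant sheaf. -/
theorem exists_extZero_hom (F : EtModW.Mod Λ X)
    (s : F.obj.obj (op ((EtShriek.compEtale j).obj (topE U)))) :
    ∃ ψ : (EtSix.extZeroMod Λ j).obj (EtSix.constΛ Λ U) ⟶ F,
      ψ.hom.app (op ((EtShriek.compEtale j).obj (topE U)))
        (((EtSix.extZeroModAdj Λ j).unit.app (EtSix.constΛ Λ U)).hom.app (op (topE U)) (one U)) = s := by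
  let R := (EtSix.restrMod Λ j).obj F
  let t : ∀ V : U.Etale, V ⟶ topE U := fun V => MorphismProperty.Over.homMk V.hom (Category.comp_id _)
  have ht : ∀ {V : U.Etale} (a : V ⟶ topE U), a = t V := fun a =>
    MorphismProperty.Over.Hom.ext ((Category.comp_id a.left).symm.trans (MorphismProperty.Over.w a))
  let m : ModuleCat.of Λ Λ ⟶ R.obj.obj (op (topE U)) := ModuleCat.ofHom (LinearMap.toSpanSingleton Λ _ s)
  let p : (Functor.const U.Etaleᵒᵖ).obj (ModuleCat.of Λ Λ) ⟶ R.obj :=
    { app := fun V => m ≫ R.obj.map (t V.unop).op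
      naturality := fun V W f => by
        rw [Category.assoc, ← Functor.map_comp]
        refine (Category.id_comp _).trans (congrArg (fun g => m ≫ R.obj.map g) ?_)
        exact Quiver.Hom.unop_inj (ht (f.unop ≫ t V.unop)).symm }
  let q : EtSix.constΛ Λ U ⟶ R := ⟨sheafifyLift U.smallEtaleTopology p R.property⟩
  refine ⟨((EtSix.extZeroModAdj Λ j).homEquiv _ _).symm q, ?_⟩
  have h1 : (EtSix.extZeroModAdj Λ j).unit.app (EtSix.constΛ Λ U) ≫
      (EtSix.restrMod Λ j).map (((EtSix.extZeroModAdj Λ j).homEquiv _ _).symm q) = q :=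
    ((EtSix.extZeroModAdj Λ j).homEquiv_unit _ _ _).symm.trans (Equiv.apply_symm_apply _ q)
  have h2 := congrArg (fun a : EtSix.constΛ Λ U ⟶ R => a.hom.app (op (topE U)) (one U)) h1
  refine h2.trans ?_
  show (sheafifyLift U.smallEtaleTopology p R.property).app (op (topE U))
    ((toSheafify U.smallEtaleTopology ((Functor.const U.Etaleᵒᵖ).obj (ModuleCat.of Λ Λ))).app (op (topE U)) (1 : Λ)) = s
  rw [← ConcreteCategory.comp_apply, ← NatTrans.comp_app, toSheafify_sheafifyLift]
  show R.obj.map (t (topE U)).op (LinearMap.toSpanSingleton Λ _ s (1 : Λ)) = s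
  rw [← ht (𝟙 (topE U)), op_id, CategoryTheory.Functor.map_id, LinearMap.toSpanSingleton_apply, one_smul]
  rfl

end Hom

/-- Finite sums of constructible sheaves are constructible. -/
theorem isConstructible_sigma [IsNoetherianRing Λ] :
    ∀ (m : ℕ) (F : Fin m → EtModW.Mod Λ X), (∀ k, EtModW.IsConstructible Λ (F k)) →
      EtModW.IsConstructible Λ (∐ F) := by
  intro m
  induction m with
  | zero =>
    intro F _
    have hz : IsZero (∐ F) := by
      rw [IsZero.iff_id_eq_zero]
      exact Sigma.hom_ext _ _ fun k => k.elim0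
    have hz' : IsZero (cokernel (𝟙 (EtSix.constΛ Λ X))) := isZero_cokernel_of_epi _
    exact EtModWLib.isConstructible_of_iso (hz'.iso hz)
      (EtModWLib.isConstructible_cokernel (isConstructible_constΛ X) (isConstructible_constΛ X) _)
  | succ m ih =>
    intro F hF
    let F' : Fin m → EtModW.Mod Λ X := fun k => F k.succ
    let i : ∐ F' ⟶ ∐ F := Sigma.desc fun k => Sigma.ι F k.succ
    let p : ∐ F ⟶ F 0 := Sigma.desc (Fin.cases (𝟙 (F 0)) (fun _ => 0))
    let r : ∐ F ⟶ ∐ F' := Sigma.desc (Fin.cases (motive := fun k => F k ⟶ ∐ F') 0 (fun k => Sigma.ι F' k))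
    have w : i ≫ p = 0 := Sigma.hom_ext _ _ fun k => by simp [i, p]
    let σ : (ShortComplex.mk i p w).Splitting :=
      { r := r
        s := Sigma.ι F 0
        f_r := Sigma.hom_ext _ _ fun k => by simp [i, r, F']
        s_g := by simp [p]
        id := Sigma.hom_ext _ _ fun k => by
          cases k using Fin.cases with
          | zero => simp [i, p, r]
          | succ k => simp [i, p, r, F'] }
    exact EtModWLib.isConstructible_of_extension σ.shortExact (ih F' fun k => hF _) (hF 0)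

/-- A constructible sheaf with a vanishing stalk vanishes along a constructible set through the point. -/
theorem exists_constructible_vanish [CompactSpace X] [QuasiSeparatedSpace X] {Q : EtModW.Mod Λ X}
    (hQ : EtModW.IsConstructible Λ Q) {Ω : Type u} [Field Ω] [IsSepClosed Ω] (ξ : Spec (CommRingCat.of Ω) ⟶ X)
    (h : Subsingleton ((EtModW.stalk Λ ξ).obj Q)) :
    ∃ G : Set X, ξ.base (default : Spec (CommRingCat.of Ω)) ∈ G ∧ IsConstructible G ∧
      ∀ (k : Type u) [Field k] [IsSepClosed k] (η : Spec (CommRingCat.of k) ⟶ X),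
        η.base (default : Spec (CommRingCat.of k)) ∈ G → Subsingleton ((EtModW.stalk Λ η).obj Q) := by
  obtain ⟨n, E, hE, hEc, hu⟩ := exists_pieces ((isConstructible_iff_adaptedStrata X Q).1 hQ)
  obtain ⟨i, hi⟩ := Set.mem_iUnion.1 (hu.ge (Set.mem_univ (ξ.base (default : Spec (CommRingCat.of Ω)))))
  obtain ⟨T, g, hg, hr, hT⟩ := hE i
  obtain ⟨t, ht⟩ := hr.ge hi
  obtain ⟨Vt, p, hp, ⟨c⟩⟩ := exists_chart hT t
  -- the chart is zero
  have hc : ∀ {k : Type u} [Field k] [IsAlgClosed k] {ζ : Spec (CommRingCat.of k) ⟶ T}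
      (z : (Scheme.pointSmallEtale ζ).fiber.obj Vt),
      Nonempty (c.M ≃ₗ[Λ] (EtModW.stalk Λ (ζ ≫ g)).obj Q) := fun {k} _ _ {ζ} z =>
    ⟨(LinearEquiv.ofBijective (c.φ ≫ (Scheme.pointSmallEtale ζ).toPresheafFiber Vt z _).hom (c.const k ζ z)).trans
      ((EtFound.sheafFiberPullIso (A := ModuleCat.{u + 1} Λ) g ζ).app Q).toLinearEquiv⟩
  obtain ⟨k₀, _, _, ζ, z, hz⟩ := EtFound.exists_algClosed_point Vt p
  have hζ : (ζ ≫ g).base (default : Spec (CommRingCat.of k₀)) = ξ.base (default : Spec (CommRingCat.of Ω)) :=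
    (Scheme.Hom.comp_apply _ _ _).trans ((congrArg g.base ((EtFound.base_of_point z).symm.trans
      ((congrArg _ hz).trans hp))).trans ht)
  obtain ⟨e₀⟩ := hc z
  obtain ⟨e₁⟩ := nonempty_stalk_iso Q (ζ ≫ g) ξ hζ
  haveI : Subsingleton c.M := (e₀.trans e₁.toLinearEquiv).toEquiv.subsingleton
  haveI : Etale Vt.hom := Vt.prop
  obtain ⟨O', hO', hO'eq⟩ := g.isEmbedding.isInducing.isOpen_iff.1 Vt.hom.isOpenMap.isOpen_range
  have hξO : ξ.base (default : Spec (CommRingCat.of Ω)) ∈ O' := by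
    rw [← ht]
    show t ∈ g.base ⁻¹' O'
    rw [hO'eq]
    exact ⟨p, hp⟩
  obtain ⟨O, hO, hOc, hξO', hOO'⟩ := SpecLib.exists_qc (O := O') hξO hO'
  refine ⟨E i ∩ O, ⟨hi, hξO'⟩, ?_, fun k _ _ η hη => ?_⟩
  · refine IsConstructible.inter ?_ ((IsCompact.isRetrocompact hOc hO).isConstructible hO)
    have h1 := (hEc i).image_of_isOpenEmbedding (f := (Subtype.val : ↥(Set.univ : Set X) → X))
      isOpen_univ.isOpenEmbedding_subtypeVal (by rw [Subtype.range_coe]; exact IsRetrocompact.univ)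
    rwa [Set.image_preimage_eq_of_subset (by rw [Subtype.range_coe]; exact Set.subset_univ _)] at h1
  · obtain ⟨t', ht'⟩ := hr.ge hη.1
    have : t' ∈ g.base ⁻¹' O' := show g.base t' ∈ O' from ht'.symm ▸ hOO' hη.2
    rw [hO'eq] at this
    obtain ⟨q, hq⟩ := this
    obtain ⟨k', _, _, ζ', z', hz'⟩ := EtFound.exists_algClosed_point Vt q
    have hζ' : (ζ' ≫ g).base (default : Spec (CommRingCat.of k')) = η.base (default : Spec (CommRingCat.of k)) :=
      (Scheme.Hom.comp_apply _ _ _).trans ((congrArg g.base ((EtFound.base_of_point z').symm.trans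
        ((congrArg _ hz').trans hq))).trans ht')
    obtain ⟨e₀'⟩ := hc z'
    obtain ⟨e₁'⟩ := nonempty_stalk_iso Q (ζ' ≫ g) η hζ'
    exact (e₀'.trans e₁'.toLinearEquiv).symm.toEquiv.subsingleton

/-- A map of sheaves of modules surjective on all stalks is an epimorphism. -/
theorem epi_of_stalks {F G : EtModW.Mod Λ X} (a : F ⟶ G)
    (h : ∀ (Ω : Type u) [Field Ω] [IsSepClosed Ω] (ξ : Spec (CommRingCat.of Ω) ⟶ X),
      Function.Surjective ((EtModW.stalk Λ ξ).map a)) : Epi a := by
  have : Sheaf.IsLocallySurjective a := EtFound.isLocallySurjective_of_stalks a.hom fun Ω _ _ ξ => h Ω ξ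
  exact (Sheaf.isLocallySurjective_iff_epi' _ a).1 this

/-- The extension by zero of the constant sheaf of an etale scheme. -/
noncomputable abbrev freeOn (U : Scheme.{u}) (j : U ⟶ X) [Etale j] [EtShriek.JCont j] : EtModW.Mod Λ X :=
  (EtSix.extZeroMod Λ j).obj (EtSix.constΛ Λ U)

/-- Near a point, finitely many sections generate a constructible quotient. -/
theorem exists_local_gen [IsNoetherianRing Λ] {A A' : EtModW.Mod Λ X} (u : A ⟶ A') [Epi u]
    (hA' : EtModW.IsConstructible Λ A') {Ω : Type u} [Field Ω] [IsSepClosed Ω] (ξ : Spec (CommRingCat.of Ω) ⟶ X) :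
    ∃ (U : Scheme.{u}) (j : U ⟶ X) (_ : Etale j) (_ : EtShriek.JCont j) (_ : IsAffine U) (m : ℕ)
      (ψ : (∐ fun _ : Fin m => freeOn (Λ := Λ) U j) ⟶ A),
      Function.Surjective ((EtModW.stalk Λ ξ).map (ψ ≫ u)) := by
  classical
  haveI := EtModWLib.finite_stalk_of_isConstructible hA' ξ
  obtain ⟨m, gen, hgen⟩ := Module.Finite.exists_fin (R := Λ) (M := (EtModW.stalk Λ ξ).obj A')
  choose p hp using fun k => stalk_surjective ξ u (gen k)
  let u₀ : (Scheme.pointSmallEtale ξ).fiber.obj (topE X) := CategoryTheory.Over.homMk ξ (Category.comp_id _)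
  obtain ⟨W, -, w, s, -, hs⟩ := exists_forall_rep A u₀ p
  obtain ⟨O, hO, hwO, -⟩ := exists_isAffineOpen_mem_and_subset (U := (⊤ : W.left.Opens)) (x := ptOf w) trivial
  haveI : Etale W.hom := W.prop
  let j : O.toScheme ⟶ X := O.ι ≫ W.hom
  haveI : EtShriek.JCont j := EtFound.jCont j
  haveI : IsAffine O.toScheme := hO
  let W' : X.Etale := (EtShriek.compEtale j).obj (topE O.toScheme)
  let ρ : W' ⟶ W := MorphismProperty.Over.homMk O.ι ((Category.id_comp _).symm : O.ι ≫ W.hom = 𝟙 O.toScheme ≫ j)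
  obtain ⟨w', hw', -⟩ := exists_lift_point ρ w (⟨ptOf w, hwO⟩ : O.toScheme) rfl
  choose h hh using fun k => exists_extZero_hom j A (A.obj.map ρ.op (s k))
  refine ⟨O.toScheme, j, inferInstance, inferInstance, hO, m, Sigma.desc h, ?_⟩
  have key : ∀ k, gen k ∈ LinearMap.range ((EtModW.stalk Λ ξ).map (Sigma.desc h ≫ u)).hom := fun k => by
    let x := (((EtSix.extZeroModAdj Λ j).unit.app (EtSix.constΛ Λ O.toScheme)).hom.app (op (topE O.toScheme))
      (one O.toScheme))
    refine ⟨(EtModW.stalk Λ ξ).map (Sigma.ι (fun _ : Fin m => freeOn (Λ := Λ) O.toScheme j) k)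
      ((Scheme.pointSmallEtale ξ).toPresheafFiber W' w' (freeOn (Λ := Λ) O.toScheme j).obj x), ?_⟩
    show (EtModW.stalk Λ ξ).map (Sigma.desc h ≫ u) ((EtModW.stalk Λ ξ).map _ _) = gen k
    rw [← ConcreteCategory.comp_apply, ← Functor.map_comp, Sigma.ι_desc_assoc, Functor.map_comp,
      ConcreteCategory.comp_apply, stalk_germ]
    refine (congrArg (fun y => (EtModW.stalk Λ ξ).map u ((Scheme.pointSmallEtale ξ).toPresheafFiber W' w' A.obj y))
      (hh k)).trans ?_
    rw [(Scheme.pointSmallEtale ξ).toPresheafFiber_w_apply, hw', hs, hp]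
  intro y
  have hy : y ∈ LinearMap.range ((EtModW.stalk Λ ξ).map (Sigma.desc h ≫ u)).hom :=
    (Submodule.span_le.2 (by rintro _ ⟨k, rfl⟩; exact key k)) (hgen.ge (Submodule.mem_top (x := y)))
  exact hy

/-- A constructible quotient is covered by finitely many extensions by zero of constant sheaves of affines. -/
theorem exists_cover [IsNoetherianRing Λ] [CompactSpace X] [QuasiSeparatedSpace X] {A A' : EtModW.Mod Λ X}
    (u : A ⟶ A') [Epi u] (hA' : EtModW.IsConstructible Λ A') :
    ∃ (m : ℕ) (U : Fin m → Scheme.{u}) (j : ∀ k, U k ⟶ X) (_ : ∀ k, Etale (j k)) (_ : ∀ k, IsAffine (U k))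
      (_ : ∀ k, EtShriek.JCont (j k)) (ψ : (∐ fun k => freeOn (Λ := Λ) (U k) (j k)) ⟶ A), Epi (ψ ≫ u) := by
  classical
  choose Ω hΩ hΩ' ξ hξ using fun x : X => exists_geomPoint x
  choose U j he hjc ha m ψ hψ using fun x : X =>
    @exists_local_gen Λ _ X _ A A' u _ hA' (Ω x) (hΩ x) (inferInstance) (ξ x)
  have hQ : ∀ x, EtModW.IsConstructible Λ (cokernel (ψ x ≫ u)) := fun x => by
    haveI : QuasiSeparated (j x) := QuasiSeparated.of_comp (j x) (terminal.from X)
    refine EtModWLib.isConstructible_cokernel (isConstructible_sigma _ _ fun _ => ?_) hA' _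
    haveI : QuasiCompact (j x) := QuasiCompact.of_comp (j x) (terminal.from X)
    exact ExtZeroModConstr.isConstructible_extZero (j x) (isConstructible_constΛ _)
  have hv : ∀ x, ∃ G : Set X, x ∈ G ∧ IsConstructible G ∧ ∀ (k : Type u) [Field k] [IsSepClosed k]
      (η : Spec (CommRingCat.of k) ⟶ X), η.base (default : Spec (CommRingCat.of k)) ∈ G →
        Subsingleton ((EtModW.stalk Λ η).obj (cokernel (ψ x ≫ u))) := fun x => by
    obtain ⟨G, hG, hGc, hGs⟩ := exists_constructible_vanish (hQ x) (ξ x) (by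
      refine ⟨fun a b => ?_⟩
      have hz : ∀ c : (EtModW.stalk Λ (ξ x)).obj (cokernel (ψ x ≫ u)), c = 0 := fun c => by
        obtain ⟨a', rfl⟩ := stalk_surjective (ξ x) (cokernel.π (ψ x ≫ u)) c
        obtain ⟨q, rfl⟩ := hψ x a'
        rw [← ConcreteCategory.comp_apply, ← Functor.map_comp, cokernel.condition, Functor.map_zero]
        rfl
      rw [hz a, hz b])
    exact ⟨G, hξ x ▸ hG, hGc, hGs⟩
  choose G hxG hGc hG using hv
  obtain ⟨t, ht⟩ := EtFound.exists_finite_cover G hGc fun x => ⟨x, hxG x⟩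
  let I := Σ x : t, Fin (m x.1)
  let M := Fintype.card I
  let e : Fin M ≃ I := (Fintype.equivFin I).symm
  let Φ : I → EtModW.Mod Λ X := fun a => freeOn (Λ := Λ) (U a.1.1) (j a.1.1)
  let Ψ : (∐ fun k : Fin M => Φ (e k)) ⟶ A :=
    Sigma.desc fun k => Sigma.ι (fun _ : Fin (m (e k).1.1) => Φ (e k)) (e k).2 ≫ ψ (e k).1.1
  refine ⟨M, fun k => U (e k).1.1, fun k => j (e k).1.1, fun k => he _, fun k => ha _, fun k => hjc _, Ψ,
    epi_of_stalks _ fun k _ _ η => ?_⟩
  obtain ⟨x, hx, hxη⟩ := ht (η.base (default : Spec (CommRingCat.of k)))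
  let incl : (∐ fun _ : Fin (m x) => freeOn (Λ := Λ) (U x) (j x)) ⟶ ∐ fun k : Fin M => Φ (e k) :=
    Sigma.desc fun l => eqToHom (congrArg Φ (e.apply_symm_apply ⟨⟨x, hx⟩, l⟩).symm) ≫
      Sigma.ι (fun k : Fin M => Φ (e k)) (e.symm ⟨⟨x, hx⟩, l⟩)
  have hincl : incl ≫ Ψ = ψ x := by
    refine Sigma.hom_ext _ _ fun l => ?_
    simp only [incl, Ψ, Sigma.ι_desc_assoc, Category.assoc, Sigma.ι_desc]
    have key : ∀ (a b : I) (h : a = b), eqToHom (congrArg Φ h) ≫
        Sigma.ι (fun _ : Fin (m b.1.1) => Φ b) b.2 ≫ ψ b.1.1 =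
        Sigma.ι (fun _ : Fin (m a.1.1) => Φ a) a.2 ≫ ψ a.1.1 := fun a b h => by subst h; simp
    exact key _ _ (e.apply_symm_apply ⟨⟨x, hx⟩, l⟩).symm
  intro y
  have hz : (EtModW.stalk Λ η).map (cokernel.π (ψ x ≫ u)) y = 0 := by
    haveI := hG x k η hxη
    exact Subsingleton.elim _ _
  obtain ⟨q, hq⟩ := FTConst.stalk_exact η (ShortComplex.exact_cokernel (ψ x ≫ u)) y hz
  refine ⟨(EtModW.stalk Λ η).map incl q, ?_⟩
  rw [← ConcreteCategory.comp_apply, ← Functor.map_comp, ← Category.assoc, hincl]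
  exact hq

end Groth.Agent.H9Misc.ConstrCover
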