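import Groth.Agent.H9Misc.ConstrCover
import Groth.Agent.H9Misc.ClassResolve

/-!
# Resolutions of complexes with constructible cohomology
-/

set_option autoImplicit false

universe u

open CategoryTheory CategoryTheory.Limits AlgebraicGeometry Opposite

namespace Groth.Agent.H9Misc.ConstrResolve

open ConstrCover (freeOn)

set_option backward.isDefEq.respectTransparency.types false

attribute [local instance] HasDerivedCategory.standard

variable {Λ : Type (u + 1)} [CommRing Λ] {X : Scheme.{u}}

/-- Finite sums of extensions by zero of constant sheaves of etale affines. -/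
def IsSum (F : EtModW.Mod Λ X) : Prop :=
  ∃ (m : ℕ) (U : Fin m → Scheme.{u}) (j : ∀ k, U k ⟶ X) (_ : ∀ k, Etale (j k)) (_ : ∀ k, IsAffine (U k)),
    ∀ [∀ k, EtShriek.JCont (j k)],
      Nonempty (F ≅ ∐ fun k => (EtSix.extZeroMod Λ (j k)).obj (EtSix.constΛ Λ (U k)))

theorem isConstructible_of_isSum [IsNoetherianRing Λ] [CompactSpace X] [QuasiSeparatedSpace X] {F : EtModW.Mod Λ X}
    (h : IsSum F) : EtModW.IsConstructible Λ F := by
  obtain ⟨m, U, j, he, ha, hF⟩ := h
  haveI : ∀ k, EtShriek.JCont (j k) := fun k => EtFound.jCont (j k)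
  obtain ⟨e⟩ := hF
  refine EtModWLib.isConstructible_of_iso e.symm (ConstrCover.isConstructible_sigma _ _ fun k => ?_)
  haveI : QuasiCompact (j k) := QuasiCompact.of_comp (j k) (terminal.from X)
  haveI : QuasiSeparated (j k) := QuasiSeparated.of_comp (j k) (terminal.from X)
  exact ExtZeroModConstr.isConstructible_extZero (j k) (ConstrCover.isConstructible_constΛ _)

theorem isSum_of_isZero {Z : EtModW.Mod Λ X} (hZ : IsZero Z) : IsSum Z := by
  refine ⟨0, fun k => k.elim0, fun k => k.elim0, fun k => k.elim0, fun k => k.elim0, fun {_} => ⟨hZ.iso ?_⟩⟩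
  rw [IsZero.iff_id_eq_zero]
  exact Sigma.hom_ext _ _ fun k => k.elim0

theorem isSum_of_iso {F G : EtModW.Mod Λ X} (e : F ≅ G) (h : IsSum F) : IsSum G := by
  obtain ⟨m, U, j, he, ha, hF⟩ := h
  exact ⟨m, U, j, he, ha, fun {_} => hF.map fun e' => e.symm ≪≫ e'⟩

/-- The covering property. -/
theorem cover [IsNoetherianRing Λ] [CompactSpace X] [QuasiSeparatedSpace X] :
    ClassResolve.Cover (IsSum (Λ := Λ) (X := X)) (EtModW.IsConstructible Λ) where
  zero _ := isSum_of_isZero
  iso e := isSum_of_iso e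
  le _ := isConstructible_of_isSum
  kernel f hX hY := EtModWLib.isConstructible_kernel hX hY f
  cokernel f hX hY := EtModWLib.isConstructible_cokernel hX hY f
  extension _ hS := EtModWLib.isConstructible_of_extension hS
  cover {A A'} u hA' _ := by
    obtain ⟨m, U, j, he, ha, hj, ψ, hψ⟩ := ConstrCover.exists_cover u hA'
    exact ⟨_, ψ, ⟨m, U, j, he, ha, fun {_} => ⟨Iso.refl _⟩⟩, hψ⟩

theorem constructible_homology_iff (C : CochainComplex (EtModW.Mod Λ X) ℤ) {K : EtModD.D Λ X}
    (e : DerivedCategory.Q.obj C ≅ K) (i : ℤ) :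
    EtModW.IsConstructible Λ (C.homology i) ↔ EtModW.IsConstructible Λ (EtModD.HD K i) :=
  let e' : C.homology i ≅ EtModD.HD K i :=
    ((DerivedCategory.homologyFunctorFactors _ i).app C).symm ≪≫ (DerivedCategory.homologyFunctor _ i).mapIso e
  ⟨EtModWLib.isConstructible_of_iso e', EtModWLib.isConstructible_of_iso e'.symm⟩

/-- A finite sum of extensions by zero covering one cohomology sheaf. -/
theorem exists_single_cover [IsNoetherianRing Λ] [CompactSpace X] [QuasiSeparatedSpace X]
    (K : EtModD.D Λ X) (b : ℤ) (hK : EtModW.IsConstructible Λ (EtModD.HD K b)) :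
    ∃ (m : ℕ) (U : Fin m → Scheme.{u}) (j : ∀ k, U k ⟶ X) (_ : ∀ k, Etale (j k)) (_ : ∀ k, IsAffine (U k))
      (_ : ∀ k, EtShriek.JCont (j k))
      (φ : (DerivedCategory.singleFunctor (EtModW.Mod Λ X) b).obj (∐ fun k => freeOn (Λ := Λ) (U k) (j k)) ⟶ K),
      Epi ((DerivedCategory.homologyFunctor (EtModW.Mod Λ X) b).map φ) := by
  let C := DerivedCategory.Q.objPreimage K
  let e : DerivedCategory.Q.obj C ≅ K := DerivedCategory.Q.objObjPreimageIso K
  obtain ⟨m, U, j, he, ha, hj, ψ, hψ⟩ :=
    ConstrCover.exists_cover (C.homologyπ b) ((constructible_homology_iff C e b).2 hK)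
  let S := ∐ fun k => freeOn (Λ := Λ) (U k) (j k)
  let φ₀ : (HomologicalComplex.single _ (ComplexShape.up ℤ) b).obj S ⟶ C :=
    HomologicalComplex.mkHomFromSingle (ψ ≫ C.iCycles b) (fun k _ => by simp)
  have h0 : Epi (HomologicalComplex.homologyMap φ₀ b) := by
    let s : S ⟶ ((HomologicalComplex.single _ (ComplexShape.up ℤ) b).obj S).cycles b :=
      (HomologicalComplex.singleObjCyclesSelfIso (ComplexShape.up ℤ) b S).inv
    have h1 : s ≫ HomologicalComplex.cyclesMap φ₀ b = ψ := by
      rw [← cancel_mono (C.iCycles b), Category.assoc, HomologicalComplex.cyclesMap_i]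
      simp [s, φ₀]
    have h2 : Epi ((s ≫ HomologicalComplex.homologyπ _ b) ≫ HomologicalComplex.homologyMap φ₀ b) := by
      rw [Category.assoc, HomologicalComplex.homologyπ_naturality, ← Category.assoc, h1]
      exact hψ
    exact epi_of_epi (s ≫ HomologicalComplex.homologyπ _ b) _
  refine ⟨m, U, j, he, ha, hj, ((DerivedCategory.singleFunctorIsoCompQ (EtModW.Mod Λ X) b).hom.app S) ≫
    DerivedCategory.Q.map φ₀ ≫ e.hom, ?_⟩
  have h3 : Epi ((DerivedCategory.homologyFunctor (EtModW.Mod Λ X) b).map (DerivedCategory.Q.map φ₀)) :=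
    ((MorphismProperty.epimorphisms _).arrow_mk_iso_iff (((Functor.mapArrowFunctor _ _).mapIso
      (DerivedCategory.homologyFunctorFactors (EtModW.Mod Λ X) b)).app (Arrow.mk φ₀))).2 h0
  rw [Functor.map_comp, Functor.map_comp]
  exact @epi_comp _ _ _ _ _ _ inferInstance _ (@epi_comp _ _ _ _ _ _ h3 _ inferInstance)

/-- Bounded above objects with constructible cohomology have resolutions by finite sums. -/
theorem exists_resolution [IsNoetherianRing Λ] [CompactSpace X] [QuasiSeparatedSpace X]
    (K : EtModD.D Λ X) (n : ℤ) [K.IsLE n] (hK : ∀ i, EtModW.IsConstructible Λ (EtModD.HD K i)) :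
    ∃ C : CochainComplex (EtModW.Mod Λ X) ℤ, (∀ i, n < i → IsZero (C.X i)) ∧ (∀ i, IsSum (C.X i)) ∧
      Nonempty (DerivedCategory.Q.obj C ≅ K) := by
  let F := DerivedCategory.Q.objPreimage K
  let e : DerivedCategory.Q.obj F ≅ K := DerivedCategory.Q.objObjPreimageIso K
  haveI : HasColimitsOfShape ℕ (EtModW.Mod Λ X) := EtModD.hasColimitsOfSize0.has_colimits_of_shape ℕ
  obtain ⟨E, α, hE, hmem, hα⟩ := ClassResolve.exists_resolution (cover (Λ := Λ) (X := X))
    (fun i => (constructible_homology_iff F e i).2 (hK i)) n (fun i hi => by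
      rw [HomologicalComplex.exactAt_iff_isZero_homology]
      exact (K.isZero_of_isLE n i hi).of_iso (((DerivedCategory.homologyFunctorFactors _ i).app F).symm ≪≫
        (DerivedCategory.homologyFunctor _ i).mapIso e))
  haveI : IsIso (DerivedCategory.Q.map α) := (DerivedCategory.isIso_Q_map_iff_quasiIso _ _).2 hα
  exact ⟨E, hE, hmem, ⟨asIso (DerivedCategory.Q.map α) ≪≫ e⟩⟩

theorem isConstructible_of_resolution [IsNoetherianRing Λ] [CompactSpace X] [QuasiSeparatedSpace X]
    {C : CochainComplex (EtModW.Mod Λ X) ℤ} {K : EtModD.D Λ X} (e : DerivedCategory.Q.obj C ≅ K)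
    (h : ∀ i, IsSum (C.X i)) (i : ℤ) : EtModW.IsConstructible Λ (EtModD.HD K i) :=
  (constructible_homology_iff C e i).1 ((cover (Λ := Λ) (X := X)).K_homology (fun j => isConstructible_of_isSum (h j)) i)

end Groth.Agent.H9Misc.ConstrResolve
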