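import Mathlib.CategoryTheory.Adjunction.PartialAdjoint
import Mathlib.CategoryTheory.Triangulated.Functor
import Mathlib.CategoryTheory.Triangulated.Yoneda

/-! The domain of a partial left adjoint of a triangulated functor is closed under cones. -/

universe w v v' u u'

open CategoryTheory Category Limits Pretriangulated Opposite

namespace Groth.Agent.H9Misc.CorepTri

variable {D : Type u} [Category.{v} D] [Preadditive D] [HasZeroObject D] [HasShift D ℤ]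
  [∀ n : ℤ, (shiftFunctor D n).Additive] [Pretriangulated D]
  {D' : Type u'} [Category.{v} D'] [Preadditive D'] [HasZeroObject D'] [HasShift D' ℤ]
  [∀ n : ℤ, (shiftFunctor D' n).Additive] [Pretriangulated D']
  (G : D' ⥤ D) [G.CommShift ℤ] [G.IsTriangulated]

/-- A universal arrow to `G`. -/
def Univ {X : D} {L : D'} (η : X ⟶ G.obj L) : Prop :=
  ∀ Z : D', Function.Bijective (fun g : L ⟶ Z => η ≫ G.map g)

omit [Preadditive D] [HasZeroObject D] [HasShift D ℤ] [∀ n : ℤ, (shiftFunctor D n).Additive]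
  [Pretriangulated D] [Preadditive D'] [HasZeroObject D'] [HasShift D' ℤ]
  [∀ n : ℤ, (shiftFunctor D' n).Additive] [Pretriangulated D'] [G.CommShift ℤ] [G.IsTriangulated] in
lemma def_iff (X : D) :
    G.leftAdjointObjIsDefined X ↔ ∃ (L : D') (η : X ⟶ G.obj L), Univ G η := by
  constructor
  · intro h
    have : (G ⋙ coyoneda.obj (op X)).IsCorepresentable := h
    let r := (G ⋙ coyoneda.obj (op X)).corepresentableBy
    refine ⟨_, r.homEquiv (𝟙 _), fun Z => ?_⟩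
    have e : (fun g : _ ⟶ Z => r.homEquiv (𝟙 _) ≫ G.map g) = r.homEquiv :=
      funext fun g => (r.homEquiv_eq g).symm
    exact e ▸ r.homEquiv.bijective
  · rintro ⟨L, η, h⟩
    exact Functor.CorepresentableBy.isCorepresentable (X := L)
      { homEquiv := fun {Z} => Equiv.ofBijective (fun g : L ⟶ Z => η ≫ G.map g) (h Z)
        homEquiv_comp := fun {Y Y'} g f => by
          show η ≫ G.map (f ≫ g) = (η ≫ G.map f) ≫ G.map g
          rw [G.map_comp, assoc] }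

/-- Universal arrows shift. -/
lemma univ_shift {X : D} {L : D'} {η : X ⟶ G.obj L} (h : Univ G η) (n : ℤ) :
    Univ G (η⟦n⟧' ≫ (G.commShiftIso n).inv.app L) := fun Z => by
  let s := shiftFunctor D' n
  let e := (shiftEquiv' D' (-n) n (neg_add_cancel n))
  obtain ⟨Z', ⟨i⟩⟩ : ∃ Z', Nonempty (s.obj Z' ≅ Z) := ⟨Z⟦-n⟧, ⟨(shiftFunctorCompIsoId D' (-n) n (neg_add_cancel n)).app Z⟩⟩
  have key : ∀ g : L ⟶ Z',
      (η⟦n⟧' ≫ (G.commShiftIso n).inv.app L) ≫ G.map (s.map g ≫ i.hom) =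
        (η ≫ G.map g)⟦n⟧' ≫ (G.commShiftIso n).inv.app Z' ≫ G.map i.hom := fun g => by
    rw [G.map_comp, Functor.map_comp (shiftFunctor D n), assoc, assoc, ← assoc ((G.commShiftIso n).inv.app L)]
    rw [show (G.commShiftIso n).inv.app L ≫ G.map (s.map g) =
      (shiftFunctor D n).map (G.map g) ≫ (G.commShiftIso n).inv.app Z' from
        ((G.commShiftIso n).inv.naturality g).symm, assoc]
  refine ⟨fun g g' hg => ?_, fun k => ?_⟩
  · obtain ⟨g₀, hg₀⟩ := s.map_surjective (g ≫ i.inv)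
    obtain ⟨g₁, hg₁⟩ := s.map_surjective (g' ≫ i.inv)
    have e₀ : g = s.map g₀ ≫ i.hom := by rw [hg₀]; simp
    have e₁ : g' = s.map g₁ ≫ i.hom := by rw [hg₁]; simp
    simp only [e₀, e₁, key, cancel_mono] at hg
    rw [e₀, e₁, (h _).1 ((shiftFunctor D n).map_injective hg)]
  · obtain ⟨k₀, hk₀⟩ := (shiftFunctor D n).map_surjective
      (k ≫ G.map i.inv ≫ (G.commShiftIso n).hom.app Z')
    obtain ⟨g, hg⟩ := (h Z').2 k₀
    refine ⟨s.map g ≫ i.hom, (key g).trans ?_⟩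
    rw [show η ≫ G.map g = k₀ from hg, hk₀]
    simp [← G.map_comp]

/-- Closure under cones. -/
theorem def_obj₃ (T : Triangle D) (hT : T ∈ distTriang D) (h₁ : G.leftAdjointObjIsDefined T.obj₁)
    (h₂ : G.leftAdjointObjIsDefined T.obj₂) : G.leftAdjointObjIsDefined T.obj₃ := by
  obtain ⟨L₁, η₁, hη₁⟩ := (def_iff G _).1 h₁
  obtain ⟨L₂, η₂, hη₂⟩ := (def_iff G _).1 h₂
  obtain ⟨f, hf⟩ := (hη₁ L₂).2 (T.mor₁ ≫ η₂)
  obtain ⟨L₃, b', δ', hT'⟩ := distinguished_cocone_triangle f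
  have hGT := G.map_distinguished _ hT'
  obtain ⟨c, hc₂, hc₃⟩ : ∃ c : T.obj₃ ⟶ G.obj L₃, T.mor₂ ≫ c = η₂ ≫ G.map b' ∧
      T.mor₃ ≫ η₁⟦1⟧' = c ≫ G.map δ' ≫ (G.commShiftIso 1).hom.app L₁ :=
    complete_distinguished_triangle_morphism _ _ hT hGT η₁ η₂ hf.symm
  have hη₁' := univ_shift G hη₁ 1
  have hη₂' := univ_shift G hη₂ 1
  have hc₃' : T.mor₃ ≫ η₁⟦1⟧' ≫ (G.commShiftIso 1).inv.app L₁ = c ≫ G.map δ' := by
    rw [← assoc, hc₃]; simp
  refine (def_iff G _).2 ⟨L₃, c, fun Z => ⟨fun (g g' : L₃ ⟶ Z) hgg => ?_, fun h => ?_⟩⟩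
  · rw [← sub_eq_zero]
    have h0 : c ≫ G.map (g - g') = 0 := by
      rw [Functor.map_sub (F := G), Preadditive.comp_sub]; exact sub_eq_zero.2 hgg
    generalize g - g' = g₀ at h0 ⊢
    have h1 : b' ≫ g₀ = 0 := by
      apply (hη₂ Z).1
      show η₂ ≫ G.map (b' ≫ g₀) = η₂ ≫ G.map 0
      rw [G.map_comp, ← assoc, ← hc₂, assoc, h0, G.map_zero, comp_zero, comp_zero]
    obtain ⟨k, hk⟩ : ∃ k : L₁⟦(1 : ℤ)⟧ ⟶ Z, g₀ = δ' ≫ k := Triangle.yoneda_exact₃ _ hT' g₀ h1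
    obtain ⟨kh, hkh⟩ : ∃ x, x = (η₁⟦1⟧' ≫ (G.commShiftIso 1).inv.app L₁) ≫ G.map k := ⟨_, rfl⟩
    have h2 : T.mor₃ ≫ kh = 0 := by
      rw [hkh, ← assoc, hc₃', assoc, ← G.map_comp, ← hk, h0]
    obtain ⟨m₀, hm₀⟩ := Triangle.yoneda_exact₂ _ (rot_of_distTriang _ (rot_of_distTriang _ hT)) kh h2
    change kh = (-T.mor₁⟦1⟧') ≫ m₀ at hm₀
    obtain ⟨m, hm⟩ := (hη₂' Z).2 m₀
    have h3 : k = (-f⟦1⟧') ≫ m := by
      apply (hη₁' Z).1
      show _ ≫ G.map k = _ ≫ G.map ((-f⟦1⟧') ≫ m)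
      rw [← hkh, hm₀, ← hm, G.map_comp, G.map_neg]
      simp only [Preadditive.neg_comp, Preadditive.comp_neg, assoc, neg_inj]
      rw [← assoc ((G.commShiftIso 1).inv.app L₁), show (G.commShiftIso 1).inv.app L₁ ≫ G.map (f⟦1⟧') =
        (shiftFunctor D (1 : ℤ)).map (G.map f) ≫ (G.commShiftIso 1).inv.app L₂ from
          ((G.commShiftIso 1).inv.naturality f).symm, assoc, ← Functor.map_comp_assoc,
        ← Functor.map_comp_assoc]
      exact congrArg (fun x => (shiftFunctor D (1 : ℤ)).map x ≫ _) hf.symm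
    have h4 : δ' ≫ f⟦1⟧' = 0 := comp_distTriang_mor_zero₃₁ _ hT'
    rw [hk, h3, Preadditive.neg_comp, Preadditive.comp_neg, ← assoc, h4, zero_comp, neg_zero]
  · obtain ⟨u, hu⟩ := (hη₂ Z).2 (T.mor₂ ≫ h)
    change η₂ ≫ G.map u = T.mor₂ ≫ h at hu
    have h1 : f ≫ u = 0 := by
      apply (hη₁ Z).1
      show η₁ ≫ G.map (f ≫ u) = η₁ ≫ G.map 0
      rw [G.map_comp, ← assoc, show η₁ ≫ G.map f = T.mor₁ ≫ η₂ from hf, assoc, hu, ← assoc,
        comp_distTriang_mor_zero₁₂ _ hT, zero_comp, G.map_zero, comp_zero]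
    obtain ⟨g₀, hg₀⟩ : ∃ g₀ : L₃ ⟶ Z, u = b' ≫ g₀ := Triangle.yoneda_exact₂ _ hT' u h1
    have h2 : T.mor₂ ≫ (h - c ≫ G.map g₀) = 0 := by
      rw [Preadditive.comp_sub, ← assoc, hc₂, assoc, ← G.map_comp, ← hg₀, hu, sub_self]
    obtain ⟨kh, hkh⟩ := Triangle.yoneda_exact₃ _ hT _ h2
    obtain ⟨k, hk⟩ := (hη₁' Z).2 kh
    refine ⟨g₀ + δ' ≫ k, ?_⟩
    show c ≫ G.map (g₀ + δ' ≫ k) = h
    rw [G.map_add, Preadditive.comp_add, G.map_comp, ← assoc, ← hc₃', assoc,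
      show (η₁⟦1⟧' ≫ (G.commShiftIso 1).inv.app L₁) ≫ G.map k = kh from hk, ← hkh,
      add_sub_cancel]

end Groth.Agent.H9Misc.CorepTri
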