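import Groth.Agent.H9Misc.DRingRelPC
import Mathlib

/-! Relative pseudo-coherence along finite and pseudo-coherent maps. -/

set_option linter.style.haveILetI false

universe u

open CategoryTheory CategoryTheory.Limits

attribute [local instance] HasDerivedCategory.standard

namespace Groth.Agent.H9Misc.DRingRelPC

open DRingTor DRingRestrict

variable {P Q B C : Type u} [CommRing P] [CommRing Q] [CommRing B] [CommRing C]

/-- Testing along a pseudo-coherent map. -/
lemma pc_iff_comp {φ : P →+* Q} (hφ : PCHom φ) (χ : Q →+* B) (γ : P →+* B) (h : χ.comp φ = γ)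
    (K : Dual.D B) (m : ℤ) :
    DRing.IsPseudoCoherent Q m ((DRing.restrictD χ).obj K) ↔
      DRing.IsPseudoCoherent P m ((DRing.restrictD γ).obj K) := by
  subst h
  exact (pc_restrict_iff φ hφ m _).trans
    ⟨DRingPC.of_iso ((restrictDCompIso φ χ).app K).symm, DRingPC.of_iso ((restrictDCompIso φ χ).app K)⟩

lemma pc_iff_twice (φ : P →+* Q) (χ : Q →+* B) (K : Dual.D B) (m : ℤ) :
    DRing.IsPseudoCoherent P m ((DRing.restrictD φ).obj ((DRing.restrictD χ).obj K)) ↔
      DRing.IsPseudoCoherent P m ((DRing.restrictD (χ.comp φ)).obj K) :=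
  ⟨DRingPC.of_iso ((restrictDCompIso φ χ).app K).symm, DRingPC.of_iso ((restrictDCompIso φ χ).app K)⟩

open Polynomial in
lemma pcHom_quotient_monic (g : P[X]) (hg : g.Monic) : PCHom (AdjoinRoot.mk g) := by
  let φ := AdjoinRoot.mk g
  let M := (ModuleCat.restrictScalars φ).obj (ModuleCat.of (AdjoinRoot g) (AdjoinRoot g))
  let π : (Fin 1 → P[X]) →ₗ[P[X]] M :=
    { toFun := fun f => (show AdjoinRoot g from φ (f 0))
      map_add' := fun f g' => φ.map_add (f 0) (g' 0)
      map_smul' := fun r f => φ.map_mul r (f 0) }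
  have hπ : Function.Surjective π := fun r => by
    obtain ⟨q, hq⟩ := AdjoinRoot.mk_surjective (g := g) (show AdjoinRoot g from r)
    exact ⟨fun _ => q, hq⟩
  have hmem : ∀ f : Fin 1 → P[X], f ∈ LinearMap.ker π ↔ g ∣ f 0 := fun f => AdjoinRoot.mk_eq_zero
  let e : P[X] →ₗ[P[X]] LinearMap.ker π :=
    { toFun := fun p => ⟨fun _ => g * p, (hmem _).2 (dvd_mul_right _ _)⟩
      map_add' := fun p q => Subtype.ext (funext fun _ => mul_add _ _ _)
      map_smul' := fun r p => Subtype.ext (funext fun _ => by simp [mul_left_comm]) }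
  have he : Function.Bijective e := by
    refine ⟨fun p q h => hg.isRegular.left
      (congrFun (congrArg Subtype.val h) (0 : Fin 1)), fun ⟨f, hf⟩ => ?_⟩
    obtain ⟨p, hp⟩ := (hmem f).1 hf
    exact ⟨p, Subtype.ext (funext fun i => by rw [Subsingleton.elim i 0]; exact hp.symm)⟩
  haveI : Module.Finite P[X] (LinearMap.ker π) := Module.Finite.equiv (LinearEquiv.ofBijective e he)
  haveI : Module.Free P[X] (LinearMap.ker π) := Module.Free.of_equiv (LinearEquiv.ofBijective e he)
  exact (DRingPC.pc'_iff _).2 fun m =>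
    DRingPC.pc_of_presentation π hπ (Triage.NoethPC.pc_of_free (A := P[X]) (LinearMap.ker π) (m + 1))

/-- A finite free algebra is a pseudo-coherent one. -/
lemma pcHom_of_free [Algebra P Q] [Module.Finite P Q] [Module.Free P Q] : PCHom (algebraMap P Q) :=
  pc'_resB ((DRingPC.pc'_iff _).2 fun m => Triage.NoethPC.pc_of_free (A := P) Q m)

open Polynomial in
/-- One integral variable. -/
lemma pc_iff_integral (χ : P[X] →+* B) (γ : P →+* B) (hC : χ.comp Polynomial.C = γ)
    (hint : γ.IsIntegralElem (χ X)) (K : Dual.D B) (m : ℤ) :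
    DRing.IsPseudoCoherent P[X] m ((DRing.restrictD χ).obj K) ↔
      DRing.IsPseudoCoherent P m ((DRing.restrictD γ).obj K) := by
  obtain ⟨g, hg, hg0⟩ := hint
  let χ' : AdjoinRoot g →+* B := AdjoinRoot.lift γ (χ X) hg0
  have h1 : χ'.comp (AdjoinRoot.mk g) = χ := by
    refine Polynomial.ringHom_ext (fun a => ?_) ?_
    · show χ' (AdjoinRoot.mk g (Polynomial.C a)) = χ (Polynomial.C a)
      rw [AdjoinRoot.lift_mk, Polynomial.eval₂_C, ← hC]
      rfl
    · show χ' (AdjoinRoot.mk g X) = χ X
      rw [AdjoinRoot.lift_mk, Polynomial.eval₂_X]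
  have h2 : χ'.comp (algebraMap P (AdjoinRoot g)) = γ := by
    rw [AdjoinRoot.algebraMap_eq, AdjoinRoot.lift_comp_of]
  haveI := hg.finite_adjoinRoot
  haveI := hg.free_adjoinRoot
  exact (pc_iff_comp (pcHom_quotient_monic g hg) χ' χ h1 K m).symm.trans
    (pc_iff_comp pcHom_of_free χ' γ h2 K m)

open MvPolynomial in
/-- Integral variables. -/
lemma pc_iff_integral_mv : ∀ (k : ℕ) (γ : P →+* B) (b : Fin k → B), (∀ i, γ.IsIntegralElem (b i)) →
    ∀ (K : Dual.D B) (m : ℤ),
    (DRing.IsPseudoCoherent (MvPolynomial (Fin k) P) m ((DRing.restrictD (eval₂Hom γ b)).obj K) ↔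
      DRing.IsPseudoCoherent P m ((DRing.restrictD γ).obj K)) := by
  intro k
  induction k with
  | zero =>
    intro γ b _ K m
    refine (pc_iff_comp (PCHom.of_bijective (φ := (MvPolynomial.C : P →+* MvPolynomial (Fin 0) P))
      ⟨C_injective _ _, C_surjective _⟩) (eval₂Hom γ b) γ (eval₂Hom_comp_C _ _) K m)
  | succ k ih =>
    intro γ b hb K m
    let γ' := eval₂Hom γ fun i : Fin k => b i.succ
    let χ := Polynomial.eval₂RingHom γ' (b 0)
    let e := (finSuccEquiv P k).toRingEquiv.toRingHom
    have he : χ.comp e = eval₂Hom γ b := by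
      refine MvPolynomial.ringHom_ext (fun r => ?_) fun i => ?_
      · simp [χ, γ', e, finSuccEquiv_apply]
      · cases i using Fin.cases with
        | zero => simp [χ, γ', e, finSuccEquiv_X_zero]
        | succ j => simp [χ, γ', e, finSuccEquiv_X_succ]
    refine (pc_iff_comp (PCHom.of_bijective (φ := e) (finSuccEquiv P k).bijective) χ _ he K m).symm.trans ?_
    refine (pc_iff_integral χ γ' (RingHom.ext fun x => by simp [χ]) ?_ K m).trans
      (ih γ (fun i => b i.succ) (fun i => hb i.succ) K m)
    rw [show χ Polynomial.X = b 0 by simp [χ]]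
    obtain ⟨g, hg, hg0⟩ := hb 0
    refine ⟨g.map MvPolynomial.C, hg.map _, ?_⟩
    rw [Polynomial.eval₂_map, show γ'.comp MvPolynomial.C = γ from eval₂Hom_comp_C _ _]
    exact hg0

open MvPolynomial in
/-- A presentation stacked on a presentation. -/
theorem exists_stack {R : Type u} [CommRing R] [Algebra R B] {n k : ℕ} (γ : MvPolynomial (Fin n) R →ₐ[R] B)
    (b : Fin k → B) :
    ∃ (β : MvPolynomial (Fin (k + n)) R →ₐ[R] B)
      (σ : MvPolynomial (Fin (k + n)) R →+* MvPolynomial (Fin k) (MvPolynomial (Fin n) R)),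
      Function.Bijective σ ∧ (eval₂Hom (γ : MvPolynomial (Fin n) R →+* B) b).comp σ = (β : _ →+* B) := by
  let f := Sum.elim b (fun i => γ (X i)) ∘ finSumFinEquiv.symm
  let σ := ((MvPolynomial.renameEquiv R finSumFinEquiv.symm).trans (sumAlgEquiv R (Fin k) (Fin n)))
  refine ⟨MvPolynomial.aeval f, σ.toRingEquiv.toRingHom, σ.bijective, ?_⟩
  refine MvPolynomial.ringHom_ext (fun r => ?_) fun i => ?_
  · simp [σ, f]
  · rcases h : finSumFinEquiv.symm i with j | j
    · simp [σ, f, h]
    · have : sumAlgEquiv R (Fin k) (Fin n) (X (Sum.inr j)) = C (X j) := by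
        ext; simp [sumAlgEquiv, X, C, monomial, coeff, AddMonoidAlgebra.one_def]
      simp [σ, f, h, this]

open MvPolynomial in
/-- `S6984`. -/
theorem finite_iff {R A : Type u} [CommRing R] [CommRing A] [Algebra R A] [Algebra A B] [Algebra R B]
    [IsScalarTower R A B] [Algebra.FiniteType R A] [Module.Finite A B] (K : Dual.D B) (m : ℤ) :
    DerCA.IsRelPseudoCoherent R B m K ↔
      DerCA.IsRelPseudoCoherent R A m ((DRing.restrictD (algebraMap A B)).obj K) := by
  obtain ⟨n, α, hα⟩ := exists_presentation R A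
  let γ : MvPolynomial (Fin n) R →ₐ[R] B := (IsScalarTower.toAlgHom R A B).comp α
  obtain ⟨k, b, hb⟩ := Module.Finite.exists_fin (R := A) (M := B)
  have hint : ∀ i, (γ : MvPolynomial (Fin n) R →+* B).IsIntegralElem (b i) := fun i => by
    obtain ⟨p, hp, hp0⟩ := IsIntegral.of_finite A (b i)
    obtain ⟨q, hq, -, hqm⟩ := Polynomial.lifts_and_natDegree_eq_and_monic
      (f := (α : MvPolynomial (Fin n) R →+* A)) (Polynomial.map_surjective _ hα p) hp
    refine ⟨q, hqm, ?_⟩
    rw [show (γ : MvPolynomial (Fin n) R →+* B) = (algebraMap A B).comp (α : _ →+* A) from rfl,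
      ← Polynomial.eval₂_map, hq]
    exact hp0
  obtain ⟨β, σ, hσ, hβ⟩ := exists_stack γ b
  have hχ : Function.Surjective (eval₂Hom (γ : MvPolynomial (Fin n) R →+* B) b) := fun x => by
    have hx : x ∈ Submodule.span A (Set.range b) := hb ▸ Submodule.mem_top
    obtain ⟨c, rfl⟩ := (Submodule.mem_span_range_iff_exists_fun A).1 hx
    choose c' hc' using fun i => hα (c i)
    exact ⟨∑ i, C (c' i) * X i, by simp [γ, hc', Algebra.smul_def]⟩
  have hβs : Function.Surjective β := by
    intro x
    obtain ⟨y, rfl⟩ := hχ x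
    obtain ⟨z, rfl⟩ := hσ.2 y
    exact ⟨z, (RingHom.congr_fun hβ z).symm⟩
  refine (iff_via β hβs K m).trans ?_
  refine ((pc_iff_comp (PCHom.of_bijective hσ) _ _ hβ K m).symm.trans ?_).trans
    (iff_via α hα _ m).symm
  refine (pc_iff_integral_mv k _ b hint K m).trans ?_
  exact (pc_iff_twice (α : MvPolynomial (Fin n) R →+* A) (algebraMap A B) K m).symm

attribute [local instance] MvPolynomial.algebraMvPolynomial in
open MvPolynomial in
/-- Base change of a pseudo-coherent map to polynomial rings. -/
lemma pcHom_map (φ : P →+* Q) (hφ : PCHom φ) (k : ℕ) :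
    PCHom (MvPolynomial.map (σ := Fin k) φ) := by
  letI := φ.toAlgebra
  have hb : Algebra.IsPushout P (MvPolynomial (Fin k) P) Q (MvPolynomial (Fin k) Q) := inferInstance
  have hflat : (MvPolynomial.C : P →+* MvPolynomial (Fin k) P).Flat :=
    (RingHom.flat_algebraMap_iff (R := P) (S := MvPolynomial (Fin k) P)).2 inferInstance
  refine (DRingPC.pc'_iff _).2 fun m => ?_
  have h := module_baseChange (MvPolynomial.C : P →+* MvPolynomial (Fin k) P) hflat m _
    ((DRingPC.pc'_iff _).1 hφ m)
  let S := MvPolynomial (Fin k) P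
  let E := (ModuleCat.extendScalars (MvPolynomial.C : P →+* S)).obj
    ((ModuleCat.restrictScalars φ).obj (ModuleCat.of Q Q))
  let tm : S → Q → E := fun x q =>
    @TensorProduct.tmul P _ _ _ _ _ (Module.compHom S (MvPolynomial.C : P →+* S)) _ x q
  have hbal : ∀ (r : P) (x : S) (q : Q), tm (MvPolynomial.C r * x) q = tm x (r • q) := by
    letI : Module P S := Module.compHom S (MvPolynomial.C : P →+* S)
    exact fun r x q => (LinearMap.map_smul₂ (TensorProduct.mk P S Q) r x q).trans ((TensorProduct.mk P S Q x).map_smul r q).symm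
  let back : TensorProduct P S Q →+ E :=
    TensorProduct.liftAddHom (AddMonoidHom.mk' (fun x => AddMonoidHom.mk' (tm x)
        (fun q q' => @TensorProduct.tmul_add P _ _ _ _ _ (Module.compHom S (MvPolynomial.C : P →+* S)) _ _ _ _))
      (fun x x' => AddMonoidHom.ext fun q =>
        @TensorProduct.add_tmul P _ _ _ _ _ (Module.compHom S (MvPolynomial.C : P →+* S)) _ _ _ _))
      (fun r x q => by
        show tm (r • x) q = tm x (r • q)
        rw [show r • x = MvPolynomial.C r * x from (MvPolynomial.C_mul').symm]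
        exact hbal r x q)
  let fm : S →+ Q →+ TensorProduct P S Q :=
    AddMonoidHom.mk' (fun x => (TensorProduct.mk P S Q x).toAddMonoidHom)
      (fun x x' => by ext q; simp [TensorProduct.add_tmul])
  let fwd : E →+ TensorProduct P S Q :=
    @TensorProduct.liftAddHom P _ S Q (TensorProduct P S Q) _ _ _ (Module.compHom S (MvPolynomial.C : P →+* S)) _
      fm
      (fun r x q => by
        show (MvPolynomial.C r * x) ⊗ₜ[P] q = x ⊗ₜ[P] (r • q)
        rw [MvPolynomial.C_mul', TensorProduct.smul_tmul])
  have hfb : ∀ z, fwd (back z) = z := fun z => by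
    induction z using TensorProduct.induction_on with
    | zero => rw [map_zero, map_zero]
    | add a b ha hb' => rw [map_add, map_add, ha, hb']
    | tmul x q => rfl
  have hbf : ∀ z, back (fwd z) = z := fun z => by
    induction z using TensorProduct.induction_on with
    | zero => exact (congrArg back (map_zero fwd)).trans (map_zero back)
    | add a b ha hb' =>
      refine (congrArg back (map_add fwd a b)).trans ((map_add back _ _).trans ?_)
      exact congrArg₂ (· + ·) ha hb'
    | tmul x q => rfl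
  have hback : ∀ (c : S) (w : TensorProduct P S Q), back (c • w) = c • back w := fun c w => by
    induction w using TensorProduct.induction_on with
    | zero => rw [smul_zero, map_zero, smul_zero]
    | add a b ha hb' => rw [smul_add, map_add, map_add, ha, hb', smul_add]
    | tmul x q => rfl
  have hsmul : ∀ (c : S) (z : E), fwd (c • z) = c • fwd z := fun c z => by
    conv_lhs => rw [← hbf z]
    rw [← hback, hfb]
  let e : E ≃ₗ[S] ((ModuleCat.restrictScalars (MvPolynomial.map (σ := Fin k) φ)).obj
      (ModuleCat.of (MvPolynomial (Fin k) Q) (MvPolynomial (Fin k) Q))) :=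
    { toFun := fun z => hb.out.equiv (fwd z)
      invFun := fun z => back (hb.out.equiv.symm z)
      left_inv := fun z => by
        show back (hb.out.equiv.symm (hb.out.equiv (fwd z))) = z
        rw [LinearEquiv.symm_apply_apply]
        exact hbf z
      right_inv := fun z => by
        show hb.out.equiv (fwd (back (hb.out.equiv.symm z))) = z
        rw [hfb]
        exact hb.out.equiv.apply_symm_apply z
      map_add' := fun x y => (congrArg hb.out.equiv (map_add fwd x y)).trans (map_add hb.out.equiv _ _)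
      map_smul' := fun c x => (congrArg hb.out.equiv (hsmul c x)).trans
        ((hb.out.equiv.map_smul c _).trans (Algebra.smul_def c _)) }
  exact DRingPC.of_iso ((DerivedCategory.singleFunctor (ModuleCat.{u} (MvPolynomial (Fin k) P)) 0).mapIso
    e.toModuleIso) h

open MvPolynomial in
/-- `S6985`. -/
theorem intermediate_iff {R A : Type u} [CommRing R] [CommRing A] [Algebra R A] [Algebra A B] [Algebra R B]
    [IsScalarTower R A B] [Algebra.FiniteType R A] [Algebra.FiniteType A B]
    (hA : DerCA.IsRelPseudoCoherentModuleAll R A A) (K : Dual.D B) (m : ℤ) :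
    DerCA.IsRelPseudoCoherent A B m K ↔ DerCA.IsRelPseudoCoherent R B m K := by
  obtain ⟨n, α, hα⟩ := exists_presentation R A
  have hα' : PCHom (α : MvPolynomial (Fin n) R →+* A) :=
    (DRingPC.pc'_iff _).2 fun i => (module_iff α hα A i).1 (hA i)
  obtain ⟨k, δ, hδ⟩ := exists_presentation A B
  let γ : MvPolynomial (Fin n) R →ₐ[R] B := (IsScalarTower.toAlgHom R A B).comp α
  let b : Fin k → B := fun i => δ (X i)
  obtain ⟨β, σ, hσ, hβ⟩ := exists_stack γ b
  have hcomp : (δ : MvPolynomial (Fin k) A →+* B).comp (MvPolynomial.map (α : MvPolynomial (Fin n) R →+* A)) =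
      eval₂Hom (γ : MvPolynomial (Fin n) R →+* B) b := by
    refine MvPolynomial.ringHom_ext (fun r => ?_) fun i => ?_
    · simp [γ]
    · simp [b]
  have hβs : Function.Surjective β := by
    intro x
    obtain ⟨y, rfl⟩ := hδ x
    obtain ⟨y', rfl⟩ := MvPolynomial.map_surjective (α : MvPolynomial (Fin n) R →+* A) hα y
    obtain ⟨z, rfl⟩ := hσ.2 y'
    exact ⟨z, (RingHom.congr_fun hβ z).symm.trans (RingHom.congr_fun hcomp (σ z)).symm⟩
  refine (iff_via δ hδ K m).trans (Iff.trans ?_ (iff_via β hβs K m).symm)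
  exact (pc_iff_comp (pcHom_map _ hα' k) _ _ hcomp K m).trans
    (pc_iff_comp (PCHom.of_bijective hσ) _ _ hβ K m)

end Groth.Agent.H9Misc.DRingRelPC
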