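import Mathlib
import Groth.Agent.H9Misc.DRingLBase
import Groth.Agent.H9Misc.DRingRightExact

/-! Tor amplitude along nilpotent thickenings. -/

set_option linter.style.haveILetI false

universe u

open CategoryTheory CategoryTheory.Category CategoryTheory.Limits MonoidalCategory

attribute [local instance] HasDerivedCategory.standard

namespace Groth.Agent.H9Misc.DRingNilp

open Groth.Agent.KFlatLib DRingLTensor DRingTor

variable {A B : Type u} [CommRing A] [CommRing B]

lemma exactAt_restrict (φ : A →+* B) {P : CochainComplex (ModuleCat.{u} A) ℤ} (N : ModuleCat.{u} B) (i : ℤ)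
    (h : ((tensC N).obj ((extC' φ).obj P)).ExactAt i) :
    ((tensC ((ModuleCat.restrictScalars φ).obj N)).obj P).ExactAt i := by
  have h₃ : (((ModuleCat.extendScalars φ ⋙ tensorRight N ⋙
      ModuleCat.restrictScalars φ).mapHomologicalComplex (ComplexShape.up ℤ)).obj P).ExactAt i :=
    h.map (ModuleCat.restrictScalars φ)
  refine DRingRightExact.exactAt_iso_map (F := ModuleCat.extendScalars φ ⋙ tensorRight N ⋙
    ModuleCat.restrictScalars φ) (G := tensorRight ((ModuleCat.restrictScalars φ).obj N)) ?_ P i h₃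
  exact Functor.isoWhiskerLeft (ModuleCat.extendScalars φ)
      (Functor.isoWhiskerRight (BraidedCategory.tensorLeftIsoTensorRight N).symm _) ≪≫
    ((KFlatLib.extTIso φ).app N) ≪≫ BraidedCategory.tensorLeftIsoTensorRight _

lemma exactAt_of_ses {P : CochainComplex (ModuleCat.{u} A) ℤ} (hP : ∀ n, Module.Flat A (P.X n))
    {S : ShortComplex (ModuleCat.{u} A)} (hS : S.ShortExact) (i : ℤ)
    (h₁ : ((tensC S.X₁).obj P).ExactAt i) (h₃ : ((tensC S.X₃).obj P).ExactAt i) :
    ((tensC S.X₂).obj P).ExactAt i := by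
  let c := ComplexShape.up ℤ
  let f : (tensC S.X₁).obj P ⟶ (tensC S.X₂).obj P :=
    (NatTrans.mapHomologicalComplex ((tensoringRight (ModuleCat.{u} A)).map S.f) c).app P
  let g : (tensC S.X₂).obj P ⟶ (tensC S.X₃).obj P :=
    (NatTrans.mapHomologicalComplex ((tensoringRight (ModuleCat.{u} A)).map S.g) c).app P
  have he : Function.Exact S.f.hom S.g.hom :=
    (ShortComplex.ShortExact.moduleCat_exact_iff_function_exact _).1 hS.exact
  have hfg : f ≫ g = 0 := by
    refine HomologicalComplex.hom_ext _ _ fun j => ModuleCat.hom_ext ?_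
    show S.g.hom.lTensor (P.X j) ∘ₗ S.f.hom.lTensor (P.X j) = 0
    rw [← LinearMap.lTensor_comp, ← ModuleCat.hom_comp, S.zero, ModuleCat.hom_zero, LinearMap.lTensor_zero]
  have hT : (ShortComplex.mk f g hfg).ShortExact := by
    refine HomologicalComplex.shortExact_of_degreewise_shortExact _ fun j => ?_
    haveI := hP j
    exact
      { exact := (ShortComplex.ShortExact.moduleCat_exact_iff_function_exact _).2
          (lTensor_exact (P.X j) he ((ModuleCat.epi_iff_surjective _).1 hS.epi_g))
        mono_f := (ModuleCat.mono_iff_injective _).2 (Module.Flat.lTensor_preserves_injective_linearMap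
          (M := P.X j) S.f.hom ((ModuleCat.mono_iff_injective _).1 hS.mono_f))
        epi_g := (ModuleCat.epi_iff_surjective _).2
          (LinearMap.lTensor_surjective (P.X j) ((ModuleCat.epi_iff_surjective _).1 hS.epi_g)) }
  rw [HomologicalComplex.exactAt_iff_isZero_homology] at h₁ h₃ ⊢
  exact (hT.homology_exact₂ i).isZero_X₂ (h₁.eq_zero_of_src _) (h₃.eq_zero_of_tgt _)

lemma isIso_unit (φ : A →+* B) (hφ : Function.Surjective φ) (M : ModuleCat.{u} A)
    (hM : ∀ r ∈ RingHom.ker φ, ∀ x : M, r • x = 0) :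
    IsIso ((ModuleCat.extendRestrictScalarsAdj φ).unit.app M) := by
  letI := φ.toAlgebra
  rw [ConcreteCategory.isIso_iff_bijective]
  have hs : Function.Surjective (algebraMap A B) := hφ
  let ev : B → M → M := fun b x => Function.surjInv hs b • x
  have hev : ∀ (a : A) (x : M), ev (algebraMap A B a) x = a • x := fun a x => by
    have : (Function.surjInv hs (algebraMap A B a) - a) • x = 0 :=
      hM _ (by rw [RingHom.mem_ker, map_sub, sub_eq_zero]; exact Function.surjInv_eq hs _) x
    rwa [sub_smul, sub_eq_zero] at this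
  let inv' : TensorProduct A B M →ₗ[A] M := TensorProduct.lift (LinearMap.mk₂ A ev
    (fun b b' x => by
      obtain ⟨a, rfl⟩ := hs b
      obtain ⟨a', rfl⟩ := hs b'
      rw [← map_add, hev, hev, hev, add_smul])
    (fun r b x => by
      obtain ⟨a, rfl⟩ := hs b
      rw [Algebra.smul_def, ← map_mul, hev, hev, mul_smul])
    (fun b x y => smul_add _ x y) (fun r b x => smul_comm _ r x))
  have hl : ∀ x : M, inv' ((1 : B) ⊗ₜ[A] x) = x := fun x => by
    show ev 1 x = x
    rw [← map_one (algebraMap A B), hev, one_smul]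
  refine ⟨fun x y hxy => ?_, fun z => ?_⟩
  · have := congrArg inv' (show (1 : B) ⊗ₜ[A] x = (1 : B) ⊗ₜ[A] y from hxy)
    rwa [hl, hl] at this
  · obtain ⟨x, hx⟩ : ∃ x : M, (1 : B) ⊗ₜ[A] x = (show TensorProduct A B M from z) := by
      generalize (show TensorProduct A B M from z) = w
      induction w using TensorProduct.induction_on with
      | zero => exact ⟨0, TensorProduct.tmul_zero _ _⟩
      | tmul b x =>
        obtain ⟨a, rfl⟩ := hs b
        exact ⟨a • x, by rw [TensorProduct.tmul_smul, TensorProduct.smul_tmul', Algebra.smul_def, mul_one]⟩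
      | add w₁ w₂ h₁ h₂ =>
        obtain ⟨x₁, rfl⟩ := h₁
        obtain ⟨x₂, rfl⟩ := h₂
        exact ⟨x₁ + x₂, TensorProduct.tmul_add _ _ _⟩
    exact ⟨x, hx⟩

lemma exactAt_of_killed (φ : A →+* B) (hφ : Function.Surjective φ)
    {P : CochainComplex (ModuleCat.{u} A) ℤ} (i : ℤ)
    (h : ∀ N : ModuleCat.{u} B, ((tensC N).obj ((extC' φ).obj P)).ExactAt i)
    (M : ModuleCat.{u} A) (hM : ∀ r ∈ RingHom.ker φ, ∀ x : M, r • x = 0) :
    ((tensC M).obj P).ExactAt i := by
  let N₀ := (ModuleCat.extendScalars.{u, u, u} φ).obj M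
  let e : M ⟶ (ModuleCat.restrictScalars φ).obj N₀ := (ModuleCat.extendRestrictScalarsAdj φ).unit.app M
  haveI : IsIso e := isIso_unit φ hφ M hM
  have h' := exactAt_restrict φ N₀ i (h N₀)
  exact h'.of_iso ((NatIso.mapHomologicalComplex ((tensoringRight (ModuleCat.{u} A)).mapIso (asIso e).symm)
    (ComplexShape.up ℤ)).app P)

lemma exactAt_of_pow (φ : A →+* B) (hφ : Function.Surjective φ)
    {P : CochainComplex (ModuleCat.{u} A) ℤ} (hP : ∀ n, Module.Flat A (P.X n)) (i : ℤ)
    (h : ∀ N : ModuleCat.{u} B, ((tensC N).obj ((extC' φ).obj P)).ExactAt i) : ∀ (k : ℕ) (M : ModuleCat.{u} A),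
    (∀ r ∈ (RingHom.ker φ) ^ k, ∀ x : M, r • x = 0) → ((tensC M).obj P).ExactAt i := by
  intro k
  induction k with
  | zero =>
    intro M hM
    refine exactAt_of_killed φ hφ i h M fun r _ x => ?_
    have hx : x = 0 := by
      have := hM 1 (by simp) x
      rwa [one_smul] at this
    rw [hx, smul_zero]
  | succ k ih =>
    intro M hM
    let p : Submodule A M := (RingHom.ker φ) • ⊤
    let S : ShortComplex (ModuleCat.{u} A) := ShortComplex.mk (ModuleCat.ofHom p.subtype)
      (ModuleCat.ofHom p.mkQ) (by ext x; exact (Submodule.Quotient.mk_eq_zero p).2 x.2)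
    have hS : S.ShortExact :=
      { exact := (ShortComplex.moduleCat_exact_iff S).2 fun x hx =>
          ⟨⟨x, (Submodule.Quotient.mk_eq_zero p).1 hx⟩, rfl⟩
        mono_f := (ModuleCat.mono_iff_injective _).2 Subtype.val_injective
        epi_g := (ModuleCat.epi_iff_surjective _).2 (Submodule.mkQ_surjective p) }
    refine exactAt_of_ses hP hS i (ih _ fun r hr x => Subtype.ext ?_)
      (exactAt_of_killed φ hφ i h _ fun r hr x => ?_)
    · show r • (x : M) = 0
      refine Submodule.smul_induction_on (p := fun y => r • y = 0) x.2 (fun s hs y _ => ?_) fun y z hy hz => ?_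
      · rw [← mul_smul]
        exact hM (r * s) (by rw [pow_succ]; exact Ideal.mul_mem_mul hr hs) y
      · rw [smul_add, hy, hz, add_zero]
    · obtain ⟨y, rfl⟩ := Submodule.mkQ_surjective p x
      exact (Submodule.Quotient.mk_eq_zero p).2 (Submodule.smul_mem_smul hr Submodule.mem_top)

/-- Tor amplitude is insensitive to nilpotent thickenings. -/
theorem amp_lbase_iff (φ : A →+* B) (hφ : Function.Surjective φ) (hnil : IsNilpotent (RingHom.ker φ))
    [DRing.HasLBaseChange φ] (K : Dual.D A) (a b : ℤ) :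
    DRing.HasTorAmplitudeIn B a b ((DRing.LBaseChange φ).obj K) ↔ DRing.HasTorAmplitudeIn A a b K := by
  refine ⟨fun h => ?_, DRingLBase.hasTorAmplitudeIn_lbase φ⟩
  obtain ⟨P, hP, hflat, ⟨e⟩⟩ := exists_rep K
  obtain ⟨e'⟩ := DRingLBase.nonempty_lbase_iso φ hP
  have hV := (iff_van (KFlatLib.kFlat_extendScalars φ hP)
    (e'.symm ≪≫ (DRing.LBaseChange φ).mapIso e)).1 h
  obtain ⟨k, hk⟩ := hnil
  refine hasTorAmplitudeIn_of_van hP (fun M i hi => ?_) e
  refine exactAt_of_pow φ hφ hflat i (fun N => hV N i hi) k M fun r hr x => ?_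
  have hr' : r = 0 := by
    rw [hk] at hr
    exact hr
  rw [hr', zero_smul]

end Groth.Agent.H9Misc.DRingNilp
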