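import Groth.Agent.H9Misc.PhiAdjoint
import Groth.Agent.KFlatLib.Scheme.BidualPerfect
import Groth.Agent.KExact.ExternalBdd
import Groth.Agent.KExact.DualConn
import Groth.Agent.S3645
import Groth.Agent.S0949

/-!
# Adjoints of correspondences with perfect kernels
-/

set_option autoImplicit false
set_option linter.style.haveILetI false
set_option maxHeartbeats 1000000

universe u

open CategoryTheory CategoryTheory.Limits AlgebraicGeometry

attribute [local instance] HasDerivedCategory.standard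

namespace Groth.Agent.H9Misc

open KFlatLib Lib.DerivedNat

local notation "qc" Z:max => ObjectProperty.ι (DCoh.IsQCohD (X := Z))

variable {U X Y : Scheme.{u}}

/-- Adjunction for a correspondence with perfect kernel, given the dualizing complex of the second leg. -/
theorem nonempty_corr_adj (p : U ⟶ X) (q : U ⟶ Y) [QuasiCompact p] [QuasiSeparated p] [QuasiCompact q] [QuasiSeparated q]
    (K : CochainComplex U.Modules ℤ) (hK : DCoh.IsPerfect (DCoh.toD U K))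
    [DCoh.HasLpull p] [DCoh.HasLTensorCx K] [DCoh.HasRpush q] [DCoh.HasRSheafHom K]
    [DCoh.HasLpull q] [DCoh.HasRpush p]
    (hR : DCoh.RpushPreservesQCoh q)
    (G : DCoh.DQCoh Y ⥤ DCoh.DQCoh U) (adj : DCoh.RpushQ q hR ⊣ G)
    (E : CochainComplex U.Modules ℤ) [DCoh.HasLTensorCx E]
    (eG : G ⋙ ObjectProperty.ι _ ≅ qc Y ⋙ DCoh.Lpull q ⋙ DCoh.LTensorCx E)
    (N : CochainComplex U.Modules ℤ) [DCoh.HasLTensorCx N]
    (eN : DCoh.toD U N ≅ (DCoh.RSheafHom K).obj (DCoh.toD U E))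
    (h : ∀ M : DCoh.D X, DCoh.IsQCohD M → DCoh.IsQCohD ((DCoh.Lpull p ⋙ DCoh.LTensorCx K ⋙ DCoh.Rpush q).obj M))
    (h' : ∀ M : DCoh.D Y, DCoh.IsQCohD M → DCoh.IsQCohD ((DCoh.Lpull q ⋙ DCoh.LTensorCx N ⋙ DCoh.Rpush p).obj M)) :
    Nonempty (ObjectProperty.lift DCoh.IsQCohD (qc X ⋙ DCoh.Lpull p ⋙ DCoh.LTensorCx K ⋙ DCoh.Rpush q)
        (fun M => h M.obj M.property) ⊣
      ObjectProperty.lift DCoh.IsQCohD (qc Y ⋙ DCoh.Lpull q ⋙ DCoh.LTensorCx N ⋙ DCoh.Rpush p)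
        (fun M => h' M.obj M.property)) := by
  obtain ⟨A⟩ := nonempty_lpull_rpush_adj p
  obtain ⟨A₁⟩ := nonempty_lift_adj (P := DCoh.IsQCohD (X := X)) (Q := DCoh.IsQCohD (X := U)) A
    (fun M hM => isQCohD_lpull _ hM) (fun M hM => isQCohD_rpush p hM)
  obtain ⟨A₂⟩ := nonempty_lift_adj (P := DCoh.IsQCohD (X := U)) (Q := DCoh.IsQCohD (X := U)) (DCoh.RSheafHomAdj K)
    (fun M hM => isQCohD_ltensor K (isQCohD_of_isPerfect hK) hM)
    (fun M hM => isQCohD_RSheafHom_of_isPerfect K hK M hM)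
  obtain ⟨Kd, ⟨eKd⟩⟩ : ∃ Kd : CochainComplex U.Modules ℤ, Nonempty (DCoh.toD _ Kd ≅
      (DCoh.RSheafHom K).obj (DCoh.inD _ (Coh.structureModule U))) :=
    ⟨_, ⟨DerivedCategory.Q.objObjPreimageIso _⟩⟩
  haveI := hasLTensorCx Kd
  obtain ⟨θ⟩ := nonempty_ltensor_dual_natIso K hK Kd eKd
  obtain ⟨t⟩ := nonempty_ltensorCx_ltensorCx E Kd N (eN ≪≫ (θ.app _).symm)
  let eι : (G ⋙ ObjectProperty.ι _) ⋙ DCoh.RSheafHom K ⋙ DCoh.Rpush p ≅
      qc Y ⋙ DCoh.Lpull q ⋙ DCoh.LTensorCx N ⋙ DCoh.Rpush p :=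
    Functor.isoWhiskerRight eG _ ≪≫ Iso.refl _ ≪≫
      Functor.isoWhiskerLeft _ (Functor.isoWhiskerLeft (DCoh.Lpull q)
        (Functor.isoWhiskerLeft _ (Functor.isoWhiskerRight θ.symm _) ≪≫
          (Functor.associator _ _ _).symm ≪≫ Functor.isoWhiskerRight t _))
  exact ⟨(((A₁.comp A₂).comp adj).ofNatIsoLeft (isoOfι (Iso.refl _))).ofNatIsoRight (isoOfι eι)⟩

/-- Endomorphisms of a relative dualizing complex are scalars. -/
theorem nonempty_RHom_self [IsNoetherian Y] (f : U ⟶ Y) [IsProper f] [Flat f]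
    [DCoh.HasRpush f] (hR : DCoh.RpushPreservesQCoh f) [DCoh.HasShriek f hR]
    (O : DCoh.DQCoh Y) (hO : O.obj ≅ DCoh.inD Y (Coh.structureModule Y))
    (W : CochainComplex U.Modules ℤ) [DCoh.HasLTensorCx W] [DCoh.HasRSheafHom W]
    (eW : DCoh.toD U W ≅ DCoh.dualizingCx f hR O) :
    Nonempty ((DCoh.RSheafHom W).obj (DCoh.toD U W) ≅ DCoh.inD U (Coh.structureModule U)) := by
  haveI : Dual3.IsSepFT f := ⟨inferInstance, inferInstance, inferInstance⟩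
  haveI : Dual3.IsSepFT (𝟙 Y) := ⟨inferInstance, inferInstance, inferInstance⟩
  let c : DEt.Compactification f := ⟨U, 𝟙 U, f, inferInstance, inferInstance, Category.id_comp f⟩
  haveI : DCoh.HasRpush c.fbar := ‹DCoh.HasRpush f›
  let E := (kRes U).obj W
  let eE : DCoh.toD U E ≅ DCoh.toD U W := (resQIso U).app W
  haveI := hasLTensorCx E
  haveI := hasRSheafHom_of_isKFlat E (isKFlat_kRes W)
  obtain ⟨i⟩ := AffineLift.nonempty_rho_id (𝟙 U) rfl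
  have key := (S3645.result Y U Y f (𝟙 _) f (Category.comp_id f) c hR (DCoh.shriek f hR) (DCoh.shriekAdj f hR)
    O ⟨hO⟩).2 E ⟨eE ≪≫ eW ≪≫ (i.app _).symm⟩
  let O₀ := (HomologicalComplex.single U.Modules (ComplexShape.up ℤ) 0).obj (Coh.structureModule U)
  let ψ := (flatCover U).ψ.app O₀
  haveI : QuasiIso ψ := (flatCover U).quasiIso_ψ O₀
  haveI := isIso_Q_map ψ inferInstance
  haveI := isIso_Q_map ((DCoh.tensorCx.map ψ).app E) (S0949.result E (isKFlat_kRes W) ψ)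
  obtain ⟨u⟩ := KExact.DualConn.nonempty_unitTensorIso U
  let υ : (DCoh.LTensorCx E).obj (DCoh.inD U (Coh.structureModule U)) ≅ DCoh.toD U E :=
    (DCoh.LTensorCx E).mapIso ((DerivedCategory.singleFunctorIsoCompQ U.Modules 0).app (Coh.structureModule U) ≪≫
      (asIso (DerivedCategory.Q.map ψ)).symm) ≪≫ ltensorCxIso E (isKFlat_kRes O₀) ≪≫
      asIso (DerivedCategory.Q.map ((DCoh.tensorCx.map ψ).app E)) ≪≫ DerivedCategory.Q.mapIso (u.app E)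
  haveI := key υ
  obtain ⟨c₁⟩ := nonempty_LTensorCx_congr_D eE
  let eR : DCoh.RSheafHom E ≅ DCoh.RSheafHom W :=
    ((DCoh.RSheafHomAdj E).ofNatIsoLeft c₁).rightAdjointUniq (DCoh.RSheafHomAdj W)
  exact ⟨((asIso (((DCoh.RSheafHomAdj E).homEquiv _ _) υ.hom)) ≪≫ (DCoh.RSheafHom E).mapIso eE ≪≫ eR.app _).symm⟩

/-- Tensoring with the structure module is the identity. -/
theorem nonempty_LTensorCx_unit (O₀ : CochainComplex U.Modules ℤ) [DCoh.HasLTensorCx O₀]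
    (sO : DCoh.toD U O₀ ≅ DCoh.inD U (Coh.structureModule U)) :
    Nonempty (DCoh.LTensorCx O₀ ≅ 𝟭 (DCoh.D U)) := by
  haveI := hasLpull (𝟙 U)
  haveI := hasRpush_scheme (𝟙 U)
  obtain ⟨t⟩ := nonempty_ltensor_pushStructure (𝟙 U) O₀
    ⟨sO ≪≫ (DerivedCategory.singleFunctor U.Modules 0).mapIso ((Scheme.Modules.pushforwardId U).app _).symm⟩
  obtain ⟨l⟩ := KExact.A1Shriek.nonempty_lpull_id (𝟙 U) rfl
  obtain ⟨r⟩ := nonempty_rpush_id U
  exact ⟨t ≪≫ Functor.isoWhiskerRight l _ ≪≫ Functor.leftUnitor _ ≪≫ r⟩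

/-- `RHom(O, M) ≅ M`. -/
theorem nonempty_RSheafHom_unit {O₀ : CochainComplex U.Modules ℤ} [DCoh.HasLTensorCx O₀] [DCoh.HasRSheafHom O₀]
    (sO : DCoh.inD U (Coh.structureModule U) ≅ DCoh.toD U O₀) (M : DCoh.D U) :
    Nonempty ((DCoh.RSheafHom O₀).obj M ≅ M) := by
  obtain ⟨t⟩ := nonempty_LTensorCx_unit O₀ sO.symm
  exact ⟨(((DCoh.RSheafHomAdj O₀).ofNatIsoLeft t).rightAdjointUniq Adjunction.id).app M⟩

/-- `RHom(K^∨ ⊗ W, W) ≅ K`. -/
theorem nonempty_RHom_twist (K : CochainComplex U.Modules ℤ) (hK : DCoh.IsPerfect (DCoh.toD U K))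
    [DCoh.HasLTensorCx K] [DCoh.HasRSheafHom K]
    (W : CochainComplex U.Modules ℤ) [DCoh.HasLTensorCx W] [DCoh.HasRSheafHom W]
    (eWW : (DCoh.RSheafHom W).obj (DCoh.toD U W) ≅ DCoh.inD U (Coh.structureModule U))
    (D : CochainComplex U.Modules ℤ) [DCoh.HasLTensorCx D] [DCoh.HasRSheafHom D]
    (eD : DCoh.toD U D ≅ (DCoh.LTensorCx W).obj ((DCoh.RSheafHom K).obj (DCoh.inD U (Coh.structureModule U)))) :
    Nonempty ((DCoh.RSheafHom D).obj (DCoh.toD U W) ≅ DCoh.toD U K) := by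
  obtain ⟨Kd₀, ⟨eKd₀⟩⟩ : ∃ Kd₀ : CochainComplex U.Modules ℤ, Nonempty (DCoh.toD _ Kd₀ ≅
      (DCoh.RSheafHom K).obj (DCoh.inD _ (Coh.structureModule U))) :=
    ⟨_, ⟨DerivedCategory.Q.objObjPreimageIso _⟩⟩
  let Kd := (kRes U).obj Kd₀
  let eKd : DCoh.toD U Kd ≅ (DCoh.RSheafHom K).obj (DCoh.inD U (Coh.structureModule U)) :=
    (resQIso U).app Kd₀ ≪≫ eKd₀
  haveI := hasLTensorCx Kd
  haveI := hasRSheafHom_of_isKFlat Kd (isKFlat_kRes Kd₀)
  obtain ⟨t⟩ := nonempty_ltensorCx_ltensorCx Kd W D (eD ≪≫ (DCoh.LTensorCx W).mapIso eKd.symm)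
  let eR : DCoh.RSheafHom W ⋙ DCoh.RSheafHom Kd ≅ DCoh.RSheafHom D :=
    (((DCoh.RSheafHomAdj Kd).comp (DCoh.RSheafHomAdj W)).ofNatIsoLeft t).rightAdjointUniq (DCoh.RSheafHomAdj D)
  let O₀ := (HomologicalComplex.single U.Modules (ComplexShape.up ℤ) 0).obj (Coh.structureModule U)
  haveI := hasLTensorCx O₀
  let K₀ := (kRes U).obj K
  let eK₀ : DCoh.toD U K₀ ≅ DCoh.toD U K := (resQIso U).app K
  haveI := hasLTensorCx K₀
  haveI := hasRSheafHom_of_isKFlat K₀ (isKFlat_kRes K)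
  obtain ⟨c₁⟩ := nonempty_LTensorCx_congr_D eK₀
  let eR₀ : DCoh.RSheafHom K₀ ≅ DCoh.RSheafHom K :=
    ((DCoh.RSheafHomAdj K₀).ofNatIsoLeft c₁).rightAdjointUniq (DCoh.RSheafHomAdj K)
  let sO := (DerivedCategory.singleFunctorIsoCompQ U.Modules 0).app (Coh.structureModule U)
  haveI : DCoh.HasRSheafHom O₀ := by
    let P := (kRes U).obj O₀
    haveI := hasLTensorCx P
    haveI := hasRSheafHom_of_isKFlat P (isKFlat_kRes O₀)
    obtain ⟨c⟩ := nonempty_LTensorCx_congr_D (P := P) (E := O₀) ((resQIso U).app O₀)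
    exact ((DCoh.RSheafHomAdj P).ofNatIsoLeft c).isLeftAdjoint
  obtain ⟨b⟩ := nonempty_ltensor_RSheafHom_iso K₀ O₀ (isKFlat_kRes K) (isPerfect_congr eK₀.symm hK) Kd
    ⟨eKd ≪≫ (eR₀.app _).symm ≪≫ (DCoh.RSheafHom K₀).mapIso sO⟩ (DCoh.inD U (Coh.structureModule U))
  obtain ⟨sw⟩ := KExact.nonempty_ltensor_swap K₀ O₀
  obtain ⟨u⟩ := KExact.DualConn.nonempty_unitTensorIso U
  haveI := isIso_Q_map ((flatCover U).ψ.app O₀) ((flatCover U).quasiIso_ψ O₀)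
  haveI := isIso_Q_map ((DCoh.tensorCx.map ((flatCover U).ψ.app O₀)).app K₀)
    (haveI := (flatCover U).quasiIso_ψ O₀; S0949.result K₀ (isKFlat_kRes K) _)
  let unitK : (DCoh.LTensorCx K₀).obj (DCoh.toD U O₀) ≅ DCoh.toD U K₀ :=
    (DCoh.LTensorCx K₀).mapIso (asIso (DerivedCategory.Q.map ((flatCover U).ψ.app O₀))).symm ≪≫
      ltensorCxIso K₀ (isKFlat_kRes O₀) ≪≫
      asIso (DerivedCategory.Q.map ((DCoh.tensorCx.map ((flatCover U).ψ.app O₀)).app K₀)) ≪≫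
      DerivedCategory.Q.mapIso (u.app K₀)
  obtain ⟨v⟩ := nonempty_RSheafHom_unit (O₀ := O₀) sO (DCoh.inD U (Coh.structureModule U))
  exact ⟨(eR.app _).symm ≪≫ (DCoh.RSheafHom Kd).mapIso eWW ≪≫ b.symm ≪≫
    (DCoh.LTensorCx K₀).mapIso (v ≪≫ sO) ≪≫ unitK ≪≫ eK₀⟩

end Groth.Agent.H9Misc
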