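import Mathlib

/-!
# Resolutions by a class of objects covering a kernel-stable class
-/

set_option autoImplicit false

universe v u

open CategoryTheory CategoryTheory.Limits

noncomputable section

namespace Groth.Agent.H9Misc.CoverRes

variable {C : Type u} [Category.{v} C] [Abelian C] (P Q : C → Prop)

open Classical in
/-- The next differential. -/
def next {X Y : C} (f : X ⟶ Y) : Σ' (Z : C) (d : Z ⟶ X), d ≫ f = 0 :=
  if h : ∃ (E : C) (π : E ⟶ kernel f), P E ∧ Q E ∧ Epi π then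
    ⟨h.choose, h.choose_spec.choose ≫ kernel.ι f, by rw [Category.assoc, kernel.condition, comp_zero]⟩
  else ⟨X, 0, zero_comp⟩

variable {P Q}

theorem next_spec {X Y : C} (f : X ⟶ Y) (h : ∃ (E : C) (π : E ⟶ kernel f), P E ∧ Q E ∧ Epi π) :
    P (next P Q f).1 ∧ Q (next P Q f).1 ∧ (ShortComplex.mk (next P Q f).2.1 f (next P Q f).2.2).Exact := by
  suffices ∀ t : Σ' (Z : C) (d : Z ⟶ X), d ≫ f = 0,
      t = ⟨h.choose, h.choose_spec.choose ≫ kernel.ι f, by rw [Category.assoc, kernel.condition, comp_zero]⟩ →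
      P t.1 ∧ Q t.1 ∧ (ShortComplex.mk t.2.1 f t.2.2).Exact from this _ (dif_pos h)
  rintro t rfl
  refine ⟨h.choose_spec.choose_spec.1, h.choose_spec.choose_spec.2.1, ?_⟩
  rw [ShortComplex.exact_iff_epi_kernel_lift]
  convert h.choose_spec.choose_spec.2.2
  rw [← cancel_mono (kernel.ι f)]
  simp

/-- If `P ∩ Q` covers `Q` and `Q` is stable under kernels, objects of `Q` have left resolutions in `P`. -/
theorem exists_res (hP : ∀ {A B : C}, (A ≅ B) → P A → P B) (hQ : ∀ {A B : C}, (A ≅ B) → Q A → Q B)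
    (hker : ∀ {A B : C} (f : A ⟶ B), Q A → Q B → Q (kernel f))
    (hcov : ∀ A, Q A → ∃ (E : C) (π : E ⟶ A), P E ∧ Q E ∧ Epi π) (M : C) (hM : Q M) :
    ∃ (K : ChainComplex C ℕ) (π : K ⟶ (ChainComplex.single₀ C).obj M), QuasiIso π ∧ ∀ n, P (K.X n) := by
  obtain ⟨E, p, hE, hEQ, hp⟩ := hcov M hM
  obtain ⟨h1P, h1Q, h1e⟩ := next_spec p (hcov _ (hker p hEQ hM))
  let K : ChainComplex C ℕ := ChainComplex.mk' E (next P Q p).1 (next P Q p).2.1 fun f => next P Q f
  have hK : ∀ n, (P (K.X n) ∧ Q (K.X n)) ∧ (P (K.X (n + 1)) ∧ Q (K.X (n + 1))) := by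
    intro n
    induction n with
    | zero => exact ⟨⟨hE, hEQ⟩, ⟨h1P, h1Q⟩⟩
    | succ n ih =>
      obtain ⟨hP', hQ', -⟩ := next_spec (K.d (n + 1) n) (hcov _ (hker _ ih.2.2 ih.1.2))
      let e := ChainComplex.mk'XIso E (next P Q p).1 (next P Q p).2.1 (fun f => next P Q f) n
      exact ⟨ih.2, hP e.symm hP', hQ e.symm hQ'⟩
  have hex : ∀ n, K.ExactAt (n + 1) := fun n => by
    obtain ⟨-, -, hn⟩ := next_spec (K.d (n + 1) n) (hcov _ (hker _ (hK n).2.2 (hK n).1.2))
    rw [HomologicalComplex.exactAt_iff' _ (n + 1 + 1) (n + 1) n (by simp) (by simp)]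
    refine ShortComplex.exact_of_iso ?_ hn
    exact ShortComplex.isoMk (ChainComplex.mk'XIso E (next P Q p).1 (next P Q p).2.1 (fun f => next P Q f) n).symm
      (Iso.refl _) (Iso.refl _)
      (by
        show (ChainComplex.mk'XIso E _ _ _ n).inv ≫ K.d (n + 1 + 1) (n + 1) = _ ≫ 𝟙 _
        rw [ChainComplex.mk'_d, Iso.inv_hom_id_assoc]
        exact (Category.comp_id _).symm)
      (by
        show 𝟙 _ ≫ K.d (n + 1) n = K.d (n + 1) n ≫ 𝟙 _
        rw [Category.id_comp, Category.comp_id])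
  have h10 : K.d 1 0 = (next P Q p).2.1 := ChainComplex.mk'_d_1_0 _ _ _ _
  refine ⟨K, (ChainComplex.toSingle₀Equiv _ _).symm ⟨p, by rw [h10]; exact (next P Q p).2.2⟩, ⟨fun n => ?_⟩,
    fun n => (hK n).1.1⟩
  cases n
  · rw [ChainComplex.quasiIsoAt₀_iff, ShortComplex.quasiIso_iff_of_zeros']
    · haveI := hp
      refine (ShortComplex.exact_and_epi_g_iff_of_iso ?_).2 ⟨h1e, hp⟩
      exact ShortComplex.isoMk (Iso.refl _) (Iso.refl _) (Iso.refl _)
        (by
          show 𝟙 _ ≫ (next P Q p).2.1 = K.d 1 0 ≫ 𝟙 _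
          rw [Category.id_comp, Category.comp_id, h10])
        (by
          change 𝟙 E ≫ p = _
          rw [Category.id_comp]
          simp [ChainComplex.toSingle₀Equiv, HomologicalComplex.mkHomToSingle]
          symm
          erw [Category.comp_id, Category.comp_id])
    all_goals rfl
  · rw [quasiIsoAt_iff_exactAt']
    · exact hex _
    · exact ChainComplex.exactAt_succ_single_obj _ _

end Groth.Agent.H9Misc.CoverRes
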