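import Mathlib
import Groth.Prelude.Def_W4c3irrattreebunCvg

/-! Covering gonalities only see the algebraic closure of the constants. -/

set_option linter.style.haveILetI false

universe u

open W4c3irrattreebun IntermediateField

namespace Groth.Agent.H9Misc.CvgClosure

variable {k K : Type u} [Field k] [Field K] [Algebra k K]

lemma sInf_eq {S T : Set ℕ} (h₁ : T ⊆ S) (h₂ : ∀ e ∈ S, ∃ e' ≤ e, e' ∈ T) : sInf S = sInf T := by
  rcases S.eq_empty_or_nonempty with rfl | hS
  · rw [Set.subset_empty_iff.1 h₁]
  · obtain ⟨e', he', hT⟩ := h₂ _ (Nat.sInf_mem hS)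
    exact le_antisymm (Nat.sInf_le (h₁ (Nat.sInf_mem ⟨e', hT⟩))) ((Nat.sInf_le hT).trans he')

theorem down {e : ℕ} (D : CovDiag.{u} (algebraicClosure k K) K e) :
    ∃ D' : CovDiag.{u} k K e, (Algebra.IsSeparable K D.KC → Algebra.IsSeparable K D'.KC) := by
  letI a₁ : Algebra k D.KC := ((algebraMap K D.KC).comp (algebraMap k K)).toAlgebra
  letI a₂ : Algebra k D.KB :=
    ((algebraMap (algebraicClosure k K) D.KB).comp (algebraMap k (algebraicClosure k K))).toAlgebra
  haveI t₁ : IsScalarTower k K D.KC := IsScalarTower.of_algebraMap_eq fun _ => rfl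
  haveI t₂ : IsScalarTower k D.KB D.KC := IsScalarTower.of_algebraMap_eq fun x => by
    show algebraMap K D.KC (algebraMap k K x) =
      algebraMap D.KB D.KC (algebraMap (algebraicClosure k K) D.KB (algebraMap k (algebraicClosure k K) x))
    exact ((@IsScalarTower.algebraMap_apply (algebraicClosure k K) K D.KC _ _ _ _ _ D.algkC D.towerK
      (algebraMap k (algebraicClosure k K) x))).symm.trans
      (@IsScalarTower.algebraMap_apply (algebraicClosure k K) D.KB D.KC _ _ _ _ _ D.algkC D.towerB
        (algebraMap k (algebraicClosure k K) x))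
  exact ⟨{ KC := D.KC, KB := D.KB, t := D.t, transc := D.transc, finrank_eq := D.finrank_eq }, fun h => h⟩

theorem up {e : ℕ} (D : CovDiag.{u} k K e) :
    ∃ e' ≤ e, ∃ D' : CovDiag.{u} (algebraicClosure k K) K e',
      (Algebra.IsSeparable K D.KC → Algebra.IsSeparable K D'.KC) := by
  let S : Set D.KC := Set.range (algebraMap (algebraicClosure k K) D.KC)
  have hS : ∀ x ∈ S, IsIntegral D.KB x := by
    rintro x ⟨c, rfl⟩
    have hc : IsIntegral k (c : K) := mem_algebraicClosure_iff'.1 c.2
    exact (hc.map (IsScalarTower.toAlgHom k K D.KC)).tower_top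
  let F : IntermediateField D.KB D.KC := IntermediateField.adjoin D.KB S
  haveI : Algebra.IsAlgebraic D.KB F := IntermediateField.isAlgebraic_adjoin hS
  letI a₂ : Algebra (algebraicClosure k K) F :=
    ((algebraMap (algebraicClosure k K) D.KC).codRestrict F.toSubalgebra fun c =>
      IntermediateField.subset_adjoin D.KB S ⟨c, rfl⟩).toAlgebra
  haveI t₂ : IsScalarTower (algebraicClosure k K) F D.KC := IsScalarTower.of_algebraMap_eq fun _ => rfl
  have htr : Transcendental F D.t := D.transc.extendScalars F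
  let M' : IntermediateField F D.KC := IntermediateField.adjoin F ({D.t} : Set D.KC)
  have hle : IntermediateField.adjoin D.KB ({D.t} : Set D.KC) ≤ M'.restrictScalars D.KB :=
    IntermediateField.adjoin_le_iff.2 fun x hx => IntermediateField.subset_adjoin F _ hx
  have hdvd : Module.finrank (M'.restrictScalars D.KB) D.KC ∣
      Module.finrank (IntermediateField.adjoin D.KB ({D.t} : Set D.KC)) D.KC :=
    IntermediateField.finrank_dvd_of_le_left hle
  have hpos : 0 < Module.finrank M' D.KC := by
    refine Nat.pos_of_ne_zero fun h0 => ?_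
    have h0' : Module.finrank (M'.restrictScalars D.KB) D.KC = 0 := h0
    rw [h0'] at hdvd
    have := Module.finrank_pos (R := IntermediateField.adjoin D.KB ({D.t} : Set D.KC)) (M := D.KC)
    omega
  haveI : FiniteDimensional M' D.KC := Module.finite_of_finrank_pos hpos
  refine ⟨Module.finrank M' D.KC, ?_,
    { KC := D.KC, KB := F, t := D.t, transc := htr, finiteT := ‹_›, finrank_eq := rfl }, fun h => h⟩
  conv_rhs => rw [← D.finrank_eq]
  exact Nat.le_of_dvd Module.finrank_pos hdvd

theorem cvg_eq : cvg k K = cvg (algebraicClosure k K) K := by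
  refine sInf_eq (fun e ⟨D⟩ => ⟨(down D).choose⟩) fun e ⟨D⟩ => ?_
  obtain ⟨e', he', D', -⟩ := up D
  exact ⟨e', he', ⟨D'⟩⟩

theorem scvg_eq : scvg k K = scvg (algebraicClosure k K) K := by
  refine sInf_eq (fun e ⟨D, hD⟩ => ?_) fun e ⟨D, hD⟩ => ?_
  · obtain ⟨D', h⟩ := down D
    exact ⟨D', h hD⟩
  · obtain ⟨e', he', D', h⟩ := up D
    exact ⟨e', he', D', h hD⟩

end Groth.Agent.H9Misc.CvgClosure
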