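import Groth.Agent.H9Misc.DRingAdic
import Groth.Agent.H9Misc.TBMod
import Groth.Agent.AdicLib.Basic
import Groth.Agent.LocalCrit.Complete
import Mathlib.RingTheory.AdicCompletion.LocalRing

/-! Derived complete modules with finite reduction over Noetherian rings. -/

universe u

namespace Groth.Agent.H9Misc.DRingAdicFin

open Groth.Agent.H9Misc.TBMod

variable {A : Type u} [CommRing A] [IsNoetherianRing A]

local notation "Cpl" I => AdicCompletion I A

lemma eq_of_apply_one (I : Ideal A) {N : Type u} [AddCommGroup N] [Module A N]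
    (hN : ∀ f ∈ I, TBm N f) {ψ ψ' : AdicCompletion I A →ₗ[A] N} (h : ψ 1 = ψ' 1) : ψ = ψ' :=
  (DRingAdic.bijective_comp_η I N ((DRingTel.isDerivedComplete_inD_iff I N).2 hN)).1
    (show ψ (AdicCompletion.of I A 1) = ψ' (AdicCompletion.of I A 1) by
      rw [show AdicCompletion.of I A 1 = (1 : AdicCompletion I A) from AdicCompletion.ext fun n => rfl]
      exact h)

lemma tbm_pi' {M : Type u} [AddCommGroup M] [Module A M] {n : ℕ} {f : A} (h : TBm M f) :
    TBm (Fin n → M) f := by
  refine ⟨fun x y hxy => funext fun k => funext fun j => ?_, fun y => ?_⟩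
  · exact congrFun (h.1 (a₁ := fun i => x i j) (a₂ := fun i => y i j)
      (funext fun i => congrFun (congrFun hxy i) j)) k
  · choose z hz using fun j => h.exists_seq fun i => y i j
    refine ⟨fun i j => z j i, funext fun i => funext fun j => ?_⟩
    show z j i - f • z j (i + 1) = y i j
    rw [hz j i, add_sub_cancel_right]

lemma isAdicComplete_congr (I : Ideal A) {M N : Type u} [AddCommGroup M] [Module A M] [AddCommGroup N]
    [Module A N] (e : M ≃ₗ[A] N) [IsAdicComplete I M] : IsAdicComplete I N := by
  rw [← AdicCompletion.of_bijective_iff]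
  have h : ⇑(AdicCompletion.of I N) ∘ ⇑e = ⇑(AdicCompletion.map I e.toLinearMap) ∘ ⇑(AdicCompletion.of I M) :=
    funext fun x => (AdicCompletion.map_of I e.toLinearMap x).symm
  refine (Function.Bijective.of_comp_iff _ e.bijective).1 ?_
  rw [h]
  exact (AdicCompletion.congr I e).bijective.comp (AdicCompletion.of_bijective_iff.2 ‹_›)

theorem main (I : Ideal A) (M : Type u) [AddCommGroup M] [Module A M] (h : ∀ f ∈ I, TBm M f)
    (hf : Module.Finite A (M ⧸ I • (⊤ : Submodule A M))) :
    IsAdicComplete I M ∧ Module.Finite (AdicCompletion I A) (AdicCompletion I M) := by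
  have hfg : I.FG := IsNoetherian.noetherian _
  obtain ⟨n, q, hq⟩ := Module.Finite.exists_fin' A (M ⧸ I • (⊤ : Submodule A M))
  choose x hx using fun i => Submodule.Quotient.mk_surjective (I • (⊤ : Submodule A M)) (q (Pi.single i 1))
  have hB : ∀ f ∈ I, TBm (AdicCompletion I A) f := fun f hfI =>
    @TBMod.tbm_of_isAdicComplete _ _ _ _ _ I (AdicCompletion.isAdicComplete hfg) _ hfI
  have hbij := DRingAdic.bijective_comp_η I M ((DRingTel.isDerivedComplete_inD_iff I M).2 h)
  choose φ hφ using fun i => hbij.2 (x i)
  have hof1 : AdicCompletion.of I A 1 = (1 : AdicCompletion I A) := AdicCompletion.ext fun n => rfl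
  let u : (Fin n → AdicCompletion I A) →ₗ[A] M := ∑ i, (φ i).comp (LinearMap.proj i)
  have hu : ∀ v, u v = ∑ i, φ i (v i) := fun v => by simp [u]
  have hF : ∀ f ∈ I, TBm (Fin n → AdicCompletion I A) f := fun f hfI => tbm_pi' (hB f hfI)
  have hsurj : Function.Surjective u := by
    obtain ⟨s, hs⟩ := hfg
    have hsub : Subsingleton (M ⧸ LinearMap.range u) := by
      refine TBMod.subsingleton_of_smul_top_eq_top s.toList _ (fun g hg => (TBm.ker_coker u
        (hF g (hs ▸ Ideal.subset_span (Finset.mem_toList.1 hg)))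
        (h g (hs ▸ Ideal.subset_span (Finset.mem_toList.1 hg)))).2) ?_
      rw [show Ideal.ofList s.toList = I by rw [← hs]; simp [Ideal.ofList]]
      refine eq_top_iff.2 fun z _ => ?_
      obtain ⟨m, rfl⟩ := Submodule.Quotient.mk_surjective _ z
      obtain ⟨a, ha⟩ := hq (Submodule.Quotient.mk m)
      let m' := u fun i => a i • (1 : AdicCompletion I A)
      have hmem : m - m' ∈ (I • ⊤ : Submodule A M) := by
        rw [← Submodule.Quotient.eq, ← ha, pi_eq_sum_univ' a, map_sum]
        simp only [m', hu, map_smul, ← hof1, hφ]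
        rw [show Submodule.Quotient.mk (∑ i, a i • x i) = (I • ⊤ : Submodule A M).mkQ (∑ i, a i • x i) from rfl,
          map_sum]
        refine Finset.sum_congr rfl fun i _ => ?_
        rw [LinearMap.map_smul, Submodule.mkQ_apply, hx]
      have h2 : Submodule.Quotient.mk (m - m') ∈ Submodule.map (LinearMap.range u).mkQ (I • ⊤) := ⟨_, hmem, rfl⟩
      rw [Submodule.map_smul'', Submodule.map_top, Submodule.range_mkQ, Submodule.Quotient.mk_sub,
        (Submodule.Quotient.mk_eq_zero _).2 (show m' ∈ LinearMap.range u from ⟨_, rfl⟩), sub_zero] at h2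
      exact h2
    intro m
    exact (Submodule.Quotient.mk_eq_zero _).1 (Subsingleton.elim (Submodule.Quotient.mk m : M ⧸ LinearMap.range u) 0)
  let R : Submodule (AdicCompletion I A) (Fin n → AdicCompletion I A) :=
    { carrier := {v | u v = 0}
      add_mem' := fun {a b} ha hb => by simp only [Set.mem_ofPred_eq, map_add] at *; rw [ha, hb, add_zero]
      zero_mem' := map_zero u
      smul_mem' := fun b v hv => by
        let θ : AdicCompletion I A →ₗ[A] M :=
          u.comp ((LinearMap.toSpanSingleton (AdicCompletion I A) (Fin n → AdicCompletion I A) v).restrictScalars A)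
        have : θ = 0 := eq_of_apply_one I h (by simpa [θ] using hv)
        exact LinearMap.congr_fun this b }
  haveI hNoeth : IsNoetherianRing (AdicCompletion I A) := by
    haveI := AdicCompletion.isAdicComplete_self I hfg
    let e : AdicCompletion I A ⧸ I.map (algebraMap A (AdicCompletion I A)) ≃+* A ⧸ I :=
      (Ideal.quotEquivOfEq (AdicCompletion.ker_evalOneₐ_eq_map I hfg).symm).trans
        (RingHom.quotientKerEquivOfSurjective (f := (AdicCompletion.evalOneₐ I).toRingHom)
          (AdicCompletion.evalOneₐ_surjective I))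
    haveI : IsNoetherianRing (AdicCompletion I A ⧸ I.map (algebraMap A (AdicCompletion I A))) :=
      isNoetherianRing_of_ringEquiv _ e.symm
    exact LocalCrit.isNoetherianRing_of_isAdicComplete (I.map (algebraMap A (AdicCompletion I A))) (hfg.map _)
  haveI := AdicCompletion.isAdicComplete_self I hfg
  haveI : IsAdicComplete (I.map (algebraMap A (AdicCompletion I A))) ((Fin n → AdicCompletion I A) ⧸ R) :=
    AdicLib.isAdicComplete_of_finite _ _
  haveI : IsAdicComplete I ((Fin n → AdicCompletion I A) ⧸ R) :=
    (IsAdicComplete.map_algebraMap_iff _ _).1 ‹_›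
  have hker : LinearMap.ker u = R.restrictScalars A := rfl
  let e : ((Fin n → AdicCompletion I A) ⧸ R) ≃ₗ[A] M :=
    (Submodule.Quotient.restrictScalarsEquiv A R).symm ≪≫ₗ (Submodule.quotEquivOfEq _ _ hker.symm) ≪≫ₗ
      u.quotKerEquivOfSurjective hsurj
  have hMc : IsAdicComplete I M := isAdicComplete_congr I e
  refine ⟨hMc, ?_⟩
  have hofbij := AdicCompletion.of_bijective_iff.2 hMc
  have hMhat : ∀ f ∈ I, TBm (AdicCompletion I M) f := fun f hfI =>
    TBMod.TBm.of_equiv (LinearEquiv.ofBijective _ hofbij) (h f hfI)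
  refine Module.Finite.of_surjective
    (Fintype.linearCombination (AdicCompletion I A) fun i => AdicCompletion.of I M (x i)) fun y => ?_
  obtain ⟨m, rfl⟩ := hofbij.2 y
  obtain ⟨v, rfl⟩ := hsurj m
  refine ⟨v, ?_⟩
  rw [Fintype.linearCombination_apply, hu, map_sum]
  refine Finset.sum_congr rfl fun i _ => ?_
  have := eq_of_apply_one I hMhat
    (ψ := (LinearMap.toSpanSingleton (AdicCompletion I A) (AdicCompletion I M)
      (AdicCompletion.of I M (x i))).restrictScalars A)
    (ψ' := (AdicCompletion.of I M).comp (φ i)) (by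
      simp only [LinearMap.coe_restrictScalars, LinearMap.toSpanSingleton_apply, one_smul, LinearMap.comp_apply]
      rw [← hφ i, hof1])
  exact LinearMap.congr_fun this (v i)

end Groth.Agent.H9Misc.DRingAdicFin
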