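import Mathlib
import Groth.Prelude.Def_DRing4
import Groth.Agent.TriCat.DerivedOfAdjunction
import Groth.Agent.TriCat.KInjRes

/-! The Hom complex and its right derived functor. -/

set_option linter.style.haveILetI false

universe u

open CategoryTheory CategoryTheory.Limits
open CochainComplex CochainComplex.HomComplex

namespace Groth.Agent.H9Misc.DRingHomCx

section Gen

variable {C : Type*} [Category* C] {K : Type*} [Category* K] {D : Type*} [Category* D]
  {H : Type*} [Category* H] (q : C ⥤ K) (Wq : MorphismProperty C) [q.IsLocalization Wq]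
  {L : C ⥤ D} {L'' : K ⥤ D} (e : q ⋙ L'' ≅ L) {F : C ⥤ H} {F' : K ⥤ H} (eF : q ⋙ F' ≅ F)
  {R : D ⥤ K} (adj : L'' ⊣ R)

/-- The unit of the derived functor `R ⋙ F'`. -/
def derUnit : F ⟶ L ⋙ R ⋙ F' :=
  eF.inv ≫ Functor.whiskerLeft q (Functor.whiskerRight adj.unit F') ≫
    Functor.whiskerRight e.hom (R ⋙ F')

lemma derUnit_app (X : C) : (derUnit q e eF adj).app X =
    eF.inv.app X ≫ F'.map (adj.unit.app (q.obj X)) ≫ F'.map (R.map (e.hom.app X)) := rfl

include Wq in
/-- Derived functors may be computed on an intermediate localization. -/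
lemma isRightDerivedFunctor_comp (W : MorphismProperty C) [L.IsLocalization W]
    (hq : ∀ Y : K, ∃ X, Nonempty (q.obj X ≅ Y)) :
    (R ⋙ F').IsRightDerivedFunctor (derUnit q e eF adj) W := by
  have := hq
  let β' : ∀ {G : D ⥤ H}, (F ⟶ L ⋙ G) → (F' ⟶ L'' ⋙ G) := fun {G} β =>
    letI : Localization.Lifting q Wq (q ⋙ F') F' := ⟨Iso.refl _⟩
    letI : Localization.Lifting q Wq (q ⋙ L'' ⋙ G) (L'' ⋙ G) := ⟨Iso.refl _⟩
    Localization.liftNatTrans q Wq (q ⋙ F') (q ⋙ L'' ⋙ G) F' (L'' ⋙ G)
      (eF.hom ≫ β ≫ Functor.whiskerRight e.inv G)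
  have hβ' : ∀ {G : D ⥤ H} (β : F ⟶ L ⋙ G) (X : C),
      (β' β).app (q.obj X) = eF.hom.app X ≫ β.app X ≫ G.map (e.inv.app X) := fun {G} β X => by
    refine (Localization.liftNatTrans_app _ _ _ _ _ _ _ X).trans ?_
    exact (Category.id_comp _).trans (Category.comp_id _)
  refine ⟨⟨⟨IsInitial.ofUniqueHom
    (fun E => StructuredArrow.homMk (TriCat.descAlong adj (β' E.hom)) ?_) fun E m => ?_⟩⟩⟩
  · ext X
    change (derUnit q e eF adj).app X ≫ (TriCat.descAlong adj (β' E.hom)).app (L.obj X) = E.hom.app X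
    rw [derUnit_app]
    have n : F'.map (R.map (e.hom.app X)) ≫ (TriCat.descAlong adj (β' E.hom)).app (L.obj X) =
        (TriCat.descAlong adj (β' E.hom)).app (L''.obj (q.obj X)) ≫ E.right.map (e.hom.app X) :=
      (TriCat.descAlong adj (β' E.hom)).naturality (e.hom.app X)
    rw [Category.assoc, Category.assoc, n]
    have h := TriCat.descAlong_fac adj (β' E.hom) (q.obj X)
    have h' : F'.map (adj.unit.app (q.obj X)) ≫
        (TriCat.descAlong adj (β' E.hom)).app (L''.obj (q.obj X)) ≫ E.right.map (e.hom.app X) =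
      eF.hom.app X ≫ E.hom.app X := by
      refine ((Category.assoc _ _ _).symm.trans (congrArg (· ≫ _) (h.trans (hβ' E.hom X)))).trans ?_
      simp only [Category.assoc]
      rw [← E.right.map_comp, Iso.inv_hom_id_app]
      simp
    exact (congrArg (eF.inv.app X ≫ ·) h').trans (Iso.inv_hom_id_app_assoc eF X _)
  · ext1
    refine TriCat.descAlong_uniq adj (β' E.hom) m.right fun Y => ?_
    obtain ⟨X, ⟨i⟩⟩ := hq Y
    let τ₁ : F' ⟶ L'' ⋙ E.right :=
      Functor.whiskerRight adj.unit F' ≫ Functor.whiskerLeft L'' m.right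
    suffices τ₁ = β' E.hom from congr_app this Y
    refine Localization.natTrans_ext q Wq fun X => ?_
    have hm : (derUnit q e eF adj).app X ≫ m.right.app (L.obj X) = E.hom.app X :=
      congr_app (StructuredArrow.w m) X
    have n : F'.map (R.map (e.hom.app X)) ≫ m.right.app (L.obj X) =
        m.right.app (L''.obj (q.obj X)) ≫ E.right.map (e.hom.app X) :=
      m.right.naturality (e.hom.app X)
    rw [derUnit_app, Category.assoc, Category.assoc, n] at hm
    rw [hβ']
    change F'.map (adj.unit.app (q.obj X)) ≫ m.right.app (L''.obj (q.obj X)) = _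
    rw [← hm]
    simp only [Category.assoc, Iso.hom_inv_id_app_assoc]
    congr 1
    have h2 : E.right.map (e.hom.app X) ≫ E.right.map (e.inv.app X) = 𝟙 _ := by
      rw [← E.right.map_comp, Iso.hom_inv_id_app, CategoryTheory.Functor.map_id]
    exact ((Category.assoc _ _ _).trans ((congrArg (m.right.app (L''.obj (q.obj X)) ≫ ·) h2).trans (Category.comp_id _))).symm

end Gen

attribute [local instance] HasDerivedCategory.standard

variable {A : Type u} [CommRing A] (K : DRing.Cx A)

/-- Homotopic maps induce homotopic maps of Hom complexes. -/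
noncomputable def homCxMapHomotopy {L L' : DRing.Cx A} {f g : L ⟶ L'} (h : Homotopy f g) :
    Homotopy (DRing.homCxMap K f) (DRing.homCxMap K g) where
  hom i j := if hij : j + 1 = i then
      ModuleCat.ofHom (X := Cochain K L i) (Y := Cochain K L' j)
        { toFun := fun z => z.comp (Cochain.ofHomotopy h) (show i + -1 = j by omega)
          map_add' := fun z z' => by simp
          map_smul' := fun a z => by simp } else 0
  zero i j hij := dif_neg hij
  comm i := by
    rw [dNext_eq _ (show (ComplexShape.up ℤ).Rel i (i + 1) from rfl),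
      prevD_eq _ (show (ComplexShape.up ℤ).Rel (i - 1) i from sub_add_cancel i 1),
      dif_pos rfl, dif_pos (sub_add_cancel i 1)]
    refine ModuleCat.hom_ext (LinearMap.ext fun (z : Cochain K L i) => ?_)
    change z.comp (Cochain.ofHom f) (add_zero i) =
      ((δ i (i + 1) z).comp (Cochain.ofHomotopy h) (show i + 1 + -1 = i by omega) +
        δ (i - 1) i (z.comp (Cochain.ofHomotopy h) (show i + -1 = i - 1 by omega))) +
      z.comp (Cochain.ofHom g) (add_zero i)
    rw [δ_comp z (Cochain.ofHomotopy h) (show i + -1 = i - 1 by omega) (i + 1) 0 i (by omega) rfl rfl,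
      δ_ofHomotopy]
    simp [Cochain.comp_sub]

/-- `Hom•(K, -)` on the homotopy category, followed by localization. -/
noncomputable def homH : HomotopyCategory (ModuleCat.{u} A) (ComplexShape.up ℤ) ⥤ Dual.D A :=
  CategoryTheory.Quotient.lift _
    (DRing.homCxFunctor K ⋙ HomotopyCategory.quotient _ (ComplexShape.up ℤ) ⋙ DerivedCategory.Qh)
    fun _ _ _ _ ⟨h⟩ => congrArg DerivedCategory.Qh.map
      (HomotopyCategory.eq_of_homotopy _ _ (homCxMapHomotopy K h))

/-- `homH` lifts `DRing.homCxQ`. -/
noncomputable def homHIso :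
    HomotopyCategory.quotient (ModuleCat.{u} A) (ComplexShape.up ℤ) ⋙ homH K ≅ DRing.homCxQ K :=
  CategoryTheory.Quotient.lift.isLift _ _ _ ≪≫
    Functor.isoWhiskerLeft (DRing.homCxFunctor K) (DerivedCategory.quotientCompQhIso (ModuleCat.{u} A))

lemma qh_isLeftAdjoint : (DerivedCategory.Qh (C := ModuleCat.{u} A)).IsLeftAdjoint :=
  TriCat.qh_isLeftAdjoint_of_exists_resolution fun M => by
    obtain ⟨I, f, hI, hf, -, -⟩ := TriCat.exists_kInjective_resolution'.{u} M
    exact ⟨I, f, hI, hf⟩

attribute [local instance] qh_isLeftAdjoint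

/-- The unit of `R ⋙ Hom•(K, -)`. -/
noncomputable def unit : DRing.homCxQ K ⟶ DerivedCategory.Q ⋙
    (DerivedCategory.Qh (C := ModuleCat.{u} A)).rightAdjoint ⋙ homH K :=
  derUnit (HomotopyCategory.quotient (ModuleCat.{u} A) (ComplexShape.up ℤ))
    (DerivedCategory.quotientCompQhIso (ModuleCat.{u} A)) (homHIso K)
    (Adjunction.ofIsLeftAdjoint DerivedCategory.Qh)

instance isRightDerivedFunctor :
    ((DerivedCategory.Qh (C := ModuleCat.{u} A)).rightAdjoint ⋙ homH K).IsRightDerivedFunctor (unit K)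
      (HomologicalComplex.quasiIso (ModuleCat.{u} A) (ComplexShape.up ℤ)) :=
  isRightDerivedFunctor_comp _
    (HomologicalComplex.homotopyEquivalences (ModuleCat.{u} A) (ComplexShape.up ℤ)) _ _ _ _
    fun Y => ⟨Y.as, ⟨Iso.refl _⟩⟩

/-- `RHom(K, -)` exists. -/
theorem hasRHomCx : DRing.HasRHomCx K :=
  Functor.HasRightDerivedFunctor.mk' _ (unit K)

lemma isIso_unit_app (I : DRing.Cx A) [I.IsKInjective] : IsIso ((unit K).app I) := by
  rw [unit, derUnit_app]
  haveI := TriCat.isIso_unit_of_isKInjective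
    (Adjunction.ofIsLeftAdjoint (DerivedCategory.Qh (C := ModuleCat.{u} A))) I
  infer_instance

/-- `RHom(K, -)` is computed on K-injective complexes. -/
theorem isIso_totalRightDerivedUnit [DRing.HasRHomCx K] (I : DRing.Cx A) [I.IsKInjective] :
    IsIso (((DRing.homCxQ K).totalRightDerivedUnit DerivedCategory.Q
      (HomologicalComplex.quasiIso (ModuleCat.{u} A) (ComplexShape.up ℤ))).app I) := by
  let W := HomologicalComplex.quasiIso (ModuleCat.{u} A) (ComplexShape.up ℤ)
  let η := (DRing.homCxQ K).totalRightDerivedUnit DerivedCategory.Q W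
  let i := Functor.rightDerivedUnique _ _ (unit K) η W
  haveI := isIso_unit_app K I
  have h : (unit K).app I ≫ i.hom.app (DerivedCategory.Q.obj I) = η.app I :=
    (Functor.rightDerivedNatTrans_app _ _ (unit K) η W (𝟙 _) I).trans (Category.id_comp _)
  change IsIso (η.app I)
  rw [← h]
  infer_instance

/-- `RHom(K, I) = Hom•(K, I)` for K-injective `I`. -/
noncomputable def isoOfKInjective [DRing.HasRHomCx K] (I : DRing.Cx A) [I.IsKInjective] :
    DRing.toD (DRing.homCx K I) ≅ (DRing.RHomCx K).obj (DerivedCategory.Q.obj I) :=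
  @asIso _ _ _ _ (((DRing.homCxQ K).totalRightDerivedUnit DerivedCategory.Q
      (HomologicalComplex.quasiIso (ModuleCat.{u} A) (ComplexShape.up ℤ))).app I)
    (isIso_totalRightDerivedUnit K I)

end Groth.Agent.H9Misc.DRingHomCx
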