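import Mathlib
import Groth.Agent.H9Misc.DRingHomCx
import Groth.Agent.CxLib.Homology

/-! Cohomology of the Hom complex: morphisms in the homotopy category. -/

set_option linter.style.haveILetI false

universe u

open CategoryTheory CategoryTheory.Limits
open CochainComplex CochainComplex.HomComplex

attribute [local instance] HasDerivedCategory.standard

namespace Groth.Agent.H9Misc.DRingHomCx

variable {A : Type u} [CommRing A] (K : DRing.Cx A)

/-- The quotient functor to the homotopy category. -/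
noncomputable abbrev qH (A : Type u) [CommRing A] := HomotopyCategory.quotient (ModuleCat.{u} A) (ComplexShape.up ℤ)

variable {K}

/-- A cocycle, as an element of `Cocycle`. -/
noncomputable def toCocycle {L : DRing.Cx A} {n : ℤ} (z : Cochain K L n)
    (hz : δ n (n + 1) z = 0) : Cocycle K L n := Cocycle.mk z (n + 1) rfl hz

/-- The class of a cocycle in the homotopy category. -/
noncomputable def cls {L : DRing.Cx A} {n : ℤ} (z : Cochain K L n) (hz : δ n (n + 1) z = 0) :
    (qH A).obj K ⟶ (qH A).obj (L⟦n⟧) :=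
  CohomologyClass.toHom (CohomologyClass.mk (toCocycle z hz))

lemma cls_eq_zero_iff {L : DRing.Cx A} {n : ℤ} (z : Cochain K L n) (hz : δ n (n + 1) z = 0) :
    cls z hz = 0 ↔ ∃ w : Cochain K L (n - 1), δ (n - 1) n w = z := by
  rw [cls, CohomologyClass.toHom_mk_eq_zero_iff, mem_coboundaries_iff _ (n - 1) (sub_add_cancel n 1)]
  rfl

lemma cls_surjective {L : DRing.Cx A} {n : ℤ} (φ : (qH A).obj K ⟶ (qH A).obj (L⟦n⟧)) :
    ∃ (z : Cochain K L n) (hz : δ n (n + 1) z = 0), cls z hz = φ := by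
  obtain ⟨c, rfl⟩ := (CohomologyClass.toHom_bijective K L n).2 φ
  obtain ⟨x, rfl⟩ := CohomologyClass.mk_surjective c
  exact ⟨x.1, Cocycle.δ_eq_zero x (n + 1), rfl⟩

lemma cls_sub {L : DRing.Cx A} {n : ℤ} (z z' : Cochain K L n) (hz : δ n (n + 1) z = 0)
    (hz' : δ n (n + 1) z' = 0) :
    cls (z - z') (by rw [δ_sub, hz, hz', sub_zero]) = cls z hz - cls z' hz' := by
  rw [cls, cls, cls, ← map_sub, ← CohomologyClass.mk_sub]
  rfl

lemma cls_comp {L L' : DRing.Cx A} (f : L ⟶ L') {n : ℤ} (z : Cochain K L n)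
    (hz : δ n (n + 1) z = 0) :
    cls (z.comp (Cochain.ofHom f) (add_zero n)) (by rw [δ_comp_ofHom, hz, Cochain.zero_comp]) =
      cls z hz ≫ (qH A).map (f⟦n⟧') := by
  rw [cls, cls, CohomologyClass.toHom_mk, CohomologyClass.toHom_mk, ← Functor.map_comp]
  congr 1

/-- A map inducing bijections on homotopy classes induces a quasi-isomorphism of Hom complexes. -/
theorem quasiIso_homCxMap {L L' : DRing.Cx A} (f : L ⟶ L')
    (h : ∀ n : ℤ, Function.Bijective
      (fun φ : (qH A).obj K ⟶ (qH A).obj (L⟦n⟧) => φ ≫ (qH A).map (f⟦n⟧'))) :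
    QuasiIso (DRing.homCxMap K f) := by
  refine ⟨fun n => ?_⟩
  rw [quasiIsoAt_iff_isIso_homologyMap]
  have hm : Mono (HomologicalComplex.homologyMap (DRing.homCxMap K f) n) := by
    rw [CxLib.mono_homologyMap_iff _ n (n - 1) (n + 1) (CochainComplex.prev ℤ n)
      (CochainComplex.next ℤ n)]
    rintro (x : Cochain K L n) (hx : δ n (n + 1) x = 0) ⟨(w : Cochain K L' (n - 1)), hw⟩
    change δ (n - 1) n w = x.comp (Cochain.ofHom f) (add_zero n) at hw
    have h0 : cls x hx ≫ (qH A).map (f⟦n⟧') = (0 : (qH A).obj K ⟶ _) ≫ (qH A).map (f⟦n⟧') := by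
      rw [← cls_comp, zero_comp, cls_eq_zero_iff]
      exact ⟨w, hw⟩
    exact (cls_eq_zero_iff x hx).1 ((h n).1 h0)
  have he : Epi (HomologicalComplex.homologyMap (DRing.homCxMap K f) n) := by
    rw [CxLib.epi_homologyMap_iff _ n (n - 1) (n + 1) (CochainComplex.prev ℤ n)
      (CochainComplex.next ℤ n)]
    rintro (y : Cochain K L' n) (hy : δ n (n + 1) y = 0)
    obtain ⟨φ, hφ⟩ := (h n).2 (cls y hy)
    obtain ⟨x, hx, rfl⟩ := cls_surjective φ
    refine ⟨x, hx, ?_⟩
    have hx' : δ n (n + 1) (x.comp (Cochain.ofHom f) (add_zero n)) = 0 := by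
      rw [δ_comp_ofHom, hx, Cochain.zero_comp]
    have h0 : cls (y - x.comp (Cochain.ofHom f) (add_zero n))
        (by rw [δ_sub, hy, hx', sub_zero]) = 0 := by
      rw [cls_sub _ _ hy hx', cls_comp f x hx, sub_eq_zero]
      exact hφ.symm
    exact (cls_eq_zero_iff _ _).1 h0
  exact isIso_of_mono_of_epi _

/-- The Hom complex is exact when there are no maps in the homotopy category. -/
theorem exactAt_homCx (L : DRing.Cx A) (n : ℤ)
    (h : ∀ φ : (qH A).obj K ⟶ (qH A).obj (L⟦n⟧), φ = 0) : (DRing.homCx K L).ExactAt n := by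
  rw [HomologicalComplex.exactAt_iff' _ (n - 1) n (n + 1) (CochainComplex.prev ℤ n)
    (CochainComplex.next ℤ n), ShortComplex.moduleCat_exact_iff]
  rintro (x : Cochain K L n) (hx : δ n (n + 1) x = 0)
  exact (cls_eq_zero_iff x hx).1 (h _)

theorem quasiIso_homCxMap_of_isKProjective [K.IsKProjective] {L L' : DRing.Cx A} (f : L ⟶ L')
    [QuasiIso f] : QuasiIso (DRing.homCxMap K f) := by
  refine quasiIso_homCxMap f fun n => ?_
  haveI : IsIso (DerivedCategory.Qh.map ((qH A).map (f⟦n⟧'))) :=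
    (NatIso.isIso_map_iff (DerivedCategory.quotientCompQhIso (ModuleCat.{u} A)) (f⟦n⟧')).2
      ((DerivedCategory.isIso_Q_map_iff_quasiIso _ _).2 inferInstance)
  refine (Function.Bijective.of_comp_iff'
    (CochainComplex.IsKProjective.Qh_map_bijective K ((qH A).obj (L'⟦n⟧))) _).1 ?_
  have e : (DerivedCategory.Qh.map ∘ fun φ : (qH A).obj K ⟶ (qH A).obj (L⟦n⟧) => φ ≫ (qH A).map (f⟦n⟧')) =
      (fun ψ => ψ ≫ DerivedCategory.Qh.map ((qH A).map (f⟦n⟧'))) ∘ DerivedCategory.Qh.map := by
    funext φ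
    exact Functor.map_comp _ _ _
  rw [e]
  exact Function.Bijective.comp ((asIso (DerivedCategory.Qh.map ((qH A).map (f⟦n⟧')))).homToEquiv.bijective)
    (CochainComplex.IsKProjective.Qh_map_bijective K _)

theorem isInvertedBy_of_isKProjective [K.IsKProjective] :
    (HomologicalComplex.quasiIso (ModuleCat.{u} A) (ComplexShape.up ℤ)).IsInvertedBy (DRing.homCxQ K) := by
  intro L L' f hf
  haveI : QuasiIso f := hf
  exact (DerivedCategory.isIso_Q_map_iff_quasiIso _ _).2 (quasiIso_homCxMap_of_isKProjective f)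

/-- `RHom(P, L) = Hom•(P, L)` for K-projective `P`. -/
theorem nonempty_iso_of_isKProjective [DRing.HasRHomCx K] [K.IsKProjective] (L : DRing.Cx A) :
    Nonempty ((DRing.RHomCx K).obj (DRing.toD L) ≅ DRing.toD (DRing.homCx K L)) := by
  haveI := Functor.isIso_of_isRightDerivedFunctor_of_inverts (DRing.RHomCx K)
    ((DRing.homCxQ K).totalRightDerivedUnit DerivedCategory.Q
      (HomologicalComplex.quasiIso (ModuleCat.{u} A) (ComplexShape.up ℤ))) isInvertedBy_of_isKProjective
  exact ⟨(asIso (((DRing.homCxQ K).totalRightDerivedUnit DerivedCategory.Q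
      (HomologicalComplex.quasiIso (ModuleCat.{u} A) (ComplexShape.up ℤ))).app L)).symm⟩

end Groth.Agent.H9Misc.DRingHomCx
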