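import Mathlib
import Groth.Agent.H9Misc.DRingHomCxHom

/-! The Hom complex in the first variable. -/

set_option linter.style.haveILetI false

universe u

open CategoryTheory CategoryTheory.Limits
open CochainComplex CochainComplex.HomComplex

attribute [local instance] HasDerivedCategory.standard

namespace Groth.Agent.H9Misc.DRingHomCx

variable {A : Type u} [CommRing A] {K K' : DRing.Cx A}

/-- Precomposition on Hom complexes. -/
noncomputable def homCxPre (g : K' ⟶ K) (L : DRing.Cx A) : DRing.homCx K L ⟶ DRing.homCx K' L where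
  f i := ModuleCat.ofHom (X := Cochain K L i) (Y := Cochain K' L i)
    { toFun := fun z => (Cochain.ofHom g).comp z (zero_add i)
      map_add' := fun z z' => by simp
      map_smul' := fun a z => by simp }
  comm' i j _ := by
    refine ModuleCat.hom_ext (LinearMap.ext fun (z : Cochain K L i) => ?_)
    change δ i j ((Cochain.ofHom g).comp z (zero_add i)) = (Cochain.ofHom g).comp (δ i j z) (zero_add j)
    exact δ_ofHom_comp g z j

lemma cls_pre (g : K' ⟶ K) {L : DRing.Cx A} {n : ℤ} (z : Cochain K L n) (hz : δ n (n + 1) z = 0) :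
    cls ((Cochain.ofHom g).comp z (zero_add n)) (by rw [δ_ofHom_comp, hz, Cochain.comp_zero]) =
      (qH A).map g ≫ cls z hz := by
  rw [cls, cls, CohomologyClass.toHom_mk, CohomologyClass.toHom_mk, ← Functor.map_comp]
  congr 1
  ext p : 1
  simp [toCocycle, Cocycle.equivHomShift, Cochain.rightShift_v _ n 0 (zero_add n) p p (add_zero p)
    (p + n) rfl]
  all_goals rfl

/-- Precomposition is a quasi-isomorphism as soon as it is bijective on homotopy classes. -/
theorem quasiIso_homCxPre (g : K' ⟶ K) (L : DRing.Cx A)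
    (h : ∀ n : ℤ, Function.Bijective
      (fun φ : (qH A).obj K ⟶ (qH A).obj (L⟦n⟧) => (qH A).map g ≫ φ)) :
    QuasiIso (homCxPre g L) := by
  refine ⟨fun n => ?_⟩
  rw [quasiIsoAt_iff_isIso_homologyMap]
  have hm : Mono (HomologicalComplex.homologyMap (homCxPre g L) n) := by
    rw [CxLib.mono_homologyMap_iff _ n (n - 1) (n + 1) (CochainComplex.prev ℤ n)
      (CochainComplex.next ℤ n)]
    rintro (x : Cochain K L n) (hx : δ n (n + 1) x = 0) ⟨(w : Cochain K' L (n - 1)), hw⟩
    change δ (n - 1) n w = (Cochain.ofHom g).comp x (zero_add n) at hw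
    have h0 : (qH A).map g ≫ cls x hx = (qH A).map g ≫ (0 : (qH A).obj K ⟶ _) := by
      rw [← cls_pre, comp_zero, cls_eq_zero_iff]
      exact ⟨w, hw⟩
    exact (cls_eq_zero_iff x hx).1 ((h n).1 h0)
  have he : Epi (HomologicalComplex.homologyMap (homCxPre g L) n) := by
    rw [CxLib.epi_homologyMap_iff _ n (n - 1) (n + 1) (CochainComplex.prev ℤ n)
      (CochainComplex.next ℤ n)]
    rintro (y : Cochain K' L n) (hy : δ n (n + 1) y = 0)
    obtain ⟨φ, hφ⟩ := (h n).2 (cls y hy)
    obtain ⟨x, hx, rfl⟩ := cls_surjective φ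
    refine ⟨x, hx, ?_⟩
    have hx' : δ n (n + 1) ((Cochain.ofHom g).comp x (zero_add n)) = 0 := by
      rw [δ_ofHom_comp, hx, Cochain.comp_zero]
    have h0 : cls (y - (Cochain.ofHom g).comp x (zero_add n))
        (by rw [δ_sub, hy, hx', sub_zero]) = 0 := by
      rw [cls_sub _ _ hy hx', cls_pre g x hx, sub_eq_zero]
      exact hφ.symm
    exact (cls_eq_zero_iff _ _).1 h0
  exact isIso_of_mono_of_epi _

/-- Precomposition by a quasi-isomorphism, with K-injective target. -/
theorem quasiIso_homCxPre_of_isKInjective (g : K' ⟶ K) [QuasiIso g] (L : DRing.Cx A)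
    [L.IsKInjective] : QuasiIso (homCxPre g L) := by
  refine quasiIso_homCxPre g L fun n => ?_
  haveI : IsIso (DerivedCategory.Qh.map ((qH A).map g)) :=
    (NatIso.isIso_map_iff (DerivedCategory.quotientCompQhIso (ModuleCat.{u} A)) g).2
      ((DerivedCategory.isIso_Q_map_iff_quasiIso _ _).2 inferInstance)
  refine (Function.Bijective.of_comp_iff'
    (CochainComplex.IsKInjective.Qh_map_bijective ((qH A).obj K') (L⟦n⟧)) _).1 ?_
  have e : (DerivedCategory.Qh.map ∘ fun φ : (qH A).obj K ⟶ (qH A).obj (L⟦n⟧) => (qH A).map g ≫ φ) =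
      (fun ψ => DerivedCategory.Qh.map ((qH A).map g) ≫ ψ) ∘ DerivedCategory.Qh.map := by
    funext φ
    exact Functor.map_comp _ _ _
  rw [e]
  exact Function.Bijective.comp
    ((asIso (DerivedCategory.Qh.map ((qH A).map g))).symm.homFromEquiv.bijective)
    (CochainComplex.IsKInjective.Qh_map_bijective _ _)

/-- `RHom(K, L) = Hom•(P, L)` for a K-projective resolution `P` of `K`. -/
theorem nonempty_iso_of_resolution {P : DRing.Cx A} [P.IsKProjective] (β : P ⟶ K) [QuasiIso β]
    [DRing.HasRHomCx K] (L : DRing.Cx A) :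
    Nonempty ((DRing.RHomCx K).obj (DRing.toD L) ≅ DRing.toD (DRing.homCx P L)) := by
  obtain ⟨I, i, hI, hi, -, -⟩ := TriCat.exists_kInjective_resolution'.{u} L
  haveI := hI
  haveI := hi
  haveI := quasiIso_homCxPre_of_isKInjective β I
  haveI := quasiIso_homCxMap_of_isKProjective (K := P) i
  exact ⟨(DRing.RHomCx K).mapIso (asIso (DerivedCategory.Q.map i)) ≪≫ (isoOfKInjective K I).symm ≪≫
    asIso (DerivedCategory.Q.map (homCxPre β I)) ≪≫
      (asIso (DerivedCategory.Q.map (DRing.homCxMap P i))).symm⟩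

end Groth.Agent.H9Misc.DRingHomCx
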