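import Mathlib
import Groth.Agent.H9Misc.DRingHomCxPre
import Groth.Agent.H9Misc.DRingHomTensor
import Groth.Agent.H9Misc.DRingTorLTensor

/-! Hom complexes out of K-flat complexes. -/

set_option linter.style.haveILetI false

universe u

open CategoryTheory CategoryTheory.Limits MonoidalCategory
open CochainComplex CochainComplex.HomComplex

attribute [local instance] HasDerivedCategory.standard

namespace Groth.Agent.H9Misc.DRingHomCx

open Groth.Agent.KFlatLib DRingLTensor

variable {A : Type u} [CommRing A]

lemma hom_eq_zero_of_exactAt {K L : DRing.Cx A} {n : ℤ} (h : (DRing.homCx K L).ExactAt n)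
    (φ : (qH A).obj K ⟶ (qH A).obj (L⟦n⟧)) : φ = 0 := by
  obtain ⟨z, hz, rfl⟩ := cls_surjective φ
  rw [HomologicalComplex.exactAt_iff' _ (n - 1) n (n + 1) (CochainComplex.prev ℤ n)
    (CochainComplex.next ℤ n), ShortComplex.moduleCat_exact_iff] at h
  exact (cls_eq_zero_iff z hz).2 (h z hz)

lemma exactAt_homCx_of_isKInjective {X I : DRing.Cx A} [I.IsKInjective] (hX : X.Acyclic) (n : ℤ) :
    (DRing.homCx X I).ExactAt n :=
  exactAt_homCx I n fun φ => by
    obtain ⟨f, rfl⟩ := (qH A).map_surjective φ
    obtain ⟨h⟩ := CochainComplex.IsKInjective.nonempty_homotopy_zero f hX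
    rw [HomotopyCategory.eq_of_homotopy _ _ h, Functor.map_zero]

/-- `Hom•(G, I)` is K-injective for K-flat `G` and K-injective `I`. -/
theorem isKInjective_homCx {G I : DRing.Cx A} (hG : IsKF G) [I.IsKInjective] :
    (DRing.homCx G I).IsKInjective where
  nonempty_homotopy_zero {X} f hX := by
    refine ⟨HomotopyCategory.homotopyOfEq _ _ ?_⟩
    have hXG : (X ⊗ G).Acyclic := fun i =>
      (HomologicalComplex.exactAt_iff_isZero_homology _ i).2
        (hG X (fun j => (HomologicalComplex.exactAt_iff_isZero_homology _ j).1 (hX j)) i)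
    have h0 : (DRing.homCx X (DRing.homCx G I)).ExactAt 0 :=
      (exactAt_homCx_of_isKInjective hXG 0).of_iso (DRingHomTensor.homTensorIso X G I).symm
    let ε := (shiftFunctorZero (DRing.Cx A) ℤ).app (DRing.homCx G I)
    rw [Functor.map_zero, ← cancel_mono ((qH A).map ε.inv), zero_comp]
    exact hom_eq_zero_of_exactAt h0 _

variable (A) in
/-- The single complex in degree zero. -/
noncomputable abbrev single₀ := HomologicalComplex.single (ModuleCat.{u} A) (ComplexShape.up ℤ) 0

lemma isKF_single (M : ModuleCat.{u} A) [Module.Flat A M] : IsKF ((single₀ A).obj M) := by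
  refine DRingTor.isKF_of_flat (b := 0) (fun i => ?_) fun i hi =>
    HomologicalComplex.isZero_single_obj_X _ _ _ _ (by omega)
  rcases eq_or_ne i 0 with rfl | hi
  · exact Module.Flat.of_linearEquiv
      (HomologicalComplex.singleObjXSelf (ComplexShape.up ℤ) 0 M).toLinearEquiv
  · haveI : Subsingleton (((single₀ A).obj M).X i) :=
      ModuleCat.subsingleton_of_isZero (HomologicalComplex.isZero_single_obj_X _ _ _ _ hi)
    exact inferInstance

/-- `M[0] ⊗ N[0] = (M ⊗ N)[0]`. -/
noncomputable def singleTensorIso (M N : ModuleCat.{u} A) :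
    ((single₀ A).obj M ⊗ (single₀ A).obj N) ≅ (single₀ A).obj (M ⊗ N) :=
  (singleIso (curriedTensor (ModuleCat.{u} A)) N).app ((single₀ A).obj M) ≪≫
    (HomologicalComplex.singleMapHomologicalComplex (tensorRight N) (ComplexShape.up ℤ) 0).app M

/-- `RHom(M, RHom(N, K)) = RHom(M ⊗ N, K)` for flat modules. -/
theorem nonempty_rhom_rhom_flat {M N T : ModuleCat.{u} A} [Module.Flat A N]
    (e : T ≅ M ⊗ N) [DRing.HasRHomCx ((single₀ A).obj M)] [DRing.HasRHomCx ((single₀ A).obj N)]
    [DRing.HasRHomCx ((single₀ A).obj T)] (K : Dual.D A) :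
    Nonempty ((DRing.RHomCx ((single₀ A).obj M)).obj ((DRing.RHomCx ((single₀ A).obj N)).obj K) ≅
      (DRing.RHomCx ((single₀ A).obj T)).obj K) := by
  let K₀ := DerivedCategory.Q.objPreimage K
  let e₀ : DerivedCategory.Q.obj K₀ ≅ K := DerivedCategory.Q.objObjPreimageIso K
  obtain ⟨I, i, hI, hi, -, -⟩ := TriCat.exists_kInjective_resolution'.{u} K₀
  haveI := hI
  haveI := hi
  let eI : K ≅ DerivedCategory.Q.obj I := e₀.symm ≪≫ asIso (DerivedCategory.Q.map i)
  haveI := isKInjective_homCx (I := I) (isKF_single N)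
  let g := (single₀ A).mapIso e ≪≫ (singleTensorIso M N).symm
  haveI := quasiIso_homCxPre_of_isKInjective g.hom I
  exact ⟨(DRing.RHomCx _).mapIso ((DRing.RHomCx _).mapIso eI ≪≫ (isoOfKInjective _ I).symm) ≪≫
    (isoOfKInjective ((single₀ A).obj M) (DRing.homCx ((single₀ A).obj N) I)).symm ≪≫
      DerivedCategory.Q.mapIso (DRingHomTensor.homTensorIso _ _ I) ≪≫
        asIso (DerivedCategory.Q.map (homCxPre g.hom I)) ≪≫
          isoOfKInjective _ I ≪≫ (DRing.RHomCx _).mapIso eI.symm⟩

/-- `A_fg = A_f ⊗ A_g`. -/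
noncomputable def awayTensorIso (f g : A) :
    ModuleCat.of A (Localization.Away (f * g)) ≅
      ModuleCat.of A (Localization.Away f) ⊗ ModuleCat.of A (Localization.Away g) :=
  haveI : IsLocalization.Away (algebraMap A (Localization.Away g) f)
      (TensorProduct A (Localization.Away g) (Localization.Away f)) := by
    have := IsLocalization.tensor (S := Localization.Away g) (A := Localization.Away f) (Submonoid.powers f)
    rw [Algebra.algebraMapSubmonoid_powers] at this
    exact this
  haveI : IsLocalization.Away (f * g) (TensorProduct A (Localization.Away g) (Localization.Away f)) :=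
    IsLocalization.Away.mul (Localization.Away g) _ g f
  ((IsLocalization.algEquiv (Submonoid.powers (f * g)) (Localization.Away (f * g))
      (TensorProduct A (Localization.Away g) (Localization.Away f))).toLinearEquiv.trans
    (TensorProduct.comm A _ _)).toModuleIso

end Groth.Agent.H9Misc.DRingHomCx
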