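import Mathlib
import Groth.Agent.H9Misc.DRingHomTensorKI
import Groth.Agent.H9Misc.DRingComplAmp
import Groth.Agent.H9Misc.BddInjective
import Groth.Prelude.Def_DTen

/-! `RHom(K, -)` and derived completion. -/

set_option linter.style.haveILetI false

universe u

open CategoryTheory CategoryTheory.Limits CategoryTheory.Pretriangulated
open CochainComplex CochainComplex.HomComplex
open scoped MonoidalCategory

attribute [local instance] HasDerivedCategory.standard

namespace Groth.Agent.H9Misc.DRingRHomCompl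

open DRingHomCx DRingCompl Groth.Agent.KFlatLib DRingLTensor

variable {A : Type u} [CommRing A]

lemma exists_resolution (X : Dual.D A) : ∃ (I : DRing.Cx A) (_ : I.IsKInjective)
    (_ : ∀ n, Injective (I.X n)), Nonempty (X ≅ DerivedCategory.Q.obj I) := by
  obtain ⟨I, i, hI, hi, -, hinj⟩ :=
    TriCat.exists_kInjective_resolution'.{u} (DerivedCategory.Q.objPreimage X)
  haveI := hi
  exact ⟨I, hI, hinj, ⟨(DerivedCategory.Q.objObjPreimageIso X).symm ≪≫ asIso (DerivedCategory.Q.map i)⟩⟩

/-- Morphisms into a shifted K-injective complex. -/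
lemma subsingleton_shift_iff_kInjective (X N : DRing.Cx A) [N.IsKInjective] (n : ℤ) :
    Subsingleton (DerivedCategory.Q.obj X ⟶ (DerivedCategory.Q.obj N)⟦n⟧) ↔
      (DRing.homCx X N).ExactAt n := by
  let e : ((qH A).obj X ⟶ (qH A).obj (N⟦n⟧)) ≃ (DerivedCategory.Q.obj X ⟶ (DerivedCategory.Q.obj N)⟦n⟧) :=
    (Equiv.ofBijective _ (CochainComplex.IsKInjective.Qh_map_bijective ((qH A).obj X) (N⟦n⟧))).trans
      (Iso.homCongr ((DerivedCategory.quotientCompQhIso (ModuleCat.{u} A)).app X)
        ((DerivedCategory.quotientCompQhIso (ModuleCat.{u} A)).app (N⟦n⟧) ≪≫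
          (DerivedCategory.Q.commShiftIso n).app N))
  refine ⟨fun h => exactAt_homCx N n fun φ => ?_, fun h => ⟨fun a b => e.symm.injective ?_⟩⟩
  · haveI := e.subsingleton
    exact Subsingleton.elim _ _
  · rw [hom_eq_zero_of_exactAt h (e.symm a), hom_eq_zero_of_exactAt h (e.symm b)]

lemma acyclic_homCx_into {X N : DRing.Cx A} [N.IsKInjective] (hN : N.Acyclic) (n : ℤ) :
    (DRing.homCx X N).ExactAt n :=
  exactAt_homCx N n fun φ => by
    have hN' : (N⟦n⟧).Acyclic := fun i => by
      rw [HomologicalComplex.exactAt_iff_isZero_homology]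
      exact ((HomologicalComplex.exactAt_iff_isZero_homology _ _).1 (hN (n + i))).of_iso
        (((HomologicalComplex.homologyFunctor (ModuleCat.{u} A) (ComplexShape.up ℤ) 0).shiftIso n i (n + i) rfl).app N)
    obtain ⟨h⟩ := CochainComplex.IsKInjective.nonempty_homotopy_zero (𝟙 (N⟦n⟧)) hN'
    have h0 : (qH A).map (𝟙 (N⟦n⟧)) = 0 := by
      rw [HomotopyCategory.eq_of_homotopy _ _ h, Functor.map_zero]
    rw [← Category.comp_id φ, ← (qH A).map_id, h0, comp_zero]

/-- `RHom(K, -)` preserves orthogonality to `A_g`. -/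
theorem cg_rhom (K : DRing.Cx A) [DRing.HasRHomCx K] (g : A) (Z : Dual.D A) (hZ : Cg g Z) :
    Cg g ((DRing.RHomCx K).obj Z) := by
  obtain ⟨J, hJ, -, ⟨eJ⟩⟩ := exists_resolution Z
  let P := (ringCover A).P.obj K
  haveI := (ringCover A).quasiIso_ψ K
  let β : P ⟶ K := (ringCover A).ψ.app K
  have hP : IsKF P := kFlat_ringRes K
  haveI := quasiIso_homCxPre_of_isKInjective β J
  haveI := isKInjective_homCx (I := J) hP
  let eR : (DRing.RHomCx K).obj Z ≅ DerivedCategory.Q.obj (DRing.homCx P J) :=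
    (DRing.RHomCx K).mapIso eJ ≪≫ (isoOfKInjective K J).symm ≪≫
      asIso (DerivedCategory.Q.map (homCxPre β J))
  let S := (single₀ A).obj (ModuleCat.of A (Localization.Away g))
  haveI : Module.Flat A (ModuleCat.of A (Localization.Away g)) :=
    IsLocalization.flat (Localization.Away g) (Submonoid.powers g)
  have hS : IsKF S := isKF_single _
  haveI := isKInjective_homCx (I := J) hS
  let eS : Dual.inD A (Localization.Away g) ≅ DerivedCategory.Q.obj S :=
    (DerivedCategory.singleFunctorIsoCompQ (ModuleCat.{u} A) 0).app _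
  intro n
  have hac : (DRing.homCx S J).Acyclic := fun i => by
    refine (subsingleton_shift_iff_kInjective S J i).1 ?_
    haveI := hZ i
    exact (Iso.homCongr eS.symm ((CategoryTheory.shiftFunctor (Dual.D A) i).mapIso eJ.symm)).subsingleton
  haveI : Subsingleton (DerivedCategory.Q.obj S ⟶
      (DerivedCategory.Q.obj (DRing.homCx P J))⟦n⟧) := by
    refine (subsingleton_shift_iff_kInjective _ _ n).2 ?_
    haveI := quasiIso_homCxPre_of_isKInjective (DTen.braidCx P S).hom J
    refine HomologicalComplex.ExactAt.of_iso ?_ (DRingHomTensor.homTensorIso S P J).symm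
    refine (DRingTorLTensor.exactAt_iff_of_quasiIso (homCxPre (DTen.braidCx P S).hom J) n).2 ?_
    exact (acyclic_homCx_into (X := P) hac n).of_iso (DRingHomTensor.homTensorIso P S J)
  exact (Iso.homCongr eS ((CategoryTheory.shiftFunctor (Dual.D A) n).mapIso eR)).subsingleton

lemma isKInjective_of_ses (S : ShortComplex (DRing.Cx A))
    (σ : ∀ n, (S.map (HomologicalComplex.eval _ _ n)).Splitting)
    [S.X₁.IsKInjective] [S.X₂.IsKInjective] : S.X₃.IsKInjective := by
  rw [CochainComplex.isKInjective_iff_rightOrthogonal]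
  exact (HomotopyCategory.subcategoryAcyclic (ModuleCat.{u} A)).rightOrthogonal.ext_of_isTriangulatedClosed₃
    (CochainComplex.trianglehOfDegreewiseSplit S σ)
    ((HomotopyCategory.distinguished_iff_iso_trianglehOfDegreewiseSplit _).2 ⟨S, σ, ⟨Iso.refl _⟩⟩)
    (CochainComplex.IsKInjective.rightOrthogonal S.X₁) (CochainComplex.IsKInjective.rightOrthogonal S.X₂)

lemma homCxMap_zero_comp (P : DRing.Cx A) (S : ShortComplex (DRing.Cx A)) :
    DRing.homCxMap P S.f ≫ DRing.homCxMap P S.g = 0 := by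
  refine HomologicalComplex.hom_ext _ _ fun i => ModuleCat.hom_ext (LinearMap.ext fun z => ?_)
  change ((show Cochain P S.X₁ i from z).comp (Cochain.ofHom S.f) (add_zero i)).comp
    (Cochain.ofHom S.g) (add_zero i) = 0
  rw [Cochain.comp_assoc_of_third_is_zero_cochain, ← Cochain.ofHom_comp, S.zero,
    Cochain.ofHom_zero, Cochain.comp_zero]

/-- Hom complexes of degreewise split short exact sequences. -/
lemma shortExact_homCx (P : DRing.Cx A) (S : ShortComplex (DRing.Cx A))
    (σ : ∀ n, (S.map (HomologicalComplex.eval _ _ n)).Splitting) :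
    (ShortComplex.mk (DRing.homCxMap P S.f) (DRing.homCxMap P S.g)
      (homCxMap_zero_comp P S)).ShortExact := by
  let r : ∀ q, S.X₂.X q ⟶ S.X₁.X q := fun q => (σ q).r
  let s' : ∀ q, S.X₃.X q ⟶ S.X₂.X q := fun q => (σ q).s
  have hid : ∀ q, r q ≫ S.f.f q + S.g.f q ≫ s' q = 𝟙 _ := fun q => (σ q).id
  have hfr : ∀ q, S.f.f q ≫ r q = 𝟙 _ := fun q => (σ q).f_r
  have hsg : ∀ q, s' q ≫ S.g.f q = 𝟙 _ := fun q => (σ q).s_g
  refine HomologicalComplex.shortExact_of_degreewise_shortExact _ fun i => ?_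
  refine { exact := ?_, mono_f := ?_, epi_g := ?_ }
  · refine (ShortComplex.moduleCat_exact_iff _).2 fun (z : Cochain P S.X₂ i) hz => ?_
    change z.comp (Cochain.ofHom S.g) (add_zero i) = 0 at hz
    refine ⟨(Cochain.mk fun p q h => z.v p q h ≫ r q : Cochain P S.X₁ i), ?_⟩
    apply Cochain.ext
    intro p q h
    have hz' : z.v p q h ≫ S.g.f q = 0 := by
      have := Cochain.congr_v hz p q h
      rwa [Cochain.comp_zero_cochain_v, Cochain.ofHom_v, Cochain.zero_v] at this
    change ((Cochain.mk fun p q h => z.v p q h ≫ r q : Cochain P S.X₁ i).comp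
      (Cochain.ofHom S.f) (add_zero i)).v p q h = z.v p q h
    rw [Cochain.comp_zero_cochain_v, Cochain.ofHom_v, Cochain.mk_v, Category.assoc,
      eq_sub_of_add_eq (hid q), Preadditive.comp_sub, Category.comp_id, reassoc_of% hz', zero_comp,
      sub_zero]
  · refine (ModuleCat.mono_iff_injective _).2 fun (z z' : Cochain P S.X₁ i) hz => ?_
    change z.comp (Cochain.ofHom S.f) (add_zero i) = z'.comp (Cochain.ofHom S.f) (add_zero i) at hz
    apply Cochain.ext
    intro p q h
    have := Cochain.congr_v hz p q h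
    rw [Cochain.comp_zero_cochain_v, Cochain.ofHom_v, Cochain.comp_zero_cochain_v, Cochain.ofHom_v] at this
    have h2 := congrArg (fun k => k ≫ r q) this
    simp only [Category.assoc, hfr, Category.comp_id] at h2
    exact h2
  · refine (ModuleCat.epi_iff_surjective _).2 fun (z : Cochain P S.X₃ i) => ?_
    refine ⟨(Cochain.mk fun p q h => z.v p q h ≫ s' q : Cochain P S.X₂ i), ?_⟩
    apply Cochain.ext
    intro p q h
    change ((Cochain.mk fun p q h => z.v p q h ≫ s' q : Cochain P S.X₂ i).comp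
      (Cochain.ofHom S.g) (add_zero i)).v p q h = z.v p q h
    rw [Cochain.comp_zero_cochain_v, Cochain.ofHom_v, Cochain.mk_v, Category.assoc, hsg,
      Category.comp_id]

/-- A degreewise split K-injective model of a morphism. -/
lemma exists_model {X Y : Dual.D A} (η : X ⟶ Y) :
    ∃ (S : ShortComplex (DRing.Cx A)) (_ : ∀ n, (S.map (HomologicalComplex.eval _ _ n)).Splitting)
      (eX : X ≅ DerivedCategory.Q.obj S.X₁) (eY : Y ≅ DerivedCategory.Q.obj S.X₂),
      S.X₁.IsKInjective ∧ S.X₂.IsKInjective ∧ η ≫ eY.hom = eX.hom ≫ DerivedCategory.Q.map S.f := by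
  obtain ⟨I, hI, hinjI, ⟨eX⟩⟩ := exists_resolution X
  obtain ⟨J, hJ, hinjJ, ⟨eY⟩⟩ := exists_resolution Y
  obtain ⟨ψ, hψ⟩ := BddInjective.lift_to_injective (eX.inv ≫ η ≫ eY.hom)
  let E := CochainComplex.mappingCone (𝟙 I)
  let J' : DRing.Cx A := J ⊞ E
  let f : I ⟶ J' := biprod.lift ψ (CochainComplex.mappingCone.inr (𝟙 I))
  haveI : E.IsKInjective := by
    rw [CochainComplex.isKInjective_iff_rightOrthogonal]
    exact (HomotopyCategory.subcategoryAcyclic (ModuleCat.{u} A)).rightOrthogonal.ext_of_isTriangulatedClosed₃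
      _ (HomotopyCategory.mappingCone_triangleh_distinguished (𝟙 I))
      (CochainComplex.IsKInjective.rightOrthogonal I) (CochainComplex.IsKInjective.rightOrthogonal I)
  haveI : J'.IsKInjective := by
    refine ⟨fun {L} k hL => ?_⟩
    let h₁ := CochainComplex.IsKInjective.homotopyZero (k ≫ biprod.fst) hL
    let h₂ := CochainComplex.IsKInjective.homotopyZero (k ≫ biprod.snd) hL
    refine ⟨(Homotopy.ofEq ?_).trans
      (((h₁.compRight (biprod.inl : J ⟶ J')).add (h₂.compRight (biprod.inr : E ⟶ J'))).trans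
        (Homotopy.ofEq (by simp)))⟩
    rw [Category.assoc, Category.assoc, ← Preadditive.comp_add, biprod.total, Category.comp_id]
  haveI : IsIso (DerivedCategory.Q.map (biprod.fst : J' ⟶ J)) := by
    let hid : Homotopy (𝟙 E) 0 := CochainComplex.IsKInjective.homotopyZero (𝟙 E) (fun i => by
      rw [HomologicalComplex.exactAt_iff_isZero_homology]
      exact IsZero.of_iso (((DerivedCategory.homologyFunctor (ModuleCat.{u} A) i).map_isZero
        ((Triangle.isZero₃_iff_isIso₁ _ (DerivedCategory.mappingCone_triangle_distinguished (𝟙 I))).2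
          (inferInstanceAs (IsIso (DerivedCategory.Q.map (𝟙 I))))))) ((DerivedCategory.homologyFunctorFactors (ModuleCat.{u} A) i).app E).symm)
    refine ⟨DerivedCategory.Q.map biprod.inl, ?_, ?_⟩
    · rw [← Functor.map_comp, ← CategoryTheory.Functor.map_id]
      refine DerivedCategory.Q_map_eq_of_homotopy _ ?_
      refine Homotopy.trans ?_ (Homotopy.ofEq (biprod.total (X := J) (Y := E)))
      exact (Homotopy.ofEq (add_zero (biprod.fst ≫ biprod.inl : J' ⟶ J')).symm).trans
        ((Homotopy.refl _).add (((hid.symm.compRight (biprod.inr : E ⟶ J')).compLeft biprod.snd).trans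
          (Homotopy.ofEq (by simp)) |> fun h => (Homotopy.ofEq (by simp)).trans h))
    · rw [← Functor.map_comp, biprod.inl_fst, CategoryTheory.Functor.map_id]
  have hf : ∀ n, Mono (f.f n) := fun n => by
    haveI : Mono ((CochainComplex.mappingCone.inr (𝟙 I)).f n) := by
      have := CochainComplex.mappingCone.inr_f_snd_v (𝟙 I) n
      exact (SplitMono.mk _ this).mono
    have h : f.f n ≫ (biprod.snd : J' ⟶ E).f n = (CochainComplex.mappingCone.inr (𝟙 I)).f n := by
      rw [← HomologicalComplex.comp_f, biprod.lift_snd]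
    exact mono_of_mono_fac h
  haveI : Mono f := HomologicalComplex.mono_of_mono_f f hf
  let S := ShortComplex.mk f (cokernel.π f) (cokernel.condition f)
  have hS : S.ShortExact := { exact := ShortComplex.exact_cokernel f }
  refine ⟨S, fun n => ?_, eX, eY ≪≫ (asIso (DerivedCategory.Q.map (biprod.fst : J' ⟶ J))).symm,
    hI, ‹J'.IsKInjective›, ?_⟩
  · haveI : Injective ((S.map (HomologicalComplex.eval _ _ n)).X₁) := hinjI n
    exact (hS.map_of_exact (HomologicalComplex.eval _ _ n)).splittingOfInjective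
  · have : DerivedCategory.Q.map f ≫ DerivedCategory.Q.map (biprod.fst : J' ⟶ J) = eX.inv ≫ η ≫ eY.hom := by
      rw [← Functor.map_comp, biprod.lift_fst, hψ]
    change η ≫ eY.hom ≫ inv _ = eX.hom ≫ DerivedCategory.Q.map f
    rw [← cancel_mono (DerivedCategory.Q.map (biprod.fst : J' ⟶ J)), Category.assoc, Category.assoc,
      Category.assoc, IsIso.inv_hom_id, Category.comp_id, this, Iso.hom_inv_id_assoc]

/-- `RHom(K, -)` preserves localness of third objects. -/
theorem exists_triangle (K : DRing.Cx A) [DRing.HasRHomCx K] {X Y W : Dual.D A} {η : X ⟶ Y}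
    {j : Y ⟶ W} {d : W ⟶ X⟦(1 : ℤ)⟧} (hT : Triangle.mk η j d ∈ distTriang _) {f : A}
    (hW : RlimSmul.Loc f W) :
    ∃ (W' : Dual.D A) (j' : (DRing.RHomCx K).obj Y ⟶ W')
      (d' : W' ⟶ ((DRing.RHomCx K).obj X)⟦(1 : ℤ)⟧),
      Triangle.mk ((DRing.RHomCx K).map η) j' d' ∈ distTriang _ ∧ RlimSmul.Loc f W' := by
  obtain ⟨S, σ, eX, eY, h₁, h₂, hc⟩ := exists_model η
  haveI := h₁
  haveI := h₂
  haveI := isKInjective_of_ses S σ
  have hSE : S.ShortExact := HomologicalComplex.shortExact_of_degreewise_shortExact _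
    fun n => (σ n).shortExact
  obtain ⟨eT, -, -⟩ := exists_iso_of_arrow_iso _ _ hT (DerivedCategory.triangleOfSES_distinguished hSE)
    (Arrow.isoMk eX eY hc.symm)
  have hW₃ : RlimSmul.Loc f (DerivedCategory.Q.obj S.X₃) := hW.of_iso f (Triangle.π₃.mapIso eT)
  let hH := shortExact_homCx K S σ
  have hTH := DerivedCategory.triangleOfSES_distinguished hH
  let η' := (DRing.homCxQ K).totalRightDerivedUnit DerivedCategory.Q
    (HomologicalComplex.quasiIso (ModuleCat.{u} A) (ComplexShape.up ℤ))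
  let rX : DRing.toD (DRing.homCx K S.X₁) ≅ (DRing.RHomCx K).obj X :=
    isoOfKInjective K S.X₁ ≪≫ (DRing.RHomCx K).mapIso eX.symm
  let rY : DRing.toD (DRing.homCx K S.X₂) ≅ (DRing.RHomCx K).obj Y :=
    isoOfKInjective K S.X₂ ≪≫ (DRing.RHomCx K).mapIso eY.symm
  have hr : DerivedCategory.Q.map (DRing.homCxMap K S.f) ≫ rY.hom = rX.hom ≫ (DRing.RHomCx K).map η := by
    have hn : DerivedCategory.Q.map (DRing.homCxMap K S.f) ≫ η'.app S.X₂ =
        η'.app S.X₁ ≫ (DRing.RHomCx K).map (DerivedCategory.Q.map S.f) := η'.naturality S.f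
    change DerivedCategory.Q.map (DRing.homCxMap K S.f) ≫ η'.app S.X₂ ≫ (DRing.RHomCx K).map eY.inv =
      (η'.app S.X₁ ≫ (DRing.RHomCx K).map eX.inv) ≫ (DRing.RHomCx K).map η
    refine ((Category.assoc _ _ _).symm.trans (congrArg (· ≫ _) hn)).trans ?_
    refine ((Category.assoc _ _ _).trans ?_).trans (Category.assoc _ _ _).symm
    refine congrArg (η'.app S.X₁ ≫ ·) ?_
    refine ((DRing.RHomCx K).map_comp _ _).symm.trans (Eq.trans ?_ ((DRing.RHomCx K).map_comp _ _))
    refine congrArg (DRing.RHomCx K).map ?_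
    rw [Iso.eq_inv_comp, ← Category.assoc, Iso.comp_inv_eq, hc]
  refine ⟨DerivedCategory.Q.obj (DRing.homCx K S.X₃),
    rY.inv ≫ DerivedCategory.Q.map (DRing.homCxMap K S.g),
    DerivedCategory.triangleOfSESδ hH ≫ rX.hom⟦(1 : ℤ)⟧', ?_, ?_⟩
  · refine isomorphic_distinguished _ hTH _ (Triangle.isoMk _ _ rX.symm rY.symm (Iso.refl _) ?_ ?_ ?_)
    · change (DRing.RHomCx K).map η ≫ rY.inv = rX.inv ≫ DerivedCategory.Q.map (DRing.homCxMap K S.f)
      rw [Iso.eq_inv_comp, ← Category.assoc, Iso.comp_inv_eq, hr]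
    · exact Category.comp_id _
    · change (DerivedCategory.triangleOfSESδ hH ≫ rX.hom⟦(1 : ℤ)⟧') ≫ rX.inv⟦(1 : ℤ)⟧' =
        𝟙 _ ≫ DerivedCategory.triangleOfSESδ hH
      refine (Category.assoc _ _ _).trans ((congrArg (DerivedCategory.triangleOfSESδ hH ≫ ·)
        ((Functor.map_comp _ _ _).symm.trans ((congrArg _ rX.hom_inv_id).trans
          (CategoryTheory.Functor.map_id _ _)))).trans ?_)
      exact (Category.comp_id _).trans (Category.id_comp _).symm
  · let α : S.X₃ ⟶ S.X₃ := f • 𝟙 S.X₃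
    have hQ : DerivedCategory.Q.map α = f • 𝟙 (DerivedCategory.Q.obj S.X₃) := by
      rw [Functor.map_smul, CategoryTheory.Functor.map_id]
    haveI : IsIso (DerivedCategory.Q.map α) := hQ ▸ hW₃
    haveI : IsIso (DerivedCategory.Qh.map ((qH A).map α)) :=
      (NatIso.isIso_map_iff (DerivedCategory.quotientCompQhIso (ModuleCat.{u} A)) α).2 inferInstance
    haveI : IsIso ((qH A).map α) := by
      have hb := CochainComplex.IsKInjective.Qh_map_bijective ((qH A).obj S.X₃) S.X₃
      obtain ⟨γ, hγ⟩ := hb.2 (inv (DerivedCategory.Qh.map ((qH A).map α)))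
      exact ⟨γ, hb.1 (by rw [Functor.map_comp, hγ, IsIso.hom_inv_id, CategoryTheory.Functor.map_id]),
        hb.1 (by rw [Functor.map_comp, hγ, IsIso.inv_hom_id, CategoryTheory.Functor.map_id])⟩
    have h4 : IsIso ((DRing.homCxQ K).map α) :=
      (NatIso.isIso_map_iff (homHIso K) α).1 (inferInstanceAs (IsIso ((homH K).map ((qH A).map α))))
    have h5 : DRing.homCxMap K α = f • 𝟙 (DRing.homCx K S.X₃) := by
      refine HomologicalComplex.hom_ext _ _ fun i => ModuleCat.hom_ext (LinearMap.ext fun z => ?_)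
      change (show Cochain K S.X₃ i from z).comp (Cochain.ofHom α) (add_zero i) =
        f • (show Cochain K S.X₃ i from z)
      apply Cochain.ext
      intro p q h
      simp [α]
    have h6 : DerivedCategory.Q.map (DRing.homCxMap K α) =
        f • 𝟙 (DerivedCategory.Q.obj (DRing.homCx K S.X₃)) := by
      rw [h5, Functor.map_smul, CategoryTheory.Functor.map_id]
    show IsIso (f • 𝟙 (DerivedCategory.Q.obj (DRing.homCx K S.X₃)))
    rw [← h6]
    exact h4

/-- Precomposition with a map with local cofibre. -/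
lemma bijective_of_loc {X Y W Z : Dual.D A} {η : X ⟶ Y} {j : Y ⟶ W} {d : W ⟶ X⟦(1 : ℤ)⟧}
    (hT : Triangle.mk η j d ∈ distTriang _) {f : A} (hW : RlimSmul.Loc f W) (hZ : Cg f Z) :
    Function.Bijective (fun φ : Y ⟶ Z => η ≫ φ) := by
  refine ⟨fun a b h => sub_eq_zero.1 ?_, fun x => ?_⟩
  · obtain ⟨k, hk⟩ := Triangle.yoneda_exact₂ _ hT (a - b)
      (show η ≫ (a - b) = 0 by rw [Preadditive.comp_sub, sub_eq_zero]; exact h)
    rw [hk, hom_eq_zero_of_loc hW hZ k]
    exact comp_zero
  · obtain ⟨q, hq⟩ := Triangle.yoneda_exact₂ _ (inv_rot_of_distTriang _ hT) x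
      (hom_eq_zero_of_loc (hW.shift f (-1)) hZ _)
    exact ⟨q, hq.symm⟩

/-- The properties of completion along a list, after applying `RHom(K, -)`. -/
theorem exists_refl_rhom (K : DRing.Cx A) [DRing.HasRHomCx K] (l : List A) (X : Dual.D A) :
    ∃ (Y : Dual.D A) (η : X ⟶ Y), Refl (fun Z => ∀ f ∈ l, Cg f Z) η ∧
      ∀ Z, (∀ f ∈ l, Cg f Z) →
        Function.Bijective (fun φ : (DRing.RHomCx K).obj Y ⟶ Z => (DRing.RHomCx K).map η ≫ φ) := by
  induction l with
  | nil =>
    refine ⟨X, 𝟙 X, ⟨fun f hf => absurd hf List.not_mem_nil, fun Z _ n =>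
      ⟨fun p q h => by simpa using h, fun q => ⟨q, Category.id_comp q⟩⟩⟩, fun Z _ => ?_⟩
    rw [show (fun φ : (DRing.RHomCx K).obj X ⟶ Z => (DRing.RHomCx K).map (𝟙 X) ≫ φ) = id from
      funext fun φ => by rw [CategoryTheory.Functor.map_id, Category.id_comp]; rfl]
    exact Function.bijective_id
  | cons f l ih =>
    obtain ⟨Y, η, hη, hηb⟩ := ih
    obtain ⟨Z, θ, hθ, -, hg, W, j, d, hT, hW⟩ := exists_refl_one f Y
    refine ⟨Z, η ≫ θ, Refl.comp (Cg f) hη hθ _ ?_ (fun V hV g hg' => hV g (List.mem_cons_of_mem _ hg'))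
      (fun V hV => hV f List.mem_cons_self), fun V hV => ?_⟩
    · intro g hg'
      rcases List.mem_cons.1 hg' with rfl | hg'
      · exact hθ.mem
      · exact hg g (hη.mem g hg')
    · obtain ⟨W', j', d', hT', hW'⟩ := exists_triangle K hT hW
      have h1 := bijective_of_loc hT' hW' (hV f List.mem_cons_self)
      have h2 := hηb V fun g hg' => hV g (List.mem_cons_of_mem _ hg')
      rw [show (fun φ : (DRing.RHomCx K).obj Z ⟶ V => (DRing.RHomCx K).map (η ≫ θ) ≫ φ) =
        (fun φ : (DRing.RHomCx K).obj Y ⟶ V => (DRing.RHomCx K).map η ≫ φ) ∘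
          (fun φ => (DRing.RHomCx K).map θ ≫ φ) from funext fun φ => by
            rw [Functor.map_comp, Category.assoc]; rfl]
      exact h2.comp h1

theorem derivedCompletion_rhom (I : Ideal A) (hI : I.FG) [DRing.HasDerivedCompletion I]
    (K : DRing.Cx A) [DRing.HasRHomCx K] (L : Dual.D A) :
    DRing.IsDerivedComplete I ((DRing.RHomCx K).obj ((DRing.derivedCompletion I).obj L).obj) ∧
      ∀ E : Dual.D A, DRing.IsDerivedComplete I E →
        Function.Bijective (fun φ : (DRing.RHomCx K).obj ((DRing.derivedCompletion I).obj L).obj ⟶ E =>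
          (DRing.RHomCx K).map (DRing.toDerivedCompletion I L) ≫ φ) := by
  obtain ⟨s, hs⟩ := hI
  refine ⟨fun f hf => cg_rhom K f _ (((DRing.derivedCompletion I).obj L).property f hf), fun E hE => ?_⟩
  obtain ⟨Y, η, hη, hb⟩ := exists_refl_rhom K s.toList L
  have hη' : Refl (DRing.IsDerivedComplete I) η :=
    ⟨(isDerivedComplete_iff_gens s hs Y).2 hη.mem,
      fun Z hZ n => hη.bij Z ((isDerivedComplete_iff_gens s hs Z).1 hZ) n⟩
  have hu := refl_unit (I := I) L
  let Lc := ((DRing.derivedCompletion I).obj L).obj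
  let e₀ := (shiftFunctorZero (Dual.D A) ℤ).app Lc
  let e₁ := (shiftFunctorZero (Dual.D A) ℤ).app Y
  obtain ⟨a, ha⟩ := (hη'.bij Lc hu.mem 0).2 (DRing.toDerivedCompletion I L ≫ e₀.inv)
  obtain ⟨b, hb'⟩ := (hu.bij Y hη'.mem 0).2 (η ≫ e₁.inv)
  dsimp only at ha hb'
  have hab : IsIso (a ≫ e₀.hom) := by
    refine ⟨b ≫ e₁.hom, ?_, ?_⟩
    · rw [← cancel_mono e₁.inv]
      refine hη'.cancel hη'.mem ?_
      simp [reassoc_of% ha, hb']
    · rw [← cancel_mono e₀.inv]
      refine hu.cancel hu.mem ?_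
      simp [reassoc_of% hb', ha]
  have hfac : DRing.toDerivedCompletion I L = η ≫ a ≫ e₀.hom := by
    rw [← Category.assoc, ha, Category.assoc, Iso.inv_hom_id, Category.comp_id]
  haveI := hab
  rw [show (fun φ : (DRing.RHomCx K).obj Lc ⟶ E =>
      (DRing.RHomCx K).map (DRing.toDerivedCompletion I L) ≫ φ) =
    (fun φ : (DRing.RHomCx K).obj Y ⟶ E => (DRing.RHomCx K).map η ≫ φ) ∘
      (fun φ => (DRing.RHomCx K).map (a ≫ e₀.hom) ≫ φ) from funext fun φ => by
        rw [hfac, Functor.map_comp, Category.assoc]; rfl]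
  exact (hb E ((isDerivedComplete_iff_gens s hs E).1 hE)).comp
    (asIso ((DRing.RHomCx K).map (a ≫ e₀.hom))).symm.homFromEquiv.bijective

end Groth.Agent.H9Misc.DRingRHomCompl
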