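import Mathlib
import Groth.Agent.H9Misc.DRingRHomCompl
import Groth.Agent.H9Misc.ExtCechTors

/-! Derived completion through the extended Čech complex. -/

set_option linter.style.haveILetI false

universe u

open CategoryTheory CategoryTheory.Limits CategoryTheory.Pretriangulated MonoidalCategory
open CochainComplex CochainComplex.HomComplex

attribute [local instance] HasDerivedCategory.standard

namespace Groth.Agent.H9Misc.DRingCechCompl

open DRingHomCx DRingCompl DRingRHomCompl Groth.Agent.KFlatLib DRingLTensor

variable {A : Type u} [CommRing A]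

lemma flat_locFunctor (S : Submonoid A) (M : ModuleCat.{u} A) [Module.Flat A M] :
    Module.Flat A ((DerCA.locFunctor S).obj M) := by
  haveI : Module.Flat A (Localization S) := IsLocalization.flat (Localization S) S
  exact Module.Flat.of_linearEquiv
    ((LocalizedModule.equivTensorProduct S M).restrictScalars A)

lemma flat_prod {R : Type u} [CommRing R] {M N : Type u} [AddCommGroup M] [Module R M]
    [AddCommGroup N] [Module R N] (hM : Module.Flat R M) (hN : Module.Flat R N) :
    Module.Flat R (M × N) := by
  rw [Module.Flat.iff_lTensor_preserves_injective_linearMap]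
  intro P Q _ _ _ _ f hf a b hab
  have key : ∀ (z : TensorProduct R (M × N) P),
      (LinearMap.fst R M N).rTensor Q (f.lTensor (M × N) z) =
        f.lTensor M ((LinearMap.fst R M N).rTensor P z) ∧
      (LinearMap.snd R M N).rTensor Q (f.lTensor (M × N) z) =
        f.lTensor N ((LinearMap.snd R M N).rTensor P z) := fun z => by
    induction z using TensorProduct.induction_on with
    | zero => simp
    | tmul => simp
    | add u v hu hv => simp [hu.1, hu.2, hv.1, hv.2]
  have rec' : ∀ z : TensorProduct R (M × N) P,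
      z = (LinearMap.inl R M N).rTensor P ((LinearMap.fst R M N).rTensor P z) +
        (LinearMap.inr R M N).rTensor P ((LinearMap.snd R M N).rTensor P z) := fun z => by
    induction z using TensorProduct.induction_on with
    | zero => simp
    | tmul m p => obtain ⟨m, n⟩ := m; simp [← TensorProduct.add_tmul]
    | add u v hu hv => rw [map_add, map_add, map_add, map_add, add_add_add_comm, ← hu, ← hv]
  have h₁ : (LinearMap.fst R M N).rTensor P a = (LinearMap.fst R M N).rTensor P b :=
    Module.Flat.lTensor_preserves_injective_linearMap f hf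
      ((key a).1.symm.trans ((congrArg _ hab).trans (key b).1))
  have h₂ : (LinearMap.snd R M N).rTensor P a = (LinearMap.snd R M N).rTensor P b :=
    Module.Flat.lTensor_preserves_injective_linearMap f hf
      ((key a).2.symm.trans ((congrArg _ hab).trans (key b).2))
  rw [rec' a, rec' b, h₁, h₂]

lemma flat_extCech (M : ModuleCat.{u} A) [Module.Flat A M] :
    ∀ fs : List A, DRing.TermwiseFlat (DerCA.extCech M fs)
  | [], i => by
    rcases eq_or_ne i 0 with rfl | hi
    · exact Module.Flat.of_linearEquiv
        (HomologicalComplex.singleObjXSelf (ComplexShape.up ℤ) 0 M).toLinearEquiv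
    · haveI : Subsingleton ((DerCA.extCech M ([] : List A)).X i) :=
        ModuleCat.subsingleton_of_isZero (HomologicalComplex.isZero_single_obj_X _ _ _ _ hi)
      exact inferInstance
  | g :: fs, i => by
    haveI := flat_extCech M fs i
    haveI := flat_extCech M fs (i - 1)
    haveI := flat_locFunctor (Submonoid.powers g) ((DerCA.extCech M fs).X (i - 1))
    let C := DerCA.extCech M fs
    let e := DerCA.mappingCoconeXIso (DerCA.locCxUnit (Submonoid.powers g) C) i ≪≫
      ModuleCat.biprodIsoProd (C.X i) (((DerCA.locCx (Submonoid.powers g)).obj C).X (i - 1))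
    haveI : Module.Flat A (((DerCA.locCx (Submonoid.powers g)).obj C).X (i - 1)) :=
      flat_locFunctor (Submonoid.powers g) (C.X (i - 1))
    haveI h1 : Module.Flat A (C.X i) := flat_extCech M fs i
    haveI : Module.Flat A (C.X i × ((DerCA.locCx (Submonoid.powers g)).obj C).X (i - 1)) :=
      flat_prod h1 (flat_locFunctor (Submonoid.powers g) (C.X (i - 1)))
    exact Module.Flat.of_linearEquiv e.toLinearEquiv

lemma isKF_extCech (fs : List A) : IsKF (DerCA.extCech (ModuleCat.of A A) fs) :=
  DRingTor.isKF_of_flat (flat_extCech _ fs) (b := (fs.length : ℤ))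
    fun i hi => ExtCechTors.isZero_X_gt _ fs i hi

lemma isZero_tensor_away {f : A} (N : ModuleCat.{u} A) (h : ExtCechTors.Tors f N) :
    IsZero ((tensorRight (ModuleCat.of A (Localization.Away f))).obj N) := by
  haveI : Subsingleton (TensorProduct A N (Localization.Away f)) := by
    refine subsingleton_of_forall_eq 0 fun t => ?_
    induction t using TensorProduct.induction_on with
    | zero => rfl
    | tmul x a =>
      obtain ⟨n, hn⟩ := h x
      obtain ⟨v, hv⟩ := (IsLocalization.Away.algebraMap_isUnit (S := Localization.Away f) f).pow n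
      have ha : a = f ^ n • ((↑v⁻¹ : Localization.Away f) * a) := by
        rw [Algebra.smul_def, map_pow, ← hv, ← mul_assoc, Units.mul_inv, one_mul]
      rw [ha, ← TensorProduct.smul_tmul, hn, TensorProduct.zero_tmul]
    | add a b ha hb => rw [ha, hb, add_zero]
  exact @ModuleCat.isZero_of_subsingleton _ _ (ModuleCat.of A (TensorProduct A N (Localization.Away f))) this

lemma acyclic_tensor_away {f : A} (C : DRing.Cx A) (h : ∀ q, ExtCechTors.Tors f (C.homology q)) :
    ((single₀ A).obj (ModuleCat.of A (Localization.Away f)) ⊗ C).Acyclic := by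
  haveI : Module.Flat A (ModuleCat.of A (Localization.Away f)) :=
    IsLocalization.flat (Localization.Away f) (Submonoid.powers f)
  let F := tensorRight (ModuleCat.of A (Localization.Away f))
  let L := ModuleCat.of A (Localization.Away f)
  intro q
  refine HomologicalComplex.ExactAt.of_iso ?_ (DTen.braidCx C ((single₀ A).obj L))
  refine HomologicalComplex.ExactAt.of_iso ?_
    ((singleIso (curriedTensor (ModuleCat.{u} A)) L).app C).symm
  rw [HomologicalComplex.exactAt_iff_isZero_homology]
  haveI : PreservesFiniteLimits (tensorRight L) := inferInstance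
  haveI : F.PreservesHomology := inferInstance
  exact (isZero_tensor_away _ (h q)).of_iso ((C.sc q).mapHomologyIso (tensorRight L))

lemma cg_homCx_extCech (fs : List A) {f : A} (hf : f ∈ fs) (I : DRing.Cx A) [I.IsKInjective] :
    Cg f (DerivedCategory.Q.obj (DRing.homCx (DerCA.extCech (ModuleCat.of A A) fs) I)) := by
  let C := DerCA.extCech (ModuleCat.of A A) fs
  haveI := isKInjective_homCx (I := I) (isKF_extCech fs)
  let S := (single₀ A).obj (ModuleCat.of A (Localization.Away f))
  let eS : Dual.inD A (Localization.Away f) ≅ DerivedCategory.Q.obj S :=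
    (DerivedCategory.singleFunctorIsoCompQ (ModuleCat.{u} A) 0).app _
  intro n
  have hac : (DRing.homCx S (DRing.homCx C I)).ExactAt n :=
    (exactAt_homCx_of_isKInjective
      (acyclic_tensor_away C (ExtCechTors.tors_extCech _ fs hf)) n).of_iso
      (DRingHomTensor.homTensorIso S C I).symm
  haveI := (subsingleton_shift_iff_kInjective S (DRing.homCx C I) n).2 hac
  exact (Iso.homCongr eS (Iso.refl _)).subsingleton

lemma fromSingleMk_smul {X : ModuleCat.{u} A} {I : DRing.Cx A} {n : ℤ} (a : A) (f : X ⟶ I.X n)
    (h : 0 + n = n) :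
    (Cochain.fromSingleMk (a • f) h : Cochain ((single₀ A).obj X) I n) =
      a • Cochain.fromSingleMk f h := by
  apply Cochain.ext
  intro p q hpq
  by_cases hp : p = 0
  · subst hp
    obtain rfl : q = n := by omega
    change (Cochain.fromSingleMk (a • f) h).v 0 q hpq = a • (Cochain.fromSingleMk f h).v 0 q hpq
    rw [Cochain.fromSingleMk_v, Cochain.fromSingleMk_v, Linear.comp_smul]
    rfl
  · change (Cochain.fromSingleMk (a • f) h).v p q hpq = a • (Cochain.fromSingleMk f h).v p q hpq
    rw [Cochain.fromSingleMk_v_eq_zero _ _ _ _ _ hp, Cochain.fromSingleMk_v_eq_zero _ _ _ _ _ hp,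
      smul_zero]

/-- `I → Hom•(A, I)`. -/
noncomputable def toHomSingle (I : DRing.Cx A) :
    I ⟶ DRing.homCx ((single₀ A).obj (ModuleCat.of A A)) I where
  f n := ModuleCat.ofHom (X := I.X n)
    (Y := Cochain ((single₀ A).obj (ModuleCat.of A A)) I n)
    { toFun := fun x => Cochain.fromSingleMk
        (ModuleCat.ofHom (LinearMap.toSpanSingleton A (I.X n) x)) (zero_add n)
      map_add' := fun x y => by
        have e : ModuleCat.ofHom (LinearMap.toSpanSingleton A (I.X n) (x + y)) =
            ModuleCat.ofHom (LinearMap.toSpanSingleton A (I.X n) x) +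
              ModuleCat.ofHom (LinearMap.toSpanSingleton A (I.X n) y) :=
          ModuleCat.hom_ext (LinearMap.toSpanSingleton_add x y)
        rw [e]
        exact Cochain.fromSingleMk_add _ _ _
      map_smul' := fun a x => by
        have e : ModuleCat.ofHom (LinearMap.toSpanSingleton A (I.X n) (a • x)) =
            a • ModuleCat.ofHom (LinearMap.toSpanSingleton A (I.X n) x) :=
          ModuleCat.hom_ext (LinearMap.toSpanSingleton_smul a x)
        rw [e]
        exact fromSingleMk_smul _ _ _ }
  comm' i j hij := by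
    refine ModuleCat.hom_ext (LinearMap.ext fun x => ?_)
    change δ i j (Cochain.fromSingleMk
        (ModuleCat.ofHom (LinearMap.toSpanSingleton A (I.X i) x)) (zero_add i)) =
      Cochain.fromSingleMk
        (ModuleCat.ofHom (LinearMap.toSpanSingleton A (I.X j) (I.d i j x))) (zero_add j)
    rw [Cochain.δ_fromSingleMk _ _ _ _ (zero_add j)]
    congr 1
    ext
    simp

lemma bijective_toHomSingle_f (I : DRing.Cx A) (n : ℤ) :
    Function.Bijective ((toHomSingle I).f n) := by
  let e : (ModuleCat.of A A ⟶ I.X n) ≃ I.X n :=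
    (ModuleCat.homEquiv (M := ModuleCat.of A A)).trans (LinearMap.ringLmapEquivSelf A A (I.X n)).toEquiv
  have h : ((toHomSingle I).f n : I.X n → (DRing.homCx _ I).X n) =
      (Cochain.fromSingleEquiv (zero_add n)).symm ∘ e.symm := rfl
  rw [h]
  exact (Cochain.fromSingleEquiv (zero_add n)).symm.bijective.comp e.symm.bijective

lemma isIso_toHomSingle (I : DRing.Cx A) : IsIso (toHomSingle I) := by
  haveI : ∀ n, IsIso ((toHomSingle I).f n) := fun n =>
    (ConcreteCategory.isIso_iff_bijective _).2 (bijective_toHomSingle_f I n)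
  exact HomologicalComplex.Hom.isIso_of_components _

lemma homCxPre_zero_comp (S : ShortComplex (DRing.Cx A)) (I : DRing.Cx A) :
    homCxPre S.g I ≫ homCxPre S.f I = 0 := by
  refine HomologicalComplex.hom_ext _ _ fun i => ModuleCat.hom_ext (LinearMap.ext fun z => ?_)
  change (Cochain.ofHom S.f).comp ((Cochain.ofHom S.g).comp (show Cochain S.X₃ I i from z) (zero_add i))
    (zero_add i) = 0
  rw [← Cochain.comp_assoc_of_first_is_zero_cochain, ← Cochain.ofHom_comp, S.zero,
    Cochain.ofHom_zero, Cochain.zero_comp]

/-- Hom complexes out of degreewise split short exact sequences. -/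
lemma shortExact_homCxPre (S : ShortComplex (DRing.Cx A))
    (σ : ∀ n, (S.map (HomologicalComplex.eval _ _ n)).Splitting) (I : DRing.Cx A) :
    (ShortComplex.mk (homCxPre S.g I) (homCxPre S.f I) (homCxPre_zero_comp S I)).ShortExact := by
  let r : ∀ q, S.X₂.X q ⟶ S.X₁.X q := fun q => (σ q).r
  let s' : ∀ q, S.X₃.X q ⟶ S.X₂.X q := fun q => (σ q).s
  have hid : ∀ q, r q ≫ S.f.f q + S.g.f q ≫ s' q = 𝟙 _ := fun q => (σ q).id
  have hfr : ∀ q, S.f.f q ≫ r q = 𝟙 _ := fun q => (σ q).f_r
  have hsg : ∀ q, s' q ≫ S.g.f q = 𝟙 _ := fun q => (σ q).s_g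
  refine HomologicalComplex.shortExact_of_degreewise_shortExact _ fun i => ?_
  refine { exact := ?_, mono_f := ?_, epi_g := ?_ }
  · refine (ShortComplex.moduleCat_exact_iff _).2 fun (z : Cochain S.X₂ I i) hz => ?_
    change (Cochain.ofHom S.f).comp z (zero_add i) = 0 at hz
    refine ⟨(Cochain.mk fun p q h => s' p ≫ z.v p q h : Cochain S.X₃ I i), ?_⟩
    apply Cochain.ext
    intro p q h
    have hz' : S.f.f p ≫ z.v p q h = 0 := by
      have := Cochain.congr_v hz p q h
      rwa [Cochain.zero_cochain_comp_v, Cochain.ofHom_v, Cochain.zero_v] at this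
    change ((Cochain.ofHom S.g).comp (Cochain.mk fun p q h => s' p ≫ z.v p q h : Cochain S.X₃ I i)
      (zero_add i)).v p q h = z.v p q h
    rw [Cochain.zero_cochain_comp_v, Cochain.ofHom_v, Cochain.mk_v, ← Category.assoc,
      eq_sub_of_add_eq' (hid p), Preadditive.sub_comp, Category.id_comp, Category.assoc, hz',
      comp_zero, sub_zero]
  · refine (ModuleCat.mono_iff_injective _).2 fun (z z' : Cochain S.X₃ I i) hz => ?_
    change (Cochain.ofHom S.g).comp z (zero_add i) = (Cochain.ofHom S.g).comp z' (zero_add i) at hz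
    apply Cochain.ext
    intro p q h
    have := Cochain.congr_v hz p q h
    rw [Cochain.zero_cochain_comp_v, Cochain.ofHom_v, Cochain.zero_cochain_comp_v, Cochain.ofHom_v] at this
    have h2 := congrArg (fun k => s' p ≫ k) this
    simp only [← Category.assoc, hsg, Category.id_comp] at h2
    exact h2
  · refine (ModuleCat.epi_iff_surjective _).2 fun (z : Cochain S.X₁ I i) => ?_
    refine ⟨(Cochain.mk fun p q h => r p ≫ z.v p q h : Cochain S.X₂ I i), ?_⟩
    apply Cochain.ext
    intro p q h
    change ((Cochain.ofHom S.f).comp (Cochain.mk fun p q h => r p ≫ z.v p q h : Cochain S.X₂ I i)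
      (zero_add i)).v p q h = z.v p q h
    rw [Cochain.zero_cochain_comp_v, Cochain.ofHom_v, Cochain.mk_v, ← Category.assoc, hfr,
      Category.id_comp]

lemma homCxPre_smul_id (g : A) (X I : DRing.Cx A) :
    homCxPre (g • 𝟙 X) I = g • 𝟙 (DRing.homCx X I) := by
  refine HomologicalComplex.hom_ext _ _ fun i => ModuleCat.hom_ext (LinearMap.ext fun z => ?_)
  change (Cochain.ofHom (g • 𝟙 X)).comp (show Cochain X I i from z) (zero_add i) =
    g • (show Cochain X I i from z)
  apply Cochain.ext
  intro p q h
  simp

lemma coconeInr_v {K L : DRing.Cx A} (φ : K ⟶ L) (n : ℤ) :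
    (CochainComplex.mappingCocone.inr φ).1.v (n + -1) n (by omega) =
      ((CategoryTheory.shiftFunctor (DRing.Cx A) (-1 : ℤ)).map
        (CochainComplex.mappingCone.inr φ)).f n := by
  refine ((Cochain.ofHom (CochainComplex.mappingCone.inr φ)).rightShift_v (-1 : ℤ) 1 (by omega)
    (n + -1) n (by omega) (n + -1) (add_zero _)).trans ?_
  rw [Cochain.ofHom_v]
  exact Category.comp_id _

/-- The sequence `L[-1] → cocone → K`. -/
noncomputable abbrev coconeSeq {K L : DRing.Cx A} (φ : K ⟶ L) : ShortComplex (DRing.Cx A) :=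
  ShortComplex.mk (X₁ := (CategoryTheory.shiftFunctor (DRing.Cx A) (-1 : ℤ)).obj L)
    (X₂ := CochainComplex.mappingCocone φ) (X₃ := K)
    ((CategoryTheory.shiftFunctor (DRing.Cx A) (-1 : ℤ)).map (CochainComplex.mappingCone.inr φ))
    (CochainComplex.mappingCocone.fst φ) (by
      ext n : 1
      have h := CochainComplex.mappingCocone.inr_v_fst_f φ (n + -1) n (by omega)
      rw [coconeInr_v] at h
      exact h)

lemma coconeSeq_f {K L : DRing.Cx A} (φ : K ⟶ L) (n : ℤ) :
    (coconeSeq φ).f.f n = (CochainComplex.mappingCocone.inr φ).1.v (n + -1) n (by omega) :=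
  (coconeInr_v φ n).symm

noncomputable def coconeSplitting {K L : DRing.Cx A} (φ : K ⟶ L) (n : ℤ) :
    ((coconeSeq φ).map (HomologicalComplex.eval _ _ n)).Splitting where
  r := (CochainComplex.mappingCocone.snd φ).v n (n + -1) rfl
  s := (CochainComplex.mappingCocone.inl φ).v n n (add_zero n)
  f_r := by
    change (coconeSeq φ).f.f n ≫ _ = _
    rw [coconeSeq_f]
    exact CochainComplex.mappingCocone.inr_v_snd_v φ _ _ _
  s_g := CochainComplex.mappingCocone.inl_v_fst_f φ n
  id := by
    change (CochainComplex.mappingCocone.snd φ).v n (n + -1) rfl ≫ (coconeSeq φ).f.f n + _ = _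
    rw [coconeSeq_f, add_comm]
    exact CochainComplex.mappingCocone.id_X φ n (n + -1) rfl

lemma isIso_smul_locFunctor (g : A) (M : ModuleCat.{u} A) :
    IsIso (g • 𝟙 ((DerCA.locFunctor (Submonoid.powers g)).obj M)) := by
  refine (ConcreteCategory.isIso_iff_bijective _).2 ?_
  exact (Module.End.isUnit_iff _).1 (IsLocalizedModule.map_units
    (S := Submonoid.powers g) (LocalizedModule.mkLinearMap (Submonoid.powers g) M) ⟨g, Submonoid.mem_powers g⟩)

/-- The map `I → Hom•(C, I)` is a reflection for all completions. -/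
theorem exists_bij (I : DRing.Cx A) [I.IsKInjective] : ∀ fs : List A,
    ∃ η : DerivedCategory.Q.obj I ⟶
        DerivedCategory.Q.obj (DRing.homCx (DerCA.extCech (ModuleCat.of A A) fs) I),
      ∀ Z, (∀ f ∈ fs, Cg f Z) → Function.Bijective (fun φ => η ≫ φ : _ → (DerivedCategory.Q.obj I ⟶ Z))
  | [] => by
    haveI := isIso_toHomSingle I
    exact ⟨DerivedCategory.Q.map (toHomSingle I), fun Z _ =>
      (asIso (DerivedCategory.Q.map (toHomSingle I))).symm.homFromEquiv.bijective⟩
  | g :: fs => by
    obtain ⟨η, hη⟩ := exists_bij I fs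
    let C := DerCA.extCech (ModuleCat.of A A) fs
    let φ := DerCA.locCxUnit (Submonoid.powers g) C
    let S := coconeSeq φ
    have hS := shortExact_homCxPre S (coconeSplitting φ) I
    have hT := DerivedCategory.triangleOfSES_distinguished hS
    have hW : RlimSmul.Loc g (DerivedCategory.Q.obj (DRing.homCx S.X₁ I)) := by
      haveI : ∀ i, IsIso ((g • 𝟙 S.X₁).f i) := fun i =>
        isIso_smul_locFunctor g (C.X (i + -1))
      haveI : IsIso (g • 𝟙 S.X₁) := HomologicalComplex.Hom.isIso_of_components _
      haveI := quasiIso_homCxPre_of_isKInjective (g • 𝟙 S.X₁) I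
      show IsIso (g • 𝟙 (DerivedCategory.Q.obj (DRing.homCx S.X₁ I)))
      rw [← CategoryTheory.Functor.map_id, ← Functor.map_smul, ← homCxPre_smul_id]
      infer_instance
    refine ⟨η ≫ DerivedCategory.Q.map (homCxPre S.g I), fun Z hZ => ?_⟩
    have h1 := bijective_of_loc hT hW (hZ g List.mem_cons_self)
    have h2 := hη Z fun f hf => hZ f (List.mem_cons_of_mem _ hf)
    have h3 := h2.comp h1
    refine ⟨fun a b h => h3.1 ?_, fun y => ?_⟩
    · exact ((Category.assoc _ _ _).symm.trans h).trans (Category.assoc _ _ _)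
    · obtain ⟨x, hx⟩ := h3.2 y
      exact ⟨x, (Category.assoc _ _ _).trans hx⟩

/-- Derived completion is `RHom` out of the extended Čech complex. -/
theorem nonempty_iso (fs : List A) (I : Ideal A) (hI : Ideal.span {x : A | x ∈ fs} = I)
    [DRing.HasDerivedCompletion I] [DRing.HasRHomCx (DerCA.extCech (ModuleCat.of A A) fs)]
    (K : Dual.D A) :
    Nonempty (((DRing.derivedCompletion I).obj K).obj ≅
      (DRing.RHomCx (DerCA.extCech (ModuleCat.of A A) fs)).obj K) := by
  classical
  let C := DerCA.extCech (ModuleCat.of A A) fs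
  obtain ⟨J, hJ, -, ⟨eJ⟩⟩ := exists_resolution K
  obtain ⟨η, hη⟩ := exists_bij J fs
  let eR : DRing.toD (DRing.homCx C J) ≅ (DRing.RHomCx C).obj K :=
    isoOfKInjective C J ≪≫ (DRing.RHomCx C).mapIso eJ.symm
  have hs : Ideal.span (fs.toFinset : Set A) = I := by
    rw [← hI]
    congr 1
    ext x
    simp
  have hmem : DRing.IsDerivedComplete I (DerivedCategory.Q.obj (DRing.homCx C J)) :=
    (isDerivedComplete_iff_gens fs.toFinset hs _).2 fun f hf =>
      cg_homCx_extCech fs (by simpa using hf) J
  have hrefl : Refl (DRing.IsDerivedComplete I) (eJ.hom ≫ η) := by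
    refine ⟨hmem, fun Z hZ n => ?_⟩
    have hb := hη (Z⟦n⟧) fun f hf =>
      (isDerivedComplete_iff_gens fs.toFinset hs _).1 (isDerivedComplete_shift hZ n) f (by simpa using hf)
    have h3 := eJ.symm.homFromEquiv.bijective.comp hb
    refine ⟨fun a b h => h3.1 ?_, fun y => ?_⟩
    · exact ((Category.assoc _ _ _).symm.trans h).trans (Category.assoc _ _ _)
    · obtain ⟨x, hx⟩ := h3.2 y
      exact ⟨x, (Category.assoc _ _ _).trans hx⟩
  obtain ⟨e⟩ := (refl_unit K).exists_iso hrefl
  exact ⟨e ≪≫ eR⟩

end Groth.Agent.H9Misc.DRingCechCompl
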