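import Mathlib
import Groth.Prelude.Def_DRing2
import Groth.Agent.H9Misc.DRingHomTensor

/-! Dualisable modules and complexes of modules. -/

set_option linter.style.haveILetI false

universe u

open CategoryTheory CategoryTheory.Limits MonoidalCategory

namespace Groth.Agent.H9Misc.DRingExactPairing

variable {A : Type u} [CommRing A]

lemma finite_projective_of_range {M : Type u} [AddCommGroup M] [Module A M]
    (h : LinearMap.id ∈ LinearMap.range (dualTensorHom A M M)) :
    Module.Finite A M ∧ Module.Projective A M := by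
  obtain ⟨t, ht⟩ := h
  obtain ⟨S, rfl⟩ := TensorProduct.exists_finset t
  let f : M →ₗ[A] (S → A) := LinearMap.pi fun i => (i : Module.Dual A M × M).1
  let g : (S → A) →ₗ[A] M := Fintype.linearCombination A fun i : S => (i : Module.Dual A M × M).2
  have hgf : g ∘ₗ f = LinearMap.id := by
    rw [← ht, map_sum]
    refine LinearMap.ext fun m => ?_
    simp only [g, f, LinearMap.comp_apply, Fintype.linearCombination_apply, LinearMap.sum_apply,
      dualTensorHom_apply, LinearMap.pi_apply]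
    exact Finset.sum_coe_sort S (fun i => i.1 m • i.2)
  exact ⟨Module.Finite.of_surjective g fun m => ⟨f m, LinearMap.congr_fun hgf m⟩,
    Module.Projective.of_split f g hgf⟩

/-- Dualisable modules are finite projective. -/
theorem finite_projective_module (M N : ModuleCat.{u} A) [ExactPairing M N] :
    (Module.Finite A M ∧ Module.Projective A M) ∧ (Module.Finite A N ∧ Module.Projective A N) := by
  obtain ⟨S, hS⟩ := TensorProduct.exists_finset ((η_ M N).hom (1 : A))
  refine ⟨finite_projective_of_range ?_, finite_projective_of_range ?_⟩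
  · refine ⟨∑ i ∈ S, ((ε_ M N).hom ∘ₗ TensorProduct.mk A N M i.2) ⊗ₜ i.1, ?_⟩
    rw [map_sum]
    refine LinearMap.ext fun m => ?_
    have h := congrArg (fun k => (ρ_ M).hom.hom (k.hom ((1 : A) ⊗ₜ[A] m)))
      (ExactPairing.evaluation_coevaluation M N)
    simp only [ModuleCat.hom_comp, LinearMap.comp_apply] at h
    have h1 : (η_ M N ▷ M).hom ((1 : A) ⊗ₜ[A] m) = ((η_ M N).hom (1 : A)) ⊗ₜ[A] m := rfl
    erw [h1, hS, TensorProduct.sum_tmul, map_sum, map_sum, map_sum] at h
    rw [LinearMap.sum_apply]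
    refine Eq.trans ?_ (h.trans ?_)
    · exact Finset.sum_congr rfl fun i _ => rfl
    · erw [TensorProduct.lid_tmul, one_smul]
      exact one_smul A m
  · refine ⟨∑ i ∈ S, ((ε_ M N).hom ∘ₗ (TensorProduct.mk A N M).flip i.1) ⊗ₜ i.2, ?_⟩
    rw [map_sum]
    refine LinearMap.ext fun n => ?_
    have h := congrArg (fun k => (λ_ N).hom.hom (k.hom (n ⊗ₜ[A] (1 : A))))
      (ExactPairing.coevaluation_evaluation M N)
    simp only [ModuleCat.hom_comp, LinearMap.comp_apply] at h
    have h1 : (N ◁ η_ M N).hom (n ⊗ₜ[A] (1 : A)) = n ⊗ₜ[A] ((η_ M N).hom (1 : A)) := rfl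
    erw [h1, hS, TensorProduct.tmul_sum, map_sum, map_sum, map_sum] at h
    rw [LinearMap.sum_apply]
    refine Eq.trans ?_ (h.trans ?_)
    · exact Finset.sum_congr rfl fun i _ => rfl
    · erw [TensorProduct.rid_tmul, one_smul]
      exact one_smul A n

open DRingHomTensor

/-- The generator of the unit complex. -/
noncomputable def unitElt (A : Type u) [CommRing A] : (𝟙_ (DRing.Cx A)).X 0 :=
  (HomologicalComplex.singleObjXSelf (ComplexShape.up ℤ) 0 (𝟙_ (ModuleCat.{u} A))).inv.hom (1 : A)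

lemma exists_smul_unitElt (s : (𝟙_ (DRing.Cx A)).X 0) :
    s = ((HomologicalComplex.singleObjXSelf (ComplexShape.up ℤ) 0 (𝟙_ (ModuleCat.{u} A))).hom.hom s : A) •
      unitElt A := by
  let e := (HomologicalComplex.singleObjXSelf (ComplexShape.up ℤ) 0 (𝟙_ (ModuleCat.{u} A))).toLinearEquiv
  apply e.injective
  rw [map_smul]
  exact ((congrArg (e s • ·) (e.apply_symm_apply (1 : A))).trans (mul_one _)).symm

lemma eq_zero_of_ne {j : ℤ} (hj : j ≠ 0) (s : (𝟙_ (DRing.Cx A)).X j) : s = 0 :=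
  @Subsingleton.elim _ (ModuleCat.subsingleton_of_isZero
    (HomologicalComplex.isZero_single_obj_X (ComplexShape.up ℤ) 0 (𝟙_ (ModuleCat.{u} A)) j hj)) _ _

variable {K L M : DRing.Cx A}

lemma whiskerRight_pure (f : K ⟶ L) (p q a : ℤ) (h : p + q = a) (x : K.X p) (y : M.X q) :
    ((f ▷ M).f a).hom (DRingHomTensor.pure K M p q a h x y) =
      DRingHomTensor.pure L M p q a h ((f.f p).hom x) y :=
  ConcreteCategory.congr_hom (HomologicalComplex.ι_mapBifunctorMap f (𝟙 M)
    (curriedTensor (ModuleCat.{u} A)) (ComplexShape.up ℤ) p q a h) (x ⊗ₜ[A] y)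

lemma whiskerLeft_pure (f : K ⟶ L) (p q a : ℤ) (h : p + q = a) (x : M.X p) (y : K.X q) :
    ((M ◁ f).f a).hom (DRingHomTensor.pure M K p q a h x y) =
      DRingHomTensor.pure M L p q a h x ((f.f q).hom y) :=
  ConcreteCategory.congr_hom (HomologicalComplex.ι_mapBifunctorMap (𝟙 M) f
    (curriedTensor (ModuleCat.{u} A)) (ComplexShape.up ℤ) p q a h) (x ⊗ₜ[A] y)

lemma assoc_pure (p q r a b n : ℤ) (h : p + q = a) (h' : q + r = b) (hn : a + r = n)
    (x : K.X p) (y : L.X q) (z : M.X r) :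
    ((α_ K L M).hom.f n).hom
      (DRingHomTensor.pure (K ⊗ L) M a r n hn (DRingHomTensor.pure K L p q a h x y) z) =
      DRingHomTensor.pure K (L ⊗ M) p b n (by omega) x (DRingHomTensor.pure L M q r b h' y z) := by
  have H := HomologicalComplex.ι_mapBifunctorAssociatorX_hom (curriedAssociatorNatIso (ModuleCat.{u} A))
    K L M (ComplexShape.up ℤ) (ComplexShape.up ℤ) (ComplexShape.up ℤ) p q r n
    (show p + q + r = n by omega)
  rw [HomologicalComplex.mapBifunctor₁₂.ι_eq _ _ _ _ _ _ _ p q r a n h hn,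
    HomologicalComplex.mapBifunctor₂₃.ι_eq _ _ _ _ _ _ _ _ p q r b n h' (show p + b = n by omega)] at H
  exact ConcreteCategory.congr_hom H ((x ⊗ₜ[A] y) ⊗ₜ[A] z)

lemma assoc_inv_pure (p q r a b n : ℤ) (h : p + q = a) (h' : q + r = b) (hn : p + b = n)
    (x : K.X p) (y : L.X q) (z : M.X r) :
    ((α_ K L M).inv.f n).hom
      (DRingHomTensor.pure K (L ⊗ M) p b n hn x (DRingHomTensor.pure L M q r b h' y z)) =
      DRingHomTensor.pure (K ⊗ L) M a r n (by omega) (DRingHomTensor.pure K L p q a h x y) z := by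
  rw [← assoc_pure p q r a b n h h' (by omega)]
  exact ConcreteCategory.congr_hom
    ((HomologicalComplex.eval _ _ n).mapIso (α_ K L M)).hom_inv_id _

lemma leftUnitor_pure (n : ℤ) (m : K.X n) :
    ((λ_ K).hom.f n).hom (DRingHomTensor.pure (𝟙_ (DRing.Cx A)) K 0 n n (zero_add n) (unitElt A) m) = m := by
  have h : ((λ_ K).inv.f n).hom m = DRingHomTensor.pure (𝟙_ (DRing.Cx A)) K 0 n n (zero_add n) (unitElt A) m := by
    refine (ConcreteCategory.congr_hom (HomologicalComplex.leftUnitor'_inv K n) m).trans ?_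
    rfl
  rw [← h]
  exact ConcreteCategory.congr_hom ((HomologicalComplex.eval _ _ n).mapIso (λ_ K)).inv_hom_id m

lemma rightUnitor_pure (n : ℤ) (m : K.X n) :
    ((ρ_ K).hom.f n).hom (DRingHomTensor.pure K (𝟙_ (DRing.Cx A)) n 0 n (add_zero n) m (unitElt A)) = m := by
  have h : ((ρ_ K).inv.f n).hom m = DRingHomTensor.pure K (𝟙_ (DRing.Cx A)) n 0 n (add_zero n) m (unitElt A) := by
    refine (ConcreteCategory.congr_hom (HomologicalComplex.rightUnitor'_inv K n) m).trans ?_
    rfl
  rw [← h]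
  exact ConcreteCategory.congr_hom ((HomologicalComplex.eval _ _ n).mapIso (ρ_ K)).inv_hom_id m

/-- The pure tensors of a given degree. -/
def pures (K L : DRing.Cx A) (a : ℤ) : Set ((K ⊗ L).X a) :=
  {t | ∃ (p q : ℤ) (h : p + q = a) (x : K.X p) (y : L.X q), t = DRingHomTensor.pure K L p q a h x y}

lemma span_pures (K L : DRing.Cx A) (a : ℤ) : Submodule.span A (pures K L a) = ⊤ := by
  rw [← Submodule.ker_mkQ (Submodule.span A (pures K L a)), LinearMap.ker_eq_top]
  have h : ModuleCat.ofHom (Submodule.span A (pures K L a)).mkQ =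
      (0 : (K ⊗ L).X a ⟶ ModuleCat.of A ((K ⊗ L).X a ⧸ Submodule.span A (pures K L a))) :=
    DRingHomTensor.hom_ext fun p q h x y => (Submodule.Quotient.mk_eq_zero _).2
      (Submodule.subset_span ⟨p, q, h, x, y, rfl⟩)
  exact congrArg ModuleCat.Hom.hom h

section Pairing

variable (M N : DRing.Cx A) [ExactPairing M N]

/-- The endomorphism of `M^n` given by an element of `(M ⊗ N)^0`. -/
noncomputable def actL (n : ℤ) : (M ⊗ N).X 0 →ₗ[A] (M.X n →ₗ[A] M.X n) :=
  (DRingHomTensor.pure (M ⊗ N) M 0 n n (zero_add n)).compr₂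
    (((ρ_ M).hom.f n).hom ∘ₗ ((M ◁ ε_ M N).f n).hom ∘ₗ ((α_ M N M).hom.f n).hom)

/-- The endomorphism of `N^n` given by an element of `(M ⊗ N)^0`. -/
noncomputable def actR (n : ℤ) : (M ⊗ N).X 0 →ₗ[A] (N.X n →ₗ[A] N.X n) :=
  (DRingHomTensor.pure N (M ⊗ N) n 0 n (add_zero n)).flip.compr₂
    (((λ_ N).hom.f n).hom ∘ₗ ((ε_ M N ▷ N).f n).hom ∘ₗ ((α_ N M N).inv.f n).hom)

lemma actL_eta (n : ℤ) : actL M N n (((η_ M N).f 0).hom (unitElt A)) = LinearMap.id := by
  refine LinearMap.ext fun m => ?_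
  have h := ConcreteCategory.congr_hom (HomologicalComplex.congr_hom
    (ExactPairing.evaluation_coevaluation M N =≫ (ρ_ M).hom) n)
    (DRingHomTensor.pure (𝟙_ (DRing.Cx A)) M 0 n n (zero_add n) (unitElt A) m)
  simp only [Category.assoc, Iso.inv_hom_id, Category.comp_id, HomologicalComplex.comp_f,
    ConcreteCategory.comp_apply] at h
  refine Eq.trans ?_ (h.trans (leftUnitor_pure n m))
  change _ = ((ρ_ M).hom.f n).hom (((M ◁ ε_ M N).f n).hom (((α_ M N M).hom.f n).hom
    (((η_ M N ▷ M).f n).hom _)))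
  rw [whiskerRight_pure]
  rfl

lemma actR_eta (n : ℤ) : actR M N n (((η_ M N).f 0).hom (unitElt A)) = LinearMap.id := by
  refine LinearMap.ext fun m => ?_
  have h := ConcreteCategory.congr_hom (HomologicalComplex.congr_hom
    (ExactPairing.coevaluation_evaluation M N =≫ (λ_ N).hom) n)
    (DRingHomTensor.pure N (𝟙_ (DRing.Cx A)) n 0 n (add_zero n) m (unitElt A))
  simp only [Category.assoc, Iso.inv_hom_id, Category.comp_id, HomologicalComplex.comp_f,
    ConcreteCategory.comp_apply] at h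
  refine Eq.trans ?_ (h.trans (rightUnitor_pure n m))
  change _ = ((λ_ N).hom.f n).hom (((ε_ M N ▷ N).f n).hom (((α_ N M N).inv.f n).hom
    (((N ◁ η_ M N).f n).hom _)))
  rw [whiskerLeft_pure]
  rfl

/-- Finitely many degrees carry an element of `(M ⊗ N)^0`. -/
lemma exists_support (z : (M ⊗ N).X 0) :
    ∃ S : Finset ℤ, ∀ n,
      (actL M N n z ∈ LinearMap.range (dualTensorHom A (M.X n) (M.X n)) ∧
        (n ∉ S → actL M N n z = 0)) ∧
      (actR M N n z ∈ LinearMap.range (dualTensorHom A (N.X n) (N.X n)) ∧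
        (n ∉ S → actR M N n z = 0)) := by
  classical
  have hz : z ∈ Submodule.span A (pures M N 0) := span_pures M N 0 ▸ Submodule.mem_top
  induction hz using Submodule.span_induction with
  | mem t ht =>
    obtain ⟨p, q, h, x, y, rfl⟩ := ht
    obtain rfl : q = -p := by omega
    refine ⟨{p, -p}, fun n => ⟨?_, ?_⟩⟩
    · let s : M.X n →ₗ[A] (𝟙_ (DRing.Cx A)).X (-p + n) :=
        ((ε_ M N).f (-p + n)).hom ∘ₗ DRingHomTensor.pure N M (-p) n (-p + n) rfl y
      have hs : ∀ m, actL M N n (DRingHomTensor.pure M N p (-p) 0 h x y) m =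
          ((ρ_ M).hom.f n).hom (DRingHomTensor.pure M (𝟙_ (DRing.Cx A)) p (-p + n) n (by omega) x (s m)) := fun m => by
        change ((ρ_ M).hom.f n).hom (((M ◁ ε_ M N).f n).hom (((α_ M N M).hom.f n).hom
          (DRingHomTensor.pure (M ⊗ N) M 0 n n (zero_add n) (DRingHomTensor.pure M N p (-p) 0 h x y) m))) = _
        rw [assoc_pure p (-p) n 0 (-p + n) n h rfl, whiskerLeft_pure]
        rfl
      by_cases hn : p = n
      · subst hn
        refine ⟨⟨((HomologicalComplex.singleObjXSelf (ComplexShape.up ℤ) 0 (𝟙_ (ModuleCat.{u} A))).hom.hom ∘ₗ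
          ((𝟙_ (DRing.Cx A)).XIsoOfEq (neg_add_cancel p)).hom.hom ∘ₗ s) ⊗ₜ x, ?_⟩, fun hS => absurd hS (by simp)⟩
        refine LinearMap.ext fun m => ?_
        rw [dualTensorHom_apply, hs]
        have key : ∀ (j : ℤ) (hj : j = 0) (h2 : p + j = p) (s' : (𝟙_ (DRing.Cx A)).X j),
            ((ρ_ M).hom.f p).hom (DRingHomTensor.pure M (𝟙_ (DRing.Cx A)) p j p h2 x s') =
              ((HomologicalComplex.singleObjXSelf (ComplexShape.up ℤ) 0 (𝟙_ (ModuleCat.{u} A))).hom.hom
                (((𝟙_ (DRing.Cx A)).XIsoOfEq hj).hom.hom s') : A) • x := by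
          rintro j rfl h2 s'
          conv_lhs => rw [exists_smul_unitElt s', map_smul, map_smul, rightUnitor_pure]
          rfl
        exact (key _ (neg_add_cancel p) _ _).symm
      · have h0 : actL M N n (DRingHomTensor.pure M N p (-p) 0 h x y) = 0 := LinearMap.ext fun m => by
          rw [hs, eq_zero_of_ne (by omega) (s m), map_zero, map_zero]
          rfl
        exact ⟨h0 ▸ Submodule.zero_mem _, fun _ => h0⟩
    · let s : N.X n →ₗ[A] (𝟙_ (DRing.Cx A)).X (n + p) :=
        ((ε_ M N).f (n + p)).hom ∘ₗ (DRingHomTensor.pure N M n p (n + p) rfl).flip x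
      have hs : ∀ m, actR M N n (DRingHomTensor.pure M N p (-p) 0 h x y) m =
          ((λ_ N).hom.f n).hom (DRingHomTensor.pure (𝟙_ (DRing.Cx A)) N (n + p) (-p) n (by omega) (s m) y) := fun m => by
        change ((λ_ N).hom.f n).hom (((ε_ M N ▷ N).f n).hom (((α_ N M N).inv.f n).hom
          (DRingHomTensor.pure N (M ⊗ N) n 0 n (add_zero n) m (DRingHomTensor.pure M N p (-p) 0 h x y)))) = _
        rw [assoc_inv_pure n p (-p) (n + p) 0 n rfl h, whiskerRight_pure]
        rfl
      by_cases hn : n = -p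
      · subst hn
        refine ⟨⟨((HomologicalComplex.singleObjXSelf (ComplexShape.up ℤ) 0 (𝟙_ (ModuleCat.{u} A))).hom.hom ∘ₗ
          ((𝟙_ (DRing.Cx A)).XIsoOfEq (neg_add_cancel p)).hom.hom ∘ₗ s) ⊗ₜ y, ?_⟩, fun hS => absurd hS (by simp)⟩
        refine LinearMap.ext fun m => ?_
        rw [dualTensorHom_apply, hs]
        have key : ∀ (j : ℤ) (hj : j = 0) (h2 : j + -p = -p) (s' : (𝟙_ (DRing.Cx A)).X j),
            ((λ_ N).hom.f (-p)).hom (DRingHomTensor.pure (𝟙_ (DRing.Cx A)) N j (-p) (-p) h2 s' y) =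
              ((HomologicalComplex.singleObjXSelf (ComplexShape.up ℤ) 0 (𝟙_ (ModuleCat.{u} A))).hom.hom
                (((𝟙_ (DRing.Cx A)).XIsoOfEq hj).hom.hom s') : A) • y := by
          rintro j rfl h2 s'
          conv_lhs => rw [exists_smul_unitElt s', map_smul, LinearMap.smul_apply, map_smul, leftUnitor_pure]
          rfl
        exact (key _ (neg_add_cancel p) _ _).symm
      · have h0 : actR M N n (DRingHomTensor.pure M N p (-p) 0 h x y) = 0 := LinearMap.ext fun m => by
          rw [hs, eq_zero_of_ne (by omega) (s m), map_zero, LinearMap.zero_apply, map_zero]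
          rfl
        exact ⟨h0 ▸ Submodule.zero_mem _, fun _ => h0⟩
  | zero => exact ⟨∅, fun n => by simp⟩
  | add t t' _ _ ht ht' =>
    obtain ⟨S, hS⟩ := ht
    obtain ⟨S', hS'⟩ := ht'
    refine ⟨S ∪ S', fun n => ?_⟩
    simp only [map_add, Finset.mem_union, not_or]
    exact ⟨⟨Submodule.add_mem _ (hS n).1.1 (hS' n).1.1,
        fun h => by rw [(hS n).1.2 h.1, (hS' n).1.2 h.2, add_zero]⟩,
      Submodule.add_mem _ (hS n).2.1 (hS' n).2.1,
        fun h => by rw [(hS n).2.2 h.1, (hS' n).2.2 h.2, add_zero]⟩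
  | smul c t _ ht =>
    obtain ⟨S, hS⟩ := ht
    refine ⟨S, fun n => ?_⟩
    simp only [map_smul]
    exact ⟨⟨Submodule.smul_mem _ _ (hS n).1.1, fun h => by rw [(hS n).1.2 h, smul_zero]⟩,
      Submodule.smul_mem _ _ (hS n).2.1, fun h => by rw [(hS n).2.2 h, smul_zero]⟩

lemma vanishesOutside_of_finset (K : DRing.Cx A) (S : Finset ℤ)
    (h : ∀ n, n ∉ S → (LinearMap.id : K.X n →ₗ[A] K.X n) = 0) : ∃ a b, DRing.VanishesOutside K a b := by
  obtain ⟨a, ha⟩ := S.bddBelow
  obtain ⟨b, hb⟩ := S.bddAbove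
  refine ⟨a, b, fun i hi => (IsZero.iff_id_eq_zero _).2 (ModuleCat.hom_ext (h i fun hS => ?_))⟩
  have h1 := ha hS
  have h2 := hb hS
  omega

/-- Dualisable complexes are bounded with finite projective terms. -/
theorem bounded_finite_projective :
    (∃ a b : ℤ, DRing.VanishesOutside M a b) ∧ (∃ a b : ℤ, DRing.VanishesOutside N a b) ∧
      DRing.TermwiseFiniteProjective M ∧ DRing.TermwiseFiniteProjective N := by
  obtain ⟨S, hS⟩ := exists_support M N (((η_ M N).f 0).hom (unitElt A))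
  have hS' := fun n => by simpa only [actL_eta, actR_eta] using hS n
  exact ⟨vanishesOutside_of_finset M S fun n hn => (hS' n).1.2 hn,
    vanishesOutside_of_finset N S fun n hn => (hS' n).2.2 hn,
    fun n => finite_projective_of_range (hS' n).1.1, fun n => finite_projective_of_range (hS' n).2.1⟩

end Pairing

end Groth.Agent.H9Misc.DRingExactPairing
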