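import Mathlib
import Groth.Agent.H9Misc.DRingHomCxPre
import Groth.Agent.H9Misc.DRingLTensorCx

/-! Duals of complexes of modules. -/

set_option linter.style.haveILetI false

universe u

open CategoryTheory CategoryTheory.Limits
open CochainComplex CochainComplex.HomComplex

attribute [local instance] HasDerivedCategory.standard

namespace Groth.Agent.H9Misc.DRingDual

variable {A : Type u} [CommRing A]

/-- The dual complex, with the signs of the Hom complex. -/
noncomputable def dual (P : DRing.Cx A) : DRing.Cx A where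
  X i := ModuleCat.of A (P.X (-i) →ₗ[A] A)
  d i j := ModuleCat.ofHom (((j.negOnePow : ℤˣ) : ℤ) • LinearMap.lcomp A A (P.d (-j) (-i)).hom)
  shape i j hij := by
    have h : P.d (-j) (-i) = 0 := P.shape _ _ (by simp at hij ⊢; omega)
    ext φ
    simp [h]
  d_comp_d' i j k _ _ := by
    ext φ x
    have h : (P.d (-j) (-i)).hom ((P.d (-k) (-j)).hom x) = 0 :=
      ConcreteCategory.congr_hom (P.d_comp_d (-k) (-j) (-i)) x
    simp [h]

/-- The unit in degree `0`. -/
noncomputable abbrev unitCx (A : Type u) [CommRing A] : DRing.Cx A :=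
  (CochainComplex.singleFunctor (ModuleCat.{u} A) 0).obj (ModuleCat.of A A)

/-- Cochains to the unit are linear forms. -/
noncomputable def formEquiv (P : DRing.Cx A) (i : ℤ) :
    ((P.X (-i)) →ₗ[A] A) ≃ₗ[A] Cochain P (unitCx A) i where
  toFun φ := Cochain.toSingleMk (ModuleCat.ofHom φ) (neg_add_cancel i)
  invFun z := (Cochain.toSingleEquiv (neg_add_cancel i) z).hom
  left_inv φ := congrArg ModuleCat.Hom.hom (Cochain.toSingleEquiv_toSingleMk _ _)
  right_inv z := (Cochain.toSingleEquiv (neg_add_cancel i)).left_inv z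
  map_add' φ ψ := Cochain.toSingleMk_add _ _ _
  map_smul' a φ := by
    apply (Cochain.toSingleEquiv (neg_add_cancel i)).injective
    simp [Cochain.toSingleEquiv]
    rfl

/-- The Hom complex into the unit is the dual. -/
noncomputable def dualIso (P : DRing.Cx A) : dual P ≅ DRing.homCx P (unitCx A) :=
  HomologicalComplex.Hom.isoOfComponents (fun i => (formEquiv P i).toModuleIso) fun i j _ => by
    refine ModuleCat.hom_ext (LinearMap.ext fun (φ : P.X (-i) →ₗ[A] A) => ?_)
    change δ i j (Cochain.toSingleMk (ModuleCat.ofHom φ) (neg_add_cancel i)) =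
      formEquiv P j (((j.negOnePow : ℤˣ) : ℤ) • (φ ∘ₗ (P.d (-j) (-i)).hom))
    rw [Cochain.δ_toSingleMk _ _ j (-j) (neg_add_cancel j), map_zsmul, Units.smul_def]
    rfl

/-- Evaluation into the double dual, with a sign. -/
noncomputable def bidual (P : DRing.Cx A) : P ⟶ dual (dual P) where
  f i := ((i.negOnePow : ℤˣ) : ℤ) •
    ((P.XIsoOfEq (neg_neg i).symm).hom ≫ ModuleCat.ofHom (Module.Dual.eval A (P.X (- -i))))
  comm' i j hij := by
    obtain rfl : i + 1 = j := hij
    refine ModuleCat.hom_ext (LinearMap.ext fun x => ?_)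
    refine LinearMap.ext fun (φ : P.X (- -(i + 1)) →ₗ[A] A) => ?_
    have h : (P.d (- -i) (- -(i + 1))).hom ((P.XIsoOfEq (neg_neg i).symm).hom.hom x) =
        (P.XIsoOfEq (neg_neg (i + 1)).symm).hom.hom ((P.d i (i + 1)).hom x) := by
      have := P.XIsoOfEq_hom_comp_d (neg_neg i).symm (- -(i + 1))
      refine (ConcreteCategory.congr_hom this x).trans ?_
      exact (ConcreteCategory.congr_hom
        (P.d_comp_XIsoOfEq_hom (neg_neg (i + 1)).symm i) x).symm
    change (((i + 1).negOnePow : ℤˣ) : ℤ) • ((((i.negOnePow : ℤˣ) : ℤ) •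
        ((((-i).negOnePow : ℤˣ) : ℤ) •
          φ ((P.d (- -i) (- -(i + 1))).hom ((P.XIsoOfEq (neg_neg i).symm).hom.hom x))))) =
      (((i + 1).negOnePow : ℤˣ) : ℤ) •
        φ ((P.XIsoOfEq (neg_neg (i + 1)).symm).hom.hom ((P.d i (i + 1)).hom x))
    rw [h, smul_smul (((i.negOnePow : ℤˣ) : ℤ)), ← Units.val_mul, ← Int.negOnePow_add,
      add_neg_cancel]
    simp

lemma isIso_bidual (P : DRing.Cx A) (hP : DRing.TermwiseFiniteProjective P) : IsIso (bidual P) := by
  haveI : ∀ i, IsIso ((bidual P).f i) := fun i => by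
    haveI := (hP (- -i)).1
    haveI := (hP (- -i)).2
    haveI : IsIso (ModuleCat.ofHom (Module.Dual.eval A (P.X (- -i)))) :=
      (Module.evalEquiv A (P.X (- -i))).toModuleIso.isIso_hom
    let g := (P.XIsoOfEq (neg_neg i).symm).hom ≫ ModuleCat.ofHom (Module.Dual.eval A (P.X (- -i)))
    haveI : IsIso g := IsIso.comp_isIso
    change IsIso (((i.negOnePow : ℤˣ) : ℤ) • g)
    rcases Int.units_eq_one_or i.negOnePow with h | h <;> rw [h]
    · rw [Units.val_one, one_smul]; infer_instance
    · rw [Units.val_neg, Units.val_one, neg_smul, one_smul]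
      exact ⟨-inv g, by rw [Preadditive.neg_comp_neg, IsIso.hom_inv_id], by rw [Preadditive.neg_comp_neg, IsIso.inv_hom_id]⟩
  exact HomologicalComplex.Hom.isIso_of_components _

lemma vanishesOutside_dual {P : DRing.Cx A} {a b : ℤ} (h : DRing.VanishesOutside P a b) :
    DRing.VanishesOutside (dual P) (-b) (-a) := fun i hi => by
  haveI : Subsingleton (P.X (-i)) := ModuleCat.subsingleton_of_isZero (h (-i) (by omega))
  haveI : Subsingleton (P.X (-i) →ₗ[A] A) :=
    ⟨fun f g => LinearMap.ext fun x => by rw [Subsingleton.elim x 0, map_zero, map_zero]⟩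
  exact ModuleCat.isZero_of_subsingleton (ModuleCat.of A (P.X (-i) →ₗ[A] A))

lemma termwiseFiniteProjective_dual {P : DRing.Cx A} (h : DRing.TermwiseFiniteProjective P) :
    DRing.TermwiseFiniteProjective (dual P) := fun i => by
  haveI := (h (-i)).1
  haveI := (h (-i)).2
  exact ⟨inferInstanceAs (Module.Finite A (P.X (-i) →ₗ[A] A)),
    inferInstanceAs (Module.Projective A (P.X (-i) →ₗ[A] A))⟩

/-- `RHom(E, A)` is the dual of a finite projective representative. -/
theorem nonempty_rhom_iso {P E : DRing.Cx A} [DRing.HasRHomCx E] [P.IsKProjective]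
    (e : DerivedCategory.Q.obj P ≅ DerivedCategory.Q.obj E) :
    Nonempty ((DRing.RHomCx E).obj (Dual.inD A A) ≅ DRing.toD (dual P)) := by
  obtain ⟨β, hβ⟩ := DRingLTensorCx.exists_quasiIso_of_iso e
  obtain ⟨i⟩ := DRingHomCx.nonempty_iso_of_resolution β (unitCx A)
  exact ⟨(DRing.RHomCx E).mapIso
      ((DerivedCategory.singleFunctorIsoCompQ (ModuleCat.{u} A) 0).app (ModuleCat.of A A)) ≪≫ i ≪≫
    DerivedCategory.Q.mapIso (dualIso P).symm⟩

end Groth.Agent.H9Misc.DRingDual
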