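import Groth.Agent.KFlatLib.Ring.Resolution
import Groth.Agent.TorBridge.Basic
import Mathlib

/-! Two out of three for K-flat complexes, also up to homotopy. -/

set_option linter.style.haveILetI false

universe u

open CategoryTheory CategoryTheory.Limits MonoidalCategory
open CategoryTheory.Pretriangulated

namespace Groth.Agent.H9Misc.KFlatRows

open Groth.Agent.KFlatLib

variable {R : Type u} [CommRing R]

/-- K-flatness for modules. -/
abbrev KF (K : DRing.Cx R) : Prop := KFlat (curriedTensor (ModuleCat.{u} R)) K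

lemma shortExact_tensorLeft {S : ShortComplex (ModuleCat.{u} R)} (hS : S.ShortExact) [Module.Flat R S.X₃]
    (M : ModuleCat.{u} R) : (S.map ((curriedTensor (ModuleCat.{u} R)).obj M)).ShortExact := by
  have hex : Function.Exact S.f.hom S.g.hom :=
    (ShortComplex.ShortExact.moduleCat_exact_iff_function_exact _).1 hS.exact
  have hg : Function.Surjective S.g.hom := (ModuleCat.epi_iff_surjective _).1 hS.epi_g
  have hf : Function.Injective S.f.hom := (ModuleCat.mono_iff_injective _).1 hS.mono_f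
  refine { exact := (ShortComplex.ShortExact.moduleCat_exact_iff_function_exact _).2 (lTensor_exact M hex hg)
           mono_f := (ModuleCat.mono_iff_injective _).2 ?_
           epi_g := (ModuleCat.epi_iff_surjective _).2 (LinearMap.lTensor_surjective M hg) }
  let p := Finsupp.linearCombination R (id : M → M)
  have hp : Function.Surjective p := fun m => ⟨Finsupp.single m 1, by simp [p]⟩
  have h := TorBridge.rTensor_injective_of_lTensor_injective p hp S.g.hom hg
    (Module.Flat.lTensor_preserves_injective_linearMap (M := S.X₃) _ (LinearMap.ker p).injective_subtype)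
  have h' := (LinearMap.lTensor_inj_iff_rTensor_inj M _).2 h
  let e : S.X₁ ≃ₗ[R] LinearMap.ker S.g.hom :=
    (LinearEquiv.ofInjective S.f.hom hf).trans (LinearEquiv.ofEq _ _ hex.linearMap_ker_eq.symm)
  have he : S.f.hom = (LinearMap.ker S.g.hom).subtype ∘ₗ e.toLinearMap := rfl
  show Function.Injective (S.f.hom.lTensor M)
  rw [he, LinearMap.lTensor_comp, LinearMap.coe_comp]
  exact h'.comp (e.lTensor M).injective

theorem two_out_of_three_ses {S : ShortComplex (DRing.Cx R)} (hS : S.ShortExact) (h₃ : DRing.TermwiseFlat S.X₃) :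
    (KF S.X₁ → KF S.X₂ → KF S.X₃) ∧ (KF S.X₁ → KF S.X₃ → KF S.X₂) ∧ (KF S.X₂ → KF S.X₃ → KF S.X₁) :=
  kFlat_two_out_of_three fun L => shortExact₂ _ L S fun _ q =>
    haveI : Module.Flat R (S.map (HomologicalComplex.eval _ (ComplexShape.up ℤ) q)).X₃ := h₃ q
    shortExact_tensorLeft (((HomologicalComplex.shortExact_iff_degreewise_shortExact S).1 hS) q) _

/-- K-flatness is invariant under homotopy equivalence. -/
theorem of_homotopyEquiv {K K' : DRing.Cx R} (e : HomotopyEquiv K K') (hK : KF K) : KF K' :=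
  kFlat_iff.2 fun L hL => by
    let T := ((curriedTensor (ModuleCat.{u} R)).map₂CochainComplex.obj L)
    obtain ⟨h1⟩ := nonempty_homotopy₂ (curriedTensor (ModuleCat.{u} R)) L e.homotopyHomInvId
    obtain ⟨h2⟩ := nonempty_homotopy₂ (curriedTensor (ModuleCat.{u} R)) L e.homotopyInvHomId
    let e' : HomotopyEquiv (T.obj K) (T.obj K') :=
      ⟨T.map e.hom, T.map e.inv,
        ((Homotopy.ofEq (T.map_comp _ _).symm).trans h1).trans (Homotopy.ofEq (T.map_id _)),
        ((Homotopy.ofEq (T.map_comp _ _).symm).trans h2).trans (Homotopy.ofEq (T.map_id _))⟩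
    exact (acyclic_iff_isZero _).2 fun i =>
      ((acyclic_iff_isZero _).1 (hK.acyclic hL) i).of_iso (e'.toHomologyIso i).symm

/-- K-flatness of an object of the homotopy category. -/
def KFh (X : HomotopyCategory (ModuleCat.{u} R) (ComplexShape.up ℤ)) : Prop := KF X.as

lemma kfh_iff (K : DRing.Cx R) : KFh ((HomotopyCategory.quotient _ _).obj K) ↔ KF K := Iff.rfl

lemma kfh_of_iso {X Y : HomotopyCategory (ModuleCat.{u} R) (ComplexShape.up ℤ)} (e : X ≅ Y) (h : KFh X) : KFh Y :=
  of_homotopyEquiv (HomotopyCategory.homotopyEquivOfIso e) h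

lemma kfh_shift {X : HomotopyCategory (ModuleCat.{u} R) (ComplexShape.up ℤ)} (h : KFh X) (n : ℤ) : KFh (X⟦n⟧) :=
  kfh_of_iso (((HomotopyCategory.quotient (ModuleCat.{u} R) (ComplexShape.up ℤ)).commShiftIso n).app X.as)
    ((kfh_iff _).2 (KFlat.shift h n))

lemma kfh_obj₃ {T : Triangle (HomotopyCategory (ModuleCat.{u} R) (ComplexShape.up ℤ))} (hT : T ∈ distTriang _)
    (h₁ : KFh T.obj₁) (h₂ : KFh T.obj₂) : KFh T.obj₃ := by
  obtain ⟨X, Y, φ, ⟨e⟩⟩ := hT
  exact kfh_of_iso (Triangle.π₃.mapIso e.symm) ((kfh_iff _).2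
    (kFlat_cone φ (kfh_of_iso (Triangle.π₁.mapIso e) h₁) (kfh_of_iso (Triangle.π₂.mapIso e) h₂)))

attribute [local irreducible] KFh

theorem two_out_of_three_triangle {T : Triangle (HomotopyCategory (ModuleCat.{u} R) (ComplexShape.up ℤ))}
    (hT : T ∈ distTriang _) :
    (KFh T.obj₁ → KFh T.obj₂ → KFh T.obj₃) ∧ (KFh T.obj₁ → KFh T.obj₃ → KFh T.obj₂) ∧
      (KFh T.obj₂ → KFh T.obj₃ → KFh T.obj₁) :=
  ⟨kfh_obj₃ hT, fun h₁ h₃ => kfh_obj₃ (inv_rot_of_distTriang _ hT) (kfh_shift h₃ (-1)) h₁,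
    fun h₂ h₃ => kfh_of_iso ((shiftFunctorCompIsoId (HomotopyCategory (ModuleCat.{u} R) (ComplexShape.up ℤ))
      (1 : ℤ) (-1) (by omega)).app T.obj₁) (kfh_shift (kfh_obj₃ (rot_of_distTriang _ hT) h₂ h₃) (-1))⟩

end Groth.Agent.H9Misc.KFlatRows
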