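import Mathlib
import Groth.Agent.H9Misc.DRingCechCompl
import Groth.Agent.H9Misc.DRingDual
import Groth.Agent.H9Misc.KFlatRows

/-! K-flatness of Hom complexes out of perfect complexes. -/

set_option linter.style.haveILetI false

universe u

open CategoryTheory CategoryTheory.Limits MonoidalCategory
open CochainComplex CochainComplex.HomComplex

attribute [local instance] HasDerivedCategory.standard

namespace Groth.Agent.H9Misc.DRingHomKFlat

open DRingHomCx DRingHomTensor DRingDual Groth.Agent.KFlatLib DRingLTensor DRingCechCompl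

variable {A : Type u} [CommRing A]

/-- Homotopic maps induce homotopic precompositions. -/
noncomputable def homCxPreHomotopy {P P' : DRing.Cx A} {f g : P' ⟶ P} (h : Homotopy f g)
    (K : DRing.Cx A) : Homotopy (homCxPre f K) (homCxPre g K) where
  hom i j := if hij : j + 1 = i then
      ModuleCat.ofHom (X := Cochain P K i) (Y := Cochain P' K j)
        { toFun := fun z => i.negOnePow • (Cochain.ofHomotopy h).comp z (show -1 + i = j by omega)
          map_add' := fun z z' => by simp
          map_smul' := fun a z => by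
            simp only [Cochain.comp_smul, RingHom.id_apply]
            exact smul_comm _ _ _ } else 0
  zero i j hij := dif_neg hij
  comm i := by
    rw [dNext_eq _ (show (ComplexShape.up ℤ).Rel i (i + 1) from rfl),
      prevD_eq _ (show (ComplexShape.up ℤ).Rel (i - 1) i from sub_add_cancel i 1),
      dif_pos rfl, dif_pos (sub_add_cancel i 1)]
    refine ModuleCat.hom_ext (LinearMap.ext fun (z : Cochain P K i) => ?_)
    change (Cochain.ofHom f).comp z (zero_add i) =
      ((i + 1).negOnePow • (Cochain.ofHomotopy h).comp (δ i (i + 1) z) (show -1 + (i + 1) = i by omega) +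
        δ (i - 1) i (i.negOnePow • (Cochain.ofHomotopy h).comp z (show -1 + i = i - 1 by omega))) +
      (Cochain.ofHom g).comp z (zero_add i)
    rw [δ_units_smul, δ_comp (Cochain.ofHomotopy h) z (show -1 + i = i - 1 by omega) 0 (i + 1) i
      (by omega) (by omega) rfl, δ_ofHomotopy, smul_add, smul_smul]
    simp [Int.negOnePow_succ, Cochain.sub_comp, ← Int.negOnePow_add]

/-- Composition of a form with an element. -/
noncomputable def evalPair (P K : DRing.Cx A) (p q n : ℤ) (h : p + q = n) :
    K.X p →ₗ[A] Cochain P (unitCx A) q →ₗ[A] Cochain P K n :=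
  LinearMap.mk₂ A (fun y z => z.comp
      (show Cochain (unitCx A) K p from (toHomSingle K).f p y) (show q + p = n by omega))
    (fun y y' z => by rw [map_add]; exact Cochain.comp_add _ _ _ _)
    (fun a y z => by rw [map_smul]; exact Cochain.comp_smul _ _ _ _)
    (fun y z z' => Cochain.add_comp _ _ _ _)
    (fun a y z => Cochain.smul_comp _ _ _ _)

/-- `K ⊗ Hom•(P, A) → Hom•(P, K)`. -/
noncomputable def comparison (P K : DRing.Cx A) :
    (K ⊗ DRing.homCx P (unitCx A)) ⟶ DRing.homCx P K where
  f n := HomologicalComplex.mapBifunctorDesc fun p q h =>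
    ModuleCat.ofHom (X := (TensorProduct A (K.X p) (Cochain P (unitCx A) q)))
      (Y := Cochain P K n) (TensorProduct.lift (evalPair P K p q n h))
  comm' i j hij := by
    obtain rfl : i + 1 = j := hij
    refine DRingHomTensor.hom_ext fun p q h x (y : Cochain P (unitCx A) q) => ?_
    have e : ∀ (p q n : ℤ) (h : p + q = n) (x : K.X p) (y : Cochain P (unitCx A) q),
        (HomologicalComplex.mapBifunctorDesc fun p q h =>
          ModuleCat.ofHom (X := (TensorProduct A (K.X p) (Cochain P (unitCx A) q)))
            (Y := Cochain P K n) (TensorProduct.lift (evalPair P K p q n h)) :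
              (K ⊗ DRing.homCx P (unitCx A)).X n ⟶ (DRing.homCx P K).X n).hom
          (DRingHomTensor.pure K (DRing.homCx P (unitCx A)) p q n h x y) = evalPair P K p q n h x y := by
      intro p q n h x y
      exact (ConcreteCategory.congr_hom (HomologicalComplex.ι_mapBifunctorDesc (K₁ := K)
        (K₂ := DRing.homCx P (unitCx A)) (F := curriedTensor (ModuleCat.{u} A)) (c := ComplexShape.up ℤ)
        (fun p q h => ModuleCat.ofHom (X := (TensorProduct A (K.X p) (Cochain P (unitCx A) q)))
          (Y := Cochain P K n) (TensorProduct.lift (evalPair P K p q n h))) p q h) (x ⊗ₜ[A] y)).trans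
            (TensorProduct.lift.tmul x y)
    rw [ConcreteCategory.comp_apply, ConcreteCategory.comp_apply, e]
    erw [d_pure, map_add, map_zsmul, e, e]
    change δ i (i + 1) (y.comp (show Cochain (unitCx A) K p from (toHomSingle K).f p x) (show q + p = i by omega)) =
      y.comp (show Cochain (unitCx A) K (p + 1) from (toHomSingle K).f (p + 1) (K.d p (p + 1) x)) (show q + (p + 1) = i + 1 by omega) +
        ((p.negOnePow : ℤˣ) : ℤ) • (δ q (q + 1) y).comp
          (show Cochain (unitCx A) K p from (toHomSingle K).f p x) (show q + 1 + p = i + 1 by omega)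
    have hx : δ p (p + 1) (show Cochain (unitCx A) K p from (toHomSingle K).f p x) =
        (toHomSingle K).f (p + 1) (K.d p (p + 1) x) :=
      ConcreteCategory.congr_hom ((toHomSingle K).comm p (p + 1)) x
    rw [δ_comp _ _ _ (q + 1) (p + 1) (i + 1) rfl rfl rfl, hx]
    rfl

lemma comparison_pure (P K : DRing.Cx A) (p q n : ℤ) (h : p + q = n) (x : K.X p)
    (y : Cochain P (unitCx A) q) :
    ((comparison P K).f n).hom
      (DRingHomTensor.pure K (DRing.homCx P (unitCx A)) p q n h x y) = evalPair P K p q n h x y :=
  (ConcreteCategory.congr_hom (HomologicalComplex.ι_mapBifunctorDesc (K₁ := K)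
    (K₂ := DRing.homCx P (unitCx A)) (F := curriedTensor (ModuleCat.{u} A)) (c := ComplexShape.up ℤ)
    (fun p q h => ModuleCat.ofHom (X := (TensorProduct A (K.X p) (Cochain P (unitCx A) q)))
      (Y := Cochain P K n) (TensorProduct.lift (evalPair P K p q n h))) p q h) (x ⊗ₜ[A] y)).trans
        (TensorProduct.lift.tmul x y)

/-- The inclusion of `Hom(P^m, A) ⊗ K^{m+n}`. -/
noncomputable def incl (P K : DRing.Cx A) (n q : ℤ) :
    TensorProduct A (Module.Dual A (P.X (-q))) (K.X (-q + n)) →ₗ[A]
      (K ⊗ DRing.homCx P (unitCx A)).X n :=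
  TensorProduct.lift <| LinearMap.flip <|
    ((LinearMap.llcomp A _ _ _).flip (formEquiv P q).toLinearMap) ∘ₗ
      DRingHomTensor.pure K (DRing.homCx P (unitCx A)) (-q + n) q n (by omega)

lemma incl_tmul (P K : DRing.Cx A) (n q : ℤ) (φ : Module.Dual A (P.X (-q))) (x : K.X (-q + n)) :
    incl P K n q (φ ⊗ₜ x) = DRingHomTensor.pure K (DRing.homCx P (unitCx A)) (-q + n) q n (by omega) x
      (formEquiv P q φ) := rfl

lemma comparison_incl (P K : DRing.Cx A) (n q m s : ℤ) (hm : m + n = s)
    (t : TensorProduct A (Module.Dual A (P.X (-q))) (K.X (-q + n))) :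
    (show Cochain P K n from ((comparison P K).f n).hom (incl P K n q t)).v m s hm =
      if h : -q = m then (P.XIsoOfEq h).inv ≫ ModuleCat.ofHom (dualTensorHom A (P.X (-q)) (K.X (-q + n)) t) ≫
        (K.XIsoOfEq (show -q + n = s by omega)).hom else 0 := by
  induction t using TensorProduct.induction_on with
  | zero => simp; rfl
  | tmul φ x =>
    rw [incl_tmul, comparison_pure]
    change ((Cochain.toSingleMk (ModuleCat.ofHom φ) (neg_add_cancel q) : Cochain P (unitCx A) q).comp
      (Cochain.fromSingleMk (ModuleCat.ofHom (LinearMap.toSpanSingleton A (K.X (-q + n)) x))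
        (zero_add (-q + n))) (show q + (-q + n) = n by omega)).v m s hm = _
    by_cases h : -q = m
    · subst h
      obtain rfl : -q + n = s := hm
      rw [dif_pos rfl, Cochain.comp_v _ _ _ (-q) 0 (-q + n) (neg_add_cancel q) (zero_add _),
        Cochain.toSingleMk_v, Cochain.fromSingleMk_v]
      refine ((Category.assoc _ _ _).trans
        (congrArg (ModuleCat.ofHom φ ≫ ·) (Iso.inv_hom_id_assoc _ _))).trans ?_
      ext y
      simp
    · rw [dif_neg h, Cochain.comp_v _ _ _ m (m + q) s rfl (by omega),
        Cochain.toSingleMk_v_eq_zero _ _ _ _ _ (Ne.symm h), zero_comp]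
  | add t t' ht ht' =>
    rw [map_add, map_add]
    change (show Cochain P K n from _).v m s hm + (show Cochain P K n from _).v m s hm = _
    rw [ht, ht']
    by_cases h : -q = m
    · rw [dif_pos h, dif_pos h, dif_pos h, map_add, ModuleCat.ofHom_add, Preadditive.add_comp,
        Preadditive.comp_add]
    · rw [dif_neg h, dif_neg h, dif_neg h, add_zero]

theorem isIso_comparison {P : DRing.Cx A} {a b : ℤ} (hP : DRing.VanishesOutside P a b)
    (hP' : DRing.TermwiseFiniteProjective P) (K : DRing.Cx A) : IsIso (comparison P K) := by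
  classical
  haveI : ∀ n, IsIso ((comparison P K).f n) := fun n => by
    let s := Finset.Icc (-b) (-a)
    let e : ∀ q, TensorProduct A (Module.Dual A (P.X (-q))) (K.X (-q + n)) ≃ₗ[A]
        (P.X (-q) →ₗ[A] K.X (-q + n)) := fun q =>
      haveI := (hP' (-q)).1
      haveI := (hP' (-q)).2
      LinearEquiv.ofBijective _ dualTensorHom_bijective
    let ψ : Cochain P K n →ₗ[A] (K ⊗ DRing.homCx P (unitCx A)).X n :=
      ∑ q ∈ s, incl P K n q ∘ₗ (e q).symm.toLinearMap ∘ₗ
        { toFun := fun z => (z.v (-q) (-q + n) rfl).hom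
          map_add' := fun _ _ => rfl
          map_smul' := fun _ _ => rfl }
    have hψ : ∀ z, ψ z = ∑ q ∈ s, incl P K n q ((e q).symm (z.v (-q) (-q + n) rfl).hom) := fun z => by
      simp [ψ]
    refine (ConcreteCategory.isIso_iff_bijective _).2 ⟨?_, fun (z : Cochain P K n) => ⟨ψ z, ?_⟩⟩
    · refine Function.LeftInverse.injective (g := ψ) fun t => ?_
      refine LinearMap.congr_fun (f := ψ ∘ₗ ((comparison P K).f n).hom) (g := LinearMap.id) ?_ t
      refine congrArg ModuleCat.Hom.hom (DRingHomTensor.hom_ext
        (f := ModuleCat.ofHom (ψ ∘ₗ ((comparison P K).f n).hom)) (g := 𝟙 _) fun p q h x y => ?_)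
      change ψ (((comparison P K).f n).hom _) = DRingHomTensor.pure K _ p q n h x y
      obtain rfl : p = -q + n := by omega
      obtain ⟨φ, rfl⟩ := (formEquiv P q).surjective y
      rw [← incl_tmul, hψ]
      have hz : ∀ r, r ≠ q →
          incl P K n r ((e r).symm ((show Cochain P K n from ((comparison P K).f n).hom
            (incl P K n q (φ ⊗ₜ x))).v (-r) (-r + n) rfl).hom) = 0 := fun r hr => by
        rw [comparison_incl, dif_neg (by omega), ModuleCat.hom_zero, map_zero, map_zero]
      by_cases hq : q ∈ s
      · refine (Finset.sum_eq_single q (fun r _ hr => hz r hr) (fun h => absurd hq h)).trans ?_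
        rw [comparison_incl, dif_pos rfl]
        refine congrArg (incl P K n q) ((e q).symm_apply_eq.2 ?_)
        simp [e]
      · haveI : Subsingleton (P.X (-q)) := ModuleCat.subsingleton_of_isZero
          (hP (-q) (by simp [s] at hq; omega))
        have hφ : φ = 0 := LinearMap.ext fun v => by rw [Subsingleton.elim v 0, map_zero, map_zero]
        rw [hφ, TensorProduct.zero_tmul, map_zero, map_zero]
        exact Finset.sum_eq_zero fun r _ => (congrArg _ (map_zero (e r).symm)).trans (map_zero _)
    · apply Cochain.ext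
      intro m t hm
      by_cases hms : -m ∈ s
      · obtain ⟨q, rfl⟩ : ∃ q, m = -q := ⟨-m, by omega⟩
        rw [neg_neg] at hms
        obtain rfl : -q + n = t := hm
        let ev : Cochain P K n →+ (P.X (-q) ⟶ K.X (-q + n)) :=
          { toFun := fun z => z.v (-q) (-q + n) rfl, map_zero' := rfl, map_add' := fun _ _ => rfl }
        change ev (((comparison P K).f n).hom (ψ z)) = _
        rw [hψ, map_sum]
        refine (map_sum ev _ _).trans ((Finset.sum_eq_single q (fun r _ hr => ?_)
          (fun h => absurd hms h)).trans ?_)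
        · refine (comparison_incl P K n r (-q) (-q + n) rfl _).trans (dif_neg (by omega))
        · refine (comparison_incl P K n q (-q) (-q + n) rfl _).trans ?_
          rw [dif_pos rfl]
          have := (e q).apply_symm_apply (z.v (-q) (-q + n) rfl).hom
          simp only [e, LinearEquiv.ofBijective_apply] at this ⊢
          simp [this]
      · haveI : Subsingleton (P.X m) := ModuleCat.subsingleton_of_isZero
          (hP m (by simp [s] at hms; omega))
        exact ModuleCat.hom_ext (LinearMap.ext fun v => by rw [Subsingleton.elim v 0, map_zero, map_zero])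
  exact HomologicalComplex.Hom.isIso_of_components _

/-- Hom complexes from perfect bounded above complexes of projectives into K-flat complexes. -/
theorem isKF_homCx (P K : DRing.Cx A) (b : ℤ) (hPb : DRing.VanishesAbove P b)
    (hPp : ∀ i : ℤ, Module.Projective A (P.X i)) (hperf : DRing.IsPerfect A (DRing.toD P))
    (hK : IsKF K) : IsKF (DRing.homCx P K) := by
  obtain ⟨E, a', b', hE, hE', ⟨e⟩⟩ := hperf
  haveI : P.IsStrictlyLE b := (CochainComplex.isStrictlyLE_iff _ _).2 hPb
  haveI : E.IsStrictlyLE b' := (CochainComplex.isStrictlyLE_iff _ _).2 fun i hi => hE i (Or.inr hi)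
  haveI : ∀ i, Projective (P.X i) := fun i => (IsProjective.iff_projective _).1 (hPp i)
  haveI : ∀ i, Projective (E.X i) := fun i => (IsProjective.iff_projective _).1 (hE' i).2
  haveI := CochainComplex.isKProjective_of_projective P b
  haveI := CochainComplex.isKProjective_of_projective E b'
  obtain ⟨β, hβ⟩ := DRingLTensorCx.exists_quasiIso_of_iso e
  haveI : IsIso (DerivedCategory.Qh.map ((qH A).map β)) :=
    (NatIso.isIso_map_iff (DerivedCategory.quotientCompQhIso (ModuleCat.{u} A)) β).2
      ((DerivedCategory.isIso_Q_map_iff_quasiIso _ _).2 hβ)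
  obtain ⟨γ', hγ⟩ := (CochainComplex.IsKProjective.Qh_map_bijective P ((qH A).obj E)).2
    (inv (DerivedCategory.Qh.map ((qH A).map β)))
  obtain ⟨γ, rfl⟩ := (qH A).map_surjective γ'
  have h1 : (qH A).map (β ≫ γ) = (qH A).map (𝟙 E) :=
    (CochainComplex.IsKProjective.Qh_map_bijective E ((qH A).obj E)).1 (by
      rw [Functor.map_comp, Functor.map_comp, hγ, IsIso.hom_inv_id, CategoryTheory.Functor.map_id,
        CategoryTheory.Functor.map_id])
  have h2 : (qH A).map (γ ≫ β) = (qH A).map (𝟙 P) :=
    (CochainComplex.IsKProjective.Qh_map_bijective P ((qH A).obj P)).1 (by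
      rw [Functor.map_comp, Functor.map_comp, hγ, IsIso.inv_hom_id, CategoryTheory.Functor.map_id,
        CategoryTheory.Functor.map_id])
  have hpre : ∀ {X Y Z : DRing.Cx A} (f : X ⟶ Y) (g : Y ⟶ Z),
      homCxPre g K ≫ homCxPre f K = homCxPre (f ≫ g) K := fun f g => by
    refine HomologicalComplex.hom_ext _ _ fun i => ModuleCat.hom_ext (LinearMap.ext fun z => ?_)
    change (Cochain.ofHom f).comp ((Cochain.ofHom g).comp (show Cochain _ K i from z) (zero_add i))
      (zero_add i) = (Cochain.ofHom (f ≫ g)).comp (show Cochain _ K i from z) (zero_add i)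
    rw [← Cochain.comp_assoc_of_first_is_zero_cochain, ← Cochain.ofHom_comp]
  have hid : ∀ X : DRing.Cx A, homCxPre (𝟙 X) K = 𝟙 _ := fun X => by
    refine HomologicalComplex.hom_ext _ _ fun i => ModuleCat.hom_ext (LinearMap.ext fun z => ?_)
    exact Cochain.id_comp (show Cochain X K i from z)
  let eh : HomotopyEquiv (DRing.homCx E K) (DRing.homCx P K) :=
    ⟨homCxPre γ K, homCxPre β K,
      (Homotopy.ofEq (hpre β γ)).trans ((homCxPreHomotopy (HomotopyCategory.homotopyOfEq _ _ h1) K).trans
        (Homotopy.ofEq (hid E))),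
      (Homotopy.ofEq (hpre γ β)).trans ((homCxPreHomotopy (HomotopyCategory.homotopyOfEq _ _ h2) K).trans
        (Homotopy.ofEq (hid P)))⟩
  haveI := isIso_comparison hE hE' K
  have hD : IsKF (DRing.homCx E (unitCx A)) := by
    refine DRingTor.isKF_of_flat (b := -a') (fun i => ?_) fun i hi => ?_
    · haveI : Module.Projective A (E.X (-i) →ₗ[A] A) := (termwiseFiniteProjective_dual hE' i).2
      haveI : Module.Flat A (E.X (-i) →ₗ[A] A) := Module.Flat.of_projective
      exact Module.Flat.of_linearEquiv (formEquiv E i).symm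
    · exact IsZero.of_iso (vanishesOutside_dual hE i (Or.inr hi)) (formEquiv E i).toModuleIso.symm
  refine KFlatRows.of_homotopyEquiv eh (kFlat_iff.2 fun L hL => ?_)
  have h3 : (L ⊗ K).Acyclic := hK.acyclic hL
  have h4 : ((L ⊗ K) ⊗ DRing.homCx E (unitCx A)).Acyclic := hD.acyclic h3
  exact fun i => (h4 i).of_iso ((α_ L K _) ≪≫ (L ◁ᵢ asIso (comparison E K)))

end Groth.Agent.H9Misc.DRingHomKFlat
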