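import Mathlib
import Groth.Agent.H9Misc.DRingHomKFlat
import Groth.Agent.H9Misc.DRingExactPairing
import Groth.Agent.H9Misc.DRingRHomCompl
import Groth.Agent.H9Misc.DRingProjAmp
import Groth.Agent.KFlatLib.BrutalTrunc

/-! Derived completion and tensor products with pseudo-coherent complexes. -/

set_option linter.style.haveILetI false

universe u

open CategoryTheory CategoryTheory.Limits CategoryTheory.Pretriangulated MonoidalCategory
open CochainComplex CochainComplex.HomComplex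

attribute [local instance] HasDerivedCategory.standard

namespace Groth.Agent.H9Misc.DRingComplTensor

open DRingHomCx DRingCompl DRingRHomCompl DRingHomTensor Groth.Agent.KFlatLib DRingLTensor

variable {A : Type u} [CommRing A]

lemma exists_proj_res (K : Dual.D A) (b : ℤ) (hK : ∀ i, b < i → Subsingleton (Dual.HD A K i)) :
    ∃ (P : DRing.Cx A) (_ : P.IsKProjective), DRing.VanishesAbove P b ∧
      (∀ i, Module.Projective A (P.X i)) ∧ Nonempty (DerivedCategory.Q.obj P ≅ K) := by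
  haveI : K.IsLE b := DRingProjAmp.isLE_of_hd hK
  obtain ⟨C, hC, ⟨eC⟩⟩ := DerivedCategory.exists_iso_Q_obj_of_isLE K b
  obtain ⟨P, α, hPb, hP, -, hα⟩ := TriCat.exists_quasiIso_left_resolution
    (fun X : ModuleCat.{u} A => Module.Projective A X)
    ⟨ModuleCat.of A PUnit.{u + 1}, ModuleCat.isZero_of_subsingleton _, inferInstance⟩
    (fun X => ⟨ModuleCat.of A (X →₀ A), ModuleCat.ofHom (Finsupp.linearCombination A id),
      inferInstance, (ModuleCat.epi_iff_surjective _).2
        (Finsupp.linearCombination_id_surjective A X)⟩) C b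
  have hzb : ∀ i, b < i → IsZero (P.X i) := fun i hi => P.isZero_of_isStrictlyLE b i hi
  exact ⟨P, DRingProjAmp.isKProjective hP hzb, hzb, hP, ⟨asIso (DerivedCategory.Q.map α) ≪≫ eC.symm⟩⟩

lemma isKF_of_projective {P : DRing.Cx A} {b : ℤ} (hb : DRing.VanishesAbove P b)
    (hP : ∀ i, Module.Projective A (P.X i)) : IsKF P :=
  DRingTor.isKF_of_flat (b := b) (fun i => by haveI := hP i; exact Module.Flat.of_projective) hb

lemma pre_homTensorIso {P₁ P₂ : DRing.Cx A} (α : P₁ ⟶ P₂) (F J : DRing.Cx A) :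
    homCxPre α (DRing.homCx F J) ≫ (homTensorIso P₁ F J).hom =
      (homTensorIso P₂ F J).hom ≫ homCxPre (α ▷ F) J := by
  refine HomologicalComplex.hom_ext _ _ fun n => ModuleCat.hom_ext (LinearMap.ext fun z => ?_)
  change uncurry ((Cochain.ofHom α).comp (show Cochain P₂ (DRing.homCx F J) n from z) (zero_add n)) =
    (Cochain.ofHom (α ▷ F)).comp (uncurry (show Cochain P₂ (DRing.homCx F J) n from z)) (zero_add n)
  apply Cochain.ext
  intro a b hab
  rw [Cochain.zero_cochain_comp_v, Cochain.ofHom_v]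
  refine DRingHomTensor.hom_ext fun p q hpq x y => ?_
  rw [ConcreteCategory.comp_apply, DRingExactPairing.whiskerRight_pure]
  erw [uncurry_pure, uncurry_pure]
  simp only [comp₂, LinearMap.coe_mk, AddHom.coe_mk, Cochain.zero_cochain_comp_v, Cochain.ofHom_v]
  rfl

lemma q_map (X : DRing.Cx A) {Y : DRing.Cx A} (f : X ⟶ Y) :
    (DerivedCategory.quotientCompQhIso (ModuleCat.{u} A)).inv.app X ≫
      DerivedCategory.Qh.map ((qH A).map f) =
    DerivedCategory.Q.map f ≫ (DerivedCategory.quotientCompQhIso (ModuleCat.{u} A)).inv.app Y :=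
  ((DerivedCategory.quotientCompQhIso (ModuleCat.{u} A)).inv.naturality f).symm

/-- Bijectivity of precomposition, transported through adjunction. -/
theorem bijective_whiskerRight {P₁ P₂ : DRing.Cx A} [P₁.IsKProjective] [P₂.IsKProjective]
    (α : P₁ ⟶ P₂) (F J : DRing.Cx A) [J.IsKInjective]
    (h : ∀ n : ℤ, Function.Bijective (fun φ : DerivedCategory.Q.obj P₂ ⟶
        (DerivedCategory.Q.obj (DRing.homCx F J))⟦n⟧ => DerivedCategory.Q.map α ≫ φ)) :
    Function.Bijective (fun φ : DerivedCategory.Q.obj (P₂ ⊗ F) ⟶ DerivedCategory.Q.obj J =>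
      DerivedCategory.Q.map (α ▷ F) ≫ φ) := by
  let i := DerivedCategory.quotientCompQhIso (ModuleCat.{u} A)
  let H := DRing.homCx F J
  let c : ∀ (P : DRing.Cx A) [P.IsKProjective] (n : ℤ),
      ((qH A).obj P ⟶ (qH A).obj (H⟦n⟧)) ≃
        (DerivedCategory.Q.obj P ⟶ (DerivedCategory.Q.obj H)⟦n⟧) := fun P _ n =>
    (Equiv.ofBijective _ (CochainComplex.IsKProjective.Qh_map_bijective P ((qH A).obj (H⟦n⟧)))).trans
      (Iso.homCongr (i.app P) (i.app (H⟦n⟧) ≪≫ (DerivedCategory.Q.commShiftIso n).app H))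
  haveI : QuasiIso (homCxPre α H) := by
    refine quasiIso_homCxPre α H fun n => ?_
    have e : (c P₁ n) ∘ (fun φ : (qH A).obj P₂ ⟶ (qH A).obj (H⟦n⟧) => (qH A).map α ≫ φ) =
        (fun φ => DerivedCategory.Q.map α ≫ φ) ∘ (c P₂ n) := by
      funext φ
      simp only [Function.comp_apply, c, Equiv.trans_apply, Equiv.ofBijective_apply, Iso.homCongr_apply,
        Functor.map_comp, Iso.app_inv, ← Category.assoc]
      rw [q_map]
    refine (Function.Bijective.of_comp_iff' (c P₁ n).bijective _).1 ?_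
    rw [e]
    exact (h n).comp (c P₂ n).bijective
  haveI : QuasiIso (homCxPre (α ▷ F) J) := by
    have := pre_homTensorIso α F J
    rw [← Iso.inv_comp_eq] at this
    rw [← this]
    infer_instance
  have hH : Function.Bijective
      (fun φ : (qH A).obj (P₂ ⊗ F) ⟶ (qH A).obj (J⟦(0 : ℤ)⟧) => (qH A).map (α ▷ F) ≫ φ) := by
    have hq := (quasiIsoAt_iff_isIso_homologyMap (homCxPre (α ▷ F) J) 0).1 inferInstance
    have hm : Mono (HomologicalComplex.homologyMap (homCxPre (α ▷ F) J) 0) := inferInstance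
    have he : Epi (HomologicalComplex.homologyMap (homCxPre (α ▷ F) J) 0) := inferInstance
    rw [CxLib.mono_homologyMap_iff _ 0 (-1) 1 (CochainComplex.prev ℤ 0) (CochainComplex.next ℤ 0)] at hm
    rw [CxLib.epi_homologyMap_iff _ 0 (-1) 1 (CochainComplex.prev ℤ 0) (CochainComplex.next ℤ 0)] at he
    refine ⟨fun φ ψ hφψ => ?_, fun ψ => ?_⟩
    · obtain ⟨z, hz, rfl⟩ := cls_surjective φ
      obtain ⟨w, hw, rfl⟩ := cls_surjective ψ
      dsimp only at hφψ
      rw [← sub_eq_zero, ← Preadditive.comp_sub, ← cls_sub _ _ hz hw, ← cls_pre, cls_eq_zero_iff] at hφψ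
      obtain ⟨v, hv⟩ := hφψ
      rw [← sub_eq_zero, ← cls_sub _ _ hz hw, cls_eq_zero_iff]
      exact hm (z - w) (show δ 0 1 (z - w) = 0 by rw [δ_sub, show δ 0 1 z = 0 from hz,
        show δ 0 1 w = 0 from hw, sub_zero]) ⟨v, hv⟩
    · obtain ⟨y, hy, rfl⟩ := cls_surjective ψ
      obtain ⟨(x : Cochain (P₂ ⊗ F) J 0), (hx : δ 0 1 x = 0), v, hv⟩ := he y hy
      refine ⟨cls x (show δ 0 (0 + 1) x = 0 from hx), (cls_pre _ _ _).symm.trans (Eq.symm ?_)⟩
      rw [← sub_eq_zero, ← cls_sub _ _ hy (by rw [δ_ofHom_comp, show δ 0 (0 + 1) x = 0 from hx, Cochain.comp_zero]),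
        cls_eq_zero_iff]
      exact ⟨v, hv⟩
  let d : ∀ X : DRing.Cx A, ((qH A).obj X ⟶ (qH A).obj (J⟦(0 : ℤ)⟧)) ≃
      (DerivedCategory.Q.obj X ⟶ DerivedCategory.Q.obj J) := fun X =>
    (Equiv.ofBijective _ (CochainComplex.IsKInjective.Qh_map_bijective ((qH A).obj X) (J⟦(0 : ℤ)⟧))).trans
      (Iso.homCongr (i.app X) (i.app (J⟦(0 : ℤ)⟧) ≪≫
        DerivedCategory.Q.mapIso ((shiftFunctorZero (DRing.Cx A) ℤ).app J)))
  have e : (fun φ => DerivedCategory.Q.map (α ▷ F) ≫ φ) ∘ d (P₂ ⊗ F) =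
      d (P₁ ⊗ F) ∘ (fun φ => (qH A).map (α ▷ F) ≫ φ) := by
    funext φ
    simp only [Function.comp_apply, d, Equiv.trans_apply, Equiv.ofBijective_apply, Iso.homCongr_apply,
      Functor.map_comp, Iso.app_inv, ← Category.assoc]
    rw [q_map]
  refine (Function.Bijective.of_comp_iff _ (d (P₂ ⊗ F)).bijective).1 ?_
  rw [e]
  exact (d (P₁ ⊗ F)).bijective.comp hH

lemma tensorHom_f_bijective {P G F : DRing.Cx A} {b : ℤ} (hP : DRing.VanishesAbove P b) (ι : G ⟶ F)
    (N : ℤ) (hι : ∀ q, N ≤ q → IsIso (ι.f q)) (n : ℤ) (hn : N + b ≤ n) : IsIso ((P ◁ ι).f n) := by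
  let g : (P ⊗ F).X n ⟶ (P ⊗ G).X n := HomologicalComplex.mapBifunctorDesc fun p q h =>
    if hq : N ≤ q then
      haveI := hι q hq
      P.X p ◁ inv (ι.f q) ≫ HomologicalComplex.ιTensorObj P G p q n h
    else 0
  have hg : ∀ p q h, HomologicalComplex.ιTensorObj P F p q n h ≫ g =
      if hq : N ≤ q then
        haveI := hι q hq
        P.X p ◁ inv (ι.f q) ≫ HomologicalComplex.ιTensorObj P G p q n h
      else 0 := fun p q h => HomologicalComplex.ι_mapBifunctorDesc _ _ _ _
  have hf : ∀ p q h, HomologicalComplex.ιTensorObj P G p q n h ≫ (P ◁ ι).f n =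
      P.X p ◁ ι.f q ≫ HomologicalComplex.ιTensorObj P F p q n h := fun p q h => by
    refine (HomologicalComplex.ι_mapBifunctorMap (𝟙 P) ι (curriedTensor (ModuleCat.{u} A))
      (ComplexShape.up ℤ) p q n h).trans ?_
    simp
  have hz : ∀ (L : DRing.Cx A) p q, p + q = n → ¬ N ≤ q → IsZero (P.X p ⊗ L.X q) := fun L p q h hq =>
    DRingLTensorCx.isZero_tensor_left (hP p (by omega))
  refine ⟨g, ?_, ?_⟩
  · refine HomologicalComplex.mapBifunctor.hom_ext fun p q (h : p + q = n) => ?_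
    change HomologicalComplex.ιTensorObj P G p q n h ≫ _ = HomologicalComplex.ιTensorObj P G p q n h ≫ 𝟙 _
    by_cases hq : N ≤ q
    · haveI := hι q hq
      rw [reassoc_of% hf p q h, hg p q h, dif_pos hq, ← Category.assoc, ← MonoidalCategory.whiskerLeft_comp,
        IsIso.hom_inv_id, MonoidalCategory.whiskerLeft_id, Category.id_comp, Category.comp_id]
    · exact (hz G p q h hq).eq_of_src _ _
  · refine HomologicalComplex.mapBifunctor.hom_ext fun p q (h : p + q = n) => ?_
    change HomologicalComplex.ιTensorObj P F p q n h ≫ _ = HomologicalComplex.ιTensorObj P F p q n h ≫ 𝟙 _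
    by_cases hq : N ≤ q
    · haveI := hι q hq
      rw [reassoc_of% hg p q h, dif_pos hq, Category.assoc, hf p q h, ← Category.assoc,
        ← MonoidalCategory.whiskerLeft_comp, IsIso.inv_hom_id, MonoidalCategory.whiskerLeft_id,
        Category.id_comp, Category.comp_id]
    · exact (hz F p q h hq).eq_of_src _ _

lemma vanishesOutside_homCx {E : DRing.Cx A} {a b : ℤ} (h : DRing.VanishesOutside E a b) :
    DRing.VanishesOutside (DRingDual.dual E) (-b) (-a) := DRingDual.vanishesOutside_dual h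

/-- Derived completeness is preserved by tensoring with a bounded finite projective complex. -/
lemma cg_tensor_bounded {G : DRing.Cx A} {a b : ℤ} (hG : DRing.VanishesOutside G a b)
    (hG' : DRing.TermwiseFiniteProjective G) (P : DRing.Cx A) (f : A)
    (hP : Cg f (DerivedCategory.Q.obj P)) : Cg f (DerivedCategory.Q.obj (P ⊗ G)) := by
  let E := DRingDual.dual G
  have hE : DRing.VanishesOutside E (-b) (-a) := DRingDual.vanishesOutside_dual hG
  have hE' : DRing.TermwiseFiniteProjective E := DRingDual.termwiseFiniteProjective_dual hG'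
  haveI := DRingHomKFlat.isIso_comparison hE hE' P
  haveI := DRingDual.isIso_bidual G hG'
  haveI := DRingProjAmp.isKProjective (R := A) (P := E) (fun i => (hE' i).2) (fun i hi => hE i (Or.inr hi))
  haveI := hasRHomCx E
  obtain ⟨e₁⟩ := nonempty_iso_of_isKProjective (K := E) P
  let e : (DRing.RHomCx E).obj (DerivedCategory.Q.obj P) ≅ DerivedCategory.Q.obj (P ⊗ G) :=
    e₁ ≪≫ DerivedCategory.Q.mapIso ((asIso (DRingHomKFlat.comparison E P)).symm ≪≫
      (P ◁ᵢ ((DRingDual.dualIso E).symm ≪≫ (asIso (DRingDual.bidual G)).symm)))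
  intro n
  have := cg_rhom E f _ hP n
  exact (Iso.homCongr (Iso.refl _) ((CategoryTheory.shiftFunctor (Dual.D A) n).mapIso e.symm)).subsingleton

/-- Derived completeness is preserved by tensoring with a bounded above finite free complex. -/
theorem isDerivedComplete_tensor (I : Ideal A) {P F : DRing.Cx A} {b c : ℤ}
    (hP : DRing.VanishesAbove P b) (hFc : DRing.VanishesAbove F c) (hFf : DRing.TermwiseFiniteFree F)
    (h : DRing.IsDerivedComplete I (DerivedCategory.Q.obj P)) :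
    DRing.IsDerivedComplete I (DerivedCategory.Q.obj (P ⊗ F)) := by
  rw [DRingTel.isDerivedComplete_iff]
  intro f hf n
  let N := n - 1 - b
  let G := F.stupidTrunc (ComplexShape.embeddingUpIntGE N)
  have hG : DRing.VanishesOutside G N (max N c) := by
    rintro i (hi | hi)
    · exact isZero_stupidTrunc_of_lt F N i hi
    · haveI := isIso_sigmaGEι_f F N i (by omega)
      exact (hFc i (by omega)).of_iso (asIso ((sigmaGEι F N).f i))
  have hG' : DRing.TermwiseFiniteProjective G := fun i => by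
    rcases lt_or_ge i N with hi | hi
    · haveI : Subsingleton (G.X i) := ModuleCat.subsingleton_of_isZero (isZero_stupidTrunc_of_lt F N i hi)
      exact ⟨inferInstance, inferInstance⟩
    · haveI := isIso_sigmaGEι_f F N i hi
      haveI := (hFf i).1
      haveI := (hFf i).2
      let e := (asIso ((sigmaGEι F N).f i)).symm.toLinearEquiv
      exact ⟨Module.Finite.equiv e, Module.Projective.of_equiv e⟩
  let w := P ◁ sigmaGEι F N
  have hw : ∀ m, n - 1 ≤ m → IsIso (w.f m) := fun m hm =>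
    tensorHom_f_bijective hP _ N (fun q hq => isIso_sigmaGEι_f F N q hq) m (by omega)
  haveI : IsIso (HomologicalComplex.homologyMap w n) := by
    haveI := hw (n - 1) le_rfl
    haveI := hw n (by omega)
    haveI := hw (n + 1) (by omega)
    rw [← quasiIsoAt_iff_isIso_homologyMap,
      quasiIsoAt_iff' w (n - 1) n (n + 1) (CochainComplex.prev ℤ n) (CochainComplex.next ℤ n)]
    have h1 : Epi ((HomologicalComplex.shortComplexFunctor' (ModuleCat.{u} A) _ (n - 1) n (n + 1)).map w).τ₁ :=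
      inferInstanceAs (Epi (w.f (n - 1)))
    have h2 : IsIso ((HomologicalComplex.shortComplexFunctor' (ModuleCat.{u} A) _ (n - 1) n (n + 1)).map w).τ₂ :=
      inferInstanceAs (IsIso (w.f n))
    have h3 : Mono ((HomologicalComplex.shortComplexFunctor' (ModuleCat.{u} A) _ (n - 1) n (n + 1)).map w).τ₃ :=
      inferInstanceAs (Mono (w.f (n + 1)))
    exact ShortComplex.quasiIso_of_epi_of_isIso_of_mono _
  haveI : IsIso ((DerivedCategory.homologyFunctor (ModuleCat.{u} A) n).map (DerivedCategory.Q.map w)) :=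
    (NatIso.isIso_map_iff (DerivedCategory.homologyFunctorFactors (ModuleCat.{u} A) n) w).2
      (inferInstanceAs (IsIso (HomologicalComplex.homologyMap w n)))
  have hb := (DRingTel.tbOn_iff f _).1 ((DRingTel.subsingleton_iff f _).1
    (cg_tensor_bounded hG hG' P f (h f hf))) n
  exact hb.of_equiv (asIso ((DerivedCategory.homologyFunctor (ModuleCat.{u} A) n).map
    (DerivedCategory.Q.map w))).toLinearEquiv

/-- Completion commutes with tensor products, on resolutions. -/
theorem exists_data (I : Ideal A) [DRing.HasDerivedCompletion I] (K : Dual.D A) (b : ℤ)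
    (hK : ∀ i, b < i → Subsingleton (Dual.HD A K i)) {F : DRing.Cx A} {c : ℤ}
    (hFc : DRing.VanishesAbove F c) (hFf : DRing.TermwiseFiniteFree F) :
    ∃ (P₁ P₂ : DRing.Cx A) (α : P₁ ⟶ P₂) (e₁ : DerivedCategory.Q.obj P₁ ≅ K)
      (e₂ : DerivedCategory.Q.obj P₂ ≅ ((DRing.derivedCompletion I).obj K).obj),
      IsKF P₁ ∧ IsKF P₂ ∧ e₁.hom ≫ DRing.toDerivedCompletion I K = DerivedCategory.Q.map α ≫ e₂.hom ∧
      DRing.IsDerivedComplete I (DerivedCategory.Q.obj (P₂ ⊗ F)) ∧
      ∀ (F' : DRing.Cx A) (E : Dual.D A), DRing.IsDerivedComplete I E → Function.Bijective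
        (fun φ : DerivedCategory.Q.obj (P₂ ⊗ F') ⟶ E => DerivedCategory.Q.map (α ▷ F') ≫ φ) := by
  have hu := refl_unit (I := I) K
  obtain ⟨P₁, hP₁, hb₁, hp₁, ⟨e₁⟩⟩ := exists_proj_res K b hK
  obtain ⟨P₂, hP₂, hb₂, hp₂, ⟨e₂⟩⟩ := exists_proj_res ((DRing.derivedCompletion I).obj K).obj b
    (LE.of_refl hu hK)
  haveI := hP₁
  haveI := hP₂
  let q := DerivedCategory.quotientCompQhIso (ModuleCat.{u} A)
  obtain ⟨a', ha⟩ := (CochainComplex.IsKProjective.Qh_map_bijective P₁ ((qH A).obj P₂)).2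
    (q.hom.app P₁ ≫ (e₁.hom ≫ DRing.toDerivedCompletion I K ≫ e₂.inv) ≫ q.inv.app P₂)
  obtain ⟨α, rfl⟩ := (qH A).map_surjective a'
  have hα : DerivedCategory.Q.map α = e₁.hom ≫ DRing.toDerivedCompletion I K ≫ e₂.inv :=
    (cancel_epi (q.hom.app P₁)).1 ((q.hom.naturality α).symm.trans
      ((congrArg (· ≫ q.hom.app P₂) ha).trans (by simp)))
  have hcomp : DRing.IsDerivedComplete I (DerivedCategory.Q.obj P₂) := fun f hf n => by
    have := hu.mem f hf n
    exact (Iso.homCongr (Iso.refl _) ((CategoryTheory.shiftFunctor (Dual.D A) n).mapIso e₂)).subsingleton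
  refine ⟨P₁, P₂, α, e₁, e₂, isKF_of_projective hb₁ hp₁, isKF_of_projective hb₂ hp₂,
    by rw [hα]; simp, isDerivedComplete_tensor I hb₂ hFc hFf hcomp, fun F' E hE => ?_⟩
  obtain ⟨J, hJ, -, ⟨eJ⟩⟩ := exists_resolution E
  haveI := hJ
  haveI := hasRHomCx F'
  have hH : DRing.IsDerivedComplete I (DerivedCategory.Q.obj (DRing.homCx F' J)) := fun f hf n => by
    have := cg_rhom F' f E (hE f hf) n
    exact (Iso.homCongr (Iso.refl _) ((CategoryTheory.shiftFunctor (Dual.D A) n).mapIso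
      (isoOfKInjective F' J ≪≫ (DRing.RHomCx F').mapIso eJ.symm))).subsingleton
  have hb := bijective_whiskerRight α F' J fun n => by
    rw [hα]
    refine ⟨fun x y h => ?_, fun y => ?_⟩
    · rw [← cancel_epi e₂.inv]
      refine (hu.bij _ hH n).1 ?_
      rw [← cancel_epi e₁.hom]
      simpa using h
    · obtain ⟨x, hx⟩ := (hu.bij _ hH n).2 (e₁.inv ≫ y)
      exact ⟨e₂.hom ≫ x, by simpa using congrArg (e₁.hom ≫ ·) hx⟩
  refine ⟨fun x y h => ?_, fun y => ?_⟩
  · rw [← cancel_mono eJ.hom]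
    refine hb.1 ?_
    simp only [← Category.assoc]
    exact congrArg (· ≫ eJ.hom) h
  · obtain ⟨x, hx⟩ := hb.2 (y ≫ eJ.hom)
    refine ⟨x ≫ eJ.inv, ?_⟩
    dsimp only at hx ⊢
    rw [← Category.assoc, hx, Category.assoc, eJ.hom_inv_id, Category.comp_id]

/-- Transport along compatible isomorphisms. -/
lemma transport (I : Ideal A) {X₁ X₂ Y₁ Y₂ : Dual.D A} (x : X₁ ⟶ X₂) (y : Y₁ ⟶ Y₂) (e₁ : X₁ ≅ Y₁)
    (e₂ : X₂ ≅ Y₂) (sq : x ≫ e₂.hom = e₁.hom ≫ y) (hX : DRing.IsDerivedComplete I X₂)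
    (hb : ∀ E, DRing.IsDerivedComplete I E → Function.Bijective (fun φ : X₂ ⟶ E => x ≫ φ)) :
    DRing.IsDerivedComplete I Y₂ ∧
      ∀ E, DRing.IsDerivedComplete I E → Function.Bijective (fun φ : Y₂ ⟶ E => y ≫ φ) := by
  refine ⟨fun f hf n => ?_, fun E hE => ?_⟩
  · have := hX f hf n
    exact (Iso.homCongr (Iso.refl _) ((CategoryTheory.shiftFunctor (Dual.D A) n).mapIso e₂.symm)).subsingleton
  · refine ⟨fun a b h => ?_, fun w => ?_⟩
    · rw [← cancel_epi e₂.hom]
      refine (hb E hE).1 ?_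
      dsimp only at h ⊢
      rw [← Category.assoc, sq, Category.assoc, h, ← Category.assoc, ← sq, Category.assoc]
    · obtain ⟨v, hv⟩ := (hb E hE).2 (e₁.hom ≫ w)
      refine ⟨e₂.inv ≫ v, ?_⟩
      dsimp only at hv ⊢
      rw [← cancel_epi e₁.hom, ← Category.assoc e₁.hom, ← sq, Category.assoc, e₂.hom_inv_id_assoc, hv]

/-- `K^∧ ⊗^L F` is the completion of `K ⊗^L F`. -/
theorem ltensorCx (I : Ideal A) [DRing.HasDerivedCompletion I] {F : DRing.Cx A} {c : ℤ}
    (hFc : DRing.VanishesAbove F c) (hFf : DRing.TermwiseFiniteFree F) [DRing.HasLTensorCx A F]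
    (K : Dual.D A) (b : ℤ) (hK : ∀ i, b < i → Subsingleton (Dual.HD A K i)) :
    DRing.IsDerivedComplete I ((DRing.LTensorCx A F).obj ((DRing.derivedCompletion I).obj K).obj) ∧
      ∀ E : Dual.D A, DRing.IsDerivedComplete I E →
        Function.Bijective (fun φ : (DRing.LTensorCx A F).obj ((DRing.derivedCompletion I).obj K).obj ⟶ E =>
          (DRing.LTensorCx A F).map (DRing.toDerivedCompletion I K) ≫ φ) := by
  obtain ⟨P₁, P₂, α, e₁, e₂, h₁, h₂, sq, hc, hb⟩ := exists_data I K b hK hFc hFf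
  let η := (DRing.tensorCxQ A F).totalLeftDerivedCounit DerivedCategory.Q
    (HomologicalComplex.quasiIso (ModuleCat.{u} A) (ComplexShape.up ℤ))
  haveI : IsIso (η.app P₁) := (DRingLTensorCx.resTensorCx F).isIso_totalLeftDerivedCounit DerivedCategory.Q h₁
  haveI : IsIso (η.app P₂) := (DRingLTensorCx.resTensorCx F).isIso_totalLeftDerivedCounit DerivedCategory.Q h₂
  let i₁ : DerivedCategory.Q.obj (P₁ ⊗ F) ≅ (DRing.LTensorCx A F).obj K :=
    (asIso (η.app P₁)).symm ≪≫ (DRing.LTensorCx A F).mapIso e₁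
  let i₂ : DerivedCategory.Q.obj (P₂ ⊗ F) ≅ (DRing.LTensorCx A F).obj ((DRing.derivedCompletion I).obj K).obj :=
    (asIso (η.app P₂)).symm ≪≫ (DRing.LTensorCx A F).mapIso e₂
  refine transport I (DerivedCategory.Q.map (α ▷ F)) _ i₁ i₂ ?_ hc (hb F)
  rw [← cancel_epi (η.app P₁)]
  have hn : (DRing.LTensorCx A F).map (DerivedCategory.Q.map α) ≫ η.app P₂ =
      η.app P₁ ≫ DerivedCategory.Q.map (α ▷ F) := η.naturality α
  change η.app P₁ ≫ DerivedCategory.Q.map (α ▷ F) ≫ inv (η.app P₂) ≫ (DRing.LTensorCx A F).map e₂.hom =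
    η.app P₁ ≫ (inv (η.app P₁) ≫ (DRing.LTensorCx A F).map e₁.hom) ≫
      (DRing.LTensorCx A F).map (DRing.toDerivedCompletion I K)
  rw [← reassoc_of% hn, IsIso.hom_inv_id_assoc, Category.assoc, IsIso.hom_inv_id_assoc,
    ← Functor.map_comp, ← Functor.map_comp, sq]

lemma sq_comp {D : Type*} [Category D] {X X' Y Y' Z Z' : D} {x : X ⟶ X'} {y : Y ⟶ Y'} {z : Z ⟶ Z'}
    {p : X ⟶ Y} {p' : X' ⟶ Y'} {q : Y ⟶ Z} {q' : Y' ⟶ Z'} (h₁ : x ≫ p' = p ≫ y) (h₂ : y ≫ q' = q ≫ z) :
    x ≫ p' ≫ q' = (p ≫ q) ≫ z := by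
  rw [← Category.assoc, h₁, Category.assoc, h₂, Category.assoc]

/-- `K^∧ ⊗^L M` is the completion of `K ⊗^L M`. -/
theorem ltensor (I : Ideal A) [DRing.HasDerivedCompletion I] (M : ModuleCat.{u} A)
    [DRing.HasLTensor A M] (hM : DRing.IsPseudoCoherentModule' A M)
    (K : Dual.D A) (b : ℤ) (hK : ∀ i, b < i → Subsingleton (Dual.HD A K i)) :
    DRing.IsDerivedComplete I ((DRing.LTensor A M).obj ((DRing.derivedCompletion I).obj K).obj) ∧
      ∀ E : Dual.D A, DRing.IsDerivedComplete I E →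
        Function.Bijective (fun φ : (DRing.LTensor A M).obj ((DRing.derivedCompletion I).obj K).obj ⟶ E =>
          (DRing.LTensor A M).map (DRing.toDerivedCompletion I K) ≫ φ) := by
  obtain ⟨F, c, hFc, hFf, ⟨eF⟩⟩ := hM
  let S := (single₀ A).obj M
  haveI := DRingProjAmp.isKProjective (R := A) (P := F)
    (fun i => by haveI := (hFf i).2; exact Module.Projective.of_free) hFc
  obtain ⟨β, hβ⟩ := DRingLTensorCx.exists_quasiIso_of_iso
    (eF ≪≫ (DerivedCategory.singleFunctorIsoCompQ (ModuleCat.{u} A) 0).app M :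
      DerivedCategory.Q.obj F ≅ DerivedCategory.Q.obj S)
  obtain ⟨P₁, P₂, α, e₁, e₂, h₁, h₂, sq, hc, hb⟩ := exists_data I K b hK hFc hFf
  let q := HomotopyCategory.quotient (ModuleCat.{u} A) (ComplexShape.up ℤ)
  let τ := Functor.whiskerLeft q ((DRing.tensorKh A M).totalLeftDerivedCounit DerivedCategory.Qh
    (HomotopyCategory.quasiIso (ModuleCat.{u} A) (ComplexShape.up ℤ)))
  let iQ := DerivedCategory.quotientCompQhIso (ModuleCat.{u} A)
  let sI := singleIso (curriedTensor (ModuleCat.{u} A)) M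
  have hiso : ∀ P, IsKF P → IsIso (τ.app P) := fun P hP =>
    (resTensor M).isIso_totalLeftDerivedCounit' DerivedCategory.Q DerivedCategory.Qh q
      (HomologicalComplex.homotopyEquivalences (ModuleCat.{u} A) (ComplexShape.up ℤ)) iQ _ hP
  let ν : ∀ P, IsKF P → (DerivedCategory.Q.obj (P ⊗ F) ≅ (DRing.LTensor A M).obj (DerivedCategory.Q.obj P)) :=
    fun P hP =>
      haveI : QuasiIso (P ◁ β) := quasiIso_tensorHom_id β hP
      haveI := hiso P hP
      asIso (DerivedCategory.Q.map (P ◁ β)) ≪≫ DerivedCategory.Q.mapIso (sI.app P) ≪≫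
        ((tensQIso M).app P).symm ≪≫ (asIso (τ.app P)).symm ≪≫ (DRing.LTensor A M).mapIso (iQ.app P)
  have hν : DerivedCategory.Q.map (α ▷ F) ≫ (ν P₂ h₂).hom =
      (ν P₁ h₁).hom ≫ (DRing.LTensor A M).map (DerivedCategory.Q.map α) := by
    haveI := hiso P₁ h₁
    haveI := hiso P₂ h₂
    have n1 : DerivedCategory.Q.map (α ▷ F) ≫ DerivedCategory.Q.map (P₂ ◁ β) =
        DerivedCategory.Q.map (P₁ ◁ β) ≫ DerivedCategory.Q.map (α ▷ S) := by
      rw [← Functor.map_comp, ← Functor.map_comp, ← MonoidalCategory.whisker_exchange]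
    have n2 : DerivedCategory.Q.map (α ▷ S) ≫ DerivedCategory.Q.map (sI.hom.app P₂) =
        DerivedCategory.Q.map (sI.hom.app P₁) ≫ DerivedCategory.Q.map ((tensC M).map α) := by
      rw [← Functor.map_comp, ← Functor.map_comp]
      exact congrArg _ (sI.hom.naturality α)
    have n3 : DerivedCategory.Q.map ((tensC M).map α) ≫ (tensQIso M).inv.app P₂ =
        (tensQIso M).inv.app P₁ ≫ (DRing.tensorKh A M).map (q.map α) :=
      (tensQIso M).inv.naturality α
    have n4 : (DRing.tensorKh A M).map (q.map α) ≫ inv (τ.app P₂) =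
        inv (τ.app P₁) ≫ (DRing.LTensor A M).map (DerivedCategory.Qh.map (q.map α)) := by
      rw [IsIso.comp_inv_eq, Category.assoc, IsIso.eq_inv_comp]
      exact (τ.naturality α).symm
    have n5 : (DRing.LTensor A M).map (DerivedCategory.Qh.map (q.map α)) ≫
        (DRing.LTensor A M).map (iQ.hom.app P₂) =
        (DRing.LTensor A M).map (iQ.hom.app P₁) ≫ (DRing.LTensor A M).map (DerivedCategory.Q.map α) := by
      rw [← Functor.map_comp, ← Functor.map_comp]
      exact congrArg _ (iQ.hom.naturality α)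
    exact sq_comp n1 (sq_comp n2 (sq_comp n3 (sq_comp n4 n5)))
  refine transport I (DerivedCategory.Q.map (α ▷ F)) _
    (ν P₁ h₁ ≪≫ (DRing.LTensor A M).mapIso e₁) (ν P₂ h₂ ≪≫ (DRing.LTensor A M).mapIso e₂) ?_ hc (hb F)
  refine sq_comp hν ?_
  rw [Functor.mapIso_hom, Functor.mapIso_hom, ← Functor.map_comp, ← Functor.map_comp, sq]

end Groth.Agent.H9Misc.DRingComplTensor
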