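import Mathlib
import Groth.Agent.H9Misc.DRingLBase
import Groth.Prelude.Def_DRing3

/-! Derived base change along `R[x] → R`, `x ↦ 0`, after restriction. -/

set_option linter.style.haveILetI false

universe u

open CategoryTheory CategoryTheory.Limits CategoryTheory.Pretriangulated
open scoped TensorProduct Polynomial

attribute [local instance] HasDerivedCategory.standard

namespace Groth.Agent.H9Misc.DRingEvalZero

open DRingLTensor DRingLBase

variable (R : Type u) [CommRing R]

/-- Evaluation at zero. -/
noncomputable abbrev φ : R[X] →+* R := Polynomial.evalRingHom 0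

variable {R}

/-- `R[x]` as an `R`-module along `C`. -/
@[reducible] noncomputable def polyModule : Module R R[X] := Module.compHom R[X] (Polynomial.C (R := R))

attribute [local instance high] polyModule

/-- The constant coefficient, linear along `C`. -/
noncomputable def e₀ : R[X] →ₗ[R] R where
  toFun := φ R
  map_add' := map_add _
  map_smul' r f := (map_mul (φ R) (Polynomial.C r) f).trans
    (congrArg (fun t => t * φ R f) Polynomial.eval_C)

/-- Multiplication by `x`. -/
noncomputable def x₀ : R[X] →ₗ[R] R[X] where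
  toFun f := Polynomial.X * f
  map_add' := mul_add _
  map_smul' r f := mul_left_comm Polynomial.X (Polynomial.C r) f

/-- `f ⊗ m ↦ f(0) m`. -/
noncomputable def θ (M : ModuleCat.{u} R) :
    (ModuleCat.extendScalars.{u, u, u} (Polynomial.C (R := R))).obj M ⟶
      (ModuleCat.restrictScalars (φ R)).obj M :=
  ModuleCat.ofHom (X := (ModuleCat.extendScalars.{u, u, u} (Polynomial.C (R := R))).obj M)
      (Y := (ModuleCat.restrictScalars (φ R)).obj M)
    { toFun := fun z : (ModuleCat.extendScalars.{u, u, u} (Polynomial.C (R := R))).obj M =>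
        ((TensorProduct.lid R M) ((e₀ (R := R)).rTensor M z) : M)
      map_add' := fun a b => (congrArg (TensorProduct.lid R M) (map_add _ _ _)).trans (map_add _ _ _)
      map_smul' := fun f z => by
        change _ = φ R f • ((TensorProduct.lid R M) ((e₀ (R := R)).rTensor M z) : M)
        induction z using TensorProduct.induction_on with
        | zero =>
          refine (congrArg (fun t : (ModuleCat.extendScalars.{u, u, u} (Polynomial.C (R := R))).obj M =>
            ((TensorProduct.lid R M) ((e₀ (R := R)).rTensor M t) : M))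
            (@smul_zero R[X] ((ModuleCat.extendScalars.{u, u, u} (Polynomial.C (R := R))).obj M) _ _ f)).trans ?_
          erw [map_zero]
          exact (smul_zero _).symm
        | tmul p m =>
          change φ R (f * (show R[X] from p)) • m = φ R f • (φ R (show R[X] from p) • m)
          rw [map_mul, mul_smul]
        | add a b ha hb =>
          erw [smul_add, map_add, map_add, map_add, map_add, smul_add, ha, hb] }

lemma θ_naturality {M N : ModuleCat.{u} R} (g : M ⟶ N) :
    (ModuleCat.extendScalars.{u, u, u} (Polynomial.C (R := R))).map g ≫ θ N =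
      θ M ≫ (ModuleCat.restrictScalars (φ R)).map g :=
  ModuleCat.ExtendScalars.hom_ext fun m => by
    change φ R 1 • g.hom m = g.hom (φ R 1 • m)
    rw [map_smul]

lemma x₀_rTensor (M : ModuleCat.{u} R) (z : (ModuleCat.extendScalars.{u, u, u} (Polynomial.C (R := R))).obj M) :
    (x₀ (R := R)).rTensor M z = (Polynomial.X : R[X]) • z := by
  induction z using TensorProduct.induction_on with
  | zero =>
    exact (map_zero _).trans (@smul_zero R[X] ((ModuleCat.extendScalars.{u, u, u} (Polynomial.C (R := R))).obj M) _ _ Polynomial.X).symm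
  | tmul p m => rfl
  | add a b ha hb =>
    erw [map_add, ha, hb, smul_add]
    rfl

lemma exact_seq (M : ModuleCat.{u} R) [Module.Flat R M] :
    Function.Injective (fun z : (ModuleCat.extendScalars.{u, u, u} (Polynomial.C (R := R))).obj M =>
        (Polynomial.X : R[X]) • z) ∧
      Function.Exact (fun z : (ModuleCat.extendScalars.{u, u, u} (Polynomial.C (R := R))).obj M =>
        (Polynomial.X : R[X]) • z) (θ M).hom ∧ Function.Surjective (θ M).hom := by
  have he : Function.Exact (x₀ (R := R)) (e₀ (R := R)) := fun f => by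
    change φ R f = 0 ↔ _
    constructor
    · intro h
      rw [Polynomial.coe_evalRingHom, ← Polynomial.coeff_zero_eq_eval_zero, ← Polynomial.X_dvd_iff] at h
      obtain ⟨g, rfl⟩ := h
      exact ⟨g, rfl⟩
    · rintro ⟨g, rfl⟩
      exact (map_mul (φ R) Polynomial.X g).trans (by simp)
  have hes : Function.Surjective (e₀ (R := R)) := fun r => ⟨Polynomial.C r, Polynomial.eval_C⟩
  have hi : Function.Injective ((x₀ (R := R)).rTensor M) :=
    Module.Flat.rTensor_preserves_injective_linearMap _ fun a b h => by
      have h' : (Polynomial.X : R[X]) * a = Polynomial.X * b := h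
      exact Polynomial.monic_X.isRegular.left h'
  have hE := rTensor_exact M he hes
  refine ⟨fun a b h => hi ((x₀_rTensor M a).trans (h.trans (x₀_rTensor M b).symm)), fun z => ?_, fun m => ?_⟩
  · refine (LinearEquiv.map_eq_zero_iff (TensorProduct.lid R M)).trans ((hE z).trans ?_)
    constructor <;> rintro ⟨w, rfl⟩
    · exact ⟨w, (x₀_rTensor M w).symm⟩
    · exact ⟨w, x₀_rTensor M w⟩
  · obtain ⟨z, hz⟩ := (e₀ (R := R)).rTensor_surjective (Q := M) hes ((TensorProduct.lid R M).symm m)
    exact ⟨z, (congrArg (TensorProduct.lid R M) hz).trans (LinearEquiv.apply_symm_apply _ _)⟩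

variable (P : DRing.Cx R)

/-- `P[x]`. -/
noncomputable abbrev poly : DRing.Cx R[X] := (extC' (Polynomial.C (R := R))).obj P

/-- Multiplication by `x` on `P[x]`. -/
noncomputable def mulX : poly P ⟶ poly P where
  f i := (Polynomial.X : R[X]) • 𝟙 ((poly P).X i)
  comm' i j _ := by rw [Linear.smul_comp, Linear.comp_smul, Category.id_comp, Category.comp_id]

/-- The augmentation. -/
noncomputable def aug :
    poly P ⟶ ((ModuleCat.restrictScalars (φ R)).mapHomologicalComplex (ComplexShape.up ℤ)).obj P where
  f i := θ (P.X i)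
  comm' i j _ := (θ_naturality (P.d i j)).symm

lemma mulX_aug : mulX P ≫ aug P = 0 := by
  ext i : 1
  refine ModuleCat.hom_ext (LinearMap.ext fun z => ?_)
  rw [HomologicalComplex.zero_f]
  change (θ (P.X i)).hom ((Polynomial.X : R[X]) • z) = 0
  refine ((θ (P.X i)).hom.map_smul _ _).trans ?_
  change φ R Polynomial.X • (show P.X i from (θ (P.X i)).hom z) = 0
  rw [show φ R Polynomial.X = 0 from Polynomial.eval_X, zero_smul]

lemma shortExact (hP : ∀ i, Module.Flat R (P.X i)) : (ShortComplex.mk _ _ (mulX_aug P)).ShortExact := by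
  refine HomologicalComplex.shortExact_of_degreewise_shortExact _ fun i => ?_
  haveI := hP i
  obtain ⟨h1, h2, h3⟩ := exact_seq (P.X i)
  exact
    { exact := (ShortComplex.ShortExact.moduleCat_exact_iff_function_exact _).2 h2
      mono_f := (ModuleCat.mono_iff_injective _).2 h1
      epi_g := (ModuleCat.epi_iff_surjective _).2 h3 }

lemma map_mulX : (extC' (φ R)).map (mulX P) = 0 := by
  ext i : 1
  refine ModuleCat.ExtendScalars.hom_ext fun z => ?_
  rw [HomologicalComplex.zero_f]
  letI := (φ R).toAlgebra
  change (1 : R) ⊗ₜ[R[X]] ((Polynomial.X : R[X]) • z) = (0 : R ⊗[R[X]] ((poly P).X i))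
  rw [← TensorProduct.smul_tmul]
  change (φ R Polynomial.X * 1) ⊗ₜ[R[X]] z = _
  rw [show φ R Polynomial.X = 0 from Polynomial.eval_X, zero_mul, TensorProduct.zero_tmul]

/-- `Q` of the cone of a zero map splits. -/
lemma nonempty_cone_zero (A B : DRing.Cx R)
    [HasBinaryBiproduct (DerivedCategory.Q.obj B) ((shiftFunctor (Dual.D R) (1 : ℤ)).obj (DerivedCategory.Q.obj A))] :
    Nonempty (DerivedCategory.Q.obj (CochainComplex.mappingCone (0 : A ⟶ B)) ≅
      DerivedCategory.Q.obj B ⊞ (shiftFunctor (Dual.D R) (1 : ℤ)).obj (DerivedCategory.Q.obj A)) := by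
  let T := DerivedCategory.Q.mapTriangle.obj (CochainComplex.mappingCone.triangle (0 : A ⟶ B))
  have hT : T ∈ distTriang (Dual.D R) := DerivedCategory.mappingCone_triangle_distinguished (0 : A ⟶ B)
  obtain ⟨e, -, -⟩ := exists_iso_binaryBiproduct_of_distTriang T.rotate (rot_of_distTriang _ hT) (by
    change -((DerivedCategory.Q.map (0 : A ⟶ B))⟦(1 : ℤ)⟧') = 0
    rw [Functor.map_zero, Functor.map_zero, neg_zero])
  exact ⟨e⟩

theorem lbase_restrict [DRing.HasLBaseChange (φ R)] (K : Dual.D R)
    [HasBinaryBiproduct K ((shiftFunctor (Dual.D R) (1 : ℤ)).obj K)] :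
    Nonempty ((DRing.LBaseChange (φ R)).obj ((DRing.restrictD (φ R)).obj K) ≅
      K ⊞ (shiftFunctor (Dual.D R) (1 : ℤ)).obj K) := by
  obtain ⟨P, hP, hPf, ⟨eK⟩⟩ := exists_rep K
  have hS := shortExact P hPf
  haveI := CochainComplex.mappingCone.quasiIso_descShortComplex hS
  have hP' : IsKF (poly P) := KFlatLib.kFlat_extendScalars (Polynomial.C (R := R)) hP
  obtain ⟨e'⟩ := nonempty_lbase_iso (φ R) (KFlatLib.kFlat_cone (mulX P) hP' hP')
  let e1 : (DRing.restrictD (φ R)).obj K ≅ DerivedCategory.Q.obj (CochainComplex.mappingCone (mulX P)) :=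
    (DRing.restrictD (φ R)).mapIso eK.symm ≪≫
      (ModuleCat.restrictScalars (φ R)).mapDerivedCategoryFactors.app P ≪≫
      (asIso (DerivedCategory.Q.map (CochainComplex.mappingCone.descShortComplex (ShortComplex.mk _ _ (mulX_aug P))))).symm
  let e0 : (extC' (φ R)).obj (poly P) ≅ P :=
    (NatIso.mapHomologicalComplex
      ((ModuleCat.extendScalarsComp (Polynomial.C (R := R)) (φ R)).symm ≪≫
        eqToIso (congrArg ModuleCat.extendScalars.{u, u, u}
          (show (φ R).comp (Polynomial.C (R := R)) = RingHom.id R from RingHom.ext fun r => Polynomial.eval_C)) ≪≫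
        ModuleCat.extendScalarsId R) (ComplexShape.up ℤ)).app P
  let eB : DerivedCategory.Q.obj ((extC' (φ R)).obj (poly P)) ≅ K := DerivedCategory.Q.mapIso e0 ≪≫ eK
  haveI : HasBinaryBiproduct (DerivedCategory.Q.obj ((extC' (φ R)).obj (poly P)))
      ((shiftFunctor (Dual.D R) (1 : ℤ)).obj (DerivedCategory.Q.obj ((extC' (φ R)).obj (poly P)))) :=
    HasBinaryBiproducts.has_binary_biproduct _ _
  obtain ⟨ec⟩ := nonempty_cone_zero ((extC' (φ R)).obj (poly P)) ((extC' (φ R)).obj (poly P))
  exact ⟨(DRing.LBaseChange (φ R)).mapIso e1 ≪≫ e' ≪≫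
    DerivedCategory.Q.mapIso (CochainComplex.mappingCone.mapHomologicalComplexIso (mulX P)
      (ModuleCat.extendScalars.{u, u, u} (φ R)) ≪≫
      eqToIso (congrArg (fun t => CochainComplex.mappingCone t) (map_mulX P))) ≪≫ ec ≪≫
    biprod.mapIso eB ((shiftFunctor (Dual.D R) (1 : ℤ)).mapIso eB)⟩

end Groth.Agent.H9Misc.DRingEvalZero
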