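import Groth.Agent.PcExt.Basic
import Mathlib.Algebra.Homology.DerivedCategory.TStructure
import Mathlib.Algebra.Homology.DerivedCategory.HomologySequence
import Mathlib.Algebra.Category.ModuleCat.FilteredColimits
import Mathlib.CategoryTheory.Limits.ConcreteCategory.Basic

/-! Maps from pseudo-coherent objects into filtered colimits of modules. -/

set_option linter.style.haveILetI false

universe u

open CategoryTheory CategoryTheory.Limits Pretriangulated

attribute [local instance] HasDerivedCategory.standard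

namespace Groth.Agent.H9Misc.DRingExtColim

variable {R : Type u} [CommRing R]

local notation "𝒕" => (DerivedCategory.TStructure.t : Triangulated.TStructure (Dual.D R))

section Colim

variable {J : Type u} [SmallCategory J] [IsFiltered J] {F : J ⥤ ModuleCat.{u} R} {c : Cocone F}

lemma exists_common (j : J) (s : Finset (F.obj j)) (hc : IsColimit c) (hs : ∀ x ∈ s, c.ι.app j x = 0) :
    ∃ (j' : J) (f : j ⟶ j'), ∀ x ∈ s, F.map f x = 0 := by
  classical
  induction s using Finset.induction_on with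
  | empty => exact ⟨j, 𝟙 j, by simp⟩
  | insert a s _ ih =>
    obtain ⟨j₁, f₁, h₁⟩ := ih fun x hx => hs x (Finset.mem_insert_of_mem hx)
    obtain ⟨k, g, g', hk⟩ := Concrete.isColimit_exists_of_rep_eq F hc a (0 : F.obj j) (by
      rw [hs a (Finset.mem_insert_self _ _), map_zero])
    obtain ⟨l, p, q, hl⟩ : ∃ (l : J) (p : j₁ ⟶ l) (q : k ⟶ l), f₁ ≫ p = g ≫ q :=
      ⟨_, IsFiltered.leftToMax j₁ k ≫ IsFiltered.coeqHom (f₁ ≫ IsFiltered.leftToMax j₁ k) (g ≫ IsFiltered.rightToMax j₁ k),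
        IsFiltered.rightToMax j₁ k ≫ IsFiltered.coeqHom (f₁ ≫ IsFiltered.leftToMax j₁ k) (g ≫ IsFiltered.rightToMax j₁ k),
        by rw [← Category.assoc, ← Category.assoc]; exact IsFiltered.coeq_condition _ _⟩
    refine ⟨l, f₁ ≫ p, fun x hx => ?_⟩
    rcases Finset.mem_insert.1 hx with rfl | hx
    · rw [hl, F.map_comp, ModuleCat.comp_apply]
      rw [map_zero] at hk
      rw [hk, map_zero]
    · rw [F.map_comp, ModuleCat.comp_apply, h₁ x hx, map_zero]

lemma exists_hom_eq_zero (hc : IsColimit c) (X : ModuleCat.{u} R) [Module.Finite R X] {j : J} (g : X ⟶ F.obj j)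
    (h : g ≫ c.ι.app j = 0) : ∃ (j' : J) (f : j ⟶ j'), g ≫ F.map f = 0 := by
  classical
  obtain ⟨s, hs⟩ := Module.Finite.fg_top (R := R) (M := X)
  obtain ⟨j', f, hf⟩ := exists_common j (s.image g.hom) hc (fun x hx => by
    obtain ⟨y, -, rfl⟩ := Finset.mem_image.1 hx
    exact congr($(h).hom y))
  refine ⟨j', f, ModuleCat.hom_ext (LinearMap.ext_on hs fun x hx => ?_)⟩
  simpa using hf _ (Finset.mem_image_of_mem _ (Finset.mem_coe.1 hx))

lemma exists_hom_lift (hc : IsColimit c) (X : ModuleCat.{u} R) [Module.Finite R X] [Module.Free R X] (g : X ⟶ c.pt) :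
    ∃ (j : J) (g' : X ⟶ F.obj j), g' ≫ c.ι.app j = g := by
  classical
  let b := Module.Free.chooseBasis R X
  choose J' y hy using fun i => Concrete.isColimit_exists_rep F hc (g.hom (b i))
  let O : Finset J := Finset.univ.image J'
  obtain ⟨k, hk⟩ := IsFiltered.sup_objs_exists O
  let f : ∀ i, J' i ⟶ k := fun i => (hk (Finset.mem_image_of_mem J' (Finset.mem_univ i))).some
  refine ⟨k, ModuleCat.ofHom (b.constr R fun i => F.map (f i) (y i)), ModuleCat.hom_ext (b.ext fun i => ?_)⟩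
  simp only [ModuleCat.hom_comp, LinearMap.comp_apply, ModuleCat.hom_ofHom, Module.Basis.constr_basis]
  rw [← hy i, ← c.w (f i)]
  rfl

end Colim

theorem main (m : ℤ) (K : Dual.D R) (hK : DRing.IsPseudoCoherent R m K) {J : Type u} [SmallCategory J] [IsFiltered J]
    (F : J ⥤ ModuleCat.{u} R) (c : Cocone F) (hc : IsColimit c) :
    (∀ n : ℤ, n < -m → ∀ x : K ⟶ (shiftFunctor (Dual.D R) n).obj (Dual.inD R c.pt),
      ∃ (j : J) (y : K ⟶ (shiftFunctor (Dual.D R) n).obj (Dual.inD R (F.obj j))),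
        y ≫ (shiftFunctor (Dual.D R) n).map
          ((DerivedCategory.singleFunctor (ModuleCat.{u} R) 0).map (c.ι.app j)) = x) ∧
    (∀ n : ℤ, n ≤ -m → ∀ (j : J) (y : K ⟶ (shiftFunctor (Dual.D R) n).obj (Dual.inD R (F.obj j))),
      y ≫ (shiftFunctor (Dual.D R) n).map
          ((DerivedCategory.singleFunctor (ModuleCat.{u} R) 0).map (c.ι.app j)) = 0 →
      ∃ (j' : J) (f : j ⟶ j'), y ≫ (shiftFunctor (Dual.D R) n).map
          ((DerivedCategory.singleFunctor (ModuleCat.{u} R) 0).map (F.map f)) = 0) := by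
  obtain ⟨E, a, b, α, hz, hE, hiso, hepi⟩ := hK
  haveI : E.IsKProjective := PcExt.isKProjective_of_termwiseFiniteFree E b (fun i hi => hz i (Or.inr hi)) hE
  haveI := fun i => (hE i).1
  haveI := fun i => (hE i).2
  obtain ⟨C, g, h, hT⟩ := Pretriangulated.distinguished_cocone_triangle α
  haveI hC : 𝒕.IsLE C (m - 1) := by
    refine (DerivedCategory.isLE_iff C (m - 1)).2 fun i hi => ?_
    have e1 := DerivedCategory.HomologySequence.exact₃ _ hT i (i + 1) rfl
    refine e1.isZero_X₂ ?_ ?_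
    · haveI : Epi ((DerivedCategory.homologyFunctor (ModuleCat.{u} R) i).map α) := by
        rcases eq_or_lt_of_le (show m ≤ i by omega) with rfl | hlt
        · exact hepi
        · haveI := hiso i hlt; infer_instance
      exact (cancel_epi ((DerivedCategory.homologyFunctor (ModuleCat.{u} R) i).map α)).1
        (by
          show (DerivedCategory.homologyFunctor (ModuleCat.{u} R) i).map α ≫
            (DerivedCategory.homologyFunctor (ModuleCat.{u} R) i).map g = _
          rw [← Functor.map_comp, show α ≫ g = 0 from comp_distTriang_mor_zero₁₂ _ hT, Functor.map_zero]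
          exact comp_zero.symm)
    · haveI := hiso (i + 1) (by omega)
      exact (cancel_mono ((DerivedCategory.homologyFunctor (ModuleCat.{u} R) (i + 1)).map α)).1
        ((DerivedCategory.HomologySequence.δ_comp _ hT i (i + 1) rfl).trans zero_comp.symm)
  have hge : ∀ (M : ModuleCat.{u} R) (n : ℤ), 𝒕.IsGE ((shiftFunctor (Dual.D R) n).obj (Dual.inD R M)) (-n) :=
    fun M n => by
    haveI : 𝒕.IsGE (Dual.inD R M) 0 :=
      inferInstanceAs (DerivedCategory.IsGE ((DerivedCategory.singleFunctor (ModuleCat.{u} R) 0).obj M) 0)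
    exact 𝒕.isGE_shift _ 0 n (-n) (by omega)
  have hinj : ∀ (M : ModuleCat.{u} R) (n : ℤ), n ≤ -m → ∀ x : K ⟶ (shiftFunctor (Dual.D R) n).obj (Dual.inD R M),
      α ≫ x = 0 → x = 0 := by
    intro M n hn x hx
    obtain ⟨z, hz⟩ := Triangle.yoneda_exact₂ _ hT x hx
    haveI := hge M n
    have hz0 : z = 0 := 𝒕.zero_of_isLE_of_isGE z (m - 1) (-n) (by omega) hC (hge M n)
    rw [hz, hz0]
    exact comp_zero
  refine ⟨fun n hn x => ?_, fun n hn j y hy => ?_⟩
  · obtain ⟨φ, hφ, hφe⟩ := PcExt.homOfCocycle_surjective E (q := -n) (p := n) (by omega) (-n - 1) (by omega) (α ≫ x)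
    obtain ⟨j, φj, hφj⟩ := exists_hom_lift hc (E.X (-n)) φ
    obtain ⟨j', f, hf⟩ := exists_hom_eq_zero hc (E.X (-n - 1)) (E.d (-n - 1) (-n) ≫ φj) (by rw [Category.assoc, hφj, hφ])
    let y₀ : DerivedCategory.Q.obj E ⟶ (shiftFunctor (Dual.D R) n).obj (Dual.inD R (F.obj j')) :=
      PcExt.homOfCocycle E (q := -n) (p := n) (by omega) (φj ≫ F.map f) (-n - 1) (by omega) (by rw [← Category.assoc]; exact hf)
    obtain ⟨y, hy⟩ : ∃ y : K ⟶ (shiftFunctor (Dual.D R) n).obj (Dual.inD R (F.obj j')), α ≫ y = y₀ := by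
      have hT' := inv_rot_of_distTriang _ hT
      obtain ⟨y, hy⟩ := Triangle.yoneda_exact₂ _ hT' y₀ (by
        haveI : 𝒕.IsLE ((shiftFunctor (Dual.D R) (-1 : ℤ)).obj C) m := 𝒕.isLE_shift C (m - 1) (-1) m (by omega)
        exact 𝒕.zero_of_isLE_of_isGE _ m (-n) (by omega) this (hge _ n))
      exact ⟨y, hy.symm⟩
    refine ⟨j', y, sub_eq_zero.1 (hinj c.pt n (by omega) _ ?_)⟩
    rw [Preadditive.comp_sub, ← Category.assoc, hy, sub_eq_zero]
    refine (PcExt.homOfCocycle_comp E _ _ _ _ _ _).trans (Eq.trans (PcExt.homOfCocycle_congr _ ?_ _ _ _ hφ) hφe)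
    rw [Category.assoc, c.w f, hφj]
  · obtain ⟨φ, hφ, hφe⟩ := PcExt.homOfCocycle_surjective E (q := -n) (p := n) (by omega) (-n - 1) (by omega) (α ≫ y)
    have h0 : α ≫ y ≫ (shiftFunctor (Dual.D R) n).map
        ((DerivedCategory.singleFunctor (ModuleCat.{u} R) 0).map (c.ι.app j)) = 0 := by rw [hy, comp_zero]
    rw [← Category.assoc, ← hφe] at h0
    have h0' := (PcExt.homOfCocycle_comp E _ φ _ _ hφ (c.ι.app j)).symm.trans h0
    obtain ⟨ψ, hψ⟩ := (PcExt.homOfCocycle_eq_zero_iff E _ _ _ _ _ (-n + 1) rfl).1 h0'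
    obtain ⟨j₁, ψ₁, hψ₁⟩ := exists_hom_lift hc (E.X (-n + 1)) ψ
    let k := IsFiltered.max j j₁
    obtain ⟨j', f, hf⟩ := exists_hom_eq_zero hc (E.X (-n))
      (φ ≫ F.map (IsFiltered.leftToMax j j₁) - E.d (-n) (-n + 1) ≫ ψ₁ ≫ F.map (IsFiltered.rightToMax j j₁)) (by
        rw [Preadditive.sub_comp, Category.assoc, Category.assoc, Category.assoc, c.w, c.w, hψ₁, hψ, sub_self])
    refine ⟨j', IsFiltered.leftToMax j j₁ ≫ f, hinj _ n hn _ ?_⟩
    rw [← Category.assoc, ← hφe]
    refine (PcExt.homOfCocycle_comp E _ φ _ _ hφ _).trans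
      ((PcExt.homOfCocycle_eq_zero_iff E _ _ _ _ _ (-n + 1) rfl).2 ⟨ψ₁ ≫ F.map (IsFiltered.rightToMax j j₁ ≫ f), ?_⟩)
    rw [Preadditive.sub_comp, sub_eq_zero] at hf
    simp only [Functor.map_comp]
    simpa [Category.assoc] using hf.symm

end Groth.Agent.H9Misc.DRingExtColim
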