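import Mathlib
import Groth.Agent.H9Misc.DRingTorDescent
import Groth.Agent.H9Misc.DRingPerfect
import Groth.Agent.H9Misc.DRingRightExact
import Groth.Agent.H9Misc.DRingRestrict

/-! Tor amplitude of pseudo-coherent complexes through their closed fibres. -/

set_option linter.style.haveILetI false

universe u

open CategoryTheory CategoryTheory.Limits MonoidalCategory TensorProduct

attribute [local instance] HasDerivedCategory.standard

namespace Groth.Agent.H9Misc.DRingFibre

open DRingTor DRingLTensor DRingRestrict Groth.Agent.KFlatLib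

section Local

variable {A : Type u} [CommRing A] [IsLocalRing A]

local notation "k" => IsLocalRing.ResidueField A

/-- Over a local ring, exactness modulo the maximal ideal at a finite free term splits the sequence. -/
theorem exists_splitting {F₁ F₂ F₃ : Type u} [AddCommGroup F₁] [Module A F₁] [AddCommGroup F₂] [Module A F₂]
    [AddCommGroup F₃] [Module A F₃] [Module.Finite A F₂] [Module.Free A F₂] [Module.Finite A F₃]
    [Module.Free A F₃] (d₁ : F₁ →ₗ[A] F₂) (d₂ : F₂ →ₗ[A] F₃) (hd : d₂ ∘ₗ d₁ = 0)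
    (hex : Function.Exact (d₁.lTensor k) (d₂.lTensor k)) :
    ∃ (h : F₂ →ₗ[A] F₁) (r : F₃ →ₗ[A] F₂), d₁ ∘ₗ h + r ∘ₗ d₂ = LinearMap.id := by
  let W : Submodule k (k ⊗[A] F₂) := LinearMap.range (d₁.baseChange k)
  let Q := (k ⊗[A] F₂) ⧸ W
  let q := Module.finBasis k Q
  let n := Module.finrank k Q
  have hq : ∀ j, ∃ x : F₂, W.mkQ ((1 : k) ⊗ₜ[A] x) = q j := fun j => by
    obtain ⟨y, hy⟩ := W.mkQ_surjective (q j)
    obtain ⟨x, rfl⟩ := TensorProduct.mk_surjective A F₂ k Ideal.Quotient.mk_surjective y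
    exact ⟨x, hy⟩
  choose x hx using hq
  let s : (Fin n → A) →ₗ[A] F₂ := Fintype.linearCombination A x
  -- the composite with `W.mkQ` is bijective
  let β : k ⊗[A] (Fin n → A) →ₗ[k] Q := W.mkQ ∘ₗ s.baseChange k
  let bA := Algebra.TensorProduct.basis k (Pi.basisFun A (Fin n))
  have hβ : β = (bA.equiv q (Equiv.refl _)).toLinearMap := by
    refine bA.ext fun j => ?_
    rw [LinearEquiv.coe_coe, Module.Basis.equiv_apply, Equiv.refl_apply]
    show W.mkQ (s.baseChange k (bA j)) = q j
    rw [Algebra.TensorProduct.basis_apply, LinearMap.baseChange_tmul, ← hx j]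
    simp [s, Fintype.linearCombination_apply_single, Pi.basisFun_apply]
  have hu : Function.Injective ((d₂ ∘ₗ s).lTensor k) := by
    rw [injective_iff_map_eq_zero]
    intro z hz
    rw [LinearMap.lTensor_comp, LinearMap.comp_apply] at hz
    obtain ⟨w, hw⟩ := (hex _).1 hz
    have hzW : s.baseChange k z ∈ W := ⟨w, hw⟩
    have : β z = 0 := (Submodule.Quotient.mk_eq_zero W).2 hzW
    rw [hβ, LinearEquiv.coe_coe, LinearEquiv.map_eq_zero_iff] at this
    exact this
  obtain ⟨r₀, hr₀⟩ := (IsLocalRing.split_injective_iff_lTensor_residueField_injective _).2 hu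
  have hv : Function.Surjective (d₁.coprod s) := by
    rw [← LinearMap.range_eq_top, ← IsLocalRing.map_tensorProduct_mk_eq_top, eq_top_iff]
    intro y _
    obtain ⟨z, hz⟩ : ∃ z, β z = W.mkQ y := by
      rw [hβ]
      exact (bA.equiv q (Equiv.refl _)).surjective _
    obtain ⟨w, hw⟩ : y - s.baseChange k z ∈ W := by
      rw [← Submodule.Quotient.mk_eq_zero]
      show W.mkQ (y - s.baseChange k z) = 0
      rw [map_sub, sub_eq_zero]
      exact hz.symm
    have hy : y = d₁.baseChange k w + s.baseChange k z := by rw [hw, sub_add_cancel]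
    obtain ⟨w₀, rfl⟩ := TensorProduct.mk_surjective A F₁ k Ideal.Quotient.mk_surjective w
    obtain ⟨z₀, rfl⟩ := TensorProduct.mk_surjective A (Fin n → A) k Ideal.Quotient.mk_surjective z
    refine ⟨d₁.coprod s (w₀, z₀), ⟨(w₀, z₀), rfl⟩, ?_⟩
    rw [hy]
    simp [TensorProduct.tmul_add]
  obtain ⟨σ, hσ⟩ := Module.projective_lifting_property (d₁.coprod s) LinearMap.id hv
  refine ⟨LinearMap.fst A _ _ ∘ₗ σ, s ∘ₗ r₀, LinearMap.ext fun y => ?_⟩
  have h1 : d₁ (σ y).1 + s (σ y).2 = y := LinearMap.congr_fun hσ y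
  have h2 : d₂ y = d₂ (s (σ y).2) := by
    conv_lhs => rw [← h1]
    rw [map_add, show d₂ (d₁ (σ y).1) = 0 from LinearMap.congr_fun hd _, zero_add]
  show d₁ (σ y).1 + s (r₀ (d₂ y)) = y
  rw [h2, show r₀ (d₂ (s (σ y).2)) = (σ y).2 from LinearMap.congr_fun hr₀ _]
  exact h1

end Local

variable {A : Type u} [CommRing A]

/-- A split exact spot stays exact after tensoring. -/
lemma exactAt_of_splitting {E : DRing.Cx A} (i : ℤ) (h : E.X i →ₗ[A] E.X (i - 1)) (r : E.X (i + 1) →ₗ[A] E.X i)
    (e : (E.d (i - 1) i).hom ∘ₗ h + r ∘ₗ (E.d i (i + 1)).hom = LinearMap.id) (M : ModuleCat.{u} A) :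
    ((tensC M).obj E).ExactAt i := by
  rw [HomologicalComplex.exactAt_iff' _ (i - 1) i (i + 1) (by simp) (by simp), ShortComplex.moduleCat_exact_iff]
  intro y hy
  refine ⟨h.rTensor M y, ?_⟩
  have h' := LinearMap.congr_fun (congrArg (LinearMap.rTensor M) e) y
  rw [LinearMap.rTensor_add, LinearMap.add_apply, LinearMap.rTensor_comp, LinearMap.rTensor_comp,
    LinearMap.comp_apply, LinearMap.comp_apply, LinearMap.rTensor_id_apply] at h'
  rw [show (E.d i (i + 1)).hom.rTensor M y = 0 from hy, map_zero, add_zero] at h'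
  exact h'

lemma exact_of_extC {B : Type u} [CommRing B] [Algebra A B] {E : DRing.Cx A} (i : ℤ)
    (h : ((extC' (algebraMap A B)).obj E).ExactAt i) :
    Function.Exact ((E.d (i - 1) i).hom.lTensor B) ((E.d i (i + 1)).hom.lTensor B) := by
  revert h
  rename_i i1 i2 i3
  have he : (algebraMap A B).toAlgebra = i3 := Algebra.algebra_ext _ _ fun _ => rfl
  generalize algebraMap A B = φ at he
  subst he
  intro h
  rw [HomologicalComplex.exactAt_iff' _ (i - 1) i (i + 1) (by simp) (by simp),
    ShortComplex.moduleCat_exact_iff] at h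
  intro y
  refine ⟨fun hy => ?_, ?_⟩
  · obtain ⟨x, hx⟩ := h y hy
    exact ⟨x, hx⟩
  · rintro ⟨x, rfl⟩
    rw [← LinearMap.comp_apply, ← LinearMap.lTensor_comp, ← ModuleCat.hom_comp, E.d_comp_d,
      ModuleCat.hom_zero, LinearMap.lTensor_zero, LinearMap.zero_apply]

/-- Over a local ring, vanishing in the closed fibre is universal. -/
theorem exactAt_of_fibre [IsLocalRing A] {B : Type u} [Field B] (φ : A →+* B) (hφ : Function.Surjective φ)
    {E : DRing.Cx A} (hE : DRing.TermwiseFiniteFree E) (i : ℤ) (h : ((extC' φ).obj E).ExactAt i)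
    (M : ModuleCat.{u} A) : ((tensC M).obj E).ExactAt i := by
  letI := φ.toAlgebra
  have hex := exact_of_extC (B := B) i h
  haveI : (RingHom.ker φ).IsMaximal := RingHom.ker_isMaximal_of_surjective φ hφ
  have hker : RingHom.ker φ = IsLocalRing.maximalIdeal A := IsLocalRing.eq_maximalIdeal inferInstance
  let e : IsLocalRing.ResidueField A ≃ₗ[A] B :=
    (Submodule.quotEquivOfEq _ _ hker.symm).trans
      ((Algebra.linearMap A B).quotKerEquivOfSurjective hφ)
  let g : ∀ X : ModuleCat.{u} A, IsLocalRing.ResidueField A ⊗[A] X ≃ₗ[A] B ⊗[A] X :=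
    fun X => TensorProduct.congr e (LinearEquiv.refl A X)
  have hn : ∀ {X Y : ModuleCat.{u} A} (d : X →ₗ[A] Y), d.lTensor B ∘ₗ (g X).toLinearMap =
      (g Y).toLinearMap ∘ₗ d.lTensor (IsLocalRing.ResidueField A) := fun d =>
    TensorProduct.ext' fun a b => rfl
  have hexk := (Function.Exact.iff_of_ladder_linearEquiv (hn _) (hn _)).1 hex
  haveI := (hE i).1
  haveI := (hE i).2
  haveI := (hE (i + 1)).1
  haveI := (hE (i + 1)).2
  obtain ⟨h', r, e'⟩ := exists_splitting (E.d (i - 1) i).hom (E.d i (i + 1)).hom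
    (by rw [← ModuleCat.hom_comp, E.d_comp_d, ModuleCat.hom_zero]) hexk
  exact exactAt_of_splitting i h' r e' M

lemma exactAt_extC_comp {B C : Type u} [CommRing B] [CommRing C] (φ : A →+* B) (ψ : B →+* C) (χ : A →+* C)
    (hc : χ = ψ.comp φ) {E : DRing.Cx A} (i : ℤ) :
    ((extC' ψ).obj ((extC' φ).obj E)).ExactAt i ↔ ((extC' χ).obj E).ExactAt i := by
  subst hc
  constructor
  · intro h
    exact DRingRightExact.exactAt_iso_map (F := ModuleCat.extendScalars.{u, u, u} φ ⋙ ModuleCat.extendScalars.{u, u, u} ψ)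
      (G := ModuleCat.extendScalars.{u, u, u} (ψ.comp φ)) (ModuleCat.extendScalarsComp φ ψ).symm E i h
  · intro h
    exact DRingRightExact.exactAt_iso_map (F := ModuleCat.extendScalars.{u, u, u} (ψ.comp φ))
      (G := ModuleCat.extendScalars.{u, u, u} φ ⋙ ModuleCat.extendScalars.{u, u, u} ψ) (ModuleCat.extendScalarsComp φ ψ) E i h

lemma subsingleton_of_tensor_localization (H : ModuleCat.{u} A)
    (h : ∀ (m : Ideal A) [m.IsMaximal], Subsingleton (H ⊗[A] Localization.AtPrime m)) : Subsingleton H := by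
  refine Module.subsingleton_of_localization_maximal (R := A)
    (fun p _ => Localization.AtPrime p ⊗[A] H) (fun p _ => TensorProduct.mk A (Localization.AtPrime p) H 1)
    (fun p hp => ?_)
  haveI := h p
  exact (TensorProduct.comm A _ _).toEquiv.subsingleton

/-- Tor amplitude of a complex of finite free modules is read off at the closed points. -/
theorem amp_of_fibres {E : DRing.Cx A} (hE : DRing.TermwiseFiniteFree E) {b₀ : ℤ}
    (hz : DRing.VanishesAbove E b₀) (a b : ℤ)
    (h : ∀ (m : Ideal A) [m.IsMaximal], ∀ i : ℤ, (i < a ∨ b < i) →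
      ((extC' (Ideal.Quotient.mk m)).obj E).ExactAt i) :
    DRing.HasTorAmplitudeIn A a b (DerivedCategory.Q.obj E) := by
  refine DRingTorDescent.of_family (ι := {m : Ideal A // m.IsMaximal})
    (fun m => haveI := m.2; Localization.AtPrime m.1)
    (fun m => haveI := m.2; algebraMap A (Localization.AtPrime m.1))
    (fun m => haveI := m.2; RingHom.flat_algebraMap_iff.2 (IsLocalization.flat _ m.1.primeCompl))
    (fun H hH => ?_) E a b (fun m => ?_)
  · haveI : Subsingleton H := subsingleton_of_tensor_localization H fun m hm =>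
      ModuleCat.subsingleton_of_isZero (DRingTorDescent.isZero_tensor_of_resB H (hH ⟨m, hm⟩))
    exact ModuleCat.isZero_of_subsingleton H
  obtain ⟨m, hm⟩ := m
  haveI := hm
  letI : Field (A ⧸ m) := Ideal.Quotient.field m
  let φ := algebraMap A (Localization.AtPrime m)
  let ψ : Localization.AtPrime m →+* A ⧸ m := IsLocalization.lift (M := m.primeCompl)
    (g := Ideal.Quotient.mk m) fun s => IsUnit.mk0 _ fun h0 => s.2 (Ideal.Quotient.eq_zero_iff_mem.1 h0)
  have hψ : ψ.comp φ = Ideal.Quotient.mk m := IsLocalization.lift_comp _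
  let E' := (extC' φ).obj E
  have hE' : DRing.TermwiseFiniteFree E' := fun i => finFree_extendScalars φ _ (hE i).1 (hE i).2
  refine hasTorAmplitudeIn_of_van (P := E')
    (isKF_of_flat (fun i => haveI := (hE' i).2; inferInstance)
      (fun i hi => (ModuleCat.extendScalars.{u, u, u} φ).map_isZero (hz i hi)))
    (fun M i hi => ?_) (Iso.refl _)
  refine exactAt_of_fibre ψ (fun y => ?_) hE' i ?_ M
  · obtain ⟨x, rfl⟩ := Ideal.Quotient.mk_surjective y
    exact ⟨φ x, RingHom.congr_fun hψ x⟩
  · exact (exactAt_extC_comp φ ψ _ hψ.symm i).2 (h m i hi)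

end Groth.Agent.H9Misc.DRingFibre

namespace Groth.Agent.H9Misc.DRingFibre

open DRingTor DRingLTensor DRingRestrict Groth.Agent.KFlatLib

variable {A B : Type u} [CommRing A] [CommRing B]

lemma isKF {E : DRing.Cx A} (hE : DRing.TermwiseFiniteFree E) {b : ℤ} (hz : DRing.VanishesAbove E b) : IsKF E :=
  isKF_of_flat (fun i => haveI := (hE i).2; inferInstance) hz

/-- Cohomology of a derived base change, read off from a representative. -/
lemma exactAt_of_lbase (φ : A →+* B) [DRing.HasLBaseChange φ] {E : DRing.Cx A} (hP : IsKF E) {K : Dual.D A}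
    (e : DerivedCategory.Q.obj E ≅ K) (i : ℤ)
    (h : Subsingleton (Dual.HD B ((DRing.LBaseChange φ).obj K) i)) : ((extC' φ).obj E).ExactAt i := by
  obtain ⟨e'⟩ := DRingLBase.nonempty_lbase_iso φ hP
  rw [HomologicalComplex.exactAt_iff_isZero_homology]
  haveI := h
  exact (ModuleCat.isZero_of_subsingleton
    ((DerivedCategory.homologyFunctor (ModuleCat.{u} B) i).obj ((DRing.LBaseChange φ).obj K))).of_iso
    (((DerivedCategory.homologyFunctor (ModuleCat.{u} B) i).mapIso
      (((DRing.LBaseChange φ).mapIso e).symm ≪≫ e')) ≪≫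
      (DerivedCategory.homologyFunctorFactors (ModuleCat.{u} B) i).app _).symm

lemma isPerfect_of_amp {K : Dual.D A} (hK : DRing.IsPseudoCoherent' A K) {a b : ℤ}
    (h : DRing.HasTorAmplitudeIn A a b K) : DRing.IsPerfect A K :=
  (DRingPerfect.isPerfect_iff K).2 ⟨hK, a, b, h⟩

end Groth.Agent.H9Misc.DRingFibre
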