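import Groth.Agent.H9Misc.DRingProjAmp
import Mathlib.CategoryTheory.Triangulated.TStructure.TruncLTGE

/-! Splitting off the upper truncation. -/

set_option linter.style.haveILetI false

universe u

open CategoryTheory CategoryTheory.Category CategoryTheory.Limits
open CategoryTheory.Pretriangulated

attribute [local instance] HasDerivedCategory.standard

namespace Groth.Agent.H9Misc.DRingSplit

open DRingTor DRingProjAmp

variable {R : Type u} [CommRing R]

local notation "𝒕" => (DerivedCategory.TStructure.t : Triangulated.TStructure (Dual.D R))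

lemma hd_of_isLE {X : Dual.D R} {n : ℤ} (h : X.IsLE n) (i : ℤ) (hi : n < i) :
    Subsingleton (Dual.HD R X i) :=
  ModuleCat.subsingleton_of_isZero ((DerivedCategory.isLE_iff X n).1 h i hi)

lemma hd_of_isGE {X : Dual.D R} {n : ℤ} (h : X.IsGE n) (i : ℤ) (hi : i < n) :
    Subsingleton (Dual.HD R X i) :=
  ModuleCat.subsingleton_of_isZero ((DerivedCategory.isGE_iff X n).1 h i hi)

lemma isGE_inD_shift (M : ModuleCat.{u} R) (a : ℤ) :
    𝒕.IsGE ((Dual.inD R M)⟦-a⟧) a := by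
  haveI : 𝒕.IsGE (Dual.inD R M) 0 :=
    inferInstanceAs (DerivedCategory.IsGE ((DerivedCategory.singleFunctor (ModuleCat.{u} R) 0).obj M) 0)
  exact 𝒕.isGE_shift _ 0 (-a) a (by omega)

variable (K : Dual.D R) (a : ℤ)

lemma eq_zero_of_comp_π (M : ModuleCat.{u} R)
    (f : (𝒕.truncGE (a + 1)).obj K ⟶ (Dual.inD R M)⟦-a⟧)
    (hf : (𝒕.truncGEπ (a + 1)).app K ≫ f = 0) : f = 0 := by
  obtain ⟨g, hg⟩ := Triangle.yoneda_exact₃ _ (𝒕.triangleLTGE_distinguished (a + 1) K) f hf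
  haveI := isGE_inD_shift M a
  have hg' := 𝒕.zero_of_isLE_of_isGE g (a - 1) a (by omega)
    (haveI : 𝒕.IsLE ((𝒕.triangleLTGE (a + 1)).obj K).obj₁ a :=
      inferInstanceAs (𝒕.IsLE ((𝒕.truncLT (a + 1)).obj K) a)
     𝒕.isLE_shift _ a 1 (a - 1) (by omega)) inferInstance
  rw [hg, hg']
  exact comp_zero

lemma isLE_truncGE {b : ℤ} (hK : ∀ i : ℤ, b < i → Subsingleton (Dual.HD R K i)) (hab : a ≤ b) :
    ((𝒕.truncGE (a + 1)).obj K).IsLE b := by
  haveI : K.IsLE b := isLE_of_hd hK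
  haveI h' : 𝒕.IsLE (((𝒕.truncLT (a + 1)).obj K)⟦(1 : ℤ)⟧) b := by
    haveI := 𝒕.isLE_shift ((𝒕.truncLT (a + 1)).obj K) a 1 (a - 1) (by omega)
    exact 𝒕.isLE_of_le _ (a - 1) b (by omega)
  exact 𝒕.isLE₂ _ (rot_of_distTriang _ (𝒕.triangleLTGE_distinguished (a + 1) K)) b (inferInstanceAs (𝒕.IsLE K b)) h'

theorem exists_rep (hKb : ∃ b : ℤ, ∀ i : ℤ, b < i → Subsingleton (Dual.HD R K i))
    (h : ∀ (M : Type u) [AddCommGroup M] [Module R M],
      Subsingleton ((𝒕.truncGE (a + 1)).obj K ⟶ (Dual.inD R M)⟦-a⟧)) :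
    ∃ (P : DRing.Cx R) (b : ℤ), DRing.VanishesOutside P (a + 1) b ∧ (∀ i : ℤ, Module.Projective R (P.X i)) ∧
        Nonempty (DRing.toD P ≅ (𝒕.truncGE (a + 1)).obj K) := by
  obtain ⟨b₀, hb₀⟩ := hKb
  have hle := isLE_truncGE K a (b := max b₀ a) (fun i hi => hb₀ i (by omega)) (le_max_right _ _)
  obtain ⟨P, h₁, h₂, h₃⟩ := exists_projective_rep (R := R) (a := a + 1) (b := max b₀ a)
    (K := (𝒕.truncGE (a + 1)).obj K)
    (fun n hn => hn.elim (fun hn => hd_of_isGE (n := a + 1) inferInstance n (by omega)) (hd_of_isLE hle n))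
    (fun N _ _ => by rw [show -(a + 1) + 1 = -a by omega]; exact h N)
  exact ⟨P, _, h₁, h₂, h₃⟩

theorem split {P : DRing.Cx R} {b : ℤ} (hz : DRing.VanishesOutside P (a + 1) b)
    (hP : ∀ i : ℤ, Module.Projective R (P.X i))
    (e : DRing.toD P ≅ (𝒕.truncGE (a + 1)).obj K)
    [HasBinaryBiproduct ((𝒕.truncLT (a + 1)).obj K) ((𝒕.truncGE (a + 1)).obj K)] :
    ∃ e : K ≅ (𝒕.truncLT (a + 1)).obj K ⊞ (𝒕.truncGE (a + 1)).obj K,
      (𝒕.truncLTι (a + 1)).app K ≫ e.hom = biprod.inl ∧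
        e.hom ≫ biprod.snd = (𝒕.truncGEπ (a + 1)).app K := by
  haveI : HasBinaryBiproduct ((𝒕.triangleLTGE (a + 1)).obj K).obj₁ ((𝒕.triangleLTGE (a + 1)).obj K).obj₃ :=
    ‹_›
  exact triangle_splits hz hP _ (𝒕.triangleLTGE_distinguished (a + 1) K) e fun i hi =>
    hd_of_isLE (n := a) (inferInstanceAs (𝒕.IsLE ((𝒕.truncLT (a + 1)).obj K) a)) i (by omega)

/-- Maps into an injective module in a degree where cohomology vanishes. -/
theorem eq_zero_of_injective {L : Dual.D R} {b : ℤ} (hL : L.IsLE b) (hH : Subsingleton (Dual.HD R L a))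
    (I : ModuleCat.{u} R) [Injective I] (f : L ⟶ (Dual.inD R I)⟦-a⟧) : f = 0 := by
  obtain ⟨C, hC, ⟨eC⟩⟩ := DerivedCategory.exists_iso_Q_obj_of_isLE L b
  obtain ⟨P, α, hPb, hP, -, hα⟩ := TriCat.exists_quasiIso_left_resolution
    (fun X : ModuleCat.{u} R => Module.Projective R X)
    ⟨ModuleCat.of R PUnit.{u + 1}, ModuleCat.isZero_of_subsingleton _, inferInstance⟩
    (fun X => ⟨ModuleCat.of R (X →₀ R), ModuleCat.ofHom (Finsupp.linearCombination R id),
      inferInstance, (ModuleCat.epi_iff_surjective _).2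
        (Finsupp.linearCombination_id_surjective R X)⟩) C b
  let e : DerivedCategory.Q.obj P ≅ L := asIso (DerivedCategory.Q.map α) ≪≫ eC.symm
  haveI := isKProjective hP fun i hi => P.isZero_of_isStrictlyLE b i hi
  obtain ⟨φ, hφ, hφe⟩ := PcExt.homOfCocycle_surjective P (q := a) (p := -a) (add_neg_cancel a)
    (a - 1) (by omega) (e.hom ≫ f)
  haveI : Mono (P.fromOpcycles a (a + 1)) := by
    have hz : IsZero (P.homology a) := by
      obtain ⟨eH⟩ := hd_iso e a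
      exact (isZero_of_hd hH).of_iso eH.symm
    refine Preadditive.mono_of_cancel_zero _ fun {Z} g hg => ?_
    obtain ⟨l, hl⟩ := KernelFork.IsLimit.lift' (P.homologyIsKernel a (a + 1) (by simp)) g hg
    rw [← hl, hz.eq_of_tgt l 0, zero_comp]
  rw [← cancel_epi e.hom, comp_zero, ← hφe]
  refine (PcExt.homOfCocycle_eq_zero_iff P _ φ (a - 1) (by omega) hφ (a + 1) rfl).2
    ⟨Injective.factorThru (P.descOpcycles φ (a - 1) (by simp) hφ) (P.fromOpcycles a (a + 1)), ?_⟩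
  rw [← P.p_fromOpcycles a (a + 1), assoc, Injective.comp_factorThru, P.p_descOpcycles]

/-- Comparison of truncations across a degree without cohomology. -/
theorem isIso_truncLT {H : Subsingleton (Dual.HD R K a)} :
    ∃ ε : (𝒕.truncLT a).obj K ≅ (𝒕.truncLT (a + 1)).obj K,
      ε.hom ≫ (𝒕.truncLTι (a + 1)).app K = (𝒕.truncLTι a).app K := by
  haveI hle : 𝒕.IsLE ((𝒕.truncLT (a + 1)).obj K) (a - 1) := by
    refine (DerivedCategory.isLE_iff _ _).2 fun i hi => ?_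
    rcases lt_or_eq_of_le (show a ≤ i by omega) with hi' | rfl
    · exact isZero_of_hd (hd_of_isLE (n := a) (inferInstanceAs (𝒕.IsLE ((𝒕.truncLT (a + 1)).obj K) a)) i hi')
    · have h0 := (DerivedCategory.HomologySequence.exact₁ _
        (𝒕.triangleLTGE_distinguished (a + 1) K) (a - 1) a (by omega))
      exact h0.isZero_X₂
        ((isZero_of_hd (hd_of_isGE (n := a + 1) (X := (𝒕.truncGE (a + 1)).obj K) inferInstance (a - 1) (by omega))).eq_zero_of_src _)
        ((isZero_of_hd H).eq_zero_of_tgt _)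
  haveI : 𝒕.IsLE ((𝒕.truncLT a).obj K) a := 𝒕.isLE_of_le _ (a - 1) a (by omega)
  let g := 𝒕.liftTruncLT ((𝒕.truncLTι (a + 1)).app K) (a - 1) a (by omega)
  have hg : g ≫ (𝒕.truncLTι a).app K = (𝒕.truncLTι (a + 1)).app K :=
    𝒕.liftTruncLT_ι _ (a - 1) a (by omega)
  refine ⟨⟨(𝒕.natTransTruncLTOfLE a (a + 1) (by omega)).app K, g, ?_, ?_⟩,
    𝒕.natTransTruncLTOfLE_ι_app a (a + 1) (by omega) K⟩
  · refine 𝒕.to_truncLT_obj_ext ?_
    rw [assoc, hg, 𝒕.natTransTruncLTOfLE_ι_app, id_comp]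
  · haveI : 𝒕.IsLE ((𝒕.truncLT (a + 1)).obj K) (a + 1 - 1) := 𝒕.isLE_of_le _ (a - 1) _ (by omega)
    refine 𝒕.to_truncLT_obj_ext ?_
    rw [assoc, 𝒕.natTransTruncLTOfLE_ι_app, hg, id_comp]

end Groth.Agent.H9Misc.DRingSplit
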