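import Mathlib
import Groth.Agent.H9Misc.DRingSplit
import Groth.Agent.CAlgGlobalDim.Basic
import Groth.Agent.S0563

/-! Consequences of finite global dimension. -/

set_option linter.style.haveILetI false

universe u

open CategoryTheory CategoryTheory.Category CategoryTheory.Limits
open CategoryTheory.Pretriangulated

attribute [local instance] HasDerivedCategory.standard

namespace Groth.Agent.H9Misc.DRingGlobalDim

open DRingTor DRingProjAmp DRingSplit

variable {R : Type u} [CommRing R]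

/-- A regular ring of dimension `d` has global dimension at most `d`. -/
theorem pd_le [IsNoetherianRing R]
    (hreg : ∀ p : PrimeSpectrum R, IsRegularLocalRing (Localization.AtPrime p.asIdeal)) (d : ℕ)
    (hd : ringKrullDim R ≤ d) (M : ModuleCat.{u} R) : HasProjectiveDimensionLT M (d + 1) := by
  refine CAlgGlobalDim.hasProjectiveDimensionLT_of_forall_cyclic d (fun I => ?_) M
  rw [ModuleCat.hasProjectiveDimensionLE_iff_forall_maximalSpectrum]
  intro m
  haveI : IsRegularLocalRing (Localization.AtPrime m.asIdeal) := hreg ⟨m.asIdeal, m.isMaximal.isPrime⟩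
  let e := (IsLocalRing.maximalIdeal (Localization.AtPrime m.asIdeal)).spanFinrank
  have hdim : ringKrullDim (Localization.AtPrime m.asIdeal) = e :=
    ((isRegularLocalRing_iff _).mp inferInstance).symm
  have hle : e ≤ d := by
    have h1 : ringKrullDim (Localization.AtPrime m.asIdeal) ≤ ringKrullDim R := by
      rw [IsLocalization.AtPrime.ringKrullDim_eq_height m.asIdeal]
      exact Ideal.height_le_ringKrullDim_of_ne_top m.isMaximal.ne_top
    have h2 := h1.trans hd
    rw [hdim] at h2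
    exact_mod_cast h2
  haveI : HasProjectiveDimensionLT
      ((ModuleCat.of R (R ⧸ I)).localizedModule m.asIdeal.primeCompl) (e + 1) :=
    Groth.Agent.S0563.result _ e hdim _
  exact hasProjectiveDimensionLT_of_ge _ (e + 1) (d + 1) (by omega)

variable (d : ℕ) (hgl : ∀ M : ModuleCat.{u} R, HasProjectiveDimensionLT M (d + 1))
include hgl

/-- Bounded objects have projective amplitude shifted by the global dimension. -/
theorem exists_projective_rep_of_hd {a b : ℤ} {K : Dual.D R}
    (hH : ∀ n : ℤ, (n < a ∨ b < n) → Subsingleton (Dual.HD R K n)) :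
    ∃ P : DRing.Cx R, DRing.VanishesOutside P (a - d) b ∧ (∀ i : ℤ, Module.Projective R (P.X i)) ∧
        Nonempty (DRing.toD P ≅ K) := by
  refine exists_projective_rep (fun n hn => hH n (by omega)) fun N _ _ => ?_
  haveI : K.IsLE b := isLE_of_hd fun n hn => hH n (Or.inr hn)
  obtain ⟨C, hC, ⟨eC⟩⟩ := DerivedCategory.exists_iso_Q_obj_of_isLE K b
  obtain ⟨P, α, hPb, hP, -, hα⟩ := TriCat.exists_quasiIso_left_resolution
    (fun X : ModuleCat.{u} R => Module.Projective R X)
    ⟨ModuleCat.of R PUnit.{u + 1}, ModuleCat.isZero_of_subsingleton _, inferInstance⟩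
    (fun X => ⟨ModuleCat.of R (X →₀ R), ModuleCat.ofHom (Finsupp.linearCombination R id),
      inferInstance, (ModuleCat.epi_iff_surjective _).2
        (Finsupp.linearCombination_id_surjective R X)⟩) C b
  let e : DerivedCategory.Q.obj P ≅ K := asIso (DerivedCategory.Q.map α) ≪≫ eC.symm
  haveI := isKProjective hP fun i hi => P.isZero_of_isStrictlyLE b i hi
  have hmono : ∀ i, i < a → Mono (P.fromOpcycles i (i + 1)) := fun i hi =>
    Preadditive.mono_of_cancel_zero _ fun {Z} g hg => by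
      obtain ⟨l, hl⟩ := KernelFork.IsLimit.lift' (P.homologyIsKernel i (i + 1) (by simp)) g hg
      obtain ⟨eH⟩ := hd_iso e i
      rw [← hl, ((isZero_of_hd (hH i (Or.inl hi))).of_iso eH.symm).eq_of_tgt l 0, zero_comp]
  have hses : ∀ i, i < a → (ShortComplex.mk (P.fromOpcycles i (i + 1)) (P.pOpcycles (i + 1))
      (by rw [← cancel_epi (P.pOpcycles i), P.p_fromOpcycles_assoc, comp_zero, P.d_pOpcycles])).ShortExact := by
    intro i hi
    refine { exact := ?_, mono_f := hmono i hi, epi_g := inferInstance }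
    refine (ShortComplex.ShortExact.moduleCat_exact_iff_function_exact _).2 ?_
    have h := (ShortComplex.ShortExact.moduleCat_exact_iff_function_exact _).1
      (ShortComplex.exact_of_g_is_cokernel
        (ShortComplex.mk (P.d i (i + 1)) (P.pOpcycles (i + 1)) (P.d_pOpcycles _ _))
        (P.opcyclesIsCokernel i (i + 1) (by simp)))
    intro x
    refine (h x).trans ⟨fun ⟨y, hy⟩ => ⟨(P.pOpcycles i).hom y, ?_⟩, fun ⟨y, hy⟩ => ?_⟩
    · exact (ConcreteCategory.congr_hom (P.p_fromOpcycles i (i + 1)) y).trans hy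
    · obtain ⟨z, rfl⟩ := (ModuleCat.epi_iff_surjective (P.pOpcycles i)).1 inferInstance y
      exact ⟨z, (ConcreteCategory.congr_hom (P.p_fromOpcycles i (i + 1)) z).symm.trans hy⟩
  have key : ∀ n : ℕ, n ≤ d → HasProjectiveDimensionLT (P.opcycles (a - n)) (d + 1 - n) := by
    intro n
    induction n with
    | zero => exact fun _ => hgl _
    | succ n ih =>
      intro hn
      have hS := hses (a - (n + 1 : ℕ)) (by omega)
      refine hS.hasProjectiveDimensionLT_X₁ (d + 1 - (n + 1)) ?_ ?_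
      · haveI : Projective (P.X (a - (n + 1 : ℕ) + 1)) :=
          haveI := hP (a - (n + 1 : ℕ) + 1)
          (IsProjective.iff_projective _).1 inferInstance
        exact hasProjectiveDimensionLT_of_ge _ 1 _ (by omega)
      · rw [show d + 1 - (n + 1) + 1 = d + 1 - n by omega]
        exact (show a - (n + 1 : ℕ) + 1 = a - n by push_cast; ring) ▸ ih (by omega)
  haveI : Projective (P.opcycles (a - d)) := by
    rw [projective_iff_hasProjectiveDimensionLT_one]
    have := key d le_rfl
    rwa [show d + 1 - d = 1 by omega] at this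
  suffices ∀ f : DerivedCategory.Q.obj P ⟶ (Dual.inD R N)⟦-(a - (d : ℤ)) + 1⟧, f = 0 from
    ⟨fun f g => by rw [← cancel_epi e.hom, this (e.hom ≫ f), this (e.hom ≫ g)]⟩
  intro f
  obtain ⟨i, hi⟩ : ∃ i : ℤ, i = a - d - 1 := ⟨_, rfl⟩
  obtain ⟨φ, hφ, rfl⟩ := PcExt.homOfCocycle_surjective P (q := i) (p := -(a - (d : ℤ)) + 1) (by omega)
    (i - 1) (by omega) f
  obtain ⟨r, hr⟩ : ∃ r : P.X (i + 1) ⟶ P.opcycles i, P.fromOpcycles i (i + 1) ≫ r = 𝟙 _ := by
    have hS := hses i (by omega)
    haveI : Projective (P.opcycles (i + 1)) := by rw [show i + 1 = a - d by omega]; infer_instance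
    exact ⟨hS.splittingOfProjective.r, hS.splittingOfProjective.f_r⟩
  refine (PcExt.homOfCocycle_eq_zero_iff P _ φ (i - 1) (by omega) hφ (i + 1) rfl).2
    ⟨r ≫ P.descOpcycles φ (i - 1) (by simp) hφ, ?_⟩
  rw [← P.p_fromOpcycles i (i + 1), assoc, reassoc_of% hr, P.p_descOpcycles]

theorem hom_subsingleton_of_gap {a b : ℤ} {K L : Dual.D R}
    (hK : ∀ n : ℤ, (n < a ∨ b < n) → Subsingleton (Dual.HD R K n))
    (hL : ∀ i : ℤ, a - d ≤ i → Subsingleton (Dual.HD R L i)) : Subsingleton (K ⟶ L) := by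
  obtain ⟨P, hz, hP, ⟨e⟩⟩ := exists_projective_rep_of_hd d hgl hK
  exact DRingProjAmp.hom_subsingleton hz hP e hL

local notation "𝒕" => (DerivedCategory.TStructure.t : Triangulated.TStructure (Dual.D R))

theorem split_gap (K : Dual.D R) (c k b : ℤ) (hc : c = k - d + 2) (hd1 : 1 ≤ d)
    (hb : ∀ i : ℤ, b < i → Subsingleton (Dual.HD R K i))
    (hgap : ∀ i : ℤ, c ≤ i → i ≤ k → Subsingleton (Dual.HD R K i))
    [HasBinaryBiproduct ((𝒕.truncLT c).obj K) ((𝒕.truncGE (k + 1)).obj K)] :
    ∃ e : K ≅ (𝒕.truncLT c).obj K ⊞ (𝒕.truncGE (k + 1)).obj K,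
      (𝒕.truncLTι c).app K ≫ e.hom = biprod.inl ∧
        e.hom ≫ biprod.snd = (𝒕.truncGEπ (k + 1)).app K := by
  let T := (𝒕.triangleLTGE c).obj K
  have hT : T ∈ distinguishedTriangles := 𝒕.triangleLTGE_distinguished c K
  have hlt : ∀ i, c ≤ i → Subsingleton (Dual.HD R ((𝒕.truncLT c).obj K) i) := fun i hi =>
    hd_of_isLE (n := c - 1) (inferInstanceAs (𝒕.IsLE ((𝒕.truncLT c).obj K) (c - 1))) i (by omega)
  have hge : ∀ i, i ≤ k → Subsingleton (Dual.HD R ((𝒕.truncGE c).obj K) i) := fun i hi => by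
    rcases lt_or_ge i c with hic | hic
    · exact hd_of_isGE (n := c) (inferInstanceAs (𝒕.IsGE ((𝒕.truncGE c).obj K) c)) i hic
    · exact ModuleCat.subsingleton_of_isZero
        ((DerivedCategory.HomologySequence.exact₃ T hT i (i + 1) rfl).isZero_X₂
          ((isZero_of_hd (hgap i hic hi)).eq_zero_of_src _)
          ((isZero_of_hd (hlt (i + 1) (by omega))).eq_zero_of_tgt _))
  haveI hge' : 𝒕.IsGE ((𝒕.truncGE c).obj K) (k + 1) :=
    (DerivedCategory.isGE_iff _ _).2 fun i hi => isZero_of_hd (hge i (by omega))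
  haveI : 𝒕.IsGE ((𝒕.truncGE (k + 1)).obj K) c := 𝒕.isGE_of_ge _ c (k + 1) (by omega)
  let g := 𝒕.descTruncGE ((𝒕.truncGEπ c).app K) (k + 1)
  let f := 𝒕.descTruncGE ((𝒕.truncGEπ (k + 1)).app K) c
  let ε : (𝒕.truncGE c).obj K ≅ (𝒕.truncGE (k + 1)).obj K :=
    ⟨f, g, 𝒕.from_truncGE_obj_ext (by simp [f, g]), 𝒕.from_truncGE_obj_ext (by simp [f, g])⟩
  have hz : T.mor₃ = 0 := by
    have hle : ∀ i, max b k < i → Subsingleton (Dual.HD R ((𝒕.truncGE c).obj K) i) := fun i hi =>
      ModuleCat.subsingleton_of_isZero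
        ((DerivedCategory.HomologySequence.exact₃ T hT i (i + 1) rfl).isZero_X₂
          ((isZero_of_hd (hb i (by omega))).eq_zero_of_src _)
          ((isZero_of_hd (hlt (i + 1) (by omega))).eq_zero_of_tgt _))
    haveI : Subsingleton (T.obj₃ ⟶ T.obj₁⟦(1 : ℤ)⟧) :=
      hom_subsingleton_of_gap d hgl (a := k + 1) (b := max b k)
        (fun n hn => hn.elim (fun h => hge n (by omega)) (hle n)) fun i hi =>
        ModuleCat.subsingleton_of_isZero ((isZero_of_hd (hlt (i + 1) (by omega))).of_iso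
          (((DerivedCategory.homologyFunctor (ModuleCat.{u} R) 0).shiftIso 1 i (i + 1) (by omega)).app T.obj₁))
    exact Subsingleton.elim _ _
  haveI : HasBinaryBiproduct T.obj₁ T.obj₃ := inferInstance
  obtain ⟨e₁, h₁, h₂⟩ := exists_iso_binaryBiproduct_of_distTriang T hT hz
  refine ⟨e₁ ≪≫ biprod.mapIso (Iso.refl _) ε, ?_, ?_⟩
  · rw [Iso.trans_hom]
    refine (Category.assoc _ _ _).symm.trans ((congrArg (· ≫ _) h₁).trans ?_)
    exact (biprod.inl_map _ _).trans (Category.id_comp _)
  · rw [Iso.trans_hom, Category.assoc]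
    refine (congrArg (e₁.hom ≫ ·) (biprod.map_snd _ _)).trans ?_
    refine (Category.assoc _ _ _).symm.trans ((congrArg (· ≫ ε.hom) h₂.symm).trans ?_)
    exact 𝒕.π_descTruncGE _ c

end Groth.Agent.H9Misc.DRingGlobalDim
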