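import Mathlib
import Groth.Prelude.Def_DDual2
import Groth.Agent.H9Misc.DRingFibre
import Groth.Agent.H9Misc.DRingGlobalDim

/-! Perfectness along flat maps from the fibres. -/

set_option linter.style.haveILetI false

universe u

open CategoryTheory CategoryTheory.Limits TensorProduct

attribute [local instance] HasDerivedCategory.standard

namespace Groth.Agent.H9Misc.DRingFlatFibre

open DRingTor DRingLTensor DRingRestrict Groth.Agent.KFlatLib

lemma hd_of_amp {A : Type u} [CommRing A] {a b : ℤ} {K : Dual.D A} (h : DRing.HasTorAmplitudeIn A a b K) {i : ℤ}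
    (hi : i < a ∨ b < i) : Subsingleton (Dual.HD A K i) := by
  obtain ⟨E, hz, -, ⟨e⟩⟩ := h
  obtain ⟨eH⟩ := hd_iso e i
  exact ModuleCat.subsingleton_of_isZero
    ((ShortComplex.isZero_homology_of_isZero_X₂ _ (hz i hi)).of_iso eH)

/-- Finite global dimension of an intermediate ring bounds the amplitude at a point. -/
theorem exactAt_point {C k : Type u} [CommRing C] [CommRing k] (χ : C →+* k) (d : ℕ)
    (hgl : ∀ M : ModuleCat.{u} C, HasProjectiveDimensionLT M (d + 1))
    {F : DRing.Cx C} (hF : IsKF F) {a b : ℤ} (h : ∀ i : ℤ, (i < a ∨ b < i) → F.ExactAt i)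
    (i : ℤ) (hi : i < a - d ∨ b < i) : ((extC' χ).obj F).ExactAt i := by
  obtain ⟨P, hz, hP, ⟨e⟩⟩ := DRingGlobalDim.exists_projective_rep_of_hd d hgl
    (K := DerivedCategory.Q.obj F) (a := a) (b := b) fun n hn => by
      obtain ⟨eH⟩ := hd_iso (Iso.refl (DerivedCategory.Q.obj F)) n
      exact ModuleCat.subsingleton_of_isZero ((h n hn).isZero_homology.of_iso eH)
  haveI := DRingLBase.hasLBaseChange χ
  have hamp : DRing.HasTorAmplitudeIn C (a - d) b (DerivedCategory.Q.obj F) :=
    ⟨P, hz, fun j => haveI := hP j; inferInstance, ⟨e⟩⟩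
  exact DRingFibre.exactAt_of_lbase χ hF (Iso.refl _) i
    (hd_of_amp (DRingLBase.hasTorAmplitudeIn_lbase χ hamp) hi)

section Pushout

attribute [local instance] Algebra.TensorProduct.rightAlgebra

variable {A A' B : Type u} [CommRing A] [CommRing A'] [CommRing B] [Algebra A A'] [Algebra A B]

/-- `A' ⊗_A Y ≅ (A' ⊗_A B) ⊗_B Y`. -/
noncomputable def g (Y : Type u) [AddCommGroup Y] [Module A Y] [Module B Y] [IsScalarTower A B Y] :
    A' ⊗[A] Y →+ (A' ⊗[A] B) ⊗[B] Y :=
  TensorProduct.liftAddHom
    { toFun := fun x =>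
        { toFun := fun y => (x ⊗ₜ[A] (1 : B)) ⊗ₜ[B] y
          map_zero' := TensorProduct.tmul_zero _ _
          map_add' := fun y z => TensorProduct.tmul_add _ y z }
      map_zero' := AddMonoidHom.ext fun y => by
        show ((0 : A') ⊗ₜ[A] (1 : B)) ⊗ₜ[B] y = 0
        rw [TensorProduct.zero_tmul, TensorProduct.zero_tmul]
      map_add' := fun x x' => AddMonoidHom.ext fun y => by
        show ((x + x') ⊗ₜ[A] (1 : B)) ⊗ₜ[B] y = _
        rw [TensorProduct.add_tmul, TensorProduct.add_tmul]
        rfl }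
    fun r x y => by
      show ((r • x) ⊗ₜ[A] (1 : B)) ⊗ₜ[B] y = (x ⊗ₜ[A] (1 : B)) ⊗ₜ[B] (r • y)
      rw [← algebraMap_smul B r y, ← TensorProduct.smul_tmul]
      refine congrArg (· ⊗ₜ[B] y) ?_
      show (r • x) ⊗ₜ[A] (1 : B) = Algebra.TensorProduct.includeRight (algebraMap A B r) * (x ⊗ₜ[A] (1 : B))
      rw [Algebra.TensorProduct.includeRight_apply, Algebra.TensorProduct.tmul_mul_tmul, one_mul, mul_one,
        Algebra.algebraMap_eq_smul_one, TensorProduct.tmul_smul, TensorProduct.smul_tmul']

lemma bijective_g (Y : Type u) [AddCommGroup Y] [Module A Y] [Module B Y] [IsScalarTower A B Y] :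
    Function.Bijective (g (A := A) (A' := A') (B := B) Y) := by
  let inner : A' → B → Y → A' ⊗[A] Y := fun x c y => x ⊗ₜ[A] (c • y)
  let h₀ : A' ⊗[A] B →+ Y →+ A' ⊗[A] Y := TensorProduct.liftAddHom
    { toFun := fun x =>
        { toFun := fun c =>
            { toFun := fun y => inner x c y
              map_zero' := by simp [inner]
              map_add' := fun y z => by simp [inner, TensorProduct.tmul_add] }
          map_zero' := AddMonoidHom.ext fun y => by simp [inner]
          map_add' := fun c c' => AddMonoidHom.ext fun y => by simp [inner, add_smul, TensorProduct.tmul_add] }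
      map_zero' := AddMonoidHom.ext fun c => AddMonoidHom.ext fun y => by simp [inner]
      map_add' := fun x x' => AddMonoidHom.ext fun c => AddMonoidHom.ext fun y => by
        simp [inner, TensorProduct.add_tmul] }
    fun r x c => AddMonoidHom.ext fun y => by
      show (r • x) ⊗ₜ[A] (c • y) = x ⊗ₜ[A] ((r • c) • y)
      rw [smul_assoc, TensorProduct.smul_tmul]
  let inv : (A' ⊗[A] B) ⊗[B] Y →+ A' ⊗[A] Y := TensorProduct.liftAddHom h₀ fun r z y => by
    induction z using TensorProduct.induction_on with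
    | zero => simp
    | tmul x c =>
      have hz : r • (x ⊗ₜ[A] c : A' ⊗[A] B) = x ⊗ₜ[A] (r * c) := by
        show Algebra.TensorProduct.includeRight r * _ = _
        rw [Algebra.TensorProduct.includeRight_apply, Algebra.TensorProduct.tmul_mul_tmul, one_mul]
      rw [hz]
      show x ⊗ₜ[A] ((r * c) • y) = x ⊗ₜ[A] (c • r • y)
      rw [← mul_smul, mul_comm]
    | add z z' hz hz' => simp only [smul_add, map_add, AddMonoidHom.add_apply, hz, hz']
  refine Function.bijective_iff_has_inverse.2 ⟨inv, fun z => ?_, fun w => ?_⟩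
  · induction z using TensorProduct.induction_on with
    | zero => simp
    | tmul x y => show x ⊗ₜ[A] ((1 : B) • y) = _; rw [one_smul]
    | add z z' hz hz' => simp only [map_add, hz, hz']
  · induction w using TensorProduct.induction_on with
    | zero => simp
    | tmul z y =>
      induction z using TensorProduct.induction_on with
      | zero => simp [TensorProduct.zero_tmul]
      | tmul x c =>
        show (x ⊗ₜ[A] (1 : B)) ⊗ₜ[B] (c • y) = _
        rw [← TensorProduct.smul_tmul]
        refine congrArg (· ⊗ₜ[B] y) ?_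
        show Algebra.TensorProduct.includeRight c * _ = _
        rw [Algebra.TensorProduct.includeRight_apply, Algebra.TensorProduct.tmul_mul_tmul, one_mul, mul_one]
      | add z z' hz hz' => simp only [TensorProduct.add_tmul, map_add, hz, hz']
    | add w w' hw hw' => simp only [map_add, hw, hw']

/-- Exactness of the base change of a restriction. -/
theorem exact_pushout {Y₁ Y₂ Y₃ : Type u} [AddCommGroup Y₁] [Module A Y₁] [Module B Y₁] [IsScalarTower A B Y₁]
    [AddCommGroup Y₂] [Module A Y₂] [Module B Y₂] [IsScalarTower A B Y₂]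
    [AddCommGroup Y₃] [Module A Y₃] [Module B Y₃] [IsScalarTower A B Y₃]
    (f : Y₁ →ₗ[B] Y₂) (f' : Y₂ →ₗ[B] Y₃)
    (h : Function.Exact ((f.restrictScalars A).lTensor A') ((f'.restrictScalars A).lTensor A')) :
      Function.Exact (f.lTensor (A' ⊗[A] B)) (f'.lTensor (A' ⊗[A] B)) := by
  have hn : ∀ {X Z : Type u} [AddCommGroup X] [Module A X] [Module B X] [IsScalarTower A B X]
      [AddCommGroup Z] [Module A Z] [Module B Z] [IsScalarTower A B Z] (d : X →ₗ[B] Z) (z : A' ⊗[A] X),
      d.lTensor (A' ⊗[A] B) (g X z) = g Z ((d.restrictScalars A).lTensor A' z) := by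
    intro X Z _ _ _ _ _ _ _ _ d z
    induction z using TensorProduct.induction_on with
    | zero => simp
    | tmul x y => rfl
    | add z z' hz hz' => simp only [map_add, hz, hz']
  exact (Function.Exact.iff_of_ladder_addEquiv (f₁₂ := ((f.restrictScalars A).lTensor A').toAddMonoidHom)
    (f₂₃ := ((f'.restrictScalars A).lTensor A').toAddMonoidHom)
    (g₁₂ := (f.lTensor (A' ⊗[A] B)).toAddMonoidHom) (g₂₃ := (f'.lTensor (A' ⊗[A] B)).toAddMonoidHom)
    (e₁ := AddEquiv.ofBijective _ (bijective_g Y₁)) (e₂ := AddEquiv.ofBijective _ (bijective_g Y₂))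
    (e₃ := AddEquiv.ofBijective _ (bijective_g Y₃))
    (AddMonoidHom.ext fun z => hn f z) (AddMonoidHom.ext fun z => hn f' z)).2 h

lemma exactAt_of_exact {R S : Type u} [CommRing R] [CommRing S] [Algebra R S] {E : DRing.Cx R} (i : ℤ)
    (h : Function.Exact ((E.d (i - 1) i).hom.lTensor S) ((E.d i (i + 1)).hom.lTensor S)) :
    ((extC' (algebraMap R S)).obj E).ExactAt i := by
  revert h
  rename_i i1 i2 i3
  have he : (algebraMap R S).toAlgebra = i3 := Algebra.algebra_ext _ _ fun _ => rfl
  generalize algebraMap R S = φ at he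
  subst he
  intro h
  rw [HomologicalComplex.exactAt_iff' _ (i - 1) i (i + 1) (by simp) (by simp),
    ShortComplex.moduleCat_exact_iff]
  intro y hy
  exact (h y).1 hy

/-- The restriction of a complex. -/
noncomputable abbrev resCx (φ : A →+* B) (E : DRing.Cx B) : DRing.Cx A :=
  ((ModuleCat.restrictScalars.{u} φ).mapHomologicalComplex (ComplexShape.up ℤ)).obj E

theorem exactAt_fibreRing (E : DRing.Cx B) (i : ℤ)
    (h : ((extC' (algebraMap A A')).obj (resCx (algebraMap A B) E)).ExactAt i) :
    ((extC' (Algebra.TensorProduct.includeRight : B →ₐ[A] A' ⊗[A] B).toRingHom).obj E).ExactAt i := by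
  letI : ∀ j, Module A (E.X j) := fun j => Module.compHom (E.X j) (algebraMap A B)
  have hst : ∀ j, IsScalarTower A B (E.X j) := fun j => IsScalarTower.of_algebraMap_smul fun _ _ => rfl
  haveI := hst (i - 1)
  haveI := hst i
  haveI := hst (i + 1)
  exact exactAt_of_exact (R := B) (S := A' ⊗[A] B) i
    (@exact_pushout A A' B _ _ _ _ _ (E.X (i - 1)) (E.X i) (E.X (i + 1)) _ _ (E.X (i - 1)).isModule (hst _)
      _ _ (E.X i).isModule (hst _) _ _ (E.X (i + 1)).isModule (hst _) (E.d (i - 1) i).hom (E.d i (i + 1)).hom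
      (DRingFibre.exact_of_extC (A := A) (B := A') (E := resCx (algebraMap A B) E) i h))

lemma isKF_resCx [Module.Flat A B] {E : DRing.Cx B} (hE : DRing.TermwiseFiniteFree E) {b : ℤ}
    (hz : DRing.VanishesAbove E b) : IsKF (resCx (algebraMap A B) E) :=
  isKF_of_flat (fun j => by
    haveI := (hE j).2
    letI : Module A (E.X j) := Module.compHom (E.X j) (algebraMap A B)
    haveI : IsScalarTower A B (E.X j) := IsScalarTower.of_algebraMap_smul fun _ _ => rfl
    exact Module.Flat.trans A B (E.X j))
    (fun j hj => (ModuleCat.restrictScalars (algebraMap A B)).map_isZero (hz j hj))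

/-- The derived fibre computes the base change to the fibre ring. -/
theorem exactAt_of_restrictD [Module.Flat A B] [DRing.HasLBaseChange (algebraMap A A')] {E : DRing.Cx B}
    (hE : DRing.TermwiseFiniteFree E) {b₀ : ℤ} (hz : DRing.VanishesAbove E b₀) {K : Dual.D B}
    (e : DerivedCategory.Q.obj E ≅ K) (i : ℤ)
    (h : Subsingleton (Dual.HD A' ((DRing.LBaseChange (algebraMap A A')).obj
      ((DRing.restrictD (algebraMap A B)).obj K)) i)) :
    ((extC' (Algebra.TensorProduct.includeRight : B →ₐ[A] A' ⊗[A] B).toRingHom).obj E).ExactAt i :=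
  exactAt_fibreRing E i (DRingFibre.exactAt_of_lbase _ (isKF_resCx hE hz)
    (((ModuleCat.restrictScalars (algebraMap A B)).mapDerivedCategoryFactors.app E).symm ≪≫
      (DRing.restrictD (algebraMap A B)).mapIso e) i h)

end Pushout

section Main

variable {A B : Type u} [CommRing A] [CommRing B] [Algebra A B] [Module.Flat A B]

/-- One point: vanishing on the derived fibre gives vanishing at the point. -/
theorem exactAt_at_point {A' : Type u} [CommRing A'] [Algebra A A'] [DRing.HasLBaseChange (algebraMap A A')]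
    (d : ℕ) (hgl : ∀ M : ModuleCat.{u} (A' ⊗[A] B), HasProjectiveDimensionLT M (d + 1))
    {k : Type u} [CommRing k] (ψ : B →+* k) (χ : A' ⊗[A] B →+* k)
    (hχ : ψ = χ.comp (Algebra.TensorProduct.includeRight : B →ₐ[A] A' ⊗[A] B).toRingHom)
    {E : DRing.Cx B} (hE : DRing.TermwiseFiniteFree E) {b₀ : ℤ} (hz : DRing.VanishesAbove E b₀)
    {K : Dual.D B} (e : DerivedCategory.Q.obj E ≅ K) (a b : ℤ)
    (h : ∀ i : ℤ, (i < a ∨ b < i) → Subsingleton (Dual.HD A' ((DRing.LBaseChange (algebraMap A A')).obj
      ((DRing.restrictD (algebraMap A B)).obj K)) i))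
    (i : ℤ) (hi : i < a - d ∨ b < i) : ((extC' ψ).obj E).ExactAt i := by
  let θ : B →+* A' ⊗[A] B := (Algebra.TensorProduct.includeRight : B →ₐ[A] A' ⊗[A] B).toRingHom
  have hE' : DRing.TermwiseFiniteFree ((extC' θ).obj E) := fun j =>
    finFree_extendScalars θ _ (hE j).1 (hE j).2
  exact (DRingFibre.exactAt_extC_comp θ χ ψ hχ i).1
    (exactAt_point χ d hgl (DRingFibre.isKF hE' fun j hj => (ModuleCat.extendScalars θ).map_isZero (hz j hj))
      (fun j hj => exactAt_of_restrictD hE hz e j (h j hj)) i hi)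

end Main

end Groth.Agent.H9Misc.DRingFlatFibre
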