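import Mathlib
import Groth.Agent.H9Misc.DRingNilp
import Groth.Agent.H9Misc.DRingTorDim

/-! Flatness in degree zero glued from `R_f` and `R/fR`. -/

set_option linter.style.haveILetI false

universe u

open CategoryTheory CategoryTheory.Limits MonoidalCategory
open scoped TensorProduct

attribute [local instance] HasDerivedCategory.standard

namespace Groth.Agent.H9Misc.DRingGlueFlat

open Groth.Agent.KFlatLib DRingLTensor DRingTor DRingNilp

variable {R : Type u} [CommRing R] {P : CochainComplex (ModuleCat.{u} R) ℤ}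

/-- Exactness for the first term of a short exact sequence of coefficients. -/
lemma exactAt_first (hP : ∀ n, Module.Flat R (P.X n)) {S : ShortComplex (ModuleCat.{u} R)} (hS : S.ShortExact)
    (i : ℤ) (h₂ : ((tensC S.X₂).obj P).ExactAt i) (h₃ : ((tensC S.X₃).obj P).ExactAt (i - 1)) :
    ((tensC S.X₁).obj P).ExactAt i := by
  let c := ComplexShape.up ℤ
  let f : (tensC S.X₁).obj P ⟶ (tensC S.X₂).obj P :=
    (NatTrans.mapHomologicalComplex ((tensoringRight (ModuleCat.{u} R)).map S.f) c).app P
  let g : (tensC S.X₂).obj P ⟶ (tensC S.X₃).obj P :=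
    (NatTrans.mapHomologicalComplex ((tensoringRight (ModuleCat.{u} R)).map S.g) c).app P
  have he : Function.Exact S.f.hom S.g.hom :=
    (ShortComplex.ShortExact.moduleCat_exact_iff_function_exact _).1 hS.exact
  have hfg : f ≫ g = 0 := by
    refine HomologicalComplex.hom_ext _ _ fun j => ModuleCat.hom_ext ?_
    show S.g.hom.lTensor (P.X j) ∘ₗ S.f.hom.lTensor (P.X j) = 0
    rw [← LinearMap.lTensor_comp, ← ModuleCat.hom_comp, S.zero, ModuleCat.hom_zero, LinearMap.lTensor_zero]
  have hT : (ShortComplex.mk f g hfg).ShortExact := by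
    refine HomologicalComplex.shortExact_of_degreewise_shortExact _ fun j => ?_
    haveI := hP j
    exact
      { exact := (ShortComplex.ShortExact.moduleCat_exact_iff_function_exact _).2
          (lTensor_exact (P.X j) he ((ModuleCat.epi_iff_surjective _).1 hS.epi_g))
        mono_f := (ModuleCat.mono_iff_injective _).2 (Module.Flat.lTensor_preserves_injective_linearMap
          (M := P.X j) S.f.hom ((ModuleCat.mono_iff_injective _).1 hS.mono_f))
        epi_g := (ModuleCat.epi_iff_surjective _).2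
          (LinearMap.lTensor_surjective (P.X j) ((ModuleCat.epi_iff_surjective _).1 hS.epi_g)) }
  rw [HomologicalComplex.exactAt_iff_isZero_homology] at h₂ h₃ ⊢
  exact (hT.homology_exact₁ (i - 1) i (show i - 1 + 1 = i by omega)).isZero_X₂
    (h₃.eq_zero_of_src _) (h₂.eq_zero_of_tgt _)

variable (f : R)

lemma exists_lift_torsionBy (X T : ModuleCat.{u} R) (hT : ∀ x : T, ∃ n : ℕ, f ^ n • x = 0) (z : X ⊗[R] T) :
    ∃ n : ℕ, z ∈ LinearMap.range ((Submodule.torsionBy R T (f ^ n)).subtype.lTensor X) := by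
  induction z using TensorProduct.induction_on with
  | zero => exact ⟨0, 0, map_zero _⟩
  | tmul p t =>
    obtain ⟨n, hn⟩ := hT t
    exact ⟨n, p ⊗ₜ ⟨t, hn⟩, rfl⟩
  | add a b ha hb =>
    obtain ⟨n, hn⟩ := ha
    obtain ⟨m, hm⟩ := hb
    have hle : ∀ k, k ≤ max n m → LinearMap.range ((Submodule.torsionBy R T (f ^ k)).subtype.lTensor X) ≤
        LinearMap.range ((Submodule.torsionBy R T (f ^ max n m)).subtype.lTensor X) := fun k hk => by
      have hsub : Submodule.torsionBy R T (f ^ k) ≤ Submodule.torsionBy R T (f ^ max n m) := fun x hx => by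
        rw [Submodule.mem_torsionBy_iff] at hx ⊢
        rw [← Nat.add_sub_cancel' hk, pow_add, mul_comm, mul_smul, hx, smul_zero]
      rw [show (Submodule.torsionBy R T (f ^ k)).subtype =
        (Submodule.torsionBy R T (f ^ max n m)).subtype ∘ₗ Submodule.inclusion hsub from rfl, LinearMap.lTensor_comp]
      exact LinearMap.range_comp_le_range _ _
    exact ⟨max n m, Submodule.add_mem _ (hle n (le_max_left _ _) hn) (hle m (le_max_right _ _) hm)⟩

/-- Torsion modules are directed unions of killed modules. -/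
lemma exactAt_torsion (hP : ∀ n, Module.Flat R (P.X n)) (i : ℤ)
    (h : ∀ (n : ℕ) (M : ModuleCat.{u} R), (∀ x : M, f ^ n • x = 0) → ((tensC M).obj P).ExactAt i)
    (T : ModuleCat.{u} R) (hT : ∀ x : T, ∃ n : ℕ, f ^ n • x = 0) : ((tensC T).obj P).ExactAt i := by
  rw [HomologicalComplex.exactAt_iff' _ (i - 1) i (i + 1) (by simp) (by simp),
    ShortComplex.moduleCat_exact_iff]
  intro x hx
  obtain ⟨n, y, hy⟩ := exists_lift_torsionBy f (P.X i) T hT x
  let Tn : ModuleCat.{u} R := ModuleCat.of R (Submodule.torsionBy R T (f ^ n))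
  let g : (tensC Tn).obj P ⟶ (tensC T).obj P :=
    (NatTrans.mapHomologicalComplex ((tensoringRight (ModuleCat.{u} R)).map
      (ModuleCat.ofHom (Submodule.torsionBy R T (f ^ n)).subtype : Tn ⟶ T)) (ComplexShape.up ℤ)).app P
  have hgy : (g.f i).hom y = x := hy
  have hinj : Function.Injective (g.f (i + 1)).hom := by
    haveI := hP (i + 1)
    exact Module.Flat.lTensor_preserves_injective_linearMap (M := P.X (i + 1))
      (Submodule.torsionBy R T (f ^ n)).subtype Subtype.val_injective
  have h' := h n Tn fun z => Subtype.ext z.2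
  rw [HomologicalComplex.exactAt_iff' _ (i - 1) i (i + 1) (by simp) (by simp),
    ShortComplex.moduleCat_exact_iff] at h'
  obtain ⟨w, hw⟩ := h' y (hinj (by
    refine Eq.trans ?_ (map_zero _).symm
    refine (ConcreteCategory.congr_hom (g.comm i (i + 1)) y).symm.trans ?_
    exact (congrArg _ hgy).trans hx))
  exact ⟨(g.f (i - 1)).hom w, ((ConcreteCategory.congr_hom (g.comm (i - 1) i) w).trans
    (congrArg (g.f i).hom hw)).trans hgy⟩

/-- Exactness in every coefficient module, from `R/f` and `R_f`. -/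
lemma exactAt_all (hP : ∀ n, Module.Flat R (P.X n)) (i : ℤ) (hi : i < 0)
    (hq : ∀ j : ℤ, j < 0 → ∀ N : ModuleCat.{u} (R ⧸ Ideal.span ({f} : Set R)),
      ((tensC N).obj ((extC' (Ideal.Quotient.mk (Ideal.span ({f} : Set R)))).obj P)).ExactAt j)
    (hl : ∀ j : ℤ, j < 0 → ∀ N : ModuleCat.{u} (Localization.Away f),
      ((tensC N).obj ((extC' (algebraMap R (Localization.Away f))).obj P)).ExactAt j)
    (M : ModuleCat.{u} R) : ((tensC M).obj P).ExactAt i := by
  have hkill : ∀ j : ℤ, j < 0 → ∀ (n : ℕ) (M : ModuleCat.{u} R), (∀ x : M, f ^ n • x = 0) →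
      ((tensC M).obj P).ExactAt j := fun j hj n M hM => by
    refine exactAt_of_pow _ Ideal.Quotient.mk_surjective hP j (hq j hj) n M fun r hr x => ?_
    rw [Ideal.mk_ker, Ideal.span_singleton_pow, Ideal.mem_span_singleton'] at hr
    obtain ⟨s, rfl⟩ := hr
    rw [mul_smul, hM, smul_zero]
  have htor : ∀ j : ℤ, j < 0 → ∀ T : ModuleCat.{u} R, (∀ x : T, ∃ n : ℕ, f ^ n • x = 0) →
      ((tensC T).obj P).ExactAt j := fun j hj T hT => exactAt_torsion f hP j (hkill j hj) T hT
  let L := LocalizedModule (Submonoid.powers f) M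
  let l : M →ₗ[R] L := LocalizedModule.mkLinearMap (Submonoid.powers f) M
  have hL : ((tensC (ModuleCat.of R L)).obj P).ExactAt i := by
    let eL : ((ModuleCat.restrictScalars (algebraMap R (Localization.Away f))).obj
        (ModuleCat.of (Localization.Away f) L)) ≅ ModuleCat.of R L :=
      LinearEquiv.toModuleIso
        ({ toFun := fun x => (show L from x)
           invFun := fun x => x
           map_add' := fun _ _ => rfl
           left_inv := fun _ => rfl
           right_inv := fun _ => rfl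
           map_smul' := fun r x => IsScalarTower.algebraMap_smul (Localization.Away f) r (show L from x) } :
          ((ModuleCat.restrictScalars (algebraMap R (Localization.Away f))).obj
            (ModuleCat.of (Localization.Away f) L) : ModuleCat.{u} R) ≃ₗ[R] L)
    exact (exactAt_restrict (algebraMap R (Localization.Away f)) _ i (hl i hi _)).of_iso
      ((NatIso.mapHomologicalComplex ((tensoringRight (ModuleCat.{u} R)).mapIso eL) (ComplexShape.up ℤ)).app P)
  have hker : ∀ x : M, l x = 0 → ∃ n : ℕ, f ^ n • x = 0 := fun x hx => by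
    obtain ⟨⟨c, n, rfl⟩, hc⟩ := (IsLocalizedModule.eq_zero_iff (Submonoid.powers f) l).1 hx
    exact ⟨n, hc⟩
  have hcok : ∀ x : L ⧸ LinearMap.range l, ∃ n : ℕ, f ^ n • x = 0 := fun x => by
    obtain ⟨y, rfl⟩ := Submodule.mkQ_surjective _ x
    obtain ⟨⟨m, ⟨c, n, rfl⟩⟩, hm⟩ := IsLocalizedModule.surj (Submonoid.powers f) l y
    exact ⟨n, (Submodule.Quotient.mk_eq_zero _).2 ⟨m, hm.symm⟩⟩
  let S₁ : ShortComplex (ModuleCat.{u} R) := ShortComplex.mk (ModuleCat.ofHom (LinearMap.ker l).subtype)
    (ModuleCat.ofHom l.rangeRestrict) (by ext x; exact x.2)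
  have hS₁ : S₁.ShortExact :=
    { exact := (ShortComplex.moduleCat_exact_iff S₁).2 fun x hx => ⟨⟨x, congrArg Subtype.val hx⟩, rfl⟩
      mono_f := (ModuleCat.mono_iff_injective _).2 Subtype.val_injective
      epi_g := (ModuleCat.epi_iff_surjective _).2 l.surjective_rangeRestrict }
  let S₂ : ShortComplex (ModuleCat.{u} R) := ShortComplex.mk (ModuleCat.ofHom (LinearMap.range l).subtype)
    (ModuleCat.ofHom (LinearMap.range l).mkQ) (by ext x; exact (Submodule.Quotient.mk_eq_zero _).2 x.2)
  have hS₂ : S₂.ShortExact :=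
    { exact := (ShortComplex.moduleCat_exact_iff S₂).2 fun x hx =>
        ⟨⟨x, (Submodule.Quotient.mk_eq_zero _).1 hx⟩, rfl⟩
      mono_f := (ModuleCat.mono_iff_injective _).2 Subtype.val_injective
      epi_g := (ModuleCat.epi_iff_surjective _).2 (Submodule.mkQ_surjective _) }
  exact exactAt_of_ses hP hS₁ i
    (htor i hi _ fun x => (hker x x.2).imp fun n hn => Subtype.ext hn)
    (exactAt_first hP hS₂ i hL (htor (i - 1) (by omega) _ hcok))

theorem exists_flat (M : Dual.D R)
    [DRing.HasLBaseChange (algebraMap R (Localization.Away f))]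
    [DRing.HasLBaseChange (Ideal.Quotient.mk (Ideal.span ({f} : Set R)))]
    (h1 : ∀ i : ℤ, 0 < i → Subsingleton (Dual.HD R M i))
    (h2 : DRing.HasTorAmplitudeIn (Localization.Away f) 0 0
      ((DRing.LBaseChange (algebraMap R (Localization.Away f))).obj M))
    (h3 : DRing.HasTorAmplitudeIn (R ⧸ Ideal.span ({f} : Set R)) 0 0
      ((DRing.LBaseChange (Ideal.Quotient.mk (Ideal.span ({f} : Set R)))).obj M)) :
    ∃ (N : Type u) (_ : AddCommGroup N) (_ : Module R N), Module.Flat R N ∧ Nonempty (M ≅ Dual.inD R N) := by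
  obtain ⟨P, hP, hflat, ⟨e⟩⟩ := exists_rep M
  have hV : ∀ {S : Type u} [CommRing S] (φ : R →+* S) [DRing.HasLBaseChange φ],
      DRing.HasTorAmplitudeIn S 0 0 ((DRing.LBaseChange φ).obj M) → Van 0 0 ((extC' φ).obj P) := by
    intro S _ φ _ h
    obtain ⟨e'⟩ := DRingLBase.nonempty_lbase_iso φ hP
    exact (iff_van (KFlatLib.kFlat_extendScalars φ hP) (e'.symm ≪≫ (DRing.LBaseChange φ).mapIso e)).1 h
  have hamp : DRing.HasTorAmplitudeIn R 0 0 M := by
    refine hasTorAmplitudeIn_of_van hP (fun N i hi => ?_) e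
    rcases hi with hi | hi
    · exact exactAt_all f hflat i hi (fun j hj N => hV _ h3 N j (Or.inl hj))
        (fun j hj N => hV _ h2 N j (Or.inl hj)) N
    · rw [HomologicalComplex.exactAt_iff_isZero_homology]
      refine DRingRightExact.isZero_homology_tensC N hP 0 (fun m hm => ?_) i hi
      obtain ⟨eH⟩ := hd_iso e m
      exact (DRingCompl.isZ (h1 m hm)).of_iso eH.symm
  obtain ⟨E, hz, hf, ⟨eE⟩⟩ := hamp
  haveI : E.IsStrictlyGE 0 := (CochainComplex.isStrictlyGE_iff _ _).2 fun i hi => hz i (Or.inl hi)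
  haveI : E.IsStrictlyLE 0 := (CochainComplex.isStrictlyLE_iff _ _).2 fun i hi => hz i (Or.inr hi)
  obtain ⟨M', ⟨e'⟩⟩ := CochainComplex.exists_iso_single E 0
  let eX : E.X 0 ≅ M' := HomologicalComplex.Hom.isoApp e' 0 ≪≫
    HomologicalComplex.singleObjXSelf (ComplexShape.up ℤ) 0 M'
  exact ⟨M', inferInstance, inferInstance, (Module.Flat.equiv_iff eX.toLinearEquiv).1 (hf 0),
    ⟨eE.symm ≪≫ DerivedCategory.Q.mapIso e' ≪≫
      ((DerivedCategory.singleFunctorIsoCompQ (ModuleCat.{u} R) 0).app M').symm⟩⟩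

end Groth.Agent.H9Misc.DRingGlueFlat
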