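import Mathlib
import Groth.Prelude.Def_DRing2

/-! Lifting modules and acyclic complexes modulo an ideal. -/

set_option linter.style.haveILetI false

universe u

open CategoryTheory CategoryTheory.Limits

namespace Groth.Agent.H9Misc.DRingLift

variable {A : Type u} [CommRing A] {I : Ideal A}

section Red

variable {X : Type u} [AddCommGroup X] [Module A X] {M : Type u} [AddCommGroup M] [Module (A ⧸ I) M]

/-- `π` identifies `M` with `X / I X`. -/
structure IsRed (π : X →ₛₗ[Ideal.Quotient.mk I] M) : Prop where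
  surj : Function.Surjective π
  ker : LinearMap.ker π = I • (⊤ : Submodule A X)

variable {π : X →ₛₗ[Ideal.Quotient.mk I] M}

lemma IsRed.eq_zero_iff (h : IsRed π) {x : X} : π x = 0 ↔ x ∈ I • (⊤ : Submodule A X) := by
  rw [← h.ker, LinearMap.mem_ker]

lemma map_mem_smul_top {Y : Type u} [AddCommGroup Y] [Module A Y] (f : X →ₗ[A] Y) {x : X}
    (hx : x ∈ I • (⊤ : Submodule A X)) : f x ∈ I • (⊤ : Submodule A Y) := by
  have h := Submodule.mem_map_of_mem (f := f) hx
  rw [Submodule.map_smul''] at h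
  exact Submodule.smul_mono le_rfl le_top h

lemma exists_lift {Y : Type u} [AddCommGroup Y] [Module A Y] [Module.Projective A X]
    {N : Type u} [AddCommGroup N] [Module (A ⧸ I) N] {π' : Y →ₛₗ[Ideal.Quotient.mk I] N}
    (h' : IsRed π') (g : X →ₛₗ[Ideal.Quotient.mk I] N) :
    ∃ f : X →ₗ[A] Y, ∀ x, π' (f x) = g x := by
  let p : Submodule A Y := I • ⊤
  let ψ : Y ⧸ p →ₛₗ[Ideal.Quotient.mk I] N := p.liftQ π' h'.ker.ge
  have hψ : Function.Bijective ψ := by
    refine ⟨fun a b hab => ?_, fun n => ?_⟩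
    · obtain ⟨a, rfl⟩ := p.mkQ_surjective a
      obtain ⟨b, rfl⟩ := p.mkQ_surjective b
      change π' a = π' b at hab
      refine (Submodule.Quotient.eq p).2 (h'.eq_zero_iff.1 ?_)
      rw [map_sub, hab, sub_self]
    · obtain ⟨y, rfl⟩ := h'.surj n
      exact ⟨p.mkQ y, rfl⟩
  let e := Equiv.ofBijective ψ hψ
  let h : X →ₗ[A] Y ⧸ p :=
    { toFun := fun x => e.symm (g x)
      map_add' := fun x y => hψ.1 (by
        simp only [map_add]
        change e (e.symm _) = e (e.symm _) + e (e.symm _)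
        simp only [Equiv.apply_symm_apply, map_add])
      map_smul' := fun a x => hψ.1 (by
        simp only [RingHom.id_apply, map_smulₛₗ]
        change e (e.symm _) = Ideal.Quotient.mk I a • e (e.symm _)
        simp only [Equiv.apply_symm_apply, map_smulₛₗ]) }
  obtain ⟨f, hf⟩ := Module.projective_lifting_property p.mkQ h p.mkQ_surjective
  refine ⟨f, fun x => ?_⟩
  have := congrArg ψ (LinearMap.congr_fun hf x)
  exact this.trans (e.apply_symm_apply _)

/-- The reduction map of an identification `(A/I) ⊗ X ≅ M`. -/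
noncomputable def redOfEquiv (e : TensorProduct A (A ⧸ I) X ≃ₗ[A ⧸ I] M) :
    X →ₛₗ[Ideal.Quotient.mk I] M where
  toFun x := e ((1 : A ⧸ I) ⊗ₜ[A] x)
  map_add' x y := by rw [TensorProduct.tmul_add, map_add]
  map_smul' a x := by
    rw [TensorProduct.tmul_smul, ← Ideal.Quotient.algebraMap_eq, ← algebraMap_smul (A ⧸ I) a, map_smul]

lemma one_tmul_eq_zero_iff (x : X) :
    (1 : A ⧸ I) ⊗ₜ[A] x = 0 ↔ x ∈ I • (⊤ : Submodule A X) := by
  rw [← (TensorProduct.quotTensorEquivQuotSMul X I).map_eq_zero_iff,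
    ← map_one (Ideal.Quotient.mk I), TensorProduct.quotTensorEquivQuotSMul_mk_tmul,
    one_smul, Submodule.Quotient.mk_eq_zero]

lemma exists_one_tmul (t : TensorProduct A (A ⧸ I) X) : ∃ x : X, t = (1 : A ⧸ I) ⊗ₜ[A] x := by
  induction t using TensorProduct.induction_on with
  | zero => exact ⟨0, (TensorProduct.tmul_zero _ _).symm⟩
  | tmul c x =>
    obtain ⟨a, rfl⟩ := Ideal.Quotient.mk_surjective c
    exact ⟨a • x, by rw [TensorProduct.tmul_smul, TensorProduct.smul_tmul', Algebra.smul_def,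
      Ideal.Quotient.algebraMap_eq, mul_one]⟩
  | add t t' ht ht' =>
    obtain ⟨x, rfl⟩ := ht
    obtain ⟨x', rfl⟩ := ht'
    exact ⟨x + x', (TensorProduct.tmul_add _ _ _).symm⟩

lemma isRed_ofEquiv (e : TensorProduct A (A ⧸ I) X ≃ₗ[A ⧸ I] M) : IsRed (redOfEquiv e) where
  surj m := by
    obtain ⟨x, hx⟩ := exists_one_tmul (e.symm m)
    exact ⟨x, by change e _ = m; rw [← hx, e.apply_symm_apply]⟩
  ker := by
    ext x
    rw [LinearMap.mem_ker, ← one_tmul_eq_zero_iff]
    exact e.map_eq_zero_iff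

end Red

/-- The conditions on the class of modules. -/
structure Cls (I : Ideal A) (Pc : ObjectProperty (ModuleCat.{u} A)) : Prop where
  proj : ∀ X : ModuleCat.{u} A, Pc X → Module.Projective A X
  sub : ∀ X Y : ModuleCat.{u} A, Pc X → Pc (ModuleCat.of A (X × Y)) → Pc Y
  nak : ∀ (X Y : ModuleCat.{u} A) (f : X ⟶ Y), Pc X → Pc Y →
    LinearMap.range f.hom ⊔ I • (⊤ : Submodule A Y) = ⊤ → Function.Surjective f.hom

variable {Pc : ObjectProperty (ModuleCat.{u} A)} [Pc.IsClosedUnderIsomorphisms] (H : Cls I Pc)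
variable {X Y : ModuleCat.{u} A}

include H in
lemma Cls.subsingleton (hX : Pc X) (h : I • (⊤ : Submodule A X) = ⊤) : Subsingleton X := by
  refine subsingleton_of_forall_eq 0 fun x => ?_
  obtain ⟨y, rfl⟩ := H.nak X X 0 hX hX (by rw [h, sup_top_eq]) x
  rfl

include H in
lemma Cls.surjective {M N : Type u} [AddCommGroup M] [Module (A ⧸ I) M] [AddCommGroup N] [Module (A ⧸ I) N]
    (hX : Pc X) (hY : Pc Y) {π : X →ₛₗ[Ideal.Quotient.mk I] M} {π' : Y →ₛₗ[Ideal.Quotient.mk I] N}
    (hπ : IsRed π) (hπ' : IsRed π') (f : X →ₗ[A] Y) (g : M →ₗ[A ⧸ I] N) (hg : Function.Surjective g)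
    (hf : ∀ x, π' (f x) = g (π x)) : Function.Surjective f := by
  refine H.nak X Y (ModuleCat.ofHom f) hX hY (eq_top_iff.2 fun y _ => ?_)
  obtain ⟨m, hm⟩ := hg (π' y)
  obtain ⟨x, rfl⟩ := hπ.surj m
  rw [← sub_add_cancel y (f x)]
  refine Submodule.add_mem _ (Submodule.mem_sup_right (hπ'.eq_zero_iff.1 ?_))
    (Submodule.mem_sup_left ⟨x, rfl⟩)
  rw [map_sub, hf, hm, sub_self]

/-- The splitting of a surjection onto a projective module. -/
lemma exists_splitting [Module.Projective A Y] (f : X →ₗ[A] Y) (hf : Function.Surjective f) :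
    ∃ (s : Y →ₗ[A] X) (r : X →ₗ[A] LinearMap.ker f) (_ : (X : Type u) ≃ₗ[A] Y × LinearMap.ker f),
      (∀ y, f (s y) = y) ∧ ∀ x, (r x : X) = x - s (f x) := by
  obtain ⟨s, hs⟩ := Module.projective_lifting_property f LinearMap.id hf
  have hs' : ∀ y, f (s y) = y := fun y => LinearMap.congr_fun hs y
  let r : X →ₗ[A] LinearMap.ker f :=
    LinearMap.codRestrict _ (LinearMap.id - s ∘ₗ f) fun x => by simp [hs']
  refine ⟨s, r, LinearEquiv.ofLinear (f.prod r) (s.coprod (LinearMap.ker f).subtype) ?_ ?_, hs',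
    fun x => rfl⟩
  · ext z <;> simp [r, hs']
  · ext x; simp [r]

include H in
lemma Cls.pc_ker (hX : Pc X) (hY : Pc Y) (f : X →ₗ[A] Y) (hf : Function.Surjective f) :
    Pc (ModuleCat.of A (LinearMap.ker f)) := by
  haveI := H.proj Y hY
  obtain ⟨-, -, e, -, -⟩ := exists_splitting f hf
  exact H.sub Y _ hY (Pc.prop_of_iso e.toModuleIso hX)

lemma mem_smul_ker [Module.Projective A Y] (f : X →ₗ[A] Y) (hf : Function.Surjective f)
    {x : LinearMap.ker f} (hx : (x : X) ∈ I • (⊤ : Submodule A X)) :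
    x ∈ I • (⊤ : Submodule A (LinearMap.ker f)) := by
  obtain ⟨s, r, -, -, hr⟩ := exists_splitting f hf
  have : r x = x := Subtype.ext (by rw [hr, x.2, map_zero, sub_zero])
  rw [← this]
  exact map_mem_smul_top r hx

include H in
lemma Cls.bijective {M : Type u} [AddCommGroup M] [Module (A ⧸ I) M] (hX : Pc X) (hY : Pc Y)
    {π : X →ₛₗ[Ideal.Quotient.mk I] M} {π' : Y →ₛₗ[Ideal.Quotient.mk I] M} (hπ : IsRed π) (hπ' : IsRed π')
    (f : X →ₗ[A] Y) (hf : ∀ x, π' (f x) = π x) : Function.Bijective f := by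
  haveI := H.proj X hX
  haveI := H.proj Y hY
  have hsur : Function.Surjective f :=
    H.surjective hX hY hπ hπ' f LinearMap.id Function.surjective_id hf
  have hK := H.pc_ker hX hY f hsur
  haveI := H.subsingleton hK (eq_top_iff.2 fun x _ => mem_smul_ker f hsur (hπ.eq_zero_iff.1 (by
    rw [← hf, show f (x : X) = 0 from x.2, map_zero])))
  exact ⟨LinearMap.ker_eq_bot.1 (Submodule.subsingleton_iff_eq_bot.1 this), hsur⟩

include H in
lemma Cls.subsingleton_of_red {M : Type u} [AddCommGroup M] [Module (A ⧸ I) M] [Subsingleton M]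
    (hX : Pc X) {π : X →ₛₗ[Ideal.Quotient.mk I] M} (hπ : IsRed π) : Subsingleton X :=
  H.subsingleton hX (eq_top_iff.2 fun _ _ => hπ.eq_zero_iff.1 (Subsingleton.elim _ _))

/-- A lift of a complex. -/
structure Lift (E : DRing.Cx (A ⧸ I)) (P : DRing.Cx A) where
  /-- The reduction maps. -/
  π : ∀ n, P.X n →ₛₗ[Ideal.Quotient.mk I] E.X n
  red : ∀ n, IsRed (π n)
  comm : ∀ n x, (E.d n (n + 1)).hom (π n x) = π (n + 1) ((P.d n (n + 1)).hom x)

/-- A lift identifies the reduction. -/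
theorem Lift.nonempty_iso {E : DRing.Cx (A ⧸ I)} {P : DRing.Cx A} (L : Lift E P) :
    Nonempty ((((ModuleCat.extendScalars.{u, u, u} (Ideal.Quotient.mk I)).mapHomologicalComplex
      (ComplexShape.up ℤ)).obj P) ≅ E) := by
  let adj := ModuleCat.extendRestrictScalarsAdj.{u} (Ideal.Quotient.mk I)
  let g : ∀ n, P.X n ⟶ (ModuleCat.restrictScalars (Ideal.Quotient.mk I)).obj (E.X n) := fun n =>
    ModuleCat.ofHom (Y := (ModuleCat.restrictScalars (Ideal.Quotient.mk I)).obj (E.X n))
      { toFun := L.π n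
        map_add' := map_add (L.π n)
        map_smul' := fun a x => map_smulₛₗ (L.π n) a x }
  let F : (((ModuleCat.extendScalars.{u, u, u} (Ideal.Quotient.mk I)).mapHomologicalComplex
      (ComplexShape.up ℤ)).obj P) ⟶ E :=
    { f := fun n => (adj.homEquiv _ _).symm (g n)
      comm' := fun i j hij => by
        obtain rfl : i + 1 = j := hij
        apply (adj.homEquiv _ _).injective
        change (adj.homEquiv _ _) ((adj.homEquiv _ _).symm (g i) ≫ E.d i (i + 1)) =
          (adj.homEquiv _ _) ((ModuleCat.extendScalars.{u, u, u} (Ideal.Quotient.mk I)).map (P.d i (i + 1)) ≫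
            (adj.homEquiv _ _).symm (g (i + 1)))
        rw [Adjunction.homEquiv_naturality_right, Adjunction.homEquiv_naturality_left,
          Equiv.apply_symm_apply, Equiv.apply_symm_apply]
        exact ModuleCat.hom_ext (LinearMap.ext fun x => L.comm i x) }
  haveI : ∀ n, IsIso (F.f n) := fun n => by
    have h1 : ∀ x, (F.f n).hom (show TensorProduct A (A ⧸ I) (P.X n) from (1 : A ⧸ I) ⊗ₜ[A] x) = L.π n x := fun x =>
      ConcreteCategory.congr_hom ((adj.homEquiv _ _).apply_symm_apply (g n)) x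
    refine (ConcreteCategory.isIso_iff_bijective _).2
      ⟨(injective_iff_map_eq_zero _).2 fun (t : TensorProduct A (A ⧸ I) (P.X n)) ht => ?_, fun m => ?_⟩
    · obtain ⟨x, rfl⟩ := exists_one_tmul t
      exact (one_tmul_eq_zero_iff x).2 ((L.red n).eq_zero_iff.1 ((h1 x).symm.trans ht))
    · obtain ⟨x, rfl⟩ := (L.red n).surj m
      exact ⟨_, h1 x⟩
  haveI := HomologicalComplex.Hom.isIso_of_components F
  exact ⟨asIso F⟩

include H in
/-- Acyclic complexes lift to contractible complexes. -/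
theorem exists_acyclic_lift {E : DRing.Cx (A ⧸ I)} {b : ℤ} (hb : DRing.VanishesAbove E b) (hE : E.Acyclic)
    (hEt : ∀ i, ∃ (X : ModuleCat.{u} A) (π : X →ₛₗ[Ideal.Quotient.mk I] E.X i), Pc X ∧ IsRed π) :
    ∃ (P : DRing.Cx A) (L : Lift E P) (s : ∀ i, P.X (i + 1) →ₗ[A] P.X i),
      DRing.VanishesAbove P b ∧ (∀ i, Pc (P.X i)) ∧ P.Acyclic ∧
      ∀ i (x : P.X (i + 1)),
        (P.d i (i + 1)).hom (s i x) + s (i + 1) ((P.d (i + 1) (i + 1 + 1)).hom x) = x := by
  let Z : ∀ n, Submodule (A ⧸ I) (E.X n) := fun n => LinearMap.ker (E.d n (n + 1)).hom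
  let dbar : ∀ n, E.X n →ₗ[A ⧸ I] Z (n + 1) := fun n =>
    LinearMap.codRestrict _ (E.d n (n + 1)).hom fun x => by
      rw [LinearMap.mem_ker, ← LinearMap.comp_apply, ← ModuleCat.hom_comp, E.d_comp_d]; rfl
  have hdbar : ∀ n, Function.Surjective (dbar n) := by
    intro n ⟨z, hz⟩
    have h := (hE (n + 1))
    rw [HomologicalComplex.exactAt_iff' E n (n + 1) (n + 1 + 1) (by simp) (by simp),
      ShortComplex.moduleCat_exact_iff] at h
    obtain ⟨x, hx⟩ := h z hz
    exact ⟨x, Subtype.ext hx⟩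
  choose X πX hX hπX using hEt
  have step : ∀ n (Q' : ModuleCat.{u} A) (π' : Q' →ₛₗ[Ideal.Quotient.mk I] Z (n + 1)), Pc Q' → IsRed π' →
      ∃ (f : X n →ₗ[A] Q') (πK : LinearMap.ker f →ₛₗ[Ideal.Quotient.mk I] Z n),
        Function.Surjective f ∧ (∀ x, π' (f x) = dbar n (πX n x)) ∧ IsRed πK ∧
          ∀ x, (πK x : E.X n) = πX n x := by
    intro n Q' π' hQ' hπ'
    haveI := H.proj _ (hX n)
    haveI := H.proj _ hQ'
    obtain ⟨f, hf⟩ := exists_lift hπ' ((dbar n).comp (πX n))
    have hsur : Function.Surjective f :=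
      H.surjective (hX n) hQ' (hπX n) hπ' f (dbar n) (hdbar n) hf
    have hmem : ∀ x : LinearMap.ker f, πX n x ∈ Z n := fun x => by
      have := congrArg Subtype.val (hf x)
      rw [show f (x : X n) = 0 from x.2, map_zero] at this
      exact this.symm
    let πK : LinearMap.ker f →ₛₗ[Ideal.Quotient.mk I] Z n :=
      { toFun := fun x => ⟨πX n x, hmem x⟩
        map_add' := fun x y => Subtype.ext (map_add (πX n) _ _)
        map_smul' := fun a x => Subtype.ext (map_smulₛₗ (πX n) a _) }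
    refine ⟨f, πK, hsur, hf, ⟨fun ⟨z, hz⟩ => ?_, ?_⟩, fun _ => rfl⟩
    · obtain ⟨x, hx⟩ := (hπX n).surj z
      obtain ⟨s, r, -, hs, hr⟩ := exists_splitting f hsur
      refine ⟨r x, Subtype.ext ?_⟩
      change πX n (r x : X n) = z
      rw [hr, map_sub, hx, sub_eq_self]
      have h0 : π' (f x) = 0 := by
        rw [hf]
        exact Subtype.ext (by rw [LinearMap.comp_apply, hx]; exact hz)
      exact (hπX n).eq_zero_iff.2 (map_mem_smul_top s (hπ'.eq_zero_iff.1 h0))
    · ext x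
      rw [LinearMap.mem_ker]
      refine ⟨fun h => mem_smul_ker f hsur ((hπX n).eq_zero_iff.1 (congrArg Subtype.val h)), fun h => ?_⟩
      exact Subtype.ext ((hπX n).eq_zero_iff.2 (map_mem_smul_top (LinearMap.ker f).subtype h))
  have hzero : ∀ n, b < n → Subsingleton (E.X n) := fun n hn =>
    ModuleCat.subsingleton_of_isZero (hb n hn)
  have hlift : ∀ n, ∃ (Q : ModuleCat.{u} A) (π : Q →ₛₗ[Ideal.Quotient.mk I] Z n), Pc Q ∧ IsRed π := by
    intro n
    rcases le_or_gt (b + 1) n with hn | hn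
    · haveI := hzero n (by omega)
      haveI := H.subsingleton_of_red (hX n) (hπX n)
      exact ⟨X n, 0, hX n, ⟨fun z => ⟨0, Subsingleton.elim _ _⟩, by ext x; simp [Subsingleton.elim x 0]⟩⟩
    · induction n, hn.le using Int.leInductionDown with
      | base => omega
      | pred n hn' ih =>
        have hQ' : ∃ (Q : ModuleCat.{u} A) (π : Q →ₛₗ[Ideal.Quotient.mk I] Z n), Pc Q ∧ IsRed π := by
          rcases lt_or_ge n (b + 1) with h | h
          · exact ih h
          · haveI := hzero n (by omega)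
            haveI := H.subsingleton_of_red (hX n) (hπX n)
            exact ⟨X n, 0, hX n, ⟨fun z => ⟨0, Subsingleton.elim _ _⟩, by ext x; simp [Subsingleton.elim x 0]⟩⟩
        obtain ⟨Q', π', hQ', hπ'⟩ := (sub_add_cancel n 1).symm ▸ hQ'
        obtain ⟨f, πK, hsur, -, hred, -⟩ := step (n - 1) Q' π' hQ' hπ'
        exact ⟨_, πK, H.pc_ker (hX _) hQ' f hsur, hred⟩
  choose Q πQ hQ hπQ using hlift
  have he : ∀ n, ∃ e : ((Q n × Q (n + 1) : Type u)) ≃ₗ[A] X n,
      ∀ q q', (E.d n (n + 1)).hom (πX n (e (q, q'))) = (πQ (n + 1) q' : E.X (n + 1)) ∧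
        πX n (e (q, 0)) = (πQ n q : E.X n) := by
    intro n
    obtain ⟨f, πK, hsur, hf, hred, hπK⟩ := step n (Q (n + 1)) (πQ (n + 1)) (hQ _) (hπQ _)
    haveI := H.proj _ (hQ n)
    haveI := H.proj _ (hQ (n + 1))
    haveI := H.proj _ (H.pc_ker (hX n) (hQ _) f hsur)
    obtain ⟨k, hk⟩ := exists_lift hred (πQ n)
    have hkb : Function.Bijective k :=
      H.bijective (hQ n) (H.pc_ker (hX n) (hQ _) f hsur) (hπQ n) hred k hk
    obtain ⟨s, r, -, hs, hr⟩ := exists_splitting f hsur
    let m : (Q n × Q (n + 1)) →ₗ[A] X n :=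
      ((LinearMap.ker f).subtype ∘ₗ k).coprod s
    have hm : Function.Bijective m := by
      refine ⟨(injective_iff_map_eq_zero m).2 fun ⟨q, q'⟩ h => ?_, fun x => ?_⟩
      · change (k q : X n) + s q' = 0 at h
        have h' := congrArg f h
        rw [map_add, show f (k q : X n) = 0 from (k q).2, hs, zero_add, map_zero] at h'
        rw [h', map_zero, add_zero] at h
        exact Prod.ext (hkb.1 ((Subtype.ext h).trans (map_zero k).symm)) h'
      · obtain ⟨q, hq⟩ := hkb.2 (r x)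
        exact ⟨(q, f x), by change (k q : X n) + s (f x) = x; rw [hq, hr, sub_add_cancel]⟩
    refine ⟨LinearEquiv.ofBijective m hm, fun q q' => ⟨?_, ?_⟩⟩
    · change ((dbar n (πX n ((k q : X n) + s q'))) : E.X (n + 1)) = _
      rw [← hf, map_add, show f (k q : X n) = 0 from (k q).2, hs, zero_add]
    · change πX n ((k q : X n) + s 0) = _
      rw [map_zero, add_zero, ← hπK, hk]
  choose e he using he
  let d : ∀ n, (Q n × Q (n + 1)) →ₗ[A] (Q (n + 1) × Q (n + 1 + 1)) := fun n =>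
    LinearMap.inl A _ _ ∘ₗ LinearMap.snd A _ _
  let P : DRing.Cx A := CochainComplex.of (fun n => ModuleCat.of A (Q n × Q (n + 1)))
    (fun n => ModuleCat.ofHom (d n)) (fun n => by ext x <;> rfl)
  have hd : ∀ n, P.d n (n + 1) = ModuleCat.ofHom (d n) := fun n => by simp [P]
  have hPc : ∀ n, Pc (P.X n) := fun n => Pc.prop_of_iso (e n).symm.toModuleIso (hX n)
  let L : Lift E P :=
    { π := fun n => (πX n).comp (e n).toLinearMap
      red := fun n => ⟨(hπX n).surj.comp (e n).surjective, by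
        ext x
        rw [LinearMap.mem_ker]
        refine ⟨fun h => ?_, fun h => (hπX n).eq_zero_iff.2 (map_mem_smul_top (e n).toLinearMap h)⟩
        have := map_mem_smul_top (e n).symm.toLinearMap ((hπX n).eq_zero_iff.1 h)
        simpa using this⟩
      comm := fun n ⟨q, q'⟩ => by
        rw [hd]
        exact ((he n q q').1).trans ((he (n + 1) q' 0).2).symm }
  refine ⟨P, L, fun i => LinearMap.inr A _ _ ∘ₗ LinearMap.fst A _ _, fun n hn => ?_, hPc, fun n => ?_,
    fun i ⟨q, q'⟩ => ?_⟩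
  · haveI := hzero n hn
    haveI := H.subsingleton_of_red (hPc n) (L.red n)
    exact ModuleCat.isZero_of_subsingleton _
  · obtain ⟨m, rfl⟩ : ∃ m, n = m + 1 := ⟨n - 1, by omega⟩
    rw [HomologicalComplex.exactAt_iff' P m (m + 1) (m + 1 + 1) (by simp) (by simp),
      ShortComplex.moduleCat_exact_iff]
    rintro ⟨q, q'⟩ hx
    refine ⟨(0, q), ?_⟩
    change (P.d m (m + 1)).hom _ = _
    change (P.d (m + 1) (m + 1 + 1)).hom _ = _ at hx
    rw [hd] at hx ⊢
    exact Prod.ext rfl (congrArg Prod.fst hx).symm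
  · rw [hd, hd]
    exact Prod.ext (add_zero q) (zero_add q')

end Groth.Agent.H9Misc.DRingLift
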