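import Mathlib
import Groth.Agent.H9Misc.DRingLift
import Groth.Agent.H9Misc.DRingLBase
import Groth.Agent.H9Misc.DRingLTensorCx
import Groth.Agent.H9Misc.FinDimDerived

/-! Lifting bounded above complexes modulo an ideal. -/

set_option linter.style.haveILetI false

universe u

open CategoryTheory CategoryTheory.Limits CategoryTheory.Pretriangulated
open CochainComplex CochainComplex.HomComplex

attribute [local instance] HasDerivedCategory.standard

namespace Groth.Agent.H9Misc.DRingLift

variable {A : Type u} [CommRing A] {I : Ideal A}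

section Red

variable {X : ModuleCat.{u} A} {M : ModuleCat.{u} (A ⧸ I)}

lemma IsRed.nonempty_iso {π : X →ₛₗ[Ideal.Quotient.mk I] M} (hπ : IsRed π) :
    Nonempty ((ModuleCat.extendScalars.{u, u, u} (Ideal.Quotient.mk I)).obj X ≅ M) := by
  let adj := ModuleCat.extendRestrictScalarsAdj.{u} (Ideal.Quotient.mk I)
  let g : X ⟶ (ModuleCat.restrictScalars (Ideal.Quotient.mk I)).obj M :=
    ModuleCat.ofHom (Y := (ModuleCat.restrictScalars (Ideal.Quotient.mk I)).obj M)
      { toFun := π, map_add' := map_add π, map_smul' := fun a x => map_smulₛₗ π a x }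
  let F := (adj.homEquiv _ _).symm g
  have h1 : ∀ x, F.hom (show TensorProduct A (A ⧸ I) X from (1 : A ⧸ I) ⊗ₜ[A] x) = π x := fun x =>
    ConcreteCategory.congr_hom ((adj.homEquiv _ _).apply_symm_apply g) x
  haveI : IsIso F := by
    refine (ConcreteCategory.isIso_iff_bijective _).2
      ⟨(injective_iff_map_eq_zero _).2 fun (t : TensorProduct A (A ⧸ I) X) ht => ?_, fun m => ?_⟩
    · obtain ⟨x, rfl⟩ := exists_one_tmul t
      exact (one_tmul_eq_zero_iff x).2 (hπ.eq_zero_iff.1 ((h1 x).symm.trans ht))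
    · obtain ⟨x, rfl⟩ := hπ.surj m
      exact ⟨_, h1 x⟩
  exact ⟨asIso F⟩

lemma IsRed.projective {π : X →ₛₗ[Ideal.Quotient.mk I] M} (hπ : IsRed π) [Module.Projective A X] :
    Projective M := by
  haveI : Projective X := (IsProjective.iff_projective _).1 inferInstance
  obtain ⟨e⟩ := hπ.nonempty_iso
  haveI : (ModuleCat.restrictScalars.{u} (Ideal.Quotient.mk I)).PreservesEpimorphisms := ⟨fun f hf =>
    (ModuleCat.epi_iff_surjective _).2 ((ModuleCat.epi_iff_surjective f).1 hf)⟩
  exact Projective.of_iso e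
    ((ModuleCat.extendRestrictScalarsAdj.{u} (Ideal.Quotient.mk I)).map_projective X inferInstance)

variable (I X) in
/-- The canonical reduction. -/
noncomputable def unitRed :
    X →ₛₗ[Ideal.Quotient.mk I] (ModuleCat.extendScalars.{u, u, u} (Ideal.Quotient.mk I)).obj X :=
  redOfEquiv (X := X) (M := (ModuleCat.extendScalars.{u, u, u} (Ideal.Quotient.mk I)).obj X)
    (LinearEquiv.refl (A ⧸ I) (TensorProduct A (A ⧸ I) X))

variable (I X) in
lemma isRed_unitRed : IsRed (unitRed I X) :=
  isRed_ofEquiv (X := X) (M := (ModuleCat.extendScalars.{u, u, u} (Ideal.Quotient.mk I)).obj X)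
    (LinearEquiv.refl (A ⧸ I) (TensorProduct A (A ⧸ I) X))

end Red

lemma unitRed_naturality {P : DRing.Cx A} (n : ℤ) (x : P.X n) :
    ((((ModuleCat.extendScalars.{u, u, u} (Ideal.Quotient.mk I)).mapHomologicalComplex
      (ComplexShape.up ℤ)).obj P).d n (n + 1)).hom (unitRed I (P.X n) x) =
      unitRed I (P.X (n + 1)) ((P.d n (n + 1)).hom x) := rfl

variable {Pc : ObjectProperty (ModuleCat.{u} A)} [Pc.IsClosedUnderIsomorphisms]

/-- Lifting a complex which is isomorphic in `D(A/I)` to a reduction. -/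
theorem exists_lift_complex (H : Cls I Pc)
    (hsum : ∀ X Y : ModuleCat.{u} A, Pc X → Pc Y → Pc (ModuleCat.of A (X × Y)))
    [DRing.HasLBaseChange (Ideal.Quotient.mk I)] (K : Dual.D A) (Q : DRing.Cx A) (c : ℤ)
    (hQc : DRing.VanishesAbove Q c) (hQ : ∀ i, Pc (Q.X i)) (eK : DRing.toD Q ≅ K)
    (E : DRing.Cx (A ⧸ I)) (b : ℤ) (hEb : DRing.VanishesAbove E b)
    (hEt : ∀ i, ∃ (X : ModuleCat.{u} A) (π : X →ₛₗ[Ideal.Quotient.mk I] E.X i), Pc X ∧ IsRed π)
    (eE : DRing.toD E ≅ (DRing.LBaseChange (Ideal.Quotient.mk I)).obj K) :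
    ∃ (P : DRing.Cx A) (b' : ℤ) (_ : Lift E P), DRing.VanishesAbove P b' ∧ (∀ i, Pc (P.X i)) ∧
      Nonempty (DRing.toD P ≅ K) := by
  choose X πX hX hπX using hEt
  let Qb : DRing.Cx (A ⧸ I) := ((ModuleCat.extendScalars.{u, u, u} (Ideal.Quotient.mk I)).mapHomologicalComplex
      (ComplexShape.up ℤ)).obj Q
  have hQF : DRingLTensor.IsKF Q := DRingTor.isKF_of_flat (b := c) (fun i => by
    haveI := H.proj _ (hQ i)
    exact Module.Flat.of_projective) hQc
  obtain ⟨eb⟩ := DRingLBase.nonempty_lbase_iso (Ideal.Quotient.mk I) hQF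
  haveI : ∀ i, Projective (E.X i) := fun i => by
    haveI := H.proj _ (hX i)
    exact (hπX i).projective
  haveI : E.IsStrictlyLE b := (CochainComplex.isStrictlyLE_iff _ _).2 hEb
  haveI := CochainComplex.isKProjective_of_projective E b
  obtain ⟨ψ, hψ⟩ := DRingLTensorCx.exists_quasiIso_of_iso
    (eE ≪≫ (DRing.LBaseChange (Ideal.Quotient.mk I)).mapIso eK.symm ≪≫ eb :
      DerivedCategory.Q.obj E ≅ DerivedCategory.Q.obj Qb)
  let C := CochainComplex.mappingCone ψ
  have hC : C.Acyclic := (FinDimDerived.isZero_Q_obj_iff C).1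
    ((Triangle.isZero₃_iff_isIso₁ _ (DerivedCategory.mappingCone_triangle_distinguished ψ)).2
      (inferInstanceAs (IsIso (DerivedCategory.Q.map ψ))))
  let fst := fun i => ((mappingCone.fst ψ).1.v i (i + 1) rfl).hom
  let snd := fun i => ((mappingCone.snd ψ).v i i (add_zero i)).hom
  let inl := fun i => ((mappingCone.inl ψ).v (i + 1) i (by omega)).hom
  let inr := fun i => ((mappingCone.inr ψ).f i).hom
  have hid : ∀ i z, inl i (fst i z) + inr i (snd i z) = z := fun i z =>
    ConcreteCategory.congr_hom (mappingCone.id_X ψ i (i + 1) rfl) z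
  have hfi : ∀ i z, fst i (inr i z) = 0 := fun i z =>
    ConcreteCategory.congr_hom (mappingCone.inr_f_fst_v ψ i (i + 1) rfl) z
  have hsi : ∀ i z, snd i (inr i z) = z := fun i z =>
    ConcreteCategory.congr_hom (mappingCone.inr_f_snd_v ψ i) z
  have hfl : ∀ i z, fst i (inl i z) = z := fun i z =>
    ConcreteCategory.congr_hom (mappingCone.inl_v_fst_v ψ (i + 1) i rfl) z
  have hsl : ∀ i z, snd i (inl i z) = 0 := fun i z =>
    ConcreteCategory.congr_hom (mappingCone.inl_v_snd_v ψ (i + 1) i (by omega)) z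
  have hCb : DRing.VanishesAbove C (max (b - 1) c) := fun i hi => by
    haveI := ModuleCat.subsingleton_of_isZero (hEb (i + 1) (by omega))
    haveI : Subsingleton (Qb.X i) := ModuleCat.subsingleton_of_isZero
      ((ModuleCat.extendScalars.{u, u, u} (Ideal.Quotient.mk I)).map_isZero (hQc i (by omega)))
    haveI : Subsingleton (C.X i) := ⟨fun y z => by
      rw [← hid i y, ← hid i z, Subsingleton.elim (fst i y) (fst i z),
        Subsingleton.elim (snd i y) (snd i z)]⟩
    exact ModuleCat.isZero_of_subsingleton _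
  -- lift of the cone
  let π₀ : ∀ i, (X (i + 1) × Q.X i : Type u) →ₛₗ[Ideal.Quotient.mk I] C.X i := fun i =>
    (inl i).comp ((πX (i + 1)).comp (LinearMap.fst A _ _)) +
      (inr i).comp ((unitRed I (Q.X i)).comp (LinearMap.snd A _ _))
  have hπ₀ : ∀ i, IsRed (π₀ i) := fun i => by
    refine ⟨fun z => ?_, ?_⟩
    · obtain ⟨x, hx⟩ := (hπX (i + 1)).surj (fst i z)
      obtain ⟨q, hq⟩ := (isRed_unitRed I (Q.X i)).surj (snd i z)
      refine ⟨(x, q), ?_⟩
      change inl i (πX (i + 1) x) + inr i (unitRed I (Q.X i) q) = z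
      rw [hx, hq, hid]
    · ext ⟨x, q⟩
      rw [LinearMap.mem_ker]
      change inl i (πX (i + 1) x) + inr i (unitRed I (Q.X i) q) = 0 ↔ _
      constructor
      · intro h
        have h1 := congrArg (fst i) h
        have h2 := congrArg (snd i) h
        simp only [map_add, map_zero, hfl, hfi, hsl, hsi, add_zero, zero_add] at h1 h2
        rw [show (x, q) = LinearMap.inl A (X (i + 1)) (Q.X i) x + LinearMap.inr A (X (i + 1)) (Q.X i) q by
          simp]
        exact Submodule.add_mem _ (map_mem_smul_top _ ((hπX (i + 1)).eq_zero_iff.1 h1))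
          (map_mem_smul_top _ ((isRed_unitRed I (Q.X i)).eq_zero_iff.1 h2))
      · intro h
        have h1 := (hπX (i + 1)).eq_zero_iff.2 (map_mem_smul_top (LinearMap.fst A _ _) h)
        have h2 := (isRed_unitRed I (Q.X i)).eq_zero_iff.2 (map_mem_smul_top (LinearMap.snd A _ _) h)
        simp only [LinearMap.fst_apply, LinearMap.snd_apply] at h1 h2
        rw [h1, h2]
        exact (congrArg₂ (· + ·) (map_zero (inl i)) (map_zero (inr i))).trans (add_zero 0)
  obtain ⟨PC, L, s, hPCb, hPC, hPCa, hs⟩ := exists_acyclic_lift H hCb hC fun i =>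
    ⟨ModuleCat.of A (X (i + 1) × Q.X i), π₀ i, hsum _ _ (hX _) (hQ _), hπ₀ i⟩
  -- lift of `Qb → C`
  haveI : ∀ i, Module.Projective A (Q.X i) := fun i => H.proj _ (hQ i)
  have hg : ∀ i, ∃ g : Q.X i →ₗ[A] PC.X i, ∀ x, L.π i (g x) = inr i (unitRed I (Q.X i) x) := fun i =>
    exists_lift (L.red i) ((inr i).comp (unitRed I (Q.X i)))
  choose g hg using hg
  let hh : Cochain Q PC (-1) := Cochain.mk fun p q hpq =>
    ModuleCat.ofHom (g p) ≫ (PC.XIsoOfEq (show p = q + 1 by omega)).hom ≫ ModuleCat.ofHom (s q)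
  let f : Q ⟶ PC := Cocycle.homOf (Cocycle.mk (δ (-1) 0 hh) 1 (zero_add 1) (δ_δ _ _ _ _))
  have hf : ∀ m x, (f.f (m + 1)).hom x =
      (PC.d m (m + 1)).hom (s m (g (m + 1) x)) +
        s (m + 1) (g (m + 1 + 1) ((Q.d (m + 1) (m + 1 + 1)).hom x)) := by
    intro m x
    have h := δ_v (-1) 0 (by omega) hh (m + 1) (m + 1) (add_zero _) m (m + 1 + 1) (by omega) rfl
    have h' := ConcreteCategory.congr_hom h x
    refine h'.trans ?_
    simp only [hh, Cochain.mk_v, Int.negOnePow_zero, one_smul]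
    rfl
  have hsI : ∀ i (y y' : PC.X (i + 1)), L.π (i + 1) y = L.π (i + 1) y' →
      L.π i (s i y) = L.π i (s i y') := fun i y y' h => by
    rw [← sub_eq_zero, ← map_sub, ← map_sub]
    exact (L.red i).eq_zero_iff.2 (map_mem_smul_top (s i) ((L.red (i + 1)).eq_zero_iff.1
      (by rw [map_sub, h, sub_self])))
  have hdr : ∀ i z, (C.d i (i + 1)).hom (inr i z) = inr (i + 1) ((Qb.d i (i + 1)).hom z) := fun i z =>
    ConcreteCategory.congr_hom ((mappingCone.inr ψ).comm i (i + 1)) z
  have hπf : ∀ i x, L.π i ((f.f i).hom x) = inr i (unitRed I (Q.X i) x) := by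
    intro i
    obtain ⟨m, rfl⟩ : ∃ m, i = m + 1 := ⟨i - 1, by omega⟩
    intro x
    have h1 : L.π (m + 1) (s (m + 1) (g (m + 1 + 1) ((Q.d (m + 1) (m + 1 + 1)).hom x))) =
        L.π (m + 1) (s (m + 1) ((PC.d (m + 1) (m + 1 + 1)).hom (g (m + 1) x))) := by
      refine hsI (m + 1) _ _ ?_
      rw [← L.comm, hg, hg, hdr, unitRed_naturality]
    rw [hf, map_add, h1, ← map_add, hs, hg]
  -- retraction
  have hr : ∀ i, ∃ r : PC.X i →ₗ[A] Q.X i, ∀ y, unitRed I (Q.X i) (r y) = snd i (L.π i y) := fun i =>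
    haveI := H.proj _ (hPC i)
    exists_lift (isRed_unitRed I (Q.X i)) ((snd i).comp (L.π i))
  choose r hr using hr
  have hrf : ∀ i, Function.Bijective (r i ∘ₗ (f.f i).hom) := fun i =>
    H.bijective (hQ i) (hQ i) (isRed_unitRed I _) (isRed_unitRed I _) _ fun x => by
      rw [LinearMap.comp_apply, hr, hπf, hsi]
  let r' : ∀ i, PC.X i →ₗ[A] Q.X i := fun i =>
    (LinearEquiv.ofBijective _ (hrf i)).symm.toLinearMap ∘ₗ r i
  have hr' : ∀ i x, r' i ((f.f i).hom x) = x := fun i x =>
    (LinearEquiv.ofBijective _ (hrf i)).symm_apply_apply x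
  -- the quotient complex
  have hmap : ∀ i j, LinearMap.range (f.f i).hom ≤ (LinearMap.range (f.f j).hom).comap (PC.d i j).hom := by
    rintro i j _ ⟨x, rfl⟩
    exact ⟨(Q.d i j).hom x, (ConcreteCategory.congr_hom (f.comm i j) x).symm⟩
  let R : DRing.Cx A :=
    { X := fun i => ModuleCat.of A (PC.X i ⧸ LinearMap.range (f.f i).hom)
      d := fun i j => ModuleCat.ofHom (Submodule.mapQ _ _ (PC.d i j).hom (hmap i j))
      shape := fun i j hij => by ext; simp [PC.shape i j hij]
      d_comp_d' := fun i j k _ _ => by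
        ext x
        change Submodule.Quotient.mk ((PC.d j k).hom ((PC.d i j).hom x)) = _
        rw [← LinearMap.comp_apply, ← ModuleCat.hom_comp, PC.d_comp_d]
        rfl }
  let q : PC ⟶ R :=
    { f := fun i => ModuleCat.ofHom (Submodule.mkQ _)
      comm' := fun i j _ => by ext; rfl }
  have hRPc : ∀ i, Pc (R.X i) := fun i => by
    let m : PC.X i →ₗ[A] Q.X i × R.X i := (r' i).prod (Submodule.mkQ _)
    have hm : Function.Bijective m := by
      refine ⟨(injective_iff_map_eq_zero m).2 fun y hy => ?_, fun ⟨x, z⟩ => ?_⟩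
      · obtain ⟨x, rfl⟩ := (Submodule.Quotient.mk_eq_zero _).1 (congrArg Prod.snd hy)
        have := congrArg Prod.fst hy
        change r' i ((f.f i).hom x) = 0 at this
        rw [hr'] at this
        rw [this, map_zero]
      · obtain ⟨y, rfl⟩ := Submodule.mkQ_surjective _ z
        refine ⟨y + (f.f i).hom (x - r' i y), Prod.ext ?_ ?_⟩
        · change r' i _ = x
          rw [map_add, hr', add_sub_cancel]
        · change Submodule.Quotient.mk _ = Submodule.Quotient.mk y
          rw [Submodule.Quotient.mk_add, (Submodule.Quotient.mk_eq_zero (LinearMap.range (f.f i).hom)).2 (LinearMap.mem_range_self _ _), add_zero]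
    exact H.sub (Q.X i) _ (hQ i) (Pc.prop_of_iso (LinearEquiv.ofBijective m hm).toModuleIso (hPC i))
  let πR : ∀ i, R.X i →ₛₗ[Ideal.Quotient.mk I] E.X (i + 1) := fun i =>
    Submodule.liftQ (LinearMap.range (f.f i).hom) ((fst i).comp (L.π i)) (by
      rintro _ ⟨x, rfl⟩
      rw [LinearMap.mem_ker, LinearMap.comp_apply, hπf, hfi])
  have hπR : ∀ i, IsRed (πR i) := fun i => by
    refine ⟨fun z => ?_, ?_⟩
    · obtain ⟨y, hy⟩ := (L.red i).surj (inl i z)
      refine ⟨Submodule.Quotient.mk y, ?_⟩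
      change fst i (L.π i y) = z
      rw [hy, hfl]
    · ext z
      obtain ⟨y, rfl⟩ := Submodule.mkQ_surjective _ z
      rw [LinearMap.mem_ker]
      change fst i (L.π i y) = 0 ↔ _
      constructor
      · intro h
        obtain ⟨x, hx⟩ := (isRed_unitRed I (Q.X i)).surj (snd i (L.π i y))
        have h0 : L.π i (y - (f.f i).hom x) = 0 := by
          rw [map_sub, hπf, hx, sub_eq_zero]
          conv_lhs => rw [← hid i (L.π i y)]
          rw [h, map_zero, zero_add]
        have h1 := map_mem_smul_top (Submodule.mkQ (LinearMap.range (f.f i).hom))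
          ((L.red i).eq_zero_iff.1 h0)
        rw [map_sub, show (Submodule.mkQ (LinearMap.range (f.f i).hom)) ((f.f i).hom x) = 0 from
          (Submodule.Quotient.mk_eq_zero _).2 ⟨x, rfl⟩, sub_zero] at h1
        exact h1
      · intro h
        refine Submodule.smul_induction_on h
          (p := fun w => πR i w = 0) (fun a ha w _ => ?_) fun v w hv hw => ?_
        · rw [map_smulₛₗ, Ideal.Quotient.eq_zero_iff_mem.2 ha, zero_smul]
        · rw [map_add, hv, hw, add_zero]
  have hcomm : ∀ i w, (E.d (i + 1) (i + 1 + 1)).hom (πR i w) = -πR (i + 1) ((R.d i (i + 1)).hom w) := by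
    intro i w
    obtain ⟨y, rfl⟩ := Submodule.mkQ_surjective _ w
    change (E.d (i + 1) (i + 1 + 1)).hom (fst i (L.π i y)) =
      -fst (i + 1) (L.π (i + 1) ((PC.d i (i + 1)).hom y))
    rw [← L.comm]
    have := ConcreteCategory.congr_hom (mappingCone.d_fst_v ψ i (i + 1) (i + 1 + 1) rfl rfl) (L.π i y)
    refine Eq.trans ?_ (congrArg Neg.neg this).symm
    exact (neg_neg _).symm
  let P := (CategoryTheory.shiftFunctor (DRing.Cx A) (-1 : ℤ)).obj R
  let LP : Lift E P :=
    { π := fun n => ((E.XIsoOfEq (show n + -1 + 1 = n by omega)).hom.hom).comp (πR (n + -1))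
      red := fun n => by
        have e := (E.XIsoOfEq (show n + -1 + 1 = n by omega)).toLinearEquiv
        refine ⟨((E.XIsoOfEq (show n + -1 + 1 = n by omega)).toLinearEquiv.surjective).comp (hπR _).surj, ?_⟩
        ext w
        rw [LinearMap.mem_ker]
        exact ((E.XIsoOfEq (show n + -1 + 1 = n by omega)).toLinearEquiv.map_eq_zero_iff).trans
          (hπR _).eq_zero_iff
      comm := fun n w => by
        obtain ⟨m, rfl⟩ : ∃ m, n = m + 1 := ⟨n - 1, by omega⟩
        have key : ∀ (i i' : ℤ) (h : i + 1 = i') (k k' : ℤ) (hk : i + 1 = k) (hk' : i' + 1 = k') (v : R.X i),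
            (E.d k k').hom ((E.XIsoOfEq hk).hom.hom (πR i v)) =
              -(E.XIsoOfEq hk').hom.hom (πR i' ((R.d i i').hom v)) := by
          intro i i' h k k' hk hk' v
          subst h hk hk'
          exact hcomm i v
        refine (key (m + 1 + -1) (m + 1 + 1 + -1) (by omega) (m + 1) (m + 1 + 1) (by omega) (by omega) w).trans ?_
        change _ = (E.XIsoOfEq _).hom.hom (πR _ (((-1 : ℤ).negOnePow • R.d _ _).hom w))
        rw [Int.negOnePow_neg, Int.negOnePow_one, Units.neg_smul, one_smul, ModuleCat.hom_neg,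
          LinearMap.neg_apply, map_neg, map_neg] }
  let S : ShortComplex (DRing.Cx A) := ShortComplex.mk f q (by
    ext i x
    exact (Submodule.Quotient.mk_eq_zero _).2 ⟨x, rfl⟩)
  have hS : S.ShortExact := by
    refine HomologicalComplex.shortExact_of_degreewise_shortExact _ fun i => ?_
    exact
      { exact := (ShortComplex.moduleCat_exact_iff _).2 fun y hy => (Submodule.Quotient.mk_eq_zero _).1 hy
        mono_f := (ModuleCat.mono_iff_injective _).2 fun x y h =>
          (hr' i x).symm.trans ((congrArg (r' i) h).trans (hr' i y))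
        epi_g := (ModuleCat.epi_iff_surjective _).2 (Submodule.mkQ_surjective _) }
  have hδ : IsIso (DerivedCategory.triangleOfSESδ hS) :=
    (Triangle.isZero₂_iff_isIso₃ _ (DerivedCategory.triangleOfSES_distinguished hS)).1
      ((FinDimDerived.isZero_Q_obj_iff PC).2 hPCa)
  refine ⟨P, max (b - 1) c + 1, LP, fun n hn => ?_, fun n => hRPc _, ⟨?_⟩⟩
  · haveI := ModuleCat.subsingleton_of_isZero (hPCb (n + -1) (by omega))
    haveI : Subsingleton (P.X n) :=
      (Submodule.mkQ_surjective (LinearMap.range (f.f (n + -1)).hom)).subsingleton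
    exact ModuleCat.isZero_of_subsingleton _
  · exact (DerivedCategory.Q.commShiftIso (-1 : ℤ)).app R ≪≫
      (CategoryTheory.shiftFunctor (Dual.D A) (-1 : ℤ)).mapIso
        (@asIso _ _ _ _ (DerivedCategory.triangleOfSESδ hS) hδ) ≪≫
      (shiftFunctorCompIsoId (Dual.D A) (1 : ℤ) (-1) (by omega)).app (DerivedCategory.Q.obj Q) ≪≫ eK

end Groth.Agent.H9Misc.DRingLift
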