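import Mathlib
import Groth.Agent.H9Misc.DRingLiftMain
import Groth.Agent.H9Misc.DRingPCModule

/-! Lifting complexes of stably free modules. -/

set_option linter.style.haveILetI false

universe u

open CategoryTheory CategoryTheory.Limits

attribute [local instance] HasDerivedCategory.standard

namespace Groth.Agent.H9Misc.DRingLift

variable {A : Type u} [CommRing A] {I : Ideal A}

/-- The kernel of a lifted surjection reduces to the kernel. -/
lemma exists_red_ker {X Y : Type u} [AddCommGroup X] [Module A X] [AddCommGroup Y] [Module A Y]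
    [Module.Projective A Y] {M N : Type u} [AddCommGroup M] [Module (A ⧸ I) M] [AddCommGroup N]
    [Module (A ⧸ I) N] {π : X →ₛₗ[Ideal.Quotient.mk I] M} {π' : Y →ₛₗ[Ideal.Quotient.mk I] N}
    (hπ : IsRed π) (hπ' : IsRed π') (f : X →ₗ[A] Y) (hf : Function.Surjective f) (g : M →ₗ[A ⧸ I] N)
    (hfg : ∀ x, π' (f x) = g (π x)) :
    ∃ πK : LinearMap.ker f →ₛₗ[Ideal.Quotient.mk I] LinearMap.ker g, IsRed πK := by
  have hmem : ∀ x : LinearMap.ker f, g (π x) = 0 := fun x => by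
    rw [← hfg, show f (x : X) = 0 from x.2, map_zero]
  let πK : LinearMap.ker f →ₛₗ[Ideal.Quotient.mk I] LinearMap.ker g :=
    { toFun := fun x => ⟨π x, hmem x⟩
      map_add' := fun x y => Subtype.ext (map_add π _ _)
      map_smul' := fun a x => Subtype.ext (map_smulₛₗ π a _) }
  obtain ⟨s, r, -, hs, hr⟩ := exists_splitting (X := ModuleCat.of A X) (Y := ModuleCat.of A Y) f hf
  refine ⟨πK, ⟨fun ⟨z, hz⟩ => ?_, ?_⟩⟩
  · obtain ⟨x, hx⟩ := hπ.surj z
    refine ⟨r x, Subtype.ext ?_⟩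
    change π (r x : X) = z
    rw [hr, map_sub, hx, sub_eq_self]
    have h0 : π' (f x) = 0 := by rw [hfg, hx]; exact hz
    exact hπ.eq_zero_iff.2 (map_mem_smul_top s (hπ'.eq_zero_iff.1 h0))
  · ext x
    rw [LinearMap.mem_ker]
    refine ⟨fun h => mem_smul_ker (X := ModuleCat.of A X) (Y := ModuleCat.of A Y) f hf
      (hπ.eq_zero_iff.1 (congrArg Subtype.val h)), fun h => ?_⟩
    exact Subtype.ext (hπ.eq_zero_iff.2 (map_mem_smul_top (LinearMap.ker f).subtype h))

variable (I) in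
/-- Coordinatewise reduction. -/
noncomputable def piRed (ι : Type) : (ι → A) →ₛₗ[Ideal.Quotient.mk I] (ι → A ⧸ I) where
  toFun x i := Ideal.Quotient.mk I (x i)
  map_add' x y := by ext i; simp
  map_smul' a x := by ext i; simp

lemma isRed_piRed (ι : Type) [Fintype ι] : IsRed (piRed I ι) where
  surj z := ⟨fun i => Function.surjInv Ideal.Quotient.mk_surjective (z i),
    funext fun i => Function.surjInv_eq Ideal.Quotient.mk_surjective (z i)⟩
  ker := by
    classical
    ext x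
    constructor
    · intro hx
      rw [show x = ∑ i, x i • (Pi.single i (1 : A) : ι → A) from pi_eq_sum_univ' x]
      exact Submodule.sum_mem _ fun i _ => Submodule.smul_mem_smul
        (Ideal.Quotient.eq_zero_iff_mem.1 (congrFun hx i)) Submodule.mem_top
    · intro hx
      refine LinearMap.mem_ker.2 (funext fun i => Ideal.Quotient.eq_zero_iff_mem.2 ?_)
      have := map_mem_smul_top (LinearMap.proj (R := A) (φ := fun _ : ι => A) i) hx
      rwa [smul_eq_mul, Ideal.mul_top] at this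

lemma IsRed.compEquiv {X : Type u} [AddCommGroup X] [Module A X] {M N : Type u} [AddCommGroup M]
    [Module (A ⧸ I) M] [AddCommGroup N] [Module (A ⧸ I) N] {π : X →ₛₗ[Ideal.Quotient.mk I] M}
    (hπ : IsRed π) (e : M ≃ₗ[A ⧸ I] N) : IsRed (e.toLinearMap.comp π) where
  surj := e.surjective.comp hπ.surj
  ker := by
    rw [← hπ.ker]
    ext x
    exact e.map_eq_zero_iff

lemma IsRed.equivDom {X X' : Type u} [AddCommGroup X] [Module A X] [AddCommGroup X'] [Module A X']
    {M : Type u} [AddCommGroup M] [Module (A ⧸ I) M] {π : X →ₛₗ[Ideal.Quotient.mk I] M}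
    (hπ : IsRed π) (e : X' ≃ₗ[A] X) : IsRed (π.comp e.toLinearMap) where
  surj := hπ.surj.comp e.surjective
  ker := by
    ext x
    rw [LinearMap.mem_ker]
    refine ⟨fun h => ?_, fun h => hπ.eq_zero_iff.2 (map_mem_smul_top e.toLinearMap h)⟩
    simpa using map_mem_smul_top e.symm.toLinearMap (hπ.eq_zero_iff.1 h)

lemma exists_free_red (M : Type u) [AddCommGroup M] [Module (A ⧸ I) M] [Module.Finite (A ⧸ I) M]
    [Module.Free (A ⧸ I) M] :
    ∃ (n : ℕ) (π : (ULift.{u} (Fin n) → A) →ₛₗ[Ideal.Quotient.mk I] M), IsRed π := by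
  obtain ⟨⟨n, b⟩⟩ : Nonempty (Σ n, Module.Basis (Fin n) (A ⧸ I) M) := by
    haveI := Fintype.ofFinite (Module.Free.ChooseBasisIndex (A ⧸ I) M)
    exact ⟨⟨_, (Module.Free.chooseBasis (A ⧸ I) M).reindex (Fintype.equivFin _)⟩⟩
  exact ⟨n, _, ((isRed_piRed (Fin n)).compEquiv b.equivFun.symm).equivDom
    (LinearEquiv.funCongrLeft A A Equiv.ulift.symm)⟩

variable (A) in
/-- Finite stably free modules. -/
def stablyFreeClass : ObjectProperty (ModuleCat.{u} A) := fun X =>
  Module.Finite A X ∧ Module.IsStablyFree A X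

instance : (stablyFreeClass A).IsClosedUnderIsomorphisms :=
  ⟨fun {X Y} e ⟨h1, h2⟩ => ⟨Module.Finite.equiv e.toLinearEquiv, h2.equiv e.toLinearEquiv⟩⟩

lemma cls_stablyFree (hI : I ≤ Ideal.jacobson (⊥ : Ideal A)) : Cls I (stablyFreeClass A) where
  proj X hX := haveI := hX.2; inferInstance
  sub X Y hX hXY := by
    obtain ⟨hXf, hXs⟩ := hX
    obtain ⟨hf, hs⟩ := hXY
    haveI : Module.Finite A Y := Module.Finite.of_surjective (LinearMap.snd A X Y) fun y => ⟨(0, y), rfl⟩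
    obtain ⟨N, _, _, hN1, hN2, hN3⟩ := Module.IsStablyFree.exist_free_prod A X
    obtain ⟨N', _, _, hN1', hN2', hN3'⟩ := Module.IsStablyFree.exist_free_prod A (↥X × ↥Y)
    refine ⟨inferInstance, ?_⟩
    haveI : Module.Free A ((↥X × ↥Y) × N') := hN3'
    haveI : Module.Free A (((↥X × N) × N') × Y) := Module.Free.of_equiv
      (LinearEquiv.ofBijective
        (show (((↥X × ↥Y) × N') × N) →ₗ[A] (((↥X × N) × N') × Y) from
          { toFun := fun z => (((z.1.1.1, z.2), z.1.2), z.1.1.2)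
            map_add' := fun _ _ => rfl
            map_smul' := fun _ _ => rfl })
        ⟨fun z w h => by simp only [LinearMap.coe_mk, AddHom.coe_mk, Prod.ext_iff] at h ⊢; tauto,
          fun z => ⟨(((z.1.1.1, z.2), z.1.2), z.1.1.2), rfl⟩⟩)
    exact Module.IsStablyFree.of_free_prod' A Y ((↥X × N) × N')
  nak X Y f _ hY h := by
    haveI := hY.1
    refine LinearMap.range_eq_top.1 (top_le_iff.1 ?_)
    exact Submodule.le_of_le_smul_of_le_jacobson_bot Module.Finite.fg_top hI h.ge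

lemma stablyFree_sum (X Y : ModuleCat.{u} A) (hX : stablyFreeClass A X) (hY : stablyFreeClass A Y) :
    stablyFreeClass A (ModuleCat.of A (X × Y)) := by
  obtain ⟨hXf, hXs⟩ := hX
  obtain ⟨hYf, hYs⟩ := hY
  obtain ⟨N, _, _, hN1, hN2, hN3⟩ := Module.IsStablyFree.exist_free_prod A X
  obtain ⟨N', _, _, hN1', hN2', hN3'⟩ := Module.IsStablyFree.exist_free_prod A Y
  refine ⟨inferInstanceAs (Module.Finite A (↥X × ↥Y)), ?_⟩
  haveI : Module.Free A ((↥X × ↥Y) × (N × N')) :=
    Module.Free.of_equiv (LinearEquiv.prodProdProdComm A X N Y N')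
  exact Module.IsStablyFree.of_free_prod A (↥X × ↥Y) (N × N')

lemma exists_stablyFree_red (hI : I ≤ Ideal.jacobson (⊥ : Ideal A)) (M : Type u) [AddCommGroup M]
    [Module (A ⧸ I) M] [Module.Finite (A ⧸ I) M] [Module.IsStablyFree (A ⧸ I) M] :
    ∃ (X : ModuleCat.{u} A) (π : X →ₛₗ[Ideal.Quotient.mk I] M), stablyFreeClass A X ∧ IsRed π := by
  obtain ⟨N, _, _, hN1, hN2, hN3⟩ := Module.IsStablyFree.exist_free_prod (A ⧸ I) M
  obtain ⟨m, π, hπ⟩ := exists_free_red (I := I) (M × N)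
  obtain ⟨k, π', hπ'⟩ := exists_free_red (I := I) N
  obtain ⟨f, hf⟩ := exists_lift hπ' ((LinearMap.snd (A ⧸ I) M N).comp π)
  have H := cls_stablyFree hI
  have hF : ∀ j : ℕ, stablyFreeClass A (ModuleCat.of A (ULift.{u} (Fin j) → A)) := fun j =>
    ⟨inferInstanceAs (Module.Finite A (ULift.{u} (Fin j) → A)),
      inferInstanceAs (Module.IsStablyFree A (ULift.{u} (Fin j) → A))⟩
  have hsur : Function.Surjective f :=
    H.surjective (hF m) (hF k) hπ hπ' f (LinearMap.snd (A ⧸ I) M N) (fun n => ⟨(0, n), rfl⟩) hf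
  obtain ⟨πK, hK⟩ := exists_red_ker hπ hπ' f hsur (LinearMap.snd (A ⧸ I) M N) hf
  let e : LinearMap.ker (LinearMap.snd (A ⧸ I) M N) ≃ₗ[A ⧸ I] M :=
    LinearEquiv.ofBijective ((LinearMap.fst (A ⧸ I) M N).comp (LinearMap.ker _).subtype)
      ⟨fun ⟨⟨a, b⟩, (ha : b = 0)⟩ ⟨⟨c, d⟩, (hc : d = 0)⟩ h => by
        subst ha hc; exact Subtype.ext (Prod.ext h rfl), fun x => ⟨⟨(x, 0), rfl⟩, rfl⟩⟩
  exact ⟨ModuleCat.of A (LinearMap.ker f), _, H.pc_ker (hF m) (hF k) f hsur, hK.compEquiv e⟩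

/-- Lifting complexes of stably free modules. -/
theorem exists_stablyFree_lift (hI : I ≤ Ideal.jacobson (⊥ : Ideal A))
    [DRing.HasLBaseChange (Ideal.Quotient.mk I)] (K : Dual.D A) (hK : DRing.IsPseudoCoherent' A K)
    (E : DRing.Cx (A ⧸ I)) (b : ℤ) (hEb : DRing.VanishesAbove E b)
    (hEs : ∀ i : ℤ, Module.Finite (A ⧸ I) (E.X i) ∧ Module.IsStablyFree (A ⧸ I) (E.X i))
    (eE : DRing.toD E ≅ (DRing.LBaseChange (Ideal.Quotient.mk I)).obj K) :
    ∃ (P : DRing.Cx A) (b' : ℤ) (_ : Lift E P), DRing.VanishesAbove P b' ∧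
      (∀ i, stablyFreeClass A (P.X i)) ∧ Nonempty (DRing.toD P ≅ K) ∧
      ∀ i, Module.Free (A ⧸ I) (E.X i) → Module.Free A (P.X i) := by
  obtain ⟨Q, c, hQc, hQ, ⟨eK⟩⟩ := hK
  have H := cls_stablyFree (A := A) hI
  obtain ⟨P, b', L, hPb, hP, hPK⟩ := exists_lift_complex H stablyFree_sum K Q c hQc
    (fun i => by obtain ⟨h1, h2⟩ := hQ i; exact ⟨h1, inferInstance⟩) eK E b hEb (fun i => by
      obtain ⟨h1, h2⟩ := hEs i
      exact exists_stablyFree_red hI (E.X i)) eE
  refine ⟨P, b', L, hPb, hP, hPK, fun i hfree => ?_⟩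
  haveI := (hEs i).1
  obtain ⟨n, π, hπ⟩ := exists_free_red (I := I) (E.X i)
  obtain ⟨f, hf⟩ := exists_lift (L.red i) π
  have hb : Function.Bijective f :=
    H.bijective (X := ModuleCat.of A (ULift.{u} (Fin n) → A))
      ⟨inferInstanceAs (Module.Finite A (ULift.{u} (Fin n) → A)),
        inferInstanceAs (Module.IsStablyFree A (ULift.{u} (Fin n) → A))⟩ (hP i) hπ (L.red i) f hf
  exact Module.Free.of_equiv (LinearEquiv.ofBijective f hb)

end Groth.Agent.H9Misc.DRingLift
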