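import Mathlib
import Groth.Agent.H9Misc.DRingLiftStably
import Groth.Agent.Hensel.ProjectiveLift

/-! Lifting complexes of finite projective modules along henselian pairs. -/

set_option linter.style.haveILetI false

universe u

open CategoryTheory CategoryTheory.Limits

attribute [local instance] HasDerivedCategory.standard

namespace Groth.Agent.H9Misc.DRingLift

variable {A : Type u} [CommRing A] {I : Ideal A}

variable (A) in
/-- Finite projective modules. -/
def finProjClass : ObjectProperty (ModuleCat.{u} A) := fun X =>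
  Module.Finite A X ∧ Module.Projective A X

instance : (finProjClass A).IsClosedUnderIsomorphisms :=
  ⟨fun {X Y} e ⟨h1, h2⟩ => ⟨Module.Finite.equiv e.toLinearEquiv, Module.Projective.of_equiv e.toLinearEquiv⟩⟩

lemma cls_finProj (hI : I ≤ Ideal.jacobson (⊥ : Ideal A)) : Cls I (finProjClass A) where
  proj X hX := hX.2
  sub X Y _ hXY := by
    obtain ⟨hf, hp⟩ := hXY
    haveI : Module.Finite A (↥X × ↥Y) := hf
    haveI : Module.Projective A (↥X × ↥Y) := hp
    exact ⟨Module.Finite.of_surjective (LinearMap.snd A X Y) fun y => ⟨(0, y), rfl⟩,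
      Module.Projective.of_split (LinearMap.inr A X Y) (LinearMap.snd A X Y) (LinearMap.ext fun _ => rfl)⟩
  nak X Y f _ hY h := by
    haveI := hY.1
    refine LinearMap.range_eq_top.1 (top_le_iff.1 ?_)
    exact Submodule.le_of_le_smul_of_le_jacobson_bot Module.Finite.fg_top hI h.ge

lemma finProj_sum (X Y : ModuleCat.{u} A) (hX : finProjClass A X) (hY : finProjClass A Y) :
    finProjClass A (ModuleCat.of A (X × Y)) := by
  haveI := hX.1
  haveI := hX.2
  haveI := hY.1
  haveI := hY.2
  exact ⟨inferInstanceAs (Module.Finite A (↥X × ↥Y)), inferInstanceAs (Module.Projective A (↥X × ↥Y))⟩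

/-- Lifting complexes of finite projective modules along a henselian pair. -/
theorem exists_finProj_lift [HenselianRing A I]
    [DRing.HasLBaseChange (Ideal.Quotient.mk I)] (K : Dual.D A) (hK : DRing.IsPseudoCoherent' A K)
    (E : DRing.Cx (A ⧸ I)) (b : ℤ) (hEb : DRing.VanishesAbove E b) (hEp : DRing.TermwiseFiniteProjective E)
    (eE : DRing.toD E ≅ (DRing.LBaseChange (Ideal.Quotient.mk I)).obj K) :
    ∃ (P : DRing.Cx A) (b' : ℤ) (_ : Lift E P), DRing.VanishesAbove P b' ∧
      DRing.TermwiseFiniteProjective P ∧ Nonempty (DRing.toD P ≅ K) ∧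
      ∀ i, Module.Free (A ⧸ I) (E.X i) → Module.Free A (P.X i) := by
  obtain ⟨Q, c, hQc, hQ, ⟨eK⟩⟩ := hK
  have hI : I ≤ Ideal.jacobson (⊥ : Ideal A) := HenselianRing.jac
  have H := cls_finProj (A := A) hI
  obtain ⟨P, b', L, hPb, hP, hPK⟩ := exists_lift_complex H finProj_sum K Q c hQc
    (fun i => ⟨(hQ i).1, haveI := (hQ i).2; Module.Projective.of_free⟩) eK E b hEb (fun i => by
      haveI := (hEp i).1
      haveI := (hEp i).2
      obtain ⟨X, _, _, hXf, hXp, ⟨e⟩⟩ := Hensel.exists_projective_lift I (E.X i)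
      exact ⟨ModuleCat.of A X, redOfEquiv e, ⟨hXf, hXp⟩, isRed_ofEquiv e⟩) eE
  refine ⟨P, b', L, hPb, hP, hPK, fun i hfree => ?_⟩
  haveI := (hEp i).1
  obtain ⟨n, π, hπ⟩ := exists_free_red (I := I) (E.X i)
  obtain ⟨f, hf⟩ := exists_lift (L.red i) π
  have hb : Function.Bijective f :=
    H.bijective (X := ModuleCat.of A (ULift.{u} (Fin n) → A))
      ⟨inferInstanceAs (Module.Finite A (ULift.{u} (Fin n) → A)),
        inferInstanceAs (Module.Projective A (ULift.{u} (Fin n) → A))⟩ (hP i) hπ (L.red i) f hf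
  exact Module.Free.of_equiv (LinearEquiv.ofBijective f hb)

end Groth.Agent.H9Misc.DRingLift
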