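import Groth.Agent.H9Misc.DRingNilp
import Groth.Agent.H9Misc.DRingRestrict

/-! Pseudo-coherence along nilpotent thickenings. -/

set_option linter.style.haveILetI false

universe u

open CategoryTheory CategoryTheory.Category CategoryTheory.Limits MonoidalCategory
open CategoryTheory.Pretriangulated

attribute [local instance] HasDerivedCategory.standard

namespace Groth.Agent.H9Misc.DRingNilp

open Groth.Agent.KFlatLib DRingLTensor DRingTor DRingRestrict

variable {A B : Type u} [CommRing A] [CommRing B]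

/-- Nakayama for a nilpotent kernel. -/
lemma finite_of_extendScalars (φ : A →+* B) (hφ : Function.Surjective φ) (hnil : IsNilpotent (RingHom.ker φ))
    (M : ModuleCat.{u} A) (h : Module.Finite B ((ModuleCat.extendScalars.{u, u, u} φ).obj M)) :
    Module.Finite A M := by
  letI := φ.toAlgebra
  haveI : Module.Finite B (TensorProduct A B M) := h
  haveI : Module.Finite A B := Module.Finite.of_surjective (Algebra.linearMap A B) hφ
  haveI : Module.Finite A (TensorProduct A B M) := Module.Finite.trans B _
  let I := RingHom.ker φ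
  let p : Submodule A M := I • ⊤
  let mk : M →ₗ[A] TensorProduct A B M := TensorProduct.mk A B M 1
  have hs : Function.Surjective (algebraMap A B) := hφ
  have hmk : Function.Surjective mk := fun w => by
    induction w using TensorProduct.induction_on with
    | zero => exact ⟨0, map_zero _⟩
    | tmul b x =>
      obtain ⟨a, rfl⟩ := hs b
      exact ⟨a • x, by
        show (1 : B) ⊗ₜ[A] (a • x) = _
        rw [TensorProduct.tmul_smul, TensorProduct.smul_tmul', Algebra.smul_def, mul_one]⟩
    | add w₁ w₂ h₁ h₂ =>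
      obtain ⟨x₁, rfl⟩ := h₁
      obtain ⟨x₂, rfl⟩ := h₂
      exact ⟨x₁ + x₂, map_add _ _ _⟩
  have hker : LinearMap.ker mk ≤ p := fun x hx => by
    haveI := isIso_unit φ hφ (ModuleCat.of A (M ⧸ p)) fun r hr y => by
      obtain ⟨z, rfl⟩ := Submodule.mkQ_surjective p y
      exact (Submodule.Quotient.mk_eq_zero p).2 (Submodule.smul_mem_smul hr Submodule.mem_top)
    have hinj := ((ConcreteCategory.isIso_iff_bijective
      ((ModuleCat.extendRestrictScalarsAdj φ).unit.app (ModuleCat.of A (M ⧸ p)))).1 inferInstance).1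
    refine (Submodule.Quotient.mk_eq_zero p).1 (hinj (Eq.trans ?_ (map_zero _).symm))
    show (1 : B) ⊗ₜ[A] (p.mkQ x) = (0 : TensorProduct A B (M ⧸ p))
    rw [← LinearMap.lTensor_tmul B p.mkQ (1 : B) x, show (1 : B) ⊗ₜ[A] x = 0 from hx, map_zero]
  obtain ⟨n, π, hπ⟩ := Module.Finite.exists_fin' A (TensorProduct A B M)
  obtain ⟨l, hl⟩ := Module.projective_lifting_property mk π hmk
  let N := LinearMap.range l
  have hN : ∀ k : ℕ, N ⊔ I ^ k • (⊤ : Submodule A M) = ⊤ := by
    have h1 : N ⊔ p = ⊤ := eq_top_iff.2 fun x _ => by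
      obtain ⟨c, hc⟩ := hπ (mk x)
      have : x - l c ∈ p := hker (by
        rw [LinearMap.mem_ker, map_sub, show mk (l c) = π c from LinearMap.congr_fun hl c, hc, sub_self])
      exact Submodule.mem_sup.2 ⟨l c, ⟨c, rfl⟩, x - l c, this, add_sub_cancel _ _⟩
    intro k
    induction k with
    | zero => rw [pow_zero, Ideal.one_eq_top, Submodule.top_smul, sup_top_eq]
    | succ k ih =>
      refine top_le_iff.1 (ih.ge.trans (sup_le le_sup_left ?_))
      calc I ^ k • (⊤ : Submodule A M) = I ^ k • (N ⊔ p) := by rw [h1]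
        _ = I ^ k • N ⊔ I ^ (k + 1) • ⊤ := by rw [Submodule.smul_sup, pow_succ, Submodule.mul_smul]
        _ ≤ N ⊔ I ^ (k + 1) • ⊤ := sup_le_sup_right Submodule.smul_le_right _
  obtain ⟨k, hk⟩ := hnil
  have hk' : N ⊔ I ^ k • (⊤ : Submodule A M) = ⊤ := hN k
  rw [show I ^ k = (⊥ : Ideal A) from hk, Submodule.bot_smul, sup_bot_eq] at hk'
  exact Module.Finite.of_surjective l (LinearMap.range_eq_top.1 hk')

lemma isZero_homology_of_lbase (φ : A →+* B) (hφ : Function.Surjective φ) (hnil : IsNilpotent (RingHom.ker φ))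
    {P : CochainComplex (ModuleCat.{u} A) ℤ} (hP : IsKF P) (hflat : ∀ n, Module.Flat A (P.X n)) (b : ℤ)
    (h : ∀ i, b < i → IsZero (((extC' φ).obj P).homology i)) (i : ℤ) (hi : b < i) : IsZero (P.homology i) := by
  obtain ⟨k, hk⟩ := hnil
  have h1 := exactAt_of_pow φ hφ hflat i (fun N => (HomologicalComplex.exactAt_iff_isZero_homology _ i).2
    (DRingRightExact.isZero_homology_tensC N (KFlatLib.kFlat_extendScalars φ hP) b h i hi)) k
    (𝟙_ (ModuleCat.{u} A)) fun r hr x => by
      have hr' : r = 0 := by rw [hk] at hr; exact hr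
      rw [hr', zero_smul]
  rw [← HomologicalComplex.exactAt_iff_isZero_homology]
  exact h1.of_iso (HomologicalComplex.Hom.isoOfComponents (fun m => ρ_ (P.X m))
    (fun j k _ => (MonoidalCategory.rightUnitor_naturality (P.d j k)).symm))

lemma pc_of_lbase_aux (φ : A →+* B) (hφ : Function.Surjective φ) (hnil : IsNilpotent (RingHom.ker φ)) :
    ∀ (k : ℕ) (m b : ℤ), b + 1 ≤ m + k → ∀ P : CochainComplex (ModuleCat.{u} A) ℤ, IsKF P →
    (∀ i, b < i → IsZero (P.X i)) →
    DRing.IsPseudoCoherent B m (DerivedCategory.Q.obj ((extC' φ).obj P)) →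
    DRing.IsPseudoCoherent A m (DerivedCategory.Q.obj P) := by
  intro k
  induction k with
  | zero =>
    intro m b hb P _ hz _
    exact DRingPC.of_vanish _ fun i hi => (ShortComplex.isZero_homology_of_isZero_X₂ _ (hz i (by omega))).of_iso
      ((DerivedCategory.homologyFunctorFactors (ModuleCat.{u} A) i).app P)
  | succ k ih =>
    intro m b hb P hP hz hpc
    rcases lt_or_ge b m with hbm | hbm
    · exact DRingPC.of_vanish _ fun i hi => (ShortComplex.isZero_homology_of_isZero_X₂ _ (hz i (by omega))).of_iso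
        ((DerivedCategory.homologyFunctorFactors (ModuleCat.{u} A) i).app P)
    let F := ModuleCat.extendScalars.{u, u, u} φ
    let P' := (extC' φ).obj P
    have hz' : ∀ i, b < i → IsZero (P'.X i) := fun i hi => F.map_isZero (hz i hi)
    haveI hιP : IsIso (P.homologyι b) :=
      HomologicalComplex.isIso_homologyι P b (b + 1) (by simp) ((hz (b + 1) (by omega)).eq_of_tgt _ _)
    have hιP' : IsIso (P'.homologyι b) :=
      HomologicalComplex.isIso_homologyι P' b (b + 1) (by simp) ((hz' (b + 1) (by omega)).eq_of_tgt _ _)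
    have hfin : Module.Finite A (P.opcycles b) := by
      refine finite_of_extendScalars φ hφ hnil _ ?_
      have h1 := (Groth.Agent.S2068.result _ b (DRingPC.mono hbm hpc)).1 fun i hi =>
        (ShortComplex.isZero_homology_of_isZero_X₂ _ (hz' i hi)).of_iso
          ((DerivedCategory.homologyFunctorFactors (ModuleCat.{u} B) i).app P')
      haveI : Module.Finite B ((DerivedCategory.Q ⋙ DerivedCategory.homologyFunctor (ModuleCat.{u} B) b).obj P') := h1
      haveI : Module.Finite B (P'.opcycles b) := Module.Finite.equiv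
        ((DerivedCategory.homologyFunctorFactors (ModuleCat.{u} B) b).app P' ≪≫ @asIso _ _ _ _ (P'.homologyι b) hιP').toLinearEquiv
      haveI : F.IsLeftAdjoint := (ModuleCat.extendRestrictScalarsAdj φ).isLeftAdjoint
      let q : P'.opcycles b ⟶ F.obj (P.opcycles b) := P'.descOpcycles (F.map (P.pOpcycles b)) (b - 1) (by simp) (by
        show F.map (P.d (b - 1) b) ≫ F.map (P.pOpcycles b) = 0
        rw [← F.map_comp, P.d_pOpcycles, F.map_zero])
      have hFp : Epi (F.map (P.pOpcycles b)) := F.map_epi (P.pOpcycles b)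
      haveI : Epi (P'.pOpcycles b ≫ q) := by
        rw [HomologicalComplex.p_descOpcycles]
        exact hFp
      haveI : Epi q := epi_of_epi (P'.pOpcycles b) q
      exact Module.Finite.of_surjective q.hom ((ModuleCat.epi_iff_surjective q).1 inferInstance)
    obtain ⟨n, π, hπ⟩ := Module.Finite.exists_fin' A (P.opcycles b)
    obtain ⟨l, hl⟩ := Module.projective_lifting_property (P.pOpcycles b).hom π
      ((ModuleCat.epi_iff_surjective _).1 inferInstance)
    let N : ModuleCat.{u} A := ModuleCat.of A (Fin n → A)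
    let ι : (sg b).obj N ⟶ P := HomologicalComplex.mkHomFromSingle (ModuleCat.ofHom l)
      fun i (hi : b + 1 = i) => (hz i (by omega)).eq_of_tgt _ _
    haveI hepi : Epi (HomologicalComplex.homologyMap ι b) := by
      haveI : IsIso (((sg b).obj N).homologyι b) := HomologicalComplex.isIso_homologyι _ b (b + 1) (by simp)
        ((HomologicalComplex.isZero_single_obj_X (ComplexShape.up ℤ) b N (b + 1) (by omega)).eq_of_tgt _ _)
      haveI : Epi (((sg b).obj N).pOpcycles b ≫ HomologicalComplex.opcyclesMap ι b) := by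
        rw [HomologicalComplex.p_opcyclesMap, show ι.f b = (HomologicalComplex.singleObjXSelf _ b N).hom ≫
          ModuleCat.ofHom l by simp [ι], assoc]
        haveI : Epi (ModuleCat.ofHom l ≫ P.pOpcycles b) := by
          rw [show ModuleCat.ofHom l ≫ P.pOpcycles b = ModuleCat.ofHom π from ModuleCat.hom_ext hl]
          exact (ModuleCat.epi_iff_surjective _).2 hπ
        infer_instance
      haveI : Epi (HomologicalComplex.opcyclesMap ι b) := epi_of_epi (((sg b).obj N).pOpcycles b) _
      haveI : Epi (HomologicalComplex.homologyMap ι b ≫ P.homologyι b) := by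
        rw [HomologicalComplex.homologyι_naturality]
        infer_instance
      rw [show HomologicalComplex.homologyMap ι b =
        (HomologicalComplex.homologyMap ι b ≫ P.homologyι b) ≫ inv (P.homologyι b) by rw [assoc, IsIso.hom_inv_id, comp_id]]
      infer_instance
    let C := CochainComplex.mappingCone ι
    let T := DerivedCategory.Q.mapTriangle.obj (CochainComplex.mappingCone.triangle ι)
    have hT : T ∈ distinguishedTriangles := DerivedCategory.mappingCone_triangle_distinguished ι
    have hfree : DRing.TermwiseFiniteFree ((sg b).obj N) := fun i => by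
      rcases eq_or_ne i b with rfl | hi
      · let f := (HomologicalComplex.singleObjXSelf (ComplexShape.up ℤ) i N).toLinearEquiv
        exact ⟨Module.Finite.equiv f.symm, Module.Free.of_equiv f.symm⟩
      · haveI := ModuleCat.subsingleton_of_isZero (HomologicalComplex.isZero_single_obj_X (ComplexShape.up ℤ) b N i hi)
        exact ⟨inferInstance, inferInstance⟩
    have hNz : DRing.VanishesAbove ((sg b).obj N) b := fun i hi =>
      HomologicalComplex.isZero_single_obj_X _ _ _ _ (by omega)
    have hNpc : DRing.IsPseudoCoherent' A (DerivedCategory.Q.obj ((sg b).obj N)) :=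
      ⟨_, b, hNz, hfree, ⟨Iso.refl _⟩⟩
    have hNKF : IsKF ((sg b).obj N) :=
      DRingTor.isKF_of_flat (fun i => haveI := (hfree i).2; inferInstance) hNz
    have hCKF : IsKF C := kFlat_cone _ hNKF hP
    have hCz : ∀ i, b < i → IsZero (C.X i) := fun i hi =>
      (CochainComplex.mappingCone.isZero_X_iff ι i).2 ⟨hNz (i + 1) (by omega), hz i hi⟩
    have hCH : ∀ i, b - 1 < i → IsZero (C.homology i) := fun i hi => by
      rcases lt_or_ge b i with hib | hib
      · exact ShortComplex.isZero_homology_of_isZero_X₂ _ (hCz i hib)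
      obtain rfl : i = b := by omega
      refine IsZero.of_iso ?_ ((DerivedCategory.homologyFunctorFactors (ModuleCat.{u} A) i).app C).symm
      refine (DerivedCategory.HomologySequence.exact₃ T hT i (i + 1) rfl).isZero_X₂ ?_
        (((ShortComplex.isZero_homology_of_isZero_X₂ _ (hNz (i + 1) (by omega))).of_iso
          ((DerivedCategory.homologyFunctorFactors (ModuleCat.{u} A) (i + 1)).app _)).eq_of_tgt _ _)
      refine (DerivedCategory.HomologySequence.epi_homologyMap_mor₁_iff T hT i).1 ?_
      exact ((MorphismProperty.epimorphisms (ModuleCat.{u} A)).arrow_mk_iso_iff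
        (((Functor.mapArrowFunctor _ _).mapIso (DerivedCategory.homologyFunctorFactors (ModuleCat.{u} A) i)).app
          (Arrow.mk ι))).2 hepi
    obtain ⟨R, ψ, hψ, hRKF, hRz⟩ := DRingRightExact.exists_bounded_rep C (b - 1) hCH
    haveI := hψ
    have hQψ : IsIso (DerivedCategory.Q.map ψ) := (DerivedCategory.isIso_Q_map_iff_quasiIso _ _).2 inferInstance
    haveI : QuasiIso ((extC' φ).map ψ) := quasiIso_extendScalars φ ψ hRKF hCKF
    haveI : IsIso (DerivedCategory.Q.map ((extC' φ).map ψ)) :=
      (DerivedCategory.isIso_Q_map_iff_quasiIso _ _).2 inferInstance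
    let ι' := (extC' φ).map ι
    have hT' := DerivedCategory.mappingCone_triangle_distinguished ι'
    have hN'pc : DRing.IsPseudoCoherent' B (DerivedCategory.Q.obj ((extC' φ).obj ((sg b).obj N))) :=
      ⟨_, b, fun i hi => F.map_isZero (hNz i hi),
        fun i => finFree_extendScalars φ _ (hfree i).1 (hfree i).2, ⟨Iso.refl _⟩⟩
    have hC' : DRing.IsPseudoCoherent B m (DerivedCategory.Q.obj (CochainComplex.mappingCone ι')) :=
      (Groth.Agent.S2067.result _ hT' m).1 ((DRingPC.pc'_iff _).1 hN'pc _) hpc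
    have hR : DRing.IsPseudoCoherent A m (DerivedCategory.Q.obj R) := ih m (b - 1) (by omega) R hRKF hRz
      (DRingPC.of_iso ((DerivedCategory.Q.mapIso
        (CochainComplex.mappingCone.mapHomologicalComplexIso ι F)).symm ≪≫
          (asIso (DerivedCategory.Q.map ((extC' φ).map ψ))).symm) hC')
    exact (Groth.Agent.S2067.result T hT m).2.1 ((DRingPC.pc'_iff _).1 hNpc m)
      (DRingPC.of_iso (@asIso _ _ _ _ (DerivedCategory.Q.map ψ) hQψ) hR)

/-- Pseudo-coherence is insensitive to nilpotent thickenings. -/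
theorem pc'_lbase_iff (φ : A →+* B) (hφ : Function.Surjective φ) (hnil : IsNilpotent (RingHom.ker φ))
    [DRing.HasLBaseChange φ] (K : Dual.D A) :
    DRing.IsPseudoCoherent' B ((DRing.LBaseChange φ).obj K) ↔ DRing.IsPseudoCoherent' A K := by
  constructor
  · intro h
    obtain ⟨P, hP, hflat, ⟨e⟩⟩ := exists_rep K
    obtain ⟨e'⟩ := DRingLBase.nonempty_lbase_iso φ hP
    have h' : DRing.IsPseudoCoherent' B (DerivedCategory.Q.obj ((extC' φ).obj P)) :=
      DRingPC.of_iso' ((DRing.LBaseChange φ).mapIso e.symm ≪≫ e') h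
    obtain ⟨E, b, hEz, hEf, ⟨eE⟩⟩ := h'
    have hH : ∀ i, b < i → IsZero (((extC' φ).obj P).homology i) := fun i hi => by
      obtain ⟨eH⟩ := hd_iso (Iso.refl (toD'.obj ((extC' φ).obj P))) i
      obtain ⟨eH'⟩ := hd_iso eE i
      exact (ShortComplex.isZero_homology_of_isZero_X₂ _ (hEz i hi)).of_iso (eH.symm ≪≫ eH')
    have hz := isZero_homology_of_lbase φ hφ hnil hP hflat b hH
    obtain ⟨R, ψ, hψ, hRKF, hRz⟩ := DRingRightExact.exists_bounded_rep P b hz
    haveI := hψ
    haveI : IsIso (DerivedCategory.Q.map ψ) := (DerivedCategory.isIso_Q_map_iff_quasiIso _ _).2 inferInstance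
    haveI : QuasiIso ((extC' φ).map ψ) := quasiIso_extendScalars φ ψ hRKF hP
    haveI : IsIso (DerivedCategory.Q.map ((extC' φ).map ψ)) :=
      (DerivedCategory.isIso_Q_map_iff_quasiIso _ _).2 inferInstance
    refine DRingPC.of_iso' (asIso (DerivedCategory.Q.map ψ) ≪≫ e) ((DRingPC.pc'_iff _).2 fun m => ?_)
    refine pc_of_lbase_aux φ hφ hnil (b + 1 - m).toNat m b (by omega) R hRKF hRz
      ((DRingPC.pc'_iff _).1 ?_ m)
    exact DRingPC.of_iso' (asIso (DerivedCategory.Q.map ((extC' φ).map ψ))).symm
      ⟨E, b, hEz, hEf, ⟨eE⟩⟩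
  · rintro ⟨E, b, hz, hf, ⟨e⟩⟩
    have hflat : DRing.TermwiseFlat E := fun i => haveI := (hf i).2; inferInstance
    obtain ⟨e'⟩ := DRingLBase.nonempty_lbase_iso φ (DRingTor.isKF_of_flat hflat hz)
    exact ⟨(extC' φ).obj E, b, fun i hi => (ModuleCat.extendScalars.{u, u, u} φ).map_isZero (hz i hi),
      fun i => finFree_extendScalars φ _ (hf i).1 (hf i).2, ⟨e'.symm ≪≫ (DRing.LBaseChange φ).mapIso e⟩⟩

/-- Perfectness is insensitive to nilpotent thickenings. -/
theorem isPerfect_of_lbase (φ : A →+* B) (hφ : Function.Surjective φ) (hnil : IsNilpotent (RingHom.ker φ))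
    [DRing.HasLBaseChange φ] (K : Dual.D A) (h : DRing.IsPerfect B ((DRing.LBaseChange φ).obj K)) :
    DRing.IsPerfect A K := by
  obtain ⟨hpc, a, b, hamp⟩ := (DRingPerfect.isPerfect_iff _).1 h
  exact (DRingPerfect.isPerfect_iff _).2
    ⟨(pc'_lbase_iff φ hφ hnil K).1 hpc, a, b, (amp_lbase_iff φ hφ hnil K a b).1 hamp⟩

end Groth.Agent.H9Misc.DRingNilp
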