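import Mathlib
import Groth.Agent.H9Misc.DRingLiftStably
import Groth.Agent.H9Misc.DRingNilpPC
import Groth.Agent.H9Misc.DRingComplTensor

/-! Lifting complexes of projective modules along nilpotent ideals. -/

set_option linter.style.haveILetI false

universe u

open CategoryTheory CategoryTheory.Limits

attribute [local instance] HasDerivedCategory.standard

namespace Groth.Agent.H9Misc.DRingLift

variable {A : Type u} [CommRing A] {I : Ideal A}

variable (A) in
/-- Projective modules. -/
def projClass : ObjectProperty (ModuleCat.{u} A) := fun X => Module.Projective A X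

instance : (projClass A).IsClosedUnderIsomorphisms :=
  ⟨fun {X Y} e h => haveI : Module.Projective A X := h; Module.Projective.of_equiv e.toLinearEquiv⟩

lemma cls_proj (hI : IsNilpotent I) : Cls I (projClass A) where
  proj X hX := hX
  sub X Y _ hXY := by
    haveI : Module.Projective A (↥X × ↥Y) := hXY
    exact Module.Projective.of_split (LinearMap.inr A X Y) (LinearMap.snd A X Y) (LinearMap.ext fun _ => rfl)
  nak X Y f _ _ h := by
    obtain ⟨k, hk⟩ := hI
    have hN : ∀ j : ℕ, LinearMap.range f.hom ⊔ I ^ j • (⊤ : Submodule A Y) = ⊤ := by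
      intro j
      induction j with
      | zero => rw [pow_zero, Ideal.one_eq_top, Submodule.top_smul, sup_top_eq]
      | succ j ih =>
        refine top_le_iff.1 (ih.ge.trans (sup_le le_sup_left ?_))
        calc I ^ j • (⊤ : Submodule A Y) = I ^ j • (LinearMap.range f.hom ⊔ I • ⊤) := by rw [h]
          _ = I ^ j • LinearMap.range f.hom ⊔ I ^ (j + 1) • ⊤ := by
            rw [Submodule.smul_sup, pow_succ, Submodule.mul_smul]
          _ ≤ LinearMap.range f.hom ⊔ I ^ (j + 1) • ⊤ := sup_le_sup_right Submodule.smul_le_right _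
    have := hN k
    rw [hk, Submodule.zero_eq_bot, Submodule.bot_smul, sup_bot_eq] at this
    exact LinearMap.range_eq_top.1 this

lemma proj_sum (X Y : ModuleCat.{u} A) (hX : projClass A X) (hY : projClass A Y) :
    projClass A (ModuleCat.of A (X × Y)) :=
  haveI : Module.Projective A X := hX
  haveI : Module.Projective A Y := hY
  inferInstanceAs (Module.Projective A (↥X × ↥Y))

variable (I) in
/-- Coordinatewise reduction of finitely supported functions. -/
noncomputable def finsuppRed (J : Type u) : (J →₀ A) →ₛₗ[Ideal.Quotient.mk I] (J →₀ A ⧸ I) where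
  toFun x := x.mapRange (Ideal.Quotient.mk I) (map_zero _)
  map_add' x y := Finsupp.mapRange_add (map_add _) x y
  map_smul' a x := by ext i; simp

lemma isRed_finsuppRed (J : Type u) : IsRed (finsuppRed I J) where
  surj := Finsupp.mapRange_surjective _ (map_zero _) Ideal.Quotient.mk_surjective
  ker := by
    classical
    ext x
    constructor
    · intro hx
      rw [← Finsupp.sum_single x, Finsupp.sum]
      refine Submodule.sum_mem _ fun i _ => ?_
      rw [← Finsupp.smul_single_one]
      exact Submodule.smul_mem_smul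
        (Ideal.Quotient.eq_zero_iff_mem.1 (by simpa [finsuppRed] using DFunLike.congr_fun (LinearMap.mem_ker.1 hx) i))
        Submodule.mem_top
    · intro hx
      refine LinearMap.mem_ker.2 (Finsupp.ext fun i => ?_)
      have := map_mem_smul_top (Finsupp.lapply (R := A) (M := A) i) hx
      rw [smul_eq_mul, Ideal.mul_top] at this
      simpa [finsuppRed] using Ideal.Quotient.eq_zero_iff_mem.2 this

lemma exists_projective_red (hI : IsNilpotent I) (M : Type u) [AddCommGroup M] [Module (A ⧸ I) M]
    [Module.Projective (A ⧸ I) M] :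
    ∃ (X : ModuleCat.{u} A) (π : X →ₛₗ[Ideal.Quotient.mk I] M), projClass A X ∧ IsRed π := by
  obtain ⟨i, hi⟩ := Module.projective_lifting_property
    (Finsupp.linearCombination (A ⧸ I) (id : M → M)) LinearMap.id
    (Finsupp.linearCombination_id_surjective (A ⧸ I) M)
  let p := Finsupp.linearCombination (A ⧸ I) (id : M → M)
  have hpi : ∀ m, p (i m) = m := fun m => LinearMap.congr_fun hi m
  let q := i ∘ₗ p
  have hq : ∀ z, q (q z) = q z := fun z => congrArg i (hpi _)
  let F := M →₀ A
  let π₀ := finsuppRed I M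
  have hπ₀ : IsRed π₀ := isRed_finsuppRed M
  haveI : Module.Projective A F := Module.Projective.of_free
  obtain ⟨e, he⟩ := exists_lift hπ₀ (q.comp π₀)
  let J : TwoSidedIdeal (Module.End A F) := TwoSidedIdeal.mk'
    {v | ∀ x, v x ∈ I • (⊤ : Submodule A F)} (fun x => Submodule.zero_mem _)
    (fun ha hb x => Submodule.add_mem _ (ha x) (hb x)) (fun ha x => Submodule.neg_mem _ (ha x))
    (fun {a b} hb x => map_mem_smul_top a (hb x)) (fun {a b} ha x => ha (b x))
  have hJ : ∀ v : Module.End A F, v ∈ J ↔ ∀ x, v x ∈ I • (⊤ : Submodule A F) := fun v =>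
    TwoSidedIdeal.mem_mk' _ _ _ _ _ _ v
  let φ := J.ringCon.mk'
  have hφ : ∀ v w : Module.End A F, φ v = φ w ↔ ∀ x, v x - w x ∈ I • (⊤ : Submodule A F) := fun v w => by
    refine Iff.trans ((RingCon.eq _).trans (TwoSidedIdeal.rel_iff J v w)) ((hJ _).trans ?_)
    rfl
  obtain ⟨k, hk⟩ := hI
  have hnil : ∀ v ∈ RingHom.ker φ, IsNilpotent v := fun v hv => by
    have hv' : ∀ x, v x ∈ I • (⊤ : Submodule A F) := by
      intro x
      simpa using (hφ v 0).1 (((RingHom.mem_ker).1 hv).trans (map_zero φ).symm) x
    refine ⟨k, LinearMap.ext fun x => ?_⟩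
    have hpow : ∀ j : ℕ, ∀ x, (v ^ j) x ∈ I ^ j • (⊤ : Submodule A F) := by
      intro j
      induction j with
      | zero => intro x; simp
      | succ j ih =>
        intro x
        rw [pow_succ' v, Module.End.mul_apply, pow_succ I, Submodule.mul_smul]
        have h := Submodule.mem_map_of_mem (f := v) (ih x)
        rw [Submodule.map_smul''] at h
        refine Submodule.smul_mono le_rfl ?_ h
        rintro _ ⟨y, -, rfl⟩
        exact hv' y
    have := hpow k x
    rw [hk, Submodule.zero_eq_bot, Submodule.bot_smul, Submodule.mem_bot] at this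
    exact this
  have hidem : IsIdempotentElem (φ e) := by
    rw [IsIdempotentElem, ← map_mul, hφ]
    intro x
    refine hπ₀.eq_zero_iff.1 ?_
    rw [map_sub, Module.End.mul_apply, he, LinearMap.comp_apply, he]
    exact sub_eq_zero.2 (hq (π₀ x))
  obtain ⟨e', he'i, he'⟩ := exists_isIdempotentElem_eq_of_ker_isNilpotent φ hnil (φ e) ⟨e, rfl⟩ hidem
  have hπe : ∀ x, π₀ (e' x) = q (π₀ x) := fun x => by
    have h := hπ₀.eq_zero_iff.2 ((hφ e' e).1 he' x)
    rw [map_sub, sub_eq_zero, he] at h
    exact h
  have hee : ∀ x, e' (e' x) = e' x := fun x => LinearMap.congr_fun he'i x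
  let X := LinearMap.range e'
  refine ⟨ModuleCat.of A X, (p.comp π₀).comp X.subtype, ?_, fun m => ?_, ?_⟩
  · exact (Module.Projective.of_split X.subtype e'.rangeRestrict (LinearMap.ext fun ⟨z, x, hx⟩ =>
      Subtype.ext (by subst hx; exact hee x)) : Module.Projective A X)
  · obtain ⟨x, hx⟩ := hπ₀.surj (i m)
    refine ⟨⟨e' x, x, rfl⟩, ?_⟩
    change p (π₀ (e' x)) = m
    rw [hπe, hx]
    exact (congrArg p (congrArg i (hpi m))).trans (hpi m)
  · ext ⟨z, x, hx⟩
    subst hx
    rw [LinearMap.mem_ker]
    constructor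
    · intro h
      have h0 : π₀ (e' (e' x)) = 0 := by
        rw [hπe]
        change i (p (π₀ (e' x))) = 0
        rw [show p (π₀ (e' x)) = 0 from h, map_zero]
      rw [hee] at h0
      have h1 : e'.rangeRestrict (e' x) ∈ I • (⊤ : Submodule A X) := by
        have h2 := Submodule.mem_map_of_mem (f := e'.rangeRestrict) (hπ₀.eq_zero_iff.1 h0)
        rw [Submodule.map_smul''] at h2
        exact Submodule.smul_mono le_rfl le_top h2
      rwa [show e'.rangeRestrict (e' x) = ⟨e' x, x, rfl⟩ from Subtype.ext (hee x)] at h1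
    · intro h
      change p (π₀ (e' x)) = 0
      rw [hπ₀.eq_zero_iff.2 (show e' x ∈ I • (⊤ : Submodule A F) from map_mem_smul_top X.subtype h), map_zero]

/-- Lifting complexes of projective modules along nilpotent ideals. -/
theorem exists_projective_lift (hI : IsNilpotent I) [DRing.HasLBaseChange (Ideal.Quotient.mk I)]
    (K : Dual.D A) (E : DRing.Cx (A ⧸ I)) (b : ℤ) (hEb : DRing.VanishesAbove E b)
    (hEp : ∀ i : ℤ, Module.Projective (A ⧸ I) (E.X i))
    (eE : DRing.toD E ≅ (DRing.LBaseChange (Ideal.Quotient.mk I)).obj K) :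
    ∃ (P : DRing.Cx A) (b' : ℤ) (_ : Lift E P), DRing.VanishesAbove P b' ∧
      (∀ i, Module.Projective A (P.X i)) ∧ Nonempty (DRing.toD P ≅ K) := by
  obtain ⟨F, hF, hflat, ⟨eF⟩⟩ := DRingLTensor.exists_rep K
  obtain ⟨e'⟩ := DRingLBase.nonempty_lbase_iso (Ideal.Quotient.mk I) hF
  have hHE : ∀ i, b < i → IsZero ((((ModuleCat.extendScalars.{u, u, u}
      (Ideal.Quotient.mk I)).mapHomologicalComplex (ComplexShape.up ℤ)).obj F).homology i) := by
    intro i hi
    refine (ShortComplex.isZero_homology_of_isZero_X₂ (E.sc i) (hEb i hi)).of_iso ?_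
    exact ((DerivedCategory.homologyFunctorFactors (ModuleCat.{u} (A ⧸ I)) i).app _).symm ≪≫
      (DerivedCategory.homologyFunctor (ModuleCat.{u} (A ⧸ I)) i).mapIso
        (e'.symm ≪≫ (DRing.LBaseChange (Ideal.Quotient.mk I)).mapIso eF ≪≫ eE.symm) ≪≫
      (DerivedCategory.homologyFunctorFactors (ModuleCat.{u} (A ⧸ I)) i).app E
  have hKb : ∀ i, b < i → Subsingleton (Dual.HD A K i) := fun i hi =>
    ModuleCat.subsingleton_of_isZero ((DRingNilp.isZero_homology_of_lbase (Ideal.Quotient.mk I)
      Ideal.Quotient.mk_surjective (by rw [Ideal.mk_ker]; exact hI) hF hflat b hHE i hi).of_iso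
      ((DerivedCategory.homologyFunctor (ModuleCat.{u} A) i).mapIso eF.symm ≪≫
        (DerivedCategory.homologyFunctorFactors (ModuleCat.{u} A) i).app F))
  obtain ⟨Q, -, hQb, hQ, ⟨eK⟩⟩ := DRingComplTensor.exists_proj_res K b hKb
  exact exists_lift_complex (cls_proj hI) proj_sum K Q b hQb hQ eK E b hEb
    (fun i => haveI := hEp i; exists_projective_red hI (E.X i)) eE

end Groth.Agent.H9Misc.DRingLift
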