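import Mathlib
import Groth.Agent.H9Misc.DRingLiftStably
import Groth.Agent.H9Misc.ExtCechTors
import Groth.Agent.H9Misc.DRingHomCxHom

/-! Minimal complexes over local rings. -/

set_option linter.style.haveILetI false

universe u

open CategoryTheory CategoryTheory.Limits

attribute [local instance] HasDerivedCategory.standard

namespace Groth.Agent.H9Misc.DRingMinimal

open ExtCechTors DRingLift

section Field

variable {k : Type u} [Field k] (C : DRing.Cx k)

/-- The homology with zero differential. -/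
noncomputable def homCx0 : DRing.Cx k :=
  CochainComplex.of (fun i => C.homology i) (fun _ => 0) (fun _ => comp_zero)

lemma homCx0_d (i j : ℤ) : (homCx0 C).d i j = 0 := by
  by_cases h : i + 1 = j
  · subst h
    simp [homCx0]
    rfl
  · exact (homCx0 C).shape _ _ h

/-- Over a field every complex is formal. -/
theorem exists_quasiIso_homCx0 : ∃ f : homCx0 C ⟶ C, QuasiIso f := by
  have hσ : ∀ i, ∃ σ : C.homology i →ₗ[k] C.cycles i, ∀ x, (C.homologyπ i).hom (σ x) = x := fun i => by
    haveI : Module.Free k (C.homology i) := Module.Free.of_divisionRing _ _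
    haveI : Module.Projective k (C.homology i) := Module.Projective.of_free
    obtain ⟨σ, hσ⟩ := (C.homologyπ i).hom.exists_rightInverse_of_surjective
      (LinearMap.range_eq_top.2 ((ModuleCat.epi_iff_surjective _).1 inferInstance))
    exact ⟨σ, fun x => LinearMap.congr_fun hσ x⟩
  choose σ hσ using hσ
  let f : homCx0 C ⟶ C :=
    { f := fun i => ModuleCat.ofHom ((C.iCycles i).hom ∘ₗ σ i)
      comm' := fun i j _ => by
        rw [homCx0_d, zero_comp]
        ext x
        exact ConcreteCategory.congr_hom (C.iCycles_d i j) (σ i x) }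
  refine ⟨f, ⟨fun n => ?_⟩⟩
  rw [quasiIsoAt_iff_isIso_homologyMap]
  have hm : Mono (HomologicalComplex.homologyMap f n) := by
    rw [CxLib.mono_homologyMap_iff f n (n - 1) (n + 1) (by simp) (by simp)]
    rintro (x : C.homology n) - ⟨w, hw⟩
    refine ⟨0, ?_⟩
    rw [map_zero, ← hσ n x]
    exact (homologyπ_eq_zero C n (σ n x) w hw).symm
  have he : Epi (HomologicalComplex.homologyMap f n) := by
    rw [CxLib.epi_homologyMap_iff f n (n - 1) (n + 1) (by simp) (by simp)]
    intro y hy
    obtain ⟨z, rfl⟩ := exists_cycle_of_d_eq_zero C n y hy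
    let x : C.homology n := C.homologyπ n z
    have hx : C.homologyπ n (z - σ n x) = 0 := by
      rw [map_sub]
      exact sub_eq_zero.2 (hσ n x).symm
    obtain ⟨w, hw⟩ := exists_of_homologyπ_eq_zero C n _ hx
    refine ⟨x, by rw [homCx0_d]; rfl, w, ?_⟩
    rw [hw, map_sub]
    rfl
  exact isIso_of_mono_of_epi _

/-- If the terms are no bigger than the homology then the differential vanishes. -/
theorem d_eq_zero_of_finrank (hfin : ∀ i, Module.Finite k (C.X i))
    (h : ∀ i, Module.finrank k (C.X i) = Module.finrank k (C.homology i)) (i j : ℤ) : C.d i j = 0 := by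
  by_cases hij : i + 1 = j
  · subst hij
    haveI := hfin i
    have hinj : Function.Injective (C.iCycles i).hom := (ModuleCat.mono_iff_injective _).1 inferInstance
    haveI : Module.Finite k (C.cycles i) := Module.Finite.of_injective _ hinj
    have h1 : Module.finrank k (C.homology i) ≤ Module.finrank k (C.cycles i) :=
      LinearMap.finrank_le_finrank_of_surjective (f := (C.homologyπ i).hom)
        ((ModuleCat.epi_iff_surjective _).1 inferInstance)
    have h2 : Module.finrank k (C.cycles i) ≤ Module.finrank k (C.X i) :=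
      LinearMap.finrank_le_finrank_of_injective hinj
    have hsur : Function.Surjective (C.iCycles i).hom :=
      (LinearMap.injective_iff_surjective_of_finrank_eq_finrank (by have := h i; omega)).1 hinj
    haveI : Epi (C.iCycles i) := (ModuleCat.epi_iff_surjective _).2 hsur
    rw [← cancel_epi (C.iCycles i), C.iCycles_d, comp_zero]
  · exact C.shape _ _ hij

end Field

variable {R : Type u} [CommRing R] [IsLocalRing R]

lemma finrank_reduction (M : ModuleCat.{u} R) [Module.Free R M] :
    Module.finrank (IsLocalRing.ResidueField R)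
      ((ModuleCat.extendScalars.{u, u, u} (IsLocalRing.residue R)).obj M) = Module.finrank R M :=
  Module.finrank_baseChange (R := IsLocalRing.ResidueField R) (S := R) (M' := M)

lemma finite_reduction (M : ModuleCat.{u} R) [Module.Finite R M] :
    Module.Finite (IsLocalRing.ResidueField R)
      ((ModuleCat.extendScalars.{u, u, u} (IsLocalRing.residue R)).obj M) :=
  inferInstanceAs (Module.Finite (IsLocalRing.ResidueField R)
    (TensorProduct R (IsLocalRing.ResidueField R) M))

variable [DRing.HasLBaseChange (IsLocalRing.residue R)]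

/-- A candidate minimal complex. -/
def Minimal (K : Dual.D R) (P : DRing.Cx R) : Prop :=
  (∃ b : ℤ, DRing.VanishesAbove P b) ∧
    (∀ i : ℤ, Module.Free R (P.X i) ∧ Module.Finite R (P.X i) ∧
      Module.finrank R (P.X i) = Module.finrank (IsLocalRing.ResidueField R)
        (Dual.HD (IsLocalRing.ResidueField R) ((DRing.LBaseChange (IsLocalRing.residue R)).obj K) i)) ∧
    Nonempty (DRing.toD P ≅ K)

variable {K : Dual.D R}

lemma nonempty_homology_iso {P : DRing.Cx R} {b : ℤ} (hb : DRing.VanishesAbove P b)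
    (hf : DRing.TermwiseFiniteFree P) (e : DRing.toD P ≅ K) (i : ℤ) :
    Nonempty ((((ModuleCat.extendScalars.{u, u, u} (IsLocalRing.residue R)).mapHomologicalComplex
        (ComplexShape.up ℤ)).obj P).homology i ≃ₗ[IsLocalRing.ResidueField R]
      Dual.HD (IsLocalRing.ResidueField R) ((DRing.LBaseChange (IsLocalRing.residue R)).obj K) i) := by
  have hKF : DRingLTensor.IsKF P := DRingTor.isKF_of_flat (b := b) (fun j => by
    haveI := (hf j).2
    exact Module.Flat.of_free) hb
  obtain ⟨e'⟩ := DRingLBase.nonempty_lbase_iso (IsLocalRing.residue R) hKF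
  exact ⟨(((DerivedCategory.homologyFunctorFactors (ModuleCat.{u} (IsLocalRing.ResidueField R)) i).app _).symm ≪≫
    (DerivedCategory.homologyFunctor (ModuleCat.{u} (IsLocalRing.ResidueField R)) i).mapIso
      (e'.symm ≪≫ (DRing.LBaseChange (IsLocalRing.residue R)).mapIso e)).toLinearEquiv⟩

lemma Minimal.d_mem {P : DRing.Cx R} (hP : Minimal K P) (i : ℤ) (x : P.X i) :
    (P.d i (i + 1)).hom x ∈ IsLocalRing.maximalIdeal R • (⊤ : Submodule R (P.X (i + 1))) := by
  obtain ⟨⟨b, hb⟩, hP', ⟨e⟩⟩ := hP
  let C := ((ModuleCat.extendScalars.{u, u, u} (IsLocalRing.residue R)).mapHomologicalComplex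
        (ComplexShape.up ℤ)).obj P
  have hfr : ∀ j, Module.finrank (IsLocalRing.ResidueField R) (C.X j) =
      Module.finrank (IsLocalRing.ResidueField R) (C.homology j) := fun j => by
    haveI := (hP' j).1
    obtain ⟨eh⟩ := nonempty_homology_iso hb (fun l => ⟨(hP' l).2.1, (hP' l).1⟩) e j
    rw [eh.finrank_eq]
    exact (finrank_reduction (P.X j)).trans (hP' j).2.2
  have hd := d_eq_zero_of_finrank C (fun j => haveI := (hP' j).2.1; finite_reduction (P.X j)) hfr i (i + 1)
  refine (one_tmul_eq_zero_iff _).1 ?_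
  exact LinearMap.congr_fun (congrArg ModuleCat.Hom.hom hd)
    (show TensorProduct R (IsLocalRing.ResidueField R) (P.X i) from (1 : IsLocalRing.ResidueField R) ⊗ₜ[R] x)

lemma Minimal.bijective_endo {P : DRing.Cx R} (hP : Minimal K P) (u : P ⟶ P)
    (hu : Nonempty (Homotopy u (𝟙 P))) (i : ℤ) : Function.Bijective (u.f i).hom := by
  obtain ⟨h⟩ := hu
  haveI := (hP.2.1 i).1
  haveI := (hP.2.1 i).2.1
  have H := cls_stablyFree (I := IsLocalRing.maximalIdeal R) (IsLocalRing.maximalIdeal_le_jacobson _)
  have hmem : stablyFreeClass R (P.X i) := ⟨(hP.2.1 i).2.1, inferInstance⟩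
  refine H.bijective hmem hmem (isRed_unitRed _ (P.X i)) (isRed_unitRed _ (P.X i)) (u.f i).hom fun x => ?_
  rw [← sub_eq_zero, ← map_sub, (isRed_unitRed _ (P.X i)).eq_zero_iff]
  obtain ⟨m, rfl⟩ : ∃ m, i = m + 1 := ⟨i - 1, by omega⟩
  have hc := ConcreteCategory.congr_hom (h.comm (m + 1)) x
  rw [dNext_eq _ (show (ComplexShape.up ℤ).Rel (m + 1) (m + 1 + 1) from rfl),
    prevD_eq _ (show (ComplexShape.up ℤ).Rel m (m + 1) from rfl)] at hc
  have e : (u.f (m + 1)).hom x - x = (h.hom (m + 1 + 1) (m + 1)).hom ((P.d (m + 1) (m + 1 + 1)).hom x) +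
      (P.d m (m + 1)).hom ((h.hom (m + 1) m).hom x) := by
    rw [sub_eq_iff_eq_add]
    exact hc
  rw [e]
  exact Submodule.add_mem _ (map_mem_smul_top _ (hP.d_mem _ _)) (hP.d_mem _ _)

/-- Uniqueness of minimal complexes. -/
theorem Minimal.unique {P Q : DRing.Cx R} (hP : Minimal K P) (hQ : Minimal K Q) : Nonempty (P ≅ Q) := by
  obtain ⟨b, hb⟩ := hP.1
  obtain ⟨c, hc⟩ := hQ.1
  obtain ⟨eP⟩ := hP.2.2
  obtain ⟨eQ⟩ := hQ.2.2
  haveI := DRingProjAmp.isKProjective (R := R) (P := P)
    (fun i => haveI := (hP.2.1 i).1; Module.Projective.of_free) hb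
  haveI := DRingProjAmp.isKProjective (R := R) (P := Q)
    (fun i => haveI := (hQ.2.1 i).1; Module.Projective.of_free) hc
  let α : DerivedCategory.Q.obj P ≅ DerivedCategory.Q.obj Q := eP ≪≫ eQ.symm
  let q := HomotopyCategory.quotient (ModuleCat.{u} R) (ComplexShape.up ℤ)
  let e := DerivedCategory.quotientCompQhIso (ModuleCat.{u} R)
  obtain ⟨v', hv⟩ := (CochainComplex.IsKProjective.Qh_map_bijective P (q.obj Q)).2
    (e.hom.app P ≫ α.hom ≫ e.inv.app Q)
  obtain ⟨w', hw⟩ := (CochainComplex.IsKProjective.Qh_map_bijective Q (q.obj P)).2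
    (e.hom.app Q ≫ α.inv ≫ e.inv.app P)
  obtain ⟨v, rfl⟩ := q.map_surjective v'
  obtain ⟨w, rfl⟩ := q.map_surjective w'
  have h1 : q.map (v ≫ w) = q.map (𝟙 P) :=
    (CochainComplex.IsKProjective.Qh_map_bijective P (q.obj P)).1 (by
      rw [Functor.map_comp, Functor.map_comp, hv, hw, CategoryTheory.Functor.map_id,
        CategoryTheory.Functor.map_id]
      simp only [Category.assoc, Iso.inv_hom_id_app_assoc, Iso.hom_inv_id_assoc, Iso.hom_inv_id_app]
      rfl)
  have h2 : q.map (w ≫ v) = q.map (𝟙 Q) :=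
    (CochainComplex.IsKProjective.Qh_map_bijective Q (q.obj Q)).1 (by
      rw [Functor.map_comp, Functor.map_comp, hv, hw, CategoryTheory.Functor.map_id,
        CategoryTheory.Functor.map_id]
      simp only [Category.assoc, Iso.inv_hom_id_app_assoc, Iso.inv_hom_id_assoc, Iso.hom_inv_id_app]
      rfl)
  haveI : ∀ i, IsIso (v.f i) := fun i => by
    refine (ConcreteCategory.isIso_iff_bijective _).2 ⟨?_, ?_⟩
    · exact Function.Injective.of_comp (f := (w.f i).hom)
        (hP.bijective_endo (v ≫ w) ⟨HomotopyCategory.homotopyOfEq _ _ h1⟩ i).1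
    · exact Function.Surjective.of_comp (g := (w.f i).hom)
        (hQ.bijective_endo (w ≫ v) ⟨HomotopyCategory.homotopyOfEq _ _ h2⟩ i).2
  haveI := HomologicalComplex.Hom.isIso_of_components v
  exact ⟨asIso v⟩

/-- Minimal complexes exist. -/
theorem exists_minimal (hK : DRing.IsPseudoCoherent' R K) :
    (∀ i, Module.Finite (IsLocalRing.ResidueField R)
      (Dual.HD (IsLocalRing.ResidueField R) ((DRing.LBaseChange (IsLocalRing.residue R)).obj K) i)) ∧
    (∃ b : ℤ, ∀ i : ℤ, b < i → Subsingleton
      (Dual.HD (IsLocalRing.ResidueField R) ((DRing.LBaseChange (IsLocalRing.residue R)).obj K) i)) ∧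
    ∃ P : DRing.Cx R, Minimal K P := by
  obtain ⟨Q, b, hQb, hQ, ⟨eK⟩⟩ := hK
  let C := ((ModuleCat.extendScalars.{u, u, u} (IsLocalRing.residue R)).mapHomologicalComplex
        (ComplexShape.up ℤ)).obj Q
  have hC : ∀ i, Module.Finite (IsLocalRing.ResidueField R) (C.homology i) := fun i => by
    haveI := (hQ i).1
    haveI : Module.Finite (IsLocalRing.ResidueField R) (C.X i) := finite_reduction (Q.X i)
    haveI : Module.Finite (IsLocalRing.ResidueField R) (C.cycles i) :=
      Module.Finite.of_injective (C.iCycles i).hom ((ModuleCat.mono_iff_injective _).1 inferInstance)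
    exact Module.Finite.of_surjective (C.homologyπ i).hom ((ModuleCat.epi_iff_surjective _).1 inferInstance)
  have hb : ∀ i, b < i → Subsingleton (C.homology i) := fun i hi =>
    ModuleCat.subsingleton_of_isZero (ShortComplex.isZero_homology_of_isZero_X₂ (C.sc i)
      ((ModuleCat.extendScalars.{u, u, u} (IsLocalRing.residue R)).map_isZero (hQb i hi)))
  have eH := fun i => nonempty_homology_iso hQb hQ eK i
  refine ⟨fun i => ?_, ⟨b, fun i hi => ?_⟩, ?_⟩
  · obtain ⟨e⟩ := eH i
    haveI := hC i
    exact Module.Finite.equiv e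
  · obtain ⟨e⟩ := eH i
    haveI := hb i hi
    exact e.symm.toEquiv.subsingleton
  let E := homCx0 C
  have hEb : DRing.VanishesAbove E b := fun i hi => @ModuleCat.isZero_of_subsingleton _ _ (E.X i) (hb i hi)
  obtain ⟨f, hf⟩ := exists_quasiIso_homCx0 C
  have hKF : DRingLTensor.IsKF Q := DRingTor.isKF_of_flat (b := b) (fun j => by
    haveI := (hQ j).2
    exact Module.Flat.of_free) hQb
  obtain ⟨e'⟩ := DRingLBase.nonempty_lbase_iso (IsLocalRing.residue R) hKF
  obtain ⟨P, b', L, hPb, hP, hPK, hfree⟩ := @exists_stablyFree_lift R _ (IsLocalRing.maximalIdeal R)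
    (IsLocalRing.maximalIdeal_le_jacobson _) ‹_› K ⟨Q, b, hQb, hQ, ⟨eK⟩⟩ E b hEb
    (fun i => ⟨hC i, by
      haveI : Module.Free (IsLocalRing.ResidueField R) (C.homology i) := Module.Free.of_divisionRing _ _
      exact (inferInstance : Module.IsStablyFree (IsLocalRing.ResidueField R) (C.homology i))⟩)
    (@asIso _ _ _ _ (DerivedCategory.Q.map f) ((DerivedCategory.isIso_Q_map_iff_quasiIso _ _).2 hf) ≪≫ e'.symm ≪≫
      (DRing.LBaseChange (IsLocalRing.residue R)).mapIso eK)
  refine ⟨P, ⟨b', hPb⟩, fun i => ?_, hPK⟩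
  have hfr : Module.Free R (P.X i) := hfree i (Module.Free.of_divisionRing (IsLocalRing.ResidueField R) (C.homology i))
  refine ⟨hfr, (hP i).1, ?_⟩
  obtain ⟨eL⟩ := (L.red i).nonempty_iso
  obtain ⟨e⟩ := eH i
  rw [← finrank_reduction (P.X i), ← e.finrank_eq]
  exact eL.toLinearEquiv.finrank_eq

end Groth.Agent.H9Misc.DRingMinimal
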