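import Groth.Agent.H9Misc.DRingPC

/-! `(m - 1)`-pseudo-coherent of tor amplitude `[m, n]` is perfect. -/

set_option linter.style.haveILetI false

universe u

open CategoryTheory CategoryTheory.Category CategoryTheory.Limits
open CategoryTheory.Pretriangulated

attribute [local instance] HasDerivedCategory.standard

namespace Groth.Agent.H9Misc.DRingPerfAmp

open DRingTor

variable {A : Type u} [CommRing A]

/-- A pseudo-coherent object is the truncation of its approximation. -/
lemma exists_truncGE_iso {m : ℤ} {K : Dual.D A} (hpc : DRing.IsPseudoCoherent A (m - 1) K) [K.IsGE m] :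
    ∃ (E : DRing.Cx A) (a b : ℤ), DRing.VanishesOutside E a b ∧ DRing.TermwiseFiniteFree E ∧
      Nonempty (DerivedCategory.Q.obj (E.truncGE m) ≅ K) := by
  obtain ⟨E, a, b, α, hz, hf, hi, -⟩ := hpc
  refine ⟨E, a, b, hz, hf, ?_⟩
  have hS := E.shortComplexTruncLE_shortExact (m - 1)
  haveI hge : DerivedCategory.IsGE K m := inferInstance
  haveI : DerivedCategory.TStructure.t.IsGE K m := hge
  haveI : DerivedCategory.TStructure.t.IsLE (DerivedCategory.Q.obj (E.truncLE (m - 1))) (m - 1) :=
    inferInstanceAs ((DerivedCategory.Q.obj (E.truncLE (m - 1))).IsLE (m - 1))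
  let eX := asIso (DerivedCategory.Q.map (E.shortComplexTruncLEX₃ToTruncGE (m - 1) m (by omega)))
  obtain ⟨g₀, hg₀⟩ := Triangle.yoneda_exact₂ (DerivedCategory.triangleOfSES hS)
    (DerivedCategory.triangleOfSES_distinguished hS) α
    (DerivedCategory.TStructure.t.zero (X := DerivedCategory.Q.obj (E.truncLE (m - 1))) (Y := K) _ (m - 1) m (by omega))
  let g : DerivedCategory.Q.obj (E.truncGE m) ⟶ K := eX.inv ≫ g₀
  have hg : α = DerivedCategory.Q.map (E.πTruncGE m) ≫ g := by
    refine hg₀.trans ?_
    show DerivedCategory.Q.map (E.shortComplexTruncLE (m - 1)).g ≫ g₀ = _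
    refine Eq.symm ?_
    refine (congrArg (· ≫ g) ((congrArg DerivedCategory.Q.map
      (CochainComplex.g_shortComplexTruncLEX₃ToTruncGE E (m - 1) m (by omega)).symm).trans
        (DerivedCategory.Q.map_comp _ _))).trans ((assoc _ _ _).trans ?_)
    exact congrArg (DerivedCategory.Q.map (E.shortComplexTruncLE (m - 1)).g ≫ ·) (Iso.hom_inv_id_assoc eX g₀)
  suffices IsIso g from ⟨asIso g⟩
  rw [DerivedCategory.isIso_iff]
  intro i
  rcases lt_or_ge i m with him | him
  · exact ⟨0, (DerivedCategory.isZero_of_isGE (DerivedCategory.Q.obj (E.truncGE m)) m i him).eq_of_src _ _,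
      (DerivedCategory.isZero_of_isGE K m i him).eq_of_src _ _⟩
  · haveI := hi i (by omega)
    haveI := E.quasiIsoAt_πTruncGE m i him
    haveI : IsIso ((DerivedCategory.homologyFunctor (ModuleCat.{u} A) i).map
        (DerivedCategory.Q.map (E.πTruncGE m))) :=
      ((MorphismProperty.isomorphisms (ModuleCat.{u} A)).arrow_mk_iso_iff
        (((Functor.mapArrowFunctor _ _).mapIso (DerivedCategory.homologyFunctorFactors (ModuleCat.{u} A) i)).app
          (Arrow.mk (E.πTruncGE m)))).2 ((quasiIsoAt_iff_isIso_homologyMap (E.πTruncGE m) i).1 inferInstance)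
    haveI : IsIso ((DerivedCategory.homologyFunctor (ModuleCat.{u} A) i).map (DerivedCategory.Q.map (E.πTruncGE m)) ≫
        (DerivedCategory.homologyFunctor (ModuleCat.{u} A) i).map g) := by
      rw [← Functor.map_comp, ← hg]
      infer_instance
    exact IsIso.of_isIso_comp_left ((DerivedCategory.homologyFunctor (ModuleCat.{u} A) i).map
      (DerivedCategory.Q.map (E.πTruncGE m))) _

/-- The main result. -/
theorem isPerfect_of_amp {m n : ℤ} {K : Dual.D A} (hpc : DRing.IsPseudoCoherent A (m - 1) K)
    (hamp : DRing.HasTorAmplitudeIn A m n K) : DRing.IsPerfect A K := by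
  haveI : K.IsGE m := (DerivedCategory.isGE_iff K m).2 fun i hi =>
    DRingCompl.isZ (DRingPerfect.isZero_of_amp hamp i (Or.inl hi))
  obtain ⟨E, a, b, hz, hf, ⟨e⟩⟩ := exists_truncGE_iso hpc
  let R := E.truncGE m
  let B := max (max b m) n
  have hzR : ∀ i, B < i → IsZero (R.X i) := fun i hi =>
    (hz i (Or.inr (by omega))).of_iso (E.truncGEXIso m i (by omega))
  have hflatR : ∀ i, m < i → Module.Flat A (R.X i) := fun i hi => by
    haveI := (hf i).2
    exact (Module.Flat.equiv_iff (E.truncGEXIso m i hi).toLinearEquiv).2 inferInstance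
  have hR : DRing.HasTorAmplitudeIn A m B (toD'.obj R) := of_iso e.symm (DRingTor.mono le_rfl (by omega) hamp)
  let π : R ⟶ (sg m).obj (R.X m) := HomologicalComplex.mkHomToSingle (𝟙 _)
    fun i (hi : i + 1 = m) => (CochainComplex.isZero_of_isStrictlyGE R m i (by omega)).eq_of_src _ _
  haveI : ∀ i, Epi (π.f i) := fun i => by
    rcases eq_or_ne i m with rfl | hi
    · rw [show π.f i = (HomologicalComplex.singleObjXSelf _ _ _).inv by simp [π]]
      infer_instance
    · exact ⟨fun g h _ => (HomologicalComplex.isZero_single_obj_X _ _ _ _ hi).eq_of_src g h⟩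
  haveI : Epi π := HomologicalComplex.epi_of_epi_f π inferInstance
  let S := ShortComplex.mk (kernel.ι π) π (kernel.condition π)
  have hS : S.ShortExact :=
    { exact := ShortComplex.exact_of_f_is_kernel _ (kernelIsKernel π) }
  have hS' := fun i : ℤ => hS.map_of_exact (HomologicalComplex.eval (ModuleCat.{u} A) (ComplexShape.up ℤ) i)
  have hm : IsZero ((kernel π).X m) := by
    haveI : Mono ((kernel.ι π).f m) := (hS' m).mono_f
    haveI : Mono (π.f m) := by
      rw [show π.f m = (HomologicalComplex.singleObjXSelf _ _ _).inv by simp [π]]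
      infer_instance
    refine IsZero.of_mono_eq_zero ((kernel.ι π).f m) ((cancel_mono (π.f m)).1 ?_)
    rw [← HomologicalComplex.comp_f, kernel.condition, zero_comp]
    rfl
  have hne : ∀ i, i ≠ m → IsIso ((kernel.ι π).f i) := fun i hi => by
    haveI : Mono ((kernel.ι π).f i) := (hS' i).mono_f
    haveI : Epi ((kernel.ι π).f i) := (hS' i).exact.epi_f
      ((HomologicalComplex.isZero_single_obj_X (ComplexShape.up ℤ) m (R.X m) i hi).eq_of_tgt _ _)
    exact isIso_of_mono_of_epi _
  have hzK : ∀ i, i < m + 1 ∨ B + 1 < i → IsZero ((kernel π).X i) := fun i hi => by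
    rcases eq_or_ne i m with rfl | hne'
    · exact hm
    · haveI := hne i hne'
      refine IsZero.of_iso ?_ (asIso ((kernel.ι π).f i))
      exact hi.elim (fun h => CochainComplex.isZero_of_isStrictlyGE R m i (by omega)) fun h => hzR i (by omega)
  have h₁ : DRing.HasTorAmplitudeIn A (m + 1) (B + 1) (toD'.obj (kernel π)) := by
    refine ⟨kernel π, hzK, fun i => ?_, ⟨Iso.refl _⟩⟩
    by_cases hi : i < m + 1 ∨ B + 1 < i
    · haveI := ModuleCat.subsingleton_of_isZero (hzK i hi)
      infer_instance
    · haveI := hne i (by omega)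
      exact (Module.Flat.equiv_iff (asIso ((kernel.ι π).f i)).toLinearEquiv).2 (hflatR i (by omega))
  have h₃ : DRing.HasTorAmplitudeIn A m B (toD'.obj ((sg m).obj (R.X m))) :=
    obj₃_of (DerivedCategory.triangleOfSES hS) (DerivedCategory.triangleOfSES_distinguished hS) h₁ hR
  haveI hflatm : Module.Flat A (E.opcycles m) := by
    obtain ⟨X, hzX, hfX, ⟨eX⟩⟩ := h₃
    have h0 : DRing.HasTorAmplitudeIn A 0 (B - m) (Dual.inD A (R.X m)) := by
      refine ⟨X⟦m⟧, fun i hi => hzX (i + m) (by omega), fun i => hfX (i + m), ⟨?_⟩⟩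
      exact (DerivedCategory.Q.commShiftIso m).app X ≪≫ (shiftFunctor (Dual.D A) m).mapIso
          (eX ≪≫ ((DerivedCategory.singleFunctorIsoCompQ (ModuleCat.{u} A) m).app (R.X m)).symm) ≪≫
        ((DerivedCategory.singleFunctors (ModuleCat.{u} A)).shiftIso m 0 m (by omega)).app (R.X m)
    haveI := flat_of_inD (R.X m) (shrink h0 fun i hi => isZero_homology_inD _ i hi)
    exact (Module.Flat.equiv_iff (E.truncGEXIsoOpcycles m).toLinearEquiv).1 inferInstance
  refine ⟨R, m, B, fun i hi => hi.elim (fun h => CochainComplex.isZero_of_isStrictlyGE R m i h) (hzR i),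
    fun i => ?_, ⟨e⟩⟩
  rcases lt_trichotomy i m with hi | rfl | hi
  · haveI := ModuleCat.subsingleton_of_isZero (CochainComplex.isZero_of_isStrictlyGE R m i hi)
    exact ⟨inferInstance, inferInstance⟩
  · obtain ⟨h₁, h₂⟩ := DRingPerfect.projective_opcycles hf i
    exact ⟨Module.Finite.equiv (E.truncGEXIsoOpcycles i).symm.toLinearEquiv,
      Module.Projective.of_equiv (E.truncGEXIsoOpcycles i).symm.toLinearEquiv⟩
  · haveI := (hf i).1
    haveI := (hf i).2
    exact ⟨Module.Finite.equiv (E.truncGEXIso m i hi).symm.toLinearEquiv,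
      Module.Projective.of_equiv (E.truncGEXIso m i hi).symm.toLinearEquiv⟩

end Groth.Agent.H9Misc.DRingPerfAmp
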