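import Mathlib
import Groth.Prelude.Def_DRing2
import Groth.Agent.H9Misc.DRingLBase

/-! Descent of perfect complexes along filtered colimits of rings. -/

set_option linter.style.haveILetI false

universe u

open CategoryTheory CategoryTheory.Limits ChangeOfRings

attribute [local instance] HasDerivedCategory.standard

namespace Groth.Agent.H9Misc.DRingPerfDescend

section Colimit

variable {J : Type u} [SmallCategory J] [IsFiltered J] {F : J ⥤ CommRingCat.{u}} {c : Cocone F} (hc : IsColimit c)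

include hc

lemma exists_lift {ι : Type*} [Finite ι] (x : ι → c.pt) :
    ∃ (j : J) (y : ι → F.obj j), ∀ i, c.ι.app j (y i) = x i := by
  classical
  cases nonempty_fintype ι
  have h : ∀ s : Finset ι, ∃ j : J, ∀ i ∈ s, ∃ y : F.obj j, c.ι.app j y = x i := fun s => by
    induction s using Finset.induction_on with
    | empty => exact ⟨IsFiltered.nonempty.some, fun i hi => absurd hi (Finset.notMem_empty i)⟩
    | insert i s _ ih =>
      obtain ⟨j, hj⟩ := ih
      obtain ⟨l, z, hz⟩ := Concrete.isColimit_exists_rep F hc (x i)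
      refine ⟨IsFiltered.max j l, fun k hk => ?_⟩
      rcases Finset.mem_insert.1 hk with rfl | hk
      · exact ⟨F.map (IsFiltered.rightToMax j l) z,
          (ConcreteCategory.congr_hom (c.w (IsFiltered.rightToMax j l)) z).trans hz⟩
      · obtain ⟨y, hy⟩ := hj k hk
        exact ⟨F.map (IsFiltered.leftToMax j l) y,
          (ConcreteCategory.congr_hom (c.w (IsFiltered.leftToMax j l)) y).trans hy⟩
  obtain ⟨j, hj⟩ := h Finset.univ
  choose y hy using fun i => hj i (Finset.mem_univ i)
  exact ⟨j, y, hy⟩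

lemma exists_map_eq {ι : Type*} [Finite ι] {j : J} (y z : ι → F.obj j)
    (h : ∀ i, c.ι.app j (y i) = c.ι.app j (z i)) :
    ∃ (k : J) (g : j ⟶ k), ∀ i, F.map g (y i) = F.map g (z i) := by
  classical
  cases nonempty_fintype ι
  have h' : ∀ s : Finset ι, ∃ (k : J) (g : j ⟶ k), ∀ i ∈ s, F.map g (y i) = F.map g (z i) := fun s => by
    induction s using Finset.induction_on with
    | empty => exact ⟨j, 𝟙 j, fun i hi => absurd hi (Finset.notMem_empty i)⟩
    | insert i s _ ih =>
      obtain ⟨k, g, hg⟩ := ih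
      have he : c.ι.app k (F.map g (y i)) = c.ι.app k (F.map g (z i)) :=
        (ConcreteCategory.congr_hom (c.w g) (y i)).trans
          ((h i).trans (ConcreteCategory.congr_hom (c.w g) (z i)).symm)
      obtain ⟨l, t, ht⟩ := (Types.FilteredColimit.isColimit_eq_iff'
        (isColimitOfPreserves (forget CommRingCat.{u}) hc) _ _).1 he
      refine ⟨l, g ≫ t, fun m hm => ?_⟩
      have e : ∀ a, F.map (g ≫ t) a = F.map t (F.map g a) := fun a => by rw [F.map_comp]; rfl
      rcases Finset.mem_insert.1 hm with rfl | hm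
      · rw [e, e]; exact ht
      · rw [e, e, hg m hm]
  obtain ⟨k, g, hg⟩ := h' Finset.univ
  exact ⟨k, g, fun i => hg i (Finset.mem_univ i)⟩

end Colimit

variable {A : Type u} [CommRing A] {n : ℕ}

/-- Idempotents and differentials presenting a complex of finite projective modules. -/
structure Data (A : Type u) [CommRing A] (n : ℕ) where
  /-- the idempotents -/
  e : ℤ → Matrix (Fin n) (Fin n) A
  /-- the differentials -/
  D : ℤ → Matrix (Fin n) (Fin n) A
  idem : ∀ i, e i * e i = e i
  left : ∀ i, e (i + 1) * D i = D i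
  right : ∀ i, D i * e i = D i
  sq : ∀ i, D (i + 1) * D i = 0

namespace Data

variable (T : Data A n)

/-- The terms. -/
noncomputable abbrev P (i : ℤ) : Submodule A (Fin n → A) := LinearMap.range (Matrix.toLin' (T.e i))

lemma e_apply {i : ℤ} (x : T.P i) : Matrix.toLin' (T.e i) (x : Fin n → A) = x := by
  obtain ⟨v, hv⟩ := x.2
  rw [← hv, ← LinearMap.comp_apply, ← Matrix.toLin'_mul, T.idem]

lemma D_mem (i : ℤ) (x : Fin n → A) : Matrix.toLin' (T.D i) x ∈ T.P (i + 1) :=
  ⟨Matrix.toLin' (T.D i) x, by rw [← LinearMap.comp_apply, ← Matrix.toLin'_mul, T.left]⟩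

/-- The differential. -/
noncomputable def d (i : ℤ) : T.P i →ₗ[A] T.P (i + 1) :=
  ((Matrix.toLin' (T.D i)).codRestrict _ (T.D_mem i)).comp (T.P i).subtype

/-- The complex. -/
noncomputable def cx : DRing.Cx A :=
  CochainComplex.of (fun i => ModuleCat.of A (T.P i)) (fun i => ModuleCat.ofHom (T.d i)) fun i => by
    refine ModuleCat.hom_ext (LinearMap.ext fun x => Subtype.ext ?_)
    show Matrix.toLin' (T.D (i + 1)) (Matrix.toLin' (T.D i) (x : Fin n → A)) = 0
    rw [← LinearMap.comp_apply, ← Matrix.toLin'_mul, T.sq, map_zero, LinearMap.zero_apply]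

lemma finite_projective : DRing.TermwiseFiniteProjective T.cx := fun i => by
  show Module.Finite A (T.P i) ∧ Module.Projective A (T.P i)
  exact ⟨Module.Finite.range _, Module.Projective.of_split (T.P i).subtype
    (Matrix.toLin' (T.e i)).rangeRestrict (LinearMap.ext fun x => Subtype.ext (T.e_apply x))⟩

lemma vanishesOutside {a b : ℤ} (h : ∀ i, i < a ∨ b < i → T.e i = 0) : DRing.VanishesOutside T.cx a b :=
  fun i hi => by
  haveI : Subsingleton (T.P i) := ⟨fun x y => Subtype.ext (by
    rw [← T.e_apply x, ← T.e_apply y, h i hi, map_zero, LinearMap.zero_apply, LinearMap.zero_apply])⟩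
  exact ModuleCat.isZero_of_subsingleton (ModuleCat.of A (T.P i))

variable {R : Type u} [CommRing R] (φ : A →+* R) (E : DRing.Cx R) (s : ∀ i, E.X i →ₗ[R] (Fin n → R))
  (r : ∀ i, (Fin n → R) →ₗ[R] E.X i) (hrs : ∀ i x, r i (s i x) = x)
  (he : ∀ i, Matrix.toLin' ((T.e i).map φ) = (s i).comp (r i))
  (hD : ∀ i, Matrix.toLin' ((T.D i).map φ) = ((s (i + 1)).comp (E.d i (i + 1)).hom).comp (r i))

omit hrs he hD in
lemma map_toLin' (M : Matrix (Fin n) (Fin n) A) (x : Fin n → A) :
    φ ∘ Matrix.toLin' M x = Matrix.toLin' (M.map φ) (φ ∘ x) := by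
  funext k
  simp only [Matrix.toLin'_apply, Function.comp_apply]
  exact RingHom.map_mulVec φ M x k

/-- The comparison map, before adjunction. -/
noncomputable def toE (i : ℤ) : ModuleCat.of A (T.P i) ⟶ (ModuleCat.restrictScalars φ).obj (E.X i) :=
  ModuleCat.ofHom (Y := (ModuleCat.restrictScalars φ).obj (E.X i))
    { toFun := fun x => r i (φ ∘ (x : Fin n → A))
      map_add' := fun x y => by
        show r i (φ ∘ ((x : Fin n → A) + (y : Fin n → A))) = _
        rw [show φ ∘ ((x : Fin n → A) + (y : Fin n → A)) = φ ∘ (x : Fin n → A) + φ ∘ (y : Fin n → A) from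
          funext fun k => map_add φ _ _, map_add]
        rfl
      map_smul' := fun a x => by
        show r i (φ ∘ (a • (x : Fin n → A))) = φ a • (r i (φ ∘ (x : Fin n → A)) : E.X i)
        rw [show φ ∘ (a • (x : Fin n → A)) = φ a • (φ ∘ (x : Fin n → A)) from
          funext fun k => map_mul φ _ _, map_smul] }

/-- The comparison map. -/
noncomputable def toE' (i : ℤ) : (ModuleCat.extendScalars φ).obj (ModuleCat.of A (T.P i)) ⟶ E.X i :=
  (ModuleCat.ExtendRestrictScalarsAdj.homEquiv φ).symm (T.toE φ E r i)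

omit hrs he hD in
lemma toE'_tmul (i : ℤ) (x : T.P i) :
    T.toE' φ E r i ((1 : R) ⊗ₜ[A,φ] x) = r i (φ ∘ (x : Fin n → A)) :=
  ConcreteCategory.congr_hom
    ((ModuleCat.ExtendRestrictScalarsAdj.homEquiv φ).apply_symm_apply (T.toE φ E r i)) x

/-- The columns of the idempotents. -/
noncomputable def col (i : ℤ) (k : Fin n) : T.P i :=
  (Matrix.toLin' (T.e i)).rangeRestrict (Pi.single k 1)

omit hrs he hD in
lemma sum_col (i : ℤ) (x : T.P i) : ∑ k, (x : Fin n → A) k • T.col i k = x := by
  refine Subtype.ext ?_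
  rw [AddSubmonoidClass.coe_finsetSum]
  conv_rhs => rw [← T.e_apply x, pi_eq_sum_univ' (x : Fin n → A), map_sum]
  refine Finset.sum_congr rfl fun k _ => ?_
  rw [map_smul]
  rfl

/-- Linear combinations in a module of the category. -/
noncomputable def lc {X : ModuleCat.{u} R} (w : Fin n → X) : (Fin n → R) →ₗ[R] X :=
  Fintype.linearCombination R w

omit hrs he hD in
lemma lc_apply {X : ModuleCat.{u} R} (w : Fin n → X) (v : Fin n → R) : lc w v = ∑ k, v k • w k :=
  Fintype.linearCombination_apply R w v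

omit hrs he hD in
lemma map_sum_smul {X Y : ModuleCat.{u} R} (f : X ⟶ Y) (w : Fin n → X) (v : Fin n → R) :
    f (lc w v) = lc (fun k => f (w k)) v := by
  rw [lc_apply, lc_apply, map_sum]
  exact Finset.sum_congr rfl fun k _ => map_smul f.hom _ _

/-- The inverse comparison map. -/
noncomputable def fromE (i : ℤ) : E.X i ⟶ (ModuleCat.extendScalars φ).obj (ModuleCat.of A (T.P i)) :=
  ModuleCat.ofHom (Y := (ModuleCat.extendScalars φ).obj (ModuleCat.of A (T.P i)))
    ((lc fun k => (((1 : R) ⊗ₜ[A,φ] T.col i k) : (ModuleCat.extendScalars φ).obj (ModuleCat.of A (T.P i)))).comp (s i))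

omit hrs he hD in
lemma fromE_apply (i : ℤ) (v : E.X i) :
    T.fromE φ E s i v =
      lc (fun k => (((1 : R) ⊗ₜ[A,φ] T.col i k) : (ModuleCat.extendScalars φ).obj (ModuleCat.of A (T.P i)))) (s i v) :=
  rfl

/-- The termwise isomorphism. -/
noncomputable def termIso (i : ℤ) :
    (ModuleCat.extendScalars φ).obj (ModuleCat.of A (T.P i)) ≅ E.X i where
  hom := T.toE' φ E r i
  inv := T.fromE φ E s i
  hom_inv_id := by
    refine ModuleCat.ExtendScalars.hom_ext fun x => ?_
    show T.fromE φ E s i (T.toE' φ E r i ((1 : R) ⊗ₜ[A,φ] x)) = (1 : R) ⊗ₜ[A,φ] x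
    rw [T.toE'_tmul φ E r i x, T.fromE_apply φ E s i]
    have h1 : s i (r i (φ ∘ (x : Fin n → A))) = φ ∘ (x : Fin n → A) := by
      rw [← LinearMap.comp_apply, ← he i, ← map_toLin' φ]
      exact congrArg (φ ∘ ·) (T.e_apply x)
    rw [h1, lc_apply]
    letI := φ.toAlgebra
    conv_rhs => rw [← T.sum_col i x]
    erw [TensorProduct.tmul_sum]
    refine Finset.sum_congr rfl fun k _ => ?_
    erw [TensorProduct.tmul_smul, ModuleCat.ExtendScalars.smul_tmul]
  inv_hom_id := by
    refine ModuleCat.hom_ext (LinearMap.ext fun v => ?_)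
    show T.toE' φ E r i (T.fromE φ E s i v) = v
    rw [T.fromE_apply φ E s i, map_sum_smul, lc_apply]
    have h1 : ∀ k, φ ∘ (T.col i k : Fin n → A) = s i (r i (Pi.single k 1)) := fun k => by
      show φ ∘ Matrix.toLin' (T.e i) (Pi.single k 1) = _
      rw [map_toLin' φ, he i, LinearMap.comp_apply]
      congr 2
      funext l
      rcases eq_or_ne l k with rfl | hl
      · simp
      · simp [hl]
    refine (Finset.sum_congr rfl fun k _ => ?_).trans (Eq.trans (map_sum ((r i).comp ((s i).comp (r i)))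
      (fun k => s i v k • (Pi.single k 1 : Fin n → R)) Finset.univ).symm ?_)
    · erw [T.toE'_tmul φ E r i, h1]
      simp only [LinearMap.comp_apply, map_smul]
    · rw [← pi_eq_sum_univ' (s i v)]
      simp only [LinearMap.comp_apply, hrs]

omit he in
include hrs hD in
lemma comm (i : ℤ) :
    T.toE' φ E r i ≫ E.d i (i + 1) =
      (ModuleCat.extendScalars φ).map (ModuleCat.ofHom (T.d i)) ≫ T.toE' φ E r (i + 1) := by
  refine ModuleCat.ExtendScalars.hom_ext fun x => ?_
  rw [ModuleCat.comp_apply, ModuleCat.comp_apply]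
  refine (congrArg (E.d i (i + 1)) (T.toE'_tmul φ E r i x)).trans
    (Eq.trans ?_ ((congrArg (T.toE' φ E r (i + 1))
      (ModuleCat.ExtendScalars.map_tmul φ (ModuleCat.ofHom (T.d i)) 1 x)).trans
        (T.toE'_tmul φ E r (i + 1) (T.d i x))).symm)
  show _ = r (i + 1) (φ ∘ Matrix.toLin' (T.D i) (x : Fin n → A))
  rw [map_toLin' φ, hD i, LinearMap.comp_apply, LinearMap.comp_apply, hrs]

include hrs he hD in
/-- Base change of the model. -/
theorem nonempty_baseChange_iso :
    Nonempty (((ModuleCat.extendScalars φ).mapHomologicalComplex (ComplexShape.up ℤ)).obj T.cx ≅ E) := by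
  refine ⟨HomologicalComplex.Hom.isoOfComponents (fun i => T.termIso φ E s r hrs he i) fun i j hij => ?_⟩
  obtain rfl : i + 1 = j := hij
  refine (T.comm φ E s r hrs hD i).trans (congrArg (· ≫ T.toE' φ E r (i + 1)) ?_)
  rw [Functor.mapHomologicalComplex_obj_d]
  exact congrArg (ModuleCat.extendScalars φ).map
    (CochainComplex.of_d (fun i => ModuleCat.of A (T.P i)) (fun i => ModuleCat.ofHom (T.d i)) i).symm

end Data

/-- A perfect complex descends to some stage. -/
theorem exists_descends {J : Type u} [SmallCategory J] [IsFiltered J] {F : J ⥤ CommRingCat.{u}} {c : Cocone F}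
    (hc : IsColimit c) [∀ j : J, DRing.HasLBaseChange (c.ι.app j).hom] (K : Dual.D c.pt)
    (hK : DRing.IsPerfect c.pt K) :
    ∃ (j : J) (Kj : Dual.D (F.obj j)), DRing.IsPerfect (F.obj j) Kj ∧
      Nonempty ((DRing.LBaseChange (c.ι.app j).hom).obj Kj ≅ K) := by
  classical
  obtain ⟨E, a, b, hab, hE, ⟨eK⟩⟩ := hK
  -- uniform presentations
  have hgen : ∀ i : Finset.Icc a b, ∃ N : ℕ, ∀ n, N ≤ n →
      ∃ r : (Fin n → c.pt) →ₗ[c.pt] E.X i.1, Function.Surjective r := fun i => by
    haveI := (hE i.1).1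
    obtain ⟨N, f, hf⟩ := Module.Finite.exists_fin' c.pt (E.X i.1)
    exact ⟨N, fun n hn => ⟨f.comp (LinearMap.funLeft c.pt c.pt (Fin.castLE hn)),
      hf.comp (LinearMap.funLeft_surjective_of_injective _ _ _ (Fin.castLE_injective hn))⟩⟩
  choose N hN using hgen
  let n : ℕ := Finset.univ.sup N
  have hpres : ∀ i : ℤ, ∃ (s : E.X i →ₗ[c.pt] (Fin n → c.pt)) (r : (Fin n → c.pt) →ₗ[c.pt] E.X i),
      (∀ x, r (s x) = x) ∧ ((i < a ∨ b < i) → s = 0) := fun i => by
    rcases Classical.em (i < a ∨ b < i) with hi | hi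
    · haveI := ModuleCat.subsingleton_of_isZero (hab i hi)
      exact ⟨0, 0, fun x => Subsingleton.elim _ _, fun _ => rfl⟩
    · obtain ⟨r, hr⟩ := hN ⟨i, Finset.mem_Icc.2 ⟨by omega, by omega⟩⟩ n (Finset.le_sup (Finset.mem_univ _))
      haveI := (hE i).2
      obtain ⟨s, hs⟩ := Module.projective_lifting_property r LinearMap.id hr
      exact ⟨s, r, fun x => LinearMap.congr_fun hs x, fun h => absurd h hi⟩
  choose s r hrs hs0 using hpres
  let eR : ℤ → Matrix (Fin n) (Fin n) c.pt := fun i => LinearMap.toMatrix' ((s i).comp (r i))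
  let DR : ℤ → Matrix (Fin n) (Fin n) c.pt := fun i =>
    LinearMap.toMatrix' (((s (i + 1)).comp (E.d i (i + 1)).hom).comp (r i))
  have he0 : ∀ i, i < a ∨ b < i → eR i = 0 := fun i hi => by simp [eR, hs0 i hi]
  have hD0 : ∀ i, i < a ∨ b < i → DR i = 0 := fun i hi => by
    haveI := ModuleCat.subsingleton_of_isZero (hab i hi)
    have : r i = 0 := LinearMap.ext fun x => Subsingleton.elim _ _
    simp [DR, this]
  -- lift the entries
  obtain ⟨j, y, hy⟩ := exists_lift hc fun q : Finset.Icc a b × Bool × Fin n × Fin n =>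
    if q.2.1 then eR q.1.1 q.2.2.1 q.2.2.2 else DR q.1.1 q.2.2.1 q.2.2.2
  let ej : ℤ → Matrix (Fin n) (Fin n) (F.obj j) := fun i =>
    if h : i ∈ Finset.Icc a b then Matrix.of fun k l => y (⟨i, h⟩, true, k, l) else 0
  let Dj : ℤ → Matrix (Fin n) (Fin n) (F.obj j) := fun i =>
    if h : i ∈ Finset.Icc a b then Matrix.of fun k l => y (⟨i, h⟩, false, k, l) else 0
  have hej : ∀ i, (ej i).map (c.ι.app j).hom = eR i := fun i => by
    simp only [ej]
    split_ifs with h
    · refine Matrix.ext fun k l => ?_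
      exact (hy (⟨i, h⟩, true, k, l)).trans (if_pos rfl)
    · rw [he0 i (by simp only [Finset.mem_Icc] at h; omega), Matrix.map_zero _ (map_zero _)]
  have hDj : ∀ i, (Dj i).map (c.ι.app j).hom = DR i := fun i => by
    simp only [Dj]
    split_ifs with h
    · refine Matrix.ext fun k l => ?_
      exact (hy (⟨i, h⟩, false, k, l)).trans (if_neg (by simp))
    · rw [hD0 i (by simp only [Finset.mem_Icc] at h; omega), Matrix.map_zero _ (map_zero _)]
  -- the relations
  have hidem : ∀ i, eR i * eR i = eR i := fun i => by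
    rw [← LinearMap.toMatrix'_comp]
    congr 1
    exact LinearMap.ext fun x => congrArg (s i) (hrs i _)
  have hleft : ∀ i, eR (i + 1) * DR i = DR i := fun i => by
    rw [← LinearMap.toMatrix'_comp]
    congr 1
    exact LinearMap.ext fun x => congrArg (s (i + 1)) (hrs (i + 1) _)
  have hright : ∀ i, DR i * eR i = DR i := fun i => by
    rw [← LinearMap.toMatrix'_comp]
    congr 1
    exact LinearMap.ext fun x => congrArg (fun z => s (i + 1) (E.d i (i + 1) z)) (hrs i _)
  have hsq : ∀ i, DR (i + 1) * DR i = 0 := fun i => by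
    rw [← LinearMap.toMatrix'_comp]
    refine (congrArg LinearMap.toMatrix' (LinearMap.ext fun x => ?_)).trans (map_zero _)
    show s (i + 1 + 1) (E.d (i + 1) (i + 1 + 1) (r (i + 1) (s (i + 1) (E.d i (i + 1) (r i x))))) = 0
    rw [hrs, show E.d (i + 1) (i + 1 + 1) (E.d i (i + 1) (r i x)) = 0 from
      ConcreteCategory.congr_hom (E.d_comp_d i (i + 1) (i + 1 + 1)) (r i x), map_zero]
  let lhs : Finset.Icc a b → Fin 4 → Matrix (Fin n) (Fin n) (F.obj j) := fun i =>
    ![ej i * ej i, ej (i + 1) * Dj i, Dj i * ej i, Dj (i + 1) * Dj i]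
  let rhs : Finset.Icc a b → Fin 4 → Matrix (Fin n) (Fin n) (F.obj j) := fun i => ![ej i, Dj i, Dj i, 0]
  obtain ⟨k, g, hg⟩ := exists_map_eq hc (fun q : Finset.Icc a b × Fin 4 × Fin n × Fin n => lhs q.1 q.2.1 q.2.2.1 q.2.2.2)
    (fun q => rhs q.1 q.2.1 q.2.2.1 q.2.2.2) fun ⟨i, m, p, q⟩ => by
      suffices h : (lhs i m).map (c.ι.app j).hom = (rhs i m).map (c.ι.app j).hom from congrFun₂ h p q
      fin_cases m
      · simp [lhs, rhs, Matrix.map_mul, hej, hidem]
      · simp [lhs, rhs, Matrix.map_mul, hej, hDj, hleft]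
      · simp [lhs, rhs, Matrix.map_mul, hej, hDj, hright]
      · simp [lhs, rhs, Matrix.map_mul, hDj, hsq]
  let ψ : F.obj j →+* F.obj k := (F.map g).hom
  have hrel : ∀ (i : Finset.Icc a b) (m : Fin 4), (lhs i m).map ψ = (rhs i m).map ψ := fun i m =>
    Matrix.ext fun p q => hg (i, m, p, q)
  have hout : ∀ i, i ∉ Finset.Icc a b → ej i = 0 ∧ Dj i = 0 := fun i hi => ⟨dif_neg hi, dif_neg hi⟩
  let T : Data (F.obj k) n :=
    { e := fun i => (ej i).map ψ
      D := fun i => (Dj i).map ψ
      idem := fun i => by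
        rcases Classical.em (i ∈ Finset.Icc a b) with h | h
        · rw [← Matrix.map_mul]; exact hrel ⟨i, h⟩ 0
        · simp [(hout i h).1]
      left := fun i => by
        rcases Classical.em (i ∈ Finset.Icc a b) with h | h
        · rw [← Matrix.map_mul]; exact hrel ⟨i, h⟩ 1
        · simp [(hout i h).2]
      right := fun i => by
        rcases Classical.em (i ∈ Finset.Icc a b) with h | h
        · rw [← Matrix.map_mul]; exact hrel ⟨i, h⟩ 2
        · simp [(hout i h).2]
      sq := fun i => by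
        rcases Classical.em (i ∈ Finset.Icc a b) with h | h
        · rw [← Matrix.map_mul]; exact (hrel ⟨i, h⟩ 3).trans (Matrix.map_zero _ (map_zero _))
        · simp [(hout i h).2] }
  have hcomp : (c.ι.app k).hom.comp ψ = (c.ι.app j).hom :=
    congrArg CommRingCat.Hom.hom (c.w g)
  have hTe : ∀ i, (T.e i).map (c.ι.app k).hom = eR i := fun i => by
    rw [← hej i, ← hcomp]; exact Matrix.map_map
  have hTD : ∀ i, (T.D i).map (c.ι.app k).hom = DR i := fun i => by
    rw [← hDj i, ← hcomp]; exact Matrix.map_map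
  obtain ⟨β⟩ := T.nonempty_baseChange_iso (c.ι.app k).hom E s r hrs
    (fun i => by rw [hTe i]; exact Matrix.toLin'_toMatrix' _)
    (fun i => by rw [hTD i]; exact Matrix.toLin'_toMatrix' _)
  have hv : DRing.VanishesOutside T.cx a b := T.vanishesOutside fun i hi => by
    show (ej i).map ψ = 0
    rw [(hout i (by simp only [Finset.mem_Icc]; omega)).1, Matrix.map_zero _ (map_zero _)]
  have hflat : DRing.TermwiseFlat T.cx := fun i => haveI := (T.finite_projective i).2; inferInstance
  obtain ⟨e'⟩ := DRingLBase.nonempty_lbase_iso (c.ι.app k).hom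
    (DRingTor.isKF_of_flat hflat fun i hi => hv i (Or.inr hi))
  exact ⟨k, DRing.toD T.cx, ⟨T.cx, a, b, hv, T.finite_projective, ⟨Iso.refl _⟩⟩,
    ⟨e' ≪≫ DerivedCategory.Q.mapIso β ≪≫ eK⟩⟩

end Groth.Agent.H9Misc.DRingPerfDescend
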