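import Mathlib
import Groth.Agent.H9Misc.DRingPC
import Groth.Agent.Triage.NoethPC
import Groth.Agent.S0563

/-! Perfect complexes over regular rings. -/

set_option linter.style.haveILetI false

universe u

open CategoryTheory CategoryTheory.Category CategoryTheory.Limits

attribute [local instance] HasDerivedCategory.standard

namespace Groth.Agent.H9Misc.DRingRegular

open DRingTor

variable {R : Type u} [CommRing R]

/-- The localised syzygy sequence. -/
lemma exists_localized_ses (E : DRing.Cx R) (i j : ℤ) (hij : i + 1 = j) (hH : IsZero (E.homology i))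
    (p : PrimeSpectrum R) :
    ∃ S : ShortComplex (ModuleCat.{u} (Localization.AtPrime p.asIdeal)), S.ShortExact ∧
      S.X₁ = ModuleCat.of _ (LocalizedModule p.asIdeal.primeCompl (E.opcycles i)) ∧
      S.X₂ = ModuleCat.of _ (LocalizedModule p.asIdeal.primeCompl (E.X j)) ∧
      S.X₃ = ModuleCat.of _ (LocalizedModule p.asIdeal.primeCompl (E.opcycles j)) := by
  haveI : Mono (E.fromOpcycles i j) := Preadditive.mono_of_cancel_zero _ fun {Z} g hg => by
    obtain ⟨l, hl⟩ := KernelFork.IsLimit.lift' (E.homologyIsKernel i j (by simp [← hij])) g hg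
    rw [← hl, hH.eq_of_tgt l 0, zero_comp]
  have hex : Function.Exact (E.fromOpcycles i j).hom (E.pOpcycles j).hom := by
    have h := (ShortComplex.ShortExact.moduleCat_exact_iff_function_exact _).1
      (ShortComplex.exact_of_g_is_cokernel (ShortComplex.mk (E.d i j) (E.pOpcycles j) (E.d_pOpcycles _ _))
        (E.opcyclesIsCokernel i j (by simp [← hij])))
    intro x
    refine (h x).trans ⟨fun ⟨y, hy⟩ => ⟨(E.pOpcycles i).hom y, ?_⟩, fun ⟨y, hy⟩ => ?_⟩
    · exact (ConcreteCategory.congr_hom (E.p_fromOpcycles i j) y).trans hy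
    · obtain ⟨z, rfl⟩ := (ModuleCat.epi_iff_surjective (E.pOpcycles i)).1 inferInstance y
      exact ⟨z, (ConcreteCategory.congr_hom (E.p_fromOpcycles i j) z).symm.trans hy⟩
  let S := p.asIdeal.primeCompl
  have hi := LocalizedModule.map_injective S (E.fromOpcycles i j).hom
    ((ModuleCat.mono_iff_injective _).1 inferInstance)
  have hs := LocalizedModule.map_surjective S (E.pOpcycles j).hom
    ((ModuleCat.epi_iff_surjective (E.pOpcycles j)).1 inferInstance)
  have he := LocalizedModule.map_exact S (E.fromOpcycles i j).hom (E.pOpcycles j).hom hex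
  refine ⟨ShortComplex.mk (ModuleCat.ofHom (LocalizedModule.map S (E.fromOpcycles i j).hom))
    (ModuleCat.ofHom (LocalizedModule.map S (E.pOpcycles j).hom))
    (ModuleCat.hom_ext (LinearMap.ext fun x => (he _).2 ⟨x, rfl⟩)), ?_, rfl, rfl, rfl⟩
  exact { exact := (ShortComplex.ShortExact.moduleCat_exact_iff_function_exact _).2 he
          mono_f := (ModuleCat.mono_iff_injective _).2 hi
          epi_g := (ModuleCat.epi_iff_surjective _).2 hs }

/-- Projective dimension of localised syzygies. -/
lemma pd_step (E : DRing.Cx R) (i j : ℤ) (hij : i + 1 = j) (hH : IsZero (E.homology i))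
    (hf : Module.Projective R (E.X j)) (p : PrimeSpectrum R) (k : ℕ) (hk : 1 ≤ k)
    (h : HasProjectiveDimensionLT (ModuleCat.of (Localization.AtPrime p.asIdeal)
      (LocalizedModule p.asIdeal.primeCompl (E.opcycles j))) (k + 1)) :
    HasProjectiveDimensionLT (ModuleCat.of (Localization.AtPrime p.asIdeal)
      (LocalizedModule p.asIdeal.primeCompl (E.opcycles i))) k := by
  obtain ⟨S, hS, h₁, h₂, h₃⟩ := exists_localized_ses E i j hij hH p
  haveI : Module.Projective (Localization.AtPrime p.asIdeal) S.X₂ := by
    rw [h₂]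
    exact Module.projective_of_isLocalizedModule p.asIdeal.primeCompl
      (LocalizedModule.mkLinearMap p.asIdeal.primeCompl (E.X j))
  haveI : Projective S.X₂ := (IsProjective.iff_projective _).1 inferInstance
  rw [← h₁]
  refine hS.hasProjectiveDimensionLT_X₁ k ?_ (h₃ ▸ h)
  exact hasProjectiveDimensionLT_of_ge S.X₂ 1 k hk

variable [IsNoetherianRing R]
  (hreg : ∀ p : PrimeSpectrum R, IsRegularLocalRing (Localization.AtPrime p.asIdeal))

include hreg in
theorem isPerfectModule_of_finite (M : Type u) [AddCommGroup M] [Module R M] [Module.Finite R M] :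
    DRing.IsPerfectModule R M := by
  obtain ⟨E, b, hb, hf, ⟨e⟩⟩ := Triage.NoethPC.pc' (A := R) M
  have hH : ∀ i : ℤ, i < 0 → IsZero (E.homology i) := fun i hi => by
    obtain ⟨eH⟩ := hd_iso e i
    exact IsZero.of_iso (DerivedCategory.isZero_of_isGE _ 0 i hi) eH.symm
  haveI hfin : ∀ i, Module.Finite R (E.opcycles i) := fun i =>
    haveI := (hf i).1
    Module.Finite.of_surjective (E.pOpcycles i).hom
      ((ModuleCat.epi_iff_surjective (E.pOpcycles i)).1 inferInstance)
  haveI hfp : ∀ i, Module.FinitePresentation R (E.opcycles i) := fun i =>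
    Module.finitePresentation_of_finite R _
  have hproj : ∀ i, Module.Projective R (E.X i) := fun i => have := (hf i).2; inferInstance
  let U : ℕ → Set (PrimeSpectrum R) := fun n => Module.freeLocus R (E.opcycles (-(n : ℤ)))
  have hpd : ∀ (p : PrimeSpectrum R) (n : ℕ), p ∈ U n ↔ HasProjectiveDimensionLT
      (ModuleCat.of (Localization.AtPrime p.asIdeal)
        (LocalizedModule p.asIdeal.primeCompl (E.opcycles (-(n : ℤ))))) 1 := by
    intro p n
    constructor
    · intro h
      have hfree : Module.Free (Localization.AtPrime p.asIdeal)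
          (LocalizedModule p.asIdeal.primeCompl (E.opcycles (-(n : ℤ)))) := h
      exact projective_iff_hasProjectiveDimensionLT_one.1
        ((IsProjective.iff_projective _).1 (@Module.Projective.of_free _ _ _ _ _ hfree))
    · intro h
      have hP : Module.Projective (Localization.AtPrime p.asIdeal)
          (LocalizedModule p.asIdeal.primeCompl (E.opcycles (-(n : ℤ)))) :=
        (IsProjective.iff_projective _).2 (projective_iff_hasProjectiveDimensionLT_one.2 h)
      haveI hFl : Module.Flat (Localization.AtPrime p.asIdeal)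
          (LocalizedModule p.asIdeal.primeCompl (E.opcycles (-(n : ℤ)))) :=
        @Module.Flat.of_projective _ _ _ _ _ hP
      exact Module.free_of_flat_of_isLocalRing
  have hmono : ∀ (p : PrimeSpectrum R) (n : ℕ), p ∈ U n → p ∈ U (n + 1) := fun p n h =>
    (hpd p (n + 1)).2 (pd_step E _ (-(n : ℤ)) (by push_cast; ring) (hH _ (by omega)) (hproj _) p 1 le_rfl
      (haveI := (hpd p n).1 h; hasProjectiveDimensionLT_of_ge _ 1 2 (by omega)))
  have hmono' : Monotone U := monotone_nat_of_le_succ fun n p h => hmono p n h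
  have hcov : ∀ p : PrimeSpectrum R, ∃ n, p ∈ U n := by
    intro p
    haveI := hreg p
    refine ⟨(IsLocalRing.maximalIdeal (Localization.AtPrime p.asIdeal)).spanFinrank, ?_⟩
    set d := (IsLocalRing.maximalIdeal (Localization.AtPrime p.asIdeal)).spanFinrank with hd
    have hdim : ringKrullDim (Localization.AtPrime p.asIdeal) = d :=
      ((isRegularLocalRing_iff _).mp (hreg p)).symm
    have key : ∀ n : ℕ, n ≤ d → HasProjectiveDimensionLT (ModuleCat.of (Localization.AtPrime p.asIdeal)
        (LocalizedModule p.asIdeal.primeCompl (E.opcycles (-(n : ℤ))))) (d + 1 - n) := by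
      intro n
      induction n with
      | zero => exact fun _ => Groth.Agent.S0563.result _ d hdim _
      | succ n ih =>
        intro hn
        refine pd_step E _ (-(n : ℤ)) (by push_cast; ring) (hH _ (by omega)) (hproj _) p _ (by omega) ?_
        rw [show d + 1 - (n + 1) + 1 = d + 1 - n by omega]
        exact ih (by omega)
    rw [hpd]
    have := key d le_rfl
    rwa [show d + 1 - d = 1 by omega] at this
  obtain ⟨n, hn⟩ : ∃ n, U n = Set.univ := by
    obtain ⟨t, ht⟩ := isCompact_univ.elim_finite_subcover U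
      (fun n => Module.isOpen_freeLocus) (fun p _ => Set.mem_iUnion.2 (hcov p))
    refine ⟨t.sup id, Set.eq_univ_of_forall fun p => ?_⟩
    obtain ⟨m, hm, hpm⟩ := Set.mem_iUnion₂.1 (ht (Set.mem_univ p))
    exact hmono' (Finset.le_sup (f := id) hm) hpm
  haveI hPn : Module.Projective R (E.opcycles (-(n : ℤ))) := Module.freeLocus_eq_univ_iff.1 hn
  obtain ⟨a, ha⟩ : ∃ a : ℤ, a = -(n : ℤ) := ⟨_, rfl⟩
  rw [← ha] at hPn
  haveI : CochainComplex.IsGE E a := (CochainComplex.isGE_iff E a).2 fun i hi =>
    (HomologicalComplex.exactAt_iff_isZero_homology _ i).2 (hH i (by omega))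
  let emb := ComplexShape.embeddingUpIntGE a
  refine ⟨CochainComplex.truncGE E a, a, b, fun i hi => ?_, fun i => ?_,
    ⟨(asIso (DerivedCategory.Q.map (CochainComplex.πTruncGE E a))).symm ≪≫ e⟩⟩
  · rcases hi with hi | hi
    · exact CochainComplex.isZero_of_isStrictlyGE _ a i hi
    · rcases lt_or_ge i a with hia | hia
      · exact CochainComplex.isZero_of_isStrictlyGE _ a i hia
      obtain ⟨m, rfl⟩ : ∃ m : ℕ, a + m = i := ⟨(i - a).toNat, by omega⟩
      rcases Nat.eq_zero_or_pos m with rfl | hm
      · refine IsZero.of_iso ?_ (HomologicalComplex.truncGEXIsoOpcycles E emb (i := 0) rfl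
          ((ComplexShape.boundaryGE_embeddingUpIntGE_iff a 0).2 rfl))
        exact IsZero.of_epi (E.pOpcycles (a + (0 : ℕ))) (hb _ hi)
      · exact (hb _ hi).of_iso (HomologicalComplex.truncGEXIso E emb (i := m) rfl
          (fun hb => by have := (ComplexShape.boundaryGE_embeddingUpIntGE_iff a m).1 hb; omega))
  · rcases lt_or_ge i a with hia | hia
    · haveI := ModuleCat.subsingleton_of_isZero
        (CochainComplex.isZero_of_isStrictlyGE (CochainComplex.truncGE E a) a i hia)
      exact ⟨inferInstance, inferInstance⟩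
    obtain ⟨m, rfl⟩ : ∃ m : ℕ, a + m = i := ⟨(i - a).toNat, by omega⟩
    rcases Nat.eq_zero_or_pos m with rfl | hm
    · have hp : Module.Projective R (E.opcycles (a + (0 : ℕ))) := by
        rw [Nat.cast_zero, add_zero]; assumption
      haveI : Module.Projective R (E.opcycles (emb.f 0)) := hp
      haveI : Module.Finite R (E.opcycles (emb.f 0)) := hfin _
      let t := (HomologicalComplex.truncGEXIsoOpcycles E emb (i := 0) rfl
        ((ComplexShape.boundaryGE_embeddingUpIntGE_iff a 0).2 rfl)).toLinearEquiv.symm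
      exact ⟨Module.Finite.equiv t, Module.Projective.of_equiv t⟩
    · haveI : Module.Projective R (E.X (emb.f m)) := hproj (a + m)
      haveI : Module.Finite R (E.X (emb.f m)) := (hf (a + m)).1
      let t := (HomologicalComplex.truncGEXIso E emb (i := m) rfl
        (fun hb => by have := (ComplexShape.boundaryGE_embeddingUpIntGE_iff a m).1 hb; omega)).toLinearEquiv.symm
      exact ⟨Module.Finite.equiv t, Module.Projective.of_equiv t⟩

omit hreg in
theorem finite_homology_of_isPerfect {K : Dual.D R} (hK : DRing.IsPerfect R K) :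
    (∃ a b : ℤ, ∀ i : ℤ, (i < a ∨ b < i) → Subsingleton (Dual.HD R K i)) ∧
      ∀ i : ℤ, Module.Finite R (Dual.HD R K i) := by
  obtain ⟨P, a, b, hz, hP, ⟨e⟩⟩ := hK
  refine ⟨⟨a, b, fun i hi => ?_⟩, fun i => ?_⟩
  · obtain ⟨eH⟩ := hd_iso e i
    exact ModuleCat.subsingleton_of_isZero
      ((ShortComplex.isZero_homology_of_isZero_X₂ _ (hz i hi)).of_iso eH)
  · obtain ⟨eH⟩ := hd_iso e i
    haveI := (hP i).1
    haveI : Module.Finite R (P.opcycles i) := Module.Finite.of_surjective (P.pOpcycles i).hom
      ((ModuleCat.epi_iff_surjective (P.pOpcycles i)).1 inferInstance)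
    haveI : Module.Finite R (P.homology i) := Module.Finite.of_injective (P.homologyι i).hom
      ((ModuleCat.mono_iff_injective _).1 inferInstance)
    exact Module.Finite.equiv eH.toLinearEquiv.symm

include hreg in
theorem isPerfectModule_iff (M : Type u) [AddCommGroup M] [Module R M] :
    DRing.IsPerfectModule R M ↔ Module.Finite R M := by
  refine ⟨fun h => ?_, fun h => isPerfectModule_of_finite hreg M⟩
  haveI : Module.Finite R ((DerivedCategory.singleFunctor (ModuleCat.{u} R) 0 ⋙
      DerivedCategory.homologyFunctor (ModuleCat.{u} R) 0).obj (ModuleCat.of R M)) :=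
    (finite_homology_of_isPerfect h).2 0
  exact Module.Finite.equiv ((DerivedCategory.singleFunctorCompHomologyFunctorIso (ModuleCat.{u} R) 0).app
    (ModuleCat.of R M)).toLinearEquiv

include hreg in
theorem isPerfect_iff (K : Dual.D R) : DRing.IsPerfect R K ↔
    (∃ a b : ℤ, ∀ i : ℤ, (i < a ∨ b < i) → Subsingleton (Dual.HD R K i)) ∧
      ∀ i : ℤ, Module.Finite R (Dual.HD R K i) := by
  refine ⟨finite_homology_of_isPerfect, fun ⟨⟨a, b, hz⟩, hfin⟩ =>
    DRingPC.isPerfect_of_homology K a b hz fun i => ?_⟩
  haveI := hfin i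
  exact isPerfectModule_of_finite hreg _

end Groth.Agent.H9Misc.DRingRegular
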