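import Groth.Agent.H9Misc.DRingRelPC2
import Mathlib

/-! Relative pseudo-coherence and localization. -/

set_option linter.style.haveILetI false

universe u

open CategoryTheory CategoryTheory.Limits
open scoped TensorProduct

attribute [local instance] HasDerivedCategory.standard

namespace Groth.Agent.H9Misc.DRingRelPC

open DRingTor DRingRestrict

variable {P B : Type u} [CommRing P] [CommRing B]

open Polynomial in
lemma pcHom_quotient_regular (g : P[X]) (hg : ∀ p : P[X], g * p = 0 → p = 0) : PCHom (AdjoinRoot.mk g) := by
  let φ := AdjoinRoot.mk g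
  let M := (ModuleCat.restrictScalars φ).obj (ModuleCat.of (AdjoinRoot g) (AdjoinRoot g))
  let π : (Fin 1 → P[X]) →ₗ[P[X]] M :=
    { toFun := fun f => (show AdjoinRoot g from φ (f 0))
      map_add' := fun f g' => φ.map_add (f 0) (g' 0)
      map_smul' := fun r f => φ.map_mul r (f 0) }
  have hπ : Function.Surjective π := fun r => by
    obtain ⟨q, hq⟩ := AdjoinRoot.mk_surjective (g := g) (show AdjoinRoot g from r)
    exact ⟨fun _ => q, hq⟩
  have hmem : ∀ f : Fin 1 → P[X], f ∈ LinearMap.ker π ↔ g ∣ f 0 := fun f => AdjoinRoot.mk_eq_zero
  let e : P[X] →ₗ[P[X]] LinearMap.ker π :=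
    { toFun := fun p => ⟨fun _ => g * p, (hmem _).2 (dvd_mul_right _ _)⟩
      map_add' := fun p q => Subtype.ext (funext fun _ => mul_add _ _ _)
      map_smul' := fun r p => Subtype.ext (funext fun _ => by simp [mul_left_comm]) }
  have he : Function.Bijective e := by
    refine ⟨fun p q h => ?_, fun ⟨f, hf⟩ => ?_⟩
    · have h' : g * p = g * q := congrFun (congrArg Subtype.val h) (0 : Fin 1)
      exact sub_eq_zero.1 (hg _ (by rw [mul_sub, h', sub_self]))
    obtain ⟨p, hp⟩ := (hmem f).1 hf
    exact ⟨p, Subtype.ext (funext fun i => by rw [Subsingleton.elim i 0]; exact hp.symm)⟩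
  haveI : Module.Finite P[X] (LinearMap.ker π) := Module.Finite.equiv (LinearEquiv.ofBijective e he)
  haveI : Module.Free P[X] (LinearMap.ker π) := Module.Free.of_equiv (LinearEquiv.ofBijective e he)
  exact (DRingPC.pc'_iff _).2 fun m =>
    DRingPC.pc_of_presentation π hπ (Triage.NoethPC.pc_of_free (A := P[X]) (LinearMap.ker π) (m + 1))

open Polynomial in
/-- A principal localization is pseudo-coherent over the polynomial ring. -/
lemma pcHom_away (G : P) : PCHom (Polynomial.eval₂RingHom (algebraMap P (Localization.Away G))
    (IsLocalization.Away.invSelf G)) := by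
  have hreg : ∀ p : P[X], (C G * X - 1) * p = 0 → p = 0 := fun p hp => by
    ext n
    induction n with
    | zero => simpa [sub_mul, mul_assoc] using congrArg (fun q => q.coeff 0) hp
    | succ n ih =>
      have := congrArg (fun q => q.coeff (n + 1)) hp
      simp [sub_mul, mul_assoc, ih] at this
      simpa using this
  let e : AdjoinRoot (C G * X - 1) →+* Localization.Away G :=
    (Localization.awayEquivAdjoin G).symm.toRingEquiv.toRingHom
  have he : PCHom (e.comp (AdjoinRoot.mk (C G * X - 1))) :=
    (pcHom_quotient_regular _ hreg).comp (PCHom.of_bijective (Localization.awayEquivAdjoin G).symm.bijective)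
  have heq : e.comp (AdjoinRoot.mk (C G * X - 1)) = Polynomial.eval₂RingHom (algebraMap P (Localization.Away G))
      (IsLocalization.Away.invSelf G) := by
    refine Polynomial.ringHom_ext (fun a => ?_) ?_
    · show (Localization.awayEquivAdjoin G).symm (algebraMap P (AdjoinRoot (C G * X - 1)) a) = _
      rw [AlgEquiv.commutes]
      simp
    · show (Localization.awayEquivAdjoin G).symm (AdjoinRoot.mk _ X) = _
      rw [AdjoinRoot.mk_X]
      simp [Localization.awayEquivAdjoin]
  exact heq ▸ he

open MvPolynomial in
lemma pcHom_away_mv (G : P) : PCHom (MvPolynomial.eval₂Hom (algebraMap P (Localization.Away G))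
    (fun _ : Fin 1 => IsLocalization.Away.invSelf G)) := by
  let e : MvPolynomial (Fin 1) P →+* Polynomial P := (uniqueAlgEquiv P (Fin 1)).toRingEquiv.toRingHom
  have he : PCHom e := PCHom.of_bijective (uniqueAlgEquiv P (Fin 1)).bijective
  have heq : (Polynomial.eval₂RingHom (algebraMap P (Localization.Away G))
      (IsLocalization.Away.invSelf G)).comp e = MvPolynomial.eval₂Hom (algebraMap P (Localization.Away G))
      (fun _ : Fin 1 => IsLocalization.Away.invSelf G) := by
    refine MvPolynomial.ringHom_ext (fun a => ?_) fun i => ?_
    · simp [e, uniqueAlgEquiv]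
    · simp [e, uniqueAlgEquiv]
  exact heq ▸ he.comp (pcHom_away G)

section Compare

variable {L : Type u} [CommRing L] (φ : P →+* L) (G : P) (hφ : letI := φ.toAlgebra; IsLocalization.Away G L)
  (M : ModuleCat.{u} P)

include hφ

lemma exists_rep_away (z : (ModuleCat.extendScalars.{u, u, u} φ).obj M) :
    ∃ (n : ℕ) (m : M), φ G ^ n • z = (ModuleCat.extendRestrictScalarsAdj φ).unit.app M m := by
  letI := φ.toAlgebra
  haveI := hφ
  haveI : IsLocalizedModule (Submonoid.powers G) (TensorProduct.mk P L M 1) := inferInstance
  obtain ⟨⟨m, ⟨_, n, rfl⟩⟩, hm⟩ := IsLocalizedModule.surj (Submonoid.powers G) (TensorProduct.mk P L M 1) z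
  refine ⟨n, m, ?_⟩
  refine Eq.trans ?_ (hm.trans rfl)
  rw [← map_pow]
  exact algebraMap_smul L (G ^ n) (show L ⊗[P] M from z)

lemma unit_eq_zero (m : M) (h : (ModuleCat.extendRestrictScalarsAdj φ).unit.app M m = 0) :
    ∃ n : ℕ, G ^ n • m = 0 := by
  letI := φ.toAlgebra
  haveI := hφ
  haveI : IsLocalizedModule (Submonoid.powers G) (TensorProduct.mk P L M 1) := inferInstance
  obtain ⟨⟨_, n, rfl⟩, hn⟩ := (IsLocalizedModule.eq_zero_iff (Submonoid.powers G) (TensorProduct.mk P L M 1)).1 h
  exact ⟨n, hn⟩

lemma isUnit_away : IsUnit (φ G) := by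
  letI := φ.toAlgebra
  haveI := hφ
  exact IsLocalization.map_units L (⟨G, Submonoid.mem_powers G⟩ : Submonoid.powers G)

end Compare

section Theta

variable {A : Type u} [CommRing A] (α : P →+* A) (G : P)

/-- The map of localizations. -/
noncomputable def awayα : Localization.Away G →+* Localization.Away (α G) :=
  IsLocalization.Away.lift G (g := (algebraMap A (Localization.Away (α G))).comp α)
    (IsLocalization.Away.algebraMap_isUnit (α G))

lemma awayα_comp : (awayα α G).comp (algebraMap P (Localization.Away G)) =
    (algebraMap A (Localization.Away (α G))).comp α :=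
  IsLocalization.Away.lift_comp G _

/-- The unit read over `P`. -/
noncomputable def thetaAdj (M : ModuleCat.{u} A) : (ModuleCat.restrictScalars α).obj M ⟶
    (ModuleCat.restrictScalars (algebraMap P (Localization.Away G))).obj
      ((ModuleCat.restrictScalars (awayα α G)).obj
        ((ModuleCat.extendScalars.{u, u, u} (algebraMap A (Localization.Away (α G)))).obj M)) :=
  ModuleCat.ofHom (X := (ModuleCat.restrictScalars α).obj M) (Y := (ModuleCat.restrictScalars (algebraMap P (Localization.Away G))).obj
      ((ModuleCat.restrictScalars (awayα α G)).obj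
        ((ModuleCat.extendScalars.{u, u, u} (algebraMap A (Localization.Away (α G)))).obj M)))
    { toFun := fun m => (ModuleCat.extendRestrictScalarsAdj (algebraMap A (Localization.Away (α G)))).unit.app M m
      map_add' := fun x y => map_add ((ModuleCat.extendRestrictScalarsAdj
        (algebraMap A (Localization.Away (α G)))).unit.app M).hom x y
      map_smul' := fun r x => by
        refine (map_smul ((ModuleCat.extendRestrictScalarsAdj
          (algebraMap A (Localization.Away (α G)))).unit.app M).hom (α r) x).trans ?_
        exact congrArg (fun c : Localization.Away (α G) =>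
          c • (show ((ModuleCat.extendScalars.{u, u, u} (algebraMap A (Localization.Away (α G)))).obj M : Type u) from
            (ModuleCat.extendRestrictScalarsAdj (algebraMap A (Localization.Away (α G)))).unit.app M x))
          (RingHom.congr_fun (awayα_comp α G) r).symm }

/-- The comparison. -/
noncomputable def theta (M : ModuleCat.{u} A) :
    (ModuleCat.extendScalars.{u, u, u} (algebraMap P (Localization.Away G))).obj ((ModuleCat.restrictScalars α).obj M) ⟶
      (ModuleCat.restrictScalars (awayα α G)).obj
        ((ModuleCat.extendScalars.{u, u, u} (algebraMap A (Localization.Away (α G)))).obj M) :=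
  ((ModuleCat.extendRestrictScalarsAdj (algebraMap P (Localization.Away G))).homEquiv _ _).symm (thetaAdj α G M)

lemma theta_unit (M : ModuleCat.{u} A) (m : M) :
    theta α G M ((ModuleCat.extendRestrictScalarsAdj (algebraMap P (Localization.Away G))).unit.app
      ((ModuleCat.restrictScalars α).obj M) m) =
      (ModuleCat.extendRestrictScalarsAdj (algebraMap A (Localization.Away (α G)))).unit.app M m := by
  have h := ((ModuleCat.extendRestrictScalarsAdj (algebraMap P (Localization.Away G))).homEquiv
    ((ModuleCat.restrictScalars α).obj M) ((ModuleCat.restrictScalars (awayα α G)).obj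
        ((ModuleCat.extendScalars.{u, u, u} (algebraMap A (Localization.Away (α G)))).obj M))).apply_symm_apply
      (thetaAdj α G M)
  rw [Adjunction.homEquiv_unit] at h
  exact ConcreteCategory.congr_hom h m

lemma isLocalization_toAlgebra (Q : Type u) [CommRing Q] (g : Q) :
    letI := (algebraMap Q (Localization.Away g)).toAlgebra
    IsLocalization.Away g (Localization.Away g) := by
  rw [show (algebraMap Q (Localization.Away g)).toAlgebra = (inferInstance : Algebra Q (Localization.Away g)) from
    Algebra.algebra_ext _ _ fun _ => rfl]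
  infer_instance

lemma awayα_pow (n : ℕ) : awayα α G (algebraMap P (Localization.Away G) G ^ n) =
    algebraMap A (Localization.Away (α G)) (α G) ^ n := by
  rw [map_pow, ← RingHom.comp_apply (awayα α G), awayα_comp]
  rfl

lemma theta_bijective (M : ModuleCat.{u} A) : Function.Bijective (theta α G M) := by
  refine ⟨(injective_iff_map_eq_zero (theta α G M).hom).2 fun z hz => ?_, fun w => ?_⟩
  · obtain ⟨n, m, hm⟩ := exists_rep_away _ G (isLocalization_toAlgebra P G) _ z
    have h0 : (ModuleCat.extendRestrictScalarsAdj (algebraMap A (Localization.Away (α G)))).unit.app M m = 0 := by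
      rw [← theta_unit, ← hm]
      refine ((theta α G M).hom.map_smul _ z).trans ?_
      rw [hz]
      exact smul_zero _
    obtain ⟨k, hk⟩ := unit_eq_zero _ (α G) (isLocalization_toAlgebra A (α G)) M m h0
    have hu := (isUnit_away _ G (isLocalization_toAlgebra P G)).pow (n + k)
    refine (hu.smul_eq_zero).1 ?_
    rw [pow_add, mul_comm, mul_smul, hm, ← map_pow]
    refine ((map_smul ((ModuleCat.extendRestrictScalarsAdj (algebraMap P (Localization.Away G))).unit.app
      ((ModuleCat.restrictScalars α).obj M)).hom (G ^ k) m).symm).trans ?_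
    refine (congrArg ((ModuleCat.extendRestrictScalarsAdj (algebraMap P (Localization.Away G))).unit.app
      ((ModuleCat.restrictScalars α).obj M)).hom (show G ^ k • m = 0 from ?_)).trans (map_zero _)
    show α (G ^ k) • (show M from m) = (0 : M)
    rw [map_pow]
    exact hk
  · obtain ⟨n, m, hm⟩ := exists_rep_away _ (α G) (isLocalization_toAlgebra A (α G)) M w
    obtain ⟨u, hu⟩ := (isUnit_away _ G (isLocalization_toAlgebra P G)).pow n
    refine ⟨(↑u⁻¹ : Localization.Away G) • (show ((ModuleCat.extendScalars.{u, u, u} (algebraMap P
        (Localization.Away G))).obj ((ModuleCat.restrictScalars α).obj M) : Type u) from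
      (ModuleCat.extendRestrictScalarsAdj
      (algebraMap P (Localization.Away G))).unit.app ((ModuleCat.restrictScalars α).obj M) m), ?_⟩
    refine ((theta α G M).hom.map_smul _ _).trans ?_
    have h1 : awayα α G (↑u⁻¹ : Localization.Away G) * algebraMap A (Localization.Away (α G)) (α G) ^ n = 1 := by
      rw [← awayα_pow, ← map_mul, ← hu, Units.inv_mul, map_one]
    show awayα α G (↑u⁻¹ : Localization.Away G) • theta α G M _ = w
    rw [theta_unit, ← hm]
    exact (smul_smul _ _ (show ((ModuleCat.extendScalars.{u, u, u} (algebraMap A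
      (Localization.Away (α G)))).obj M : Type u) from w)).trans ((congrArg (· • _) h1).trans (one_smul _ _))

/-- Localization commutes with restriction. -/
noncomputable def thetaIso : ModuleCat.restrictScalars α ⋙
    ModuleCat.extendScalars.{u, u, u} (algebraMap P (Localization.Away G)) ≅
      ModuleCat.extendScalars.{u, u, u} (algebraMap A (Localization.Away (α G))) ⋙
        ModuleCat.restrictScalars (awayα α G) :=
  NatIso.ofComponents
    (fun M => @asIso _ _ _ _ (theta α G M) ((ConcreteCategory.isIso_iff_bijective _).2 (theta_bijective α G M)))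
    (fun {M N} f => by
      apply ((ModuleCat.extendRestrictScalarsAdj (algebraMap P (Localization.Away G))).homEquiv _ _).injective
      rw [Adjunction.homEquiv_unit, Adjunction.homEquiv_unit]
      ext m
      show theta α G N (((ModuleCat.extendScalars.{u, u, u} (algebraMap P (Localization.Away G))).map
          ((ModuleCat.restrictScalars α).map f)) ((ModuleCat.extendRestrictScalarsAdj
            (algebraMap P (Localization.Away G))).unit.app ((ModuleCat.restrictScalars α).obj M) m)) =
        ((ModuleCat.extendScalars.{u, u, u} (algebraMap A (Localization.Away (α G)))).map f)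
          (theta α G M ((ModuleCat.extendRestrictScalarsAdj
            (algebraMap P (Localization.Away G))).unit.app ((ModuleCat.restrictScalars α).obj M) m))
      rw [theta_unit]
      have h1 := ConcreteCategory.congr_hom ((ModuleCat.extendRestrictScalarsAdj
        (algebraMap P (Localization.Away G))).unit.naturality ((ModuleCat.restrictScalars α).map f)) m
      have h2 := ConcreteCategory.congr_hom ((ModuleCat.extendRestrictScalarsAdj
        (algebraMap A (Localization.Away (α G)))).unit.naturality f) m
      refine (congrArg (theta α G N) h1.symm).trans ((theta_unit α G N (f m)).trans h2))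

open MvPolynomial in
/-- Relative pseudo-coherence of a localization, on the presentation ring localized. -/
theorem away_iff {R : Type u} [CommRing R] [Algebra R A] {n : ℕ} (β : MvPolynomial (Fin n) R →ₐ[R] A)
    (hβ : Function.Surjective β) (F : MvPolynomial (Fin n) R) (K : DRing.Cx A) (m : ℤ) :
    DerCA.IsRelPseudoCoherent R (Localization.Away (β F)) m
        (DRing.toD ((DRingLTensor.extC' (algebraMap A (Localization.Away (β F)))).obj K)) ↔
      DRing.IsPseudoCoherent (Localization.Away F) m (DRing.toD
        ((DRingLTensor.extC' (algebraMap _ (Localization.Away F))).obj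
          (((ModuleCat.restrictScalars (β : MvPolynomial (Fin n) R →+* A)).mapHomologicalComplex
            (ComplexShape.up ℤ)).obj K))) := by
  let αr : MvPolynomial (Fin n) R →+* A := β
  let γ : MvPolynomial (Fin n) R →ₐ[R] Localization.Away (β F) :=
    (IsScalarTower.toAlgHom R A (Localization.Away (β F))).comp β
  let b : Fin 1 → Localization.Away (β F) := fun _ => IsLocalization.Away.invSelf (β F)
  obtain ⟨δ, σ, hσ, hδ⟩ := exists_stack γ b
  let χ : Localization.Away F →+* Localization.Away (β F) := awayα αr F
  have hinv : χ (IsLocalization.Away.invSelf F) = IsLocalization.Away.invSelf (β F) := by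
    have h1 : χ (algebraMap _ (Localization.Away F) F * IsLocalization.Away.invSelf F) = 1 := by
      rw [IsLocalization.Away.mul_invSelf, map_one]
    have h2 : χ (algebraMap _ (Localization.Away F) F) = algebraMap A (Localization.Away (β F)) (β F) :=
      RingHom.congr_fun (awayα_comp αr F) F
    rw [map_mul, h2] at h1
    exact ((IsLocalization.Away.algebraMap_isUnit (S := Localization.Away (β F)) (β F))).mul_left_cancel
      (h1.trans (IsLocalization.Away.mul_invSelf (β F)).symm)
  have hcomp : χ.comp (MvPolynomial.eval₂Hom (algebraMap _ (Localization.Away F))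
      (fun _ : Fin 1 => IsLocalization.Away.invSelf F)) = eval₂Hom (γ : MvPolynomial (Fin n) R →+* Localization.Away (β F)) b := by
    refine MvPolynomial.ringHom_ext (fun r => ?_) fun i => ?_
    · simp only [RingHom.coe_comp, Function.comp_apply, eval₂Hom_C]
      exact RingHom.congr_fun (awayα_comp αr F) r
    · simpa [b] using hinv
  have hχ : Function.Surjective (eval₂Hom (γ : MvPolynomial (Fin n) R →+* Localization.Away (β F)) b) := fun x => by
    obtain ⟨⟨a, ⟨_, k, rfl⟩⟩, hx⟩ := IsLocalization.surj (Submonoid.powers (β F)) x
    obtain ⟨a', rfl⟩ := hβ a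
    refine ⟨C a' * X 0 ^ k, ?_⟩
    simp only [map_mul, map_pow, eval₂Hom_C, eval₂Hom_X', b]
    show algebraMap A _ (β a') * _ = x
    rw [← hx, mul_assoc]
    show x * (algebraMap A _ (β F ^ k) * _) = x
    rw [map_pow, ← mul_pow, IsLocalization.Away.mul_invSelf, one_pow, mul_one]
  have hδs : Function.Surjective δ := by
    intro x
    obtain ⟨y, rfl⟩ := hχ x
    obtain ⟨z, rfl⟩ := hσ.2 y
    exact ⟨z, (RingHom.congr_fun hδ z).symm⟩
  refine (iff_via δ hδs _ m).trans ?_
  refine (pc_iff_comp (PCHom.of_bijective hσ) _ _ hδ _ m).symm.trans ?_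
  refine (pc_iff_comp (pcHom_away_mv F) χ _ hcomp _ m).symm.trans ?_
  let e := DerivedCategory.Q.mapIso
    ((NatIso.mapHomologicalComplex (thetaIso αr F) (ComplexShape.up ℤ)).app K)
  exact ⟨fun h => DRingPC.of_iso (((ModuleCat.restrictScalars χ).mapDerivedCategoryFactors.app
      ((DRingLTensor.extC' (algebraMap A (Localization.Away (β F)))).obj K)) ≪≫ e.symm) h,
    fun h => DRingPC.of_iso (((ModuleCat.restrictScalars χ).mapDerivedCategoryFactors.app
      ((DRingLTensor.extC' (algebraMap A (Localization.Away (β F)))).obj K)) ≪≫ e.symm).symm h⟩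

/-- Localizing preserves relative pseudo-coherence. -/
theorem away_of {R : Type u} [CommRing R] [Algebra R A] [Algebra.FiniteType R A] (g : A) (K : DRing.Cx A) (m : ℤ)
    (h : DerCA.IsRelPseudoCoherent R A m (DRing.toD K)) :
    DerCA.IsRelPseudoCoherent R (Localization.Away g) m
      (DRing.toD ((DRingLTensor.extC' (algebraMap A (Localization.Away g))).obj K)) := by
  obtain ⟨n, β, hβ⟩ := exists_presentation R A
  obtain ⟨F, rfl⟩ := hβ g
  refine (away_iff β hβ F K m).2 ?_
  have hflat : (algebraMap (MvPolynomial (Fin n) R) (Localization.Away F)).Flat :=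
    RingHom.flat_algebraMap_iff.2 (IsLocalization.flat _ (Submonoid.powers F))
  haveI := ModuleCat.preservesFiniteLimits_extendScalars_of_flat hflat
  haveI : PreservesFiniteColimits (ModuleCat.extendScalars.{u, u, u}
      (algebraMap (MvPolynomial (Fin n) R) (Localization.Away F))) := by
    haveI := (ModuleCat.extendRestrictScalarsAdj.{u, u, u}
      (algebraMap (MvPolynomial (Fin n) R) (Localization.Away F))).isLeftAdjoint
    infer_instance
  refine DRingPC.of_iso ((ModuleCat.extendScalars.{u, u, u} _).mapDerivedCategoryFactors.app _)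
    (pc_map _ (finFree_extendScalars _) ?_)
  exact DRingPC.of_iso ((ModuleCat.restrictScalars (β : MvPolynomial (Fin n) R →+* A)).mapDerivedCategoryFactors.app K)
    ((iff_via β hβ _ m).1 h)

end Theta

end Groth.Agent.H9Misc.DRingRelPC
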