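import Groth.Agent.H9Misc.DRingRelPC3
import Groth.Agent.H9Misc.DRingComplTensor
import Groth.Agent.KFlatLib.Ring.DualizingFlat
import Groth.Agent.KFlatLib.Ring.DualizingFibre
import Groth.Agent.KFlatLib.Ring.BaseChangeShriekVia

/-! Relative pseudo-coherence and derived base change. -/

set_option linter.style.haveILetI false

universe u

open CategoryTheory CategoryTheory.Limits CategoryTheory.Pretriangulated MonoidalCategory

attribute [local instance] HasDerivedCategory.standard

namespace Groth.Agent.H9Misc.DRingRelPC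

open DRingTor DRingRestrict DRingLTensor Groth.Agent.KFlatLib

variable {S B Q : Type u} [CommRing S] [CommRing B] [CommRing Q]

lemma restr_of_isZero (χ : Q →+* S) (m : ℤ) (X : DRing.Cx S) (h : ∀ i, m ≤ i → IsZero (X.X i)) :
    DRing.IsPseudoCoherent Q m ((DRing.restrictD χ).obj (DerivedCategory.Q.obj X)) :=
  DRingPC.of_vanish _ fun i hi => isZero_H_restrict χ
    ((ShortComplex.isZero_homology_of_isZero_X₂ _ (h i hi)).of_iso
      ((DerivedCategory.homologyFunctorFactors (ModuleCat.{u} S) i).app X))

/-- A short exact sequence of modules tensored with a flat complex. -/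
lemma exists_tensC_triangle (E : DRing.Cx S) (hE : ∀ i, Module.Flat S (E.X i))
    (T : ShortComplex (ModuleCat.{u} S)) (hT : T.ShortExact) :
    ∃ (f : DerivedCategory.Q.obj ((tensC T.X₁).obj E) ⟶ DerivedCategory.Q.obj ((tensC T.X₂).obj E))
      (g : DerivedCategory.Q.obj ((tensC T.X₂).obj E) ⟶ DerivedCategory.Q.obj ((tensC T.X₃).obj E))
      (h : DerivedCategory.Q.obj ((tensC T.X₃).obj E) ⟶ (DerivedCategory.Q.obj ((tensC T.X₁).obj E))⟦(1 : ℤ)⟧),
      Triangle.mk f g h ∈ distinguishedTriangles := by
  let τ : ∀ {M N : ModuleCat.{u} S}, (M ⟶ N) → ((tensC M).obj E ⟶ (tensC N).obj E) := fun {M N} k =>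
    { f := fun i => E.X i ◁ k
      comm' := fun i j _ => (whisker_exchange (E.d i j) k) }
  let ST : ShortComplex (DRing.Cx S) := ShortComplex.mk (τ T.f) (τ T.g) (by
    ext i : 1
    show E.X i ◁ T.f ≫ E.X i ◁ T.g = 0
    rw [← MonoidalCategory.whiskerLeft_comp, T.zero, MonoidalPreadditive.whiskerLeft_zero])
  have hST : ST.ShortExact := HomologicalComplex.shortExact_of_degreewise_shortExact _ fun i => by
    haveI := hE i
    refine
      { exact := ?_
        mono_f := (ModuleCat.mono_iff_injective _).2 ?_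
        epi_g := (ModuleCat.epi_iff_surjective _).2 ?_ }
    · rw [ShortComplex.ShortExact.moduleCat_exact_iff_function_exact]
      exact Module.Flat.lTensor_exact (E.X i) ((ShortComplex.ShortExact.moduleCat_exact_iff_function_exact T).1 hT.exact)
    · haveI := hT.mono_f
      exact Module.Flat.lTensor_preserves_injective_linearMap T.f.hom ((ModuleCat.mono_iff_injective _).1 inferInstance)
    · haveI := hT.epi_g
      exact LinearMap.lTensor_surjective (E.X i) ((ModuleCat.epi_iff_surjective T.g).1 inferInstance)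
  exact ⟨_, _, _, DerivedCategory.triangleOfSES_distinguished hST⟩

/-- Tensoring a relatively pseudo-coherent complex with a finite free module. -/
lemma pc_tensC_free (χ : Q →+* S) (E : DRing.Cx S) (hE : ∀ i, Module.Flat S (E.X i)) (m : ℤ)
    (h : DRing.IsPseudoCoherent Q m ((DRing.restrictD χ).obj (DerivedCategory.Q.obj E))) :
    ∀ n : ℕ, DRing.IsPseudoCoherent Q m
      ((DRing.restrictD χ).obj (DerivedCategory.Q.obj ((tensC (ModuleCat.of S (Fin n → S))).obj E))) := by
  intro n
  induction n with
  | zero =>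
    refine restr_of_isZero χ m _ fun i _ => ?_
    exact Functor.map_isZero (tensorLeft (E.X i)) (ModuleCat.isZero_of_subsingleton _)
  | succ n ih =>
    let f : S →ₗ[S] (Fin (n + 1) → S) := LinearMap.single S (fun _ => S) 0
    let g : (Fin (n + 1) → S) →ₗ[S] (Fin n → S) := LinearMap.funLeft S S Fin.succ
    let T : ShortComplex (ModuleCat.{u} S) := ShortComplex.mk
      (X₁ := ModuleCat.of S S) (X₂ := ModuleCat.of S (Fin (n + 1) → S)) (X₃ := ModuleCat.of S (Fin n → S))
      (ModuleCat.ofHom f) (ModuleCat.ofHom g) (ModuleCat.hom_ext (LinearMap.ext fun x => funext fun i => by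
        simp [f, g, LinearMap.funLeft_apply, Fin.succ_ne_zero]; rfl))
    have hT : T.ShortExact :=
      { exact := (ShortComplex.moduleCat_exact_iff T).2 fun x hx => ⟨(show Fin (n + 1) → S from x) 0, by
          funext i
          cases i using Fin.cases with
          | zero => simp [T, f]
          | succ j =>
            have := congrFun (show g x = 0 from hx) j
            simpa [T, f, g, LinearMap.funLeft_apply, Fin.succ_ne_zero] using this.symm⟩
        mono_f := (ModuleCat.mono_iff_injective _).2 fun a b hab => by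
          simpa [T, f] using congrFun hab 0
        epi_g := (ModuleCat.epi_iff_surjective _).2 fun y => ⟨Fin.cons 0 y, funext fun j => by
          simp [T, g, LinearMap.funLeft_apply]⟩ }
    obtain ⟨a, b, c, hD⟩ := exists_tensC_triangle E hE T hT
    refine (Groth.Agent.S2067.result _ ((DRing.restrictD χ).map_distinguished _ hD) m).2.1 ?_ ih
    refine DRingPC.of_iso ((DRing.restrictD χ).mapIso (DerivedCategory.Q.mapIso ?_)) h
    exact (HomologicalComplex.Hom.isoOfComponents (fun i => (ρ_ (E.X i)).symm)
      (fun i j _ => (rightUnitor_inv_naturality (E.d i j)).symm))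

/-- Tensoring a relatively pseudo-coherent complex with a pseudo-coherent module. -/
theorem pc_tensC (χ : Q →+* S) (E : DRing.Cx S) (hE : ∀ i, Module.Flat S (E.X i)) (b : ℤ)
    (hb : DRing.VanishesAbove E b) (k : ℕ) : ∀ (m : ℤ), b + 1 ≤ m + k →
    DRing.IsPseudoCoherent Q m ((DRing.restrictD χ).obj (DerivedCategory.Q.obj E)) →
    ∀ (M : ModuleCat.{u} S), (∀ i : ℤ, DRing.IsPseudoCoherentModule S i M) →
      DRing.IsPseudoCoherent Q m ((DRing.restrictD χ).obj (DerivedCategory.Q.obj ((tensC M).obj E))) := by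
  induction k with
  | zero =>
    intro m hm _ M _
    exact restr_of_isZero χ m _ fun i hi => (tensorRight M).map_isZero (hb i (by omega))
  | succ k ih =>
    intro m hm h M hM
    haveI : Module.Finite S M := DRingPC.finite_of_pc (hM 0)
    obtain ⟨n, π, hπ⟩ := Module.Finite.exists_fin' S M
    let T : ShortComplex (ModuleCat.{u} S) := ShortComplex.mk
      (X₁ := ModuleCat.of S (LinearMap.ker π)) (X₂ := ModuleCat.of S (Fin n → S)) (X₃ := M)
      (ModuleCat.ofHom (LinearMap.ker π).subtype)
      (ModuleCat.ofHom π) (by ext x; exact x.2)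
    have hT : T.ShortExact :=
      { exact := (ShortComplex.moduleCat_exact_iff T).2 fun x hx => ⟨⟨x, hx⟩, rfl⟩
        mono_f := (ModuleCat.mono_iff_injective _).2 Subtype.val_injective
        epi_g := (ModuleCat.epi_iff_surjective _).2 hπ }
    have hK : ∀ i : ℤ, DRing.IsPseudoCoherentModule S i (LinearMap.ker π) := fun i => by
      have := (Groth.Agent.S2067.result hT.singleTriangle hT.singleTriangle_distinguished (i - 1)).2.2
        (Triage.NoethPC.pc_of_free (A := S) (Fin n → S) _) (hM (i - 1))
      rwa [sub_add_cancel] at this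
    obtain ⟨a, c, d, hD⟩ := exists_tensC_triangle E hE T hT
    exact (Groth.Agent.S2067.result _ ((DRing.restrictD χ).map_distinguished _ hD) m).1
      (ih (m + 1) (by omega) (DRingPC.mono (by omega) h) T.X₁ hK) (pc_tensC_free χ E hE m h n)

/-- Derived base change along a pseudo-coherent map. -/
theorem pc_lbase (σ : S →+* B) (χ : Q →+* S) (hσ : PCHom σ) [DTen.HasLBase σ] (L : Dual.D S) (m : ℤ)
    (hL : DRing.IsPseudoCoherent Q m ((DRing.restrictD χ).obj L)) :
    DRing.IsPseudoCoherent Q m ((DRing.restrictD (σ.comp χ)).obj ((DTen.LBase σ).obj L)) := by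
  obtain ⟨b, hb⟩ := DRingPC.exists_bound hL
  obtain ⟨E, -, hEb, hEp, ⟨e⟩⟩ := DRingComplTensor.exists_proj_res L b fun i hi =>
    (HDRestrictIso χ L i).toLinearEquiv.toEquiv.subsingleton_congr.1 (ModuleCat.subsingleton_of_isZero (hb i hi))
  have hEf : ∀ i, Module.Flat S (E.X i) := fun i => by haveI := hEp i; exact Module.Flat.of_projective
  haveI := DRingLBase.hasLBaseChange σ
  obtain ⟨e₁⟩ := DRingLBase.nonempty_lbase_iso σ (DRingComplTensor.isKF_of_projective hEb hEp)
  obtain ⟨e₂⟩ := nonempty_LBaseChange_iso σ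
  let F := (ModuleCat.restrictScalars.{u} σ)
  let e₃ : ModuleCat.extendScalars.{u, u, u} σ ⋙ F ≅ tensorRight (F.obj (ModuleCat.of B B)) :=
    (curriedTensorFlipIso.app (F.obj (ModuleCat.of B B)) ≪≫ (extendRestrictIso σ).symm).symm
  have e₄ : (DRing.restrictD σ).obj ((DTen.LBase σ).obj L) ≅
      DerivedCategory.Q.obj ((tensC (F.obj (ModuleCat.of B B))).obj E) :=
    (DRing.restrictD σ).mapIso ((DTen.LBase σ).mapIso e.symm ≪≫ (e₂.app _).symm ≪≫ e₁) ≪≫
      F.mapDerivedCategoryFactors.app _ ≪≫
        DerivedCategory.Q.mapIso ((NatIso.mapHomologicalComplex e₃ (ComplexShape.up ℤ)).app E)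
  refine DRingPC.of_iso ((restrictDCompIso χ σ).app _ ≪≫ (DRing.restrictD χ).mapIso e₄).symm ?_
  exact pc_tensC χ E hEf b hEb (b + 1 - m).toNat m (by omega)
    (DRingPC.of_iso ((DRing.restrictD χ).mapIso e).symm hL) _ ((DRingPC.pc'_iff _).1 hσ)

end Groth.Agent.H9Misc.DRingRelPC
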