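import Groth.Agent.H9Misc.DRingRelPC4
import Groth.Agent.KFlatLib.Ring.BaseChangeTriv
import Groth.Agent.S2137

/-! Relative pseudo-coherence and derived base change: the main theorems. -/

set_option linter.style.haveILetI false

universe u

open CategoryTheory CategoryTheory.Limits CategoryTheory.Pretriangulated MonoidalCategory

attribute [local instance] HasDerivedCategory.standard

namespace Groth.Agent.H9Misc.DRingRelPC

open DRingTor DRingRestrict DRingLTensor Groth.Agent.KFlatLib

variable {R A B R' A' : Type u} [CommRing R] [CommRing A] [CommRing B] [CommRing R'] [CommRing A']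

/-- Pseudo-coherence along a base change square. -/
lemma pc_square {φ : R →+* A} {ρ : R →+* R'} {α : A →+* A'} {φ' : R' →+* A'} (h : α.comp φ = φ'.comp ρ)
    [DTen.HasLBase ρ] [DTen.HasLBase α] (K : Dual.D A) [IsIso (cmpBC h K)] {m : ℤ}
    (hK : DRing.IsPseudoCoherent R m ((DRing.restrictD φ).obj K)) :
    DRing.IsPseudoCoherent R' m ((DRing.restrictD φ').obj ((DTen.LBase α).obj K)) := by
  haveI := DRingLBase.hasLBaseChange ρ
  obtain ⟨e⟩ := nonempty_LBaseChange_iso ρ
  exact DRingPC.of_iso ((e.app _) ≪≫ asIso (cmpBC h K)) (Groth.Agent.S2137.result ρ _ m hK)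

attribute [local instance] MvPolynomial.algebraMvPolynomial in
lemma isIso_cmpBC_poly {P : Type u} [CommRing P] (ψ : P →+* A) (k : ℕ)
    (h : (MvPolynomial.C : A →+* MvPolynomial (Fin k) A).comp ψ =
      (MvPolynomial.map ψ).comp (MvPolynomial.C : P →+* MvPolynomial (Fin k) P))
    [DTen.HasLBase (MvPolynomial.C : P →+* MvPolynomial (Fin k) P)]
    [DTen.HasLBase (MvPolynomial.C : A →+* MvPolynomial (Fin k) A)] (K : Dual.D A) :
    IsIso (cmpBC h K) := by
  letI := ψ.toAlgebra
  haveI := isIso_sqMod h (rfl : algebraMap P A = ψ)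
    (rfl : algebraMap P (MvPolynomial (Fin k) P) = MvPolynomial.C) (rfl : algebraMap A (MvPolynomial (Fin k) A) = MvPolynomial.C)
    (MvPolynomial.algebraMap_def : algebraMap (MvPolynomial (Fin k) P) (MvPolynomial (Fin k) A) = _) (ModuleCat.of A A)
  exact isIso_cmpBC h (fun j => isIso_baseCmp_of_flat (MvPolynomial.C : P →+* MvPolynomial (Fin k) P)
    ((RingHom.flat_algebraMap_iff (R := P) (S := MvPolynomial (Fin k) P)).2 inferInstance) _) K

/-- Base change along a relatively pseudo-coherent algebra. -/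
theorem lbase_of_relPC [Algebra R A] [Algebra A B] [Algebra R B] [IsScalarTower R A B]
    [Algebra.FiniteType R A] [Algebra.FiniteType A B] (hB : DerCA.IsRelPseudoCoherentModuleAll A B B)
    [DRing.HasLBaseChange (algebraMap A B)] (K : Dual.D A) (m : ℤ) (hK : DerCA.IsRelPseudoCoherent R A m K) :
    DerCA.IsRelPseudoCoherent R B m ((DRing.LBaseChange (algebraMap A B)).obj K) := by
  obtain ⟨n, ψ, hψ⟩ := exists_presentation R A
  obtain ⟨k, δ, hδ⟩ := exists_presentation A B
  let ψ' : MvPolynomial (Fin n) R →+* A := ψ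
  let δ' : MvPolynomial (Fin k) A →+* B := δ
  have hσ : PCHom δ' := DRingPC.of_iso' (restrictInDIso δ' (ModuleCat.of B B)) ((all_iff_via δ hδ _).1 hB)
  have hsq : (MvPolynomial.C : A →+* MvPolynomial (Fin k) A).comp ψ' =
      (MvPolynomial.map ψ').comp MvPolynomial.C := RingHom.ext fun r => (MvPolynomial.map_C _ _).symm
  haveI := hasLBase (MvPolynomial.C : MvPolynomial (Fin n) R →+* MvPolynomial (Fin k) (MvPolynomial (Fin n) R))
  haveI := hasLBase (MvPolynomial.C : A →+* MvPolynomial (Fin k) A)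
  haveI := hasLBase δ'
  haveI := hasLBase (algebraMap A B)
  haveI := isIso_cmpBC_poly ψ' k hsq K
  have h₁ := pc_square hsq K ((iff_via ψ hψ K m).1 hK)
  have h₂ := pc_lbase δ' (MvPolynomial.map ψ') hσ _ m h₁
  obtain ⟨c⟩ := nonempty_LBase_comp (MvPolynomial.C : A →+* MvPolynomial (Fin k) A) δ' (algebraMap A B)
    (RingHom.ext fun a => δ.commutes a)
  obtain ⟨e⟩ := nonempty_LBaseChange_iso (algebraMap A B)
  let γ : MvPolynomial (Fin n) R →ₐ[R] B := (IsScalarTower.toAlgHom R A B).comp ψ
  let b : Fin k → B := fun i => δ (MvPolynomial.X i)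
  obtain ⟨β, σ, hσ', hβ⟩ := exists_stack γ b
  have hcomp : δ'.comp (MvPolynomial.map ψ') = MvPolynomial.eval₂Hom (γ : MvPolynomial (Fin n) R →+* B) b := by
    refine MvPolynomial.ringHom_ext (fun r => ?_) fun i => ?_
    · simp [γ, δ', ψ']
    · simp [b, δ']
  have hβs : Function.Surjective β := by
    intro x
    obtain ⟨y, rfl⟩ := hδ x
    obtain ⟨y', rfl⟩ := MvPolynomial.map_surjective ψ' hψ y
    obtain ⟨z, rfl⟩ := hσ'.2 y'
    exact ⟨z, (RingHom.congr_fun hβ z).symm.trans (RingHom.congr_fun hcomp (σ z)).symm⟩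
  refine (iff_via β hβs _ m).2 ((pc_iff_comp (PCHom.of_bijective hσ') _ _ hβ _ m).1 ?_)
  rw [← hcomp]
  exact DRingPC.of_iso ((DRing.restrictD _).mapIso (c.app K ≪≫ (e.app K).symm)) h₂

open scoped TensorProduct in
/-- Base change along a Tor independent change of the base. -/
theorem lbase_of_tor [Algebra R A] [Algebra.FiniteType R A] [Algebra R R']
    (htor : ∀ p : ℕ, 0 < p → Subsingleton (DRing.Tor R p A R'))
    [DRing.HasLBaseChange (Algebra.TensorProduct.includeRight : A →ₐ[R] TensorProduct R R' A).toRingHom]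
    (K : Dual.D A) (m : ℤ) (hK : DerCA.IsRelPseudoCoherent R A m K) :
    DerCA.IsRelPseudoCoherent R' (TensorProduct R R' A) m
      ((DRing.LBaseChange (Algebra.TensorProduct.includeRight : A →ₐ[R] TensorProduct R R' A).toRingHom).obj K) := by
  obtain ⟨n, ψ, hψ⟩ := exists_presentation R A
  let ψ' : MvPolynomial (Fin n) R →+* A := ψ
  let α := (Algebra.TensorProduct.includeRight : A →ₐ[R] R' ⊗[R] A).toRingHom
  haveI := hasLBase (algebraMap R R')
  haveI := hasLBase (MvPolynomial.map (σ := Fin n) (algebraMap R R'))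
  haveI : DTen.HasLBase (incRight R R' A) := hasLBase _
  have hR : ψ'.comp MvPolynomial.C = algebraMap R A := RingHom.ext fun r => ψ.commutes r
  haveI := isIso_cmpBC_presentation (R' := R') ψ' hR (isIso_baseCmp_single_of_tor fun p hp => htor p hp) K
  have h₁ := pc_square (presBC_comp (R' := R') ψ' hR) K ((iff_via ψ hψ K m).1 hK)
  haveI : DRing.HasLBaseChange (incRight R R' A) := inferInstanceAs (DRing.HasLBaseChange α)
  obtain ⟨e⟩ := nonempty_LBaseChange_iso (incRight R R' A)
  let p : MvPolynomial (Fin n) R' →ₐ[R'] R' ⊗[R] A :=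
    { toRingHom := presBC R' ψ', commutes' := fun r => RingHom.congr_fun (presBC_C (R' := R') ψ') r }
  refine (iff_via p (surjective_presBC (R' := R') ψ' hψ hR) _ m).2 ?_
  exact DRingPC.of_iso ((DRing.restrictD _).mapIso (e.app K).symm) h₁

end Groth.Agent.H9Misc.DRingRelPC
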