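import Groth.Agent.H9Misc.DRingRelPC5

/-! Flat base change of relatively pseudo-coherent modules. -/

set_option linter.style.haveILetI false

universe u

open CategoryTheory CategoryTheory.Limits CategoryTheory.Pretriangulated MonoidalCategory

attribute [local instance] HasDerivedCategory.standard

namespace Groth.Agent.H9Misc.DRingRelPC

open DRingTor DRingRestrict DRingLTensor Groth.Agent.KFlatLib

variable {R A B : Type u} [CommRing R] [CommRing A] [CommRing B]

lemma nonempty_lbase_single (φ : A →+* B) (hφ : φ.Flat) [DRing.HasLBaseChange φ] (M : ModuleCat.{u} A) :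
    Nonempty ((DRing.LBaseChange φ).obj (Dual.inD A M) ≅ Dual.inD B ((ModuleCat.extendScalars.{u, u, u} φ).obj M)) := by
  haveI := hasLBase φ
  obtain ⟨e⟩ := nonempty_LBaseChange_iso φ
  let X := (HomologicalComplex.single (ModuleCat.{u} A) (ComplexShape.up ℤ) 0).obj M
  haveI := isIso_baseCmp_of_flat φ hφ X
  exact ⟨e.app _ ≪≫ (DTen.LBase φ).mapIso ((DerivedCategory.singleFunctorIsoCompQ (ModuleCat.{u} A) 0).app M) ≪≫
    @asIso _ _ _ _ ((DTen.baseCmp φ).app X) (isIso_baseCmp_of_flat φ hφ X) ≪≫
    DerivedCategory.Q.mapIso ((HomologicalComplex.singleMapHomologicalComplex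
      (ModuleCat.extendScalars.{u, u, u} φ) (ComplexShape.up ℤ) 0).app M) ≪≫
    ((DerivedCategory.singleFunctorIsoCompQ (ModuleCat.{u} B) 0).app _).symm⟩

lemma extendScalars_tensor_iso [i : Algebra A B] (φ : A →+* B) (h : algebraMap A B = φ) (M : ModuleCat.{u} A) :
    Nonempty ((ModuleCat.extendScalars.{u, u, u} φ).obj M ≅ ModuleCat.of B (TensorProduct A B M)) := by
  obtain rfl : i = φ.toAlgebra := Algebra.algebra_ext _ _ fun r => RingHom.congr_fun h r
  exact ⟨Iso.refl _⟩

/-- Flat base change of relatively pseudo-coherent modules. -/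
theorem module_of_flat [Algebra R A] [Algebra A B] [Algebra R B] [IsScalarTower R A B]
    [Algebra.FiniteType R A] [Algebra.FiniteType A B] [Module.Flat A B]
    (hB : DerCA.IsRelPseudoCoherentModuleAll A B B) (M : Type u) [AddCommGroup M] [Module A M] (m : ℤ)
    (h : DerCA.IsRelPseudoCoherentModule R A m M) :
    DerCA.IsRelPseudoCoherentModule R B m (TensorProduct A B M) := by
  haveI := DRingLBase.hasLBaseChange (algebraMap A B)
  obtain ⟨e₁⟩ := nonempty_lbase_single (algebraMap A B) (RingHom.flat_algebraMap_iff.2 inferInstance) (ModuleCat.of A M)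
  obtain ⟨e₂⟩ := extendScalars_tensor_iso (algebraMap A B) rfl (ModuleCat.of A M)
  have h' := lbase_of_relPC hB _ m h
  obtain ⟨n, β, hβ, h''⟩ := h'
  exact ⟨n, β, hβ, DRingPC.of_iso ((DRing.restrictD _).mapIso
    (e₁ ≪≫ (DerivedCategory.singleFunctor (ModuleCat.{u} B) 0).mapIso e₂)) h''⟩

end Groth.Agent.H9Misc.DRingRelPC
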