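import Groth.Prelude.Def_DRing3
import Groth.Prelude.Def_CohDer
import Groth.Agent.TriCat.SeqColimit
import Groth.Agent.KFlatLib.Scheme.Coproducts
import Mathlib.Algebra.Homology.GrothendieckAbelian
import Mathlib.Algebra.Category.ModuleCat.AB
import Mathlib.Algebra.Homology.DerivedCategory.ShortExact

/-! Maps out of an object commuting with countable sums into sequential colimits of complexes. -/

set_option linter.style.haveILetI false

universe u

open CategoryTheory CategoryTheory.Limits CategoryTheory.Pretriangulated DerLim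

attribute [local instance] HasDerivedCategory.standard

namespace Groth.Agent.H9Misc.DRingSeqColim

variable {R : Type u} [CommRing R] (K : Dual.D R)

/-- `Hom(K, -)` commutes with countable sums. -/
def CountableCompact : Prop :=
  ∀ (E : ℕ → Dual.D R) [HasCoproduct fun i : ULift.{u + 1} ℕ => E i.down],
    Function.Bijective (CohDer.homSumToHomCoprod K (fun i : ULift.{u + 1} ℕ => E i.down))

variable {K}

lemma exists_sum (hK : CountableCompact K) {E : ℕ → Dual.D R} {S : Dual.D R} {inc : ∀ n, E n ⟶ S}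
    (hc : IsColimit (Cofan.mk S inc)) (g : K ⟶ S) :
    ∃ (s : Finset ℕ) (a : ∀ n, K ⟶ E n), g = ∑ n ∈ s, a n ≫ inc n := by
  classical
  let c' : Cofan (fun i : ULift.{u + 1} ℕ => E i.down) := Cofan.mk S fun i => inc i.down
  have hc' : IsColimit c' := Cofan.IsColimit.mk _
    (fun t => hc.desc (Cofan.mk t.pt fun n => t.inj ⟨n⟩))
    (fun t i => hc.fac (Cofan.mk t.pt fun n => t.inj ⟨n⟩) ⟨i.down⟩)
    (fun t m hm => hc.uniq (Cofan.mk t.pt fun n => t.inj ⟨n⟩) m fun j => hm ⟨j.as⟩)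
  haveI : HasCoproduct fun i : ULift.{u + 1} ℕ => E i.down := ⟨⟨⟨c', hc'⟩⟩⟩
  let d : (∐ fun i : ULift.{u + 1} ℕ => E i.down) ⟶ S := Sigma.desc fun i => inc i.down
  let d' : S ⟶ ∐ fun i : ULift.{u + 1} ℕ => E i.down :=
    hc.desc (Cofan.mk _ fun n => Sigma.ι (fun i : ULift.{u + 1} ℕ => E i.down) ⟨n⟩)
  have hd : d' ≫ d = 𝟙 S := Cofan.IsColimit.hom_ext hc _ _ fun n => by
    change inc n ≫ d' ≫ d = inc n ≫ 𝟙 S
    rw [reassoc_of% (show inc n ≫ d' = Sigma.ι (fun i : ULift.{u + 1} ℕ => E i.down) ⟨n⟩ from hc.fac _ ⟨n⟩),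
      Category.comp_id]
    exact Sigma.ι_desc _ _
  obtain ⟨α, hα⟩ := (hK E).2 (g ≫ d')
  refine ⟨α.support.image ULift.down, fun n => α ⟨n⟩, ?_⟩
  rw [Finset.sum_image (fun _ _ _ _ h => ULift.ext _ _ h), ← Category.comp_id g, ← hd, ← Category.assoc, ← hα,
    CohDer.homSumToHomCoprod]
  conv_lhs => rw [← DirectSum.sum_support_of α]
  simp only [map_sum, Preadditive.sum_comp]
  refine Finset.sum_congr rfl fun i _ => ?_
  erw [DirectSum.toAddMonoid_of]
  change (α i ≫ Sigma.ι (fun i : ULift.{u + 1} ℕ => E i.down) i) ≫ d = _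
  rw [Category.assoc, Sigma.ι_desc]

lemma eq_zero_of_comp_one_sub_shift (hK : CountableCompact K) {E : ℕ → Dual.D R} {S : Dual.D R}
    {inc : ∀ n, E n ⟶ S} (hc : IsColimit (Cofan.mk S inc)) (f : ∀ n, E n ⟶ E (n + 1)) (ψ : S ⟶ S)
    (hψ : ∀ n, inc n ≫ ψ = inc n - f n ≫ inc (n + 1)) (g : K ⟶ S) (hg : g ≫ ψ = 0) : g = 0 := by
  haveI : HasCoproduct E := ⟨⟨⟨_, hc⟩⟩⟩
  let e : S ≅ ∐ E := hc.coconePointUniqueUpToIso (coproductIsCoproduct E)
  have he : ∀ n, inc n ≫ e.hom = Sigma.ι E n := fun n => hc.comp_coconePointUniqueUpToIso_hom _ ⟨n⟩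
  have he' : ψ ≫ e.hom = e.hom ≫ (𝟙 (∐ E) - shiftMap E f) := Cofan.IsColimit.hom_ext hc _ _ fun n => by
    change inc n ≫ ψ ≫ e.hom = inc n ≫ e.hom ≫ (𝟙 (∐ E) - shiftMap E f)
    rw [reassoc_of% hψ n, reassoc_of% he n, TriCat.ι_one_sub_shiftMap, Preadditive.sub_comp,
      Category.assoc, he, he]
  obtain ⟨s, a, rfl⟩ := exists_sum hK hc g
  rw [← cancel_mono e.hom, zero_comp]
  refine TriCat.eq_zero_of_finFactor_comp_one_sub_shiftMap E f ⟨s, a, ?_⟩ ?_
  · rw [Preadditive.sum_comp]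
    exact Finset.sum_congr rfl fun n _ => by rw [Category.assoc, he]
  · rw [Category.assoc, ← he', ← Category.assoc, hg, zero_comp]

variable (L : ℕ ⥤ DRing.Cx R)

/-- The transition maps. -/
noncomputable abbrev tr (n : ℕ) : L.obj n ⟶ L.obj (n + 1) := L.map (homOfLE (Nat.le_succ n))

theorem exists_factor (hK : CountableCompact K) {c : Cocone L} (hc : IsColimit c) :
    (∀ x : K ⟶ DRing.toD c.pt, ∃ (n : ℕ) (y : K ⟶ DRing.toD (L.obj n)),
        y ≫ DerivedCategory.Q.map (c.ι.app n) = x) ∧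
      (∀ (n : ℕ) (y : K ⟶ DRing.toD (L.obj n)), y ≫ DerivedCategory.Q.map (c.ι.app n) = 0 →
        ∃ (m : ℕ) (h : n ≤ m), y ≫ DerivedCategory.Q.map (L.map (homOfLE h)) = 0) := by
  classical
  let Q : CochainComplex (ModuleCat.{u} R) ℤ ⥤ Dual.D R := DerivedCategory.Q
  haveI := KFlatLib.preservesColimit_Q (A := ModuleCat.{u} R) L.obj
  have hQ : IsColimit (Cofan.mk (Q.obj (∐ L.obj)) fun n => Q.map (Sigma.ι L.obj n)) :=
    Cofan.isColimitMapCoconeEquiv Q _ _ (isColimitOfPreserves Q (coproductIsCoproduct L.obj))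
  have hT := DerivedCategory.triangleOfSES_distinguished (TriCat.telescope_shortExact L)
  let φ := 𝟙 (∐ L.obj) - shiftMap L.obj (fun n => L.map (homOfLE (Nat.le_succ n)))
  let π : (∐ L.obj) ⟶ colimit L := Sigma.desc fun n => colimit.ι L n
  let e : colimit L ≅ c.pt := (colimit.isColimit L).coconePointUniqueUpToIso hc
  have he : ∀ n, colimit.ι L n ≫ e.hom = c.ι.app n := fun n =>
    (colimit.isColimit L).comp_coconePointUniqueUpToIso_hom hc n
  have hφ : ∀ n, Sigma.ι L.obj n ≫ φ = Sigma.ι L.obj n - tr L n ≫ Sigma.ι L.obj (n + 1) := fun n =>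
    TriCat.ι_one_sub_shiftMap _ _ n
  have htr : ∀ {j n : ℕ} (h : j ≤ n), L.map (homOfLE h) ≫ c.ι.app n = c.ι.app j := fun h => c.w _
  refine ⟨fun x => ?_, fun n y hy => ?_⟩
  · let x' : K ⟶ Q.obj (colimit L) := x ≫ Q.map e.inv
    obtain ⟨ψ, hψ⟩ := Triangle.coyoneda_exact₂ _ (rot_of_distTriang _ hT) x' (by
      let E : ℕ → Dual.D R := fun n => (Q.obj (L.obj n))⟦(1 : ℤ)⟧
      refine eq_zero_of_comp_one_sub_shift hK (E := E) (inc := fun n => (Q.map (Sigma.ι L.obj n))⟦(1 : ℤ)⟧')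
        (Cofan.isColimitMapCoconeEquiv (shiftFunctor (Dual.D R) (1 : ℤ)) _ _
          (isColimitOfPreserves (shiftFunctor (Dual.D R) (1 : ℤ)) hQ))
        (fun n => (Q.map (tr L n))⟦(1 : ℤ)⟧') ((Q.map φ)⟦(1 : ℤ)⟧') (fun n => ?_) _ ?_
      · rw [← Functor.map_comp, ← Functor.map_comp, ← Functor.map_comp, ← Functor.map_comp, hφ,
          Functor.map_sub, Functor.map_sub]
      · exact (Category.assoc _ _ _).trans
          ((congrArg (fun t => x' ≫ t) (comp_distTriang_mor_zero₃₁ _ hT)).trans comp_zero))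
    obtain ⟨s, a, rfl⟩ := exists_sum hK hQ ψ
    refine ⟨s.sup id, ∑ j ∈ s, if h : j ≤ s.sup id then a j ≫ Q.map (L.map (homOfLE h)) else 0, ?_⟩
    have hx : x = x' ≫ Q.map e.hom := by
      rw [Category.assoc, ← Q.map_comp, e.inv_hom_id, Q.map_id, Category.comp_id]
    rw [hx, hψ]
    change _ = ((∑ n ∈ s, a n ≫ Q.map (Sigma.ι L.obj n)) ≫ Q.map π) ≫ Q.map e.hom
    rw [Category.assoc, Preadditive.sum_comp, Preadditive.sum_comp]
    refine Finset.sum_congr rfl fun j hj => ?_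
    rw [dif_pos (show j ≤ s.sup id from Finset.le_sup (f := id) hj), Category.assoc, Category.assoc, ← Q.map_comp, ← Q.map_comp]
    refine congrArg (a j ≫ ·) ((congrArg Q.map ?_).trans (Q.map_comp _ _))
    rw [htr, Sigma.ι_desc_assoc, he]
  · obtain ⟨w, hw⟩ := Triangle.coyoneda_exact₂ _ hT (y ≫ Q.map (Sigma.ι L.obj n)) (by
      change (y ≫ Q.map (Sigma.ι L.obj n)) ≫ Q.map π = 0
      rw [Category.assoc, ← Q.map_comp, Sigma.ι_desc, ← cancel_mono (Q.map e.hom), Category.assoc,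
        ← Q.map_comp, he, zero_comp]
      exact hy)
    obtain ⟨s, a, rfl⟩ := exists_sum hK hQ w
    let m := max n (s.sup id + 1)
    refine ⟨m, le_max_left _ _, ?_⟩
    let p : (∐ L.obj) ⟶ L.obj m := Sigma.desc fun k => if h : k ≤ m then L.map (homOfLE h) else 0
    have h0 : ∀ k ∈ s, Sigma.ι L.obj k ≫ φ ≫ p = 0 := fun k hk => by
      have hk' : k + 1 ≤ m := le_trans (Nat.succ_le_succ (Finset.le_sup (f := id) hk)) (le_max_right _ _)
      rw [reassoc_of% hφ k, Preadditive.sub_comp, Category.assoc, Sigma.ι_desc, Sigma.ι_desc,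
        dif_pos (le_trans (Nat.le_succ k) hk'), dif_pos hk', ← L.map_comp]
      exact sub_eq_zero.2 rfl
    have hn : Sigma.ι L.obj n ≫ p = L.map (homOfLE (le_max_left n (s.sup id + 1))) := by
      rw [Sigma.ι_desc, dif_pos (le_max_left _ _)]
    change y ≫ Q.map _ = 0
    rw [← hn, Q.map_comp, ← Category.assoc]
    refine (congrArg (fun t => t ≫ Q.map p) hw).trans ?_
    change ((∑ k ∈ s, a k ≫ Q.map (Sigma.ι L.obj k)) ≫ Q.map φ) ≫ Q.map p = 0
    rw [Category.assoc, ← Q.map_comp, Preadditive.sum_comp]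
    refine Finset.sum_eq_zero fun k hk => ?_
    rw [Category.assoc, ← Q.map_comp, h0 k hk, Q.map_zero, comp_zero]

end Groth.Agent.H9Misc.DRingSeqColim
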