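import Mathlib.LinearAlgebra.Determinant
import Mathlib.LinearAlgebra.Basis.VectorSpace
import Mathlib.RingTheory.LocalRing.ResidueField.Ideal
import Mathlib.RingTheory.FiniteType
import Mathlib.RingTheory.Localization.Away.Basic
import Mathlib.RingTheory.OrzechProperty
import Mathlib.LinearAlgebra.TensorProduct.Tower
import Mathlib.LinearAlgebra.Charpoly.BaseChange
import Mathlib.RingTheory.TensorProduct.Finite

/-! Splitting a complex of free modules near a prime where it is exact on the fibre. -/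

universe u

open scoped TensorProduct

namespace Groth.Agent.H9Misc.FibreSplit

variable {R : Type u} [CommRing R] (p : Ideal R) [p.IsPrime]

lemma exists_smul_eq_one_tmul {Y : Type u} [AddCommGroup Y] [Module R Y] (y : p.ResidueField ⊗[R] Y) :
    ∃ (c : R) (z : Y), c ∉ p ∧ c • y = (1 : p.ResidueField) ⊗ₜ z := by
  induction y using TensorProduct.induction_on with
  | zero => exact ⟨1, 0, fun h => Ideal.IsPrime.ne_top inferInstance ((Ideal.eq_top_iff_one _).2 h), by simp⟩
  | tmul k x =>
    obtain ⟨a, b, hb, rfl⟩ := IsFractionRing.div_surjective (A := R ⧸ p) k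
    obtain ⟨a, rfl⟩ := Ideal.Quotient.mk_surjective a
    obtain ⟨b, rfl⟩ := Ideal.Quotient.mk_surjective b
    have hbp : b ∉ p := fun h => nonZeroDivisors.ne_zero hb (Ideal.Quotient.eq_zero_iff_mem.2 h)
    refine ⟨b, a • x, hbp, ?_⟩
    have hb0 : algebraMap R p.ResidueField b ≠ 0 := fun h => hbp (Ideal.algebraMap_residueField_eq_zero.1 h)
    rw [TensorProduct.smul_tmul', TensorProduct.tmul_smul, TensorProduct.smul_tmul']
    congr 1
    rw [Algebra.smul_def, Algebra.smul_def, mul_one, ← Ideal.Quotient.algebraMap_eq,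
      ← IsScalarTower.algebraMap_apply, ← IsScalarTower.algebraMap_apply]
    field_simp
  | add x y hx hy =>
    obtain ⟨c, z, hc, hz⟩ := hx
    obtain ⟨c', z', hc', hz'⟩ := hy
    refine ⟨c * c', c' • z + c • z', fun h => (Ideal.IsPrime.mem_or_mem inferInstance h).elim hc hc', ?_⟩
    rw [smul_add, mul_comm c c', mul_smul, hz, mul_comm c' c, mul_smul, hz', TensorProduct.tmul_add,
      TensorProduct.tmul_smul, TensorProduct.tmul_smul]

lemma exists_smul_eq_baseChange {X Y : Type u} [AddCommGroup X] [Module R X] [Module.Finite R X] [Module.Free R X]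
    [AddCommGroup Y] [Module R Y] (g : p.ResidueField ⊗[R] X →ₗ[p.ResidueField] p.ResidueField ⊗[R] Y) :
    ∃ (c : R) (s : X →ₗ[R] Y), c ∉ p ∧ c • g = s.baseChange p.ResidueField := by
  classical
  let b := Module.Free.chooseBasis R X
  choose c z hc hz using fun j => exists_smul_eq_one_tmul p (g ((1 : p.ResidueField) ⊗ₜ b j))
  refine ⟨∏ j, c j, b.constr R (fun j => (∏ i ∈ Finset.univ.erase j, c i) • z j), fun h => ?_, ?_⟩
  · obtain ⟨j, -, hj⟩ := (Ideal.IsPrime.prod_mem_iff (p := p)).1 h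
    exact hc j hj
  · refine (b.baseChange p.ResidueField).ext fun j => ?_
    rw [Module.Basis.baseChange_apply, LinearMap.smul_apply, LinearMap.baseChange_tmul, Module.Basis.constr_basis,
      TensorProduct.tmul_smul, ← hz j, smul_smul, Finset.prod_erase_mul _ _ (Finset.mem_univ j)]

lemma exists_contraction {k V' V V'' : Type u} [Field k] [AddCommGroup V'] [Module k V'] [AddCommGroup V]
    [Module k V] [AddCommGroup V''] [Module k V''] (d' : V' →ₗ[k] V) (d : V →ₗ[k] V'') (h : Function.Exact d' d) :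
    ∃ (s : V'' →ₗ[k] V) (t : V →ₗ[k] V'), s ∘ₗ d + d' ∘ₗ t = LinearMap.id := by
  obtain ⟨g, hg⟩ := d.rangeRestrict.exists_rightInverse_of_surjective d.range_rangeRestrict
  obtain ⟨q, hq⟩ := (LinearMap.range d).subtype.exists_leftInverse_of_injective (Submodule.ker_subtype _)
  let s := g ∘ₗ q
  have hds : d ∘ₗ s ∘ₗ d = d := by
    ext x
    have h1 : q (d x) = d.rangeRestrict x := congr($hq (d.rangeRestrict x))
    have h2 : d (g (d.rangeRestrict x)) = d x := congr(Subtype.val ($hg (d.rangeRestrict x)))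
    simp only [LinearMap.comp_apply, s]
    rw [h1, h2]
  have hr : ∀ x, x - s (d x) ∈ LinearMap.range d' := fun x => (h _).1 (by
    rw [map_sub, sub_eq_zero]
    exact (congr($hds x)).symm)
  obtain ⟨g', hg'⟩ := d'.rangeRestrict.exists_rightInverse_of_surjective d'.range_rangeRestrict
  refine ⟨s, g' ∘ₗ (LinearMap.id - s ∘ₗ d).codRestrict (LinearMap.range d') hr, ?_⟩
  ext x
  have h3 : d' (g' ((LinearMap.id - s ∘ₗ d).codRestrict (LinearMap.range d') hr x)) = x - s (d x) :=
    by
      have h4 := LinearMap.congr_fun hg' ((LinearMap.id - s ∘ₗ d).codRestrict (LinearMap.range d') hr x)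
      exact (congrArg Subtype.val h4).trans rfl
  simp only [LinearMap.add_apply, LinearMap.comp_apply, LinearMap.id_apply]
  rw [h3]
  simp

variable {X' X X'' : Type u} [AddCommGroup X'] [Module R X'] [AddCommGroup X] [Module R X]
  [AddCommGroup X''] [Module R X'']

omit [p.IsPrime] in
/-- Near `p` a complex exact on the fibre at `p` has a contraction. -/
theorem exists_away [p.IsPrime] [Module.Finite R X] [Module.Free R X] [Module.Finite R X''] [Module.Free R X'']
    (d' : X' →ₗ[R] X) (d : X →ₗ[R] X'') (h : Function.Exact (d'.baseChange p.ResidueField) (d.baseChange p.ResidueField)) :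
    ∃ f, f ∉ p ∧ ∃ (s : X'' →ₗ[R] X) (t : X →ₗ[R] X'),
      Function.Surjective ((s ∘ₗ d + d' ∘ₗ t).baseChange (Localization.Away f)) := by
  obtain ⟨s₀, t₀, h₀⟩ := exists_contraction _ _ h
  obtain ⟨c₁, s, hc₁, hs⟩ := exists_smul_eq_baseChange p s₀
  obtain ⟨c₂, t, hc₂, ht⟩ := exists_smul_eq_baseChange p t₀
  let u := (c₂ • s) ∘ₗ d + d' ∘ₗ (c₁ • t)
  have hu : u.baseChange p.ResidueField = (c₁ * c₂) • LinearMap.id := by
    simp only [u, LinearMap.baseChange_add, LinearMap.baseChange_comp, LinearMap.baseChange_smul, ← hs, ← ht, ← h₀,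
      LinearMap.smul_comp, LinearMap.comp_smul, smul_add, smul_smul]
    rw [mul_comm c₂ c₁]
  have hdet : LinearMap.det u ∉ p := by
    intro hmem
    have e := LinearMap.det_baseChange (A := p.ResidueField) u
    rw [Ideal.algebraMap_residueField_eq_zero.2 hmem, hu,
      ← IsScalarTower.algebraMap_smul p.ResidueField (c₁ * c₂) (LinearMap.id : p.ResidueField ⊗[R] X →ₗ[p.ResidueField] _),
      LinearMap.det_smul, LinearMap.det_id, mul_one] at e
    have := eq_zero_of_pow_eq_zero e
    exact (Ideal.IsPrime.mem_or_mem inferInstance (Ideal.algebraMap_residueField_eq_zero.1 this)).elim hc₁ hc₂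
  refine ⟨LinearMap.det u, hdet, c₂ • s, c₁ • t, ?_⟩
  have hunit : IsUnit (u.baseChange (Localization.Away (LinearMap.det u))) := by
    rw [LinearMap.isUnit_iff_isUnit_det, LinearMap.det_baseChange]
    exact IsLocalization.Away.algebraMap_isUnit _
  exact ((Module.End.isUnit_iff _).1 hunit).2

omit [p.IsPrime] in
/-- Cocycles extend along a contracted differential. -/
theorem exists_extend [Module.Finite R X] {M : Type u} [AddCommGroup M] [Module R M] (d' : X' →ₗ[R] X) (d : X →ₗ[R] X'')
    (hdd : d ∘ₗ d' = 0) (s : X'' →ₗ[R] X) (t : X →ₗ[R] X') (hu : Function.Surjective (s ∘ₗ d + d' ∘ₗ t : X →ₗ[R] X))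
    (φ : X →ₗ[R] M) (hφ : φ ∘ₗ d' = 0) : ∃ ψ : X'' →ₗ[R] M, ψ ∘ₗ d = φ := by
  let N := LinearMap.range d'
  have hd : N ≤ LinearMap.ker d := LinearMap.range_le_ker_iff.2 hdd
  let dbar : (X ⧸ N) →ₗ[R] X'' := N.liftQ d hd
  let ubar : (X ⧸ N) →ₗ[R] X ⧸ N := (N.mkQ ∘ₗ s) ∘ₗ dbar
  have hubar : Function.Surjective ubar := fun y => by
    obtain ⟨y, rfl⟩ := N.mkQ_surjective y
    obtain ⟨x, rfl⟩ := hu y
    refine ⟨N.mkQ x, ?_⟩
    simp only [ubar, dbar, LinearMap.comp_apply, Submodule.mkQ_apply, Submodule.liftQ_apply, LinearMap.add_apply]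
    rw [Submodule.Quotient.mk_add, (Submodule.Quotient.mk_eq_zero N).2 (LinearMap.mem_range_self d' _), add_zero]
  let e := LinearEquiv.ofBijective ubar ⟨OrzechProperty.injective_of_surjective_endomorphism ubar hubar, hubar⟩
  refine ⟨N.liftQ φ (LinearMap.range_le_ker_iff.2 hφ) ∘ₗ e.symm.toLinearMap ∘ₗ N.mkQ ∘ₗ s, ?_⟩
  ext x
  show N.liftQ φ (LinearMap.range_le_ker_iff.2 hφ) (e.symm (ubar (N.mkQ x))) = φ x
  rw [show ubar (N.mkQ x) = e (N.mkQ x) from rfl, e.symm_apply_apply]
  rfl

end Groth.Agent.H9Misc.FibreSplit
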