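import Groth.Agent.H9Misc.DRingSplit
import Groth.Agent.H9Misc.DRingFibre
import Groth.Agent.H9Misc.DRingPC
import Groth.Agent.H9Misc.FibreSplit
import Groth.Agent.S6976

/-! Splitting truncations near a prime where the fibre has no cohomology in a degree. -/

set_option linter.style.haveILetI false

universe u

open CategoryTheory CategoryTheory.Limits
open scoped TensorProduct

attribute [local instance] HasDerivedCategory.standard

namespace Groth.Agent.H9Misc.DRingSplitAway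

open Groth.Agent.H9Misc.DRingLTensor Groth.Agent.H9Misc.DRingFibre

variable {R : Type u} [CommRing R]

lemma exact_aux {B : Type u} [CommRing B] (φ : R →+* B) (E : DRing.Cx R) (j i k : ℤ) (hj : j + 1 = i) (hk : i + 1 = k)
    (inst : Algebra R B) (hinst : inst = φ.toAlgebra) (h : ((extC' φ).obj E).ExactAt i) :
    letI := inst
    Function.Exact ((E.d j i).hom.baseChange B) ((E.d i k).hom.baseChange B) := by
  subst hinst
  letI := φ.toAlgebra
  rw [HomologicalComplex.exactAt_iff' _ j i k (by simp; omega) (by simp; omega),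
    ShortComplex.ShortExact.moduleCat_exact_iff_function_exact] at h
  exact h

lemma extend_aux {B : Type u} [CommRing B] (φ : R →+* B) (E : DRing.Cx R) (j i k : ℤ) [Module.Finite R (E.X i)]
    (s : E.X k →ₗ[R] E.X i) (t : E.X i →ₗ[R] E.X j) (inst : Algebra R B) (hinst : inst = φ.toAlgebra)
    (hu : letI := inst; Function.Surjective ((s ∘ₗ (E.d i k).hom + (E.d j i).hom ∘ₗ t).baseChange B))
    (M : ModuleCat.{u} B) (g : ((extC' φ).obj E).X i ⟶ M) (hg : ((extC' φ).obj E).d j i ≫ g = 0) :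
    ∃ ψ : ((extC' φ).obj E).X k ⟶ M, ((extC' φ).obj E).d i k ≫ ψ = g := by
  subst hinst
  letI := φ.toAlgebra
  let g' : B ⊗[R] E.X i →ₗ[B] M := g.hom
  have hdd : (E.d i k).hom.baseChange B ∘ₗ (E.d j i).hom.baseChange B = 0 := by
    rw [← LinearMap.baseChange_comp, ← ModuleCat.hom_comp, E.d_comp_d, ModuleCat.hom_zero, LinearMap.baseChange_zero]
  have hu' : Function.Surjective (s.baseChange B ∘ₗ (E.d i k).hom.baseChange B + (E.d j i).hom.baseChange B ∘ₗ t.baseChange B) := by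
    rw [← LinearMap.baseChange_comp, ← LinearMap.baseChange_comp, ← LinearMap.baseChange_add]
    exact hu
  obtain ⟨ψ, hψ⟩ := FibreSplit.exists_extend ((E.d j i).hom.baseChange B) ((E.d i k).hom.baseChange B) hdd
    (s.baseChange B) (t.baseChange B) hu' g' (congrArg ModuleCat.Hom.hom hg)
  exact ⟨ModuleCat.ofHom (X := B ⊗[R] E.X k) ψ, ModuleCat.hom_ext hψ⟩

lemma free_ext {B : Type u} [CommRing B] (φ : R →+* B) {E : DRing.Cx R} (hE : DRing.TermwiseFiniteFree E) :
    DRing.TermwiseFiniteFree ((extC' φ).obj E) := fun n => by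
  letI := φ.toAlgebra
  haveI := (hE n).1
  haveI := (hE n).2
  exact ⟨inferInstanceAs (Module.Finite B (B ⊗[R] E.X n)), inferInstanceAs (Module.Free B (B ⊗[R] E.X n))⟩

section

variable {A : Type u} [CommRing A]

local notation "𝒕" => (DerivedCategory.TStructure.t : Triangulated.TStructure (Dual.D A))

lemma hom_eq_zero (P : DRing.Cx A) (b : ℤ) (hb : DRing.VanishesAbove P b) (hP : DRing.TermwiseFiniteFree P) (i : ℤ)
    (hext : ∀ (M : ModuleCat.{u} A) (g : P.X i ⟶ M), P.d (i - 1) i ≫ g = 0 → ∃ ψ : P.X (i + 1) ⟶ M, P.d i (i + 1) ≫ ψ = g)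
    (M : ModuleCat.{u} A) (f : DerivedCategory.Q.obj P ⟶ (Dual.inD A M)⟦-i⟧) : f = 0 := by
  haveI : P.IsKProjective := DRingProjAmp.isKProjective (fun n => haveI := (hP n).2; inferInstance) hb
  obtain ⟨φ, hφ, hφe⟩ := PcExt.homOfCocycle_surjective P (q := i) (p := -i) (add_neg_cancel i) (i - 1) (by omega) f
  rw [← hφe]
  exact (PcExt.homOfCocycle_eq_zero_iff P _ φ (i - 1) (by omega) hφ (i + 1) rfl).2 (hext M φ hφ)

lemma exactAt_of_extend (P : DRing.Cx A) (i : ℤ)
    (hext : ∀ (M : ModuleCat.{u} A) (g : P.X i ⟶ M), P.d (i - 1) i ≫ g = 0 → ∃ ψ : P.X (i + 1) ⟶ M, P.d i (i + 1) ≫ ψ = g) :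
    P.ExactAt i := by
  rw [HomologicalComplex.exactAt_iff' _ (i - 1) i (i + 1) (by simp) (by simp), ShortComplex.moduleCat_exact_iff]
  intro x hx
  let N := LinearMap.range (P.d (i - 1) i).hom
  obtain ⟨ψ, hψ⟩ := hext (ModuleCat.of _ (P.X i ⧸ N)) (ModuleCat.ofHom N.mkQ)
    (by ext y; exact (Submodule.Quotient.mk_eq_zero N).2 (LinearMap.mem_range_self (P.d (i - 1) i).hom y))
  exact (Submodule.Quotient.mk_eq_zero N).1
    ((congr($(hψ).hom x)).symm.trans ((congrArg ψ.hom hx).trans (map_zero _)))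

theorem conclude (K : Dual.D A) (hK : DRing.IsPseudoCoherent' A K) (i : ℤ)
    (h : ∀ (M : ModuleCat.{u} A) (f : K ⟶ (Dual.inD A M)⟦-i⟧), f = 0) (hH : Subsingleton (Dual.HD A K i)) :
    DRing.IsPerfect A ((𝒕.truncGE (i + 1)).obj K) ∧
      (∃ b : ℤ, DRing.HasTorAmplitudeIn A (i + 1) b ((𝒕.truncGE (i + 1)).obj K)) ∧
      ∀ [HasBinaryBiproduct ((𝒕.truncGE (i + 1)).obj K) ((𝒕.truncLT i).obj K)],
        ∃ e : K ≅ (𝒕.truncGE (i + 1)).obj K ⊞ (𝒕.truncLT i).obj K,
          e.hom ≫ biprod.fst = (𝒕.truncGEπ (i + 1)).app K ∧ (𝒕.truncLTι i).app K ≫ e.hom = biprod.inr := by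
  haveI : HasBinaryBiproducts (Dual.D A) := HasBinaryBiproducts.of_hasBinaryProducts
  obtain ⟨E, b, hb, hE, ⟨eE⟩⟩ := id hK
  have hKb : ∃ b : ℤ, ∀ n : ℤ, b < n → Subsingleton (Dual.HD A K n) := ⟨b, fun n hn => by
    refine ModuleCat.subsingleton_of_isZero (IsZero.of_iso ?_ ((DerivedCategory.homologyFunctor _ n).mapIso eE.symm ≪≫
      (DerivedCategory.homologyFunctorFactors (ModuleCat.{u} A) n).app E))
    exact (HomologicalComplex.exactAt_iff_isZero_homology _ _).1 (HomologicalComplex.ExactAt.of_isZero (hb n hn))⟩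
  obtain ⟨P, b', hz, hP, ⟨eP⟩⟩ := DRingSplit.exists_rep K i hKb fun M _ _ =>
    ⟨fun f g => (DRingSplit.eq_zero_of_comp_π K i (ModuleCat.of A M) f (h _ _)).trans
      (DRingSplit.eq_zero_of_comp_π K i (ModuleCat.of A M) g (h _ _)).symm⟩
  obtain ⟨e, he₁, he₂⟩ := DRingSplit.split K i hz hP eP
  obtain ⟨ε, hε⟩ := DRingSplit.isIso_truncLT K i (H := hH)
  have hpc : DRing.IsPseudoCoherent' A ((𝒕.truncGE (i + 1)).obj K) :=
    (DRingPC.summand' (K := (𝒕.truncLT (i + 1)).obj K)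
      ⟨E, b, hb, hE, ⟨eE ≪≫ e⟩⟩).2
  obtain ⟨hperf, hamp⟩ := (Groth.Agent.S6976.result A _ hpc (i + 1) b').1 ⟨P, hz, hP, ⟨eP⟩⟩
  refine ⟨hperf, ⟨b', hamp⟩, fun {_} => ?_⟩
  let τ : (𝒕.truncLT (i + 1)).obj K ⊞ (𝒕.truncGE (i + 1)).obj K ≅ (𝒕.truncGE (i + 1)).obj K ⊞ (𝒕.truncLT i).obj K :=
    { hom := biprod.lift biprod.snd (biprod.fst ≫ ε.inv)
      inv := biprod.lift (biprod.snd ≫ ε.hom) biprod.fst
      hom_inv_id := by ext <;> simp
      inv_hom_id := by ext <;> simp }
  refine ⟨e ≪≫ τ, ?_, ?_⟩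
  · simp only [Iso.trans_hom, Category.assoc, τ, biprod.lift_fst]
    exact he₂
  · rw [← hε]
    simp only [Iso.trans_hom, Category.assoc, reassoc_of% he₁, τ]
    ext <;> simp

end

theorem main (p : Ideal R) [p.IsPrime] [DRing.HasLBaseChange (algebraMap R p.ResidueField)] (i : ℤ) (K : DRing.Cx R)
    (hK : DRing.IsPseudoCoherent' R (DRing.toD K))
    (hi : Subsingleton (Dual.HD p.ResidueField ((DRing.LBaseChange (algebraMap R p.ResidueField)).obj (DRing.toD K)) i)) :
    ∃ f : R, f ∉ p ∧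
      let Kf := DRing.toD (((ModuleCat.extendScalars (algebraMap R (Localization.Away f))).mapHomologicalComplex
        (ComplexShape.up ℤ)).obj K)
      let t := (DerivedCategory.TStructure.t : Triangulated.TStructure (Dual.D (Localization.Away f)))
      let Kge := (t.truncGE (i + 1)).obj Kf
      let Klt := (t.truncLT i).obj Kf
      DRing.IsPerfect (Localization.Away f) Kge ∧
        (∃ b : ℤ, DRing.HasTorAmplitudeIn (Localization.Away f) (i + 1) b Kge) ∧
        ∀ [HasBinaryBiproduct Kge Klt], ∃ e : Kf ≅ Kge ⊞ Klt,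
          e.hom ≫ biprod.fst = (t.truncGEπ (i + 1)).app Kf ∧ (t.truncLTι i).app Kf ≫ e.hom = biprod.inr := by
  obtain ⟨E, b, hb, hE, ⟨e⟩⟩ := hK
  have hx : ((extC' (algebraMap R p.ResidueField)).obj E).ExactAt i :=
    exactAt_of_lbase _ (isKF hE hb) e i hi
  haveI := (hE i).1; haveI := (hE i).2; haveI := (hE (i + 1)).1; haveI := (hE (i + 1)).2
  obtain ⟨f, hf, s, t, hu⟩ := FibreSplit.exists_away p (E.d (i - 1) i).hom (E.d i (i + 1)).hom
    (exact_aux _ E (i - 1) i (i + 1) (by omega) rfl inferInstance (Algebra.algebra_ext _ _ fun _ => rfl) hx)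
  refine ⟨f, hf, ?_⟩
  let φ := algebraMap R (Localization.Away f)
  let F := ModuleCat.extendScalars.{u, u, u} φ
  haveI : PreservesFiniteLimits F := ModuleCat.preservesFiniteLimits_extendScalars_of_flat (by
    rw [RingHom.flat_algebraMap_iff]
    exact IsLocalization.flat _ (Submonoid.powers f))
  haveI : PreservesFiniteColimits F := by
    haveI : F.IsLeftAdjoint := (ModuleCat.extendRestrictScalarsAdj φ).isLeftAdjoint
    infer_instance
  let P := (extC' φ).obj E
  let eP : DerivedCategory.Q.obj P ≅ DRing.toD ((F.mapHomologicalComplex (ComplexShape.up ℤ)).obj K) :=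
    (F.mapDerivedCategoryFactors.app E).symm ≪≫ F.mapDerivedCategory.mapIso e ≪≫ F.mapDerivedCategoryFactors.app K
  have hPb : DRing.VanishesAbove P b := fun n hn => F.map_isZero (hb n hn)
  have hext : ∀ (M : ModuleCat.{u} (Localization.Away f)) (g : P.X i ⟶ M), P.d (i - 1) i ≫ g = 0 →
      ∃ ψ : P.X (i + 1) ⟶ M, P.d i (i + 1) ≫ ψ = g :=
    extend_aux φ E (i - 1) i (i + 1) s t inferInstance (Algebra.algebra_ext _ _ fun _ => rfl) hu
  refine conclude _ ⟨P, b, hPb, free_ext φ hE, ⟨eP⟩⟩ i (fun M g => ?_) ?_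
  · rw [← cancel_epi eP.hom, comp_zero]
    exact hom_eq_zero P b hPb (free_ext φ hE) i hext M _
  · refine ModuleCat.subsingleton_of_isZero (IsZero.of_iso ?_ ((DerivedCategory.homologyFunctor _ i).mapIso eP.symm ≪≫
      (DerivedCategory.homologyFunctorFactors (ModuleCat.{u} (Localization.Away f)) i).app P))
    show IsZero (P.homology i)
    exact (HomologicalComplex.exactAt_iff_isZero_homology _ _).1 (exactAt_of_extend P i hext)

end Groth.Agent.H9Misc.DRingSplitAway
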