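import Groth.Agent.H9Misc.DRingTorLTensor
import Groth.Agent.H9Misc.KFlatRows
import Mathlib

/-! Tor amplitude bounded below. -/

set_option linter.style.haveILetI false

universe u

open CategoryTheory CategoryTheory.Limits MonoidalCategory

attribute [local instance] HasDerivedCategory.standard

namespace Groth.Agent.H9Misc.DRingTorBelow

open Groth.Agent.KFlatLib DRingLTensor DRingTorLTensor

variable {A : Type u} [CommRing A]

/-- The kernel of a surjection between flat modules is flat. -/
lemma flat_X₁ {S : ShortComplex (ModuleCat.{u} A)} (hS : S.ShortExact) [Module.Flat A S.X₂]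
    [Module.Flat A S.X₃] : Module.Flat A S.X₁ := by
  rw [Module.Flat.iff_rTensor_preserves_injective_linearMap]
  intro P Q _ _ _ _ f hf
  have h := KFlatRows.shortExact_tensorLeft hS (ModuleCat.of A P)
  have hi : Function.Injective (S.f.hom.lTensor P) := (ModuleCat.mono_iff_injective _).1 h.mono_f
  have h2 : Function.Injective (f.rTensor S.X₂ ∘ₗ S.f.hom.lTensor P) :=
    (Module.Flat.rTensor_preserves_injective_linearMap (M := S.X₂) f hf).comp hi
  rw [LinearMap.rTensor_comp_lTensor, ← LinearMap.lTensor_comp_rTensor, LinearMap.coe_comp] at h2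
  exact h2.of_comp

variable {X : DRing.Cx A}

/-- `H^i (M ⊗^L X)` on a K-flat resolution of `X`. -/
lemma subsingleton_iff [DRing.HasLTensorCx A X] {X' : DRing.Cx A} (ψ : X' ⟶ X) [QuasiIso ψ]
    (hX' : IsKF X') (M : ModuleCat.{u} A) (i : ℤ) :
    Subsingleton (Dual.HD A ((DRing.LTensorCx A X).obj
        (DRing.toD ((CochainComplex.singleFunctor (ModuleCat.{u} A) 0).obj M))) i) ↔
      ((tensC M).obj X').ExactAt i := by
  obtain ⟨F, f, hf, hF⟩ := exists_resolution M
  haveI := hf
  haveI : IsIso (DerivedCategory.Q.map f) := (DerivedCategory.isIso_Q_map_iff_quasiIso _ _).2 hf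
  obtain ⟨e⟩ := DRingLTensorCx.nonempty_iso X hF (asIso (DerivedCategory.Q.map f))
  refine Iff.trans ?_ (exactAt_balance ψ hX' hF f i)
  refine Iff.trans ?_ (exactAt_iff_of_iso ((symmIso curriedTensorFlipIso F).app X) i).symm
  rw [HomologicalComplex.exactAt_iff_isZero_homology]
  let e' := (DerivedCategory.homologyFunctor (ModuleCat.{u} A) i).mapIso e ≪≫
    (DerivedCategory.homologyFunctorFactors (ModuleCat.{u} A) i).app _
  exact ⟨fun h => (DRingCompl.isZ h).of_iso e'.symm,
    fun h => ModuleCat.subsingleton_of_isZero (h.of_iso e')⟩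

/-- A bounded below K-flat representative with flat terms. -/
theorem exists_flat_rep [DRing.HasLTensorCx A X] (a : ℤ)
    (h : ∀ (M : ModuleCat.{u} A) (i : ℤ), i < a → Subsingleton (Dual.HD A ((DRing.LTensorCx A X).obj
      (DRing.toD ((CochainComplex.singleFunctor (ModuleCat.{u} A) 0).obj M))) i)) :
    ∃ E : DRing.Cx A, IsKF E ∧ DRing.TermwiseFlat E ∧ (∀ i : ℤ, i < a → IsZero (E.X i)) ∧
      Nonempty (DRing.toD E ≅ DRing.toD X) := by
  let P := (ringCover A).P.obj X
  haveI := (ringCover A).quasiIso_ψ X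
  have hP : IsKF P := kFlat_ringRes X
  have hflat : DRing.TermwiseFlat P := fun i => (ringCover A).flat_P X i
  have hex : ∀ (M : ModuleCat.{u} A) (i : ℤ), i < a → ((tensC M).obj P).ExactAt i := fun M i hi =>
    (subsingleton_iff (X := X) ((ringCover A).ψ.app X) hP M i).1 (h M i hi)
  haveI : P.IsGE a := (CochainComplex.isGE_iff P a).2 fun i hi =>
    (hex (𝟙_ (ModuleCat.{u} A)) i hi).of_iso
      (HomologicalComplex.Hom.isoOfComponents (fun m => ρ_ (P.X m))
        (fun j k _ => (MonoidalCategory.rightUnitor_naturality (P.d j k)).symm))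
  let E := P.truncGE a
  let emb := ComplexShape.embeddingUpIntGE a
  have hEflat : DRing.TermwiseFlat E := fun i => by
    rcases lt_or_ge i a with hia | hia
    · haveI := ModuleCat.subsingleton_of_isZero (CochainComplex.isZero_of_isStrictlyGE E a i hia)
      infer_instance
    obtain ⟨n, rfl⟩ : ∃ n : ℕ, a + n = i := ⟨(i - a).toNat, by omega⟩
    rcases Nat.eq_zero_or_pos n with rfl | hn
    · have hf : Module.Flat A (P.opcycles (a + (0 : ℕ))) := by
        rw [Nat.cast_zero, add_zero]
        exact DRingTor.flat_opcycles hflat a fun M => hex M (a - 1) (by omega)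
      exact (Module.Flat.equiv_iff (HomologicalComplex.truncGEXIsoOpcycles P emb (i := 0) rfl
        ((ComplexShape.boundaryGE_embeddingUpIntGE_iff a 0).2 rfl)).toLinearEquiv).2 hf
    · exact (Module.Flat.equiv_iff (HomologicalComplex.truncGEXIso P emb (i := n) rfl
        (fun hb => by have := (ComplexShape.boundaryGE_embeddingUpIntGE_iff a n).1 hb; omega)).toLinearEquiv).2
          (hflat _)
  haveI : Epi (P.πTruncGE a) := inferInstanceAs (Epi (HomologicalComplex.πTruncGE P emb))
  let S : ShortComplex (DRing.Cx A) :=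
    ShortComplex.mk (kernel.ι (P.πTruncGE a)) (P.πTruncGE a) (kernel.condition _)
  have hS : S.ShortExact :=
    { exact := ShortComplex.exact_of_f_is_kernel _ (kernelIsKernel _)
      mono_f := inferInstanceAs (Mono (kernel.ι (P.πTruncGE a)))
      epi_g := inferInstanceAs (Epi (P.πTruncGE a)) }
  have hdeg := (HomologicalComplex.shortExact_iff_degreewise_shortExact S).1 hS
  have hNb : DRing.VanishesAbove S.X₁ a := fun i hi => by
    obtain ⟨n, rfl⟩ : ∃ n : ℕ, a + n = i := ⟨(i - a).toNat, by omega⟩
    haveI : IsIso ((P.πTruncGE a).f (a + n)) := by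
      show IsIso ((HomologicalComplex.πTruncGE P emb).f (emb.f n))
      dsimp only [HomologicalComplex.πTruncGE]
      refine (emb.isIso_liftExtend_f_iff _ _ rfl).2 ?_
      haveI := P.isIso_restrictionToTruncGE' emb n
        (fun hb => by have := (ComplexShape.boundaryGE_embeddingUpIntGE_iff a n).1 hb; omega)
      assumption
    refine @IsZero.of_mono_eq_zero _ _ _ _ _ ((S.map (HomologicalComplex.eval _ (ComplexShape.up ℤ) (a + n))).f) (hdeg (a + n)).mono_f ?_
    exact (cancel_mono ((P.πTruncGE a).f (a + n))).1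
      ((S.map (HomologicalComplex.eval _ (ComplexShape.up ℤ) (a + n))).zero.trans zero_comp.symm)
  have hNf : DRing.TermwiseFlat S.X₁ := fun i => by
    haveI : Module.Flat A (S.map (HomologicalComplex.eval _ (ComplexShape.up ℤ) i)).X₂ := hflat i
    haveI : Module.Flat A (S.map (HomologicalComplex.eval _ (ComplexShape.up ℤ) i)).X₃ := hEflat i
    exact flat_X₁ (hdeg i)
  have hE : IsKF E := (KFlatRows.two_out_of_three_ses hS hEflat).1 (kFlat_of_termwiseFlat hNf hNb) hP
  haveI : IsIso (DerivedCategory.Q.map ((ringCover A).ψ.app X)) :=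
    (DerivedCategory.isIso_Q_map_iff_quasiIso _ _).2 inferInstance
  haveI : IsIso (DerivedCategory.Q.map (P.πTruncGE a)) :=
    (DerivedCategory.isIso_Q_map_iff_quasiIso _ _).2 inferInstance
  exact ⟨E, hE, hEflat, fun i hi => CochainComplex.isZero_of_isStrictlyGE E a i hi,
    ⟨(asIso (DerivedCategory.Q.map (P.πTruncGE a))).symm ≪≫
      asIso (DerivedCategory.Q.map ((ringCover A).ψ.app X))⟩⟩

/-- The converse. -/
theorem of_flat_rep [DRing.HasLTensorCx A X] {E : DRing.Cx A} (hE : IsKF E) (a : ℤ)
    (hz : ∀ i : ℤ, i < a → IsZero (E.X i)) (e : DRing.toD E ≅ DRing.toD X)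
    (M : ModuleCat.{u} A) (i : ℤ) (hi : i < a) :
    Subsingleton (Dual.HD A ((DRing.LTensorCx A X).obj
      (DRing.toD ((CochainComplex.singleFunctor (ModuleCat.{u} A) 0).obj M))) i) := by
  obtain ⟨X'', s, hs, g, hg⟩ := DerivedCategory.right_fac e.hom
  haveI := hs
  haveI : IsIso (DerivedCategory.Q.map g) := by
    rw [show DerivedCategory.Q.map g = DerivedCategory.Q.map s ≫ e.hom from
      (IsIso.inv_comp_eq _).1 hg.symm]
    infer_instance
  haveI : QuasiIso s := (DerivedCategory.isIso_Q_map_iff_quasiIso _ _).1 hs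
  haveI : QuasiIso g := (DerivedCategory.isIso_Q_map_iff_quasiIso _ _).1 inferInstance
  let P := (ringCover A).P.obj X''
  haveI := (ringCover A).quasiIso_ψ X''
  have hP : IsKF P := kFlat_ringRes X''
  refine (subsingleton_iff ((ringCover A).ψ.app X'' ≫ g) hP M i).2 ?_
  haveI := quasiIso_tensC M ((ringCover A).ψ.app X'' ≫ s) hP hE
  refine (exactAt_iff_of_quasiIso ((tensC M).map ((ringCover A).ψ.app X'' ≫ s)) i).2 ?_
  exact ShortComplex.exact_of_isZero_X₂ _ ((tensorRight M).map_isZero (hz i hi))

end Groth.Agent.H9Misc.DRingTorBelow
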