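import Mathlib
import Groth.Agent.H9Misc.DRingTorLTensor
import Groth.Agent.H9Misc.DRingTorDescent

/-! Tor amplitude over `A` of a complex of `B`-modules is local on `B`. -/

set_option linter.style.haveILetI false

universe u

open CategoryTheory CategoryTheory.Limits MonoidalCategory

attribute [local instance] HasDerivedCategory.standard

namespace Groth.Agent.H9Misc.DRingTorLocal

open Groth.Agent.KFlatLib DRingLTensor DRingTor DRingTorDescent DRingTorLTensor

variable {A B : Type u} [CommRing A] [CommRing B]

/-- `(X ⊗ Y) ⊗ M = (X ⊗ M) ⊗ Y`. -/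
noncomputable def swapIso (M : ModuleCat.{u} B) :
    curriedTensor (ModuleCat.{u} B) ⋙ (Functor.whiskeringRight _ _ _).obj (tensorRight M) ≅
      tensorRight M ⋙ curriedTensor (ModuleCat.{u} B) ⋙
        (Functor.whiskeringLeft _ _ _).obj (𝟭 (ModuleCat.{u} B)) :=
  NatIso.ofComponents (fun X => NatIso.ofComponents
      (fun Y => α_ X Y M ≪≫ whiskerLeftIso X (β_ Y M) ≪≫ (α_ X M Y).symm)
      (fun {Y Y'} g => by
        dsimp
        simp only [whiskerLeftIso_hom]
        rw [associator_naturality_middle_assoc, ← whiskerLeft_comp_assoc,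
          BraidedCategory.braiding_naturality_left, whiskerLeft_comp_assoc, Category.assoc,
          Category.assoc, associator_inv_naturality_right]))
    (fun {X X'} g => by
      refine NatTrans.ext (funext fun Y => ?_)
      dsimp
      simp only [whiskerLeftIso_hom]
      rw [associator_naturality_left_assoc, ← whisker_exchange_assoc, Category.assoc, Category.assoc,
        associator_inv_naturality_left])

/-- Localizing a tensor product of complexes. -/
noncomputable def tensCTensorIso (M : ModuleCat.{u} B) (K G : DRing.Cx B) :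
    (((tensorRight M).mapHomologicalComplex (ComplexShape.up ℤ)).obj K) ⊗ G ≅
      ((tensorRight M).mapHomologicalComplex (ComplexShape.up ℤ)).obj (K ⊗ G) :=
  totalMapIso (Φ₁ := tensorRight M) (Φ₂ := 𝟭 (ModuleCat.{u} B)) (Ψ := tensorRight M)
    (T := curriedTensor (ModuleCat.{u} B)) (T' := curriedTensor (ModuleCat.{u} B)) (swapIso M) K G

/-- Scalar extension, restricted, is a tensor product. -/
noncomputable def extResIso {C : Type u} [CommRing C] (ψ : B →+* C) :
    tensorRight (resB ψ) ≅ ModuleCat.extendScalars ψ ⋙ ModuleCat.restrictScalars ψ :=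
  (BraidedCategory.tensorLeftIsoTensorRight _).symm ≪≫ (extendRestrictIso ψ).symm

lemma exactAt_of_localized_maximal (Y : DRing.Cx B) (i : ℤ)
    (h : ∀ (m : Ideal B) [m.IsMaximal],
      (((tensorRight (resB (algebraMap B (Localization.AtPrime m)))).mapHomologicalComplex
        (ComplexShape.up ℤ)).obj Y).ExactAt i) : Y.ExactAt i := by
  rw [HomologicalComplex.exactAt_iff_isZero_homology]
  suffices Subsingleton (Y.homology i) from ModuleCat.isZero_of_subsingleton _
  refine subsingleton_of_forall_eq 0 fun x => ?_
  let J : Ideal B := LinearMap.ker (LinearMap.toSpanSingleton B (Y.homology i) x)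
  suffices hJ : J = ⊤ by
    have h1 : (1 : B) ∈ J := hJ ▸ Submodule.mem_top
    have : (1 : B) • x = 0 := h1
    rwa [one_smul] at this
  by_contra hJ
  obtain ⟨m, hm, hle⟩ := Ideal.exists_le_maximal J hJ
  haveI := hm
  haveI : Module.Flat B (resB (algebraMap B (Localization.AtPrime m))) :=
    RingHom.flat_algebraMap_iff.2 (IsLocalization.flat (Localization.AtPrime m) m.primeCompl)
  have hz := (HomologicalComplex.exactAt_iff_isZero_homology _ _).1 (h m)
  have hz' : IsZero (Y.homology i ⊗ ModuleCat.of B (Localization.AtPrime m)) :=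
    isZero_tensor_of_resB _ (hz.of_iso
      (ShortComplex.mapHomologyIso _ (tensorRight (resB (algebraMap B (Localization.AtPrime m))))).symm)
  haveI : Subsingleton (TensorProduct B (Y.homology i) (Localization.AtPrime m)) :=
    ModuleCat.subsingleton_of_isZero hz'
  haveI : Subsingleton (TensorProduct B (Localization.AtPrime m) (Y.homology i)) :=
    (TensorProduct.comm B _ _).toEquiv.subsingleton
  obtain ⟨⟨c, hc⟩, hcx⟩ := (IsLocalizedModule.eq_zero_iff m.primeCompl
    (TensorProduct.mk B (Localization.AtPrime m) (Y.homology i) 1)).1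
      (Subsingleton.elim (α := TensorProduct B _ _) _ 0)
  exact hc (hle hcx)

theorem hasTorAmplitudeIn_of_local (φ : A →+* B) (K : DRing.Cx B) (a b : ℤ)
    (h : ∀ (m : Ideal B) [m.IsMaximal], ∃ (A' : Type u) (_ : CommRing A') (ι : A →+* A')
      (α : A' →+* Localization.AtPrime m), ι.Flat ∧
        α.comp ι = (algebraMap B (Localization.AtPrime m)).comp φ ∧
        DRing.HasTorAmplitudeIn A' a b (DRing.toD ((DRing.restrictCx α).obj
          (((ModuleCat.extendScalars (algebraMap B (Localization.AtPrime m))).mapHomologicalComplex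
            (ComplexShape.up ℤ)).obj K)))) :
    DRing.HasTorAmplitudeIn A a b (DRing.toD ((DRing.restrictCx φ).obj K)) := by
  let X : DRing.Cx A := (DRing.restrictCx φ).obj K
  haveI := (ringCover A).quasiIso_ψ X
  haveI : IsIso (DerivedCategory.Q.map ((ringCover A).ψ.app X)) :=
    (DerivedCategory.isIso_Q_map_iff_quasiIso _ _).2 inferInstance
  refine hasTorAmplitudeIn_of_van (kFlat_ringRes X) (fun M i hi => ?_)
    (asIso (DerivedCategory.Q.map ((ringCover A).ψ.app X)))
  obtain ⟨F, f, hf, hF⟩ := exists_resolution M
  haveI := hf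
  refine (exactAt_balance ((ringCover A).ψ.app X) (kFlat_ringRes X) hF f i).1
    ((exactAt_projection φ K F i).1 ?_)
  refine exactAt_of_localized_maximal _ i fun m _ => ?_
  obtain ⟨A', _, ι, α, hι, hcomp, hK⟩ := h m
  let ψ := algebraMap B (Localization.AtPrime m)
  refine (exactAt_iff_of_iso (tensCTensorIso (resB ψ) K ((extC' φ).obj F)) i).1 ?_
  let Km : DRing.Cx (Localization.AtPrime m) :=
    ((ModuleCat.extendScalars ψ).mapHomologicalComplex (ComplexShape.up ℤ)).obj K
  let eK : ((tensorRight (resB ψ)).mapHomologicalComplex (ComplexShape.up ℤ)).obj K ≅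
      ((ModuleCat.restrictScalars ψ).mapHomologicalComplex (ComplexShape.up ℤ)).obj Km :=
    HomologicalComplex.Hom.isoOfComponents (fun n => (extResIso ψ).app (K.X n))
      (fun p q _ => ((extResIso ψ).hom.naturality (K.d p q)).symm)
  refine (exactAt_iff_of_iso (whiskerRightIso eK ((extC' φ).obj F)) i).2 ?_
  refine (exactAt_projection φ _ F i).2 ?_
  let N : DRing.Cx A' := ((ModuleCat.restrictScalars α).mapHomologicalComplex (ComplexShape.up ℤ)).obj Km
  let eN : ((ModuleCat.restrictScalars φ).mapHomologicalComplex (ComplexShape.up ℤ)).obj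
      (((ModuleCat.restrictScalars ψ).mapHomologicalComplex (ComplexShape.up ℤ)).obj Km) ≅
      ((ModuleCat.restrictScalars ι).mapHomologicalComplex (ComplexShape.up ℤ)).obj N :=
    HomologicalComplex.Hom.isoOfComponents
      (fun n => ((ModuleCat.restrictScalarsComp' φ ψ (α.comp ι) hcomp).app (Km.X n)).symm ≪≫
        (ModuleCat.restrictScalarsComp' ι α (α.comp ι) rfl).app (Km.X n))
      (fun p q _ => rfl)
  refine (exactAt_iff_of_iso (whiskerRightIso eN F) i).2 ?_
  refine (exactAt_projection ι N F i).1 ?_
  haveI := (ringCover A').quasiIso_ψ N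
  haveI : IsIso (DerivedCategory.Q.map ((ringCover A').ψ.app N)) :=
    (DerivedCategory.isIso_Q_map_iff_quasiIso _ _).2 inferInstance
  have hV := (iff_van (kFlat_ringRes N) (asIso (DerivedCategory.Q.map ((ringCover A').ψ.app N)))).1 hK
  haveI := ModuleCat.preservesFiniteLimits_extendScalars_of_flat hι
  haveI : PreservesFiniteColimits (ModuleCat.extendScalars.{u, u, u} ι) := by
    haveI : (ModuleCat.extendScalars.{u, u, u} ι).IsLeftAdjoint :=
      (ModuleCat.extendRestrictScalarsAdj ι).isLeftAdjoint
    infer_instance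
  haveI : QuasiIso ((extC' ι).map f) := by
    constructor
    intro n
    infer_instance
  let f' : (extC' ι).obj F ⟶
      (HomologicalComplex.single (ModuleCat.{u} A') (ComplexShape.up ℤ) 0).obj
        ((ModuleCat.extendScalars ι).obj M) :=
    (extC' ι).map f ≫ ((HomologicalComplex.singleMapHomologicalComplex (ModuleCat.extendScalars ι)
      (ComplexShape.up ℤ) 0).app M).hom
  exact (exactAt_balance ((ringCover A').ψ.app N) (kFlat_ringRes N)
    (kFlat_extendScalars ι hF) f' i).2 (hV _ i hi)

end Groth.Agent.H9Misc.DRingTorLocal
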