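import Mathlib
import Groth.Agent.H9Misc.DRingTorLocal

/-! Tor amplitude over `R` is local for the faithfully flat topology of `A`. -/

set_option linter.style.haveILetI false

universe u

open CategoryTheory CategoryTheory.Limits MonoidalCategory

attribute [local instance] HasDerivedCategory.standard

namespace Groth.Agent.H9Misc.DRingTorFaithful

open Groth.Agent.KFlatLib DRingLTensor DRingTor DRingTorDescent DRingTorLTensor DRingTorLocal

variable {R A : Type u} [CommRing R] [CommRing A]

lemma exactAt_tensC_faithful {B : Type u} [CommRing B] [Algebra A B] [Module.FaithfullyFlat A B]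
    (Y : DRing.Cx A) (i : ℤ) :
    (((tensorRight (resB (algebraMap A B))).mapHomologicalComplex (ComplexShape.up ℤ)).obj Y).ExactAt i ↔
      Y.ExactAt i := by
  have hB : (algebraMap A B).Flat := RingHom.flat_algebraMap_iff.2 inferInstance
  haveI : Module.Flat A (resB (algebraMap A B)) := hB
  refine ⟨fun h => ?_, fun h => h.map (tensorRight (resB (algebraMap A B)))⟩
  rw [HomologicalComplex.exactAt_iff_isZero_homology] at h ⊢
  exact isZero_of_faithfullyFlat _ (isZero_tensor_of_resB _ (h.of_iso
    (ShortComplex.mapHomologyIso _ (tensorRight (resB (algebraMap A B)))).symm))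

/-- Tor amplitude of a restriction, read on one resolution of each module. -/
lemma restrict_iff (φ : R →+* A) (K : DRing.Cx A) (a b : ℤ) :
    DRing.HasTorAmplitudeIn R a b (DRing.toD ((DRing.restrictCx φ).obj K)) ↔
      ∀ (M : ModuleCat.{u} R) (F : DRing.Cx R)
        (f : F ⟶ (HomologicalComplex.single (ModuleCat.{u} R) (ComplexShape.up ℤ) 0).obj M),
        QuasiIso f → IsKF F → ∀ i, (i < a ∨ b < i) → (K ⊗ (extC' φ).obj F).ExactAt i := by
  let X : DRing.Cx R := (DRing.restrictCx φ).obj K
  haveI := (ringCover R).quasiIso_ψ X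
  haveI : IsIso (DerivedCategory.Q.map ((ringCover R).ψ.app X)) :=
    (DerivedCategory.isIso_Q_map_iff_quasiIso _ _).2 inferInstance
  constructor
  · intro h M F f hf hF i hi
    haveI := hf
    have hV := (iff_van (kFlat_ringRes X) (asIso (DerivedCategory.Q.map ((ringCover R).ψ.app X)))).1 h
    exact (exactAt_projection φ K F i).2
      ((exactAt_balance ((ringCover R).ψ.app X) (kFlat_ringRes X) hF f i).2 (hV M i hi))
  · intro h
    refine hasTorAmplitudeIn_of_van (kFlat_ringRes X) (fun M i hi => ?_)
      (asIso (DerivedCategory.Q.map ((ringCover R).ψ.app X)))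
    obtain ⟨F, f, hf, hF⟩ := exists_resolution M
    haveI := hf
    exact (exactAt_balance ((ringCover R).ψ.app X) (kFlat_ringRes X) hF f i).1
      ((exactAt_projection φ K F i).1 (h M F f hf hF i hi))

lemma of_iso {a b : ℤ} {K L : Dual.D R} (e : K ≅ L) (h : DRing.HasTorAmplitudeIn R a b K) :
    DRing.HasTorAmplitudeIn R a b L := by
  obtain ⟨E, hz, hf, ⟨e'⟩⟩ := h
  exact ⟨E, hz, hf, ⟨e' ≪≫ e⟩⟩

theorem faithful_iff {B : Type u} [CommRing B] [Algebra R A] [Algebra A B] [Algebra R B]
    [IsScalarTower R A B] [Module.FaithfullyFlat A B] [DRing.HasLBaseChange (algebraMap A B)]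
    (K : Dual.D A) (a b : ℤ) :
    DRing.HasTorAmplitudeIn R a b ((DRing.restrictD (algebraMap R A)).obj K) ↔
      DRing.HasTorAmplitudeIn R a b
        ((DRing.restrictD (algebraMap R B)).obj ((DRing.LBaseChange (algebraMap A B)).obj K)) := by
  let K₀ := DerivedCategory.Q.objPreimage K
  let e₀ : DerivedCategory.Q.obj K₀ ≅ K := DerivedCategory.Q.objObjPreimageIso K
  let P := (ringCover A).P.obj K₀
  haveI := (ringCover A).quasiIso_ψ K₀
  haveI : IsIso (DerivedCategory.Q.map ((ringCover A).ψ.app K₀)) :=
    (DerivedCategory.isIso_Q_map_iff_quasiIso _ _).2 inferInstance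
  let e : DerivedCategory.Q.obj P ≅ K := asIso (DerivedCategory.Q.map ((ringCover A).ψ.app K₀)) ≪≫ e₀
  have hP : IsKF P := kFlat_ringRes K₀
  let φ := algebraMap R A
  let ψ := algebraMap A B
  obtain ⟨eB⟩ := DRingLBase.nonempty_lbase_iso ψ hP
  let P' : DRing.Cx B := (extC' ψ).obj P
  let i₁ : DRing.toD ((DRing.restrictCx φ).obj P) ≅ (DRing.restrictD φ).obj K :=
    ((ModuleCat.restrictScalars φ).mapDerivedCategoryFactors.app P).symm ≪≫
      (DRing.restrictD φ).mapIso e
  let i₂ : DRing.toD ((DRing.restrictCx (algebraMap R B)).obj P') ≅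
      (DRing.restrictD (algebraMap R B)).obj ((DRing.LBaseChange ψ).obj K) :=
    ((ModuleCat.restrictScalars (algebraMap R B)).mapDerivedCategoryFactors.app P').symm ≪≫
      (DRing.restrictD (algebraMap R B)).mapIso (eB.symm ≪≫ (DRing.LBaseChange ψ).mapIso e)
  refine Iff.trans ⟨of_iso i₁.symm, of_iso i₁⟩ (Iff.trans ?_ ⟨of_iso i₂, of_iso i₂.symm⟩)
  rw [restrict_iff φ P, restrict_iff (algebraMap R B) P']
  refine forall_congr' fun M => forall_congr' fun F => forall_congr' fun f => forall_congr' fun _ =>
    forall_congr' fun _ => forall_congr' fun i => forall_congr' fun _ => ?_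
  let eK : ((tensorRight (resB ψ)).mapHomologicalComplex (ComplexShape.up ℤ)).obj P ≅
      ((ModuleCat.restrictScalars ψ).mapHomologicalComplex (ComplexShape.up ℤ)).obj P' :=
    HomologicalComplex.Hom.isoOfComponents (fun n => (extResIso ψ).app (P.X n))
      (fun p q _ => ((extResIso ψ).hom.naturality (P.d p q)).symm)
  let eN : ((ModuleCat.restrictScalars φ).mapHomologicalComplex (ComplexShape.up ℤ)).obj
      (((ModuleCat.restrictScalars ψ).mapHomologicalComplex (ComplexShape.up ℤ)).obj P') ≅
      ((ModuleCat.restrictScalars (algebraMap R B)).mapHomologicalComplex (ComplexShape.up ℤ)).obj P' :=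
    HomologicalComplex.Hom.isoOfComponents
      (fun n => ((ModuleCat.restrictScalarsComp' φ ψ (algebraMap R B)
        (IsScalarTower.algebraMap_eq R A B)).app (P'.X n)).symm)
      (fun p q _ => rfl)
  refine Iff.trans (exactAt_tensC_faithful (B := B) (P ⊗ (extC' φ).obj F) i).symm ?_
  refine (exactAt_iff_of_iso (tensCTensorIso (resB ψ) P ((extC' φ).obj F)) i).symm.trans ?_
  refine (exactAt_iff_of_iso (whiskerRightIso eK ((extC' φ).obj F)) i).trans ?_
  refine (exactAt_projection φ _ F i).trans ?_
  refine (exactAt_iff_of_iso (whiskerRightIso eN F) i).trans ?_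
  exact (exactAt_projection (algebraMap R B) P' F i).symm

end Groth.Agent.H9Misc.DRingTorFaithful
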