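import Groth.Agent.H9Misc.DRingNilpPC
import Groth.Agent.H9Misc.DRingPerfect

/-! Perfectness along a pair of ideals with zero product. -/

set_option linter.style.haveILetI false

universe u

open CategoryTheory CategoryTheory.Category CategoryTheory.Limits MonoidalCategory
open CategoryTheory.Pretriangulated

attribute [local instance] HasDerivedCategory.standard

namespace Groth.Agent.H9Misc.DRingTwoIdeals

open Groth.Agent.KFlatLib DRingLTensor DRingTor DRingRestrict DRingNilp

variable {A B B' : Type u} [CommRing A] [CommRing B] [CommRing B']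

/-- A finite piece of `M` covering modulo the kernel. -/
lemma exists_finite_piece (φ : A →+* B) (hφ : Function.Surjective φ)
    (M : ModuleCat.{u} A) (h : Module.Finite B ((ModuleCat.extendScalars.{u, u, u} φ).obj M)) :
    ∃ N : Submodule A M, N.FG ∧ N ⊔ RingHom.ker φ • ⊤ = ⊤ := by
  letI := φ.toAlgebra
  haveI : Module.Finite B (TensorProduct A B M) := h
  haveI : Module.Finite A B := Module.Finite.of_surjective (Algebra.linearMap A B) hφ
  haveI : Module.Finite A (TensorProduct A B M) := Module.Finite.trans B _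
  let I := RingHom.ker φ
  let p : Submodule A M := I • ⊤
  let mk : M →ₗ[A] TensorProduct A B M := TensorProduct.mk A B M 1
  have hs : Function.Surjective (algebraMap A B) := hφ
  have hmk : Function.Surjective mk := fun w => by
    induction w using TensorProduct.induction_on with
    | zero => exact ⟨0, map_zero _⟩
    | tmul b x =>
      obtain ⟨a, rfl⟩ := hs b
      exact ⟨a • x, by
        show (1 : B) ⊗ₜ[A] (a • x) = _
        rw [TensorProduct.tmul_smul, TensorProduct.smul_tmul', Algebra.smul_def, mul_one]⟩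
    | add w₁ w₂ h₁ h₂ =>
      obtain ⟨x₁, rfl⟩ := h₁
      obtain ⟨x₂, rfl⟩ := h₂
      exact ⟨x₁ + x₂, map_add _ _ _⟩
  have hker : LinearMap.ker mk ≤ p := fun x hx => by
    haveI := isIso_unit φ hφ (ModuleCat.of A (M ⧸ p)) fun r hr y => by
      obtain ⟨z, rfl⟩ := Submodule.mkQ_surjective p y
      exact (Submodule.Quotient.mk_eq_zero p).2 (Submodule.smul_mem_smul hr Submodule.mem_top)
    have hinj := ((ConcreteCategory.isIso_iff_bijective
      ((ModuleCat.extendRestrictScalarsAdj φ).unit.app (ModuleCat.of A (M ⧸ p)))).1 inferInstance).1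
    refine (Submodule.Quotient.mk_eq_zero p).1 (hinj (Eq.trans ?_ (map_zero _).symm))
    show (1 : B) ⊗ₜ[A] (p.mkQ x) = (0 : TensorProduct A B (M ⧸ p))
    rw [← LinearMap.lTensor_tmul B p.mkQ (1 : B) x, show (1 : B) ⊗ₜ[A] x = 0 from hx, map_zero]
  obtain ⟨n, π, hπ⟩ := Module.Finite.exists_fin' A (TensorProduct A B M)
  obtain ⟨l, hl⟩ := Module.projective_lifting_property mk π hmk
  let N := LinearMap.range l
  have h1 : N ⊔ p = ⊤ := eq_top_iff.2 fun x _ => by
    obtain ⟨c, hc⟩ := hπ (mk x)
    have : x - l c ∈ p := hker (by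
      rw [LinearMap.mem_ker, map_sub, show mk (l c) = π c from LinearMap.congr_fun hl c, hc, sub_self])
    exact Submodule.mem_sup.2 ⟨l c, ⟨c, rfl⟩, x - l c, this, add_sub_cancel _ _⟩
  exact ⟨N, Module.Finite.iff_fg.1 (inferInstanceAs (Module.Finite A (LinearMap.range l))), h1⟩

/-- Nakayama for a pair of kernels with zero product. -/
lemma finite_of_two (φ : A →+* B) (hφ : Function.Surjective φ) (ψ : A →+* B') (hψ : Function.Surjective ψ)
    (hmul : RingHom.ker φ * RingHom.ker ψ = ⊥) (M : ModuleCat.{u} A)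
    (h : Module.Finite B ((ModuleCat.extendScalars.{u, u, u} φ).obj M))
    (h' : Module.Finite B' ((ModuleCat.extendScalars.{u, u, u} ψ).obj M)) : Module.Finite A M := by
  obtain ⟨N, hN, hN1⟩ := exists_finite_piece φ hφ M h
  obtain ⟨N', hN', hN1'⟩ := exists_finite_piece ψ hψ M h'
  refine ⟨?_⟩
  have : N ⊔ N' = ⊤ := by
    refine top_le_iff.1 (hN1.ge.trans (sup_le le_sup_left ?_))
    calc RingHom.ker φ • (⊤ : Submodule A M) = RingHom.ker φ • (N' ⊔ RingHom.ker ψ • ⊤) := by rw [hN1']
      _ = RingHom.ker φ • N' ⊔ (RingHom.ker φ * RingHom.ker ψ) • ⊤ := by rw [Submodule.smul_sup, Submodule.mul_smul]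
      _ ≤ N ⊔ N' := by
        rw [hmul, Submodule.bot_smul, sup_bot_eq]
        exact Submodule.smul_le_right.trans le_sup_right
  rw [← this]
  exact hN.sup hN'

/-- Exactness after tensoring, for a pair of kernels with zero product. -/
lemma exactAt_two (φ : A →+* B) (hφ : Function.Surjective φ) (ψ : A →+* B') (hψ : Function.Surjective ψ)
    (hmul : RingHom.ker φ * RingHom.ker ψ = ⊥)
    {P : CochainComplex (ModuleCat.{u} A) ℤ} (hP : ∀ n, Module.Flat A (P.X n)) (i : ℤ)
    (h : ∀ N : ModuleCat.{u} B, ((tensC N).obj ((extC' φ).obj P)).ExactAt i)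
    (h' : ∀ N : ModuleCat.{u} B', ((tensC N).obj ((extC' ψ).obj P)).ExactAt i)
    (M : ModuleCat.{u} A) : ((tensC M).obj P).ExactAt i := by
  let p : Submodule A M := (RingHom.ker φ) • ⊤
  let S : ShortComplex (ModuleCat.{u} A) := ShortComplex.mk (ModuleCat.ofHom p.subtype)
    (ModuleCat.ofHom p.mkQ) (by ext x; exact (Submodule.Quotient.mk_eq_zero p).2 x.2)
  have hS : S.ShortExact :=
    { exact := (ShortComplex.moduleCat_exact_iff S).2 fun x hx =>
        ⟨⟨x, (Submodule.Quotient.mk_eq_zero p).1 hx⟩, rfl⟩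
      mono_f := (ModuleCat.mono_iff_injective _).2 Subtype.val_injective
      epi_g := (ModuleCat.epi_iff_surjective _).2 (Submodule.mkQ_surjective p) }
  refine exactAt_of_ses hP hS i (exactAt_of_killed ψ hψ i h' _ fun r hr x => Subtype.ext ?_)
    (exactAt_of_killed φ hφ i h _ fun r hr x => ?_)
  · show r • (x : M) = 0
    refine Submodule.smul_induction_on (p := fun y => r • y = 0) x.2 (fun s hs y _ => ?_) fun y z hy hz => ?_
    · have hrs : s * r ∈ RingHom.ker φ * RingHom.ker ψ := Ideal.mul_mem_mul hs hr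
      rw [hmul, Ideal.mem_bot] at hrs
      rw [← mul_smul, mul_comm, hrs, zero_smul]
    · rw [smul_add, hy, hz, add_zero]
  · obtain ⟨y, rfl⟩ := Submodule.mkQ_surjective p x
    exact (Submodule.Quotient.mk_eq_zero p).2 (Submodule.smul_mem_smul hr Submodule.mem_top)

lemma isZero_homology_of_two (φ : A →+* B) (hφ : Function.Surjective φ) (ψ : A →+* B') (hψ : Function.Surjective ψ)
    (hmul : RingHom.ker φ * RingHom.ker ψ = ⊥)
    {P : CochainComplex (ModuleCat.{u} A) ℤ} (hP : IsKF P) (hflat : ∀ n, Module.Flat A (P.X n)) (b : ℤ)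
    (h : ∀ i, b < i → IsZero (((extC' φ).obj P).homology i))
    (h' : ∀ i, b < i → IsZero (((extC' ψ).obj P).homology i)) (i : ℤ) (hi : b < i) : IsZero (P.homology i) := by
  have h1 := exactAt_two φ hφ ψ hψ hmul hflat i
    (fun N => (HomologicalComplex.exactAt_iff_isZero_homology _ i).2
      (DRingRightExact.isZero_homology_tensC N (KFlatLib.kFlat_extendScalars φ hP) b h i hi))
    (fun N => (HomologicalComplex.exactAt_iff_isZero_homology _ i).2
      (DRingRightExact.isZero_homology_tensC N (KFlatLib.kFlat_extendScalars ψ hP) b h' i hi))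
    (𝟙_ (ModuleCat.{u} A))
  rw [← HomologicalComplex.exactAt_iff_isZero_homology]
  exact h1.of_iso (HomologicalComplex.Hom.isoOfComponents (fun m => ρ_ (P.X m))
    (fun j k _ => (MonoidalCategory.rightUnitor_naturality (P.d j k)).symm))

/-- Finiteness of the top opcycles after base change. -/
lemma finite_ext_opcycles (φ : A →+* B) {m b : ℤ} (hbm : m ≤ b)
    (P : CochainComplex (ModuleCat.{u} A) ℤ) (hz : ∀ i, b < i → IsZero (P.X i))
    (hpc : DRing.IsPseudoCoherent B m (DerivedCategory.Q.obj ((extC' φ).obj P))) :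
    Module.Finite B ((ModuleCat.extendScalars.{u, u, u} φ).obj (P.opcycles b)) := by
  let F := ModuleCat.extendScalars.{u, u, u} φ
  let P' := (extC' φ).obj P
  have hz' : ∀ i, b < i → IsZero (P'.X i) := fun i hi => F.map_isZero (hz i hi)
  have hιP' : IsIso (P'.homologyι b) :=
    HomologicalComplex.isIso_homologyι P' b (b + 1) (by simp) ((hz' (b + 1) (by omega)).eq_of_tgt _ _)
  have h1 := (Groth.Agent.S2068.result _ b (DRingPC.mono hbm hpc)).1 fun i hi =>
    (ShortComplex.isZero_homology_of_isZero_X₂ _ (hz' i hi)).of_iso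
      ((DerivedCategory.homologyFunctorFactors (ModuleCat.{u} B) i).app P')
  haveI : Module.Finite B ((DerivedCategory.Q ⋙ DerivedCategory.homologyFunctor (ModuleCat.{u} B) b).obj P') := h1
  haveI : Module.Finite B (P'.opcycles b) := Module.Finite.equiv
    ((DerivedCategory.homologyFunctorFactors (ModuleCat.{u} B) b).app P' ≪≫ @asIso _ _ _ _ (P'.homologyι b) hιP').toLinearEquiv
  haveI : F.IsLeftAdjoint := (ModuleCat.extendRestrictScalarsAdj φ).isLeftAdjoint
  let q : P'.opcycles b ⟶ F.obj (P.opcycles b) := P'.descOpcycles (F.map (P.pOpcycles b)) (b - 1) (by simp) (by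
    show F.map (P.d (b - 1) b) ≫ F.map (P.pOpcycles b) = 0
    rw [← F.map_comp, P.d_pOpcycles, F.map_zero])
  have hFp : Epi (F.map (P.pOpcycles b)) := F.map_epi (P.pOpcycles b)
  haveI : Epi (P'.pOpcycles b ≫ q) := by
    rw [HomologicalComplex.p_descOpcycles]
    exact hFp
  haveI : Epi q := epi_of_epi (P'.pOpcycles b) q
  exact Module.Finite.of_surjective q.hom ((ModuleCat.epi_iff_surjective q).1 inferInstance)

/-- The reduced cone is pseudo-coherent. -/
lemma pc_cone (φ : A →+* B) {m b : ℤ} {N P R : CochainComplex (ModuleCat.{u} A) ℤ} (ι : N ⟶ P)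
    (ψ : R ⟶ CochainComplex.mappingCone ι) [QuasiIso ψ] (hCKF : IsKF (CochainComplex.mappingCone ι))
    (hRKF : IsKF R) (hfree : DRing.TermwiseFiniteFree N) (hNz : DRing.VanishesAbove N b)
    (hpc : DRing.IsPseudoCoherent B m (DerivedCategory.Q.obj ((extC' φ).obj P))) :
    DRing.IsPseudoCoherent B m (DerivedCategory.Q.obj ((extC' φ).obj R)) := by
  let F := ModuleCat.extendScalars.{u, u, u} φ
  haveI : QuasiIso ((extC' φ).map ψ) := quasiIso_extendScalars φ ψ hRKF hCKF
  haveI : IsIso (DerivedCategory.Q.map ((extC' φ).map ψ)) :=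
    (DerivedCategory.isIso_Q_map_iff_quasiIso _ _).2 inferInstance
  let ι' := (extC' φ).map ι
  have hT' := DerivedCategory.mappingCone_triangle_distinguished ι'
  have hN'pc : DRing.IsPseudoCoherent' B (DerivedCategory.Q.obj ((extC' φ).obj N)) :=
    ⟨_, b, fun i hi => F.map_isZero (hNz i hi),
      fun i => finFree_extendScalars φ _ (hfree i).1 (hfree i).2, ⟨Iso.refl _⟩⟩
  have hC' : DRing.IsPseudoCoherent B m (DerivedCategory.Q.obj (CochainComplex.mappingCone ι')) :=
    (Groth.Agent.S2067.result _ hT' m).1 ((DRingPC.pc'_iff _).1 hN'pc _) hpc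
  exact DRingPC.of_iso ((DerivedCategory.Q.mapIso
    (CochainComplex.mappingCone.mapHomologicalComplexIso ι F)).symm ≪≫
      (asIso (DerivedCategory.Q.map ((extC' φ).map ψ))).symm) hC'

lemma pc_of_two_aux (φ : A →+* B) (hφ : Function.Surjective φ) (ψ' : A →+* B') (hψ' : Function.Surjective ψ')
    (hmul : RingHom.ker φ * RingHom.ker ψ' = ⊥) :
    ∀ (k : ℕ) (m b : ℤ), b + 1 ≤ m + k → ∀ P : CochainComplex (ModuleCat.{u} A) ℤ, IsKF P →
    (∀ i, b < i → IsZero (P.X i)) →
    DRing.IsPseudoCoherent B m (DerivedCategory.Q.obj ((extC' φ).obj P)) →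
    DRing.IsPseudoCoherent B' m (DerivedCategory.Q.obj ((extC' ψ').obj P)) →
    DRing.IsPseudoCoherent A m (DerivedCategory.Q.obj P) := by
  intro k
  induction k with
  | zero =>
    intro m b hb P _ hz _ _
    exact DRingPC.of_vanish _ fun i hi => (ShortComplex.isZero_homology_of_isZero_X₂ _ (hz i (by omega))).of_iso
      ((DerivedCategory.homologyFunctorFactors (ModuleCat.{u} A) i).app P)
  | succ k ih =>
    intro m b hb P hP hz hpc hpc'
    rcases lt_or_ge b m with hbm | hbm
    · exact DRingPC.of_vanish _ fun i hi => (ShortComplex.isZero_homology_of_isZero_X₂ _ (hz i (by omega))).of_iso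
        ((DerivedCategory.homologyFunctorFactors (ModuleCat.{u} A) i).app P)
    haveI hιP : IsIso (P.homologyι b) :=
      HomologicalComplex.isIso_homologyι P b (b + 1) (by simp) ((hz (b + 1) (by omega)).eq_of_tgt _ _)
    have hfin : Module.Finite A (P.opcycles b) := finite_of_two φ hφ ψ' hψ' hmul _
      (finite_ext_opcycles φ hbm P hz hpc) (finite_ext_opcycles ψ' hbm P hz hpc')
    obtain ⟨n, π, hπ⟩ := Module.Finite.exists_fin' A (P.opcycles b)
    obtain ⟨l, hl⟩ := Module.projective_lifting_property (P.pOpcycles b).hom π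
      ((ModuleCat.epi_iff_surjective _).1 inferInstance)
    let N : ModuleCat.{u} A := ModuleCat.of A (Fin n → A)
    let ι : (sg b).obj N ⟶ P := HomologicalComplex.mkHomFromSingle (ModuleCat.ofHom l)
      fun i (hi : b + 1 = i) => (hz i (by omega)).eq_of_tgt _ _
    haveI hepi : Epi (HomologicalComplex.homologyMap ι b) := by
      haveI : IsIso (((sg b).obj N).homologyι b) := HomologicalComplex.isIso_homologyι _ b (b + 1) (by simp)
        ((HomologicalComplex.isZero_single_obj_X (ComplexShape.up ℤ) b N (b + 1) (by omega)).eq_of_tgt _ _)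
      haveI : Epi (((sg b).obj N).pOpcycles b ≫ HomologicalComplex.opcyclesMap ι b) := by
        rw [HomologicalComplex.p_opcyclesMap, show ι.f b = (HomologicalComplex.singleObjXSelf _ b N).hom ≫
          ModuleCat.ofHom l by simp [ι], assoc]
        haveI : Epi (ModuleCat.ofHom l ≫ P.pOpcycles b) := by
          rw [show ModuleCat.ofHom l ≫ P.pOpcycles b = ModuleCat.ofHom π from ModuleCat.hom_ext hl]
          exact (ModuleCat.epi_iff_surjective _).2 hπ
        infer_instance
      haveI : Epi (HomologicalComplex.opcyclesMap ι b) := epi_of_epi (((sg b).obj N).pOpcycles b) _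
      haveI : Epi (HomologicalComplex.homologyMap ι b ≫ P.homologyι b) := by
        rw [HomologicalComplex.homologyι_naturality]
        infer_instance
      rw [show HomologicalComplex.homologyMap ι b =
        (HomologicalComplex.homologyMap ι b ≫ P.homologyι b) ≫ inv (P.homologyι b) by rw [assoc, IsIso.hom_inv_id, comp_id]]
      infer_instance
    let C := CochainComplex.mappingCone ι
    let T := DerivedCategory.Q.mapTriangle.obj (CochainComplex.mappingCone.triangle ι)
    have hT : T ∈ distinguishedTriangles := DerivedCategory.mappingCone_triangle_distinguished ι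
    have hfree : DRing.TermwiseFiniteFree ((sg b).obj N) := fun i => by
      rcases eq_or_ne i b with rfl | hi
      · let f := (HomologicalComplex.singleObjXSelf (ComplexShape.up ℤ) i N).toLinearEquiv
        exact ⟨Module.Finite.equiv f.symm, Module.Free.of_equiv f.symm⟩
      · haveI := ModuleCat.subsingleton_of_isZero (HomologicalComplex.isZero_single_obj_X (ComplexShape.up ℤ) b N i hi)
        exact ⟨inferInstance, inferInstance⟩
    have hNz : DRing.VanishesAbove ((sg b).obj N) b := fun i hi =>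
      HomologicalComplex.isZero_single_obj_X _ _ _ _ (by omega)
    have hNpc : DRing.IsPseudoCoherent' A (DerivedCategory.Q.obj ((sg b).obj N)) :=
      ⟨_, b, hNz, hfree, ⟨Iso.refl _⟩⟩
    have hNKF : IsKF ((sg b).obj N) :=
      DRingTor.isKF_of_flat (fun i => haveI := (hfree i).2; inferInstance) hNz
    have hCKF : IsKF C := kFlat_cone _ hNKF hP
    have hCz : ∀ i, b < i → IsZero (C.X i) := fun i hi =>
      (CochainComplex.mappingCone.isZero_X_iff ι i).2 ⟨hNz (i + 1) (by omega), hz i hi⟩
    have hCH : ∀ i, b - 1 < i → IsZero (C.homology i) := fun i hi => by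
      rcases lt_or_ge b i with hib | hib
      · exact ShortComplex.isZero_homology_of_isZero_X₂ _ (hCz i hib)
      obtain rfl : i = b := by omega
      refine IsZero.of_iso ?_ ((DerivedCategory.homologyFunctorFactors (ModuleCat.{u} A) i).app C).symm
      refine (DerivedCategory.HomologySequence.exact₃ T hT i (i + 1) rfl).isZero_X₂ ?_
        (((ShortComplex.isZero_homology_of_isZero_X₂ _ (hNz (i + 1) (by omega))).of_iso
          ((DerivedCategory.homologyFunctorFactors (ModuleCat.{u} A) (i + 1)).app _)).eq_of_tgt _ _)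
      refine (DerivedCategory.HomologySequence.epi_homologyMap_mor₁_iff T hT i).1 ?_
      exact ((MorphismProperty.epimorphisms (ModuleCat.{u} A)).arrow_mk_iso_iff
        (((Functor.mapArrowFunctor _ _).mapIso (DerivedCategory.homologyFunctorFactors (ModuleCat.{u} A) i)).app
          (Arrow.mk ι))).2 hepi
    obtain ⟨R, ψ, hψ, hRKF, hRz⟩ := DRingRightExact.exists_bounded_rep C (b - 1) hCH
    haveI := hψ
    have hQψ : IsIso (DerivedCategory.Q.map ψ) := (DerivedCategory.isIso_Q_map_iff_quasiIso _ _).2 inferInstance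
    have hR : DRing.IsPseudoCoherent A m (DerivedCategory.Q.obj R) := ih m (b - 1) (by omega) R hRKF hRz
      (pc_cone φ ι ψ hCKF hRKF hfree hNz hpc) (pc_cone ψ' ι ψ hCKF hRKF hfree hNz hpc')
    exact (Groth.Agent.S2067.result T hT m).2.1 ((DRingPC.pc'_iff _).1 hNpc m)
      (DRingPC.of_iso (@asIso _ _ _ _ (DerivedCategory.Q.map ψ) hQψ) hR)

/-- Perfectness along two ideals with zero product. -/
theorem isPerfect_of_two (φ : A →+* B) (hφ : Function.Surjective φ) (ψ : A →+* B') (hψ : Function.Surjective ψ)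
    (hmul : RingHom.ker φ * RingHom.ker ψ = ⊥)
    {P : CochainComplex (ModuleCat.{u} A) ℤ} (hP : IsKF P) (hflat : ∀ n, Module.Flat A (P.X n))
    (h : DRing.IsPerfect B (DerivedCategory.Q.obj ((extC' φ).obj P)))
    (h' : DRing.IsPerfect B' (DerivedCategory.Q.obj ((extC' ψ).obj P))) :
    DRing.IsPerfect A (DerivedCategory.Q.obj P) := by
  obtain ⟨hpc, a₁, b₁, hamp⟩ := (DRingPerfect.isPerfect_iff _).1 h
  obtain ⟨hpc', a₂, b₂, hamp'⟩ := (DRingPerfect.isPerfect_iff _).1 h'
  have hV := (iff_van (KFlatLib.kFlat_extendScalars φ hP) (Iso.refl _)).1 hamp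
  have hV' := (iff_van (KFlatLib.kFlat_extendScalars ψ hP) (Iso.refl _)).1 hamp'
  refine (DRingPerfect.isPerfect_iff _).2 ⟨?_, min a₁ a₂, max b₁ b₂,
    hasTorAmplitudeIn_of_van hP (fun M i hi => exactAt_two φ hφ ψ hψ hmul hflat i
      (fun N => hV N i (hi.imp (fun h => lt_of_lt_of_le h (min_le_left _ _)) fun h => lt_of_le_of_lt (le_max_left _ _) h))
      (fun N => hV' N i (hi.imp (fun h => lt_of_lt_of_le h (min_le_right _ _)) fun h => lt_of_le_of_lt (le_max_right _ _) h)) M)
      (Iso.refl _)⟩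
  have hb : ∀ {C : Type u} [CommRing C] {P : CochainComplex (ModuleCat.{u} C) ℤ},
      DRing.IsPseudoCoherent' C (DerivedCategory.Q.obj P) → ∃ b, ∀ i, b < i → IsZero (P.homology i) := by
    rintro C _ P ⟨E, b, hEz, -, ⟨eE⟩⟩
    refine ⟨b, fun i hi => ?_⟩
    obtain ⟨eH⟩ := hd_iso (Iso.refl (toD'.obj P)) i
    obtain ⟨eH'⟩ := hd_iso eE i
    exact (ShortComplex.isZero_homology_of_isZero_X₂ _ (hEz i hi)).of_iso (eH.symm ≪≫ eH')
  obtain ⟨c, hc⟩ := hb hpc
  obtain ⟨c', hc'⟩ := hb hpc'
  let b := max c c'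
  have hz := isZero_homology_of_two φ hφ ψ hψ hmul hP hflat b (fun i hi => hc i (lt_of_le_of_lt (le_max_left _ _) hi))
    (fun i hi => hc' i (lt_of_le_of_lt (le_max_right _ _) hi))
  obtain ⟨R, θ, hθ, hRKF, hRz⟩ := DRingRightExact.exists_bounded_rep P b hz
  haveI := hθ
  haveI : IsIso (DerivedCategory.Q.map θ) := (DerivedCategory.isIso_Q_map_iff_quasiIso _ _).2 inferInstance
  haveI : QuasiIso ((extC' φ).map θ) := quasiIso_extendScalars φ θ hRKF hP
  haveI : QuasiIso ((extC' ψ).map θ) := quasiIso_extendScalars ψ θ hRKF hP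
  haveI : IsIso (DerivedCategory.Q.map ((extC' φ).map θ)) :=
    (DerivedCategory.isIso_Q_map_iff_quasiIso _ _).2 inferInstance
  haveI : IsIso (DerivedCategory.Q.map ((extC' ψ).map θ)) :=
    (DerivedCategory.isIso_Q_map_iff_quasiIso _ _).2 inferInstance
  refine DRingPC.of_iso' (asIso (DerivedCategory.Q.map θ)) ((DRingPC.pc'_iff _).2 fun m => ?_)
  exact pc_of_two_aux φ hφ ψ hψ hmul (b + 1 - m).toNat m b (by omega) R hRKF hRz
    ((DRingPC.pc'_iff _).1 (DRingPC.of_iso' (asIso (DerivedCategory.Q.map ((extC' φ).map θ))).symm hpc) m)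
    ((DRingPC.pc'_iff _).1 (DRingPC.of_iso' (asIso (DerivedCategory.Q.map ((extC' ψ).map θ))).symm hpc') m)

/-- Perfectness modulo a product of ideals. -/
theorem isPerfect_quotient_mul (I J : Ideal A)
    [DRing.HasLBaseChange (Ideal.Quotient.mk I)] [DRing.HasLBaseChange (Ideal.Quotient.mk J)]
    [DRing.HasLBaseChange (Ideal.Quotient.mk (I * J))] (K : Dual.D A)
    (hI : DRing.IsPerfect (A ⧸ I) ((DRing.LBaseChange (Ideal.Quotient.mk I)).obj K))
    (hJ : DRing.IsPerfect (A ⧸ J) ((DRing.LBaseChange (Ideal.Quotient.mk J)).obj K)) :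
    DRing.IsPerfect (A ⧸ (I * J)) ((DRing.LBaseChange (Ideal.Quotient.mk (I * J))).obj K) := by
  obtain ⟨P, hP, hflat, ⟨e⟩⟩ := exists_rep K
  obtain ⟨e'⟩ := DRingLBase.nonempty_lbase_iso (Ideal.Quotient.mk (I * J)) hP
  let P' := (extC' (Ideal.Quotient.mk (I * J))).obj P
  let f := Ideal.Quotient.factor (S := I * J) (T := I) Ideal.mul_le_left
  let g := Ideal.Quotient.factor (S := I * J) (T := J) Ideal.mul_le_right
  have key : ∀ (L : Ideal A) (hL : I * J ≤ L) [DRing.HasLBaseChange (Ideal.Quotient.mk L)],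
      DRing.IsPerfect (A ⧸ L) ((DRing.LBaseChange (Ideal.Quotient.mk L)).obj K) →
      DRing.IsPerfect (A ⧸ L) (DerivedCategory.Q.obj ((extC' (Ideal.Quotient.factor hL)).obj P')) := by
    intro L hL _ h
    obtain ⟨eL⟩ := DRingLBase.nonempty_lbase_iso (Ideal.Quotient.mk L) hP
    obtain ⟨E, a, b, hz, hp, ⟨eE⟩⟩ := h
    exact ⟨E, a, b, hz, hp, ⟨eE ≪≫ (DRing.LBaseChange (Ideal.Quotient.mk L)).mapIso e.symm ≪≫ eL ≪≫
      DerivedCategory.Q.mapIso ((NatIso.mapHomologicalComplex
        (eqToIso (congrArg ModuleCat.extendScalars.{u, u, u} (Ideal.Quotient.factor_comp_mk hL).symm) ≪≫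
          ModuleCat.extendScalarsComp (Ideal.Quotient.mk (I * J)) (Ideal.Quotient.factor hL))
        (ComplexShape.up ℤ)).app P)⟩⟩
  have hmul : RingHom.ker f * RingHom.ker g = ⊥ := by
    rw [Ideal.Quotient.factor_ker, Ideal.Quotient.factor_ker, ← Ideal.map_mul, Ideal.map_quotient_self]
  obtain ⟨E, a, b, hz, hp, ⟨eE⟩⟩ := isPerfect_of_two f (Ideal.Quotient.factor_surjective _) g
    (Ideal.Quotient.factor_surjective _) hmul
    (KFlatLib.kFlat_extendScalars _ hP) (fun n => haveI := hflat n; DRingLBase.flat_extendScalars _ (P.X n))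
    (key I Ideal.mul_le_left hI) (key J Ideal.mul_le_right hJ)
  exact ⟨E, a, b, hz, hp, ⟨eE ≪≫ e'.symm ≪≫ (DRing.LBaseChange (Ideal.Quotient.mk (I * J))).mapIso e⟩⟩

end Groth.Agent.H9Misc.DRingTwoIdeals
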