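import Mathlib
import Groth.Agent.H9Misc.DRingPC
import Groth.Agent.TriCat.ResolveOp
import Groth.Agent.S6942

/-! Two-term complexes with projective degree zero. -/

set_option linter.style.haveILetI false

universe u

open CategoryTheory CategoryTheory.Limits

attribute [local instance] HasDerivedCategory.standard

namespace Groth.Agent.H9Misc.DRingTwoTerm

variable {A : Type u} [CommRing A]


section Homotopy

variable {X K : CochainComplex (ModuleCat.{u} A) ℤ}

/-- A null homotopy out of degree zero. -/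
lemma homotopic_zero_of (hX : ∀ i : ℤ, 0 < i → IsZero (X.X i)) (hK : ∀ i : ℤ, i ≤ -2 → IsZero (K.X i))
    (f : X ⟶ K) (h : X.X 0 ⟶ K.X (-1)) (h0 : f.f 0 = h ≫ K.d (-1) 0)
    (h1 : f.f (-1) = X.d (-1) 0 ≫ h) : Nonempty (Homotopy f 0) := by
  let hh : ∀ i j, (ComplexShape.up ℤ).Rel j i → (X.X i ⟶ K.X j) := fun i j r =>
    if e : i = 0 then (X.XIsoOfEq e).hom ≫ h ≫ (K.XIsoOfEq (show j = -1 by
      have : j + 1 = i := r
      omega)).inv else 0
  have e : f = Homotopy.nullHomotopicMap' hh := by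
    ext i : 1
    rw [Homotopy.nullHomotopicMap'_f (c := ComplexShape.up ℤ) (k₂ := i - 1) (k₁ := i) (k₀ := i + 1)
      (show i - 1 + 1 = i by omega) (show i + 1 = i + 1 from rfl)]
    rcases lt_trichotomy i 0 with hi | rfl | hi
    · rcases eq_or_lt_of_le (show i ≤ -1 by omega) with rfl | hi'
      · simpa [hh] using h1
      · exact (hK i (by omega)).eq_of_tgt _ _
    · simpa [hh] using h0
    · exact (hX i hi).eq_of_src _ _
  rw [e]
  exact ⟨Homotopy.nullHomotopy' hh⟩

lemma exists_of_homotopy (hX : ∀ i : ℤ, 0 < i → IsZero (X.X i)) (hK : ∀ i : ℤ, i ≤ -2 → IsZero (K.X i))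
    {f : X ⟶ K} (H : Homotopy f 0) :
    ∃ h : X.X 0 ⟶ K.X (-1), f.f 0 = h ≫ K.d (-1) 0 ∧ f.f (-1) = X.d (-1) 0 ≫ h := by
  refine ⟨H.hom 0 (-1), ?_, ?_⟩
  · have := H.comm 0
    rw [dNext_eq H.hom (show (ComplexShape.up ℤ).Rel 0 1 from rfl),
      prevD_eq H.hom (show (ComplexShape.up ℤ).Rel (-1) 0 from rfl)] at this
    rw [this, (hX 1 one_pos).eq_of_src (H.hom 1 0) 0]
    simp
  · have := H.comm (-1)
    rw [dNext_eq H.hom (show (ComplexShape.up ℤ).Rel (-1) 0 from rfl),
      prevD_eq H.hom (show (ComplexShape.up ℤ).Rel (-2) (-1) from rfl)] at this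
    rw [this, (hK (-2) le_rfl).eq_of_tgt (H.hom (-1) (-2)) 0]
    simp

end Homotopy

section Bijective

variable {P M K : CochainComplex (ModuleCat.{u} A) ℤ} (s : P ⟶ M)

/-- Precomposition with a surjective quasi-isomorphism between complexes in degrees `≤ 0`. -/
theorem descends (hs : ∀ i, Epi (s.f i)) [QuasiIso s] (hP : ∀ i : ℤ, 0 < i → IsZero (P.X i))
    (hM0 : Projective (M.X 0)) (hK : ∀ i : ℤ, i ≤ -2 → IsZero (K.X i)) :
    (∀ g : P ⟶ K, ∃ f : M ⟶ K, Nonempty (Homotopy (s ≫ f) g)) ∧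
      ∀ f : M ⟶ K, Nonempty (Homotopy (s ≫ f) 0) → Nonempty (Homotopy f 0) := by
  haveI : Epi s := HomologicalComplex.epi_of_epi_f _ hs
  let S : ShortComplex (CochainComplex (ModuleCat.{u} A) ℤ) := ShortComplex.mk (kernel.ι s) s (kernel.condition s)
  have hS : S.ShortExact := { exact := ShortComplex.exact_of_f_is_kernel _ (kernelIsKernel s) }
  have hSn : ∀ n, (S.map (HomologicalComplex.eval _ (ComplexShape.up ℤ) n)).ShortExact :=
    fun n => hS.map_of_exact _
  have hac : S.X₁.Acyclic := hS.acyclic_X₁ (inferInstanceAs (QuasiIso s))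
  let N := S.X₁
  have hι : ∀ n, Mono (S.f.f n) := fun n => (hSn n).mono_f
  have hN : ∀ i : ℤ, 0 < i → IsZero (N.X i) := fun i hi => IsZero.of_mono (S.f.f i) (hP i hi)
  have hepi : Epi (N.d (-1) 0) := by
    have h : (ShortComplex.mk (N.d (-1) 0) (N.d 0 1) (N.d_comp_d _ _ _)).Exact :=
      (N.exactAt_iff' (-1) 0 1 (by simp) (by simp)).1 (hac 0)
    exact h.epi_f ((hN 1 one_pos).eq_of_tgt _ _)
  haveI := hs 0
  -- a section in degree zero and the projection onto the kernel
  let e : M.X 0 ⟶ P.X 0 := Projective.factorThru (𝟙 _) (s.f 0)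
  have he : e ≫ s.f 0 = 𝟙 _ := Projective.factorThru_comp _ _
  have hp : (𝟙 (P.X 0) - s.f 0 ≫ e) ≫ s.f 0 = 0 := by
    rw [Preadditive.sub_comp, Category.id_comp, Category.assoc, he, Category.comp_id, sub_self]
  let π : P.X 0 ⟶ N.X 0 := haveI := (hSn 0).mono_f; (hSn 0).exact.lift _ hp
  have hπ : π ≫ S.f.f 0 = 𝟙 (P.X 0) - s.f 0 ≫ e := haveI := (hSn 0).mono_f; (hSn 0).exact.lift_f _ hp
  have hιπ : S.f.f 0 ≫ π = 𝟙 _ := by
    haveI := hι 0
    rw [← cancel_mono (S.f.f 0), Category.assoc, hπ, Preadditive.comp_sub, Category.comp_id,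
      ← Category.assoc, show S.f.f 0 ≫ s.f 0 = 0 from by
        rw [← HomologicalComplex.comp_f, kernel.condition, HomologicalComplex.zero_f],
      zero_comp, sub_zero, Category.id_comp]
  refine ⟨fun g => ?_, fun f ⟨H⟩ => ?_⟩
  · -- modify `g` so that it kills the kernel
    let gN := S.f ≫ g
    have hb : ∀ w : N.X (-1) ⟶ K.X (-1), N.d (-2) (-1) ≫ w = 0 → ∃ c : N.X 0 ⟶ K.X (-1),
        N.d (-1) 0 ≫ c = w := by
      intro w hw
      have h : (ShortComplex.mk (N.d (-2) (-1)) (N.d (-1) 0) (N.d_comp_d _ _ _)).Exact :=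
        (N.exactAt_iff' (-2) (-1) 0 (by simp) (by simp)).1 (hac (-1))
      exact ⟨h.desc w hw, h.g_desc w hw⟩
    obtain ⟨c, hc⟩ := hb (gN.f (-1)) (by
      rw [← gN.comm (-2) (-1), (hK (-2) le_rfl).eq_of_src (K.d (-2) (-1)) 0, comp_zero])
    let hh : ∀ i j, (ComplexShape.up ℤ).Rel j i → (P.X i ⟶ K.X j) := fun i j r =>
      if e : i = 0 then (P.XIsoOfEq e).hom ≫ (π ≫ c) ≫ (K.XIsoOfEq (show j = -1 by
        have : j + 1 = i := r
        omega)).inv else 0
    let n := Homotopy.nullHomotopicMap' hh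
    have hn1 : n.f (-1) = P.d (-1) 0 ≫ π ≫ c := by
      rw [Homotopy.nullHomotopicMap'_f (c := ComplexShape.up ℤ) (k₂ := -2) (k₁ := -1) (k₀ := 0) (show (-2 : ℤ) + 1 = -1 from rfl) (show (-1 : ℤ) + 1 = 0 from rfl)]
      simp [hh]
    have hn0 : n.f 0 = (π ≫ c) ≫ K.d (-1) 0 := by
      rw [Homotopy.nullHomotopicMap'_f (c := ComplexShape.up ℤ) (k₂ := -1) (k₁ := 0) (k₀ := 1) (show (-1 : ℤ) + 1 = 0 from rfl) (show (0 : ℤ) + 1 = 1 from rfl)]
      simp [hh]
    have hzero : S.f ≫ (g - n) = 0 := by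
      ext i : 1
      rcases lt_trichotomy i 0 with hi | rfl | hi
      · rcases eq_or_lt_of_le (show i ≤ -1 by omega) with rfl | hi'
        · rw [HomologicalComplex.comp_f, HomologicalComplex.sub_f_apply, Preadditive.comp_sub, hn1,
            ← Category.assoc, S.f.comm (-1) 0, Category.assoc, ← Category.assoc (S.f.f 0) π c, hιπ,
            Category.id_comp, hc]
          exact sub_self _
        · exact (hK i (by omega)).eq_of_tgt _ _
      · rw [HomologicalComplex.comp_f, HomologicalComplex.sub_f_apply, Preadditive.comp_sub, hn0,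
          ← Category.assoc, ← Category.assoc (S.f.f 0) π c, hιπ, Category.id_comp,
          HomologicalComplex.zero_f, sub_eq_zero, ← cancel_epi (N.d (-1) 0), ← Category.assoc (N.d (-1) 0) c, hc,
          gN.comm (-1) 0]
        rfl
      · exact (hN i hi).eq_of_src _ _
    refine ⟨hS.gIsCokernel.desc (CokernelCofork.ofπ (g - n) hzero), ⟨?_⟩⟩
    have : s ≫ hS.gIsCokernel.desc (CokernelCofork.ofπ (g - n) hzero) = g - n :=
      hS.gIsCokernel.fac (CokernelCofork.ofπ (g - n) hzero) WalkingParallelPair.one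
    rw [this]
    exact (Homotopy.equivSubZero.symm ((Homotopy.ofEq (by abel : g - n - g = -n + 0)).trans
      ((Homotopy.ofEq (by abel : -n + 0 = (0 : P ⟶ K) - n)).trans
        ((Homotopy.equivSubZero ((Homotopy.nullHomotopy' hh).symm))))))
  · -- a null homotopy descends
    obtain ⟨h, e0, e1⟩ := exists_of_homotopy hP hK H
    have hk : S.f.f 0 ≫ h = 0 := by
      haveI := hepi
      rw [← cancel_epi (N.d (-1) 0), comp_zero, ← Category.assoc, ← S.f.comm, Category.assoc, ← e1]
      rw [HomologicalComplex.comp_f, ← Category.assoc, ← HomologicalComplex.comp_f, kernel.condition,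
        HomologicalComplex.zero_f, zero_comp]
    have heh : s.f 0 ≫ e ≫ h = h := by
      have h2 : π ≫ (S.f.f 0 ≫ h) = 0 := by rw [hk, comp_zero]
      rw [← Category.assoc, hπ, Preadditive.sub_comp, Category.id_comp, sub_eq_zero, Category.assoc] at h2
      exact h2.symm
    have hM : ∀ i : ℤ, 0 < i → IsZero (M.X i) := fun i hi => haveI := hs i; IsZero.of_epi (s.f i) (hP i hi)
    refine homotopic_zero_of hM hK f (e ≫ h) ?_ ?_
    · rw [← cancel_epi (s.f 0), ← HomologicalComplex.comp_f, e0, ← Category.assoc, heh]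
    · haveI := hs (-1)
      rw [← cancel_epi (s.f (-1)), ← HomologicalComplex.comp_f, e1, ← Category.assoc,
        s.comm, Category.assoc, heh]

end Bijective

/-- A resolution by free modules, surjective in every degree. -/
theorem exists_resolution (M : CochainComplex (ModuleCat.{u} A) ℤ) [M.IsStrictlyLE 0] :
    ∃ (P : CochainComplex (ModuleCat.{u} A) ℤ) (s : P ⟶ M), P.IsStrictlyLE 0 ∧
      (∀ n, Module.Free A (P.X n)) ∧ (∀ n, Epi (s.f n)) ∧ QuasiIso s := by
  refine Groth.Agent.TriCat.exists_quasiIso_left_resolution (fun X : ModuleCat.{u} A => Module.Free A X)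
    ⟨ModuleCat.of A PUnit, ModuleCat.isZero_of_subsingleton _, inferInstance⟩ (fun X => ?_) M 0
  exact ⟨ModuleCat.of A (X →₀ A), ModuleCat.ofHom (Finsupp.linearCombination A id),
    inferInstanceAs (Module.Free A (X →₀ A)),
    (ModuleCat.epi_iff_surjective _).2 (Finsupp.linearCombination_id_surjective A X)⟩

/-- Homotopy classes compute morphisms out of a complex in degrees `≤ 0` with projective degree zero. -/
theorem bijective_Qh_map {M K : CochainComplex (ModuleCat.{u} A) ℤ}
    (hM : ∀ i : ℤ, 0 < i → IsZero (M.X i)) (hM0 : Module.Projective A (M.X 0))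
    (hK : ∀ i : ℤ, i ≤ -2 → IsZero (K.X i)) :
    Function.Bijective (fun φ : (HomotopyCategory.quotient (ModuleCat.{u} A) (ComplexShape.up ℤ)).obj M ⟶
        (HomotopyCategory.quotient (ModuleCat.{u} A) (ComplexShape.up ℤ)).obj K =>
      DerivedCategory.Qh.map φ) := by
  haveI : M.IsStrictlyLE 0 := (CochainComplex.isStrictlyLE_iff M 0).2 hM
  obtain ⟨P, s, hP, hfree, hs, hq⟩ := exists_resolution M
  haveI : ∀ n, Projective (P.X n) := fun n => by
    haveI := hfree n
    exact (IsProjective.iff_projective (P.X n)).1 inferInstance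
  haveI := CochainComplex.isKProjective_of_projective P 0
  haveI : Projective (M.X 0) := (IsProjective.iff_projective (M.X 0)).1 hM0
  have hPz : ∀ i : ℤ, 0 < i → IsZero (P.X i) := fun i hi => CochainComplex.isZero_of_isStrictlyLE P 0 i hi
  obtain ⟨hd, hi⟩ := descends s hs hPz inferInstance hK
  let q := HomotopyCategory.quotient (ModuleCat.{u} A) (ComplexShape.up ℤ)
  haveI : IsIso (DerivedCategory.Q.map s) := inferInstance
  have hiso : IsIso (DerivedCategory.Qh.map (q.map s)) :=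
    ((NatIso.isIso_map_iff (DerivedCategory.quotientCompQhIso (ModuleCat.{u} A)) s).2 inferInstance :)
  have hbij := CochainComplex.IsKProjective.Qh_map_bijective P (q.obj K)
  constructor
  · intro φ φ' h
    obtain ⟨f, rfl⟩ := q.map_surjective φ
    obtain ⟨f', rfl⟩ := q.map_surjective φ'
    have h1 : q.map (s ≫ (f - f')) = 0 := by
      rw [q.map_comp, q.map_sub, Preadditive.comp_sub, sub_eq_zero]
      refine hbij.1 ?_
      rw [Functor.map_comp, Functor.map_comp]
      exact congrArg (DerivedCategory.Qh.map (q.map s) ≫ ·) h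
    obtain ⟨H⟩ := hi (f - f') ⟨HomotopyCategory.homotopyOfEq _ _ (h1.trans (q.map_zero _ _).symm)⟩
    rw [← sub_eq_zero, ← q.map_sub]
    exact (HomotopyCategory.eq_of_homotopy _ _ H).trans (q.map_zero _ _)
  · intro ψ
    obtain ⟨φ, hφ⟩ := hbij.2 (DerivedCategory.Qh.map (q.map s) ≫ ψ)
    obtain ⟨g, rfl⟩ := q.map_surjective φ
    obtain ⟨f, ⟨H⟩⟩ := hd g
    refine ⟨q.map f, ?_⟩
    rw [← cancel_epi (DerivedCategory.Qh.map (q.map s)), ← Functor.map_comp, ← q.map_comp,
      HomotopyCategory.eq_of_homotopy _ _ H, hφ]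

/-- Morphisms in the derived category are represented by chain maps. -/
theorem exists_map {M K : CochainComplex (ModuleCat.{u} A) ℤ}
    (hM : ∀ i : ℤ, 0 < i → IsZero (M.X i)) (hM0 : Module.Projective A (M.X 0))
    (hK : ∀ i : ℤ, i ≤ -2 → IsZero (K.X i))
    (α : DerivedCategory.Q.obj M ⟶ DerivedCategory.Q.obj K) : ∃ f : M ⟶ K, DerivedCategory.Q.map f = α := by
  let e := DerivedCategory.quotientCompQhIso (ModuleCat.{u} A)
  obtain ⟨φ, hφ⟩ := (bijective_Qh_map hM hM0 hK).2 (e.hom.app M ≫ α ≫ e.inv.app K)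
  obtain ⟨f, rfl⟩ := (HomotopyCategory.quotient _ _).map_surjective φ
  refine ⟨f, ?_⟩
  rw [← cancel_epi (e.hom.app M), ← e.hom.naturality f]
  rw [show ((HomotopyCategory.quotient _ _) ⋙ DerivedCategory.Qh).map f = _ from hφ]
  simp

theorem map_eq_zero_iff {M K : CochainComplex (ModuleCat.{u} A) ℤ}
    (hM : ∀ i : ℤ, 0 < i → IsZero (M.X i)) (hM0 : Module.Projective A (M.X 0))
    (hK : ∀ i : ℤ, i ≤ -2 → IsZero (K.X i)) (f : M ⟶ K) :
    DerivedCategory.Q.map f = 0 ↔
      ∃ h : M.X 0 ⟶ K.X (-1), f.f 0 = h ≫ K.d (-1) 0 ∧ f.f (-1) = M.d (-1) 0 ≫ h := by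
  let q := HomotopyCategory.quotient (ModuleCat.{u} A) (ComplexShape.up ℤ)
  let e := DerivedCategory.quotientCompQhIso (ModuleCat.{u} A)
  constructor
  · intro hf
    have h1 : DerivedCategory.Qh.map (q.map f) = DerivedCategory.Qh.map 0 := by
      rw [Functor.map_zero, ← cancel_mono (e.hom.app K), zero_comp]
      exact (e.hom.naturality f).trans (by rw [hf, comp_zero])
    exact exists_of_homotopy hM hK
      (HomotopyCategory.homotopyOfEq _ _ (((bijective_Qh_map hM hM0 hK).1 h1).trans (q.map_zero _ _).symm))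
  · rintro ⟨h, h0, h1⟩
    obtain ⟨H⟩ := homotopic_zero_of hM hK f h h0 h1
    rw [← cancel_epi (e.hom.app M), ← e.hom.naturality f, comp_zero]
    show DerivedCategory.Qh.map (q.map f) ≫ _ = 0
    rw [HomotopyCategory.eq_of_homotopy _ _ H, q.map_zero, Functor.map_zero, zero_comp]

section Rep

variable (K : DerivedCategory (ModuleCat.{u} A))

lemma bounds (hK : ∀ i : ℤ, i ≠ -1 → i ≠ 0 → Subsingleton (Dual.HD A K i)) :
    K.IsGE (-1) ∧ K.IsLE 0 := by
  refine ⟨(DerivedCategory.isGE_iff K _).2 fun i hi => ?_, (DerivedCategory.isLE_iff K _).2 fun i hi => ?_⟩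
  all_goals
    haveI := hK i (by omega) (by omega)
    exact ModuleCat.isZero_of_subsingleton _

/-- A two-term representative with free degree zero. -/
theorem exists_rep (hK : ∀ i : ℤ, i ≠ -1 → i ≠ 0 → Subsingleton (Dual.HD A K i)) :
    ∃ E : DRing.Cx A, DRing.VanishesOutside E (-1) 0 ∧ Module.Free A (E.X 0) ∧
      Nonempty (DerivedCategory.Q.obj E ≅ K) := by
  obtain ⟨hge, hle⟩ := bounds K hK
  obtain ⟨M, hM₁, hM₂, ⟨eM⟩⟩ := DerivedCategory.exists_iso_Q_obj_of_isGE_of_isLE K (-1) 0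
  obtain ⟨P, s, hP, hfree, -, hq⟩ := exists_resolution M
  haveI : P.IsGE (-1) := (CochainComplex.isGE_iff P (-1)).2 fun i hi =>
    (quasiIsoAt_iff_exactAt' s i (CochainComplex.exactAt_of_isGE M (-1) i hi)).1 inferInstance
  refine ⟨P.truncGE (-1), fun i hi => ?_, ?_,
    ⟨(asIso (DerivedCategory.Q.map (P.πTruncGE (-1)))).symm ≪≫ asIso (DerivedCategory.Q.map s) ≪≫ eM.symm⟩⟩
  · rcases hi with hi | hi
    · exact CochainComplex.isZero_of_isStrictlyGE _ (-1) i hi
    · exact (CochainComplex.isZero_of_isStrictlyLE P 0 i hi).of_iso (P.truncGEXIso (-1) i (by omega))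
  · haveI := hfree 0
    exact Module.Free.of_equiv (P.truncGEXIso (-1) 0 (by omega)).symm.toLinearEquiv

end Rep

lemma isGE_iff_mem (K : DerivedCategory (ModuleCat.{u} A)) (n : ℤ) :
    K.IsGE n ↔ ∀ i : ℤ, i < n → Subsingleton (Dual.HD A K i) := by
  rw [DerivedCategory.isGE_iff]
  exact forall₂_congr fun i _ => ModuleCat.isZero_iff_subsingleton

lemma isLE_iff_mem (K : DerivedCategory (ModuleCat.{u} A)) (n : ℤ) :
    K.IsLE n ↔ ∀ i : ℤ, n < i → Subsingleton (Dual.HD A K i) := by
  rw [DerivedCategory.isLE_iff]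
  exact forall₂_congr fun i _ => ModuleCat.isZero_iff_subsingleton

lemma hom_eq_zero {X Y : DerivedCategory (ModuleCat.{u} A)} {a b : ℤ} (hab : a < b) (hX : X.IsLE a)
    (hY : Y.IsGE b) (f : X ⟶ Y) : f = 0 :=
  DerivedCategory.TStructure.t.zero f a b hab

/-- A module in degree `-1`. -/
noncomputable def shiftedModIso (M : ModuleCat.{u} A) :
    DerivedCategory.Q.obj ((HomologicalComplex.single (ModuleCat.{u} A) (ComplexShape.up ℤ) (-1)).obj M) ≅
      (Dual.inD A M)⟦(1 : ℤ)⟧ :=
  ((DerivedCategory.singleFunctorIsoCompQ (ModuleCat.{u} A) (-1)).app M).symm ≪≫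
    (((DerivedCategory.singleFunctors (ModuleCat.{u} A)).shiftIso 1 (-1) 0 (by omega)).app M).symm

lemma isGE_shiftedMod (M : ModuleCat.{u} A) : ((Dual.inD A M)⟦(1 : ℤ)⟧).IsGE (-1) :=
  DerivedCategory.TStructure.t.isGE_of_iso
    ((((DerivedCategory.singleFunctors (ModuleCat.{u} A)).shiftIso 1 (-1) 0 (by omega)).app M).symm) (-1)

/-- Classes in `Ext¹` of a two-term complex are linear forms on the degree `-1` term. -/
theorem forall_ext_iff {M K : DRing.Cx A} (hM : ∀ i : ℤ, 0 < i → IsZero (M.X i))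
    (hM0 : Module.Projective A (M.X 0)) (hK : ∀ i : ℤ, i ≠ -1 → i ≠ 0 → IsZero (K.X i))
    (hK0 : Module.Projective A (K.X 0)) (a : M ⟶ K) :
    (∀ (N : Type u) [AddCommGroup N] [Module A N]
        (ξ : DerivedCategory.Q.obj K ⟶ (Dual.inD A N)⟦(1 : ℤ)⟧), DerivedCategory.Q.map a ≫ ξ = 0) ↔
      ∃ h : M.X 0 ⟶ K.X (-1), a.f (-1) = M.d (-1) 0 ≫ h := by
  have hs : ∀ N : ModuleCat.{u} A, ∀ i : ℤ, i ≤ -2 →
      IsZero (((HomologicalComplex.single (ModuleCat.{u} A) (ComplexShape.up ℤ) (-1)).obj N).X i) :=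
    fun N i hi => HomologicalComplex.isZero_single_obj_X (ComplexShape.up ℤ) (-1) N i (by omega)
  constructor
  · intro H
    let g : K ⟶ (HomologicalComplex.single (ModuleCat.{u} A) (ComplexShape.up ℤ) (-1)).obj (K.X (-1)) :=
      HomologicalComplex.mkHomToSingle (𝟙 _) (fun i (hi : i + 1 = -1) => by
        rw [Category.comp_id]
        exact (hK i (by omega) (by omega)).eq_of_src _ _)
    have h0 : DerivedCategory.Q.map (a ≫ g) = 0 := by
      rw [← cancel_mono (shiftedModIso (K.X (-1))).hom, zero_comp, Functor.map_comp, Category.assoc]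
      exact H _ _
    obtain ⟨h, -, h1⟩ := (map_eq_zero_iff hM hM0 (hs _) _).1 h0
    refine ⟨h ≫ (HomologicalComplex.singleObjXSelf (ComplexShape.up ℤ) (-1) _).hom, ?_⟩
    have e : (a ≫ g).f (-1) = a.f (-1) ≫ (HomologicalComplex.singleObjXSelf (ComplexShape.up ℤ) (-1) _).inv := by
      simp [g]
    rw [← Category.assoc, ← h1, e, Category.assoc, Iso.inv_hom_id, Category.comp_id]
  · rintro ⟨h, e⟩ N _ _ ξ
    obtain ⟨g, hg⟩ := exists_map (M := K) (fun i hi => hK i (by omega) (by omega)) hK0 (hs (ModuleCat.of A N))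
      (ξ ≫ (shiftedModIso (ModuleCat.of A N)).inv)
    rw [← cancel_mono (shiftedModIso (ModuleCat.of A N)).inv, zero_comp, Category.assoc, ← hg,
      ← Functor.map_comp]
    refine (map_eq_zero_iff hM hM0 (hs _) _).2 ⟨h ≫ g.f (-1), ?_, ?_⟩
    · exact (HomologicalComplex.isZero_single_obj_X (ComplexShape.up ℤ) (-1) (ModuleCat.of A N) 0
        (by omega)).eq_of_tgt _ _
    · rw [HomologicalComplex.comp_f, e, Category.assoc]

/-- Annihilation of `Ext¹` through a representative. -/
theorem annihilates_iff {K : DerivedCategory (ModuleCat.{u} A)} {E : DRing.Cx A}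
    (hz : DRing.VanishesOutside E (-1) 0) (h0 : Module.Projective A (E.X 0))
    (e : DerivedCategory.Q.obj E ≅ K) (a : A) :
    (∀ (N : Type u) [AddCommGroup N] [Module A N] (ξ : K ⟶ (Dual.inD A N)⟦(1 : ℤ)⟧), a • ξ = 0) ↔
      ∃ h : E.X 0 ⟶ E.X (-1), E.d (-1) 0 ≫ h = a • 𝟙 (E.X (-1)) := by
  have hq : DerivedCategory.Q.map (a • 𝟙 E) = a • 𝟙 _ := by
    rw [Functor.map_smul, CategoryTheory.Functor.map_id]
  have key := forall_ext_iff (M := E) (K := E) (fun i hi => hz i (Or.inr hi)) h0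
    (fun i h1 h2 => hz i (by omega)) h0 (a • 𝟙 E)
  constructor
  · intro H
    obtain ⟨h, hh⟩ := key.1 (fun N _ _ ξ => by
      rw [hq, Linear.smul_comp, Category.id_comp, ← cancel_epi e.inv, comp_zero, Linear.comp_smul]
      exact H N (e.inv ≫ ξ))
    exact ⟨h, hh.symm⟩
  · rintro ⟨h, hh⟩ N _ _ ξ
    have := key.2 ⟨h, hh.symm⟩ N (e.hom ≫ ξ)
    rw [hq, Linear.smul_comp, Category.id_comp, ← Linear.comp_smul] at this
    rwa [← cancel_epi e.hom, comp_zero]

/-- Morphisms killed by a map inducing an isomorphism on `H⁰` and a surjection on `H⁻¹`. -/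
theorem eq_zero_of_precomp {K K' Y : DerivedCategory (ModuleCat.{u} A)} (α : K ⟶ K')
    (hK : ∀ i : ℤ, i ≠ -1 → i ≠ 0 → Subsingleton (Dual.HD A K i))
    (hK' : ∀ i : ℤ, i ≠ -1 → i ≠ 0 → Subsingleton (Dual.HD A K' i))
    (h0 : IsIso ((DerivedCategory.homologyFunctor (ModuleCat.{u} A) 0).map α))
    (h1 : Epi ((DerivedCategory.homologyFunctor (ModuleCat.{u} A) (-1)).map α))
    (hY : Y.IsGE (-1)) (g : K' ⟶ Y) (hg : α ≫ g = 0) : g = 0 := by
  obtain ⟨C, b, c, hT⟩ := Pretriangulated.distinguished_cocone_triangle α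
  obtain ⟨hge, hle⟩ := bounds K hK
  obtain ⟨hge', hle'⟩ := bounds K' hK'
  have hC : C.IsLE (-2) := (DerivedCategory.isLE_iff C _).2 fun i hi => by
    refine (DerivedCategory.HomologySequence.exact₃ _ hT i (i + 1) rfl).isZero_of_both_zeros ?_ ?_
    · haveI : Epi ((DerivedCategory.homologyFunctor (ModuleCat.{u} A) i).map α) := by
        rcases eq_or_ne i (-1) with rfl | h
        · exact h1
        rcases eq_or_ne i 0 with rfl | h'
        · haveI := h0; infer_instance
        · haveI := hK' i h h'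
          exact ⟨fun {Z} f g _ => (ModuleCat.isZero_of_subsingleton _).eq_of_src f g⟩
      refine (cancel_epi ((DerivedCategory.homologyFunctor (ModuleCat.{u} A) i).map α)).1 ?_
      refine ((Functor.map_comp _ α b).symm.trans ?_).trans comp_zero.symm
      rw [show α ≫ b = 0 from Pretriangulated.comp_distTriang_mor_zero₁₂ _ hT, Functor.map_zero]
    · haveI : Mono ((DerivedCategory.homologyFunctor (ModuleCat.{u} A) (i + 1)).map α) := by
        rcases eq_or_ne (i + 1) 0 with e | h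
        · rw [e]; haveI := h0; infer_instance
        · haveI := hK (i + 1) (by omega) h
          exact ⟨fun {Z} f g _ => (ModuleCat.isZero_of_subsingleton _).eq_of_tgt f g⟩
      refine (cancel_mono ((DerivedCategory.homologyFunctor (ModuleCat.{u} A) (i + 1)).map α)).1 ?_
      exact (DerivedCategory.HomologySequence.δ_comp _ hT i (i + 1) rfl).trans zero_comp.symm
  obtain ⟨g', rfl⟩ := Pretriangulated.Triangle.yoneda_exact₂ _ hT g hg
  exact (congrArg _ (hom_eq_zero (show (-2 : ℤ) < -1 by omega) hC hY g')).trans comp_zero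

/-- Homology of a representative. -/
noncomputable def hIso {K : DerivedCategory (ModuleCat.{u} A)} {E : DRing.Cx A}
    (e : DerivedCategory.Q.obj E ≅ K) (i : ℤ) :
    (DerivedCategory.homologyFunctor (ModuleCat.{u} A) i).obj K ≅ E.homology i :=
  (DerivedCategory.homologyFunctor (ModuleCat.{u} A) i).mapIso e.symm ≪≫
    (DerivedCategory.homologyFunctorFactors (ModuleCat.{u} A) i).app E

/-- The projection to `H⁰`. -/
theorem exists_toH0 {K : DerivedCategory (ModuleCat.{u} A)}
    (hK : ∀ i : ℤ, i ≠ -1 → i ≠ 0 → Subsingleton (Dual.HD A K i)) :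
    ∃ α : K ⟶ Dual.inD A (Dual.HD A K 0),
      IsIso ((DerivedCategory.homologyFunctor (ModuleCat.{u} A) 0).map α) ∧
        ∀ i : ℤ, i ≠ 0 → Subsingleton (Dual.HD A (Dual.inD A (Dual.HD A K 0)) i) := by
  obtain ⟨hge, hle⟩ := bounds K hK
  obtain ⟨E, hz, -, ⟨e⟩⟩ := exists_rep K hK
  have hE : ∀ i : ℤ, 0 < i → IsZero (E.X i) := fun i hi => hz i (Or.inr hi)
  let H : ModuleCat.{u} A := ModuleCat.of A (Dual.HD A K 0)
  haveI : IsIso (E.homologyι 0) :=
    E.isIso_homologyι 0 1 (by simp) ((hE 1 one_pos).eq_of_tgt _ _)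
  let v : E.X 0 ⟶ H := E.pOpcycles 0 ≫ inv (E.homologyι 0) ≫ (hIso e 0).inv
  let g : E ⟶ (HomologicalComplex.single (ModuleCat.{u} A) (ComplexShape.up ℤ) 0).obj H :=
    HomologicalComplex.mkHomToSingle v (fun i _ => by simp [v])
  let p := (DerivedCategory.singleFunctorIsoCompQ (ModuleCat.{u} A) 0).app H
  refine ⟨e.inv ≫ DerivedCategory.Q.map g ≫ p.inv, ?_, fun i hi => ?_⟩
  · have hg : IsIso (HomologicalComplex.homologyMap g 0) := by
      have h1 : HomologicalComplex.homologyMap g 0 ≫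
          (HomologicalComplex.singleObjHomologySelfIso (ComplexShape.up ℤ) 0 H).hom = (hIso e 0).inv := by
        haveI : Epi (E.homologyπ 0) := inferInstance
        rw [← cancel_epi (E.homologyπ 0), HomologicalComplex.homologyπ_naturality_assoc,
          HomologicalComplex.homologyπ_singleObjHomologySelfIso_hom,
          HomologicalComplex.singleObjCyclesSelfIso_hom, HomologicalComplex.cyclesMap_i_assoc,
          show g.f 0 = v ≫ (HomologicalComplex.singleObjXSelf (ComplexShape.up ℤ) 0 H).inv from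
            HomologicalComplex.mkHomToSingle_f _ _, Category.assoc, Iso.inv_hom_id, Category.comp_id]
        rw [← Category.assoc (E.iCycles 0), ← HomologicalComplex.homology_π_ι, Category.assoc,
          IsIso.hom_inv_id_assoc]
      rw [(Iso.eq_comp_inv _).2 h1]
      infer_instance
    haveI : IsIso ((DerivedCategory.homologyFunctor (ModuleCat.{u} A) 0).map (DerivedCategory.Q.map g)) :=
      (NatIso.isIso_map_iff (DerivedCategory.homologyFunctorFactors (ModuleCat.{u} A) 0) g).2 hg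
    rw [Functor.map_comp, Functor.map_comp]
    infer_instance
  · rcases lt_or_gt_of_ne hi with h | h
    · exact (isGE_iff_mem _ 0).1 (inferInstanceAs (((DerivedCategory.singleFunctor _ 0).obj H).IsGE 0)) i h
    · exact (isLE_iff_mem _ 0).1 (inferInstanceAs (((DerivedCategory.singleFunctor _ 0).obj H).IsLE 0)) i h

end Groth.Agent.H9Misc.DRingTwoTerm
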