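import Mathlib
import Groth.Agent.H9Misc.DRingTwoTerm
import Groth.Agent.H9Misc.DRingPerfect

/-! Two-term representatives with finite free degree zero. -/

set_option linter.style.haveILetI false

universe u

open CategoryTheory CategoryTheory.Limits HomologicalComplex

attribute [local instance] HasDerivedCategory.standard

namespace Groth.Agent.H9Misc.DRingTwoTermFin

variable {A : Type u} [CommRing A]

/-- The contractible complex `Q ⟶ Q` in degrees `-1` and `0`. -/
noncomputable abbrev trivCx (Q : ModuleCat.{u} A) : DRing.Cx A :=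
  double (𝟙 Q) (show (ComplexShape.up ℤ).Rel (-1) 0 from rfl)

lemma acyclic_trivCx (Q : ModuleCat.{u} A) : (trivCx Q).Acyclic := by
  intro i
  have hz : ∀ j : ℤ, j ≠ -1 → j ≠ 0 → IsZero ((trivCx Q).X j) := fun j h h' =>
    isZero_double_X _ _ j h h'
  have hd : IsIso ((trivCx Q).d (-1) 0) := by
    rw [double_d _ _ (by omega : (-1 : ℤ) ≠ 0)]
    infer_instance
  rcases eq_or_ne i (-1) with rfl | h
  · rw [(trivCx Q).exactAt_iff' (-2) (-1) 0 (by simp) (by simp)]
    exact (ShortComplex.exact_iff_mono _ ((hz (-2) (by omega) (by omega)).eq_of_src _ _)).2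
      (inferInstanceAs (Mono ((trivCx Q).d (-1) 0)))
  rcases eq_or_ne i 0 with rfl | h'
  · rw [(trivCx Q).exactAt_iff' (-1) 0 1 (by simp) (by simp)]
    exact (ShortComplex.exact_iff_epi _ ((hz 1 (by omega) (by omega)).eq_of_tgt _ _)).2
      (inferInstanceAs (Epi ((trivCx Q).d (-1) 0)))
  · exact ShortComplex.exact_of_isZero_X₂ _ (hz i h h')

/-- A two-term representative with finite terms and finite free degree zero. -/
theorem exists_rep [IsNoetherianRing A] (K : DerivedCategory (ModuleCat.{u} A))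
    (hK : ∀ i : ℤ, i ≠ -1 → i ≠ 0 → Subsingleton (Dual.HD A K i))
    (hfin : ∀ i : ℤ, Module.Finite A (Dual.HD A K i)) :
    ∃ E : DRing.Cx A, DRing.VanishesOutside E (-1) 0 ∧ Module.Free A (E.X 0) ∧ Module.Finite A (E.X 0) ∧
      Module.Finite A (E.X (-1)) ∧ Nonempty (DerivedCategory.Q.obj E ≅ K) := by
  obtain ⟨P, b, hb, hP, ⟨e⟩⟩ := (DRingPC.pc'_iff K).2 fun m =>
    (Groth.Agent.S6942.result A m K A).1.2 ⟨⟨0, fun i hi => hK i (by omega) (by omega)⟩, fun i _ => hfin i⟩
  have hP' : DRing.TermwiseFiniteProjective P := fun i => by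
    haveI := (hP i).1
    haveI := (hP i).2
    exact ⟨inferInstance, inferInstance⟩
  have hH : ∀ i : ℤ, i ≠ -1 → i ≠ 0 → IsZero (P.homology i) := fun i h h' => by
    haveI := hK i h h'
    exact (ModuleCat.isZero_of_subsingleton _).of_iso (DRingTwoTerm.hIso e i).symm
  haveI : P.IsLE 0 := (CochainComplex.isLE_iff P 0).2 fun i hi =>
    (exactAt_iff_isZero_homology _ _).2 (hH i (by omega) (by omega))
  obtain ⟨k, hk⟩ : ∃ k : ℕ, b < 0 + k := ⟨(b + 1).toNat, by omega⟩
  obtain ⟨hk₁, hk₂⟩ := DRingPerfect.finProj_ker hP' b hb 0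
    (fun i hi => (exactAt_iff_isZero_homology _ _).2 (hH i (by omega) (by omega))) k 0 le_rfl hk
  let T := P.truncLE 0
  let eker := ((kernelIsKernel (P.d 0 (0 + 1))).conePointUniqueUpToIso
    (P.cyclesIsKernel 0 (0 + 1) (by simp))).symm ≪≫ ModuleCat.kernelIsoKer (P.d 0 (0 + 1))
  haveI hT0 : Module.Finite A (T.X 0) := Module.Finite.equiv (P.truncLEXIsoCycles 0 ≪≫ eker).symm.toLinearEquiv
  haveI hT0' : Module.Projective A (T.X 0) :=
    Module.Projective.of_equiv (P.truncLEXIsoCycles 0 ≪≫ eker).symm.toLinearEquiv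
  haveI : Module.Finite A (T.X (-1)) :=
    haveI := (hP (-1)).1
    Module.Finite.equiv (P.truncLEXIso 0 (-1) (by omega)).symm.toLinearEquiv
  haveI : T.IsGE (-1) := (CochainComplex.isGE_iff T (-1)).2 fun i hi => by
    haveI := P.quasiIsoAt_ιTruncLE (n := 0) i (by omega)
    exact (quasiIsoAt_iff_exactAt' (P.ιTruncLE 0) i
      ((exactAt_iff_isZero_homology _ _).2 (hH i (by omega) (by omega)))).1 inferInstance
  let R := T.truncGE (-1)
  have hRz : DRing.VanishesOutside R (-1) 0 := fun i hi => by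
    rcases hi with hi | hi
    · exact CochainComplex.isZero_of_isStrictlyGE _ (-1) i hi
    · exact (CochainComplex.isZero_of_isStrictlyLE T 0 i hi).of_iso (T.truncGEXIso (-1) i (by omega))
  haveI : Module.Finite A (R.X 0) := Module.Finite.equiv (T.truncGEXIso (-1) 0 (by omega)).symm.toLinearEquiv
  haveI : Module.Projective A (R.X 0) := Module.Projective.of_equiv (T.truncGEXIso (-1) 0 (by omega)).symm.toLinearEquiv
  haveI : Module.Finite A (R.X (-1)) :=
    haveI : Module.Finite A (T.opcycles (-1)) := Module.Finite.of_surjective (T.pOpcycles (-1)).hom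
      ((ModuleCat.epi_iff_surjective _).1 inferInstance)
    Module.Finite.equiv (T.truncGEXIsoOpcycles (-1)).symm.toLinearEquiv
  obtain ⟨n, f, g, hf, -, hfg⟩ := Module.Finite.exists_comp_eq_id_of_projective A (R.X 0)
  let Q : ModuleCat.{u} A := ModuleCat.of A (LinearMap.ker f)
  have hfg' : ∀ x, f (g x) = x := fun x => LinearMap.congr_fun hfg x
  let w : (R.X 0 × LinearMap.ker f) ≃ₗ[A] (Fin n → A) :=
    { toFun := fun p => g p.1 + p.2.1
      invFun := fun y => (f y, ⟨y - g (f y), by simp [hfg']⟩)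
      map_add' := fun p q => by simp only [Prod.fst_add, Prod.snd_add, map_add, Submodule.coe_add]; abel
      map_smul' := fun a p => by simp [smul_add]
      left_inv := fun p => by
        have h2 : f p.2.1 = 0 := p.2.2
        ext <;> simp [hfg', h2]
      right_inv := fun y => by simp }
  haveI : Module.Finite A Q := inferInstanceAs (Module.Finite A (LinearMap.ker f))
  let D := trivCx Q
  let E : DRing.Cx A := R ⊞ D
  let x0 : E.X 0 ≅ ModuleCat.of A (R.X 0 × Q) :=
    biprodXIso R D 0 ≪≫ biprod.mapIso (Iso.refl _)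
      (doubleXIso₁ (𝟙 Q) (show (ComplexShape.up ℤ).Rel (-1) 0 from rfl) (by omega)) ≪≫ ModuleCat.biprodIsoProd _ _
  let x1 : E.X (-1) ≅ ModuleCat.of A (R.X (-1) × Q) :=
    biprodXIso R D (-1) ≪≫ biprod.mapIso (Iso.refl _)
      (doubleXIso₀ (𝟙 Q) (show (ComplexShape.up ℤ).Rel (-1) 0 from rfl)) ≪≫ ModuleCat.biprodIsoProd _ _
  have hq : QuasiIso (biprod.fst : E ⟶ R) := by
    rw [quasiIso_iff]
    intro i
    rw [quasiIsoAt_iff_isIso_homologyMap]
    let F := homologyFunctor (ModuleCat.{u} A) (ComplexShape.up ℤ) i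
    have hzD : IsZero (F.obj D) := (acyclic_trivCx Q i).isZero_homology
    refine ⟨F.map biprod.inl, ?_, ?_⟩
    · show F.map biprod.fst ≫ F.map biprod.inl = 𝟙 _
      rw [← CategoryTheory.Functor.map_id, ← biprod.total, F.map_add, F.map_comp, F.map_comp,
        show F.map (biprod.snd : E ⟶ D) = 0 from hzD.eq_of_tgt _ _, zero_comp, add_zero]
    · show F.map biprod.inl ≫ F.map biprod.fst = 𝟙 _
      rw [← F.map_comp, biprod.inl_fst, CategoryTheory.Functor.map_id]
  refine ⟨E, fun i hi => ?_, Module.Free.of_equiv ((x0.toLinearEquiv.trans w).symm),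
    Module.Finite.equiv ((x0.toLinearEquiv.trans w).symm), Module.Finite.equiv x1.toLinearEquiv.symm,
    ⟨asIso (DerivedCategory.Q.map (biprod.fst : E ⟶ R)) ≪≫ (asIso (DerivedCategory.Q.map (T.πTruncGE (-1)))).symm ≪≫
      asIso (DerivedCategory.Q.map (P.ιTruncLE 0)) ≪≫ e⟩⟩
  refine IsZero.of_iso ?_ (biprodXIso R D i)
  exact (biprod_isZero_iff _ _).2 ⟨hRz i hi, isZero_double_X _ _ i (by omega) (by omega)⟩

end Groth.Agent.H9Misc.DRingTwoTermFin
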