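import Groth.Agent.H9Misc.DerCompPush

/-! Telescopes and restriction of scalars along a map of sheaves of rings. -/

universe u

open CategoryTheory CategoryTheory.Category CategoryTheory.Limits Opposite
open Groth.Agent.H9Misc.DerCompTel

attribute [local instance] HasDerivedCategory.standard

namespace Groth.Agent.H9Misc.DerCompRestr

variable {C : Type u} [SmallCategory C] {J : GrothendieckTopology C} {O O' : Sheaf J CommRingCat.{u}}

/-- A map of sheaves of rings as a morphism of ringed sites. -/
noncomputable def toRMor (φ : O ⟶ O') : ModSite.RMor O' O where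
  fn := 𝟭 C
  exact := preservesFiniteLimits_of_natIso
    (((𝟭 C).sheafAdjunctionContinuous (Type u) J J).leftAdjointIdIso (Functor.sheafPushforwardContinuousId (Type u) J)).symm
  sharp := φ

/-- Restriction of scalars. -/
noncomputable abbrev res (φ : O ⟶ O') : ModSite.Mod O' ⥤ ModSite.Mod O :=
  SheafOfModules.restrictScalars.{u} ((sheafCompose J (forget₂ CommRingCat.{u} RingCat.{u})).map φ)

/-- Telescopes on restrictions of scalars. -/
theorem tbOn_res_iff (φ : O ⟶ O') [PreservesFiniteLimits (res φ)] [PreservesFiniteColimits (res φ)]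
    (K' : DerivedCategory (ModSite.Mod O')) (V : C) (a : O.obj.obj (op V)) :
    TelOrth.TBOn (ModSite.freeOn O' V) (mulOn V ((φ.hom.app (op V)).hom a)) K' ↔
      TelOrth.TBOn (ModSite.freeOn O V) (mulOn V a) ((res φ).mapDerivedCategory.obj K') := by
  let f := toRMor φ
  have : f.pull.Additive := f.adj.left_adjoint_additive
  let adj : f.pull ⊣ res φ := f.adj
  have h := TelTransfer.tbOn_mapDerivedCategory_iff (G := res φ) adj (RpushLeftAdj.exists_good f) _
    (DerCompPush.good_freeOn f V) (mulOn V a) K'
  refine Iff.trans ?_ h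
  exact ⟨fun h' => DerCompIdeal.tbOn_of_iso (DerCompPush.pullFreeIso f V).symm
      ((Iso.inv_comp_eq _).2 (Eq.symm ((assoc _ _ _).symm.trans
        ((congrArg (· ≫ (DerCompPush.pullFreeIso f V).inv) (DerCompPush.pullFreeIso_comm f V a)).trans
          ((assoc _ _ _).trans ((congrArg (_ ≫ ·) (DerCompPush.pullFreeIso f V).hom_inv_id).trans (comp_id _))))))) h',
    fun h' => DerCompIdeal.tbOn_of_iso (DerCompPush.pullFreeIso f V) (DerCompPush.pullFreeIso_comm f V a) h'⟩

end Groth.Agent.H9Misc.DerCompRestr
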