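import Groth.Prelude.Def_DerComp
import Groth.Agent.H9Misc.TelOrth
import Groth.Agent.ModTensor.ExtZero
import Groth.Agent.TriCat.SeqColimit
import Groth.Agent.SiteBase.ModGroth

/-! Derived completeness in terms of telescopes on `Hom(j_{U!} O_U, K[n])`. -/

universe u

open CategoryTheory CategoryTheory.Category CategoryTheory.Limits Opposite

attribute [local instance] HasDerivedCategory.standard

namespace Groth.Agent.H9Misc.DerCompTel

variable {C : Type u} [SmallCategory C] {J : GrothendieckTopology C} {O : Sheaf J CommRingCat.{u}}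

/-- Multiplication by `f ∈ O(U)` on `j_{U!} O_U`. -/
noncomputable def mulOn (U : C) (f : O.obj.obj (op U)) : ModSite.freeOn O U ⟶ ModSite.freeOn O U :=
  (ModSite.extZero O U).map (DerComp.smulEnd (DerComp.GSec.ofSect O U f) (ModSite.unit (O.over U)))

/-- Morphisms out of `j_{U!} O_U` as sections. -/
noncomputable def secOn (U : C) (F : ModSite.Mod O) : (ModSite.freeOn O U ⟶ F) ≃ ModSite.sect F U :=
  (ModTensor.freeOnCorepr O U).homEquiv

lemma secOn_comp (U : C) {F G : ModSite.Mod O} (φ : ModSite.freeOn O U ⟶ F) (g : F ⟶ G) :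
    secOn U G (φ ≫ g) = (g.val.app (op U)).hom (secOn U F φ) :=
  (ModTensor.freeOnCorepr O U).homEquiv_comp g φ

/-- Multiplication on the source multiplies sections. -/
lemma secOn_mulOn (U : C) (f : O.obj.obj (op U)) {F : ModSite.Mod O} (φ : ModSite.freeOn O U ⟶ F) :
    secOn U F (mulOn U f ≫ φ) = (show (ModSite.ringSh O).obj.obj (op U) from f) • secOn U F φ := by
  let ψ := (ModSite.extZeroAdj O U).homEquiv _ _ φ
  let Y : (Over U)ᵒᵖ := op (Over.mk (𝟙 U))
  have h1 : secOn U F (mulOn U f ≫ φ) =
      ((DerComp.smulEnd (DerComp.GSec.ofSect O U f) (ModSite.unit (O.over U)) ≫ ψ).val.app Y).hom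
        (1 : (ModSite.ringSh (O.over U)).obj.obj Y) :=
    congrArg (fun t : ModSite.unit (O.over U) ⟶ (ModSite.restr O U).obj F =>
      (t.val.app Y).hom (1 : (ModSite.ringSh (O.over U)).obj.obj Y))
      ((ModSite.extZeroAdj O U).homEquiv_naturality_left _ φ)
  refine h1.trans ?_
  refine Eq.trans ?_ (congrArg (· • secOn U F φ)
    (show DerComp.GSec.val' (DerComp.GSec.ofSect O U f) Y = (show (ModSite.ringSh O).obj.obj (op U) from f) from by
      show (O.obj.map (𝟙 (op U))).hom f = f
      rw [CategoryTheory.Functor.map_id]; rfl))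
  exact (ψ.val.app Y).hom.map_smul _ _

/-- The sequence presenting `O_{U,f}`, extended by zero, is short exact. -/
lemma shortExact (U : C) (f : O.obj.obj (op U)) :
    (ShortComplex.mk
      ((ModSite.extZero O U).map (DerComp.awayMap (DerComp.GSec.ofSect O U f) (ModSite.unit (O.over U))))
      ((ModSite.extZero O U).map (cokernel.π _))
      (by rw [← Functor.map_comp, cokernel.condition, Functor.map_zero])).ShortExact := by
  let m := DerComp.smulEnd (DerComp.GSec.ofSect O U f) (ModSite.unit (O.over U))
  let a := DerComp.awayMap (DerComp.GSec.ofSect O U f) (ModSite.unit (O.over U))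
  let F : ℕ ⥤ ModSite.Mod (O.over U) :=
    Functor.ofSequence (X := fun _ => ModSite.unit (O.over U)) fun _ => m
  have hmap : ∀ n, F.map (homOfLE (Nat.le_succ n)) = m := fun n =>
    Functor.ofSequence_map_homOfLE_succ _ n
  have hm : Mono a := by
    have h := TriCat.mono_one_sub_shiftMap F
    refine (congrArg (fun t => Mono t) (Sigma.hom_ext _ _ fun n => ?_)).mp h
    refine (TriCat.ι_one_sub_shiftMap F.obj (fun n => F.map (homOfLE (Nat.le_succ n))) n).trans ?_
    rw [hmap]
    exact (Sigma.ι_desc (fun n => Sigma.ι (fun _ : ℕ => ModSite.unit (O.over U)) n -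
      m ≫ Sigma.ι (fun _ : ℕ => ModSite.unit (O.over U)) (n + 1)) n).symm
  have := ModTensor.preservesFiniteLimits_extZero O U
  have := ModTensor.preservesFiniteColimits_extZero O U
  let S := ShortComplex.mk a (cokernel.π a) (cokernel.condition a)
  have hS : S.ShortExact :=
    { exact := ShortComplex.exact_of_g_is_cokernel _ (cokernelIsCokernel a)
      mono_f := hm
      epi_g := inferInstanceAs (Epi (cokernel.π a)) }
  exact hS.map_of_exact (ModSite.extZero O U)

/-- Orthogonality to `j_{U!} O_{U,f}` is bijectivity of telescopes. -/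
theorem subsingleton_iff (K : DerivedCategory (ModSite.Mod O)) (U : C) (f : O.obj.obj (op U)) :
    (∀ n : ℤ, Subsingleton (SiteCmp.inD O ((ModSite.extZero O U).obj (DerComp.awayOver O U f)) ⟶ K⟦n⟧)) ↔
      TelOrth.TBOn (ModSite.freeOn O U) (mulOn U f) K := by
  have : PreservesColimitsOfSize.{0, 0} (ModSite.extZero O U) :=
    (ModSite.extZeroAdj O U).leftAdjoint_preservesColimits
  let m := DerComp.smulEnd (DerComp.GSec.ofSect O U f) (ModSite.unit (O.over U))
  let ι := fun n => Sigma.ι (fun _ : ℕ => ModSite.unit (O.over U)) n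
  have hc : IsColimit (Cofan.mk ((ModSite.extZero O U).obj (∐ fun _ : ℕ => ModSite.unit (O.over U)))
      fun n => (ModSite.extZero O U).map (ι n)) :=
    isColimitCofanMkObjOfIsColimit _ _ _ (coproductIsCoproduct _)
  exact TelOrth.forall_subsingleton_iff_tbOn (shortExact U f) (mulOn U f) _ hc _ hc (fun k => by
    refine ((ModSite.extZero O U).map_comp _ _).symm.trans ?_
    refine (congrArg (ModSite.extZero O U).map (Sigma.ι_desc (fun n => ι n - m ≫ ι (n + 1)) k)).trans ?_
    exact (Functor.map_sub _).trans (congrArg (_ - ·) (Functor.map_comp _ _ _))) K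

/-- Derived completeness through telescopes. -/
theorem isDerComp_iff (I : DerComp.IdealSh O) (K : DerivedCategory (ModSite.Mod O)) :
    DerComp.IsDerComp O I K ↔
      ∀ (U : C) (f : O.obj.obj (op U)), f ∈ I.ideal U → TelOrth.TBOn (ModSite.freeOn O U) (mulOn U f) K :=
  ⟨fun h U f hf => (subsingleton_iff K U f).1 (h U f hf),
    fun h U f hf => (subsingleton_iff K U f).2 (h U f hf)⟩

end Groth.Agent.H9Misc.DerCompTel
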