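import Groth.Agent.KExact.TorBCGlobal
import Groth.Agent.H9Misc.TorBaseChange

/-!
# Base change along a base change of a flat morphism
-/

set_option autoImplicit false
set_option linter.style.haveILetI false
set_option backward.isDefEq.respectTransparency false
set_option backward.isDefEq.respectTransparency.types false

universe u

open CategoryTheory CategoryTheory.Limits AlgebraicGeometry Pretriangulated

attribute [local instance] HasDerivedCategory.standard

namespace Groth.Agent.H9Misc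

open KFlatLib KFlatLib.FlatBC KFlatLib.SecPoint KExact KExact.CanBC KExact.TorBCGen

variable {X X' S S' : Scheme.{u}}

/-- Base change is local on the base: it suffices to treat the squares over affine charts. -/
theorem holds_of_chartsAt {g' : X' ⟶ X} {f' : X' ⟶ S'} {f : X ⟶ S} {g : S' ⟶ S} (h : IsPullback g' f' f g)
    [QuasiCompact f] [QuasiSeparated f]
    (hloc : ∀ s' : S', ∃ (U : S.Opens) (hU : IsAffineOpen U) (U' : S'.Opens) (_ : IsAffineOpen U')
      (hle : U' ≤ g ⁻¹ᵁ U), s' ∈ U' ∧ ∀ (Y : Scheme.{u}) (r : Y ⟶ pullback f hU.fromSpec) (f'' : Y ⟶ Spec Γ(S', U')),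
      IsPullback r f'' (pullback.snd f hU.fromSpec) (Spec.map (g.appLE U U' hle)) →
        Holds r f'' (pullback.snd f hU.fromSpec) (Spec.map (g.appLE U U' hle))) :
    Holds g' f' f g := by
  intro _ _ _ _ _ _ hw e he adj adj' E hE
  haveI : QuasiCompact f' := MorphismProperty.of_isPullback (P := @QuasiCompact) h inferInstance
  haveI : QuasiSeparated f' := MorphismProperty.of_isPullback (P := @QuasiSeparated) h inferInstance
  refine KFlatLib.BCLoc.isIso_of_cover _ fun s' => ?_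
  obtain ⟨U, hU, U', hU', hle, hs', hloc⟩ := hloc s'
  refine ⟨U', hs', ?_⟩
  let A := Γ(S, U)
  let B := Γ(S', U')
  let φ : A ⟶ B := g.appLE U U' hle
  let u := hU.fromSpec
  let v := hU'.fromSpec
  have hφ : Spec.map φ ≫ u = v ≫ g := IsAffineOpen.SpecMap_appLE_fromSpec g hU hU' hle
  let Y := pullback f' v
  let v' : Y ⟶ X' := pullback.fst f' v
  let f'' : Y ⟶ Spec B := pullback.snd f' v
  have hsq₂ : IsPullback v' f'' f' v := IsPullback.of_hasPullback f' v
  have hcomp : IsPullback (v' ≫ g') f'' f (v ≫ g) := hsq₂.paste_horiz h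
  have hu : IsPullback (pullback.fst f u) (pullback.snd f u) f u := IsPullback.of_hasPullback f u
  let r : Y ⟶ pullback f u :=
    pullback.lift (v' ≫ g') (f'' ≫ Spec.map φ)
    (hcomp.w.trans ((congrArg (f'' ≫ ·) hφ.symm).trans (Category.assoc _ _ _).symm))
  have hr₁ : r ≫ pullback.fst f u = v' ≫ g' := pullback.lift_fst _ _ _
  have hr₂ : r ≫ pullback.snd f u = f'' ≫ Spec.map φ := pullback.lift_snd _ _ _
  have hmid : IsPullback r f'' (pullback.snd f u) (Spec.map φ) :=
    IsPullback.of_right (hr₁.symm ▸ hφ.symm ▸ hcomp) hr₂ hu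
  let k := v ≫ g
  let k' := v' ≫ g'
  haveI := hasRpush_scheme v; haveI := hasRpush_scheme v'; haveI := hasRpush_scheme f''
  haveI := hasRpush_scheme k; haveI := hasRpush_scheme k'
  haveI := hasRpush_scheme u; haveI := hasRpush_scheme (pullback.fst f u)
  haveI := hasRpush_scheme (pullback.snd f u); haveI := hasRpush_scheme r
  haveI := hasRpush_scheme (Spec.map φ)
  haveI := hasLpull v; haveI := hasLpull v'; haveI := hasLpull k; haveI := hasLpull k'
  haveI := hasLpull u; haveI := hasLpull (pullback.fst f u); haveI := hasLpull r; haveI := hasLpull (Spec.map φ)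
  have hw₃ : k' ≫ f = f'' ≫ k := hcomp.w
  obtain ⟨B₀⟩ := nonempty_lpull_rpush_adj k
  obtain ⟨B₀'⟩ := nonempty_lpull_rpush_adj k'
  obtain ⟨Au⟩ := nonempty_lpull_rpush_adj u
  obtain ⟨Au'⟩ := nonempty_lpull_rpush_adj (pullback.fst f u)
  obtain ⟨eu, heu⟩ := exists_isCan hu.w
  obtain ⟨e₂, he₂, hiff⟩ := exists_hcomp (g' := g') (f' := f') hsq₂.w (holds_flat hsq₂) rfl rfl hw₃ he adj adj'
  obtain ⟨e₃, he₃, hiff'⟩ := exists_hcomp (g' := pullback.fst f u) (f' := pullback.snd f u) (v' := r)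
    hr₂ (hloc Y r f'' hmid) hφ hr₁ hw₃ heu Au Au'
  have hθ : IsIso (BCMate.bc B₀ B₀' e₂ E) := by
    rw [isCan_unique he₂ he₃]
    haveI : IsIso (BCMate.bc Au Au' eu E) := holds_flat hu hu.w eu heu Au Au' E hE
    exact (hiff' B₀ B₀' E hE).1 inferInstance
  haveI hv : IsIso ((rho v).map (BCMate.bc adj adj' e E)) := isIso_rho_of_lpull v _ ((hiff B₀ B₀' E hE).2 hθ)
  obtain ⟨rr⟩ := AffineLift.nonempty_rhoCompNat hU'.isoSpec.hom v U'.ι hU'.isoSpec_hom_fromSpec
  exact (NatIso.isIso_map_iff rr _).1 (inferInstanceAs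
    (IsIso ((rho hU'.isoSpec.hom).map ((rho v).map (BCMate.bc adj adj' e E)))))

/-- Tor independence after base change of flat algebras. -/
theorem isZero_tor_pushout (R R' B B' C : Type u) [CommRing R] [CommRing R'] [CommRing B] [CommRing B'] [CommRing C]
    [Algebra R R'] [Algebra R B] [Algebra B B'] [Algebra R' B'] [Algebra R B'] [IsScalarTower R B B']
    [IsScalarTower R R' B'] [Algebra.IsPushout R B R' B'] [Algebra B C] [Algebra R C] [IsScalarTower R B C]
    [Module.Flat R B] [Module.Flat R C] (p : ℕ) (hp : 1 ≤ p) :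
    IsZero (((CategoryTheory.Tor (ModuleCat.{u} B) p).obj (ModuleCat.of B C)).obj (ModuleCat.of B B')) := by
  have hP : ∀ q : ℕ, 0 < q → Subsingleton (DRing.Tor R q R' B) := fun q hq => by
    obtain ⟨i, rfl⟩ : ∃ i, q = i + 1 := ⟨q - 1, by omega⟩
    exact ModuleCat.subsingleton_of_isZero ((TorBridge.isZero_tor_succ_of_flat (ModuleCat.of R B)
      (ModuleCat.of R R') i).of_iso (TorBalance.torSymm _ _ (i + 1)))
  obtain ⟨φ, hφ⟩ := TorBaseChange.exists_semilinear R B C R' hP p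
  haveI : Subsingleton (DRing.Tor R p R' C) := by
    obtain ⟨i, rfl⟩ : ∃ i, p = i + 1 := ⟨p - 1, by omega⟩
    exact ModuleCat.subsingleton_of_isZero ((TorBridge.isZero_tor_succ_of_flat (ModuleCat.of R C)
      (ModuleCat.of R R') i).of_iso (TorBalance.torSymm _ _ (i + 1)))
  haveI : Subsingleton (DRing.Tor B p (TensorProduct R B R') C) := hφ.2.subsingleton
  let e : ModuleCat.of B (TensorProduct R B R') ≅ ModuleCat.of B B' :=
    LinearEquiv.toModuleIso (Algebra.IsPushout.equiv R B R' B').toLinearEquiv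
  exact ((ModuleCat.isZero_of_subsingleton (((CategoryTheory.Tor (ModuleCat.{u} B) p).obj
    (ModuleCat.of B (TensorProduct R B R'))).obj (ModuleCat.of B C))).of_iso
      (TorBalance.torSymm _ _ p)).of_iso (((CategoryTheory.Tor (ModuleCat.{u} B) p).obj _).mapIso e.symm)

/-- Base change along a base change of a flat morphism holds for morphisms flat over the base. -/
theorem holds_of_flat_over {P P' T T' : Scheme.{u}} {f : X ⟶ P} {q : P ⟶ T} {t : T' ⟶ T} {m : P' ⟶ P}
    {q' : P' ⟶ T'} (hP : IsPullback m q' q t) [Flat q] [Flat (f ≫ q)] {g' : X' ⟶ X} {f' : X' ⟶ P'}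
    (h : IsPullback g' f' f m) [QuasiCompact f] [QuasiSeparated f] : Holds g' f' f m := by
  refine holds_of_chartsAt h fun s' => ?_
  obtain ⟨T₀, hT₀, hsT, -⟩ := exists_isAffineOpen_mem_and_subset (x := q (m s')) (U := ⊤) trivial
  obtain ⟨U, hU, hsU, hUT⟩ := exists_isAffineOpen_mem_and_subset (x := m s') (U := q ⁻¹ᵁ T₀) hsT
  have hst : t (q' s') ∈ T₀ := by
    have hw : q (m s') = t (q' s') := congr($(hP.w) s')
    rw [← hw]; exact hsT
  obtain ⟨T₁, hT₁, hs1, hTT⟩ := exists_isAffineOpen_mem_and_subset (x := q' s') (U := t ⁻¹ᵁ T₀) hst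
  let U' := m ⁻¹ᵁ U ⊓ q' ⁻¹ᵁ T₁
  have H := Scheme.Hom.isPullback_resLE hP (US := T₀) (UT := T₁) (UX := U) hTT hUT (UY := U') rfl
  haveI : IsAffine (U : Scheme.{u}) := hU
  haveI : IsAffine (T₀ : Scheme.{u}) := hT₀
  haveI : IsAffine (T₁ : Scheme.{u}) := hT₁
  have hU' : IsAffineOpen U' := IsAffine.of_isPullback H
  have e₁ : U' ≤ m ⁻¹ᵁ U := inf_le_left
  have e₂ : U' ≤ q' ⁻¹ᵁ T₁ := inf_le_right
  refine ⟨U, hU, U', hU', e₁, ⟨hsU, hs1⟩, fun Y r f'' hmid => ?_⟩
  intro _ _ _ _ _ _ hw e he adj adj' E hE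
  letI := (m.appLE U U' e₁).hom.toAlgebra
  haveI : QuasiCompact (pullback.snd f hU.fromSpec) := MorphismProperty.pullback_snd (P := @QuasiCompact) _ _ ‹_›
  haveI : QuasiSeparated (pullback.snd f hU.fromSpec) :=
    MorphismProperty.pullback_snd (P := @QuasiSeparated) _ _ ‹_›
  refine isIso_bc_affine_qs (A := Γ(P, U)) (B := Γ(P', U')) hmid ?_ e he adj adj' E hE
  intro C j _ ψ hψ n hn
  let α := q.appLE T₀ U hUT
  letI : Algebra Γ(T, T₀) Γ(P, U) := α.hom.toAlgebra
  letI : Algebra Γ(T, T₀) Γ(T', T₁) := (t.appLE T₀ T₁ hTT).hom.toAlgebra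
  letI : Algebra Γ(T', T₁) Γ(P', U') := (q'.appLE T₁ U' e₂).hom.toAlgebra
  letI : Algebra Γ(T, T₀) Γ(P', U') := ((m.appLE U U' e₁).hom.comp α.hom).toAlgebra
  haveI : IsScalarTower Γ(T, T₀) Γ(P, U) Γ(P', U') := IsScalarTower.of_algebraMap_eq' rfl
  have hsq : α ≫ m.appLE U U' e₁ = t.appLE T₀ T₁ hTT ≫ q'.appLE T₁ U' e₂ := by
    rw [Scheme.Hom.appLE_comp_appLE, Scheme.Hom.appLE_comp_appLE]
    congr 1
    exact hP.w
  haveI : IsScalarTower Γ(T, T₀) Γ(T', T₁) Γ(P', U') :=
    IsScalarTower.of_algebraMap_eq fun a => ConcreteCategory.congr_hom hsq a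
  haveI : Algebra.IsPushout Γ(T, T₀) Γ(P, U) Γ(T', T₁) Γ(P', U') := by
    haveI : Algebra.IsPushout Γ(T, T₀) Γ(T', T₁) Γ(P, U) Γ(P', U') := by
      rw [← CommRingCat.isPushout_iff_isPushout]
      refine (isPushout_appTop_of_isPullback H).flip.of_iso T₀.topIso T₁.topIso U.topIso U'.topIso ?_ ?_ ?_ ?_ <;>
        simp [RingHom.algebraMap_toAlgebra, Scheme.Hom.appTop, α]
    exact Algebra.IsPushout.symm ‹_›
  haveI : Module.Flat Γ(T, T₀) Γ(P, U) := Flat.flat_appLE q hT₀ hU hUT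
  letI : Algebra Γ(P, U) C := ψ.hom.toAlgebra
  letI : Algebra Γ(T, T₀) C := (α ≫ ψ).hom.toAlgebra
  haveI : IsScalarTower Γ(T, T₀) Γ(P, U) C := IsScalarTower.of_algebraMap_eq' rfl
  haveI : Module.Flat Γ(T, T₀) C := by
    have hj : Spec.map (α ≫ ψ) ≫ hT₀.fromSpec = (j ≫ pullback.fst f hU.fromSpec) ≫ f ≫ q := by
      rw [Spec.map_comp, Category.assoc, IsAffineOpen.SpecMap_appLE_fromSpec q hT₀ hU hUT, ← reassoc_of% hψ,
        Category.assoc, pullback.condition_assoc]
    haveI : Flat (Spec.map (α ≫ ψ) ≫ hT₀.fromSpec) := hj ▸ inferInstance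
    haveI : Flat (Spec.map (α ≫ ψ)) := MorphismProperty.of_postcomp (W := @Flat) (W' := @IsOpenImmersion)
      (Spec.map (α ≫ ψ)) hT₀.fromSpec inferInstance inferInstance
    exact (HasRingHomProperty.Spec_iff (P := @Flat)).1 inferInstance
  let eC : (ModuleCat.restrictScalars.{u} ψ.hom).obj (ModuleCat.of C C) ≅ ModuleCat.of Γ(P, U) C :=
    LinearEquiv.toModuleIso (LinearEquiv.ofBijective
    ({ toFun := fun x => x
       map_add' := fun _ _ => rfl
       map_smul' := fun r (x : C) => (Algebra.smul_def r x).symm } :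
      ((ModuleCat.restrictScalars.{u} ψ.hom).obj (ModuleCat.of C C) : Type u) →ₗ[Γ(P, U)] C) Function.bijective_id)
  exact (isZero_tor_pushout Γ(T, T₀) Γ(T', T₁) Γ(P, U) Γ(P', U') C n hn).of_iso
    (((CategoryTheory.Tor (ModuleCat.{u} Γ(P, U)) n).mapIso eC).app _)

end Groth.Agent.H9Misc
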