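import Groth.Agent.KFlatLib.Scheme.TriNatShift
import Groth.Agent.TriCat.EnvelopeProducts

/-!
# Functors preserving distinguished triangles and the steps of triangulated envelopes
-/

set_option autoImplicit false
set_option linter.style.haveILetI false
set_option backward.isDefEq.respectTransparency false

universe v₁ v₂ u₁ u₂

open CategoryTheory CategoryTheory.Limits CategoryTheory.Pretriangulated ZeroObject

noncomputable section

namespace Groth.Agent.H9Misc.EnvMap

open Groth.Agent.KFlatLib.TriNat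

variable {C : Type u₁} [Category.{v₁} C] [Preadditive C] [HasZeroObject C] [HasShift C ℤ]
  [∀ n : ℤ, (shiftFunctor C n).Additive] [Pretriangulated C]
  {D : Type u₂} [Category.{v₂} D] [Preadditive D] [HasZeroObject D] [HasShift D ℤ]
  [∀ n : ℤ, (shiftFunctor D n).Additive] [Pretriangulated D]

theorem nonempty_biprod_iso {G : C ⥤ D} (hG : PresTri G) (A B : C) [HasBinaryBiproduct A B]
    [HasBinaryBiproduct (G.obj A) (G.obj B)] : Nonempty (G.obj (A ⊞ B) ≅ G.obj A ⊞ G.obj B) := by
  obtain ⟨c, hc⟩ := hG _ (binaryBiproductTriangle_distinguished A B)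
  haveI : Mono (G.map (biprod.inl : A ⟶ A ⊞ B)) := (SplitMono.mono ⟨G.map biprod.fst, by
    rw [← Functor.map_comp, biprod.inl_fst, CategoryTheory.Functor.map_id]⟩)
  have h0 : c = 0 := Triangle.mor₃_eq_zero_of_mono₁ _ hc this
  obtain ⟨e, -, -⟩ := exists_iso_binaryBiproduct_of_distTriang _ hc h0
  exact ⟨e⟩

theorem closedUnderBinaryProducts_comap (R : ObjectProperty D) [R.IsClosedUnderIsomorphisms]
    [R.IsClosedUnderBinaryProducts] {G : C ⥤ D} (hG : PresTri G) :
    ObjectProperty.IsClosedUnderBinaryProducts (fun X => R (G.obj X)) where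
  limitsOfShape_le := by
    rintro X ⟨p⟩
    haveI := HasBinaryBiproducts.of_hasBinaryProducts (C := C)
    haveI := HasBinaryBiproducts.of_hasBinaryProducts (C := D)
    let A := p.diag.obj ⟨WalkingPair.left⟩
    let B := p.diag.obj ⟨WalkingPair.right⟩
    let e : X ≅ A ⊞ B := p.isLimit.conePointUniqueUpToIso (limit.isLimit p.diag) ≪≫
      HasLimit.isoOfNatIso (diagramIsoPair p.diag) ≪≫ (biprod.isoProd A B).symm
    obtain ⟨f⟩ := nonempty_biprod_iso hG A B
    exact R.prop_of_iso ((G.mapIso e) ≪≫ f ≪≫ biprod.isoProd _ _).symm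
      (R.prop_prod _ _ (p.prop_diag_obj _) (p.prop_diag_obj _))

theorem map_envelope_zero (P : ObjectProperty C) (Q : ObjectProperty D) {G : C ⥤ D} (hG : PresTri G)
    (h : ∀ X, P X → Q.triangEnvelopeIter 0 (G.obj X)) {X : C}
    (hX : (P.shiftClosure ℤ).binaryProductsClosure.retractClosure X) : Q.triangEnvelopeIter 0 (G.obj X) := by
  obtain ⟨Y, hY, ⟨r⟩⟩ := hX
  refine ObjectProperty.IsStableUnderRetracts.of_retract (r.map G) ?_
  haveI := TriCat.triangEnvelopeIter_closedUnderBinaryProducts Q 0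
  haveI := closedUnderBinaryProducts_comap (Q.triangEnvelopeIter 0) hG
  haveI : ObjectProperty.IsClosedUnderIsomorphisms (fun X => Q.triangEnvelopeIter 0 (G.obj X)) :=
    ⟨fun e h => (Q.triangEnvelopeIter 0).prop_of_iso (G.mapIso e) h⟩
  have hs : P.shiftClosure ℤ ≤ fun X => Q.triangEnvelopeIter 0 (G.obj X) := by
    rintro Z hZ
    rw [ObjectProperty.prop_shiftClosure_iff] at hZ
    obtain ⟨W, n, e, hW⟩ := hZ
    obtain ⟨f⟩ := hG.nonempty_shift W n
    exact (Q.triangEnvelopeIter 0).prop_of_iso (G.mapIso e ≪≫ f).symm ((Q.triangEnvelopeIter 0).le_shift n _ (h W hW))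
  exact ObjectProperty.limitsClosure_le hs _ hY

/-- Triangle preserving functors map steps of envelopes to steps of envelopes. -/
theorem map_envelope [IsTriangulated D] (P : ObjectProperty C) (Q : ObjectProperty D) {G : C ⥤ D} (hG : PresTri G)
    (h : ∀ X, P X → Q.triangEnvelopeIter 0 (G.obj X)) :
    ∀ (n : ℕ) (X : C), P.triangEnvelopeIter n X → Q.triangEnvelopeIter n (G.obj X) := by
  intro n
  induction n with
  | zero =>
    intro X hX
    rw [ObjectProperty.triangEnvelopeIter_zero] at hX
    exact map_envelope_zero P Q hG h hX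
  | succ n ih =>
    intro X hX
    rw [ObjectProperty.triangEnvelopeIter_succ] at hX
    obtain ⟨Y, ⟨A, B, f, g, k, hT, hA, hB⟩, ⟨r⟩⟩ := hX
    refine ObjectProperty.IsStableUnderRetracts.of_retract (r.map G) ?_
    rw [show n + 1 = 0 + (n + 1) by omega, ObjectProperty.triangEnvelopeIter_add' Q rfl]
    obtain ⟨c, hc⟩ := hG _ hT
    exact ObjectProperty.le_retractClosure _ _ ⟨_, _, _, _, _, hc, map_envelope_zero P Q hG h hA, ih _ hB⟩

end Groth.Agent.H9Misc.EnvMap
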