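import Groth.Agent.H9Misc.EnvMap
import Groth.Agent.H9Misc.BoxSurj
import Groth.Agent.KFlatLib.Scheme.ExtBound
import Groth.Agent.KExact.RlimQCoh
import Groth.Agent.KFlatLib.Scheme.CohD
import Groth.Agent.QCoh.LocFree

/-!
# Bounded coherent objects on the spectrum of a field are built from the structure sheaf without extensions
-/

set_option autoImplicit false
set_option linter.style.haveILetI false
set_option backward.isDefEq.respectTransparency false
set_option backward.isDefEq.respectTransparency.types false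

universe u

open CategoryTheory CategoryTheory.Limits AlgebraicGeometry Pretriangulated TopologicalSpace

attribute [local instance] HasDerivedCategory.standard

noncomputable section

namespace Groth.Agent.H9Misc.EnvPoint

open Groth.Agent

/-- The structure module is a retract of the extension by zero from the whole space. -/
theorem nonempty_retract_secObj (X : Scheme.{u}) :
    Nonempty (Retract (Coh.structureModule X) (KFlatLib.secObj (⊤ : X.Opens))) := by
  let T : X.Opens := (⊤ : X.Opens).ι ''ᵁ ⊤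
  let p : KFlatLib.secObj (⊤ : X.Opens) ⟶ Coh.structureModule X :=
    (KFlatLib.secEquiv ⊤ _).symm (show Γ(Coh.structureModule X, T) from (1 : Γ(X, T)))
  let i : Coh.structureModule X ⟶ KFlatLib.secObj (⊤ : X.Opens) :=
    InvX.ofSect (AModX.res _ (Scheme.Opens.ι_image_top _).ge (KFlatLib.secEquiv ⊤ _ (𝟙 _)))
  refine ⟨⟨i, p, BoxSurj.eq_of_one ?_⟩⟩
  show p.app ⊤ (InvX.one i) = InvX.one (𝟙 _)
  rw [InvX.one_ofSect, AModX.app_res, ← KFlatLib.secEquiv_naturality, Category.id_comp, Equiv.apply_symm_apply]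
  exact map_one (X.presheaf.map (homOfLE (Scheme.Opens.ι_image_top (⊤ : X.Opens)).ge).op).hom

theorem hom_structure_shift_eq_zero {X : Scheme.{u}} [IsAffine X] {M : X.Modules} (hM : Coh.IsQCoh M) (k : ℤ)
    (hk : k ≠ 0) (φ : DCoh.inD X (Coh.structureModule X) ⟶ (DCoh.inD X M)⟦k⟧) : φ = 0 := by
  obtain ⟨r⟩ := nonempty_retract_secObj X
  let r' := r.map (DerivedCategory.singleFunctor X.Modules 0)
  rw [← Category.id_comp φ, ← r'.retract, Category.assoc,
    KExact.RlimQCoh.hom_shift_eq_zero hM (isAffineOpen_top X) k hk (r'.r ≫ φ), comp_zero]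

variable (k : Type u) [Field k]

theorem exists_tilde {R : CommRingCat.{u}} {F : (Spec R).Modules} (hF : Coh.IsQCoh F) :
    ∃ N : ModuleCat.{u} R, Nonempty (tilde N ≅ F) :=
  ⟨moduleSpecΓFunctor.obj F, ⟨@asIso _ _ _ _ F.fromTildeΓ ((isQuasicoherent_iff_isIso_fromTildeΓ F).1 hF)⟩⟩

theorem isFinLocFree_of_isCoh {F : (Spec (.of k)).Modules} (hF : Coh.IsCoh F) : FlatMod.IsFinLocFree F := by
  obtain ⟨N, ⟨e⟩⟩ := exists_tilde hF.1
  haveI hN : Module.FinitePresentation k N :=
    (QCoh.isFP_tilde_iff N).1 (QCoh.isCoh_iff_isFP.1 (KFlatLib.isCoh_of_iso e.symm hF))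
  haveI : Module.Finite k N := inferInstance
  exact H23.PullPush.isFinLocFree_of_iso e ((QCoh.isFinLocFree_tilde_iff N).2
    ⟨(inferInstance : Module.Finite k N), Module.Projective.of_free⟩)

theorem mem_of_shifts (W : DCoh.D (Spec (.of k))) (a b : ℤ) [W.IsGE a] [W.IsLE b]
    (hW : ∀ i, Coh.IsCoh (DCoh.HD W i)) (Q : ObjectProperty (DCoh.D (Spec (.of k))))
    [Q.IsClosedUnderBinaryProducts] [Q.IsClosedUnderIsomorphisms] [Q.IsStableUnderRetracts] [Q.ContainsZero]
    (hQ : ∀ j : ℤ, a ≤ j ∧ j ≤ b →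
      Q ((DCoh.inD (Spec (.of k)) (Coh.structureModule _))⟦-j⟧)) : Q W := by
  let S : Scheme.{u} := Spec (.of k)
  haveI : HasFiniteProducts (DCoh.D S) := inferInstance
  haveI : Q.IsClosedUnderFiniteProducts := ObjectProperty.IsClosedUnderFiniteProducts.mk'
  haveI : HasFiniteBiproducts (DCoh.D S) := HasFiniteBiproducts.of_hasFiniteProducts
  haveI : HasFiniteBiproducts S.Modules := HasFiniteBiproducts.of_hasFiniteProducts
  have hret : ∀ F : S.Modules, Coh.IsCoh F → ∃ n : ℕ,
      Nonempty (Retract F (⨁ fun _ : Fin n => Coh.structureModule S)) := fun F hF => by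
    obtain ⟨n, i, p, hip⟩ := KFlatLib.ExtBound.exists_retract_spec (F := F) (isFinLocFree_of_isCoh k hF)
    exact ⟨n, ⟨⟨i ≫ (biproduct.isoCoproduct _).inv, (biproduct.isoCoproduct _).hom ≫ p,
      by rw [Category.assoc, Iso.inv_hom_id_assoc]; exact hip⟩⟩⟩
  have hExt : ∀ (i j : ℤ) (p : ℕ), j < i → 2 ≤ p →
      ∀ f : (DerivedCategory.singleFunctor S.Modules 0).obj ((DerivedCategory.homologyFunctor S.Modules i).obj W) ⟶
        ((DerivedCategory.singleFunctor S.Modules 0).obj ((DerivedCategory.homologyFunctor S.Modules j).obj W))⟦(p : ℤ)⟧,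
        f = 0 := by
    intro i j p _ hp f
    obtain ⟨n, ⟨r⟩⟩ := hret _ (hW i)
    let G := DerivedCategory.singleFunctor S.Modules 0
    let r' := (r.map G).trans (Retract.ofIso (G.mapBiproduct fun _ : Fin n => Coh.structureModule S))
    rw [← Category.id_comp f, ← r'.retract, Category.assoc]
    refine (congrArg (r'.i ≫ ·) (biproduct.hom_ext' _ 0 fun l => ?_)).trans comp_zero
    rw [comp_zero]
    exact hom_structure_shift_eq_zero (hW j).1 p (by omega) _
  obtain ⟨e⟩ := H9Misc.nonempty_iso_biproduct_single W a b hExt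
  refine Q.prop_of_iso (e ≪≫ biproduct.isoProduct _).symm (Q.prop_product fun j => ?_)
  obtain ⟨n, ⟨r⟩⟩ := hret _ (hW j.1)
  let G := DerivedCategory.singleFunctor S.Modules 0
  let G' := G ⋙ shiftFunctor (DCoh.D S) (-j.1)
  have h0 : Q (G'.obj ((DerivedCategory.homologyFunctor S.Modules j.1).obj W)) :=
    Q.prop_of_retract ((r.map G').trans (Retract.ofIso (G'.mapBiproduct _ ≪≫ biproduct.isoProduct _)))
      (Q.prop_product fun _ => hQ j.1 (Finset.mem_Icc.1 j.2))
  exact Q.prop_of_iso (((DerivedCategory.singleFunctors S.Modules).shiftIso (-j.1) j.1 0 (by omega)).app _)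
    h0

theorem mem_zero (W : DCoh.D (Spec (.of k))) (a b : ℤ) [W.IsGE a] [W.IsLE b]
    (hW : ∀ i, Coh.IsCoh (DCoh.HD W i)) :
    ObjectProperty.triangEnvelopeIter
      (ObjectProperty.ofObj (fun _ : PUnit.{u + 1} => DCoh.inD (Spec (.of k)) (Coh.structureModule _))) 0 W := by
  let S : Scheme.{u} := Spec (.of k)
  let P := ObjectProperty.ofObj (fun _ : PUnit.{u + 1} => DCoh.inD S (Coh.structureModule S))
  let Q := P.triangEnvelopeIter 0
  haveI := TriCat.triangEnvelopeIter_closedUnderBinaryProducts P 0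
  have hQ : Q (DCoh.inD S (Coh.structureModule S)) := ObjectProperty.le_triangEnvelopeIter _ 0 _ ⟨PUnit.unit⟩
  haveI : Q.ContainsZero := ⟨⟨_, isZero_zero _, Q.prop_of_retract
    ⟨0, 0, (isZero_zero _).eq_of_src _ _⟩ hQ⟩⟩
  exact mem_of_shifts k W a b hW Q fun j _ => Q.le_shift (-j) _ hQ

end Groth.Agent.H9Misc.EnvPoint
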