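import Groth.Agent.H9Misc.ProjNatCx
import Groth.Agent.KFlatLib.Scheme.PullTensorCx
import Groth.Agent.KFlatLib.Scheme.TensorAssoc
import Groth.Agent.KFlatLib.SymmNat

/-!
# Functors on derived categories computed by functors of complexes on K-flat complexes
-/

set_option autoImplicit false
set_option linter.style.haveILetI false

universe u

open CategoryTheory CategoryTheory.Limits AlgebraicGeometry

attribute [local instance] HasDerivedCategory.standard

namespace Groth.Agent.H9Misc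

open KFlatLib

variable {X Y Z : Scheme.{u}}

/-- A functor on the derived category computed by a functor of complexes on K-flat complexes. -/
structure CxComp (T : CochainComplex X.Modules ℤ ⥤ CochainComplex Y.Modules ℤ) (L : DCoh.D X ⥤ DCoh.D Y) where
  /-- The comparison. -/
  c : DerivedCategory.Q ⋙ L ⟶ T ⋙ DerivedCategory.Q
  iso : ∀ K, DCoh.IsKFlat K → IsIso (c.app K)

namespace CxComp

/-- On resolutions the functor is computed by complexes. -/
noncomputable def resIso {T : CochainComplex X.Modules ℤ ⥤ CochainComplex Y.Modules ℤ} {L : DCoh.D X ⥤ DCoh.D Y}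
    (h : CxComp T L) : DerivedCategory.Q ⋙ L ≅ kRes X ⋙ T ⋙ DerivedCategory.Q :=
  haveI : ∀ K, IsIso ((Functor.whiskerLeft (kRes X) h.c).app K) := fun K => h.iso _ (isKFlat_kRes K)
  haveI := NatIso.isIso_of_isIso_app (Functor.whiskerLeft (kRes X) h.c)
  Functor.isoWhiskerRight (resQIso X).symm L ≪≫ Functor.associator _ _ _ ≪≫
    asIso (Functor.whiskerLeft (kRes X) h.c)

/-- Two functors computed by isomorphic functors of complexes are isomorphic. -/
theorem uniq {T T' : CochainComplex X.Modules ℤ ⥤ CochainComplex Y.Modules ℤ} {L L' : DCoh.D X ⥤ DCoh.D Y}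
    (h : CxComp T L) (h' : CxComp T' L') (e : T ≅ T') : Nonempty (L ≅ L') :=
  letI : Localization.Lifting DerivedCategory.Q (qisX X) (DerivedCategory.Q ⋙ L) L := ⟨Iso.refl _⟩
  letI : Localization.Lifting DerivedCategory.Q (qisX X) (DerivedCategory.Q ⋙ L') L' := ⟨Iso.refl _⟩
  ⟨Localization.liftNatIso DerivedCategory.Q (qisX X) (DerivedCategory.Q ⋙ L) (DerivedCategory.Q ⋙ L') L L'
    (h.resIso ≪≫ Functor.isoWhiskerLeft (kRes X) (Functor.isoWhiskerRight e DerivedCategory.Q) ≪≫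
      h'.resIso.symm)⟩

/-- Composites. -/
noncomputable def comp {T : CochainComplex X.Modules ℤ ⥤ CochainComplex Y.Modules ℤ}
    {T' : CochainComplex Y.Modules ℤ ⥤ CochainComplex Z.Modules ℤ}
    {L : DCoh.D X ⥤ DCoh.D Y} {L' : DCoh.D Y ⥤ DCoh.D Z} (h : CxComp T L) (h' : CxComp T' L')
    (hT : ∀ K, DCoh.IsKFlat K → DCoh.IsKFlat (T.obj K)) : CxComp (T ⋙ T') (L ⋙ L') where
  c := (Functor.associator _ _ _).inv ≫ Functor.whiskerRight h.c L' ≫ (Functor.associator _ _ _).hom ≫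
    Functor.whiskerLeft T h'.c
  iso K hK := by
    haveI := h.iso K hK
    haveI := h'.iso _ (hT K hK)
    simp only [NatTrans.comp_app, Functor.associator_inv_app,
      Functor.whiskerRight_app, Functor.whiskerLeft_app]
    exact inferInstanceAs (IsIso (𝟙 _ ≫ L'.map (h.c.app K) ≫ 𝟙 _ ≫ h'.c.app (T.obj K)))

end CxComp

theorem cxPull_comp (f : X ⟶ Y) [DCoh.HasLpull f] : Nonempty (CxComp (pullCx f) (DCoh.Lpull f)) :=
  ⟨⟨lpullComparison f, fun _ hK => isIso_lpullComparison f hK⟩⟩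

theorem cxTensor_comp (E : CochainComplex X.Modules ℤ) [DCoh.HasLTensorCx E] :
    Nonempty (CxComp (DCoh.tensorCx.flip.obj E) (DCoh.LTensorCx E)) :=
  ⟨⟨(DCoh.tensorCxQ E).totalLeftDerivedCounit DerivedCategory.Q (qisX X), fun _ hK => isIso_LTensorCx_counit E hK⟩⟩

theorem cxKLift_comp {G : CochainComplex X.Modules ℤ ⥤ CochainComplex Y.Modules ℤ} (hG : KRespects G) :
    Nonempty (CxComp G (kLift hG)) :=
  ⟨⟨kLiftε hG, fun _ hK => isIso_kLiftε hG hK⟩⟩

theorem nonempty_tensor_symm (R : CochainComplex X.Modules ℤ) :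
    Nonempty (DCoh.tensorCx.flip.obj R ≅ DCoh.tensorCx.obj R) :=
  ⟨symmIso (tensorBiFlipIso X) R⟩

theorem nonempty_pullTensorNat (f : X ⟶ Y) (P : CochainComplex Y.Modules ℤ) :
    Nonempty (DCoh.tensorCx.flip.obj P ⋙ pullCx f ≅ pullCx f ⋙ DCoh.tensorCx.flip.obj ((pullCx f).obj P)) :=
  ⟨(totalMapNatIso (pullTensorBiIso f) P).symm⟩

/-- `C ↦ R ⊗^L C` is `- ⊗^L R`. -/
theorem nonempty_projF_iso (R : CochainComplex Y.Modules ℤ) [DCoh.HasLTensorCx R] :
    Nonempty (projF R ≅ DCoh.LTensorCx R) := by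
  obtain ⟨a⟩ := cxKLift_comp (kRespects_tensor R)
  obtain ⟨b⟩ := cxTensor_comp R
  obtain ⟨e⟩ := nonempty_tensor_symm R
  exact a.uniq b e.symm

/-- `C ↦ I ⊗^L Lf^* C` is `Lf^*` followed by `- ⊗^L I`. -/
theorem nonempty_projH_iso (f : X ⟶ Y) [DCoh.HasLpull f] (I : CochainComplex X.Modules ℤ) [DCoh.HasLTensorCx I] :
    Nonempty (projH f I ≅ DCoh.Lpull f ⋙ DCoh.LTensorCx I) := by
  obtain ⟨a⟩ := cxKLift_comp (kRespects_pullTensor f I)
  obtain ⟨b⟩ := cxPull_comp f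
  obtain ⟨c⟩ := cxTensor_comp I
  obtain ⟨e⟩ := nonempty_tensor_symm I
  exact a.uniq (b.comp c fun _ hK => isKFlat_pullback f hK) (Functor.isoWhiskerLeft (pullCx f) e.symm)

theorem isKFlat_flipTensor {C P : CochainComplex X.Modules ℤ} (hC : DCoh.IsKFlat C) (hP : DCoh.IsKFlat P) :
    DCoh.IsKFlat ((DCoh.tensorCx.flip.obj P).obj C) := by
  rw [Functor.flip_obj_obj]
  exact isKFlat_tensorCx hC hP

/-- The K-flat case. -/
theorem nonempty_lpull_ltensorCx_flat (f : X ⟶ Y) [DCoh.HasLpull f] (P : CochainComplex Y.Modules ℤ)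
    (hP : DCoh.IsKFlat P) [DCoh.HasLTensorCx P] [DCoh.HasLTensorCx ((pullCx f).obj P)] :
    Nonempty (DCoh.LTensorCx P ⋙ DCoh.Lpull f ≅ DCoh.Lpull f ⋙ DCoh.LTensorCx ((pullCx f).obj P)) := by
  obtain ⟨a⟩ := cxTensor_comp P
  obtain ⟨b⟩ := cxPull_comp f
  obtain ⟨c⟩ := cxTensor_comp ((pullCx f).obj P)
  obtain ⟨t⟩ := nonempty_pullTensorNat f P
  obtain ⟨m⟩ := (a.comp b fun _ hC => isKFlat_flipTensor hC hP).uniq (b.comp c fun _ hC => isKFlat_pullback f hC) t
  exact ⟨m⟩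

/-- Pullback and derived tensor products commute, naturally. -/
theorem nonempty_lpull_ltensorCx (f : X ⟶ Y) [DCoh.HasLpull f] (K : CochainComplex Y.Modules ℤ) [DCoh.HasLTensorCx K]
    (M : CochainComplex X.Modules ℤ) [DCoh.HasLTensorCx M]
    (e : DCoh.toD X M ≅ (DCoh.Lpull f).obj (DCoh.toD Y K)) :
    Nonempty (DCoh.LTensorCx K ⋙ DCoh.Lpull f ≅ DCoh.Lpull f ⋙ DCoh.LTensorCx M) := by
  let P := (kRes Y).obj K
  have hP : DCoh.IsKFlat P := isKFlat_kRes _
  let eP : DCoh.toD Y P ≅ DCoh.toD Y K := (resQIso Y).app K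
  haveI := hasLTensorCx P
  haveI := hasLTensorCx ((pullCx f).obj P)
  obtain ⟨cK⟩ := nonempty_LTensorCx_congr_D eP
  obtain ⟨cM⟩ := nonempty_LTensorCx_congr_D
    (P := (pullCx f).obj P) (E := M) ((lpullIso f hP).symm ≪≫ (DCoh.Lpull f).mapIso eP ≪≫ e.symm)
  obtain ⟨m⟩ := nonempty_lpull_ltensorCx_flat f P hP
  exact ⟨Functor.isoWhiskerRight cK.symm _ ≪≫ m ≪≫ Functor.isoWhiskerLeft _ cM⟩

/-- Composites of derived tensor products, with the product given in the derived category. -/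
theorem nonempty_ltensorCx_ltensorCx (K L : CochainComplex X.Modules ℤ) [DCoh.HasLTensorCx K] [DCoh.HasLTensorCx L]
    (N : CochainComplex X.Modules ℤ) [DCoh.HasLTensorCx N]
    (e : DCoh.toD X N ≅ (DCoh.LTensorCx L).obj (DCoh.toD X K)) :
    Nonempty (DCoh.LTensorCx K ⋙ DCoh.LTensorCx L ≅ DCoh.LTensorCx N) := by
  let P := (kRes X).obj L
  have hP : DCoh.IsKFlat P := isKFlat_kRes _
  haveI := hasLTensorCx P
  haveI := hasLTensorCx ((DCoh.tensorCx.obj K).obj P)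
  obtain ⟨cL⟩ := nonempty_LTensorCx_congr_D (P := P) (E := L) ((resQIso X).app L)
  obtain ⟨m⟩ := nonempty_LTensorCx_comp K P hP
  obtain ⟨cN⟩ := nonempty_LTensorCx_congr_D (P := (DCoh.tensorCx.obj K).obj P) (E := N)
    ((@asIso _ _ _ _ (((DCoh.tensorCxQ P).totalLeftDerivedCounit DerivedCategory.Q (qisX X)).app K)
      (isIso_LTensorCx_counit_of_isKFlat_right P hP K)).symm ≪≫ cL.app _ ≪≫ e.symm)
  exact ⟨Functor.isoWhiskerLeft _ cL.symm ≪≫ m ≪≫ cN⟩

/-- The projection formula, naturally in the pulled back object. -/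
theorem nonempty_projection_pull (f : X ⟶ Y) [QuasiCompact f] [QuasiSeparated f] [DCoh.HasLpull f] [DCoh.HasRpush f]
    (M : CochainComplex X.Modules ℤ) (hM : DCoh.IsQCohD (DCoh.toD X M)) [DCoh.HasLTensorCx M]
    (N : CochainComplex Y.Modules ℤ) [DCoh.HasLTensorCx N]
    (e : DCoh.toD Y N ≅ (DCoh.Rpush f).obj (DCoh.toD X M)) :
    Nonempty (ObjectProperty.ι (DCoh.IsQCohD (X := Y)) ⋙ DCoh.LTensorCx N ≅
      ObjectProperty.ι (DCoh.IsQCohD (X := Y)) ⋙ DCoh.Lpull f ⋙ DCoh.LTensorCx M ⋙ DCoh.Rpush f) := by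
  obtain ⟨I, _, _, ⟨eE⟩⟩ := exists_kInjective_rep (DCoh.toD X M)
  let R := (kRes Y).obj ((pushCxF f).obj I)
  let a : R ⟶ (pushCxF f).obj I := (flatCover Y).ψ.app _
  haveI : QuasiIso a := (flatCover Y).quasiIso_ψ _
  haveI := isIso_Q_map a inferInstance
  have hR : DCoh.IsKFlat R := isKFlat_kRes _
  have hI : DCoh.IsQCohD (DerivedCategory.Q.obj I) := isQCohD_of_iso eE hM
  haveI := hasLTensorCx R
  haveI := hasLTensorCx I
  obtain ⟨eI⟩ := nonempty_rpush_iso_of_kInjective (f := f) (I := I) (Iso.refl _)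
  obtain ⟨cN⟩ := nonempty_LTensorCx_congr_D (P := R) (E := N)
    (asIso (DerivedCategory.Q.map a) ≪≫ eI.symm ≪≫ (DCoh.Rpush f).mapIso eE.symm ≪≫ e.symm)
  obtain ⟨cM⟩ := nonempty_LTensorCx_congr_D (P := I) (E := M) eE.symm
  obtain ⟨pF⟩ := nonempty_projF_iso R
  obtain ⟨pH⟩ := nonempty_projH_iso f I
  have key : ∀ E : DCoh.D Y, DCoh.IsQCohD E → IsIso ((projθ f I a).app E) := fun E hE => by
    let P := (kRes Y).obj (DerivedCategory.Q.objPreimage E)
    let eP : DerivedCategory.Q.obj P ≅ E := (resQIso Y).app _ ≪≫ DerivedCategory.Q.objObjPreimageIso E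
    haveI := isIso_projθ f I a hR hI P (isQCohD_of_iso eP.symm hE)
    exact (NatTrans.isIso_app_iff_of_iso (projθ f I a) eP).1 inferInstance
  haveI : ∀ E, IsIso ((Functor.whiskerLeft (ObjectProperty.ι (DCoh.IsQCohD (X := Y))) (projθ f I a)).app E) :=
    fun E => key E.obj E.property
  haveI := NatIso.isIso_of_isIso_app (Functor.whiskerLeft (ObjectProperty.ι (DCoh.IsQCohD (X := Y))) (projθ f I a))
  exact ⟨Functor.isoWhiskerLeft _ (cN.symm ≪≫ pF.symm) ≪≫
    asIso (Functor.whiskerLeft (ObjectProperty.ι (DCoh.IsQCohD (X := Y))) (projθ f I a)) ≪≫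
    Functor.isoWhiskerLeft _ (Functor.isoWhiskerRight (pH ≪≫ Functor.isoWhiskerLeft _ cM) (DCoh.Rpush f) ≪≫
      Functor.associator _ _ _)⟩

end Groth.Agent.H9Misc
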