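import Groth.Agent.H9Misc.ProjNat
import Groth.Agent.H9Misc.KernelCx
import Groth.Agent.Lib.DerivedBC
import Groth.Agent.KFlatLib.Scheme.QCohDerived
import Groth.Prelude.Def_DualFM

/-!
# Composition of Fourier–Mukai functors on objects with quasi-coherent cohomology
-/

set_option autoImplicit false
set_option linter.style.haveILetI false
set_option maxHeartbeats 1000000

universe u

open CategoryTheory CategoryTheory.Limits AlgebraicGeometry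

attribute [local instance] HasDerivedCategory.standard

namespace Groth.Agent.H9Misc

open KFlatLib Lib.DerivedBC Lib.DerivedNat

local notation "qc" Z:max => ObjectProperty.ι (DCoh.IsQCohD (X := Z))

variable {X Y Z : Scheme.{u}}

/-- The projection formula, naturally in the pushed forward object. -/
theorem nonempty_projection_push (f : X ⟶ Y) [QuasiCompact f] [QuasiSeparated f] [DCoh.HasRpush f] [DCoh.HasLpull f]
    (K : CochainComplex Y.Modules ℤ) (hK : DCoh.IsQCohD (DCoh.toD Y K)) [DCoh.HasLTensorCx K]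
    (M : CochainComplex X.Modules ℤ) [DCoh.HasLTensorCx M]
    (e : DCoh.toD X M ≅ (DCoh.Lpull f).obj (DCoh.toD Y K)) :
    Nonempty (qc X ⋙ DCoh.Rpush f ⋙ DCoh.LTensorCx K ≅ qc X ⋙ DCoh.LTensorCx M ⋙ DCoh.Rpush f) := by
  let P := (kRes Y).obj K
  have hP : DCoh.IsKFlat P := isKFlat_kRes _
  let eP : DCoh.toD Y P ≅ DCoh.toD Y K := (resQIso Y).app K
  haveI := hasLTensorCx P
  haveI := hasLTensorCx ((pullCx f).obj P)
  obtain ⟨m⟩ := nonempty_projection_nat f P hP (isQCohD_of_iso eP.symm hK)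
  obtain ⟨cK⟩ := nonempty_LTensorCx_congr_D eP
  obtain ⟨cM⟩ := nonempty_LTensorCx_congr_D
    (P := (pullCx f).obj P) (E := M) ((lpullIso f hP).symm ≪≫ (DCoh.Lpull f).mapIso eP ≪≫ e.symm)
  exact ⟨Functor.isoWhiskerLeft _ (Functor.isoWhiskerLeft _ cK.symm) ≪≫ m ≪≫
    Functor.isoWhiskerLeft _ (Functor.isoWhiskerRight cM _)⟩

/-- Composites of correspondences. -/
theorem nonempty_corr_comp {W U U' V : Scheme.{u}} (f₁ : U ⟶ W) (s₁ : U ⟶ X) (f₂ : U' ⟶ X) (s₂ : U' ⟶ Z)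
    (q₁ : V ⟶ U) (q₂ : V ⟶ U') (sq : IsPullback q₁ q₂ s₁ f₂)
    (hflat : Flat s₁ ∨ Flat f₂) [QuasiCompact s₁] [QuasiSeparated s₁]
    [DCoh.HasLpull f₁] [DCoh.HasRpush s₁] [DCoh.HasLpull f₂] [DCoh.HasRpush s₂] [DCoh.HasLpull q₁] [DCoh.HasLpull q₂]
    (K : CochainComplex U.Modules ℤ) (hK : DCoh.IsQCohD (DCoh.toD U K)) [DCoh.HasLTensorCx K]
    (M : CochainComplex U'.Modules ℤ) (hM : DCoh.IsQCohD (DCoh.toD U' M)) [DCoh.HasLTensorCx M]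
    (L : CochainComplex V.Modules ℤ) [DCoh.HasLTensorCx L] (eL : DCoh.toD V L ≅ (DCoh.Lpull q₂).obj (DCoh.toD U' M))
    (N : CochainComplex V.Modules ℤ) [DCoh.HasLTensorCx N]
    (eN : DCoh.toD V N ≅ (DCoh.LTensorCx L).obj ((DCoh.Lpull q₁).obj (DCoh.toD U K)))
    (p : V ⟶ W) (hp : q₁ ≫ f₁ = p) (r : V ⟶ Z) (hr : q₂ ≫ s₂ = r) [DCoh.HasLpull p] [DCoh.HasRpush r] :
    Nonempty (qc W ⋙ (DCoh.Lpull f₁ ⋙ DCoh.LTensorCx K ⋙ DCoh.Rpush s₁) ⋙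
        (DCoh.Lpull f₂ ⋙ DCoh.LTensorCx M ⋙ DCoh.Rpush s₂) ≅
      qc W ⋙ DCoh.Lpull p ⋙ DCoh.LTensorCx N ⋙ DCoh.Rpush r) := by
  haveI := hasRpush_scheme q₂
  haveI : QuasiCompact q₂ := MorphismProperty.of_isPullback (P := @QuasiCompact) sq ‹_›
  haveI : QuasiSeparated q₂ := MorphismProperty.of_isPullback (P := @QuasiSeparated) sq ‹_›
  obtain ⟨K₁, ⟨e₁⟩⟩ : ∃ K₁ : CochainComplex V.Modules ℤ,
      Nonempty (DCoh.toD V K₁ ≅ (DCoh.Lpull q₁).obj (DCoh.toD U K)) :=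
    ⟨_, ⟨DerivedCategory.Q.objObjPreimageIso _⟩⟩
  haveI := hasLTensorCx K₁
  obtain ⟨bc⟩ : Nonempty (qc U ⋙ DCoh.Rpush s₁ ⋙ DCoh.Lpull f₂ ≅ qc U ⋙ DCoh.Lpull q₁ ⋙ DCoh.Rpush q₂) := by
    rcases hflat with h | h
    · haveI := h; exact nonempty_baseChange_of_flat sq
    · haveI := h; exact nonempty_baseChange_of_flat_right sq
  obtain ⟨pr⟩ := nonempty_projection_push q₂ M hM L eL
  obtain ⟨l⟩ := nonempty_lpull_ltensorCx q₁ K K₁ e₁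
  obtain ⟨t⟩ := nonempty_ltensorCx_ltensorCx K₁ L N (eN ≪≫ (DCoh.LTensorCx L).mapIso e₁.symm)
  obtain ⟨c⟩ := KExact.A1Shriek.nonempty_lpull_comp' q₁ f₁ p hp
  obtain ⟨c'⟩ := nonempty_rpush_comp' q₂ s₂ r hr
  have hF : ∀ E, DCoh.IsQCohD E → DCoh.IsQCohD ((DCoh.Lpull f₁ ⋙ DCoh.LTensorCx K).obj E) :=
    fun E hE => isQCohD_ltensor K hK (isQCohD_lpull f₁ hE)
  have hG : ∀ E, DCoh.IsQCohD E → DCoh.IsQCohD (((DCoh.Lpull f₁ ⋙ DCoh.LTensorCx K) ⋙ DCoh.Lpull q₁).obj E) :=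
    fun E hE => isQCohD_lpull q₁ (hF E hE)
  let i₁ := whiskerQ (DCoh.Lpull f₁ ⋙ DCoh.LTensorCx K) hF
    (H := (DCoh.Rpush s₁ ⋙ DCoh.Lpull f₂) ⋙ DCoh.LTensorCx M ⋙ DCoh.Rpush s₂)
    (H' := (DCoh.Lpull q₁ ⋙ DCoh.Rpush q₂) ⋙ DCoh.LTensorCx M ⋙ DCoh.Rpush s₂)
    ((Functor.associator _ _ _).symm ≪≫ Functor.isoWhiskerRight bc _ ≪≫ Functor.associator _ _ _)
  let i₂ := whiskerQ ((DCoh.Lpull f₁ ⋙ DCoh.LTensorCx K) ⋙ DCoh.Lpull q₁) hG
    (H := (DCoh.Rpush q₂ ⋙ DCoh.LTensorCx M) ⋙ DCoh.Rpush s₂)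
    (H' := (DCoh.LTensorCx L ⋙ DCoh.Rpush q₂) ⋙ DCoh.Rpush s₂)
    ((Functor.associator _ _ _).symm ≪≫ Functor.isoWhiskerRight pr _ ≪≫ Functor.associator _ _ _)
  exact ⟨Iso.refl _ ≪≫ i₁ ≪≫ Iso.refl _ ≪≫ i₂ ≪≫ Iso.refl _ ≪≫
    Functor.isoWhiskerLeft _ (Functor.isoWhiskerRight (Functor.associator _ _ _ ≪≫ Functor.isoWhiskerLeft _ l)
      (DCoh.LTensorCx L ⋙ DCoh.Rpush q₂ ⋙ DCoh.Rpush s₂)) ≪≫ Iso.refl _ ≪≫
    Functor.isoWhiskerLeft _ (Functor.isoWhiskerRight c (DCoh.LTensorCx K₁ ⋙ DCoh.LTensorCx L ⋙ DCoh.Rpush q₂ ⋙ DCoh.Rpush s₂)) ≪≫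
    Functor.isoWhiskerLeft _ (Functor.isoWhiskerLeft _ ((Functor.associator _ _ _).symm ≪≫
      Functor.isoWhiskerRight t _ ≪≫ Functor.isoWhiskerLeft _ c'))⟩

/-- A correspondence with a pushed forward kernel. -/
theorem nonempty_corr_push {W U V : Scheme.{u}} (f : U ⟶ W) (s : U ⟶ Z) (g : V ⟶ U) [QuasiCompact g] [QuasiSeparated g]
    [DCoh.HasLpull f] [DCoh.HasRpush s] [DCoh.HasRpush g]
    (K : CochainComplex U.Modules ℤ) [DCoh.HasLTensorCx K]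
    (N : CochainComplex V.Modules ℤ) (hN : DCoh.IsQCohD (DCoh.toD V N)) [DCoh.HasLTensorCx N]
    (eK : DCoh.toD U K ≅ (DCoh.Rpush g).obj (DCoh.toD V N))
    (p : V ⟶ W) (hp : g ≫ f = p) (r : V ⟶ Z) (hr : g ≫ s = r) [DCoh.HasLpull p] [DCoh.HasRpush r] :
    Nonempty (qc W ⋙ DCoh.Lpull f ⋙ DCoh.LTensorCx K ⋙ DCoh.Rpush s ≅
      qc W ⋙ DCoh.Lpull p ⋙ DCoh.LTensorCx N ⋙ DCoh.Rpush r) := by
  haveI := hasLpull g
  obtain ⟨pp⟩ := nonempty_projection_pull g N hN K eK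
  obtain ⟨c⟩ := KExact.A1Shriek.nonempty_lpull_comp' g f p hp
  obtain ⟨c'⟩ := nonempty_rpush_comp' g s r hr
  let i := whiskerQ (DCoh.Lpull f) (fun E hE => isQCohD_lpull f hE)
    (H := DCoh.LTensorCx K ⋙ DCoh.Rpush s)
    (H' := (DCoh.Lpull g ⋙ DCoh.LTensorCx N ⋙ DCoh.Rpush g) ⋙ DCoh.Rpush s)
    ((Functor.associator _ _ _).symm ≪≫ Functor.isoWhiskerRight pp _ ≪≫ Functor.associator _ _ _)
  exact ⟨i ≪≫ Iso.refl _ ≪≫ Functor.isoWhiskerLeft _ (Functor.isoWhiskerRight c (DCoh.LTensorCx N ⋙ DCoh.Rpush g ⋙ DCoh.Rpush s)) ≪≫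
    Functor.isoWhiskerLeft _ (Functor.isoWhiskerLeft _ (Functor.isoWhiskerLeft _ c'))⟩

end Groth.Agent.H9Misc

namespace Groth.Agent.H9Misc

open KFlatLib

local notation "qc" Z:max => ObjectProperty.ι (DCoh.IsQCohD (X := Z))

instance quasiSeparated_p13 {S X Y Z : Scheme.{u}} (a : X ⟶ S) (b : Y ⟶ S) (c : Z ⟶ S) [QuasiSeparated a] [QuasiSeparated b] :
    QuasiSeparated (FMK.p13 a b c) := by
  haveI : QuasiSeparated (FMK.p13 a b c ≫ pullback.snd a c) := by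
    rw [FMK.p13_snd]; infer_instance
  exact QuasiSeparated.of_comp _ (pullback.snd a c)

instance quasiCompact_p13 {S X Y Z : Scheme.{u}} (a : X ⟶ S) (b : Y ⟶ S) (c : Z ⟶ S) [QuasiSeparated a]
    [QuasiCompact a] [QuasiCompact b] :
    QuasiCompact (FMK.p13 a b c) := by
  haveI : QuasiCompact (FMK.p13 a b c ≫ pullback.snd a c) := by
    rw [FMK.p13_snd]; infer_instance
  exact QuasiCompact.of_comp _ (pullback.snd a c)

/-- The Fourier–Mukai functor of a composite kernel is the composite, on quasi-coherent objects. -/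
theorem nonempty_phi_conv {S X Y Z : Scheme.{u}} (a : X ⟶ S) (b : Y ⟶ S) (c : Z ⟶ S)
    [QuasiCompact a] [QuasiSeparated a] [QuasiCompact b] [QuasiSeparated b]
    (hflat : Flat a ∨ Flat c)
    (K : CochainComplex (pullback a b).Modules ℤ) (M : CochainComplex (pullback b c).Modules ℤ)
    (hK : DCoh.IsQCohD (DCoh.toD _ K)) (hM : DCoh.IsQCohD (DCoh.toD _ M))
    [DCoh.HasLpull (pullback.fst a b)] [DCoh.HasLTensorCx K] [DCoh.HasRpush (pullback.snd a b)]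
    [DCoh.HasLpull (pullback.fst b c)] [DCoh.HasLTensorCx M] [DCoh.HasRpush (pullback.snd b c)]
    [DCoh.HasLpull (FMK.p12 a b c)] [DCoh.HasLpull (FMK.p23 a b c)] [DCoh.HasRpush (FMK.p13 a b c)]
    [DCoh.HasLpull (pullback.fst a c)] [DCoh.HasRpush (pullback.snd a c)]
    (L : CochainComplex (FMK.T a b c).Modules ℤ) [DCoh.HasLTensorCx L]
    (eL : DCoh.toD _ L ≅ (DCoh.Lpull (FMK.p23 a b c)).obj (DCoh.toD _ M))
    (N : CochainComplex (pullback a c).Modules ℤ) [DCoh.HasLTensorCx N]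
    (eN : DCoh.toD _ N ≅ FMK.conv a b c K L) :
    Nonempty (qc X ⋙ FMK.phi a c N ≅ qc X ⋙ FMK.phi a b K ⋙ FMK.phi b c M) := by
  obtain ⟨N₁, ⟨e₁⟩⟩ : ∃ N₁ : CochainComplex (FMK.T a b c).Modules ℤ, Nonempty (DCoh.toD _ N₁ ≅
      (DCoh.LTensorCx L).obj ((DCoh.Lpull (FMK.p12 a b c)).obj (DCoh.toD _ K))) :=
    ⟨_, ⟨DerivedCategory.Q.objObjPreimageIso _⟩⟩
  haveI := hasLTensorCx N₁
  haveI := hasLpull (FMK.p12 a b c ≫ pullback.fst a b)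
  haveI := hasRpush_scheme (FMK.p23 a b c ≫ pullback.snd b c)
  have hL : DCoh.IsQCohD (DCoh.toD _ L) := isQCohD_of_iso eL.symm (isQCohD_lpull _ hM)
  have hN₁ : DCoh.IsQCohD (DCoh.toD _ N₁) :=
    isQCohD_of_iso e₁.symm (isQCohD_ltensor L hL (isQCohD_lpull _ hK))
  have hfl : Flat (pullback.snd a b) ∨ Flat (pullback.fst b c) := by
    rcases hflat with h | h
    · haveI := h; exact Or.inl inferInstance
    · haveI := h; exact Or.inr inferInstance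
  obtain ⟨i⟩ := nonempty_corr_comp (pullback.fst a b) (pullback.snd a b) (pullback.fst b c) (pullback.snd b c)
    (FMK.p12 a b c) (FMK.p23 a b c) (IsPullback.of_hasPullback _ _) hfl K hK M hM L eL N₁ e₁
    (FMK.p12 a b c ≫ pullback.fst a b) rfl (FMK.p23 a b c ≫ pullback.snd b c) rfl
  obtain ⟨j⟩ := nonempty_corr_push (pullback.fst a c) (pullback.snd a c) (FMK.p13 a b c) N N₁ hN₁
    (eN ≪≫ (DCoh.Rpush (FMK.p13 a b c)).mapIso e₁.symm)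
    (FMK.p12 a b c ≫ pullback.fst a b) (FMK.p13_fst a b c) (FMK.p23 a b c ≫ pullback.snd b c) (FMK.p13_snd a b c)
  exact ⟨j ≪≫ i.symm⟩

end Groth.Agent.H9Misc
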