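import Groth.Agent.H9Misc.FinRep
import Groth.Agent.KFlatLib.Scheme.CompactPerfect
import Groth.Agent.KFlatLib.Scheme.QCohD
import Groth.Agent.TriCat.DerivedCoproducts
import Groth.Agent.S1040
import Groth.Agent.S1006
import Groth.Agent.S6742
import Groth.Prelude.Def_SGA6

/-!
# Finite cohomological functors on perfect complexes are represented by quasi-coherent complexes
-/

set_option autoImplicit false
set_option linter.style.haveILetI false
set_option maxHeartbeats 1000000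

universe u

open CategoryTheory CategoryTheory.Limits CategoryTheory.Pretriangulated AlgebraicGeometry Opposite

attribute [local instance] HasDerivedCategory.standard

noncomputable section

namespace Groth.Agent.H9Misc.PerfRep

open Groth.Agent KFlatLib

variable {X : Scheme.{u}}

instance closedIso_perfP : (SGA6.perfP X).IsClosedUnderIsomorphisms :=
  ⟨fun e h => (isPerfect_iff _).2 (LocSP.of_iso e ((isPerfect_iff _).1 h))⟩

instance retracts_perfP : (SGA6.perfP X).IsStableUnderRetracts :=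
  ⟨fun r h => (isPerfect_iff _).2 (CompactPerfect.locSP_of_retract r.i r.r r.retract ((isPerfect_iff _).1 h))⟩

lemma qcoh_of_perfect {E : DCoh.D X} (h : DCoh.IsPerfect E) : DCoh.IsQCohD E :=
  AffineLift.isQCohD_of_locSP ((isPerfect_iff _).1 h)

/-- Hom linear equivalence for shift. -/
def shiftHomEquiv (k : Type u) [CommRing k] [X.Over (Spec (CommRingCat.of k))] (E Y : DCoh.D X) (i : ℤ) :
    (E ⟶ Y⟦i⟧) ≃ₗ[k] (E⟦-i⟧ ⟶ Y) :=
  (LinearEquiv.ofBijective ((shiftFunctor (DCoh.D X) (-i)).mapLinearMap k)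
    (((Functor.FullyFaithful.ofFullyFaithful (shiftFunctor (DCoh.D X) (-i))).map_bijective _ _))).trans
    (Linear.homCongr k (Iso.refl _) ((shiftFunctorCompIsoId (DCoh.D X) i (-i) (by omega)).app Y))

/-- The shift of the full subcategory. -/
def shiftObjIso [(SGA6.perfP X).IsTriangulated] (E : (SGA6.perfP X).FullSubcategory) (n : ℤ)
    (h : SGA6.perfP X (E.obj⟦n⟧)) :
    (shiftFunctor ((SGA6.perfP X).FullSubcategory) n).obj E ≅ (⟨E.obj⟦n⟧, h⟩ : (SGA6.perfP X).FullSubcategory) :=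
  ObjectProperty.isoMk _ (((SGA6.perfP X).ι.commShiftIso n).app E)

theorem exists_qcoh_represent (k : Type u) [Field k] (X : Scheme.{u}) [X.Over (Spec (CommRingCat.of k))]
    [IsProper (X ↘ Spec (CommRingCat.of k))] [(SGA6.perfP X).IsTriangulated]
    (H : ((SGA6.perfP X).FullSubcategory)ᵒᵖ ⥤ ModuleCat.{u + 1} k) [H.Additive]
    (hlin : ∀ (A B : (SGA6.perfP X).FullSubcategory) (r : k) (f : A ⟶ B), H.map (r • f).op = r • H.map f.op)
    (hcoh : ∀ T ∈ distTriang (DCoh.D X), ∀ (h₁ : DCoh.IsPerfect T.obj₁)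
      (h₂ : DCoh.IsPerfect T.obj₂) (h₃ : DCoh.IsPerfect T.obj₃)
      (y : H.obj (op ⟨T.obj₂, h₂⟩)),
      H.map (ObjectProperty.homMk T.mor₁ : (⟨T.obj₁, h₁⟩ : (SGA6.perfP X).FullSubcategory) ⟶ ⟨T.obj₂, h₂⟩).op y = 0 →
        ∃ z : H.obj (op ⟨T.obj₃, h₃⟩),
          H.map (ObjectProperty.homMk T.mor₂ : (⟨T.obj₂, h₂⟩ : (SGA6.perfP X).FullSubcategory) ⟶ ⟨T.obj₃, h₃⟩).op z = y)
    (hfin : ∀ E : (SGA6.perfP X).FullSubcategory,
      (∀ n : ℤ, Module.Finite k (H.obj (op ((shiftFunctor ((SGA6.perfP X).FullSubcategory) n).obj E)))) ∧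
      Set.Finite {n : ℤ | Nontrivial (H.obj (op ((shiftFunctor ((SGA6.perfP X).FullSubcategory) n).obj E)))}) :
    ∃ Y : DCoh.D X, DCoh.IsQCohD Y ∧
      Nonempty (H ≅ (ObjectProperty.ι (SGA6.perfP X)).op ⋙ (linearYoneda k (DCoh.D X)).obj Y) ∧
      ∀ E : DCoh.D X, DCoh.IsPerfect E →
        (∀ i : ℤ, Module.Finite k (E ⟶ (shiftFunctor (DCoh.D X) i).obj Y)) ∧
        Set.Finite {i : ℤ | Nontrivial (E ⟶ (shiftFunctor (DCoh.D X) i).obj Y)} := by
  haveI : IsNoetherian X := Groth.Agent.KExact.BCNat.isNoetherian_of_ft (X ↘ Spec (CommRingCat.of k))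
  haveI : HasColimitsOfShape (Discrete (ULift.{u} ℕ)) (DCoh.D X) := TriCat.hasColimitsOfShape_derivedCategory
  haveI : HasColimitsOfShape (Discrete ℕ) (DCoh.D X) :=
    hasColimitsOfShape_of_equivalence (Discrete.equivalence Equiv.ulift.{u})
  obtain ⟨G, hG, hgen⟩ := Generator.exists_gen X
  have hGP : SGA6.perfP X G := (isPerfect_iff _).2 hG
  have hGn : ∀ n : ℤ, SGA6.perfP X (G⟦n⟧) := fun n => (SGA6.perfP X).le_shift n _ hGP
  have hfinHom : ∀ C, SGA6.perfP X C → (∀ n : ℤ, Module.Finite k (G⟦n⟧ ⟶ C)) ∧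
      Set.Finite {n : ℤ | Nontrivial (G⟦n⟧ ⟶ C)} := fun C hC => by
    obtain ⟨hf, hs⟩ := Groth.Agent.S6742.result k X C (Groth.Agent.S1006.result X C hC) G hGP
    refine ⟨fun n => ?_, (hs.image Neg.neg).subset fun n hn => ?_⟩
    · haveI := hf (-n)
      have h := Module.Finite.equiv (shiftHomEquiv k G C (-n))
      rwa [neg_neg] at h
    · refine ⟨-n, ?_, neg_neg n⟩
      replace hn : Nontrivial (G⟦-(-n)⟧ ⟶ C) := by rwa [neg_neg]
      exact (shiftHomEquiv k G C (-n)).toEquiv.nontrivial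
  have hsums : ∀ (C : DCoh.D X), SGA6.perfP X C → ∀ K : ℕ → DCoh.D X, (∀ m, SGA6.perfP X (K m)) →
      ∀ g : C ⟶ ∐ K, TriCat.FinFactor g := fun C hC K hK g => by
    classical
    obtain ⟨s, a, ha⟩ := CompactPerfect.finSums_of_isPerfect hC (ULift.{u} ℕ) (fun j => K j.down)
      (fun j => qcoh_of_perfect (hK j.down)) (g ≫ Sigma.desc fun n => Sigma.ι (fun j : ULift.{u} ℕ => K j.down) ⟨n⟩)
    refine ⟨s.image ULift.down, fun n => a ⟨n⟩, ?_⟩
    have h := congrArg (· ≫ Sigma.desc fun j : ULift.{u} ℕ => Sigma.ι K j.down) ha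
    have e : (Sigma.desc fun n => Sigma.ι (fun j : ULift.{u} ℕ => K j.down) ⟨n⟩) ≫
        (Sigma.desc fun j : ULift.{u} ℕ => Sigma.ι K j.down) = 𝟙 (∐ K) := by
      ext n; simp
    simp only [Category.assoc, e, Category.comp_id, Preadditive.sum_comp, Sigma.ι_desc] at h
    rw [h, Finset.sum_image (fun _ _ _ _ h => ULift.ext _ _ h)]
  have eS : ∀ (E : (SGA6.perfP X).FullSubcategory) (n : ℤ) (h : SGA6.perfP X (E.obj⟦n⟧)),
      H.obj (op ((shiftFunctor ((SGA6.perfP X).FullSubcategory) n).obj E)) ≃ₗ[k] H.obj (op ⟨E.obj⟦n⟧, h⟩) :=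
    fun E n h => (H.mapIso (shiftObjIso E n h).symm.op).toLinearEquiv
  have hfinG : (∀ n : ℤ, Module.Finite k (H.obj (op ⟨G⟦n⟧, hGn n⟩))) ∧
      Set.Finite {n : ℤ | Nontrivial (H.obj (op ⟨G⟦n⟧, hGn n⟩))} := by
    obtain ⟨hf, hs⟩ := hfin ⟨G, hGP⟩
    refine ⟨fun n => ?_, hs.subset fun n (hn : Nontrivial _) => (eS ⟨G, hGP⟩ n (hGn n)).toEquiv.nontrivial⟩
    haveI := hf n
    exact Module.Finite.equiv (eS ⟨G, hGP⟩ n (hGn n))
  obtain ⟨K, f, Y, i, hK, hY, ⟨e⟩⟩ := FinRep.exists_represent (k := k) (P := SGA6.perfP X) H hGn hlin hcoh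
    hfinHom hfinG hsums (fun Q _ _ _ hQG C hC => CompactPerfect.prop_of_finSums Q hG hgen hQG
      (qcoh_of_perfect hC) (CompactPerfect.finSums_of_isPerfect hC))
  refine ⟨Y, ?_, ⟨e⟩, fun E hE => ?_⟩
  · obtain ⟨c, hc⟩ := hY
    have hS : DCoh.IsQCohD (∐ K) := by
      have h := Groth.Agent.S1040.result X (fun j : ULift.{u} ℕ => K j.down) (fun j => qcoh_of_perfect (hK j.down))
      let ψ : (∐ fun j : ULift.{u} ℕ => K j.down) ≅ ∐ K :=
        Sigma.whiskerEquiv Equiv.ulift.{u} (fun j => Iso.refl _)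
      exact KFlatLib.isQCohD_of_iso ψ h
    exact KFlatLib.isQCohD_obj₃ hc hS hS
  · have eH : ∀ n : ℤ, H.obj (op ((shiftFunctor ((SGA6.perfP X).FullSubcategory) n).obj ⟨E, hE⟩)) ≃ₗ[k]
        (E⟦n⟧ ⟶ Y) := fun n =>
      (eS ⟨E, hE⟩ n ((SGA6.perfP X).le_shift n _ hE)).trans (e.app (op ⟨E⟦n⟧, (SGA6.perfP X).le_shift n _ hE⟩)).toLinearEquiv
    obtain ⟨hf, hs⟩ := hfin ⟨E, hE⟩
    refine ⟨fun j => ?_, (hs.image Neg.neg).subset fun j hj => ?_⟩
    · haveI := hf (-j)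
      exact Module.Finite.equiv ((eH (-j)).trans (shiftHomEquiv k E Y j).symm)
    · haveI : Nontrivial (E ⟶ Y⟦j⟧) := hj
      exact ⟨-j, ((eH (-j)).trans (shiftHomEquiv k E Y j).symm).toEquiv.nontrivial, neg_neg j⟩

end Groth.Agent.H9Misc.PerfRep
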