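import Groth.Agent.H9Misc.ConeTensor
import Groth.Agent.H9Misc.KernelCx
import Groth.Agent.KFlatLib.Scheme.TriNatShift

/-!
# The derived tensor product with a complex preserves distinguished triangles
-/

set_option autoImplicit false
set_option linter.style.haveILetI false
set_option backward.isDefEq.respectTransparency false
set_option backward.isDefEq.respectTransparency.types false

universe u

open CategoryTheory CategoryTheory.Limits CategoryTheory.Pretriangulated AlgebraicGeometry

attribute [local instance] HasDerivedCategory.standard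

namespace Groth.Agent.H9Misc.TensorTri

open KFlatLib

variable {X : Scheme.{u}} (E : CochainComplex X.Modules ℤ)

theorem mapTriangle_cone_distinguished {A B : CochainComplex X.Modules ℤ} (φ : A ⟶ B) :
    DerivedCategory.Q.mapTriangle.obj (CochainComplex.mappingCone.triangle φ) ∈
      distinguishedTriangles (C := DCoh.D X) :=
  (DerivedCategory.mem_distTriang_iff _).2 ⟨_, _, φ, ⟨Iso.refl _⟩⟩

theorem presTri_ltensorCx [DCoh.HasLTensorCx E] : TriNat.PresTri (DCoh.LTensorCx E) := by
  intro T hT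
  obtain ⟨⟨c, hc⟩⟩ := cxTensor_comp E
  obtain ⟨A, B, φ, ⟨e⟩⟩ := (DerivedCategory.mem_distTriang_iff _).1 hT
  let L := DCoh.LTensorCx E
  let G := DCoh.tensorCx.flip.obj E
  let φ' := (kRes X).map φ
  let C' := CochainComplex.mappingCone φ'
  have hC : DCoh.IsKFlat C' := kFlat_cone (T := DCoh.tensorBi) φ' (isKFlat_kRes A) (isKFlat_kRes B)
  haveI := hc _ (isKFlat_kRes A)
  haveI := hc _ (isKFlat_kRes B)
  haveI := hc _ hC
  let e' : DerivedCategory.Q.mapTriangle.obj (CochainComplex.mappingCone.triangle φ') ≅ T :=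
    isoTriangleOfIso₁₂ (DerivedCategory.Q.mapTriangle.obj (CochainComplex.mappingCone.triangle φ'))
      (DerivedCategory.Q.mapTriangle.obj (CochainComplex.mappingCone.triangle φ))
      (mapTriangle_cone_distinguished φ') (mapTriangle_cone_distinguished φ)
      ((resQIso X).app A) ((resQIso X).app B) ((resQIso X).hom.naturality φ) ≪≫ e.symm
  let i₁ : L.obj T.obj₁ ≅ DerivedCategory.Q.obj (G.obj ((kRes X).obj A)) :=
    L.mapIso (Triangle.π₁.mapIso e'.symm) ≪≫ asIso (c.app ((kRes X).obj A))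
  let i₂ : L.obj T.obj₂ ≅ DerivedCategory.Q.obj (G.obj ((kRes X).obj B)) :=
    L.mapIso (Triangle.π₂.mapIso e'.symm) ≪≫ asIso (c.app ((kRes X).obj B))
  let cc : CochainComplex.mappingCone (G.map φ') ≅ G.obj C' :=
    (ConeTensor.coneCompatTenR (DCoh.tensorBi (X := X)) E).iso φ'
  have hcc : CochainComplex.mappingCone.inr (G.map φ') ≫ cc.hom = G.map (CochainComplex.mappingCone.inr φ') :=
    CochainComplex.mappingCone.inr_desc (G.map φ') (ConeTensor.αCochain (DCoh.tensorBi (X := X)) E φ')
      (G.map (CochainComplex.mappingCone.inr φ')) (ConeTensor.δ_αCochain (DCoh.tensorBi (X := X)) E φ')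
  let i₃ : L.obj T.obj₃ ≅ DerivedCategory.Q.obj (CochainComplex.mappingCone (G.map φ')) :=
    L.mapIso (Triangle.π₃.mapIso e'.symm) ≪≫ asIso (c.app C') ≪≫ DerivedCategory.Q.mapIso cc.symm
  refine ⟨i₃.hom ≫ (DerivedCategory.Q.mapTriangle.obj (CochainComplex.mappingCone.triangle (G.map φ'))).mor₃ ≫
    i₁.inv⟦(1 : ℤ)⟧', isomorphic_distinguished _ (mapTriangle_cone_distinguished (G.map φ')) _ ?_⟩
  refine Triangle.isoMk _ _ i₁ i₂ i₃ ?_ ?_ ?_
  · change L.map T.mor₁ ≫ L.map e'.inv.hom₂ ≫ c.app _ = (L.map e'.inv.hom₁ ≫ c.app _) ≫ DerivedCategory.Q.map (G.map φ')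
    rw [Category.assoc, ← Functor.map_comp_assoc, e'.inv.comm₁, Functor.map_comp, Category.assoc]
    exact congrArg (L.map e'.inv.hom₁ ≫ ·) (c.naturality φ')
  · change L.map T.mor₂ ≫ L.map e'.inv.hom₃ ≫ c.app _ ≫ DerivedCategory.Q.map cc.inv =
      (L.map e'.inv.hom₂ ≫ c.app _) ≫ DerivedCategory.Q.map (CochainComplex.mappingCone.inr (G.map φ'))
    rw [Category.assoc, ← Functor.map_comp_assoc, e'.inv.comm₂, Functor.map_comp, Category.assoc]
    refine congrArg (L.map e'.inv.hom₂ ≫ ·) ?_
    refine ((Category.assoc _ _ _).symm.trans (congrArg (· ≫ DerivedCategory.Q.map cc.inv)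
      (c.naturality (CochainComplex.mappingCone.inr φ')))).trans ?_
    refine (Category.assoc _ _ _).trans (congrArg (c.app _ ≫ ·) ?_)
    change DerivedCategory.Q.map (G.map (CochainComplex.mappingCone.inr φ')) ≫ DerivedCategory.Q.map cc.inv = _
    rw [← Functor.map_comp, ← hcc, Category.assoc, Iso.hom_inv_id, Category.comp_id]
  · change (i₃.hom ≫ _ ≫ i₁.inv⟦(1 : ℤ)⟧') ≫ i₁.hom⟦(1 : ℤ)⟧' = _
    rw [Category.assoc, Category.assoc, ← Functor.map_comp, Iso.inv_hom_id, CategoryTheory.Functor.map_id]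
    erw [Category.comp_id]

end Groth.Agent.H9Misc.TensorTri
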