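import Groth.Agent.S13565
import Groth.Agent.H9Misc.KernelComp
import Groth.Agent.H9Misc.PhiEquiv
import Groth.Agent.H9Misc.TensorTri
import Groth.Agent.H9Misc.EnvMap
import Groth.Agent.H9Misc.EnvPoint
import Groth.Agent.H9Misc.PerfRep
import Groth.Agent.H9Misc.DiagKernel
import Groth.Agent.KFlatLib.Scheme.DualTensorMod
import Groth.Agent.KFlatLib.Scheme.ProjAffineFlat
import Groth.Agent.KFlatLib.Scheme.RpushPerfect
import Groth.Agent.KExact.SmoothShriek
import Groth.Agent.Synt29.PnEuler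

/-!
# Perfect objects are built from the right factor of a box product generating the diagonal
-/

set_option autoImplicit false
set_option linter.style.haveILetI false
set_option backward.isDefEq.respectTransparency false
set_option backward.isDefEq.respectTransparency.types false
set_option maxHeartbeats 1000000

universe u

open CategoryTheory CategoryTheory.Limits AlgebraicGeometry Pretriangulated

attribute [local instance] HasDerivedCategory.standard

noncomputable section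

namespace Groth.Agent.H9Misc.DiagPhi

open KFlatLib

variable (k : Type u) [Field k] {X : Scheme.{u}} (a : X ⟶ Spec (.of k))

/-- A module as a complex in degree zero. -/
abbrev sg {Y : Scheme.{u}} (M : Y.Modules) : CochainComplex Y.Modules ℤ :=
  (HomologicalComplex.single Y.Modules (ComplexShape.up ℤ) 0).obj M

theorem isPerfect_sg {Y : Scheme.{u}} {E : Y.Modules} (hE : FlatMod.IsFinLocFree E) :
    DCoh.IsPerfect (DCoh.toD Y (sg E)) := by
  have hP : DCoh.IsStrictlyPerfect (sg E) :=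
    ⟨⟨0, 0, fun i hi => HomologicalComplex.isZero_single_obj_X (ComplexShape.up ℤ) 0 _ i (by omega)⟩, fun i => by
      rcases eq_or_ne i 0 with h | h
      · subst h
        exact H23.PullPush.isFinLocFree_of_iso (HomologicalComplex.singleObjXSelf (ComplexShape.up ℤ) 0 _).symm hE
      · exact KFlatLib.isFinLocFree_of_isZero (HomologicalComplex.isZero_single_obj_X (ComplexShape.up ℤ) 0 _ i h)⟩
  exact (KFlatLib.isPerfect_iff _).2 fun x =>
    ⟨_, 𝟙 Y, inferInstance, ⟨x, rfl⟩, _, isStrictlyPerfect_restrict (𝟙 Y) hP, ⟨((rhoQ (𝟙 Y)).app _).symm⟩⟩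

/-- `Rp₂*(Lp₁^*K ⊗ (p₁^*E ⊗ p₂^*G))` is `La^*Ra_*(K ⊗ E) ⊗ G`. -/
theorem nonempty_box [IsProper a] [Flat a] (K : DCoh.D X) (hK : DCoh.IsPerfect K) (E G : X.Modules)
    (hE : FlatMod.IsFinLocFree E) (hG : FlatMod.IsFinLocFree G)
    [DCoh.HasLpull a] [DCoh.HasRpush a] [DCoh.HasLpull (pullback.fst a a)] [DCoh.HasRpush (pullback.snd a a)]
    (A : CochainComplex (pullback a a).Modules ℤ) (hA : DCoh.IsKFlat A) [DCoh.HasLTensorCx A]
    (eA : DCoh.toD _ A ≅ (DCoh.Lpull (pullback.fst a a)).obj K) [DCoh.HasLTensorCx (sg E)] [DCoh.HasLTensorCx (sg G)] :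
    Nonempty ((DCoh.LTensorCx A ⋙ DCoh.Rpush (pullback.snd a a)).obj (DCoh.inD _ (CohB1.tensorMod
        ((Scheme.Modules.pullback (pullback.fst a a)).obj E) ((Scheme.Modules.pullback (pullback.snd a a)).obj G))) ≅
      (DCoh.Lpull a ⋙ DCoh.LTensorCx (sg G)).obj ((DCoh.Rpush a).obj ((DCoh.LTensorCx (sg E)).obj K))) := by
  let p₁ := pullback.fst a a
  let p₂ := pullback.snd a a
  let E₁ := (Scheme.Modules.pullback p₁).obj E
  let G₂ := (Scheme.Modules.pullback p₂).obj G
  let B := CohB1.tensorMod E₁ G₂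
  haveI := hasLTensorCx (sg E₁)
  haveI := hasLTensorCx (sg G₂)
  haveI := hasLTensorCx (sg B)
  haveI := hasLpull p₂
  have hEc : DCoh.IsPerfect (DCoh.toD X (sg E)) := isPerfect_sg hE
  let K' := (DCoh.LTensorCx (sg E)).obj K
  have hK' : DCoh.IsPerfect K' := isPerfect_ltensor' (sg E) hEc hK
  have hq' : DCoh.IsQCohD K' := H9Misc.PerfRep.qcoh_of_perfect hK'
  -- symmetry
  obtain ⟨sy⟩ := KFlatLib.nonempty_ltensor_symm A (sg B) hA
  -- the product of the two factors
  have hE₁ : FlatMod.IsFinLocFree E₁ := KFlatLib.isFinLocFree_pullback p₁ hE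
  obtain ⟨t₁⟩ := KFlatLib.nonempty_ltensor_inD (isFlat_of_isFinLocFree hE₁) G₂
  obtain ⟨t₂⟩ := nonempty_ltensorCx_ltensorCx (sg E₁) (sg G₂) (sg B)
    (((DerivedCategory.singleFunctorIsoCompQ _ 0).app B).symm ≪≫ t₁.symm ≪≫
      (DCoh.LTensorCx (sg G₂)).mapIso ((DerivedCategory.singleFunctorIsoCompQ _ 0).app E₁))
  obtain ⟨l₁⟩ := KFlatLib.nonempty_lpull_inD_of_flat p₁ E
  obtain ⟨l₂⟩ := KFlatLib.nonempty_lpull_inD_of_flat p₂ G
  obtain ⟨t₃⟩ := nonempty_lpull_ltensorCx p₁ (sg E) (sg E₁)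
    (((DerivedCategory.singleFunctorIsoCompQ _ 0).app E₁).symm ≪≫ l₁.symm ≪≫
      (DCoh.Lpull p₁).mapIso ((DerivedCategory.singleFunctorIsoCompQ _ 0).app E))
  -- projection formula and base change
  obtain ⟨pr⟩ := nonempty_projection_push p₂ (sg G)
    (isQCohD_of_iso ((DerivedCategory.singleFunctorIsoCompQ _ 0).app G)
      (isQCohD_inD_of_isQCoh (QCoh.isQCoh_of_isFinLocFree hG))) (sg G₂)
    (((DerivedCategory.singleFunctorIsoCompQ _ 0).app G₂).symm ≪≫ l₂.symm ≪≫
      (DCoh.Lpull p₂).mapIso ((DerivedCategory.singleFunctorIsoCompQ _ 0).app G))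
  obtain ⟨bc⟩ := Lib.DerivedBC.nonempty_baseChange_of_flat (IsPullback.of_hasPullback a a)
  have hT : DCoh.IsQCohD ((DCoh.Lpull p₁).obj K') := isQCohD_lpull p₁ hq'
  exact ⟨(DCoh.Rpush p₂).mapIso ((DCoh.LTensorCx A).mapIso ((DerivedCategory.singleFunctorIsoCompQ _ 0).app B) ≪≫
      sy ≪≫ (DCoh.LTensorCx (sg B)).mapIso eA ≪≫ (t₂.app _).symm ≪≫
      (DCoh.LTensorCx (sg G₂)).mapIso (t₃.app K).symm) ≪≫
    (pr.app ⟨_, hT⟩).symm ≪≫ (DCoh.LTensorCx (sg G)).mapIso (bc.app ⟨K', hq'⟩).symm⟩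

/-- Perfect objects lie in a bounded step of the envelope of `G`. -/
theorem exists_bound [IsProper a] [Flat a] (E G : X.Modules)
    (hE : FlatMod.IsFinLocFree E) (hG : FlatMod.IsFinLocFree G) (n : ℕ)
    (hΔ : ObjectProperty.triangEnvelopeIter
      (ObjectProperty.ofObj (fun _ : PUnit.{u + 1} => DCoh.inD (pullback a a) (CohB1.tensorMod
        ((Scheme.Modules.pullback (pullback.fst a a)).obj E) ((Scheme.Modules.pullback (pullback.snd a a)).obj G)))) n
      (DCoh.inD (pullback a a) ((Coh.push (pullback.diagonal a)).obj (Coh.structureModule X))))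
    (K : DCoh.D X) (hK : DCoh.IsPerfect K) :
    ObjectProperty.triangEnvelopeIter (ObjectProperty.ofObj (fun _ : PUnit.{u + 1} => DCoh.inD X G)) n K := by
  let p₁ := pullback.fst a a
  let p₂ := pullback.snd a a
  haveI := hasLpull a
  haveI := hasRpush_scheme a
  haveI := hasLpull p₁
  haveI := hasRpush_scheme p₂
  let A := repK ((DCoh.Lpull p₁).obj K)
  haveI := hasLTensorCx A
  haveI := hasLTensorCx (sg E)
  haveI := hasLTensorCx (sg G)
  let Q := ObjectProperty.ofObj (fun _ : PUnit.{u + 1} => DCoh.inD X G)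
  let Ψ := DCoh.LTensorCx A ⋙ DCoh.Rpush p₂
  have hΨ : TriNat.PresTri Ψ := TriNat.presTri_comp (TensorTri.presTri_ltensorCx A) (TriNat.presTri_rpush p₂)
  -- the base case
  have hbase : Q.triangEnvelopeIter 0 (Ψ.obj (DCoh.inD _ (CohB1.tensorMod
      ((Scheme.Modules.pullback p₁).obj E) ((Scheme.Modules.pullback p₂).obj G)))) := by
    obtain ⟨e⟩ := nonempty_box k a K hK E G hE hG A (isKFlat_repK _) (repKIso _)
    refine (Q.triangEnvelopeIter 0).prop_of_iso e.symm ?_
    have hEc : DCoh.IsPerfect (DCoh.toD X (sg E)) := isPerfect_sg hE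
    let K' := (DCoh.LTensorCx (sg E)).obj K
    have hW : LocSP ((DCoh.Rpush a).obj K') :=
      locSP_rpush a ((isPerfect_iff _).1 (isPerfect_ltensor' (sg E) hEc hK))
    obtain ⟨d, hd⟩ := exists_bound_of_locPC (hW.locPC 0)
    obtain ⟨c, hc⟩ := exists_lower_bound_of_locSP hW
    haveI : ((DCoh.Rpush a).obj K').IsLE d := (DerivedCategory.isLE_iff _ _).2 hd
    haveI : ((DCoh.Rpush a).obj K').IsGE c := (DerivedCategory.isGE_iff _ _).2 hc
    have hq := H9Misc.PerfRep.qcoh_of_perfect ((isPerfect_iff _).2 hW)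
    have hW0 := EnvPoint.mem_zero k _ c d fun i => isCoh_of_locPC hq (hW.locPC i) i le_rfl
    refine EnvMap.map_envelope _ Q (TriNat.presTri_comp (TriNat.presTri_lpull a) (TensorTri.presTri_ltensorCx (sg G)))
      ?_ 0 _ hW0
    rintro Y ⟨_⟩
    obtain ⟨u⟩ := KExact.SmoothShriek.nonempty_lpull_inD a
    obtain ⟨t⟩ := KFlatLib.nonempty_ltensor_inD
      (isFlat_of_isFinLocFree (InvX.isInvertible_structureModule (X := X) |> H23.PullPush.isFinLocFree_of_isInvertible)) G
    exact (Q.triangEnvelopeIter 0).prop_of_iso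
      ((DCoh.LTensorCx (sg G)).mapIso u.symm ≪≫ t ≪≫ (DerivedCategory.singleFunctor X.Modules 0).mapIso
        ((((tensorBiFlipIso X).app (Coh.structureModule X)).app G).symm ≪≫ (tensorStructureIso X).app G)).symm
      (Q.le_triangEnvelopeIter 0 _ ⟨PUnit.unit⟩)
  -- the diagonal
  have hn := EnvMap.map_envelope _ Q hΨ (fun Y hY => by obtain ⟨_⟩ := hY; exact hbase) n _ hΔ
  let O := (HomologicalComplex.single (pullback a a).Modules (ComplexShape.up ℤ) 0).obj
    ((Coh.push (pullback.diagonal a)).obj (Coh.structureModule X))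
  haveI := hasLTensorCx O
  let eO : DCoh.toD _ O ≅ DCoh.inD _ ((Coh.push (pullback.diagonal a)).obj (Coh.structureModule X)) :=
    ((DerivedCategory.singleFunctorIsoCompQ _ 0).app _).symm
  obtain ⟨φ⟩ := S13565.result a O ⟨eO⟩
  obtain ⟨sy⟩ := KFlatLib.nonempty_ltensor_symm A O (isKFlat_repK _)
  refine (Q.triangEnvelopeIter n).prop_of_iso ?_ hn
  exact (DCoh.Rpush p₂).mapIso ((DCoh.LTensorCx A).mapIso eO.symm ≪≫ sy ≪≫ (DCoh.LTensorCx O).mapIso (repKIso _)) ≪≫
    φ.app K

end Groth.Agent.H9Misc.DiagPhi
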