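import Groth.Agent.H9Misc.QuotAffineDiag
import Groth.Agent.NQF.OpenAffine
import Groth.Agent.AlgSpLib.FlatMono
import Groth.Agent.AlgStLib.DiagCover
import Mathlib.AlgebraicGeometry.Morphisms.Affine

/-!
# Affine diagonal of stacks covered affinely and flatly by one-dimensional Noetherian schemes
-/

set_option autoImplicit false
set_option linter.style.haveILetI false
set_option backward.isDefEq.respectTransparency false
set_option backward.isDefEq.respectTransparency.types false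

universe u

open CategoryTheory CategoryTheory.Limits AlgebraicGeometry AlgSp
open Groth.Agent.AlgSpLib Groth.Agent.AlgStLib Groth.Agent.FibBase
open Groth.Agent.H9Misc.QuotAffineDiag

noncomputable section

namespace Groth.Agent.H9Misc.DimOneDiag

/-- Noetherian schemes of dimension at most one have affine diagonals over every base. -/
theorem isAffineHom_diagonal {X Y : Scheme.{u}} (f : X ⟶ Y) [IsLocallyNoetherian X]
    (hdim : topologicalKrullDim X ≤ 1) : IsAffineHom (pullback.diagonal f) := by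
  refine isAffineHom_of_forall_exists_isAffineOpen _ fun z => ?_
  obtain ⟨V, hV, hz₁, -⟩ := exists_isAffineOpen_mem_and_subset (X := X)
    (x := pullback.fst f f z) (U := ⊤) trivial
  obtain ⟨Ω, hΩ, hzΩ, hΩle⟩ := exists_isAffineOpen_mem_and_subset (X := pullback f f)
    (x := z) (U := pullback.fst f f ⁻¹ᵁ V) hz₁
  refine ⟨Ω, hzΩ, hΩ, ?_⟩
  have hle : pullback.diagonal f ⁻¹ᵁ Ω ≤ V := fun x hx => by
    have h : pullback.fst f f (pullback.diagonal f x) ∈ V := hΩle hx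
    rwa [← Scheme.Hom.comp_apply, pullback.diagonal_fst] at h
  haveI : IsNoetherianRing Γ(X, V) := IsLocallyNoetherian.component_noetherian ⟨V, hV⟩
  haveI : Ring.KrullDimLE 1 Γ(X, V) := by
    rw [Ring.krullDimLE_iff, ← PrimeSpectrum.topologicalKrullDim_eq_ringKrullDim]
    exact hV.fromSpec.isOpenEmbedding.isInducing.topologicalKrullDim_le.trans hdim
  haveI := NQF.isAffineHom_ι_spec (hV.fromSpec ⁻¹ᵁ (pullback.diagonal f ⁻¹ᵁ Ω))
  have h1 : IsAffineOpen (hV.fromSpec ⁻¹ᵁ (pullback.diagonal f ⁻¹ᵁ Ω)) :=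
    isAffine_of_isAffineHom (hV.fromSpec ⁻¹ᵁ (pullback.diagonal f ⁻¹ᵁ Ω)).ι
  have h2 := h1.image_of_isOpenImmersion hV.fromSpec
  rwa [Scheme.Hom.image_preimage_eq_opensRange_inf, IsAffineOpen.opensRange_fromSpec, inf_eq_right.2 hle] at h2

variable {S : Scheme.{u}} {𝒳 𝒴 𝒵 : AlgSt.Cat S}

/-- Lifts along single affine flat surjections exist for every test scheme. -/
def AffFlatSurj (g : 𝒵 ⥤ᵇ 𝒴) : Prop :=
  ∀ (U : Over S) (y : FibCat.overCat U ⥤ᵇ 𝒴), ∃ (V : Over S) (v : V ⟶ U),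
    IsAffineHom v.left ∧ Flat v.left ∧ Surjective v.left ∧
      ∃ z : FibCat.overCat V ⥤ᵇ 𝒵, Nonempty (BasedFunctor.comp z g ≅ BasedFunctor.comp (AlgSt.overMap v) y)

theorem affFlatSurj_of_rep {g : 𝒵 ⥤ᵇ 𝒴} (h₁ : AlgSt.RepByAlgSpWith IsAffineMor g)
    (h₂ : AlgSt.RepByAlgSpWith (LocP @Flat) g) (h₃ : AlgSt.RepByAlgSpWith IsSurjectiveMor g) : AffFlatSurj g := by
  intro U y
  obtain ⟨F, e, he, ha⟩ := h₁ U y
  have hfl := (RepOver.property_of_stableBC stableBC_locP (h₂ U y) e he).2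
  have hsu := (RepOver.property_of_stableBC stableBC_isSurjectiveMor (h₃ U y) e he).2
  let a := AlgSt.spMapOfOver (BasedFunctor.comp e (FibCat.fpFst y g))
  have hr := Groth.Agent.AlgSpDec.repWith_isAffineHom_of_isAffineMor ha
  let sq := hr.rep.isPullback (𝟙 ((yon S).obj U))
  let V := hr.rep.pullback (𝟙 ((yon S).obj U))
  let w := hr.rep.snd (𝟙 ((yon S).obj U))
  let p := hr.rep.fst (𝟙 ((yon S).obj U))
  haveI : IsIso p := sq.isIso_fst_of_isIso
  have hw : (yon S).map w = p ≫ a := ((sq.w).trans (Category.comp_id _)).symm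
  haveI : IsAffineHom w.left := hr.property_snd _
  have hwf : Flat w.left := locP_yon_map (P := @Flat) (locP_of_isPullback sq F.property (IsAlgSpace.yon_obj U)
    (IsAlgSpace.yon_obj U) hfl)
  have hws : Function.Surjective w.left := fun x => by
    obtain ⟨x₁, h1⟩ := hsu (Points.schemeHomeo U x)
    obtain ⟨x₂, h2⟩ : ∃ x₂, Points.map p x₂ = x₁ := ⟨Points.map (inv p) x₁, by
      rw [← Points.map_comp, IsIso.inv_hom_id]; simp⟩
    obtain ⟨t, rfl⟩ := (Points.schemeHomeo V).surjective x₂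
    refine ⟨t, (Points.schemeHomeo U).injective ?_⟩
    rw [← h1, ← h2, ← Points.map_comp, ← hw, Points.map_yon_map_eq]
    exact congrArg (fun t => (Points.schemeHomeo U) (w.left t)) ((Points.schemeHomeo V).symm_apply_apply t).symm
  refine ⟨V, w, inferInstance, hwf, ⟨hws⟩, ?_⟩
  let E : FibCat.overCat V ⥤ᵇ FibCat.fp y g := BasedFunctor.comp (overOfMap p) e
  let j : BasedFunctor.comp E (FibCat.fpFst y g) ≅ AlgSt.overMap w :=
    whiskerLeftIso (overOfMap p) (isoSpMapOfOver (BasedFunctor.comp e (FibCat.fpFst y g))) ≪≫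
      overIso _ _ (fun x => by
        have : ((yon S).map w).hom.app (Opposite.op x.left) ⟨x.hom⟩ =
            a.hom.app (Opposite.op x.left) (p.hom.app (Opposite.op x.left) ⟨x.hom⟩) := by
          rw [hw]; rfl
        have h' : (⟨x.hom ≫ w⟩ : ULift (x.left ⟶ U)) = _ := this
        show 𝟙 x.left ≫ (x.hom ≫ w) = (a.hom.app (Opposite.op x.left) (p.hom.app (Opposite.op x.left) ⟨x.hom⟩)).down
        rw [← h', Category.id_comp])
  exact ⟨BasedFunctor.comp E (FibCat.fpSnd y g),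
    ⟨(whiskerLeftIso E (FibCat.fpIso y g)).symm ≪≫ whiskerRightIso j y⟩⟩

theorem affFlatSurj_pairMap {𝒜 ℬ : AlgSt.Cat S} {F₁ : 𝒜 ⥤ᵇ 𝒴} {F₂ : ℬ ⥤ᵇ 𝒴} (t : 𝒴 ⥤ᵇ 𝒵)
    (h₁ : AffFlatSurj F₁) (h₂ : AffFlatSurj F₂) : AffFlatSurj (pairMap F₁ F₂ t) := fun U y => by
  obtain ⟨V₁, v₁, ha₁, hf₁, hs₁, w₁, ⟨k₁⟩⟩ := h₁ U (BasedFunctor.comp y (FibCat.fpFst t t))
  obtain ⟨V, v₂, ha₂, hf₂, hs₂, z₂, ⟨k₂⟩⟩ := h₂ V₁
    (BasedFunctor.comp (AlgSt.overMap v₁) (BasedFunctor.comp y (FibCat.fpSnd t t)))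
  let h := v₂ ≫ v₁
  refine ⟨V, h, inferInstanceAs (IsAffineHom (v₂.left ≫ v₁.left)), inferInstanceAs (Flat (v₂.left ≫ v₁.left)),
    inferInstanceAs (Surjective (v₂.left ≫ v₁.left)), ?_⟩
  let z₁ := BasedFunctor.comp (AlgSt.overMap v₂) w₁
  let i₁ : BasedFunctor.comp z₁ F₁ ≅ BasedFunctor.comp (AlgSt.overMap h) (BasedFunctor.comp y (FibCat.fpFst t t)) :=
    whiskerLeftIso (AlgSt.overMap v₂) k₁ ≪≫
      whiskerRightIso (overMapCompIso v₂ v₁) (BasedFunctor.comp y (FibCat.fpFst t t))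
  let i₂ : BasedFunctor.comp z₂ F₂ ≅ BasedFunctor.comp (AlgSt.overMap h) (BasedFunctor.comp y (FibCat.fpSnd t t)) :=
    k₂ ≪≫ whiskerRightIso (overMapCompIso v₂ v₁) (BasedFunctor.comp y (FibCat.fpSnd t t))
  let y' := BasedFunctor.comp (AlgSt.overMap h) y
  let j : BasedFunctor.comp z₁ (BasedFunctor.comp F₁ t) ≅ BasedFunctor.comp z₂ (BasedFunctor.comp F₂ t) :=
    whiskerRightIso i₁ t ≪≫ whiskerLeftIso y' (FibCat.fpIso t t) ≪≫ (whiskerRightIso i₂ t).symm
  have hc : ∀ x, t.map (isoApp i₁ x).hom ≫ (y'.obj x).obj.iso.hom =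
      (isoApp j x).hom ≫ t.map (isoApp i₂ x).hom := fun x => by
    show _ = (t.map (isoApp i₁ x).hom ≫ (y'.obj x).obj.iso.hom ≫ t.map (isoApp i₂ x).inv) ≫ _
    simp only [Category.assoc]
    rw [← t.toFunctor.map_comp, Iso.inv_hom_id, t.toFunctor.map_id, Category.comp_id]
  exact ⟨FibCat.fpLift z₁ z₂ j, ⟨BasedNatIso.mkNatIso
    (NatIso.ofComponents
      (fun x => fpIsoMk (x := (BasedFunctor.comp (FibCat.fpLift z₁ z₂ j) (pairMap F₁ F₂ t)).obj x) (y := y'.obj x)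
        (isoApp i₁ x) (isoApp i₂ x) (hc x))
      (fun {x x'} φ => by
        refine ObjectProperty.hom_ext _ (CategoricalPullback.hom_ext ?_ ?_)
        · exact natural i₁ φ
        · exact natural i₂ φ))
    (fun x => fp_isHomLift (F := t) (G := t) (𝟙 ((FibCat.overCat V).p.obj x)) _
      (h := isoApp_lift i₁ (a := x) rfl))⟩⟩

variable {P : MorphismProperty (Sp S)}

theorem repByAlgSpWith_of_affFlatSurj (hPb : StableBC P) (hloc : IsLocalOnBase IsFpqcCover P) {f : 𝒳 ⥤ᵇ 𝒴}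
    (hf : AlgSt.RepByAlgSp1 f) {g : 𝒵 ⥤ᵇ 𝒴} (hg : AffFlatSurj g)
    (h' : AlgSt.RepByAlgSpWith P (FibCat.fpFst g f)) : AlgSt.RepByAlgSpWith P f := by
  intro U y
  obtain ⟨F, e, he⟩ := hf U y
  refine ⟨F, e, he, ?_⟩
  obtain ⟨V, v, hva, hvf, hvs, z, ⟨iz⟩⟩ := hg U y
  have hv : IsFpqcCover (fun _ : PUnit.{u + 1} => (yon S).obj V) (fun _ => (yon S).map v) :=
    isFpqcCover_of_qc_flat_surjective (IsAlgSpace.yon_obj V) (IsAlgSpace.yon_obj U) _
      (AlgSpPts.isQuasiCompactMor_of_repWith ((repWith_yon_map_iff @QuasiCompact v).2 inferInstance))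
      (locP_of_repWith ((repWith_yon_map_iff @Flat v).2 hvf))
      (surjective_map_of_repWith ((repWith_yon_map_iff @Surjective v).2 hvs))
  refine (hloc _ _ (IsAlgSpace.yon_obj U) (fun _ => IsAlgSpace.yon_obj V) hv _ F.property
    _ (fun _ => pullback.snd _ _) (fun _ => pullback.fst _ _)
    (fun _ => isAlgSpace_pullback F.property (IsAlgSpace.yon_obj V) (IsAlgSpace.yon_obj U) _ _)
    (fun _ => IsPullback.of_hasPullback _ _)).2 fun _ => ?_
  exact property_pullback_of_repOver hPb v y F.property e he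
    (repOver_congr iz (RepOver.of_equiv (h' _ z) (pasteVert z g f) (pasteVert_isEquivOver z g f) (Iso.refl _)))

/-- Morphisms whose diagonals are affine. -/
def DiagAff : MorphismProperty (Sp S) := fun _ _ a => RepWith @IsAffineHom (pullback.diagonal a)

theorem cancels_diagAff : Cancels (IsAffineMor (S := S)) DiagAff := fun _ _ _ _ _ _ a b hab hb =>
  Groth.Agent.AlgSpDec.isAffineMor_of_repWith le_rfl (Groth.Agent.AlgSpLib.of_comp_of_diagonal (RepWith @IsAffineHom) a b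
    (Groth.Agent.AlgSpDec.repWith_isAffineHom_of_isAffineMor hab) hb)

theorem stableBC_diagAff : StableBC (DiagAff (S := S)) := fun _ _ _ _ _ _ _ _ a b a' b' sq h =>
  MorphismProperty.of_isPullback (P := (RepWith @IsAffineHom : MorphismProperty (Sp S)).diagonal) sq h

/-- An affine flat cover by a scheme with affine diagonal makes the diagonal affine. -/
theorem repByAlgSpWith_diag_of_cover (hΔ : AlgSt.RepByAlgSp1 (FibCat.diag (FibCat.toSelf 𝒳)))
    {U : Over S} (hU : IsAffineHom (pullback.diagonal U.hom)) {u : FibCat.overCat U ⥤ᵇ 𝒳}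
    (hua : AlgSt.RepByAlgSpWith IsAffineMor u) (huf : AlgSt.RepByAlgSpWith (LocP @Flat) u)
    (hus : AlgSt.RepByAlgSpWith IsSurjectiveMor u) :
    AlgSt.RepByAlgSpWith IsAffineMor (FibCat.diag (FibCat.toSelf 𝒳)) := by
  obtain ⟨k, hk⟩ : ∃ k : U ⟶ Over.mk (𝟙 S), k.left = U.hom := ⟨Over.homMk U.hom (Category.comp_id _), rfl⟩
  let T₀ : Over S := Over.mk (𝟙 S)
  have hO : FibCat.IsFibGrpd (AlgSt.ofSch U : AlgSt.Cat S).p := Stk.isFibGrpd_ofPsh _
  have hdk : AlgSt.RepByAlgSpWith IsAffineMor (FibCat.diag (AlgSt.ofSpMap ((yon S).map k))) :=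
    repByAlgSpWith_diag_ofSpMap stableBC_isAffineMor (IsAlgSpace.yon_obj U) (IsAlgSpace.yon_obj T₀) _
      (Groth.Agent.AlgSpDec.isAffineMor_of_repWith le_rfl
        ((repWith_diagonal_yon_map_iff (P := @IsAffineHom) k).2 (hk ▸ hU)))
  have hterm : FibCat.IsEquivOver (FibCat.toSelf (AlgSt.ofSch T₀ : AlgSt.Cat S)) := by
    rw [← comp_toSelf (AlgSt.toOverCat T₀)]
    exact isEquivOver_comp (isEquivOver_toOverCat T₀) (isEquivOver_of_exists_iso _
      ⟨fun {x y} g => ⟨Over.homMk g (Over.mkIdTerminal.hom_ext _ _), rfl⟩⟩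
      ⟨fun h => Over.OverMorphism.ext h⟩
      fun η => ⟨Over.mk (Over.mkIdTerminal.from η), Iso.refl _, IsHomLift.id rfl⟩)
  have hiso : AlgSt.RepByAlgSpWith (MorphismProperty.isomorphisms (Sp S))
      (FibCat.toSelf (AlgSt.ofSch T₀ : AlgSt.Cat S)) := repByAlgSpWith_of_isEquivOver (fun φ _ => ‹_›) hterm
  have hdT : AlgSt.RepByAlgSpWith IsAffineMor (FibCat.diag (FibCat.toSelf (AlgSt.ofSch T₀ : AlgSt.Cat S))) :=
    repByAlgSpWith_diag_of_repByAlgSp1 stableBC_isAffineMor (repByAlgSp1_of_repByAlgSpWith hiso)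
      fun a _ y e he ha => by
        haveI : IsIso a := ha ▸ (RepOver.property_of_stableBC stableBC_of (hiso _ y) e he).2
        exact Groth.Agent.AlgSpDec.isAffineMor_of_repWith le_rfl (repWith_of_isIso _ _)
  have hd : AlgSt.RepByAlgSpWith IsAffineMor (FibCat.diag (FibCat.toSelf (AlgSt.ofSch U : AlgSt.Cat S))) := by
    have h := repByAlgSpWith_diag_comp stableBC_isAffineMor stableComp_isAffineMor
      (isLocalOnBase_fppf_of_fpqc isLocalOnBase_fpqc_isAffineMor) hO (Stk.isFibGrpd_ofPsh _) hdk hdT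
    rwa [comp_toSelf] at h
  have hrepU : AlgSt.RepByAlgSp1 (FibCat.toSelf (AlgSt.ofSch U : AlgSt.Cat S)) :=
    repByAlgSp1_toSelf_of_repByAlgSp ⟨⟨(yon S).obj U, IsAlgSpace.yon_obj U⟩, BasedFunctor.id _, isEquivOver_id⟩
  have hW : AlgSt.RepByAlgSpWith DiagAff (FibCat.toSelf (AlgSt.ofSch U : AlgSt.Cat S)) :=
    (repByAlgSpWith_diag_iff_of_rep stableBC_isAffineMor stableBC_diagAff
      (fun _ _ a ha => isAffineMor_of_repBySpWith a ha)
      (fun _ _ a => ⟨Groth.Agent.AlgSpDec.repWith_isAffineHom_of_isAffineMor,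
        Groth.Agent.AlgSpDec.isAffineMor_of_repWith le_rfl⟩) hrepU).1 hd
  let p : AlgSt.ofSch U ⥤ᵇ 𝒳 := BasedFunctor.comp (AlgSt.toOverCat U) u
  have hp : AlgSt.RepByAlgSpWith IsAffineMor p :=
    repByAlgSpWith_isAffineMor_comp hO (isFibGrpd_overCat U)
      (repByAlgSpWith_of_isEquivOver (fun φ _ => Groth.Agent.AlgSpDec.isAffineMor_of_repWith le_rfl
        (repWith_of_isIso _ φ)) (isEquivOver_toOverCat U)) hua
  have hes₀ : AffFlatSurj p := fun V y => by
    obtain ⟨V', v, h1, h2, h3, z, ⟨i⟩⟩ := affFlatSurj_of_rep hua huf hus V y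
    exact ⟨V', v, h1, h2, h3, BasedFunctor.comp z (AlgSt.ofOverCat U),
      ⟨whiskerRightIso (whiskerLeftIso z (ofOverCatIso U)) u ≪≫ i⟩⟩
  let t := FibCat.toSelf 𝒳
  have hfst : AlgSt.RepByAlgSpWith DiagAff (FibCat.fpFst (BasedFunctor.comp p t) (BasedFunctor.comp p t)) :=
    repByAlgSpWith_fpFst _ (by rw [comp_toSelf]; exact hW)
  have hweak : AlgSt.RepByAlgSpWith IsAffineMor (weaken p p t) :=
    repByAlgSpWith_of_comp stableBC_isAffineMor cancels_diagAff hfst (repByAlgSpWith_fpFst p hp)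
  exact repByAlgSpWith_of_affFlatSurj stableBC_isAffineMor isLocalOnBase_fpqc_isAffineMor hΔ
    (affFlatSurj_pairMap t hes₀ hes₀)
    ((repByAlgSpWith_iff_of_square (f' := weaken p p t) (f := FibCat.fpFst (pairMap p p t) (FibCat.diag t))
      (a := diagComparison p p t) (b := BasedFunctor.id _) (diagComparison_isEquivOver p p t) isEquivOver_id
      (Iso.refl _)).2 hweak)

end Groth.Agent.H9Misc.DimOneDiag
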