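import Groth.Agent.KFlatLib.Scheme.DualPerfect
import Groth.Agent.KFlatLib.Scheme.TensorAssoc
import Groth.Agent.KExact.RHomOSheafHom

/-!
# `M ⊗^L K^∨ ≅ RHom(K, M)` naturally, for perfect `K`
-/

set_option autoImplicit false
set_option linter.style.haveILetI false
set_option backward.isDefEq.respectTransparency false
set_option maxHeartbeats 800000

universe u

open CategoryTheory CategoryTheory.Limits AlgebraicGeometry

attribute [local instance] HasDerivedCategory.standard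

namespace Groth.Agent.H9Misc

open KFlatLib KExact.RHomO

variable {X : Scheme.{u}}

/-- Composite squares. -/
theorem comp3_square {C : Type*} [Category C] {A A' B B' E E' F : C} (l : A ⟶ A') (a : A ⟶ B) (a' : A' ⟶ B')
    (m : B ⟶ B') (b : B ⟶ E) (b' : B' ⟶ E') (n : E ⟶ E') (t : E' ⟶ F)
    (h₁ : l ≫ a' = a ≫ m) (h₂ : m ≫ b' = b ≫ n) : l ≫ a' ≫ b' ≫ t = (a ≫ b) ≫ n ≫ t := by
  rw [reassoc_of% h₁, reassoc_of% h₂, Category.assoc]

/-- The associator is natural in the first factor. -/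
theorem tensorCxAssocIso_naturality₁ {R R' : CochainComplex X.Modules ℤ} (ρ : R ⟶ R')
    (A P : CochainComplex X.Modules ℤ) :
    (DCoh.tensorCx.map ((DCoh.tensorCx.map ρ).app A)).app P ≫ (tensorCxAssocIso R' A P).hom =
      (tensorCxAssocIso R A P).hom ≫ (DCoh.tensorCx.map ρ).app ((DCoh.tensorCx.obj A).obj P) :=
  (tensorCxFlipCompIso A P).hom.naturality ρ

/-- The transpose of the evaluation map is natural in the first factor. -/
theorem evalAux_square (R R' I J' : CochainComplex X.Modules ℤ)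
    (s' : (DCoh.tensorCx.obj R').obj I ⟶ J') (ρ : R ⟶ R') (P : CochainComplex X.Modules ℤ) :
    (DCoh.tensorCx.map ((DCoh.tensorCx.map ρ).app ((iHom P).obj I))).app P ≫ evalAux R' I J' s' P =
      ((tensorCxAssocIso R ((iHom P).obj I) P).hom ≫
        (DCoh.tensorCx.obj R).map ((iHomAdj P).counit.app I)) ≫ (DCoh.tensorCx.map ρ).app I ≫ s' := by
  rw [evalAux]
  exact comp3_square _ _ _ _ _ _ _ s' (tensorCxAssocIso_naturality₁ ρ ((iHom P).obj I) P)
    ((DCoh.tensorCx.map ρ).naturality ((iHomAdj P).counit.app I)).symm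

/-- The evaluation map is natural in the first factor, up to homotopy. -/
theorem Q_evalMap_square (R R' I J J' : CochainComplex X.Modules ℤ)
    (s : (DCoh.tensorCx.obj R).obj I ⟶ J) (s' : (DCoh.tensorCx.obj R').obj I ⟶ J') (ρ : R ⟶ R') (g : J ⟶ J')
    [J'.IsKInjective] [∀ n, Injective (J'.X n)]
    (h : DerivedCategory.Q.map ((DCoh.tensorCx.map ρ).app I ≫ s') = DerivedCategory.Q.map (s ≫ g))
    (P : CochainComplex X.Modules ℤ) :
    DerivedCategory.Q.map ((DCoh.tensorCx.map ρ).app ((iHom P).obj I) ≫ evalMap R' I J' s' P) =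
      DerivedCategory.Q.map (evalMap R I J s P ≫ (iHom P).map g) := by
  obtain ⟨H⟩ := homotopy_of_Q_map_eq _ _ h
  refine DerivedCategory.Q_map_eq_of_homotopy _
    ((Inner.nonempty_homotopy_iff (DCoh.tensorBi (X := X)) (P := P) (I := J') _ _).2 ?_).some
  have hl := ((iHomAdj P).homEquiv_naturality_left_symm ((DCoh.tensorCx.map ρ).app ((iHom P).obj I))
    (evalMap R' I J' s' P)).trans ((congrArg (_ ≫ ·) (((iHomAdj P).homEquiv _ J').symm_apply_apply
      (evalAux R' I J' s' P))).trans (evalAux_square R R' I J' s' ρ P))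
  have hr := ((iHomAdj P).homEquiv_naturality_right_symm (evalMap R I J s P) g).trans
    ((congrArg (· ≫ g) (((iHomAdj P).homEquiv _ J).symm_apply_apply (evalAux R I J s P))).trans
      ((congrArg (· ≫ g) (Category.assoc _ _ _).symm).trans (Category.assoc _ _ _)))
  exact ⟨(Homotopy.ofEq hl).trans ((H.compLeft _).trans (Homotopy.ofEq hr.symm))⟩

/-- Naturality of a lift along an isomorphism. -/
theorem lift_square {C : Type*} [Category C] {A A' B B' E E' F F' : C} (a : A ⟶ B) [IsIso a] (a' : A' ⟶ B') [IsIso a']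
    (u : A ⟶ E) (u' : A' ⟶ E') (p : A ⟶ A') (q : B ⟶ B') (w : p ≫ a' = a ≫ q)
    (v : E ⟶ F) (v' : E' ⟶ F') (ρ : E ⟶ E') (g : F ⟶ F') (wu : p ≫ u' = u ≫ ρ) (wv : ρ ≫ v' = v ≫ g) :
    q ≫ inv a' ≫ u' ≫ v' = (inv a ≫ u ≫ v) ≫ g := by
  rw [← cancel_epi a, ← reassoc_of% w, IsIso.hom_inv_id_assoc, reassoc_of% wu, wv]
  simp

/-- Naturality of a fourfold composite. -/
theorem comp4_square {C : Type*} [Category C] {A A' B B' E E' F F' G G' : C}
    (a : A ⟶ B) (a' : A' ⟶ B') (b : B ⟶ E) (b' : B' ⟶ E') (c : E ⟶ F) (c' : E' ⟶ F') (d : F ⟶ G) (d' : F' ⟶ G')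
    (g₀ : A ⟶ A') (g₁ : B ⟶ B') (g₂ : E ⟶ E') (g₃ : F ⟶ F') (g₄ : G ⟶ G')
    (w₁ : g₀ ≫ a' = a ≫ g₁) (w₂ : g₁ ≫ b' = b ≫ g₂) (w₃ : g₂ ≫ c' = c ≫ g₃) (w₄ : g₃ ≫ d' = d ≫ g₄) :
    g₀ ≫ a' ≫ b' ≫ c' ≫ d' = (a ≫ b ≫ c ≫ d) ≫ g₄ := by
  rw [reassoc_of% w₁, reassoc_of% w₂, reassoc_of% w₃, w₄]
  simp

/-- The `s` square. -/
theorem Q_res_square {R R' I J J' O₀ : CochainComplex X.Modules ℤ} (ι : O₀ ⟶ I)
    (U : DCoh.tensorCx.flip.obj O₀ ≅ 𝟭 (CochainComplex X.Modules ℤ))
    [IsIso (DerivedCategory.Q.map ((DCoh.tensorCx.obj R).map ι))]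
    [IsIso (DerivedCategory.Q.map ((DCoh.tensorCx.obj R').map ι))]
    (r : R ⟶ J) (r' : R' ⟶ J') (ρ : R ⟶ R') (g : J ⟶ J') (wr : ρ ≫ r' = r ≫ g)
    (s : (DCoh.tensorCx.obj R).obj I ⟶ J) (s' : (DCoh.tensorCx.obj R').obj I ⟶ J')
    (hs : DerivedCategory.Q.map s =
      inv (DerivedCategory.Q.map ((DCoh.tensorCx.obj R).map ι)) ≫ DerivedCategory.Q.map (U.hom.app R ≫ r))
    (hs' : DerivedCategory.Q.map s' =
      inv (DerivedCategory.Q.map ((DCoh.tensorCx.obj R').map ι)) ≫ DerivedCategory.Q.map (U.hom.app R' ≫ r')) :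
    DerivedCategory.Q.map ((DCoh.tensorCx.map ρ).app I ≫ s') = DerivedCategory.Q.map (s ≫ g) := by
  rw [Functor.map_comp, Functor.map_comp, hs, hs', Functor.map_comp, Functor.map_comp]
  exact lift_square (DerivedCategory.Q.map ((DCoh.tensorCx.obj R).map ι))
    (DerivedCategory.Q.map ((DCoh.tensorCx.obj R').map ι)) _ _
    (DerivedCategory.Q.map ((DCoh.tensorCx.map ρ).app O₀)) (DerivedCategory.Q.map ((DCoh.tensorCx.map ρ).app I))
    (((DerivedCategory.Q.map_comp _ _).symm.trans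
      (congrArg _ ((DCoh.tensorCx.map ρ).naturality ι).symm)).trans (DerivedCategory.Q.map_comp _ _))
    _ _ (DerivedCategory.Q.map ρ) (DerivedCategory.Q.map g)
    (((DerivedCategory.Q.map_comp _ _).symm.trans (congrArg _ (U.hom.naturality ρ))).trans
      (DerivedCategory.Q.map_comp _ _))
    (((DerivedCategory.Q.map_comp _ _).symm.trans (congrArg _ wr)).trans (DerivedCategory.Q.map_comp _ _))

/-- The evaluation square, after a map into the first variable. -/
theorem Q_theta_square {R R' I J J' : CochainComplex X.Modules ℤ}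
    (s : (DCoh.tensorCx.obj R).obj I ⟶ J) (s' : (DCoh.tensorCx.obj R').obj I ⟶ J') (ρ : R ⟶ R') (g : J ⟶ J')
    [J'.IsKInjective] [∀ n, Injective (J'.X n)]
    (h : DerivedCategory.Q.map ((DCoh.tensorCx.map ρ).app I ≫ s') = DerivedCategory.Q.map (s ≫ g))
    {D P : CochainComplex X.Modules ℤ} (d : D ⟶ (iHom P).obj I) :
    DerivedCategory.Q.map ((DCoh.tensorCx.map ρ).app D) ≫
        DerivedCategory.Q.map ((DCoh.tensorCx.obj R').map d ≫ evalMap R' I J' s' P) =
      DerivedCategory.Q.map ((DCoh.tensorCx.obj R).map d ≫ evalMap R I J s P) ≫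
        DerivedCategory.Q.map ((iHom P).map g) := by
  refine (DerivedCategory.Q.map_comp _ _).symm.trans (Eq.trans ?_ (DerivedCategory.Q.map_comp _ _))
  refine (congrArg _ ((Category.assoc _ _ _).symm.trans ((congrArg (· ≫ evalMap R' I J' s' P)
    ((DCoh.tensorCx.map ρ).naturality d).symm).trans (Category.assoc _ _ _)))).trans ?_
  refine (DerivedCategory.Q.map_comp _ _).trans
    ((congrArg (_ ≫ ·) (Q_evalMap_square R R' I J J' s s' ρ g h P)).trans ?_)
  exact (DerivedCategory.Q.map_comp _ _).symm.trans (congrArg _ (Category.assoc _ _ _).symm)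

/-- K-injective complexes with injective terms. -/
abbrev kinjP (X : Scheme.{u}) : ObjectProperty (CochainComplex X.Modules ℤ) :=
  fun J => J.IsKInjective ∧ ∀ n, Injective (J.X n)

/-- K-injective complexes in the derived category. -/
noncomputable abbrev kinjQ (X : Scheme.{u}) : (kinjP X).FullSubcategory ⥤ DCoh.D X :=
  (kinjP X).ι ⋙ DerivedCategory.Q

/-- `M ⊗^L K^∨ ≅ RHom(K, M)`, as functors. -/
theorem nonempty_ltensor_dual_natIso (K : CochainComplex X.Modules ℤ) (hK : DCoh.IsPerfect (DCoh.toD X K))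
    [DCoh.HasLTensorCx K] [DCoh.HasRSheafHom K] (D : CochainComplex X.Modules ℤ) [DCoh.HasLTensorCx D]
    (eD : DCoh.toD X D ≅ (DCoh.RSheafHom K).obj (DCoh.inD X (Coh.structureModule X))) :
    Nonempty (DCoh.LTensorCx D ≅ DCoh.RSheafHom K) := by
  let P := (kRes X).obj K
  have hP : DCoh.IsKFlat P := isKFlat_kRes _
  let eP : DCoh.toD X P ≅ DCoh.toD X K := (resQIso X).app K
  have hPp : DCoh.IsPerfect (DCoh.toD X P) := fun x => by
    obtain ⟨V, hx, hV⟩ := hK x
    exact ⟨V, hx, fun F hF => hV F ⟨hF.some ≪≫ eP⟩⟩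
  haveI := hasLTensorCx P
  haveI := hasRSheafHom_of_isKFlat P hP
  obtain ⟨eL⟩ := nonempty_LTensorCx_congr_D eP
  let eR : DCoh.RSheafHom P ≅ DCoh.RSheafHom K :=
    ((DCoh.RSheafHomAdj P).ofNatIsoLeft eL).rightAdjointUniq (DCoh.RSheafHomAdj K)
  let O₀ := (HomologicalComplex.single X.Modules (ComplexShape.up ℤ) 0).obj (Coh.structureModule X)
  obtain ⟨I, ι, hI, hι, -, hinj⟩ := Groth.Agent.TriCat.exists_kInjective_resolution'.{u} O₀
  haveI := hι
  haveI := isIso_Q_map ι hι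
  haveI := isIso_iHomCmp P hP I
  haveI := isKInjective_iHom hP I
  obtain ⟨d, hd⟩ := exists_Q_map (eD ≪≫ (eR.app _).symm ≪≫ (DCoh.RSheafHom P).mapIso
    ((DerivedCategory.singleFunctorIsoCompQ X.Modules 0).app (Coh.structureModule X) ≪≫
      asIso (DerivedCategory.Q.map ι)) ≪≫ (asIso ((iHomCmp P).app I)).symm).hom
  haveI : QuasiIso d := by
    rw [← DerivedCategory.isIso_Q_map_iff_quasiIso (C := X.Modules), hd]
    infer_instance
  let U : DCoh.tensorCx.flip.obj O₀ ≅ 𝟭 _ :=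
    singleIso (DCoh.tensorBi (X := X)) (Coh.structureModule X) ≪≫
      NatIso.mapHomologicalComplex (tensorStructureIso X) (ComplexShape.up ℤ) ≪≫
      Functor.mapHomologicalComplexIdIso _ _
  let R := fun J : (kinjP X).FullSubcategory => (kRes X).obj J.obj
  have hR : ∀ J, DCoh.IsKFlat (R J) := fun J => isKFlat_kRes _
  let r : ∀ J, R J ⟶ J.obj := fun J => (flatCover X).ψ.app J.obj
  haveI hr : ∀ J, IsIso (DerivedCategory.Q.map (r J)) := fun J => isIso_Q_map _ ((flatCover X).quasiIso_ψ J.obj)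
  haveI hι' : ∀ J, IsIso (DerivedCategory.Q.map ((DCoh.tensorCx.obj (R J)).map ι)) := fun J =>
    isIso_Q_map _ ((kFlat_iff_isKFlat.2 (hR J)).quasiIso_map' (tensorBiFlipIso X) ι)
  have hs : ∀ J, ∃ s : (DCoh.tensorCx.obj (R J)).obj I ⟶ J.obj, DerivedCategory.Q.map s =
      inv (DerivedCategory.Q.map ((DCoh.tensorCx.obj (R J)).map ι)) ≫ DerivedCategory.Q.map (U.hom.app (R J) ≫ r J) :=
    fun J => by
      haveI := J.property.1
      exact exists_Q_map _
  choose s hs using hs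
  have hsq : ∀ J, QuasiIso (s J) := fun J => by
    haveI : QuasiIso (r J) := (flatCover X).quasiIso_ψ J.obj
    haveI : IsIso (DerivedCategory.Q.map (U.hom.app (R J) ≫ r J)) := isIso_Q_map _ inferInstance
    rw [← DerivedCategory.isIso_Q_map_iff_quasiIso (C := X.Modules), hs J]
    infer_instance
  haveI hθ : ∀ J, IsIso (DerivedCategory.Q.map ((DCoh.tensorCx.obj (R J)).map d ≫ evalMap (R J) I J.obj (s J) P)) :=
    fun J => by
      haveI := J.property.1
      haveI := J.property.2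
      haveI := quasiIso_evalMap (R J) I J.obj (s J) (hR J) (isFlat_kRes _) (hsq J) P hPp
      haveI : QuasiIso ((DCoh.tensorCx.obj (R J)).map d) :=
        (kFlat_iff_isKFlat.2 (hR J)).quasiIso_map' (tensorBiFlipIso X) d
      exact isIso_Q_map _ inferInstance
  haveI hc : ∀ J : (kinjP X).FullSubcategory, IsIso ((iHomCmp P).app J.obj) := fun J => by
    haveI := J.property.1
    haveI := J.property.2
    exact isIso_iHomCmp P hP J.obj
  let c : ∀ J : (kinjP X).FullSubcategory, (DCoh.LTensorCx D).obj ((kinjQ X).obj J) ≅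
      (DCoh.RSheafHom P).obj ((kinjQ X).obj J) := fun J =>
    (DCoh.LTensorCx D).mapIso (asIso (DerivedCategory.Q.map (r J))).symm ≪≫ ltensorCxIso D (hR J) ≪≫
      asIso (DerivedCategory.Q.map ((DCoh.tensorCx.obj (R J)).map d ≫ evalMap (R J) I J.obj (s J) P)) ≪≫
      asIso ((iHomCmp P).app J.obj)
  have hnat : ∀ {J J' : (kinjP X).FullSubcategory} (g : J ⟶ J'),
      (DCoh.LTensorCx D).map ((kinjQ X).map g) ≫ (c J').hom = (c J).hom ≫ (DCoh.RSheafHom P).map ((kinjQ X).map g) :=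
    fun {J J'} g => by
      haveI := J'.property.1
      haveI := J'.property.2
      let ρ := (kRes X).map g.hom
      have w₁ : ρ ≫ r J' = r J ≫ g.hom := (flatCover X).ψ.naturality g.hom
      have w₂ := Q_res_square ι U (r J) (r J') ρ g.hom w₁ (s J) (s J') (hs J) (hs J')
      have w₀ : DerivedCategory.Q.map g.hom ≫ inv (DerivedCategory.Q.map (r J')) =
          inv (DerivedCategory.Q.map (r J)) ≫ DerivedCategory.Q.map ρ := by
        rw [IsIso.eq_inv_comp, ← Category.assoc, IsIso.comp_inv_eq, ← Functor.map_comp, ← Functor.map_comp, w₁]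
      exact comp4_square _ _ _ _ _ _ _ _ _ ((DCoh.LTensorCx D).map (DerivedCategory.Q.map ρ))
        (DerivedCategory.Q.map ((DCoh.tensorCx.map ρ).app D)) (DerivedCategory.Q.map ((iHom P).map g.hom)) _
        (((DCoh.LTensorCx D).map_comp _ _).symm.trans ((congrArg _ w₀).trans ((DCoh.LTensorCx D).map_comp _ _)))
        (((DCoh.tensorCxQ D).totalLeftDerivedCounit DerivedCategory.Q (qisX X)).naturality ρ)
        (Q_theta_square (s J) (s J') ρ g.hom w₂ d)
        ((iHomCmp P).naturality g.hom)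
  haveI : (kinjQ X).Full := ⟨fun {J J'} f => by
    haveI := J'.property.1
    obtain ⟨g, hg⟩ := exists_Q_map (K := J.obj) (I := J'.obj) f
    exact ⟨ObjectProperty.homMk g, hg⟩⟩
  haveI : (kinjQ X).EssSurj := ⟨fun M => by
    obtain ⟨J, hJ, hJi, ⟨e⟩⟩ := exists_kInjective_rep M
    exact ⟨⟨J, hJ, hJi⟩, ⟨e.symm⟩⟩⟩
  obtain ⟨e⟩ := nonempty_iso_of_comp_iso (kinjQ X) (F := DCoh.LTensorCx D) (G := DCoh.RSheafHom P)
    (NatIso.ofComponents c hnat)
  exact ⟨e ≪≫ eR⟩

end Groth.Agent.H9Misc
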