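import Groth.Agent.H9Misc.PnCrit
import Groth.Agent.H9Misc.CorrAdjoint
import Groth.Agent.KFlatLib.Scheme.DualPerfect
import Groth.Agent.KFlatLib.Scheme.SupportProper
import Groth.Agent.KFlatLib.Scheme.ProjFormula
import Groth.Agent.KFlatLib.Scheme.LpullLE
import Groth.Agent.KExact.ExternalBdd
import Groth.Agent.KExact.HomFinite
import Groth.Agent.KZ.RegPerf

/-! Finiteness of Hom spaces from perfect objects, tested after tensoring and after a proper pull-back. -/

set_option autoImplicit false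
set_option linter.style.haveILetI false
set_option backward.isDefEq.respectTransparency false
set_option backward.isDefEq.respectTransparency.types false
set_option maxHeartbeats 1000000

universe u

open CategoryTheory CategoryTheory.Limits AlgebraicGeometry

attribute [local instance] HasDerivedCategory.standard

noncomputable section

namespace Groth.Agent.H9Misc.DualTest

open Groth.Agent KFlatLib

variable {k : Type u} [Field k] {X : Scheme.{u}} [X.Over (Spec (CommRingCat.of k))]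

variable (k) in
/-- Finite dimensional Hom spaces in finitely many degrees. -/
def Fin' (A B : DCoh.D X) : Prop :=
  (∀ i : ℤ, Module.Finite k (A ⟶ (shiftFunctor (DCoh.D X) i).obj B)) ∧
    Set.Finite {i : ℤ | Nontrivial (A ⟶ (shiftFunctor (DCoh.D X) i).obj B)}

theorem Fin'.of_equiv {Y : Scheme.{u}} [Y.Over (Spec (CommRingCat.of k))] {A B : DCoh.D X} {A' B' : DCoh.D Y}
    (l : ∀ i : ℤ, Nonempty ((A ⟶ (shiftFunctor (DCoh.D X) i).obj B) ≃ₗ[k]
      (A' ⟶ (shiftFunctor (DCoh.D Y) i).obj B'))) (h : Fin' k A B) : Fin' k A' B' :=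
  ⟨fun i => haveI := h.1 i; Module.Finite.equiv (l i).some,
    h.2.subset fun i (hi : Nontrivial _) => @Equiv.nontrivial _ _ (l i).some.toEquiv hi⟩

theorem nonempty_tensor_shift (S : CochainComplex X.Modules ℤ) (hS : DCoh.IsKFlat S) [DCoh.HasLTensorCx S]
    (K : DCoh.D X) (i : ℤ) :
    Nonempty ((DCoh.LTensorCx S).obj ((shiftFunctor (DCoh.D X) i).obj K) ≅
      (shiftFunctor (DCoh.D X) i).obj ((DCoh.LTensorCx S).obj K)) := by
  obtain ⟨C, hC, ⟨eC⟩⟩ := exists_kFlat_rep K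
  let eM : (shiftFunctor (DCoh.D X) i).obj K ≅ DerivedCategory.Q.obj (C⟦i⟧) :=
    (shiftFunctor (DCoh.D X) i).mapIso eC.symm ≪≫ ((DerivedCategory.Q.commShiftIso i).app C).symm
  haveI hcn := isIso_LTensorCx_counit_of_isKFlat_right S hS (C⟦i⟧)
  exact ⟨(DCoh.LTensorCx S).mapIso eM ≪≫ @asIso _ _ _ _ _ hcn ≪≫
    DerivedCategory.Q.mapIso (((DCoh.tensorCx.flip.obj S).commShiftIso i).app C) ≪≫
    (DerivedCategory.Q.commShiftIso i).app _ ≪≫
    (shiftFunctor (DCoh.D X) i).mapIso ((ltensorCxIso S hC).symm ≪≫ (DCoh.LTensorCx S).mapIso eC)⟩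

/-- Maps out of a perfect object are sections of the tensor product with its dual. -/
theorem nonempty_hom_dual (E : CochainComplex X.Modules ℤ) (hE : DCoh.IsKFlat E)
    (hEp : DCoh.IsPerfect (DCoh.toD X E)) [DCoh.HasLTensorCx E] [DCoh.HasRSheafHom E]
    (S : CochainComplex X.Modules ℤ) (hS : DCoh.IsKFlat S) [DCoh.HasLTensorCx S]
    (eS : DCoh.toD X S ≅ (DCoh.RSheafHom E).obj (DCoh.inD X (Coh.structureModule X))) (K : DCoh.D X) (i : ℤ) :
    Nonempty ((DCoh.toD X E ⟶ (shiftFunctor (DCoh.D X) i).obj K) ≃ₗ[k]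
      (DCoh.inD X (Coh.structureModule X) ⟶ (shiftFunctor (DCoh.D X) i).obj ((DCoh.LTensorCx S).obj K))) := by
  obtain ⟨t⟩ := nonempty_ltensor_dual_iso E hE hEp S hS ⟨eS⟩ ((shiftFunctor (DCoh.D X) i).obj K)
  obtain ⟨s⟩ := nonempty_tensor_shift S hS K i
  obtain ⟨l⟩ := KExact.HomFinite.exists_homLEquiv (A := k) E hE ((shiftFunctor (DCoh.D X) i).obj K)
  exact ⟨l.trans (Linear.homCongr k (Iso.refl _) (t.symm ≪≫ s))⟩

/-- The test on sections of the tensor products. -/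
theorem fin_tensor (K : DCoh.D X)
    (h : ∀ E : DCoh.D X, DCoh.IsPerfect E → Fin' k E K)
    (S : CochainComplex X.Modules ℤ) (hS : DCoh.IsKFlat S) (hSp : DCoh.IsPerfect (DCoh.toD X S))
    [DCoh.HasLTensorCx S] : Fin' k (DCoh.inD X (Coh.structureModule X)) ((DCoh.LTensorCx S).obj K) := by
  haveI := hasRSheafHom_of_isKFlat S hS
  obtain ⟨E₀, ⟨e₀⟩⟩ : ∃ E₀ : CochainComplex X.Modules ℤ, Nonempty (DCoh.toD X E₀ ≅
      (DCoh.RSheafHom S).obj (DCoh.inD X (Coh.structureModule X))) :=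
    ⟨_, ⟨DerivedCategory.Q.objObjPreimageIso _⟩⟩
  let E := (kRes X).obj E₀
  have hE : DCoh.IsKFlat E := isKFlat_kRes E₀
  let eE : DCoh.toD X E ≅ (DCoh.RSheafHom S).obj (DCoh.inD X (Coh.structureModule X)) :=
    (resQIso X).app E₀ ≪≫ e₀
  have hEp : DCoh.IsPerfect (DCoh.toD X E) :=
    isPerfect_congr eE.symm (isPerfect_RSheafHom_structure S hSp)
  haveI := hasLTensorCx E
  haveI := hasRSheafHom_of_isKFlat E hE
  let O₀ := (HomologicalComplex.single X.Modules (ComplexShape.up ℤ) 0).obj (Coh.structureModule X)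
  let sO := (DerivedCategory.singleFunctorIsoCompQ X.Modules 0).app (Coh.structureModule X)
  haveI := hasLTensorCx O₀
  haveI : DCoh.HasRSheafHom O₀ := by
    let P := (kRes X).obj O₀
    haveI := hasLTensorCx P
    haveI := hasRSheafHom_of_isKFlat P (isKFlat_kRes O₀)
    obtain ⟨c⟩ := nonempty_LTensorCx_congr_D (P := P) (E := O₀) ((resQIso X).app O₀)
    exact ((DCoh.RSheafHomAdj P).ofNatIsoLeft c).isLeftAdjoint
  obtain ⟨u⟩ := nonempty_LTensorCx_unit O₀ sO.symm
  obtain ⟨v⟩ := nonempty_RSheafHom_unit (O₀ := O₀) sO (DCoh.toD X O₀)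
  obtain ⟨b⟩ := nonempty_RHom_twist S hSp O₀ (v ≪≫ sO.symm) E (eE ≪≫ (u.app _).symm)
  let eS : DCoh.toD X S ≅ (DCoh.RSheafHom E).obj (DCoh.inD X (Coh.structureModule X)) :=
    b.symm ≪≫ (DCoh.RSheafHom E).mapIso sO.symm
  exact Fin'.of_equiv (fun i => nonempty_hom_dual E hE hEp S hS eS K i) (h _ hEp)

/-- The test survives a proper pull-back, on a regular base. -/
theorem fin_pull [IsNoetherian X] (hreg : Models.IsRegularScheme X) (K : DCoh.D X) (hK : DCoh.IsQCohD K)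
    (h : ∀ E : DCoh.D X, DCoh.IsPerfect E → Fin' k E K)
    {Z : Scheme.{u}} [Z.Over (Spec (CommRingCat.of k))] (p : Z ⟶ X) [IsProper p]
    [p.IsOver (Spec (CommRingCat.of k))] [DCoh.HasLpull p]
    (L : DCoh.D Z) (hL : DCoh.IsPerfect L) : Fin' k L ((DCoh.Lpull p).obj K) := by
  haveI : IsLocallyNoetherian Z := LocallyOfFiniteType.isLocallyNoetherian p
  haveI : CompactSpace Z := QuasiCompact.compactSpace_of_compactSpace p
  haveI : IsNoetherian Z := {}
  haveI := hasRpush_scheme p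
  obtain ⟨Lk, hLk, ⟨eL⟩⟩ := exists_kFlat_rep L
  have hLp : DCoh.IsPerfect (DCoh.toD Z Lk) := isPerfect_congr eL.symm hL
  haveI := hasLTensorCx Lk
  haveI := hasRSheafHom_of_isKFlat Lk hLk
  obtain ⟨Q, hQ, ⟨eQ⟩⟩ := exists_kFlat_rep ((DCoh.RSheafHom Lk).obj (DCoh.inD Z (Coh.structureModule Z)))
  have hQp : DCoh.IsPerfect (DCoh.toD Z Q) := isPerfect_congr eQ.symm (isPerfect_RSheafHom_structure Lk hLp)
  haveI := hasLTensorCx Q
  have hQs := (isPerfect_iff _).1 hQp
  let R := (DCoh.Rpush p).obj (DCoh.toD Z Q)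
  have hRq : DCoh.IsQCohD R := isQCohD_rpush p (AffineLift.isQCohD_of_locSP hQs)
  have hR : DCoh.IsPerfect R := by
    have hpc : ∀ m, DCoh.IsPseudoCoherentD m R := fun m =>
      (isPseudoCoherentD_iff _ _).2 (SupportAdj.locPC_rpush_of_locSP p hQs m)
    obtain ⟨-, b, hb⟩ := (Groth.Agent.S1039.result X R hRq 0).1 (hpc 0)
    haveI : HasInjectiveResolutions Z.Modules := hasInjectiveResolutions_modules
    obtain ⟨c, hc⟩ := exists_lower_bound_of_locSP hQs
    haveI : (DCoh.toD Z Q).IsGE c := (DerivedCategory.isGE_iff _ _).2 hc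
    exact (KZ.isPerfect_iff_of_regular hreg R).2 ⟨fun i =>
      ((Groth.Agent.S1039.result X R hRq i).1 (hpc i)).1 i le_rfl, c, b, isGE_rpush p _ c, hb⟩
  obtain ⟨S, hS, ⟨eS⟩⟩ := exists_kFlat_rep R
  haveI := hasLTensorCx S
  obtain ⟨C, hC, ⟨eC⟩⟩ := exists_kFlat_rep K
  haveI := hasLTensorCx C
  obtain ⟨M, hM, ⟨eM⟩⟩ := exists_kFlat_rep ((DCoh.Lpull p).obj (DCoh.toD X C))
  haveI := hasLTensorCx M
  obtain ⟨pf⟩ := nonempty_projection_DQCoh p (DCoh.toD Z Q) (AffineLift.isQCohD_of_locSP hQs) C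
    (isQCohD_of_iso eC.symm hK) M ⟨eM⟩
  obtain ⟨sw⟩ := KExact.nonempty_ltensor_swap S C
  obtain ⟨sw'⟩ := KExact.nonempty_ltensor_swap Q M
  let e : (DCoh.Rpush p).obj ((DCoh.LTensorCx Q).obj ((DCoh.Lpull p).obj K)) ≅ (DCoh.LTensorCx S).obj K :=
    (DCoh.Rpush p).mapIso ((DCoh.LTensorCx Q).mapIso ((DCoh.Lpull p).mapIso eC.symm ≪≫ eM.symm) ≪≫ sw'.symm) ≪≫
      pf.symm ≪≫ (DCoh.LTensorCx C).mapIso eS.symm ≪≫ sw ≪≫ (DCoh.LTensorCx S).mapIso eC
  obtain ⟨w⟩ := KExact.SmoothShriek.nonempty_lpull_inD p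
  have h1 := fin_tensor K h S hS (isPerfect_congr eS.symm hR)
  have h2 : Fin' k (DCoh.inD Z (Coh.structureModule Z)) ((DCoh.LTensorCx Q).obj ((DCoh.Lpull p).obj K)) := by
    have key := fun i => FinHom.finite_hom_push (k := k) p (DCoh.inD X (Coh.structureModule X))
      ((DCoh.LTensorCx Q).obj ((DCoh.Lpull p).obj K)) i
    refine ⟨fun i => ?_, h1.2.subset fun i (hi : Nontrivial _) => ?_⟩
    · haveI := h1.1 i
      haveI := (key i).1.2 (Module.Finite.equiv
        (Linear.homCongr k (Iso.refl _) ((shiftFunctor (DCoh.D X) i).mapIso e.symm)))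
      exact Module.Finite.equiv (Linear.homCongr k w.symm (Iso.refl _))
    · haveI := hi
      haveI := (key i).2.2 (Linear.homCongr k w (Iso.refl _)).toEquiv.symm.nontrivial
      exact (Linear.homCongr k (Iso.refl _) ((shiftFunctor (DCoh.D X) i).mapIso e)).toEquiv.symm.nontrivial
  exact Fin'.of_equiv (fun i => ⟨((nonempty_hom_dual Lk hLk hLp Q hQ eQ ((DCoh.Lpull p).obj K) i).some.trans
    (LinearEquiv.refl k _)).symm.trans (Linear.homCongr k eL (Iso.refl _))⟩) h2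

end Groth.Agent.H9Misc.DualTest
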