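import Groth.Agent.RegLoc6.Seq
import Groth.Agent.S5776
import Mathlib.Algebra.Category.ModuleCat.Algebra
import Mathlib.Algebra.Homology.DerivedCategory.Linear
import Mathlib.Algebra.Homology.DerivedCategory.SingleTriangle
import Mathlib.Algebra.Homology.DerivedCategory.Ext.EnoughProjectives
import Mathlib.Algebra.Category.ModuleCat.Projective
import Mathlib.Algebra.Homology.ShortComplex.ModuleCat
import Mathlib.RingTheory.HopkinsLevitzki
import Mathlib.RingTheory.FiniteLength
import Mathlib.Data.List.GetD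

/-!
# Positive degree classes to the residue field are killed by surjections from modules of finite length
-/

set_option autoImplicit false
set_option linter.style.haveILetI false
set_option linter.unusedSectionVars false
set_option backward.isDefEq.respectTransparency false
set_option backward.isDefEq.respectTransparency.types false
set_option maxHeartbeats 1000000

universe u

open CategoryTheory CategoryTheory.Limits CategoryTheory.Pretriangulated IsLocalRing RingTheory.Sequence

attribute [local instance] HasDerivedCategory.standard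

noncomputable section

namespace Groth.Agent.H9Misc.EffaceLocal

variable {R : Type u} [CommRing R] [IsLocalRing R]

/-- The embedding in degree zero. -/
abbrev E₀ (R : Type u) [CommRing R] : ModuleCat.{u} R ⥤ DerivedCategory (ModuleCat.{u} R) :=
  DerivedCategory.singleFunctor (ModuleCat.{u} R) 0

/-- The residue field. -/
abbrev kap (R : Type u) [CommRing R] [IsLocalRing R] : ModuleCat.{u} R := ModuleCat.of R (R ⧸ maximalIdeal R)

/-- Multiplication by a non unit kills maps to the residue field. -/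
lemma smul_comp_eq_zero {A : DerivedCategory (ModuleCat.{u} R)} {r : R} (hr : r ∈ maximalIdeal R) (i : ℤ)
    (f : A ⟶ ((E₀ R).obj (kap R))⟦i⟧) : r • f = 0 := by
  have h0 : r • 𝟙 (kap R) = 0 := by
    refine ModuleCat.hom_ext (LinearMap.ext fun z => ?_)
    obtain ⟨y, rfl⟩ := Ideal.Quotient.mk_surjective z
    show r • Ideal.Quotient.mk (maximalIdeal R) y = 0
    rw [← Ideal.Quotient.mk_eq_mk, ← Submodule.Quotient.mk_smul, smul_eq_mul]
    exact (Submodule.Quotient.mk_eq_zero _).2 (Ideal.mul_mem_right _ _ hr)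
  have h1 : r • 𝟙 (((E₀ R).obj (kap R))⟦i⟧) = 0 := by
    rw [← CategoryTheory.Functor.map_id, ← CategoryTheory.Functor.map_id, ← Functor.map_smul, ← Functor.map_smul, h0,
      Functor.map_zero, Functor.map_zero]
  rw [← Category.comp_id f, ← Linear.comp_smul, h1, comp_zero]

variable (g : ℕ → R)

/-- Ideals of powers. -/
def I (n j : ℕ) : Ideal R := Ideal.span ((fun t => g t ^ n) '' {t | t < j})

lemma I_zero (n : ℕ) : I g n 0 = ⊥ := by simp [I]

lemma I_succ (n j : ℕ) : I g n (j + 1) = I g n j ⊔ Ideal.span {g j ^ n} := by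
  have : {t | t < j + 1} = {t | t < j} ∪ {j} := by
    ext t
    show t < j + 1 ↔ t < j ∨ t = j
    omega
  rw [I, this, Set.image_union, Ideal.span_union, Set.image_singleton]
  rfl

lemma I_antitone {n m : ℕ} (h : n ≤ m) (j : ℕ) : I g m j ≤ I g n j := by
  refine Ideal.span_le.2 ?_
  rintro _ ⟨t, ht, rfl⟩
  obtain ⟨c, rfl⟩ := Nat.exists_eq_add_of_le h
  show g t ^ (n + c) ∈ I g n j
  rw [pow_add]
  exact Ideal.mul_mem_right _ _ (Ideal.subset_span ⟨t, ht, rfl⟩)

lemma I_mono (n j : ℕ) : I g n j ≤ I g n (j + 1) := by rw [I_succ]; exact le_sup_left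

/-- The quotients. -/
abbrev Q (n j : ℕ) : ModuleCat.{u} R := ModuleCat.of R (R ⧸ I g n j)

/-- Transitions. -/
def tr {n m : ℕ} (h : n ≤ m) (j : ℕ) : Q g m j ⟶ Q g n j := ModuleCat.ofHom (Submodule.factor (I_antitone g h j))

lemma tr_comp {n p m : ℕ} (h : n ≤ p) (h' : p ≤ m) (j : ℕ) : tr g h' j ≫ tr g h j = tr g (h.trans h') j := by
  refine ModuleCat.hom_ext (LinearMap.ext fun z => ?_)
  obtain ⟨y, rfl⟩ := Submodule.Quotient.mk_surjective _ z
  rfl

/-- The short complex of multiplication. -/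
def S (n j : ℕ) : ShortComplex (ModuleCat.{u} R) :=
  ShortComplex.mk (g j ^ n • 𝟙 (Q g n j)) (ModuleCat.ofHom (Submodule.factor (I_mono g n j)) : Q g n j ⟶ Q g n (j + 1)) (by
    refine ModuleCat.hom_ext (LinearMap.ext fun z => ?_)
    obtain ⟨y, rfl⟩ := Submodule.Quotient.mk_surjective _ z
    show Submodule.Quotient.mk (g j ^ n • y) = (0 : R ⧸ I g n (j + 1))
    refine (Submodule.Quotient.mk_eq_zero _).2 ?_
    rw [I_succ]
    exact Submodule.mem_sup_right (Ideal.mem_span_singleton'.2 ⟨y, mul_comm _ _⟩))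

variable (d : ℕ) (hreg : ∀ n, 1 ≤ n → ∀ j < d, IsSMulRegular (R ⧸ I g n j) (g j ^ n))
  (hm : ∀ j < d, g j ∈ maximalIdeal R)

include hreg in
lemma shortExact (n : ℕ) (hn : 1 ≤ n) (j : ℕ) (hj : j < d) : (S g n j).ShortExact where
  mono_f := (ModuleCat.mono_iff_injective _).2 fun a b h => hreg n hn j hj h
  epi_g := (ModuleCat.epi_iff_surjective _).2 (Submodule.factor_surjective (I_mono g n j))
  exact := (ShortComplex.moduleCat_exact_iff _).2 fun z hz => by
    obtain ⟨y, rfl⟩ := Submodule.Quotient.mk_surjective _ z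
    have hy : y ∈ I g n (j + 1) := (Submodule.Quotient.mk_eq_zero _).1 hz
    rw [I_succ] at hy
    obtain ⟨a, ha, b, hb, rfl⟩ := Submodule.mem_sup.1 hy
    obtain ⟨c, rfl⟩ := Ideal.mem_span_singleton'.1 hb
    refine ⟨Submodule.Quotient.mk c, (Submodule.Quotient.eq _).2 ?_⟩
    have : (g j ^ n • c) - (a + c * g j ^ n) = -a := by rw [smul_eq_mul]; ring
    show g j ^ n • c - (a + c * g j ^ n) ∈ I g n j
    rw [this]
    exact neg_mem ha

/-- The transition of short complexes. -/
def trS {n m : ℕ} (h : n ≤ m) (j : ℕ) : S g m j ⟶ S g n j where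
  τ₁ := g j ^ (m - n) • tr g h j
  τ₂ := tr g h j
  τ₃ := tr g h (j + 1)
  comm₁₂ := by
    refine ModuleCat.hom_ext (LinearMap.ext fun z => ?_)
    obtain ⟨y, rfl⟩ := Submodule.Quotient.mk_surjective _ z
    show Submodule.Quotient.mk (p := I g n j) (g j ^ n • (g j ^ (m - n) • y)) = Submodule.Quotient.mk (g j ^ m • y)
    rw [smul_smul, ← pow_add, Nat.add_sub_cancel' h]
  comm₂₃ := by
    refine ModuleCat.hom_ext (LinearMap.ext fun z => ?_)
    obtain ⟨y, rfl⟩ := Submodule.Quotient.mk_surjective _ z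
    rfl

include hreg hm in
theorem exists_kill : ∀ j ≤ d, ∀ n, 1 ≤ n → ∀ (i : ℤ), 1 ≤ i →
    ∀ a : (E₀ R).obj (Q g n j) ⟶ ((E₀ R).obj (kap R))⟦i⟧,
      ∃ (m : ℕ) (h : n ≤ m), (E₀ R).map (tr g h j) ≫ a = 0 := by
  intro j
  induction j with
  | zero =>
    intro _ n _ i hi a
    refine ⟨n, le_rfl, ?_⟩
    let eR : Q g n 0 ≅ ModuleCat.of R R := (Submodule.quotEquivOfEqBot _ (I_zero g n)).toModuleIso
    haveI : Projective (ModuleCat.of R R) :=
      (IsProjective.iff_projective _).1 (inferInstance : Module.Projective R R)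
    let eA : DerivedCategory.Q.obj ((CochainComplex.singleFunctor (ModuleCat.{u} R) 0).obj (ModuleCat.of R R)) ≅
        (E₀ R).obj (Q g n 0) :=
      ((DerivedCategory.singleFunctorIsoCompQ (ModuleCat.{u} R) 0).app _).symm ≪≫ (E₀ R).mapIso eR.symm
    let eB : ((E₀ R).obj (kap R))⟦i⟧ ≅
        DerivedCategory.Q.obj ((CochainComplex.singleFunctor (ModuleCat.{u} R) (-i)).obj (kap R)) :=
      ((DerivedCategory.singleFunctors (ModuleCat.{u} R)).shiftIso i (-i) 0 (by omega)).app _ ≪≫
        (DerivedCategory.singleFunctorIsoCompQ (ModuleCat.{u} R) (-i)).app _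
    have h0 := DerivedCategory.from_singleFunctor_obj_eq_zero_of_projective (eA.hom ≫ a ≫ eB.hom) (-i) (by omega)
    rw [zero_of_comp_mono eB.hom (zero_of_epi_comp eA.hom h0), comp_zero]
  | succ j ih =>
    intro hj n hn i hi a
    have hj' : j < d := hj
    have H := fun m (hm : 1 ≤ m) => shortExact g d hreg m hm j hj'
    obtain ⟨p, hp, hpk⟩ := ih hj'.le n hn i hi ((E₀ R).map (S g n j).g ≫ a)
    have h1 : (E₀ R).map (S g p j).g ≫ (E₀ R).map (tr g hp (j + 1)) ≫ a = 0 := by
      rw [← Functor.map_comp_assoc, show (S g p j).g ≫ tr g hp (j + 1) = tr g hp j ≫ (S g n j).g from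
        ((trS g hp j).comm₂₃).symm, Functor.map_comp, Category.assoc]
      exact hpk
    have hpn : 1 ≤ p := hn.trans hp
    obtain ⟨e, he⟩ : ∃ e : ((E₀ R).obj (Q g p j))⟦(1 : ℤ)⟧ ⟶ ((E₀ R).obj (kap R))⟦i⟧,
        (E₀ R).map (tr g hp (j + 1)) ≫ a = (H p hpn).singleδ ≫ e :=
      Triangle.yoneda_exact₃ _ (H p hpn).singleTriangle_distinguished _ h1
    have hp1 : p ≤ p + 1 := Nat.le_succ p
    refine ⟨p + 1, hp.trans hp1, ?_⟩
    have hc : (H (p + 1) (by omega)).singleδ ≫ ((E₀ R).map (g j ^ (p + 1 - p) • tr g hp1 j))⟦(1 : ℤ)⟧' =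
        (E₀ R).map (tr g hp1 (j + 1)) ≫ (H p hpn).singleδ :=
      (ShortComplex.ShortExact.singleTriangle.map (H (p + 1) (by omega)) (H p hpn) (trS g hp1 j)).comm₃
    rw [← tr_comp g hp hp1 (j + 1), Functor.map_comp, Category.assoc, he, ← reassoc_of% hc, Nat.add_sub_cancel_left,
      pow_one, Functor.map_smul, Functor.map_smul, Linear.smul_comp, smul_comp_eq_zero (hm j hj') i, comp_zero]

variable [IsNoetherianRing R]

omit hreg hm in
/-- Classes of positive degree are killed by surjections from modules of finite length. -/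
theorem exists_surj_kill [IsRegularLocalRing R] (N : ModuleCat.{u} R) (hN : IsFiniteLength R N) (i : ℤ) (hi : 1 ≤ i)
    (a : (E₀ R).obj N ⟶ ((E₀ R).obj (kap R))⟦i⟧) :
    ∃ (M : ModuleCat.{u} R) (q : M ⟶ N), IsFiniteLength R M ∧ Function.Surjective q.hom ∧ (E₀ R).map q ≫ a = 0 := by
  classical
  obtain ⟨rs, hrs, hgen⟩ := RegLoc6.exists_regularSequence_maximalIdeal R
  let g : ℕ → R := fun t => rs.getD t 0
  let d := rs.length
  have hg : ∀ t (ht : t < d), g t = rs[t] := fun t ht => List.getD_eq_getElem _ _ ht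
  have hm : ∀ j < d, g j ∈ maximalIdeal R := fun j hj => by
    rw [← hgen, hg j hj]
    exact Ideal.subset_span (List.getElem_mem hj)
  have hreg : ∀ n, 1 ≤ n → ∀ j < d, IsSMulRegular (R ⧸ I g n j) (g j ^ n) := fun n hn j hj => by
    have hw : IsWeaklyRegular R (List.ofFn fun t : Fin d => rs.get t ^ n) :=
      Groth.Agent.S5776.result R R d rs.get (fun _ => n) (fun _ => hn) (by rw [List.ofFn_get]; exact hrs.toIsWeaklyRegular)
    have h1 := hw.regular_mod_prev j (by simpa [d] using hj)
    have hI : (Ideal.ofList ((List.ofFn fun t : Fin d => rs.get t ^ n).take j) • ⊤ : Submodule R R) = I g n j := by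
      rw [smul_eq_mul, Ideal.mul_top, Ideal.ofList, I]
      congr 1
      ext z
      simp only [Set.mem_setOf_eq, Set.mem_image, List.mem_take_iff_getElem, List.getElem_ofFn, List.length_ofFn,
        List.get_eq_getElem]
      constructor
      · rintro ⟨t, ht, rfl⟩
        exact ⟨t, (lt_min_iff.1 ht).1, by rw [hg t (lt_min_iff.1 ht).2]⟩
      · rintro ⟨t, ht, rfl⟩
        exact ⟨t, lt_min ht (ht.trans hj), by rw [hg t (ht.trans hj)]⟩
    rw [List.getElem_ofFn, List.get_eq_getElem, ← hg j hj] at h1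
    rwa [hI] at h1
  have htop : ∀ n, (maximalIdeal R) ≤ (I g n d).radical := fun n => by
    rw [← hgen]
    refine Ideal.span_le.2 fun r hr => ?_
    obtain ⟨t, ht, rfl⟩ := List.mem_iff_getElem.1 hr
    exact ⟨n, Ideal.subset_span ⟨t, ht, by rw [← hg t ht]⟩⟩
  obtain ⟨hN1, hN2⟩ := isFiniteLength_iff_isNoetherian_isArtinian.1 hN
  haveI := hN1
  haveI := hN2
  obtain ⟨b, s, hs⟩ := Module.Finite.exists_fin' R N
  obtain ⟨n, hn, hkill⟩ : ∃ n, 1 ≤ n ∧ ∀ r ∈ I g n d, ∀ z : N, r • z = 0 := by
    obtain ⟨n, hn⟩ := (IsArtinian.monotone_stabilizes (R := R) (M := N)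
      ⟨fun k => OrderDual.toDual ((maximalIdeal R) ^ k • (⊤ : Submodule R N)),
        fun a b h => Submodule.smul_mono_left (Ideal.pow_le_pow_right h)⟩)
    have h0 : (maximalIdeal R) ^ n • (⊤ : Submodule R N) = ⊥ := by
      refine Submodule.eq_bot_of_le_smul_of_le_jacobson_bot (maximalIdeal R) _ (IsNoetherian.noetherian _) ?_
        (maximalIdeal_le_jacobson _)
      have h : (maximalIdeal R) ^ n • (⊤ : Submodule R N) = (maximalIdeal R) ^ (n + 1) • ⊤ :=
        congrArg OrderDual.ofDual (hn (n + 1) (Nat.le_succ n))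
      rw [← mul_smul, ← pow_succ']
      exact h.le
    refine ⟨n + 1, by omega, fun r hr z => ?_⟩
    have hr' : r ∈ (maximalIdeal R) ^ n := by
      refine Ideal.span_le.2 ?_ hr
      rintro _ ⟨t, ht, rfl⟩
      exact Ideal.pow_le_pow_right (Nat.le_succ n) (Ideal.pow_mem_pow (hm t ht) _)
    exact (Submodule.mem_bot R).1 (h0 ▸ Submodule.smul_mem_smul hr' Submodule.mem_top)
  let φ : ∀ c : Fin b, Q g n d ⟶ N := fun c => ModuleCat.ofHom
    (Submodule.liftQ (I g n d) (LinearMap.toSpanSingleton R N (s (Pi.single c 1))) fun r hr => hkill r hr _)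
  choose mc hmc hkc using fun c => exists_kill g d hreg hm d le_rfl n hn i hi ((E₀ R).map (φ c) ≫ a)
  obtain ⟨m, hnm, hm'⟩ : ∃ m, n ≤ m ∧ ∀ c, mc c ≤ m :=
    ⟨max n (Finset.univ.sup mc), le_max_left _ _, fun c => le_trans (Finset.le_sup (Finset.mem_univ c)) (le_max_right _ _)⟩
  let M : ModuleCat.{u} R := ModuleCat.of R (Fin b → Q g m d)
  let pr : ∀ c : Fin b, M ⟶ Q g m d := fun c => ModuleCat.ofHom (LinearMap.proj c)
  let q : M ⟶ N := ∑ c, pr c ≫ tr g hnm d ≫ φ c
  refine ⟨M, q, ?_, ?_, ?_⟩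
  · haveI : IsArtinianRing (R ⧸ I g m d) := by
      rcases subsingleton_or_nontrivial (R ⧸ I g m d) with h | h
      · infer_instance
      · refine isArtinianRing_iff_krullDimLE_zero.2 ?_
        refine Ring.KrullDimLE.mk₀ fun P hP => ?_
        have hle : maximalIdeal R ≤ P.comap (Ideal.Quotient.mk (I g m d)) := (htop m).trans
          ((Ideal.IsPrime.radical_le_iff (hP.comap _)).2 fun r hr => by
            show Ideal.Quotient.mk _ r ∈ P
            rw [Ideal.Quotient.eq_zero_iff_mem.2 hr]; exact P.zero_mem)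
        have he : P.comap (Ideal.Quotient.mk (I g m d)) = maximalIdeal R :=
          ((maximalIdeal.isMaximal R).eq_of_le (hP.comap _).ne_top hle).symm
        rw [← Ideal.map_comap_of_surjective _ Ideal.Quotient.mk_surjective P, he]
        refine (maximalIdeal.isMaximal R).map_of_surjective_of_ker_le Ideal.Quotient.mk_surjective ?_
        rw [Ideal.mk_ker, ← he]
        intro r hr
        show Ideal.Quotient.mk _ r ∈ P
        rw [Ideal.Quotient.eq_zero_iff_mem.2 hr]
        exact P.zero_mem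
    haveI : IsArtinian R (R ⧸ I g m d) :=
      isArtinian_of_surjective_algebraMap (S := R) (R := R ⧸ I g m d) Ideal.Quotient.mk_surjective
    exact isFiniteLength_iff_isNoetherian_isArtinian.2 ⟨inferInstance, inferInstance⟩
  · intro z
    obtain ⟨v, rfl⟩ := hs z
    refine ⟨fun c => Submodule.Quotient.mk (v c), ?_⟩
    simp only [q, ModuleCat.hom_sum, LinearMap.coe_sum, Finset.sum_apply]
    refine Eq.trans (Finset.sum_congr rfl fun c _ => ?_) (LinearMap.pi_apply_eq_sum_univ s v).symm
    show v c • s (Pi.single c 1) = v c • s fun j => if c = j then 1 else 0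
    congr 2
    funext j
    simp [Pi.single_apply, eq_comm]
  · rw [Functor.map_sum, Preadditive.sum_comp]
    refine Finset.sum_eq_zero fun c _ => ?_
    rw [Functor.map_comp, Category.assoc, Functor.map_comp, ← tr_comp g (hmc c) (hm' c) d, Functor.map_comp]
    simp only [Category.assoc]
    rw [hkc c, comp_zero, comp_zero]

end Groth.Agent.H9Misc.EffaceLocal
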