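import Mathlib.Algebra.Homology.DerivedCategory.TStructure
import Mathlib.Algebra.Homology.DerivedCategory.HomologySequence
import Mathlib.Algebra.Homology.DerivedCategory.SingleTriangle
import Mathlib.Algebra.Homology.DerivedCategory.FullyFaithful
import Mathlib.Algebra.Homology.Embedding.TruncLEHomology

/-! Maps from a complex to its shift built from a map between its extreme cohomology objects. -/

set_option linter.style.haveILetI false
set_option backward.isDefEq.respectTransparency false

universe w v u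

open CategoryTheory CategoryTheory.Limits

noncomputable section

namespace Groth.Agent.H9Misc.EndsHom

variable {C : Type u} [Category.{v} C] [Abelian C] [HasDerivedCategory.{w} C]

open DerivedCategory

theorem isIso_homology_Q_map {K L : CochainComplex C ℤ} (f : K ⟶ L) (n : ℤ)
    [IsIso (HomologicalComplex.homologyMap f n)] : IsIso ((homologyFunctor C n).map (Q.map f)) :=
  (NatIso.isIso_map_iff (homologyFunctorFactors C n) f).2 (by assumption)

theorem exists_to_top (K : DerivedCategory C) (b : ℤ) [K.IsLE b] :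
    ∃ (Y : C) (f : K ⟶ (singleFunctor C b).obj Y), IsIso ((homologyFunctor C b).map f) := by
  obtain ⟨L, hL, ⟨e⟩⟩ := DerivedCategory.exists_iso_Q_obj_of_isLE K b
  haveI := hL
  obtain ⟨Y, ⟨e'⟩⟩ := CochainComplex.exists_iso_single (L.truncGE b) b
  let eY : Q.obj (L.truncGE b) ≅ (singleFunctor C b).obj Y :=
    Q.mapIso e' ≪≫ ((singleFunctorIsoCompQ C b).app Y).symm
  refine ⟨Y, e.hom ≫ Q.map (L.πTruncGE b) ≫ eY.hom, ?_⟩
  haveI := isIso_homology_Q_map (L.πTruncGE b) b
  rw [Functor.map_comp, Functor.map_comp]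
  infer_instance

theorem exists_from_bot (K : DerivedCategory C) (a : ℤ) [K.IsGE a] :
    ∃ (Y : C) (g : (singleFunctor C a).obj Y ⟶ K), IsIso ((homologyFunctor C a).map g) := by
  obtain ⟨L, hL, ⟨e⟩⟩ := DerivedCategory.exists_iso_Q_obj_of_isGE K a
  haveI := hL
  obtain ⟨Y, ⟨e'⟩⟩ := CochainComplex.exists_iso_single (L.truncLE a) a
  let eY : (singleFunctor C a).obj Y ≅ Q.obj (L.truncLE a) :=
    (singleFunctorIsoCompQ C a).app Y ≪≫ Q.mapIso e'.symm
  refine ⟨Y, eY.hom ≫ Q.map (L.ιTruncLE a) ≫ e.inv, ?_⟩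
  haveI := isIso_homology_Q_map (L.ιTruncLE a) a
  rw [Functor.map_comp, Functor.map_comp]
  infer_instance

/-- A nonzero map between the extreme cohomology objects gives a nonzero map to a shift. -/
theorem exists_hom_shift {K : DerivedCategory C} (a b : ℤ) [K.IsGE a] [K.IsLE b]
    (u : (homologyFunctor C b).obj K ⟶ (homologyFunctor C a).obj K) (hu : u ≠ 0) :
    ∃ φ : K ⟶ K⟦a - b⟧, φ ≠ 0 := by
  obtain ⟨Y, f, hf⟩ := exists_to_top K b
  obtain ⟨Y', g, hg⟩ := exists_from_bot K a
  let h : ∀ (n : ℤ) (Z : C), (homologyFunctor C n).obj ((singleFunctor C n).obj Z) ≅ Z := fun n Z =>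
    (singleFunctorCompHomologyFunctorIso C n).app Z
  obtain ⟨v, hv⟩ : ∃ v : Y ⟶ Y', (h b Y).inv ≫ inv ((homologyFunctor C b).map f) ≫ u ≫
    inv ((homologyFunctor C a).map g) ≫ (h a Y').hom = v := ⟨_, rfl⟩
  let σ : ((singleFunctor C a).obj Y')⟦a - b⟧ ≅ (singleFunctor C b).obj Y' :=
    ((singleFunctors C).shiftIso (a - b) b a (by omega)).app Y'
  refine ⟨f ≫ (singleFunctor C b).map v ≫ σ.inv ≫ g⟦a - b⟧', fun h0 => hu ?_⟩
  have h1 := congrArg (homologyFunctor C b).map h0
  rw [Functor.map_comp, Functor.map_comp, Functor.map_comp, Functor.map_zero] at h1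
  haveI : IsIso ((homologyFunctor C b).map (g⟦a - b⟧')) :=
    (NatIso.isIso_map_iff ((homologyFunctor C 0).shiftIso (a - b) b a (by omega)) g).2 hg
  have h2 : (homologyFunctor C b).map ((singleFunctor C b).map v) = 0 :=
    zero_of_comp_mono (((homologyFunctor C b).map σ.inv) ≫ (homologyFunctor C b).map (g⟦a - b⟧'))
      (zero_of_epi_comp ((homologyFunctor C b).map f) h1)
  have h3 : v = 0 := by
    have h4 := (singleFunctorCompHomologyFunctorIso C b).hom.naturality v
    rw [Functor.comp_map, h2, zero_comp] at h4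
    exact (cancel_epi ((singleFunctorCompHomologyFunctorIso C b).hom.app Y)).1 (h4.symm.trans comp_zero.symm)
  exact zero_of_comp_mono (inv ((homologyFunctor C a).map g) ≫ (h a Y').hom)
    (zero_of_epi_comp ((h b Y).inv ≫ inv ((homologyFunctor C b).map f)) (by rw [h3] at hv; simpa using hv))

end Groth.Agent.H9Misc.EndsHom
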