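import Groth.Agent.KFlatLib.BrutalTrunc
import Mathlib.CategoryTheory.Triangulated.Generators
import Mathlib.Algebra.Homology.DerivedCategory.ShortExact

/-!
# Bounded complexes lie in the envelope of their terms, and retracts of brutal truncations
-/

set_option autoImplicit false
set_option linter.style.haveILetI false
set_option backward.isDefEq.respectTransparency false
set_option backward.isDefEq.respectTransparency.types false

universe v u

open CategoryTheory CategoryTheory.Limits Pretriangulated

noncomputable section

namespace Groth.Agent.H9Misc.EnvTerms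

open Groth.Agent.KFlatLib

variable {C : Type u} [Category.{v} C] [Abelian C] [HasDerivedCategory C]
variable (S : ObjectProperty (DerivedCategory C))

theorem shift_mem [S.IsStableUnderShift ℤ] {Z : DerivedCategory C} (h : S Z) (n : ℤ) : S (Z⟦n⟧) :=
  S.le_shift n _ h

/-- A bounded complex lies in a triangulated subcategory containing its terms. -/
theorem mem_of_terms [S.IsTriangulated] [S.IsClosedUnderIsomorphisms] :
    ∀ (m : ℕ) (a : ℤ) (P : CochainComplex C ℤ), (∀ i, (i < a ∨ a + m ≤ i) → IsZero (P.X i)) →
      (∀ i, S ((DerivedCategory.singleFunctor C 0).obj (P.X i))) → S (DerivedCategory.Q.obj P)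
  | 0, a, P, hz, _ => S.prop_of_isZero (DerivedCategory.Q.map_isZero
      ((IsZero.iff_id_eq_zero _).2 (HomologicalComplex.hom_ext _ _ fun i =>
        (hz i (by omega)).eq_of_src _ _)))
  | m + 1, a, P, hz, hterm => by
    have hS := sigmaSES_shortExact P (a + m)
    refine S.ext_of_isTriangulatedClosed₂ _ (DerivedCategory.triangleOfSES_distinguished hS) ?_ ?_
    · let E₁ : CochainComplex C ℤ := P.stupidTrunc (ComplexShape.embeddingUpIntGE (a + (m : ℤ)))
      haveI : CochainComplex.IsStrictlyGE E₁ (a + m) := inferInstance
      haveI : CochainComplex.IsStrictlyLE E₁ (a + m) := by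
        rw [CochainComplex.isStrictlyLE_iff]
        intro i hi
        haveI := isIso_sigmaGEι_f P (a + m) i (by omega)
        exact (hz i (Or.inr (by omega))).of_iso (asIso ((sigmaGEι P (a + m)).f i))
      obtain ⟨M, ⟨e⟩⟩ := CochainComplex.exists_iso_single E₁ (a + m)
      haveI := isIso_sigmaGEι_f P (a + m) (a + m) le_rfl
      let eM : P.X (a + m) ≅ M := (asIso ((sigmaGEι P (a + m)).f (a + m))).symm ≪≫
        (HomologicalComplex.eval _ _ (a + (m : ℤ))).mapIso e ≪≫
          HomologicalComplex.singleObjXSelf (ComplexShape.up ℤ) (a + (m : ℤ)) M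
      refine S.prop_of_iso ?_ (shift_mem S (hterm (a + m)) (-(a + m)))
      exact ((DerivedCategory.singleFunctors C).shiftIso (-(a + m)) (a + m) 0 (by omega)).app (P.X (a + m)) ≪≫
        (DerivedCategory.singleFunctor C (a + (m : ℤ))).mapIso eM ≪≫
        (((SingleFunctors.evaluation _ _ (a + (m : ℤ))).mapIso
          (DerivedCategory.singleFunctorsPostcompQIso C)).app M) ≪≫ DerivedCategory.Q.mapIso e.symm
    · have hle := isStrictlyLE_sigmaSES_X₃ P (a + m)
      rw [CochainComplex.isStrictlyLE_iff] at hle
      have hlow : ∀ i, i < a + m → Nonempty (P.X i ≅ (sigmaSES P (a + m)).X₃.X i) :=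
        fun i hi => nonempty_sigmaSES_X₃_iso P (a + m) i hi
      refine mem_of_terms m a _ (fun i hi => ?_) fun i => ?_
      · by_cases h : i < a + m
        · exact (hz i (by omega)).of_iso (hlow i h).some.symm
        · exact hle i (by omega)
      · by_cases h : i < a + m
        · exact S.prop_of_iso ((DerivedCategory.singleFunctor C 0).mapIso (hlow i h).some) (hterm i)
        · exact S.prop_of_isZero ((DerivedCategory.singleFunctor C 0).map_isZero (hle i (by omega)))

/-- An object that does not map to the lower part of a complex representing it is a retract of the upper part. -/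
theorem nonempty_retract_sigmaGE (F : CochainComplex C ℤ) (m : ℤ)
    (h : ∀ φ : DerivedCategory.Q.obj F ⟶ DerivedCategory.Q.obj (sigmaSES F m).X₃, φ = 0) :
    Nonempty (Retract (DerivedCategory.Q.obj F)
      (DerivedCategory.Q.obj (F.stupidTrunc (ComplexShape.embeddingUpIntGE m)))) := by
  obtain ⟨s, hs⟩ := Triangle.coyoneda_exact₂ _
    (DerivedCategory.triangleOfSES_distinguished (sigmaSES_shortExact F m)) (𝟙 _)
    ((Category.id_comp _).trans (h _))
  exact ⟨⟨s, _, hs.symm⟩⟩

end Groth.Agent.H9Misc.EnvTerms
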