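import Groth.Agent.H9Misc.DiagKernelBC

/-!
# Base change of kernels of relative equivalences
-/

set_option autoImplicit false
set_option linter.style.haveILetI false

universe u

open CategoryTheory CategoryTheory.Limits AlgebraicGeometry

attribute [local instance] HasDerivedCategory.standard

namespace Groth.Agent.H9Misc

open KFlatLib

variable {S S' X Y : Scheme.{u}}

/-- Half of the base change of an equivalence kernel. -/
theorem nonempty_diag_conv_bc (a : X ⟶ S) (b : Y ⟶ S) (g : S' ⟶ S)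
    [Flat a] [Flat b] [QuasiCompact a] [QuasiSeparated a] [QuasiCompact b] [QuasiSeparated b] [IsSeparated a]
    (K : CochainComplex (pullback a b).Modules ℤ) (K' : CochainComplex (pullback b a).Modules ℤ)
    (hq : DCoh.IsQCohD (DCoh.toD _ K)) (hq' : DCoh.IsQCohD (DCoh.toD _ K'))
    [DCoh.HasLpull (FMK.p12 a b a)] [DCoh.HasRpush (FMK.p13 a b a)]
    [DCoh.HasLTensorCx ((FMK.cxPull (FMK.p23 a b a)).obj K')]
    [DCoh.HasLpull (bcProd a b g)] [DCoh.HasLpull (bcProd b a g)] [DCoh.HasLpull (bcProd a a g)]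
    (e : FMK.diagO a ≅ FMK.conv a b a K ((FMK.cxPull (FMK.p23 a b a)).obj K'))
    (K₁ : CochainComplex (pullback (pullback.snd a g) (pullback.snd b g)).Modules ℤ)
    (eK : DCoh.toD _ K₁ ≅ (DCoh.Lpull (bcProd a b g)).obj (DCoh.toD _ K))
    (K₁' : CochainComplex (pullback (pullback.snd b g) (pullback.snd a g)).Modules ℤ)
    (eK' : DCoh.toD _ K₁' ≅ (DCoh.Lpull (bcProd b a g)).obj (DCoh.toD _ K'))
    [DCoh.HasLpull (FMK.p12 (pullback.snd a g) (pullback.snd b g) (pullback.snd a g))]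
    [DCoh.HasLTensorCx ((FMK.cxPull (FMK.p23 (pullback.snd a g) (pullback.snd b g) (pullback.snd a g))).obj K₁')]
    [DCoh.HasRpush (FMK.p13 (pullback.snd a g) (pullback.snd b g) (pullback.snd a g))] :
    Nonempty (FMK.diagO (pullback.snd a g) ≅ FMK.conv (pullback.snd a g) (pullback.snd b g) (pullback.snd a g) K₁
      ((FMK.cxPull (FMK.p23 (pullback.snd a g) (pullback.snd b g) (pullback.snd a g))).obj K₁')) := by
  obtain ⟨c⟩ := nonempty_pull_conv a b a g K K' hq hq' K₁ eK K₁' eK'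
  obtain ⟨d⟩ := nonempty_lpull_diagO a g
  exact ⟨d.symm ≪≫ (DCoh.Lpull _).mapIso e ≪≫ c⟩

/-- Pullback of a perfect complex along the base change map of products. -/
theorem exists_perfect_bcProd (a : X ⟶ S) (b : Y ⟶ S) (g : S' ⟶ S) [DCoh.HasLpull (bcProd a b g)]
    (K : CochainComplex (pullback a b).Modules ℤ) (hK : DCoh.IsPerfect (DCoh.toD _ K)) :
    ∃ K₁ : CochainComplex (pullback (pullback.snd a g) (pullback.snd b g)).Modules ℤ,
      DCoh.IsPerfect (DCoh.toD _ K₁) ∧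
      Nonempty (DCoh.toD _ K₁ ≅ (DCoh.Lpull (bcProd a b g)).obj (DCoh.toD _ K)) := by
  obtain ⟨K₁, ⟨e⟩⟩ : ∃ K₁ : CochainComplex (pullback (pullback.snd a g) (pullback.snd b g)).Modules ℤ,
      Nonempty (DCoh.toD _ K₁ ≅ (DCoh.Lpull (bcProd a b g)).obj (DCoh.toD _ K)) :=
    ⟨_, ⟨DerivedCategory.Q.objObjPreimageIso _⟩⟩
  exact ⟨K₁, isPerfect_congr e.symm (isPerfect_lpull _ hK), ⟨e⟩⟩

end Groth.Agent.H9Misc

namespace Groth.Agent.H9Misc

open KFlatLib

variable {S S' X Y : Scheme.{u}}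

/-- Equivalence kernels are stable under base change, with the two instance families explicit. -/
theorem isRelEquivKernel_bc (a : X ⟶ S) (b : Y ⟶ S) (g : S' ⟶ S)
    [Flat a] [Flat b] [QuasiCompact a] [QuasiSeparated a] [QuasiCompact b] [QuasiSeparated b] [IsSeparated a]
    [IsSeparated b]
    (K : CochainComplex (pullback a b).Modules ℤ)
    [DCoh.HasLpull (FMK.p12 a b a)] [DCoh.HasRpush (FMK.p13 a b a)]
    [∀ L : CochainComplex (FMK.T a b a).Modules ℤ, DCoh.HasLTensorCx L]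
    [DCoh.HasLpull (FMK.p12 b a b)] [DCoh.HasRpush (FMK.p13 b a b)]
    [∀ L : CochainComplex (FMK.T b a b).Modules ℤ, DCoh.HasLTensorCx L]
    (hK : FMK.IsRelEquivKernel a b K)
    [DCoh.HasLpull (FMK.p12 (pullback.snd a g) (pullback.snd b g) (pullback.snd a g))]
    [DCoh.HasRpush (FMK.p13 (pullback.snd a g) (pullback.snd b g) (pullback.snd a g))]
    [∀ L : CochainComplex (FMK.T (pullback.snd a g) (pullback.snd b g) (pullback.snd a g)).Modules ℤ, DCoh.HasLTensorCx L]
    [DCoh.HasLpull (FMK.p12 (pullback.snd b g) (pullback.snd a g) (pullback.snd b g))]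
    [DCoh.HasRpush (FMK.p13 (pullback.snd b g) (pullback.snd a g) (pullback.snd b g))]
    [∀ L : CochainComplex (FMK.T (pullback.snd b g) (pullback.snd a g) (pullback.snd b g)).Modules ℤ, DCoh.HasLTensorCx L]
    [DCoh.HasLpull (bcProd a b g)]
    (K₁ : CochainComplex (pullback (pullback.snd a g) (pullback.snd b g)).Modules ℤ)
    (eK : DCoh.toD _ K₁ ≅ (DCoh.Lpull (bcProd a b g)).obj (DCoh.toD _ K)) :
    FMK.IsRelEquivKernel (pullback.snd a g) (pullback.snd b g) K₁ := by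
  obtain ⟨hp, K', hK', ⟨e₁⟩, ⟨e₂⟩⟩ := hK
  haveI := hasLpull (bcProd b a g)
  haveI := hasLpull (bcProd a a g)
  haveI := hasLpull (bcProd b b g)
  obtain ⟨K₁', hp', ⟨eK'⟩⟩ := exists_perfect_bcProd b a g K' hK'
  exact ⟨isPerfect_congr eK.symm (isPerfect_lpull _ hp), K₁', hp',
    nonempty_diag_conv_bc a b g K K' (isQCohD_of_isPerfect hp) (isQCohD_of_isPerfect hK') e₁ K₁ eK K₁' eK',
    nonempty_diag_conv_bc b a g K' K (isQCohD_of_isPerfect hK') (isQCohD_of_isPerfect hp) e₂ K₁' eK' K₁ eK⟩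

end Groth.Agent.H9Misc
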