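import Mathlib.Algebra.Homology.DerivedCategory.Ext.ExactSequences
import Mathlib.CategoryTheory.Limits.Shapes.Biproducts

/-! Vanishing of `Ext` for finite sums and for two-term resolutions. -/

set_option linter.style.haveILetI false
set_option linter.unusedSectionVars false

universe w v u

open CategoryTheory CategoryTheory.Limits CategoryTheory.Abelian

namespace Groth.Agent.H9Misc.ExtFinSum

variable {C : Type u} [Category.{v} C] [Abelian C] [HasExt.{w} C]

theorem subsingleton_of_iso_left {A B Y : C} (e : A ≅ B) (p : ℕ) (h : Subsingleton (Ext B Y p)) :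
    Subsingleton (Ext A Y p) :=
  subsingleton_of_forall_eq 0 fun x => by
    have h0 : (Ext.mk₀ e.inv).comp x (zero_add p) = 0 := Subsingleton.elim _ _
    have h1 := congrArg (fun z => (Ext.mk₀ e.hom).comp z (zero_add p)) h0
    simpa using h1

theorem subsingleton_of_iso_right {X A B : C} (e : A ≅ B) (p : ℕ) (h : Subsingleton (Ext X B p)) :
    Subsingleton (Ext X A p) :=
  subsingleton_of_forall_eq 0 fun x => by
    have h0 : x.comp (Ext.mk₀ e.hom) (add_zero p) = 0 := Subsingleton.elim _ _
    have h1 := congrArg (fun z => z.comp (Ext.mk₀ e.inv) (add_zero p)) h0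
    simpa [Ext.comp_assoc_of_second_deg_zero] using h1

theorem subsingleton_sum_left {J : Type} [Finite J] {A : J → C} {Y : C} {S : C} (e : S ≅ ∐ A) (p : ℕ)
    (h : ∀ j, Subsingleton (Ext (A j) Y p)) : Subsingleton (Ext S Y p) := by
  classical
  haveI := Fintype.ofFinite J
  haveI : HasFiniteBiproducts C := Abelian.hasFiniteBiproducts
  refine subsingleton_of_iso_left (e ≪≫ (biproduct.isoCoproduct A).symm) p ?_
  exact (Ext.biproductAddEquiv (biproduct.isBilimit A) Y p).toEquiv.subsingleton

theorem subsingleton_sum_right {J : Type} [Finite J] {A : J → C} {X : C} {S : C} (e : S ≅ ∐ A) (p : ℕ)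
    (h : ∀ j, Subsingleton (Ext X (A j) p)) : Subsingleton (Ext X S p) := by
  classical
  haveI := Fintype.ofFinite J
  haveI : HasFiniteBiproducts C := Abelian.hasFiniteBiproducts
  refine subsingleton_of_iso_right (e ≪≫ (biproduct.isoCoproduct A).symm) p ?_
  exact (Ext.addEquivBiproduct X (biproduct.isBilimit A) p).toEquiv.subsingleton

theorem subsingleton_X₃_right {S : ShortComplex C} (hS : S.ShortExact) (X : C) (p : ℕ)
    (h₂ : Subsingleton (Ext X S.X₂ p)) (h₁ : Subsingleton (Ext X S.X₁ (p + 1))) :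
    Subsingleton (Ext X S.X₃ p) :=
  subsingleton_of_forall_eq 0 fun x => by
    obtain ⟨y, rfl⟩ := Ext.covariant_sequence_exact₃ X hS x rfl (Subsingleton.elim _ _)
    rw [Subsingleton.elim y 0, Ext.zero_comp]

theorem subsingleton_X₃_left {S : ShortComplex C} (hS : S.ShortExact) (Y : C) (p : ℕ)
    (h₂ : Subsingleton (Ext S.X₂ Y p)) (h₁ : ∀ q, q + 1 = p → Subsingleton (Ext S.X₁ Y q)) :
    Subsingleton (Ext S.X₃ Y p) :=
  subsingleton_of_forall_eq 0 fun x => by
    haveI := hS.epi_g
    have h0 : (Ext.mk₀ S.g).comp x (zero_add p) = 0 := Subsingleton.elim _ _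
    cases p with
    | zero =>
      obtain ⟨g, rfl⟩ := Ext.mk₀_bijective _ _ |>.2 x
      rw [Ext.mk₀_comp_mk₀, ← Ext.mk₀_zero] at h0
      have h1 := (Ext.mk₀_bijective _ _).1 h0
      rw [zero_of_epi_comp _ h1, Ext.mk₀_zero]
    | succ q =>
      obtain ⟨y, rfl⟩ := Ext.contravariant_sequence_exact₃ hS Y x h0 (add_comm 1 q)
      haveI := h₁ q rfl
      rw [Subsingleton.elim y 0, Ext.comp_zero]

end Groth.Agent.H9Misc.ExtFinSum
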