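import Mathlib

/-! Linear dimension shifting for `Ext` of modules. -/

set_option linter.style.haveILetI false

universe u

open CategoryTheory CategoryTheory.Limits

noncomputable section

namespace Groth.Agent.H9Misc.ExtModShift

variable {R : Type u} [CommRing R] {S : ShortComplex (ModuleCat.{u} R)} (hS : S.ShortExact) (Y : ModuleCat.{u} R)

/-- Composition with the class of the extension. -/
def shift (q : ℕ) : Abelian.Ext.{u} S.X₁ Y q →ₗ[R] Abelian.Ext.{u} S.X₃ Y (q + 1) :=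
  Abelian.Ext.precompOfLinear hS.extClass R Y (add_comm 1 q)

theorem shift_bijective [Projective S.X₂] (q : ℕ) : Function.Bijective (shift hS Y (q + 1)) := by
  refine ⟨(injective_iff_map_eq_zero _).2 fun x hx => ?_, fun z => ?_⟩
  · obtain ⟨x₂, rfl⟩ := Abelian.Ext.contravariant_sequence_exact₁ hS Y x (add_comm 1 (q + 1)) hx
    rw [Abelian.Ext.eq_zero_of_projective x₂, Abelian.Ext.comp_zero]
  · exact Abelian.Ext.contravariant_sequence_exact₃ hS Y z
      (Abelian.Ext.eq_zero_of_projective _) (add_comm 1 (q + 1))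

/-- The shifting isomorphism. -/
def shiftIso [Projective S.X₂] (q : ℕ) :
    ModuleCat.of R (Abelian.Ext.{u} S.X₁ Y (q + 1)) ≅ ModuleCat.of R (Abelian.Ext.{u} S.X₃ Y (q + 2)) :=
  (LinearEquiv.ofBijective (shift hS Y (q + 1)) (shift_bijective hS Y q)).toModuleIso

/-- The connecting map in degree zero. -/
def shiftZero : (S.X₁ ⟶ Y) →ₗ[R] Abelian.Ext.{u} S.X₃ Y 1 :=
  (shift hS Y 0).comp (Abelian.Ext.linearEquiv₀ (R := R)).symm.toLinearMap

theorem shiftZero_surjective [Projective S.X₂] : Function.Surjective (shiftZero hS Y) := fun z => by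
  obtain ⟨x, hx⟩ := Abelian.Ext.contravariant_sequence_exact₃ hS Y z (Abelian.Ext.eq_zero_of_projective _)
    (add_comm 1 0)
  exact ⟨Abelian.Ext.linearEquiv₀ (R := R) x, (congrArg (shift hS Y 0) (LinearEquiv.symm_apply_apply _ x)).trans hx⟩

theorem shiftZero_eq_zero_iff (φ : S.X₁ ⟶ Y) : shiftZero hS Y φ = 0 ↔ ∃ ψ : S.X₂ ⟶ Y, S.f ≫ ψ = φ := by
  show hS.extClass.comp (Abelian.Ext.mk₀ φ) (add_comm 1 0) = 0 ↔ _
  constructor
  · intro h
    obtain ⟨x₂, hx⟩ := Abelian.Ext.contravariant_sequence_exact₁ hS Y _ (add_comm 1 0) h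
    refine ⟨Abelian.Ext.linearEquiv₀ (R := R) x₂, ?_⟩
    rw [← Abelian.Ext.mk₀_linearEquiv₀_apply (R := R) x₂, Abelian.Ext.mk₀_comp_mk₀] at hx
    exact (Abelian.Ext.mk₀_bijective _ _).injective hx
  · rintro ⟨ψ, rfl⟩
    rw [← Abelian.Ext.mk₀_comp_mk₀, ShortComplex.ShortExact.extClass_comp_assoc]

include hS in
/-- A surjection with the kernel of the connecting map has the same target. -/
theorem nonempty_ext_one_iso [Projective S.X₂] {A C : ModuleCat.{u} R} (e : A ≅ ModuleCat.of R (S.X₁ ⟶ Y))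
    (d : A ⟶ C) (hd : Function.Surjective d.hom)
    (hker : ∀ a : A, d.hom a = 0 ↔ ∃ ψ : S.X₂ ⟶ Y, S.f ≫ ψ = e.hom.hom a) :
    Nonempty (C ≅ ModuleCat.of R (Abelian.Ext.{u} S.X₃ Y 1)) := by
  let d' : A →ₗ[R] Abelian.Ext.{u} S.X₃ Y 1 := (shiftZero hS Y).comp e.toLinearEquiv.toLinearMap
  have hd' : Function.Surjective d' := (shiftZero_surjective hS Y).comp e.toLinearEquiv.surjective
  have hk : LinearMap.ker d.hom = LinearMap.ker d' := Submodule.ext fun a =>
    (hker a).trans (shiftZero_eq_zero_iff hS Y _).symm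
  exact ⟨((LinearMap.quotKerEquivOfSurjective d.hom hd).symm ≪≫ₗ Submodule.quotEquivOfEq _ _ hk ≪≫ₗ
    LinearMap.quotKerEquivOfSurjective d' hd').toModuleIso⟩

end Groth.Agent.H9Misc.ExtModShift
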