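import Groth.Agent.H9Misc.KillUnit
import Groth.Agent.H9Misc.DerCompRestr
import Groth.Agent.ModPull.Tensor
import Groth.Agent.SiteBase.ModColim

/-!
# Extension of scalars along a map of sheaves of rings is the tensor product
-/

set_option linter.style.haveILetI false
set_option maxHeartbeats 1000000

universe u

open CategoryTheory CategoryTheory.Category CategoryTheory.Limits Opposite
open Groth.Agent.ModTensor Groth.Agent.ModPull Groth.Agent.H9Misc.KillUnit
open Groth.Agent.H9Misc.DerCompRestr (toRMor res)
open scoped TensorProduct MonoidalCategory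

namespace Groth.Agent.H9Misc.ExtScalar

/-- Additive maps on a tensor product agree if they agree on elementary tensors. -/
lemma addHom_tensor_ext {R : Type*} [CommRing R] {P Q Z : Type*} [AddCommGroup P] [AddCommGroup Q] [AddCommGroup Z]
    [Module R P] [Module R Q] (f g : P ⊗[R] Q →+ Z) (h : ∀ x y, f (x ⊗ₜ y) = g (x ⊗ₜ y)) (t : P ⊗[R] Q) :
    f t = g t := by
  induction t using TensorProduct.induction_on with
  | zero => rw [map_zero, map_zero]
  | tmul x y => exact h x y
  | add x y hx hy => rw [map_add, map_add, hx, hy]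

variable {C : Type u} [SmallCategory C] {J : GrothendieckTopology C} {O O' : Sheaf J CommRingCat.{u}} (φ : O ⟶ O')

/-- `O'` as an `O`-module. -/
noncomputable abbrev alg : ModSite.Mod O := (res φ).obj (ModSite.unit O')

/-- The inverse image. -/
noncomputable abbrev pullF : ModSite.Mod O ⥤ ModSite.Mod O' := (toRMor φ).pull

/-- Its adjunction with restriction of scalars. -/
noncomputable def adjF : pullF φ ⊣ res φ := (toRMor φ).adj

/-- The unit section. -/
noncomputable def one : Sec (alg φ) where
  val X := (1 : O'.obj.obj X)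
  map g := map_one (O'.obj.map g).hom

variable (M : ModSite.Mod O)

/-- The pullback of a section, as a section over `O'`. -/
noncomputable def pu' {X : Cᵒᵖ} (x : ((fg O).obj M).obj X) : ((fg O').obj ((pullF φ).obj M)).obj X :=
  pu (toRMor φ) M x

lemma pu'_smul {X : Cᵒᵖ} (r : O.obj.obj X) (x : ((fg O).obj M).obj X) :
    pu' φ M (r • x) = (φ.hom.app X).hom r • pu' φ M x := pu_smul (toRMor φ) M r x

/-- The comparison map on presheaves. -/
noncomputable def tauPre : ((fg O).obj M ⊗ (fg O).obj (alg φ) : P₀ O) ⟶
    (fg O).obj ((res φ).obj ((pullF φ).obj M)) where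
  app X := ModuleCat.MonoidalCategory.tensorLift (R := O.obj.obj X)
    (fun x (a : O'.obj.obj X) => (show ((fg O').obj ((pullF φ).obj M)).obj X from a • pu' φ M x))
    (fun x y (a : O'.obj.obj X) =>
      (congrArg (fun z : ((fg O').obj ((pullF φ).obj M)).obj X => a • z)
        (pu_add (toRMor φ) M (U := X) x y)).trans (smul_add a (pu' φ M x) (pu' φ M y)))
    (fun (r : O.obj.obj X) x (a : O'.obj.obj X) => by
      show a • pu' φ M (r • x) = (φ.hom.app X).hom r • (a • pu' φ M x)
      rw [pu'_smul, smul_smul, smul_smul, mul_comm])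
    (fun x (a : O'.obj.obj X) (b : O'.obj.obj X) => add_smul a b (pu' φ M x))
    (fun (r : O.obj.obj X) x (a : O'.obj.obj X) => mul_smul ((φ.hom.app X).hom r) a (pu' φ M x))
  naturality {X Y} g := ModuleCat.MonoidalCategory.tensor_ext fun x (a : O'.obj.obj X) => by
    show (O'.obj.map g).hom a • pu' φ M (rs ((fg O).obj M) g x) =
      rs ((fg O').obj ((pullF φ).obj M)) g (a • pu' φ M x)
    rw [rs_smul]
    exact congrArg (fun t => (O'.obj.map g).hom a • t) (pu_rs (toRMor φ) M g x)

/-- The comparison map. -/
noncomputable def tau : ten M (alg φ) ⟶ (res φ).obj ((pullF φ).obj M) :=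
  ((shAdj O).homEquiv _ _).symm (tauPre φ M)

lemma tau_app {X : Cᵒᵖ} (x : ((fg O).obj M).obj X) (a : O'.obj.obj X) :
    ((fg O).map (tau φ M)).app X (shT M (alg φ) x a) = (show O'.obj.obj X from a) • pu' φ M x := by
  refine (shu_desc (tau φ M) (tm (R := O.obj) x (show ((fg O).obj (alg φ)).obj X from a))).trans ?_
  rw [tau, Equiv.apply_symm_apply]
  rfl

lemma tau_naturality {N : ModSite.Mod O} (g : M ⟶ N) :
    ((ModSite.tensorBi O).map g).app (alg φ) ≫ tau φ N = tau φ M ≫ (res φ).map ((pullF φ).map g) :=
  shT_hom_ext fun X x (a : O'.obj.obj X) => by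
    rw [Functor.map_comp, Functor.map_comp]
    show ((fg O).map (tau φ N)).app X (((fg O).map (((ModSite.tensorBi O).map g).app (alg φ))).app X (shT M _ x a)) =
      ((fg O').map ((pullF φ).map g)).app X (((fg O).map (tau φ M)).app X (shT M _ x a))
    rw [shT_map_left, tau_app, tau_app]
    refine Eq.trans ?_ (map_smul (((fg O').map ((pullF φ).map g)).app X).hom a (pu' φ M x)).symm
    exact congrArg (a • ·) (pu_naturality (toRMor φ) g x).symm

lemma unitApp_tau : unitApp (one φ) M ≫ tau φ M = (adjF φ).unit.app M := hom_ext_app fun X x => by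
  rw [Functor.map_comp]
  show ((fg O).map (tau φ M)).app X (((fg O).map (unitApp (one φ) M)).app X x) = _
  rw [unitApp_app]
  refine (tau_app φ M x (1 : O'.obj.obj X)).trans ?_
  exact one_smul _ (pu' φ M x)

theorem epi_tau : Epi (tau φ M) := by
  refine Preadditive.epi_of_cancel_zero _ fun {Z} k hk => hom_ext_app fun X z => ?_
  refine eq_of_locally' _ ((locally_combination (toRMor φ) M (W := X.unop) z).mono
    fun V g ⟨U, h, n, a, x, e⟩ => ?_)
  rw [Functor.map_zero]
  refine Eq.trans ?_ (map_zero (((fg O).obj Z).map g.op).hom).symm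
  show rs ((fg O).obj Z) g.op (((fg O).map k).app (op X.unop) z) = 0
  rw [← app_rs]
  have e' : rs ((fg O).obj ((res φ).obj ((pullF φ).obj M))) g.op z =
      ((fg O).map (tau φ M)).app (op V) (∑ l, shT M (alg φ) (rs ((fg O).obj M) h.op (x l))
        (show ((fg O).obj (alg φ)).obj (op V) from a l)) := by
    refine e.trans (Eq.trans ?_ (map_sum (((fg O).map (tau φ M)).app (op V)).hom _ _).symm)
    refine Finset.sum_congr rfl fun l _ => Eq.trans ?_ (tau_app φ M _ (a l)).symm
    exact congrArg (a l • ·) (pu_rs (toRMor φ) M (U := op U) (V := op V) h.op (x l)).symm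
  rw [e']
  have h2 := congrArg (fun t => ((fg O).map t).app (op V) (∑ l, shT M (alg φ) (rs ((fg O).obj M) h.op (x l))
        (show ((fg O).obj (alg φ)).obj (op V) from a l))) hk
  simp only [Functor.map_comp, Functor.map_zero] at h2
  exact h2

section Pre

variable (X : Cᵒᵖ)

/-- The presheaf tensor product. -/
noncomputable abbrev tenPre : P₀ O := (fg O).obj M ⊗ (fg O).obj (alg φ)

/-- Multiplication on the algebra. -/
noncomputable def mulA (r : O'.obj.obj X) :
    ((fg O).obj (alg φ)).obj X →ₗ[O.obj.obj X] ((fg O).obj (alg φ)).obj X where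
  toFun a := (show ((fg O).obj (alg φ)).obj X from (r * (show O'.obj.obj X from a) : O'.obj.obj X))
  map_add' a b := mul_add r (show O'.obj.obj X from a) (show O'.obj.obj X from b)
  map_smul' s a := mul_left_comm r ((φ.hom.app X).hom s) (show O'.obj.obj X from a)

/-- The action of `O'` on the presheaf tensor product. -/
noncomputable def actPre : O'.obj.obj X →+* Module.End (O.obj.obj X) ((tenPre φ M).obj X) where
  toFun r := LinearMap.lTensor _ (mulA φ X r)
  map_one' := TensorProduct.ext' fun x a => congrArg (tm (R := O.obj) x) (one_mul (show O'.obj.obj X from a))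
  map_mul' r s := TensorProduct.ext' fun x a =>
    congrArg (tm (R := O.obj) x) (mul_assoc r s (show O'.obj.obj X from a))
  map_zero' := TensorProduct.ext' fun x a =>
    (congrArg (tm (R := O.obj) x) (zero_mul (show O'.obj.obj X from a))).trans (TensorProduct.tmul_zero _ x)
  map_add' r s := TensorProduct.ext' fun x a =>
    (congrArg (tm (R := O.obj) x) (add_mul r s (show O'.obj.obj X from a))).trans (TensorProduct.tmul_add x _ _)

noncomputable instance modulePre : Module ((O'.obj ⋙ forget₂ CommRingCat.{u} RingCat.{u}).obj X)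
    ((tenPre φ M).presheaf.obj X) :=
  Module.compHom ((tenPre φ M).obj X) (actPre φ M X)

end Pre

/-- The presheaf tensor product as a presheaf of `O'`-modules. -/
noncomputable def pre' : P₀ O' :=
  PresheafOfModules.ofPresheaf (R := O'.obj ⋙ forget₂ CommRingCat.{u} RingCat.{u}) (tenPre φ M).presheaf
    fun X Y g (r : O'.obj.obj X) t => by
      show rs (tenPre φ M) g (actPre φ M X r t) = actPre φ M Y ((O'.obj.map g).hom r) (rs (tenPre φ M) g t)
      refine addHom_tensor_ext (((tenPre φ M).map g).hom.toAddMonoidHom.comp (actPre φ M X r).toAddMonoidHom)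
        ((actPre φ M Y ((O'.obj.map g).hom r)).toAddMonoidHom.comp ((tenPre φ M).map g).hom.toAddMonoidHom)
        (fun x a => ?_) t
      refine (rs_tm g x (show ((fg O).obj (alg φ)).obj X from
        ((r : O'.obj.obj X) * (show O'.obj.obj X from a)))).trans ?_
      refine Eq.trans ?_ (congrArg (actPre φ M Y ((O'.obj.map g).hom r)) (rs_tm g x a)).symm
      exact congrArg (tm (R := O.obj) (rs ((fg O).obj M) g x)) (map_mul (O'.obj.map g).hom r a)

lemma actPre_scalar {X : Cᵒᵖ} (r : O.obj.obj X) (t : (tenPre φ M).obj X) :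
    actPre φ M X ((φ.hom.app X).hom r) t = r • t := by
  refine addHom_tensor_ext (actPre φ M X ((φ.hom.app X).hom r)).toAddMonoidHom
    (DistribSMul.toAddMonoidHom ((tenPre φ M).obj X) r) (fun x a => ?_) t
  exact TensorProduct.tmul_smul (R := O.obj.obj X) r x a

/-- The target of the inverse comparison. -/
noncomputable abbrev ext' : ModSite.Mod O' := (sh O').obj (pre' φ M)

/-- The unit of sheafification over `O'`, as a map over `O`. -/
noncomputable def iotaPre : tenPre φ M ⟶ (fg O).obj ((res φ).obj (ext' φ M)) where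
  app X := ModuleCat.ofHom (R := O.obj.obj X) (X := (tenPre φ M).obj X)
    (Y := ((fg O).obj ((res φ).obj (ext' φ M))).obj X)
    { toFun := fun t => shu (pre' φ M) (show (pre' φ M).obj X from t)
      map_add' := fun s t => shu_add (pre' φ M) _ _
      map_smul' := fun (r : O.obj.obj X) t => by
        refine (congrArg (fun z => shu (pre' φ M) (show (pre' φ M).obj X from z)) (actPre_scalar φ M r t).symm).trans ?_
        exact shu_smul (pre' φ M) ((φ.hom.app X).hom r) t }
  naturality {X Y} g := by
    refine ModuleCat.hom_ext (LinearMap.ext fun t => ?_)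
    exact (rs_shu (pre' φ M) g t).symm

/-- The sheafified map. -/
noncomputable def iota : ten M (alg φ) ⟶ (res φ).obj (ext' φ M) :=
  ((shAdj O).homEquiv _ _).symm (iotaPre φ M)

lemma iota_shu {X : Cᵒᵖ} (t : (tenPre φ M).obj X) :
    ((fg O).map (iota φ M)).app X (shu (tenPre φ M) t) = shu (pre' φ M) (show (pre' φ M).obj X from t) := by
  refine (shu_desc (iota φ M) t).trans ?_
  rw [iota, Equiv.apply_symm_apply]
  rfl

theorem mono_iota : Mono (iota φ M) := mono_of_app_eq_zero _ fun W z hz => by
  refine eq_of_locally' _ ((locally_exists_shu (tenPre φ M) z).bind fun V g ⟨p, hp⟩ => ?_)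
  have h0 : shu (pre' φ M) (show (pre' φ M).obj (op V) from p) = shu (pre' φ M) (0 : (pre' φ M).obj (op V)) := by
    refine (iota_shu φ M p).symm.trans ?_
    refine (congrArg (((fg O).map (iota φ M)).app (op V)).hom hp).trans ?_
    refine (app_rs ((fg O).map (iota φ M)) g.op z).trans ?_
    refine (congrArg (rs ((fg O).obj ((res φ).obj (ext' φ M))) g.op) hz).trans ?_
    exact (map_zero (((fg O).obj ((res φ).obj (ext' φ M))).map g.op).hom).trans (shu_zero (pre' φ M)).symm
  refine (locally_eq_of_shu_eq (pre' φ M) _ _ h0).mono fun V' g' h => ?_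
  refine Eq.trans ?_ (map_zero (((fg O).obj (ten M (alg φ))).map (g' ≫ g).op).hom).symm
  refine (rs_comp (P := (fg O).obj (ten M (alg φ))) g.op g'.op z).trans ?_
  refine (congrArg (rs ((fg O).obj (ten M (alg φ))) g'.op) hp.symm).trans ?_
  refine (rs_shu (tenPre φ M) g'.op p).trans ?_
  refine (congrArg (fun t => shu (tenPre φ M) t) (h.trans (map_zero (((pre' φ M)).map g'.op).hom))).trans ?_
  exact shu_zero _

theorem mono_tau : Mono (tau φ M) := by
  let ψ : (pullF φ).obj M ⟶ ext' φ M := ((toRMor φ).adj.homEquiv M (ext' φ M)).symm (unitApp (one φ) M ≫ iota φ M)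
  have hψ : ∀ (X : Cᵒᵖ) (x : ((fg O).obj M).obj X), ((fg O').map ψ).app X (pu' φ M x) =
      shu (pre' φ M) (show (pre' φ M).obj X from tm (R := O.obj) x (show ((fg O).obj (alg φ)).obj X from
        (1 : O'.obj.obj X))) := fun X x => by
    refine (adj_homEquiv_app (toRMor φ) ψ x).symm.trans ?_
    rw [Equiv.apply_symm_apply, Functor.map_comp]
    show ((fg O).map (iota φ M)).app X (((fg O).map (unitApp (one φ) M)).app X x) = _
    rw [unitApp_app]
    exact iota_shu φ M _
  have h : tau φ M ≫ (res φ).map ψ = iota φ M := shT_hom_ext fun X x (a : O'.obj.obj X) => by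
    rw [Functor.map_comp]
    show ((fg O').map ψ).app X (((fg O).map (tau φ M)).app X (shT M (alg φ) x a)) = _
    rw [tau_app]
    refine (map_smul (((fg O').map ψ).app X).hom a (pu' φ M x)).trans ?_
    rw [hψ]
    refine (shu_smul (pre' φ M) a _).symm.trans (Eq.trans ?_ (iota_shu φ M _).symm)
    exact congrArg (fun t => shu (pre' φ M) t) (congrArg (tm (R := O.obj) x) (mul_one a))
  have := mono_iota φ M
  rw [← h] at this
  exact mono_of_mono (tau φ M) ((res φ).map ψ)

/-- Extension of scalars is the tensor product. -/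
noncomputable def tauIso : (ModSite.tensorBi O).flip.obj (alg φ) ≅ pullF φ ⋙ res φ :=
  NatIso.ofComponents (fun M =>
    haveI := mono_tau φ M
    haveI := epi_tau φ M
    haveI : IsIso (tau φ M) := isIso_of_mono_of_epi _
    asIso (tau φ M)) fun {M N} g => tau_naturality φ M g

/-- Along a flat map, extension of scalars is exact. -/
theorem preservesFiniteLimits_pullF (hflat : ModSite.IsFlat (alg φ)) : PreservesFiniteLimits (pullF φ) := by
  have h : PreservesFiniteLimits (pullF φ ⋙ res φ) :=
    @preservesFiniteLimits_of_natIso _ _ _ _ _ _ (tauIso φ) hflat.1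
  have : (res φ).ReflectsIsomorphisms := SiteBase.reflectsIsomorphisms_restrictScalars _
  have := SiteBase.preservesLimitsOfSize_restrictScalars
    ((sheafCompose J (forget₂ CommRingCat.{u} RingCat.{u})).map φ)
  have : PreservesLimitsOfSize.{0, 0} (res φ) := preservesLimitsOfSize_shrink _
  refine ⟨fun K _ _ => ?_⟩
  haveI : ReflectsLimitsOfShape K (res φ) := reflectsLimitsOfShape_of_reflectsIsomorphisms
  exact preservesLimitsOfShape_of_reflects_of_preserves (pullF φ) (res φ)

section Restr

variable (V : C)

/-- The unit section on the slice. -/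
noncomputable def oneV : Sec ((ModSite.restr O V).obj (alg φ)) where
  val Z := (1 : O'.obj.obj (op Z.unop.left))
  map g := map_one (O'.obj.map g.unop.left.op).hom

lemma counit_shu (G : ModSite.Mod (O.over V)) {Z : (Over V)ᵒᵖ} (z : ((fg (O.over V)).obj G).obj Z) :
    ((fg (O.over V)).map ((counitIso (O.over V)).hom.app G)).app Z (shu ((fg (O.over V)).obj G) z) = z :=
  congrArg (fun t => t.app Z z) ((shAdj (O.over V)).right_triangle_components G)

lemma shRestrIso_hom_shu (P : P₀ O) {Z : (Over V)ᵒᵖ} (z : ((resP O.obj V).obj P).obj Z) :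
    ((fg (O.over V)).map ((shRestrIso O V).hom.app P)).app Z (shu (O := O.over V) ((resP O.obj V).obj P) z) =
      shu P (X := op Z.unop.left) z := by
  refine (congrArg (fun t => t.app Z (shu (O := O.over V) ((resP O.obj V).obj P) z)) ((fg (O.over V)).map_comp
    ((sh (O.over V)).map ((resP O.obj V).map ((shAdj O).unit.app P)))
    ((counitIso (O.over V)).app ((ModSite.restr O V).obj ((sh O).obj P))).hom)).trans ?_
  refine (congrArg (((fg (O.over V)).map ((counitIso (O.over V)).app ((ModSite.restr O V).obj ((sh O).obj P))).hom).app Z).hom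
    (shu_naturality (O := O.over V) ((resP O.obj V).map ((shAdj O).unit.app P)) z)).trans ?_
  exact counit_shu V _ _

/-- Restricted tensor products, on presheaves. -/
noncomputable def resTenHom (N : ModSite.Mod O) :
    ten ((ModSite.restr O V).obj M) ((ModSite.restr O V).obj N) ⟶
      (sh (O.over V)).obj ((resP O.obj V).obj ((fg O).obj M ⊗ (fg O).obj N)) :=
  (sh (O.over V)).map (resTensor ((fg O).obj M) ((fg O).obj N))

lemma fg_comp_apply {D : Type u} [SmallCategory D] {K : GrothendieckTopology D} {Q : Sheaf K CommRingCat.{u}}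
    {A B E : ModSite.Mod Q} (f : A ⟶ B) (g : B ⟶ E) {Z : Dᵒᵖ} (z : ((fg Q).obj A).obj Z) :
    ((fg Q).map (f ≫ g)).app Z z = ((fg Q).map g).app Z (((fg Q).map f).app Z z) := by
  rw [Functor.map_comp]
  rfl

lemma restrTensorIso_inv (N : ModSite.Mod O) :
    (restrTensorIso O V M N).inv = resTenHom M V N ≫ (shRestrIso O V).hom.app ((fg O).obj M ⊗ (fg O).obj N) := by
  rw [restrTensorIso, Iso.trans_inv, Iso.symm_inv, Iso.symm_inv]
  rfl

lemma restrTensorIso_inv_shT (N : ModSite.Mod O) {Z : (Over V)ᵒᵖ}
    (x : ((fg (O.over V)).obj ((ModSite.restr O V).obj M)).obj Z)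
    (y : ((fg (O.over V)).obj ((ModSite.restr O V).obj N)).obj Z) :
    ((fg (O.over V)).map (restrTensorIso O V M N).inv).app Z (shT _ _ x y) =
      shT M N (X := op Z.unop.left) x y := by
  rw [restrTensorIso_inv]
  refine (fg_comp_apply (Q := O.over V) (resTenHom M V N) ((shRestrIso O V).hom.app ((fg O).obj M ⊗ (fg O).obj N))
    (shT ((ModSite.restr O V).obj M) ((ModSite.restr O V).obj N) x y)).trans ?_
  have h1 : ((fg (O.over V)).map (resTenHom M V N)).app Z
      (shT ((ModSite.restr O V).obj M) ((ModSite.restr O V).obj N) x y) =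
      shu (O := O.over V) ((resP O.obj V).obj ((fg O).obj M ⊗ (fg O).obj N))
        ((resTensor ((fg O).obj M) ((fg O).obj N)).app Z
          (tm (R := (Over.forget V).op ⋙ O.obj) (P := (resP O.obj V).obj ((fg O).obj M))
            (M := (resP O.obj V).obj ((fg O).obj N)) x y)) := shu_naturality _ _
  refine (congrArg (((fg (O.over V)).map ((shRestrIso O V).hom.app ((fg O).obj M ⊗ (fg O).obj N))).app Z).hom
    h1).trans ?_
  refine (shRestrIso_hom_shu V ((fg O).obj M ⊗ (fg O).obj N) _).trans ?_
  rfl

/-- Restriction of the extension of scalars is a tensor product on the slice. -/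
noncomputable def restrTenIso : ModSite.restr O V ⋙
    (ModSite.tensorBi (O.over V)).flip.obj ((ModSite.restr O V).obj (alg φ)) ≅
      (ModSite.tensorBi O).flip.obj (alg φ) ⋙ ModSite.restr O V :=
  NatIso.ofComponents (fun M => (restrTensorIso O V M (alg φ)).symm) (fun {M N} g => shT_hom_ext fun Z x a => by
    rw [Functor.map_comp, Functor.map_comp]
    show ((fg (O.over V)).map (restrTensorIso O V N (alg φ)).inv).app Z
        (((fg (O.over V)).map (((ModSite.tensorBi (O.over V)).map ((ModSite.restr O V).map g)).app _)).app Z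
          (shT _ _ x a)) =
      ((fg O).map (((ModSite.tensorBi O).map g).app (alg φ))).app (op Z.unop.left)
        (((fg (O.over V)).map (restrTensorIso O V M (alg φ)).inv).app Z (shT _ _ x a))
    rw [shT_map_left, restrTensorIso_inv_shT, restrTensorIso_inv_shT, shT_map_left]
    rfl)

/-- Restriction of the extension of scalars is a tensor product on the slice. -/
noncomputable def restrIso : ModSite.restr O V ⋙
    (ModSite.tensorBi (O.over V)).flip.obj ((ModSite.restr O V).obj (alg φ)) ≅
      (pullF φ ⋙ res φ) ⋙ ModSite.restr O V :=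
  restrTenIso φ V ≪≫ Functor.isoWhiskerRight (tauIso φ) (ModSite.restr O V)

lemma unitApp_restrIso :
    unitApp (oneV φ V) ((ModSite.restr O V).obj M) ≫ (restrIso φ V).hom.app M =
      (ModSite.restr O V).map ((adjF φ).unit.app M) := by
  rw [← unitApp_tau, Functor.map_comp]
  show _ ≫ (restrTensorIso O V M (alg φ)).inv ≫ (ModSite.restr O V).map (tau φ M) = _
  refine (assoc _ _ _).symm.trans (congrArg (· ≫ (ModSite.restr O V).map (tau φ M)) ?_)
  refine hom_ext_app fun Z x => ?_
  rw [Functor.map_comp]
  show ((fg (O.over V)).map (restrTensorIso O V M (alg φ)).inv).app Z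
      (((fg (O.over V)).map (unitApp (oneV φ V) _)).app Z x) =
    ((fg O).map (unitApp (one φ) M)).app (op Z.unop.left) x
  rw [unitApp_app, unitApp_app, restrTensorIso_inv_shT]
  rfl

end Restr

end Groth.Agent.H9Misc.ExtScalar
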