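import Mathlib

/-! `Ext` along an isomorphism of rings, with the scalars. -/

set_option linter.style.haveILetI false

universe u

open CategoryTheory CategoryTheory.Limits

noncomputable section

namespace Groth.Agent.H9Misc.ExtSemilinear

theorem nonempty_restrict_ext_iso {R S : Type u} [CommRing R] [CommRing S] (e : R ≃+* S)
    (M N : ModuleCat.{u} S) (n : ℕ) :
    Nonempty ((ModuleCat.restrictScalars.{u} e.toRingHom).obj (ModuleCat.of S (Abelian.Ext.{u} M N n)) ≅
      ModuleCat.of R (Abelian.Ext.{u} ((ModuleCat.restrictScalars.{u} e.toRingHom).obj M)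
        ((ModuleCat.restrictScalars.{u} e.toRingHom).obj N) n)) := by
  let E := ModuleCat.restrictScalarsEquivalenceOfRingEquiv.{u} e
  let F := ModuleCat.restrictScalars.{u} e.toRingHom
  haveI : F.IsEquivalence := E.isEquivalence_functor
  haveI : F.PreservesProjectiveObjects := ⟨fun {P} hP =>
    (F.asEquivalence.map_projective_iff P).2 hP⟩
  haveI : PreservesFiniteLimits F := inferInstance
  haveI : PreservesFiniteColimits F := inferInstance
  have hb := F.mapExt_bijective_of_preservesProjectiveObjects M N n
  have hs : ∀ (r : R) (x : Abelian.Ext.{u} M N n),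
      F.mapExtAddHom M N n (e r • x) = r • F.mapExtAddHom M N n x := fun r x => by
    simp only [Functor.mapExtAddHom_apply, Abelian.Ext.smul_eq_comp_mk₀,
      Abelian.Ext.mapExactFunctor_comp, Abelian.Ext.mapExactFunctor_mk₀]
    congr 2
  exact ⟨({ AddEquiv.ofBijective (F.mapExtAddHom M N n) hb with map_smul' := hs } :
    ((ModuleCat.restrictScalars.{u} e.toRingHom).obj (ModuleCat.of S (Abelian.Ext.{u} M N n)) : ModuleCat.{u} R) ≃ₗ[R]
      Abelian.Ext.{u} (F.obj M) (F.obj N) n).toModuleIso⟩

end Groth.Agent.H9Misc.ExtSemilinear
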