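import Groth.Agent.H9Misc.SupportsTensor
import Groth.Agent.Lib.ExtShCoh
import Groth.Agent.SiteBase.Rpush
import Groth.Agent.ModTensor.SheafHom
import Groth.Prelude.Def_CohB1

/-! Local Ext sheaves with supports of modules supported in the closed set. -/

set_option linter.style.haveILetI false
set_option linter.unusedSectionVars false
set_option backward.isDefEq.respectTransparency false
set_option backward.isDefEq.respectTransparency.types false

universe u

open CategoryTheory CategoryTheory.Limits AlgebraicGeometry Opposite TopologicalSpace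

noncomputable section

namespace Groth.Agent.H9Misc.ExtZShSupp

open Groth.Agent SheafHomX ExtShShift

variable {X : Scheme.{u}}

theorem isZero_restr (U : X.Opens) (F : X.Modules) (h : ∀ x ∈ CohB1.support F, x ∉ (U : Set X)) :
    IsZero ((ModSite.restr X.sheaf U).obj F) := by
  rw [IsZero.iff_id_eq_zero]
  refine SheafOfModules.hom_ext (PresheafOfModules.hom_ext fun V => ModuleCat.hom_ext (LinearMap.ext fun s => ?_))
  have hV : ∀ x ∈ V.unop.left, Subsingleton (F.presheaf.stalk x) := fun x hx =>
    not_not.1 fun hn => h x hn (leOfHom V.unop.hom hx)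
  refine TopCat.Presheaf.section_ext (⟨F.presheaf, F.isSheaf⟩ : TopCat.Sheaf Ab X) V.unop.left _ _ fun x hx => ?_
  haveI := hV x hx
  exact Subsingleton.elim _ _

theorem isIso_quotOnπ (U : X.Opens) (F : X.Modules) (h : ∀ x ∈ CohB1.support F, x ∉ (U : Set X)) :
    IsIso ((ModSite.quotOnπ X.sheaf U).app F) := by
  have hz : IsZero ((ModSite.extZero X.sheaf U).obj ((ModSite.restr X.sheaf U).obj F)) :=
    Functor.map_isZero _ (isZero_restr U F h)
  exact cokernel.π_of_zero (f := (ModSite.extZeroAdj X.sheaf U).counit.app F) (hz.eq_of_src _ _)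

theorem nonempty_extZSh_iso (U : X.Opens) (F : X.Modules) (h : ∀ x ∈ CohB1.support F, x ∉ (U : Set X))
    [ModSite.HasSheafHom (O := X.sheaf) F] [HasInjectiveResolutions (ModSite.Mod X.sheaf)] (q : ℕ)
    (G : X.Modules) :
    Nonempty ((ModSite.extZSh (O := X.sheaf) U F q).obj G ≅ (ModSite.extSh (O := X.sheaf) F q).obj G) := by
  haveI : HasInjectiveResolutions X.Modules := ‹HasInjectiveResolutions (ModSite.Mod X.sheaf)›
  let Q : X.Modules := (ModSite.quotOn X.sheaf U).obj F
  haveI : ModSite.HasSheafHom (O := X.sheaf) Q := ModTensor.hasSheafHom _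
  let I : InjectiveResolution (C := X.Modules) G := InjectiveResolution.of G
  obtain ⟨a⟩ := ExtShShift.nonempty_extSh_iso I F q
  obtain ⟨b⟩ := ExtShShift.nonempty_extSh_iso I Q q
  haveI := isIso_quotOnπ U F h
  let p : F ⟶ Q := (ModSite.quotOnπ X.sheaf U).app F
  haveI : IsIso p := ‹_›
  have h1 : cxMap I p ≫ cxMap I (inv p) = 𝟙 _ := HomologicalComplex.hom_ext _ _ fun i => by
    show (homMap p).app _ ≫ (homMap (inv p)).app _ = 𝟙 _
    rw [← homMap_comp, IsIso.inv_hom_id, homMap_id]
  have h2 : cxMap I (inv p) ≫ cxMap I p = 𝟙 _ := HomologicalComplex.hom_ext _ _ fun i => by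
    show (homMap (inv p)).app _ ≫ (homMap p).app _ = 𝟙 _
    rw [← homMap_comp, IsIso.hom_inv_id, homMap_id]
  let c : cx I Q ≅ cx I F := ⟨cxMap I p, cxMap I (inv p), h1, h2⟩
  exact ⟨(SiteBase.rightDerivedCongr (SuppCore.sheafHomSectIso (O := X.sheaf) U F) q).app G ≪≫ b ≪≫
    HomologicalComplex.homologyMapIso c q ≪≫ a.symm⟩

end Groth.Agent.H9Misc.ExtZShSupp
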