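import Groth.Agent.H9Misc.QCohHull
import Groth.Agent.H9Misc.ExtZShSupp
import Groth.Agent.SiteBase.Horseshoe
import Groth.Agent.KFlatLib.Scheme.Grothendieck
import Groth.Agent.QCoh.ExtendFT
import Groth.Prelude.Def_DCoh2

/-! Derived functors preserving quasi-coherence. -/

set_option linter.style.haveILetI false
set_option linter.unusedSectionVars false
set_option backward.isDefEq.respectTransparency false
set_option backward.isDefEq.respectTransparency.types false

universe v v' w w' u

open CategoryTheory CategoryTheory.Limits AlgebraicGeometry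

noncomputable section

namespace Groth.Agent.H9Misc.QCohDerivedFun

open Groth.Agent

/-- Derived functors inherit a property closed under cokernels, given enough injectives with that property. -/
theorem prop_rightDerived {A : Type w} [Category.{v} A] [Abelian A] [HasInjectiveResolutions A]
    {B : Type w'} [Category.{v'} B] [Abelian B] (Φ : A ⥤ B) [Φ.Additive] [PreservesFiniteLimits Φ]
    (P : A → Prop) (Q : B → Prop) (hiso : ∀ {b b' : B}, (b ≅ b') → Q b → Q b')
    (hcok : ∀ {b b' : B} (f : b ⟶ b'), Q b → Q b' → Q (cokernel f))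
    (hemb : ∀ a, P a → ∃ (I : A) (m : a ⟶ I), Mono m ∧ Injective I ∧ P I ∧ P (cokernel m))
    (hΦ : ∀ a, P a → Q (Φ.obj a)) : ∀ (q : ℕ) (a : A), P a → Q ((Φ.rightDerived q).obj a) := by
  intro q
  induction q with
  | zero => exact fun a ha => hiso (Φ.rightDerivedZeroIsoSelf.app a).symm (hΦ a ha)
  | succ q ih =>
    intro a ha
    obtain ⟨I, m, hm, hI, hPI, hPC⟩ := hemb a ha
    haveI := hm
    haveI := hI
    let S : ShortComplex A := ShortComplex.mk m (cokernel.π m) (cokernel.condition m)
    have hS : S.ShortExact := { exact := ShortComplex.exact_cokernel m }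
    let Δ := SESResLib.derivedLES Φ
    have hz : IsZero ((Φ.rightDerived (q + 1)).obj S.X₂) := Φ.isZero_rightDerived_obj_injective_succ q I
    have h3 := Δ.exact₃ S hS q (q + 1) rfl
    haveI : Epi (Δ.δ S hS q (q + 1) rfl) := (Δ.exact₁ S hS q (q + 1) rfl).epi_f (hz.eq_of_tgt _ _)
    exact hiso (IsColimit.coconePointUniqueUpToIso (cokernelIsCokernel _) h3.gIsCokernel)
      (hcok _ (ih _ hPI) (ih _ hPC))

variable {X : Scheme.{u}} [IsLocallyNoetherian X]

/-- On a locally Noetherian scheme quasi-coherent modules embed into quasi-coherent injective modules. -/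
theorem exists_emb (M : X.Modules) (hM : Coh.IsQCoh M) :
    ∃ (I : X.Modules) (m : M ⟶ I), Mono m ∧ Injective I ∧ Coh.IsQCoh I ∧ Coh.IsQCoh (cokernel m) := by
  obtain ⟨H, b, e, -, -, hb, hess, hH⟩ := AbHull.exists_hull (Injective.ι M)
  haveI := hb
  haveI := hH
  have hq := QCohHull.isQCoh_hull hM b hess
  exact ⟨H, b, hb, hH, hq, QCoh.isQCoh_cokernel hM hq b⟩

theorem isQCoh_rightDerived {B : Type w'} [Category.{v'} B] [Abelian B] [HasInjectiveResolutions X.Modules]
    (Φ : X.Modules ⥤ B) [Φ.Additive] [PreservesFiniteLimits Φ] (Q : B → Prop)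
    (hiso : ∀ {b b' : B}, (b ≅ b') → Q b → Q b')
    (hcok : ∀ {b b' : B} (f : b ⟶ b'), Q b → Q b' → Q (cokernel f))
    (hΦ : ∀ a, Coh.IsQCoh a → Q (Φ.obj a)) (q : ℕ) (M : X.Modules) (hM : Coh.IsQCoh M) :
    Q ((Φ.rightDerived q).obj M) :=
  prop_rightDerived Φ (fun a => Coh.IsQCoh a) Q hiso hcok exists_emb hΦ q M hM

/-- The internal hom out of a coherent module preserves quasi-coherence. -/
theorem isQCoh_hom {F N : X.Modules} (hF : Coh.IsCoh F) (hN : Coh.IsQCoh N) :
    Coh.IsQCoh ((SheafHomX.hom F).obj N) := by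
  refine QCoh.isQCoh_of_charts fun R j _ => ?_
  haveI : IsLocallyNoetherian (Spec R) := LocallyOfFiniteType.isLocallyNoetherian j
  haveI : IsNoetherianRing R := isLocallyNoetherian_Spec.1 ‹_›
  obtain ⟨σ, τ, _, _, f, g, w, hg, he⟩ :=
    SheafHomX.exists_presentation_biproduct (SheafHomX.isCoh_restrict j hF)
  have h := (SheafHomX.isQCoh_hom_of_presentation f g w he (QCoh.isQCoh_restrict j hN)).1
  exact (QCoh.isQCoh_iff_iso ((SheafHomX.restrictIso j F).app N).symm).1 h

theorem restr_map_eq_zero_iff (U : X.Opens) {T H : X.Modules} (t : T ⟶ H) :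
    (ModSite.restr X.sheaf U).map t = 0 ↔ (Scheme.Modules.restrictFunctor U.ι).map t = 0 := by
  constructor
  · intro h
    refine Scheme.Modules.hom_ext _ _ fun W => ?_
    ext s
    have hle : U.ι ''ᵁ W ≤ U := by
      rintro x ⟨y, -, rfl⟩
      exact y.2
    exact congrArg (fun z => (z.val.app (Opposite.op (Over.mk (homOfLE hle)))).hom s) h
  · intro h
    refine SheafOfModules.hom_ext (PresheafOfModules.hom_ext fun V => ModuleCat.hom_ext (LinearMap.ext fun s => ?_))
    obtain ⟨W, hW⟩ : ∃ W : (U : Scheme.{u}).Opens, U.ι ''ᵁ W = V.unop.left :=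
      ⟨U.ι ⁻¹ᵁ V.unop.left, by
        rw [U.ι.image_preimage_eq_opensRange_inf, Scheme.Opens.opensRange_ι, inf_eq_right]
        exact leOfHom V.unop.hom⟩
    have key : ∀ (O : X.Opens), U.ι ''ᵁ W = O → ∀ y : Γ(T, O), t.app O y = 0 := by
      rintro O rfl y
      exact congr(($h).app W y)
    exact key _ hW s

theorem comp_unit_eq_zero_iff {C D : Type*} [Category C] [Category D] [Preadditive C] [Preadditive D]
    {L : C ⥤ D} {R : D ⥤ C} [L.Additive] [R.Additive] (adj : L ⊣ R) {T H : C} (t : T ⟶ H) :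
    t ≫ adj.unit.app H = 0 ↔ L.map t = 0 := by
  have hn : t ≫ adj.unit.app H = adj.unit.app T ≫ R.map (L.map t) := adj.unit.naturality t
  refine ⟨fun h => ?_, fun h => by rw [hn, h, R.map_zero, comp_zero]⟩
  have := congrArg (fun z => L.map z ≫ adj.counit.app (L.obj H)) h
  simpa using this

/-- Sections supported in the complement of an open, in two formulations. -/
def sectOnIso (U : X.Opens) (H : X.Modules) :
    (ModSite.sectOn X.sheaf U).obj H ≅ (DCoh.gammaZ U.ι).obj H :=
  haveI : (ModSite.restr X.sheaf U).Additive := inferInstance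
  haveI : (Scheme.Modules.restrictFunctor U.ι).Additive := Functor.additive_of_preserves_binary_products _
  haveI : (ModSite.pushOver X.sheaf U).Additive := (ModSite.restrPushOverAdj X.sheaf U).right_adjoint_additive
  haveI : (Scheme.Modules.pushforward U.ι).Additive :=
    (Scheme.Modules.restrictAdjunction U.ι).right_adjoint_additive
  let a := (ModSite.restrPushOverAdj X.sheaf U).unit.app H
  let b := (Scheme.Modules.restrictAdjunction U.ι).unit.app H
  have ha : kernel.ι a ≫ b = 0 := (comp_unit_eq_zero_iff (Scheme.Modules.restrictAdjunction U.ι) _).2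
    ((restr_map_eq_zero_iff U (T := kernel a) (H := H) (kernel.ι a)).1
      ((comp_unit_eq_zero_iff (ModSite.restrPushOverAdj X.sheaf U) _).1 (kernel.condition a)))
  have hb : kernel.ι b ≫ a = 0 := (comp_unit_eq_zero_iff (ModSite.restrPushOverAdj X.sheaf U) _).2
    ((restr_map_eq_zero_iff U (kernel.ι b)).2
      ((comp_unit_eq_zero_iff (Scheme.Modules.restrictAdjunction U.ι) _).1 (kernel.condition b)))
  { hom := kernel.lift b (kernel.ι a) ha
    inv := kernel.lift a (kernel.ι b) hb
    hom_inv_id := equalizer.hom_ext (((Category.assoc _ _ _).trans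
      ((congrArg (kernel.lift b (kernel.ι a) ha ≫ ·) (kernel.lift_ι a (kernel.ι b) hb)).trans
        (kernel.lift_ι b (kernel.ι a) ha))).trans (Category.id_comp _).symm)
    inv_hom_id := equalizer.hom_ext (((Category.assoc _ _ _).trans
      ((congrArg (kernel.lift a (kernel.ι b) hb ≫ ·) (kernel.lift_ι b (kernel.ι a) ha)).trans
        (kernel.lift_ι a (kernel.ι b) hb))).trans (Category.id_comp _).symm) }

theorem isQCoh_sectOn (U : X.Opens) (H : X.Modules) (hH : Coh.IsQCoh H) :
    Coh.IsQCoh ((ModSite.sectOn X.sheaf U).obj H) := by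
  haveI : QuasiCompact U.ι := inferInstance
  exact (QCoh.isQCoh_iff_iso (sectOnIso U H)).2
    (QCoh.isQCoh_kernel hH (QCoh.isQCoh_pushforward U.ι (QCoh.isQCoh_restrict U.ι hH)) _)

/-- Local Ext sheaves with supports of a coherent and a quasi-coherent module are quasi-coherent. -/
theorem isQCoh_extZSh (U : X.Opens) {F G : X.Modules} (hF : Coh.IsCoh F) (hG : Coh.IsQCoh G)
    [ModSite.HasSheafHom (O := X.sheaf) F] [HasInjectiveResolutions (ModSite.Mod X.sheaf)] (i : ℕ) :
    Coh.IsQCoh ((ModSite.extZSh (O := X.sheaf) U F i).obj G) := by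
  haveI : HasInjectiveResolutions X.Modules := ‹HasInjectiveResolutions (ModSite.Mod X.sheaf)›
  let Φ : X.Modules ⥤ X.Modules := ModSite.sheafHom (O := X.sheaf) F ⋙ ModSite.sectOn X.sheaf U
  haveI : Φ.IsRightAdjoint :=
    ((SuppCore.quotSectAdj (O := X.sheaf) U).comp (ModSite.sheafHomAdj (O := X.sheaf) F)).isRightAdjoint
  haveI : PreservesFiniteLimits Φ := inferInstance
  haveI : Φ.Additive :=
    ((SuppCore.quotSectAdj (O := X.sheaf) U).comp (ModSite.sheafHomAdj (O := X.sheaf) F)).right_adjoint_additive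
  refine isQCoh_rightDerived Φ (fun a => Coh.IsQCoh a) (fun e h => (QCoh.isQCoh_iff_iso e).1 h)
    (fun f h h' => QCoh.isQCoh_cokernel h h' f) (fun a ha => isQCoh_sectOn U _ ?_) i G hG
  exact (QCoh.isQCoh_iff_iso ((((ModSite.sheafHomAdj (O := X.sheaf) F).rightAdjointUniq (SheafHomX.adj F))).app a)).2
    (isQCoh_hom hF ha)

end Groth.Agent.H9Misc.QCohDerivedFun
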