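import Groth.Agent.H9Misc.ExtSuppVanish
import Groth.Agent.H9Misc.ExtZShSupp
import Groth.Agent.H9Misc.QCohDerivedFun
import Groth.Agent.QCoh.SubCompare

/-! Coherence of local Ext sheaves with supports by splitting off the part supported in the closed set. -/

set_option linter.style.haveILetI false
set_option linter.unusedSectionVars false
set_option backward.isDefEq.respectTransparency false
set_option backward.isDefEq.respectTransparency.types false
set_option maxHeartbeats 800000

universe u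

open CategoryTheory CategoryTheory.Limits AlgebraicGeometry TopologicalSpace

noncomputable section

namespace Groth.Agent.H9Misc.ExtSuppCoh

open Groth.Agent SheafHomX

variable {X : Scheme.{u}} (U : X.Opens)

/-- `F/F_U`, as an endofunctor of modules. -/
abbrev Q : X.Modules ⥤ X.Modules := ModSite.quotOn X.sheaf U

theorem shortExact_Q {S : ShortComplex X.Modules} (hS : S.ShortExact) :
    ∃ w, (ShortComplex.mk ((Q U).map S.f) ((Q U).map S.g) w).ShortExact := by
  haveI : (Q U).Additive := inferInstanceAs (ModSite.quotOn X.sheaf U).Additive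
  haveI : (Q U).IsLeftAdjoint := inferInstanceAs (ModSite.quotOn X.sheaf U).IsLeftAdjoint
  haveI := hS.mono_f
  haveI : (Q U).PreservesMonomorphisms := inferInstanceAs (ModSite.quotOn X.sheaf U).PreservesMonomorphisms
  haveI : PreservesFiniteColimits (Q U) := inferInstance
  have h := ((Functor.preservesFiniteColimits_iff_forall_exact_map_and_epi (Q U)).1 inferInstance S hS)
  haveI := h.2
  exact ⟨_, { exact := h.1, mono_f := inferInstanceAs (Mono ((Q U).map S.f)), epi_g := h.2 }⟩

theorem nonempty_extZSh_iso (F : X.Modules) [ModSite.HasSheafHom (O := X.sheaf) F]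
    [HasInjectiveResolutions (ModSite.Mod X.sheaf)] {G : X.Modules} (I : InjectiveResolution (C := X.Modules) G)
    (q : ℕ) :
    Nonempty ((ModSite.extZSh (O := X.sheaf) U F q).obj G ≅ (ExtShShift.cx I ((Q U).obj F)).homology q) := by
  haveI : HasInjectiveResolutions X.Modules := ‹HasInjectiveResolutions (ModSite.Mod X.sheaf)›
  haveI : ModSite.HasSheafHom (O := X.sheaf) ((Q U).obj F) := ModTensor.hasSheafHom _
  obtain ⟨b⟩ := ExtShShift.nonempty_extSh_iso I ((Q U).obj F) q
  exact ⟨(SiteBase.rightDerivedCongr (SuppCore.sheafHomSectIso (O := X.sheaf) U F) q).app G ≪≫ b⟩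

/-- If the local Ext sheaf of the quotient vanishes, that of the module embeds into that of the submodule. -/
theorem exists_mono {S : ShortComplex X.Modules} (hS : S.ShortExact)
    [ModSite.HasSheafHom (O := X.sheaf) S.X₁] [ModSite.HasSheafHom (O := X.sheaf) S.X₂]
    [ModSite.HasSheafHom (O := X.sheaf) S.X₃] [HasInjectiveResolutions (ModSite.Mod X.sheaf)] (q : ℕ)
    (G : X.Modules) (hz : IsZero ((ModSite.extZSh (O := X.sheaf) U S.X₃ q).obj G)) :
    ∃ f : (ModSite.extZSh (O := X.sheaf) U S.X₂ q).obj G ⟶ (ModSite.extZSh (O := X.sheaf) U S.X₁ q).obj G,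
      Mono (C := X.Modules) f := by
  haveI : HasInjectiveResolutions X.Modules := ‹HasInjectiveResolutions (ModSite.Mod X.sheaf)›
  let I : InjectiveResolution (C := X.Modules) G := InjectiveResolution.of G
  obtain ⟨e₁⟩ := nonempty_extZSh_iso U S.X₁ I q
  obtain ⟨e₂⟩ := nonempty_extZSh_iso U S.X₂ I q
  obtain ⟨e₃⟩ := nonempty_extZSh_iso U S.X₃ I q
  obtain ⟨w, hQ⟩ := shortExact_Q U hS
  obtain ⟨w', hC⟩ := ExtShShift.exists_shortExact I hQ
  haveI : Mono (HomologicalComplex.homologyMap (ExtShShift.cxMap I ((Q U).map S.f)) q) :=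
    (hC.homology_exact₂ q).mono_g ((hz.of_iso e₃.symm).eq_of_src _ _)
  exact ⟨e₂.hom ≫ HomologicalComplex.homologyMap (ExtShShift.cxMap I ((Q U).map S.f)) q ≫ e₁.inv,
    inferInstance⟩

theorem stalk_eq_zero {F : X.Modules} (W : X.Opens) (h : ∀ y ∈ W, y ∉ CohB1.support F) (s : Γ(F, W)) : s = 0 :=
  TopCat.Presheaf.section_ext (⟨F.presheaf, F.isSheaf⟩ : TopCat.Sheaf Ab X) W s 0 fun y hy =>
    @Subsingleton.elim _ (not_not.1 (h y hy)) _ _

theorem isZero_stalk_pushforward (F : X.Modules) (x : X) (hx : x ∉ closure (CohB1.support F ∩ (U : Set X))) :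
    IsZero ((DerSch.stalkFunctor X x).obj
      ((Scheme.Modules.pushforward U.ι).obj ((Scheme.Modules.restrictFunctor U.ι).obj F))) := by
  let P := (Scheme.Modules.pushforward U.ι).obj ((Scheme.Modules.restrictFunctor U.ι).obj F)
  refine ModuleCat.isZero_of_iff_subsingleton.2 (subsingleton_of_forall_eq 0 fun z => ?_)
  obtain ⟨O, hxO, s, rfl⟩ := TopCat.Presheaf.exists_germ_eq P.presheaf z
  let O' : X.Opens := O ⊓ ⟨(closure (CohB1.support F ∩ (U : Set X)))ᶜ, isClosed_closure.isOpen_compl⟩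
  rw [← TopCat.Presheaf.germ_res_apply P.presheaf (homOfLE inf_le_left : O' ⟶ O) x ⟨hxO, hx⟩ s]
  have h0 : ∀ t : Γ(P, O'), t = 0 := fun t => by
    refine stalk_eq_zero (F := F) (U.ι ''ᵁ (U.ι ⁻¹ᵁ O')) ?_ t
    rintro _ ⟨y, hy, rfl⟩ hys
    exact hy.2 (subset_closure ⟨hys, y.2⟩)
  exact (congrArg _ (h0 _)).trans (map_zero _)

variable [IsLocallyNoetherian X]

/-- The splitting of a coherent module. -/
theorem exists_split {F : X.Modules} (hF : Coh.IsCoh F) :
    ∃ S : ShortComplex X.Modules, S.ShortExact ∧ S.X₂ = F ∧ Coh.IsCoh S.X₁ ∧ Coh.IsCoh S.X₃ ∧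
      (∀ x ∈ CohB1.support S.X₁, x ∉ (U : Set X)) ∧
      CohB1.support S.X₃ ⊆ closure (CohB1.support F ∩ (U : Set X)) := by
  let L := Scheme.Modules.restrictFunctor U.ι
  haveI : L.Additive := Functor.additive_of_preserves_binary_products _
  haveI : (Scheme.Modules.pushforward U.ι).Additive :=
    (Scheme.Modules.restrictAdjunction U.ι).right_adjoint_additive
  let b := (Scheme.Modules.restrictAdjunction U.ι).unit.app F
  haveI : QuasiCompact U.ι := inferInstance
  let i : kernel b ⟶ F := kernel.ι b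
  have hK : Coh.IsCoh (kernel b) :=
    QCoh.isCoh_of_mono i hF (QCoh.isQCoh_kernel hF.1 (QCoh.isQCoh_pushforward U.ι (QCoh.isQCoh_restrict U.ι hF.1)) b)
  let S := ShortComplex.mk i (cokernel.π i) (cokernel.condition i)
  have hS : S.ShortExact := { exact := ShortComplex.exact_cokernel i }
  refine ⟨S, hS, rfl, hK, QCoh.isCoh_cokernel hK.1 hF i, fun x hx hxU => ?_, fun x hx => ?_⟩
  · refine hx (not_not.1 fun h => ?_)
    have hLi : L.map i = 0 := (QCohDerivedFun.comp_unit_eq_zero_iff (Scheme.Modules.restrictAdjunction U.ι) i).1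
      (kernel.condition b)
    refine h (subsingleton_of_forall_eq 0 fun z => ?_)
    obtain ⟨O, hxO, s, rfl⟩ := TopCat.Presheaf.exists_germ_eq (kernel b).presheaf z
    refine ExtSuppStalk.injective_stalk_map i x ?_
    rw [map_zero]
    refine (TopCat.Presheaf.stalkFunctor_map_germ_apply (F := (kernel b).presheaf) (G := F.presheaf)
      O x hxO i.mapPresheaf s).trans ?_
    have hle : U.ι ''ᵁ (U.ι ⁻¹ᵁ O) ≤ O := by
      rintro _ ⟨y, hy, rfl⟩
      exact hy
    have hxO' : x ∈ U.ι ''ᵁ (U.ι ⁻¹ᵁ O) := ⟨⟨x, hxU⟩, hxO, rfl⟩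
    rw [← TopCat.Presheaf.germ_res_apply F.presheaf (homOfLE hle) x hxO']
    have h0 : F.presheaf.map (homOfLE hle).op (i.app O s) = 0 := by
      rw [← QCoh.map_app_comm]
      exact congr(($hLi).app (U.ι ⁻¹ᵁ O) ((kernel b).presheaf.map (homOfLE hle).op s))
    exact (congrArg _ h0).trans (map_zero _)
  · by_contra hx'
    refine hx ?_
    let T := DerSch.stalkFunctor X x
    haveI : Epi (T.map i) := by
      have h1 : (ShortComplex.mk i b (kernel.condition b)).Exact := ShortComplex.exact_kernel b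
      exact (h1.map T).epi_f ((isZero_stalk_pushforward U F x hx').eq_of_tgt _ _)
    have h2 : IsZero (T.obj S.X₃) := by
      refine IsZero.of_epi_eq_zero (T.map (cokernel.π i)) ?_
      refine zero_of_epi_comp (T.map i) ?_
      rw [← T.map_comp, cokernel.condition, T.map_zero]
    exact ModuleCat.subsingleton_of_isZero h2

/-- Coherence from the vanishing for the part not supported in the closed set. -/
theorem isCoh_extZSh {F G : X.Modules} (hF : Coh.IsCoh F) (hG : Coh.IsCoh G)
    [ModSite.HasSheafHom (O := X.sheaf) F] [HasInjectiveResolutions (ModSite.Mod X.sheaf)] (q : ℕ)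
    (h : ∀ (N : X.Modules) [ModSite.HasSheafHom (O := X.sheaf) N], Coh.IsCoh N →
      CohB1.support N ⊆ closure (CohB1.support F ∩ (U : Set X)) →
        IsZero ((ModSite.extZSh (O := X.sheaf) U N q).obj G)) :
    Coh.IsCoh ((ModSite.extZSh (O := X.sheaf) U F q).obj G) := by
  obtain ⟨S, hS, hS₂, h₁, h₃, hs₁, hs₃⟩ := exists_split U hF
  subst hS₂
  haveI : ModSite.HasSheafHom (O := X.sheaf) S.X₁ := ModTensor.hasSheafHom _
  haveI : ModSite.HasSheafHom (O := X.sheaf) S.X₃ := ModTensor.hasSheafHom _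
  obtain ⟨f, hf⟩ := exists_mono U hS q G (h S.X₃ h₃ hs₃)
  haveI := hf
  obtain ⟨e⟩ := ExtZShSupp.nonempty_extZSh_iso U S.X₁ hs₁ q G
  exact QCoh.isCoh_of_mono f (SheafHomX.isCoh_of_iso e.symm (ExtShCoh.isCoh_extSh h₁ hG q))
    (QCohDerivedFun.isQCoh_extZSh U hF hG.1 q)

end Groth.Agent.H9Misc.ExtSuppCoh
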