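import Groth.Agent.H9Misc.ExtSuppVanish
import Groth.Agent.S12885
import Groth.Agent.QCoh.Support

/-! `ℰxt^i_Z(N, G)` below the depth of `G` on the support of `N`. -/

set_option linter.style.haveILetI false
set_option linter.unusedSectionVars false
set_option backward.isDefEq.respectTransparency false
set_option backward.isDefEq.respectTransparency.types false

universe u

open CategoryTheory CategoryTheory.Limits AlgebraicGeometry TopologicalSpace

noncomputable section

namespace Groth.Agent.H9Misc.ExtSuppDepth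

open Groth.Agent ExtSuppStalk ExtSuppVanish

theorem isZero_extZSh {X : Scheme.{u}} [IsLocallyNoetherian X] (U : X.Opens) {N G : X.Modules}
    (hN : Coh.IsCoh N) (hG : Coh.IsCoh G) (n : ℕ)
    [ModSite.HasSheafHom (O := X.sheaf) N] [HasInjectiveResolutions (ModSite.Mod X.sheaf)]
    (hd : ∀ x ∈ CohB1.support N, x ∉ (U : Set X) →
      (n : ℕ∞) ≤ LocCoh.depth (X.presheaf.stalk x) (G.presheaf.stalk x))
    (i : ℕ) (hi : i < n) : IsZero ((ModSite.extZSh (O := X.sheaf) U N i).obj G) := by
  haveI : ∀ M : X.Modules, ModSite.HasSheafHom (O := X.sheaf) M := fun M => ModTensor.hasSheafHom M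
  refine isZero_extZSh' U hN hG.1 i fun x m _ _ => ?_
  have hK := isCoh_K U m hN
  let U' : X.Opens := ⟨(CohB1.support (K U N m))ᶜ, (QCoh.isClosed_support_of_isFT hK.1 hK.2).isOpen_compl⟩
  have hd' : ∀ y : X, y ∉ (U' : Set X) → (n : ℕ∞) ≤ LocCoh.depth (X.presheaf.stalk y) (G.presheaf.stalk y) :=
    fun y hy => hd y (support_K_subset U hN m (not_not.1 hy)).1 (support_K_subset U hN m (not_not.1 hy)).2
  exact (ExtShLocal.isZero_extSh_iff_stalk hK hG.1 i).1
    ((Groth.Agent.S12885.result X U' G hG n).1 hd' (K U N m) hK (fun y hy h => h hy) i hi) x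

end Groth.Agent.H9Misc.ExtSuppDepth
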