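import Groth.Agent.H9Misc.StalkHomExt
import Groth.Agent.H28.PushLocFree
import Groth.Agent.KFlatLib.Perfect.FiniteType
import Groth.Agent.KFlatLib.Perfect.Tensor

/-! Stalks of local Ext sheaves of coherent modules. -/

set_option linter.style.haveILetI false
set_option linter.unusedSectionVars false
set_option backward.isDefEq.respectTransparency false
set_option backward.isDefEq.respectTransparency.types false

universe u

open CategoryTheory CategoryTheory.Limits AlgebraicGeometry

noncomputable section

namespace Groth.Agent.H9Misc.StalkHomExt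

open Groth.Agent Groth.Agent.SheafHomX ExtShShift

attribute [local instance] QCoh.hasFiniteBiproducts

variable {X : Scheme.{u}} {G : X.Modules} (I : InjectiveResolution G)

theorem nonempty_step {R : CommRingCat.{u}} [IsNoetherianRing R] (j : Spec R ⟶ X) [IsOpenImmersion j]
    (y : Spec R) (M : X.Modules) (hM : Coh.IsCoh (M.restrict j)) :
    Nonempty (HomEvalExt.Step (pairing (j y)) I (fun A : X.Modules => Coh.IsCoh (A.restrict j)) M) := by
  let Rf := Scheme.Modules.restrictFunctor j
  haveI : Rf.Additive := Functor.additive_of_preserves_binary_products _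
  haveI := ExtShLocal.preservesHomology_restrict j
  haveI : IsLocallyNoetherian (Spec R) := isLocallyNoetherian_Spec.2 ‹_›
  obtain ⟨σ, _, φ₀, hφ₀⟩ := ExtShLocal.exists_free_epi hM
  haveI := hφ₀
  let n := Fintype.card σ
  let e₀ : FlatMod.freeMod (Spec R) n ≅ ⨁ fun _ : σ => Coh.structureModule (Spec R) :=
    Sigma.whiskerEquiv (f := fun _ : Fin n => Coh.structureModule (Spec R))
      (g := fun _ : σ => Coh.structureModule (Spec R)) (Fintype.equivFin σ).symm (fun _ => Iso.refl _) ≪≫
      (biproduct.isoCoproduct _).symm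
  let φ : FlatMod.freeMod (Spec R) n ⟶ Rf.obj M := e₀.hom ≫ φ₀
  haveI hφ : Epi φ := inferInstanceAs (Epi (e₀.hom ≫ φ₀))
  let F : X.Modules := (KFlatLib.lsh j).obj (FlatMod.freeMod (Spec R) n)
  let p : F ⟶ M := ((KFlatLib.lshAdj j).homEquiv _ _).symm φ
  haveI : Epi (Rf.map p) := by
    have h : (KFlatLib.lshAdj j).unit.app _ ≫ Rf.map p = φ :=
      ((KFlatLib.lshAdj j).homEquiv_unit _ _ _).symm.trans (Equiv.apply_symm_apply _ _)
    haveI : Epi ((KFlatLib.lshAdj j).unit.app (FlatMod.freeMod (Spec R) n) ≫ Rf.map p) := by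
      rw [h]; exact hφ
    exact epi_of_epi ((KFlatLib.lshAdj j).unit.app (FlatMod.freeMod (Spec R) n)) _
  let S : ShortComplex X.Modules :=
    ShortComplex.mk (kernel.ι p) (cokernel.π (kernel.ι p)) (cokernel.condition _)
  have hS : S.ShortExact := { exact := ShortComplex.exact_cokernel _ }
  let f : S.X₃ ⟶ M := cokernel.desc (kernel.ι p) p (kernel.condition p)
  haveI : Mono f := inferInstanceAs (Mono (Abelian.factorThruCoimage p))
  haveI : IsIso (Rf.map f) := by
    haveI : Epi (Rf.map S.g ≫ Rf.map f) := by
      rw [← Functor.map_comp, show S.g ≫ f = p from cokernel.π_desc _ _ _]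
      infer_instance
    haveI : Epi (Rf.map f) := epi_of_epi (Rf.map S.g) _
    haveI : Mono (Rf.map f) := inferInstance
    exact isIso_of_mono_of_epi _
  let g : F ⟶ FlatMod.freeMod X n := ((KFlatLib.lshAdj j).homEquiv _ _).symm (QCoh.freeModRestrict j n).inv
  haveI : IsIso (Rf.map g) := SheafHomY.isIso_restrict_lsh_desc j (QCoh.freeModRestrict j n).symm
  have hker : Coh.IsCoh (S.X₁.restrict j) := by
    refine SheafHomX.isCoh_of_iso (PreservesKernel.iso Rf p).symm (QCoh.isCoh_kernel ?_ hM _)
    exact SheafHomX.isCoh_of_iso ((asIso (Rf.map g)) ≪≫ QCoh.freeModRestrict j n).symm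
      (H28.PushLocFree.isCoh_of_isFinLocFree (KFlatLib.isFinLocFree_freeMod n))
  refine ⟨{ S := S, hS := hS, mem := hker, f := f, isoT := isIso_stalk_map j y f, isoCx := fun q => ?_,
            evIso := ?_, cxZero := fun q => ?_, proj := ?_,
            shortExactT := fun w => hS.map_of_exact (DerSch.stalkFunctor X (j y)),
            exact₃ := fun w hc q z => (hc.homology_exact₃ q (q + 1) rfl).map (DerSch.stalkFunctor X (j y)),
            exact₁ := fun w hc q z => (hc.homology_exact₁ q (q + 1) rfl).map (DerSch.stalkFunctor X (j y)) }⟩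
  · haveI := isIso_restrict_homologyMap j I f q
    exact isIso_stalk_map j y _
  · refine (isIso_ev_of_restrict j y G g).2 ?_
    haveI := isIso_ev_unit (j y) G
    exact HomEval.isIso_ev_freeMod (pairing (j y)) G n
  · haveI := isIso_restrict_homologyMap j I g (q + 1)
    haveI := isIso_stalk_map j y (HomologicalComplex.homologyMap (cxMap I g) (q + 1))
    refine IsZero.of_iso ?_ (asIso ((DerSch.stalkFunctor X (j y)).map
      (HomologicalComplex.homologyMap (cxMap I g) (q + 1)))).symm
    refine (DerSch.stalkFunctor X (j y)).map_isZero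
      (ExtShShift.isZero_of_exact I (FlatMod.freeMod X n) (fun u hu => ?_) q)
    haveI := SheafHomY.preservesFiniteColimits_hom (KFlatLib.isFinLocFree_freeMod (X := X) n)
    haveI := hu
    infer_instance
  · haveI := projective_freeMod (j y) n
    haveI := isIso_stalk_map j y g
    exact Projective.of_iso (asIso ((DerSch.stalkFunctor X (j y)).map g)).symm inferInstance

/-- The stalk of a local Ext sheaf of a coherent module is the Ext of the stalks. -/
theorem nonempty_ext [IsLocallyNoetherian X] (x : X) (M : X.Modules) (hM : Coh.IsCoh M) (q : ℕ) :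
    Nonempty ((DerSch.stalkFunctor X x).obj ((cx I M).homology q) ≅
      ModuleCat.of (X.presheaf.stalk x) (Abelian.Ext.{u} ((DerSch.stalkFunctor X x).obj M)
        ((DerSch.stalkFunctor X x).obj G) q)) := by
  obtain ⟨V, hV, hxV⟩ := ExtShLocal.exists_affine x
  let j : Spec Γ(X, V) ⟶ X := hV.fromSpec
  haveI : IsLocallyNoetherian (Spec Γ(X, V)) := LocallyOfFiniteType.isLocallyNoetherian j
  haveI : IsNoetherianRing Γ(X, V) := isLocallyNoetherian_Spec.1 ‹_›
  obtain ⟨y, rfl⟩ : x ∈ Set.range j := hV.range_fromSpec.ge hxV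
  exact HomEvalExt.nonempty_ext (pairing (j y)) I (fun A hA => nonempty_step I j y A hA) q M
    (SheafHomX.isCoh_restrict j hM)

end Groth.Agent.H9Misc.StalkHomExt
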