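import Groth.Agent.EtFound.ExtZeroConstr
import Groth.Agent.EtModWLib.Constr
import Groth.Agent.EtModWLib.Noeth.Main
import Groth.Agent.SiteBase.FTConst.WeakSerre
import Groth.Prelude.Def_SixF2

/-!
# Extensions by zero of constructible sheaves of modules along etale morphisms
-/

set_option autoImplicit false

universe u

open CategoryTheory CategoryTheory.Limits AlgebraicGeometry Opposite Topology

namespace Groth.Agent.H9Misc.ExtZeroModConstr

open Groth.Agent.EtFound (ptOf ptOf_map hom_ptOf base_of_point PtsOver extLiftPt projPt projElt extLiftPt_projElt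
  extZeroι extZeroι_germ extZeroCofanIsColimit bcFiberEquiv sheafFiberPullIso sheafFiberPullIso_germ exists_lift_point
  finite_ptsOver exists_geomPoint isConstructible_preimage_affine isConstructible_image_over' exists_immersion_range
  eq_of_specializes etale_left exists_algClosed_point exists_forall_eq ConstBy)
open Groth.Agent.EtModWLib (IsPiece exists_pieces pullPushAdj)
open Groth.Agent.FTConst (Chart exists_chart exists_forall_rep isFTLocConst_of_charts)

set_option backward.isDefEq.respectTransparency.types false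

variable {Λ : Type (u + 1)} [CommRing Λ]

/-- A point over a field in the image of an immersion factors through it. -/
theorem exists_lift_immersion {T U : Scheme.{u}} (g : T ⟶ U) [IsImmersion g] {k : Type u} [Field k]
    (η : Spec (CommRingCat.of k) ⟶ U) (h : η.base (default : Spec (CommRingCat.of k)) ∈ Set.range g.base) :
    ∃ l : Spec (CommRingCat.of k) ⟶ T, l ≫ g = η := by
  let q := pullback.snd g η
  haveI : IsImmersion q := MorphismProperty.pullback_snd _ _ ‹_›
  have hs : Function.Surjective q.base := fun x => by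
    obtain ⟨t, ht⟩ := h
    obtain ⟨p, -, hp⟩ := Scheme.Pullback.exists_preimage_pullback (f := g) (g := η) t x
      (ht.trans (congrArg η.base (Subsingleton.elim _ _)))
    exact ⟨p, hp⟩
  haveI : IsClosedImmersion q := by
    refine IsClosedImmersion.of_isPreimmersion q ?_
    rw [hs.range_eq]
    exact isClosed_univ
  haveI : Surjective q := ⟨hs⟩
  haveI : IsIso q := isIso_of_isClosedImmersion_of_surjective q
  refine ⟨inv q ≫ pullback.fst g η, ?_⟩
  rw [Category.assoc, pullback.condition, IsIso.inv_hom_id_assoc]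

/-- Germs of the inverse image, through an isomorphism of stalks. -/
theorem bijective_pull_iff {T X : Scheme.{u}} (g : T ⟶ X) {F : EtModW.Mod Λ X} {V : X.Etale} {M : ModuleCat.{u + 1} Λ}
    (φ : M ⟶ F.obj.obj (op V)) {k : Type u} [Field k] [IsSepClosed k] (η : Spec (CommRingCat.of k) ⟶ T)
    (z : (Scheme.pointSmallEtale η).fiber.obj ((EtCoh.bc g).obj V)) :
    Function.Bijective ((φ ≫ ((pullPushAdj Λ g).unit.app F).hom.app (op V)) ≫
        (Scheme.pointSmallEtale η).toPresheafFiber ((EtCoh.bc g).obj V) z ((EtModW.pull Λ g).obj F).obj) ↔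
      Function.Bijective (φ ≫
        (Scheme.pointSmallEtale (η ≫ g)).toPresheafFiber V (bcFiberEquiv g η V z) F.obj) := by
  let i := (sheafFiberPullIso (A := ModuleCat.{u + 1} Λ) g η).app F
  have hb : Function.Bijective i.inv := (ConcreteCategory.isIso_iff_bijective i.inv).1 inferInstance
  have e : (φ ≫ ((pullPushAdj Λ g).unit.app F).hom.app (op V)) ≫
      (Scheme.pointSmallEtale η).toPresheafFiber ((EtCoh.bc g).obj V) z ((EtModW.pull Λ g).obj F).obj =
      (φ ≫ (Scheme.pointSmallEtale (η ≫ g)).toPresheafFiber V (bcFiberEquiv g η V z) F.obj) ≫ i.inv :=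
    (Category.assoc _ _ _).trans ((congrArg (φ ≫ ·) (sheafFiberPullIso_germ g η F V z).symm).trans
      (Category.assoc _ _ _).symm)
  rw [e]
  exact hb.of_comp_iff' _

/-- A section module inducing the stalks along a constructible neighbourhood of a point gives a piece. -/
theorem exists_piece_of_good {X : Scheme.{u}} {F : EtModW.Mod Λ X} {V : X.Opens} (hV : IsAffineOpen V) {U : X.Etale}
    {Ω : Type u} [Field Ω] [IsSepClosed Ω] {ξ : Spec (CommRingCat.of Ω) ⟶ X}
    (u : (Scheme.pointSmallEtale ξ).fiber.obj U) {A : U.left.Opens} (hA : IsAffineOpen A) (hAV : A ≤ U.hom ⁻¹ᵁ V)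
    (hpA : ptOf u ∈ A) {M : ModuleCat.{u + 1} Λ} [Module.Finite Λ M] (φ : M ⟶ F.obj.obj (op U))
    {Good : Set ↥(A : Set U.left)} (hGood : IsConstructible Good)
    (hpGood : (⟨ptOf u, hpA⟩ : ↥(A : Set U.left)) ∈ Good)
    (hgood : ∀ {k : Type u} [Field k] [IsAlgClosed k] {η : Spec (CommRingCat.of k) ⟶ X}
      (z : (Scheme.pointSmallEtale η).fiber.obj U), (∃ a ∈ Good, a.1 = ptOf z) →
        Function.Bijective (φ ≫ (Scheme.pointSmallEtale η).toPresheafFiber U z F.obj)) :
    ∃ E : Set X, ξ.base (default : Spec (CommRingCat.of Ω)) ∈ E ∧ IsPiece F E ∧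
      IsConstructible ((Subtype.val : ↥(V : Set X) → X) ⁻¹' E) := by
  have : AlgebraicGeometry.Etale U.hom := U.prop
  have : CompactSpace ↥(A : Set U.left) := isCompact_iff_compactSpace.1 hA.isCompact
  have : QuasiSeparatedSpace ↥(A : Set U.left) :=
    (isQuasiSeparated_iff_quasiSeparatedSpace _ A.2).1 hA.isQuasiSeparated
  have : PrespectralSpace ↥(A : Set U.left) := A.2.isOpenEmbedding_subtypeVal.prespectralSpace
  have : QuasiSober ↥(A : Set U.left) := A.2.isOpenEmbedding_subtypeVal.quasiSober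
  have : CompactSpace ↥(V : Set X) := isCompact_iff_compactSpace.1 hV.isCompact
  have : QuasiSeparatedSpace ↥(V : Set X) := (isQuasiSeparated_iff_quasiSeparatedSpace _ V.2).1 hV.isQuasiSeparated
  have : PrespectralSpace ↥(V : Set X) := V.2.isOpenEmbedding_subtypeVal.prespectralSpace
  have : QuasiSober ↥(V : Set X) := V.2.isOpenEmbedding_subtypeVal.quasiSober
  let val : ↥(A : Set U.left) → U.left := Subtype.val
  let π : ↥(A : Set U.left) → ↥(V : Set X) := fun a => ⟨U.hom.base a.1, hAV a.2⟩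
  have hπ : Continuous π := (U.hom.continuous.comp continuous_subtype_val).subtype_mk _
  let p : ↥(A : Set U.left) := ⟨ptOf u, hpA⟩
  -- an open of `A` meeting the fibre only in the point
  have hfib : (π ⁻¹' {π p} \ {p}).Finite := by
    have : IsAffine A.toScheme := hA
    have : IsAffine V.toScheme := hV
    let f : A.toScheme ⟶ V.toScheme := Scheme.Hom.resLE U.hom V A hAV
    have hf : LocallyQuasiFinite f := by
      rw [HasRingHomProperty.iff_appLE (P := @LocallyQuasiFinite)]
      intro U₀ W₀ e'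
      have := HasRingHomProperty.appLE @AlgebraicGeometry.Etale f inferInstance U₀ W₀ e'
      algebraize [(f.appLE U₀.1 W₀.1 e').hom]
      exact (inferInstance : Algebra.QuasiFinite Γ(V.toScheme, U₀.1) Γ(A.toScheme, W₀.1))
    have : QuasiCompact f := (quasiCompact_iff_compactSpace f).2 inferInstance
    refine (f.finite_preimage_singleton (π p)).subset fun q hq => ?_
    refine Set.mem_singleton_iff.2 (Subtype.ext ?_)
    refine Eq.trans ?_ (congrArg Subtype.val hq.1)
    show V.ι.base (f.base q) = U.hom.base q.1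
    rw [← Scheme.Hom.comp_apply, Scheme.Hom.resLE_comp_ι]
    exact Scheme.Hom.comp_apply _ _ _
  have hsep : ∀ q ∈ π ⁻¹' {π p} \ {p}, ∃ O : Set ↥(A : Set U.left), IsOpen O ∧ p ∈ O ∧ q ∉ O := fun q hq => by
    by_contra h
    push Not at h
    have hs : val q ⤳ val p := (specializes_iff_forall_open.2 fun O hO hp => h O hO hp).map continuous_subtype_val
    exact hq.2 (Subtype.ext (eq_of_specializes U hs (congrArg Subtype.val hq.1)))
  choose! O hO hpO hqO using hsep
  obtain ⟨O', hO', hO'c, hpO', hO'O⟩ := SpecLib.exists_qc (x := p)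
    (O := ⋂ q ∈ π ⁻¹' {π p} \ {p}, O q) (Set.mem_iInter₂.2 hpO) (hfib.isOpen_biInter hO)
  -- some constructible neighbourhood of the point pulls back into the good locus
  obtain ⟨E, ⟨hEc, hElc, hyE⟩, hEgood⟩ : ∃ E : Set ↥(V : Set X),
      (IsConstructible E ∧ IsLocallyClosed E ∧ π p ∈ E) ∧ O' ∩ π ⁻¹' E ⊆ Good := by
    by_contra hno
    push Not at hno
    let I := {E : Set ↥(V : Set X) // IsConstructible E ∧ IsLocallyClosed E ∧ π p ∈ E}
    haveI : Nonempty I := ⟨⟨Set.univ, IsConstructible.univ, isOpen_univ.isLocallyClosed, trivial⟩⟩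
    have hpre : ∀ E : I, IsConstructible (π ⁻¹' E.1) := fun E => by
      have h1 : IsConstructible ((Subtype.val : ↥(V : Set X) → X) ⁻¹' (Subtype.val '' E.1)) := by
        rw [Set.preimage_image_eq _ Subtype.val_injective]
        exact E.2.1
      have h2 := isConstructible_preimage_affine U.hom hA hV hAV h1
      refine Eq.mp (congrArg IsConstructible ?_) h2
      ext a
      exact ⟨fun ⟨b, hb, e⟩ => show π a ∈ E.1 from Set.mem_of_eq_of_mem (Subtype.ext e.symm : π a = b) hb, fun ha => ⟨π a, ha, rfl⟩⟩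
    obtain ⟨q, hq⟩ := SpecLib.CC.nonempty_iInter (fun E : I => (O' ∩ π ⁻¹' E.1) \ Good)
      (fun E E' => ⟨⟨E.1 ∩ E'.1, E.2.1.inter E'.2.1, E.2.2.1.inter E'.2.2.1, E.2.2.2, E'.2.2.2⟩,
        fun a ha => ⟨⟨ha.1.1, ha.1.2.1⟩, ha.2⟩, fun a ha => ⟨⟨ha.1.1, ha.1.2.2⟩, ha.2⟩⟩)
      (fun E => by
        obtain ⟨a, ha, ha'⟩ := Set.not_subset.1 (hno E.1 E.2)
        exact ⟨a, ha, ha'⟩)
      (fun E => ((SpecLib.cc_of_isOpen_isCompact hO' hO'c).inter (SpecLib.cons_clopen (hpre E)).1).inter
        (SpecLib.cons_clopen hGood.compl).1)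
    rw [Set.mem_iInter] at hq
    have hq0 := hq (Classical.arbitrary I)
    have hqp : π q = π p := by
      by_contra hne
      obtain ⟨W, hW, hWc, hWne⟩ := SpecLib.exists_qc_separating hne
      have hWC := (IsCompact.isRetrocompact hWc hW).isConstructible hW
      by_cases hy : π p ∈ W
      · exact hWne (iff_of_true (hq ⟨W, hWC, hW.isLocallyClosed, hy⟩).1.2 hy)
      · exact (hq ⟨Wᶜ, hWC.compl, hW.isClosed_compl.isLocallyClosed, hy⟩).1.2
          (by_contra fun hq' => hWne (iff_of_false hq' hy))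
    by_cases hqe : q = p
    · exact hq0.2 (hqe ▸ hpGood)
    · exact hqO q ⟨hqp, hqe⟩ (Set.mem_iInter₂.1 (hO'O hq0.1.1) q ⟨hqp, hqe⟩)
  -- the stratum
  let W : U.left.Opens := ⟨val '' O', A.2.isOpenMap_subtype_val _ hO'⟩
  let E' : Set X := Subtype.val '' E ∩ U.hom.base '' (W : Set U.left)
  have hlc : IsLocallyClosed E' :=
    (hElc.image IsInducing.subtypeVal (by rw [Subtype.range_coe]; exact V.2.isLocallyClosed)).inter
      (U.hom.isOpenMap (W : Set U.left) W.2).isLocallyClosed
  obtain ⟨T, g, hg, hr⟩ := exists_immersion_range hlc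
  refine ⟨E', ⟨⟨π p, hyE, hom_ptOf u⟩, ptOf u, ⟨p, hpO', rfl⟩, hom_ptOf u⟩, ⟨T, g, hg, hr, ?_⟩, ?_⟩
  · let U' : X.Etale := Scheme.Etale.mk (W.ι ≫ U.hom)
    let r : U' ⟶ U := MorphismProperty.Over.homMk W.ι rfl
    refine isFTLocConst_of_charts _ fun t => ?_
    obtain ⟨q, hq, hqe⟩ := (hr.le ⟨t, rfl⟩).2
    obtain ⟨w, -, hw⟩ := Scheme.Pullback.exists_preimage_pullback (f := U'.hom) (g := g) (⟨q, hq⟩ : W.toScheme) t
      ((Scheme.Hom.comp_apply _ _ _).trans hqe)
    refine ⟨(EtCoh.bc g).obj U', w, hw, ⟨{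
      M := M
      φ := (φ ≫ F.obj.map r.op) ≫ ((pullPushAdj Λ g).unit.app F).hom.app (op U')
      const := fun k _ _ η z => ?_ }⟩⟩
    refine (bijective_pull_iff g (φ ≫ F.obj.map r.op) η z).2 ?_
    let z' := bcFiberEquiv g η U' z
    have hz : U'.hom.base (ptOf z') ∈ Set.range g.base :=
      ⟨η.base (default : Spec (CommRingCat.of k)), (Scheme.Hom.comp_apply _ _ _).symm.trans (hom_ptOf z').symm⟩
    obtain ⟨a, ha, hae⟩ : ptOf ((Scheme.pointSmallEtale (η ≫ g)).fiber.map r z') ∈ W :=
      (ptOf_map r z').symm ▸ (ptOf z').2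
    have hb := hgood ((Scheme.pointSmallEtale (η ≫ g)).fiber.map r z') ⟨a, hEgood ⟨ha, ?_⟩, hae⟩
    · rw [show (φ ≫ F.obj.map r.op) ≫ (Scheme.pointSmallEtale (η ≫ g)).toPresheafFiber U' z' F.obj =
        φ ≫ (Scheme.pointSmallEtale (η ≫ g)).toPresheafFiber U
          ((Scheme.pointSmallEtale (η ≫ g)).fiber.map r z') F.obj from
        (Category.assoc _ _ _).trans (congrArg (φ ≫ ·) ((Scheme.pointSmallEtale (η ≫ g)).toPresheafFiber_w r z' F.obj))]
      exact hb
    · obtain ⟨b, hb, hbe⟩ := (hr.le hz).1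
      have h1 : W.ι.base (ptOf z') = val a := (ptOf_map r z').symm.trans hae.symm
      have : b = π a := Subtype.ext (hbe.trans ((Scheme.Hom.comp_apply _ _ _).trans (congrArg U.hom.base h1)))
      show π a ∈ E
      exact this ▸ hb
  · have hc' : IsCompact (π '' O') := hO'c.image hπ
    have ho' : IsOpen (π '' O') := by
      have h1 : π '' O' = Subtype.val ⁻¹' (U.hom.base '' (W : Set U.left)) := by
        ext b
        constructor
        · rintro ⟨a, ha, rfl⟩
          exact ⟨a.1, ⟨a, ha, rfl⟩, rfl⟩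
        · rintro ⟨_, ⟨a, ha, rfl⟩, e⟩
          exact ⟨a, ha, Subtype.ext e⟩
      rw [h1]
      exact (U.hom.isOpenMap (W : Set U.left) W.2).preimage continuous_subtype_val
    refine Eq.mp (congrArg IsConstructible ?_) (hEc.inter ((IsCompact.isRetrocompact hc' ho').isConstructible ho'))
    ext b
    refine ⟨?_, ?_⟩
    · rintro ⟨hb, a, ha, rfl⟩
      exact ⟨⟨π a, hb, rfl⟩, a.1, ⟨a, ha, rfl⟩, rfl⟩
    · rintro ⟨⟨b', hb', e⟩, _, ⟨a, ha, rfl⟩, e'⟩
      obtain rfl : b' = b := Subtype.ext e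
      exact ⟨hb', a, ha, Subtype.ext e'⟩

/-- Near a geometric point a constructible sheaf has sections inducing the stalks along a piece. -/
theorem exists_sections_on_piece [IsNoetherianRing Λ] {U : Scheme.{u}} {F : EtModW.Mod Λ U}
    (hF : EtModW.IsConstructible Λ F) {Ω : Type u} [Field Ω] [IsSepClosed Ω] (a : Spec (CommRingCat.of Ω) ⟶ U) :
    ∃ (V : U.Opens) (E : Set U) (W : U.Etale) (_ : (Scheme.pointSmallEtale a).fiber.obj W)
      (M : ModuleCat.{u + 1} Λ) (_ : Module.Finite Λ M) (φ : M ⟶ F.obj.obj (op W)),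
      IsAffineOpen V ∧ a.base (default : Spec (CommRingCat.of Ω)) ∈ V ∧ a.base (default : Spec (CommRingCat.of Ω)) ∈ E ∧
      IsConstructible ((Subtype.val : ↥(V : Set U) → U) ⁻¹' E) ∧
      ∀ {k : Type u} [Field k] [IsAlgClosed k] {η : Spec (CommRingCat.of k) ⟶ U}
        (z : (Scheme.pointSmallEtale η).fiber.obj W), W.hom.base (ptOf z) ∈ E →
          Function.Bijective (φ ≫ (Scheme.pointSmallEtale η).toPresheafFiber W z F.obj) := by
  classical
  obtain ⟨V, hV, haV, -⟩ := exists_isAffineOpen_mem_and_subset (U := (⊤ : U.Opens))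
    (x := a.base (default : Spec (CommRingCat.of Ω))) trivial
  obtain ⟨n, E, hE, hEc, hu⟩ := exists_pieces (hF V hV)
  obtain ⟨i, hi⟩ := Set.mem_iUnion.1 (hu.ge haV)
  obtain ⟨T, g, hg, hr, hT⟩ := hE i
  obtain ⟨t, ht⟩ : a.base (default : Spec (CommRingCat.of Ω)) ∈ Set.range g.base := hr.ge hi
  obtain ⟨Vt, p, hp, ⟨c⟩⟩ := exists_chart hT t
  obtain ⟨k₀, _, _, ζ, vt, hvt⟩ := exists_algClosed_point Vt p
  -- the stalk over the point
  let Φ := Scheme.pointSmallEtale (ζ ≫ g)
  let i₀ := (sheafFiberPullIso (A := ModuleCat.{u + 1} Λ) g ζ).app F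
  let e : c.M ⟶ Φ.sheafFiber.obj F := (c.φ ≫ (Scheme.pointSmallEtale ζ).toPresheafFiber Vt vt _) ≫ i₀.hom
  -- lifting generators and relations
  obtain ⟨m, gen, hgen⟩ := Module.Finite.exists_fin (R := Λ) (M := c.M)
  let top : U.Etale := Scheme.Etale.mk (𝟙 U)
  let u₀ : Φ.fiber.obj top := CategoryTheory.Over.homMk (ζ ≫ g) (Category.comp_id _)
  obtain ⟨W₁, -, w₁, s, -, hs⟩ := exists_forall_rep (ξ := ζ ≫ g) F u₀ (fun j : Fin m => e (gen j))
  let π := Fintype.linearCombination Λ gen
  have hπ : Function.Surjective π := fun q => by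
    obtain ⟨r, hr⟩ := (Submodule.mem_span_range_iff_exists_fun Λ).1 (hgen.ge (Submodule.mem_top (x := q)))
    exact ⟨r, (Fintype.linearCombination_apply Λ gen r).trans hr⟩
  have hσ : ∀ r : Fin m → Λ, Φ.toPresheafFiber W₁ w₁ F.obj (Fintype.linearCombination Λ s r) = e (π r) := fun r => by
    simp only [π, Fintype.linearCombination_apply, map_sum, map_smul]
    exact Finset.sum_congr rfl fun j _ => congrArg (r j • ·) (hs j)
  obtain ⟨R, hR⟩ := IsNoetherian.noetherian (LinearMap.ker π)
  obtain ⟨W₂, g₂, w₂, hw₂, hg₂⟩ := exists_forall_eq F.obj w₁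
    (fun r : (R : Set (Fin m → Λ)) => Fintype.linearCombination Λ s r.1) (fun _ => 0) (fun r => by
      rw [hσ, show π r.1 = 0 from (hR.le (Submodule.subset_span r.2) : r.1 ∈ LinearMap.ker π), map_zero]
      exact (map_zero _).symm)
  let σ := (F.obj.map g₂.op).hom.comp (Fintype.linearCombination Λ s)
  have hker : LinearMap.ker π ≤ LinearMap.ker σ := by
    rw [← hR, Submodule.span_le]
    intro r hr'
    exact (hg₂ ⟨r, hr'⟩).trans (map_zero _)
  let φ₂ : c.M ⟶ F.obj.obj (op W₂) :=
    ModuleCat.ofHom (((LinearMap.ker π).liftQ σ hker).comp (π.quotKerEquivOfSurjective hπ).symm.toLinearMap)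
  have hφ₂ : φ₂ ≫ Φ.toPresheafFiber W₂ w₂ F.obj = e := by
    refine ModuleCat.hom_ext (LinearMap.ext fun x => ?_)
    obtain ⟨r, rfl⟩ := hπ x
    have h1 : φ₂ (π r) = σ r := by
      show ((LinearMap.ker π).liftQ σ hker) ((π.quotKerEquivOfSurjective hπ).symm (π r)) = σ r
      rw [show (π.quotKerEquivOfSurjective hπ).symm (π r) = Submodule.Quotient.mk r from
        (LinearEquiv.symm_apply_eq _).2 rfl]
      rfl
    refine (congrArg (Φ.toPresheafFiber W₂ w₂ F.obj) h1).trans ?_
    refine (Φ.toPresheafFiber_w_apply g₂ w₂ F.obj _).trans ?_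
    rw [hw₂]
    exact hσ r
  -- comparing with the chart on the piece
  let t₂ := (bcFiberEquiv g ζ W₂).symm w₂
  let φT : c.M ⟶ ((EtModW.pull Λ g).obj F).obj.obj (op ((EtCoh.bc g).obj W₂)) :=
    φ₂ ≫ ((pullPushAdj Λ g).unit.app F).hom.app (op W₂)
  have hcmp : φT ≫ (Scheme.pointSmallEtale ζ).toPresheafFiber _ t₂ _ =
      c.φ ≫ (Scheme.pointSmallEtale ζ).toPresheafFiber Vt vt _ := by
    refine (Category.assoc _ _ _).trans ((congrArg (φ₂ ≫ ·) (sheafFiberPullIso_germ g ζ F W₂ t₂).symm).trans ?_)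
    rw [Equiv.apply_symm_apply]
    refine (Category.assoc _ _ _).symm.trans ?_
    refine (congrArg (· ≫ _) hφ₂).trans ?_
    exact (Category.assoc _ _ _).trans ((congrArg (_ ≫ ·) i₀.hom_inv_id).trans (Category.comp_id _))
  obtain ⟨⟨V₃, v₃⟩, ⟨α₀, hα₀⟩, ⟨β₀, hβ₀⟩, -⟩ := IsCofilteredOrEmpty.cone_objs
    ((Scheme.pointSmallEtale ζ).fiber.elementsMk _ t₂) ((Scheme.pointSmallEtale ζ).fiber.elementsMk Vt vt)
  let α : V₃ ⟶ (EtCoh.bc g).obj W₂ := α₀
  let β : V₃ ⟶ Vt := β₀
  have hα : (Scheme.pointSmallEtale ζ).fiber.map α v₃ = t₂ := hα₀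
  have hβ : (Scheme.pointSmallEtale ζ).fiber.map β v₃ = vt := hβ₀
  obtain ⟨V₄, g₄, v₄, hv₄, hg₄⟩ := exists_forall_eq ((EtModW.pull Λ g).obj F).obj v₃
    (fun j : Fin m => ((EtModW.pull Λ g).obj F).obj.map α.op (φT (gen j)))
    (fun j => ((EtModW.pull Λ g).obj F).obj.map β.op (c.φ (gen j))) (fun j => by
      rw [(Scheme.pointSmallEtale ζ).toPresheafFiber_w_apply, (Scheme.pointSmallEtale ζ).toPresheafFiber_w_apply]
      rw [hα, hβ]
      exact ConcreteCategory.congr_hom hcmp (gen j))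
  have heq : φT ≫ ((EtModW.pull Λ g).obj F).obj.map (g₄ ≫ α).op = (c.restrict (g₄ ≫ β)).φ := by
    refine ModuleCat.hom_ext (LinearMap.ext_on (s := Set.range gen) hgen ?_)
    rintro _ ⟨j, rfl⟩
    show ((EtModW.pull Λ g).obj F).obj.map (g₄ ≫ α).op (φT (gen j)) =
      ((EtModW.pull Λ g).obj F).obj.map (g₄ ≫ β).op (c.φ (gen j))
    rw [op_comp, op_comp, Functor.map_comp_apply, Functor.map_comp_apply]
    exact hg₄ j
  -- shrink
  let r : V₄ ⟶ (EtCoh.bc g).obj W₂ := g₄ ≫ α
  haveI : AlgebraicGeometry.Etale r.left := etale_left r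
  haveI : AlgebraicGeometry.Etale W₂.hom := W₂.prop
  obtain ⟨O', hO', hO'eq⟩ := ((pullback.fst W₂.hom g).isEmbedding.isInducing.isOpen_iff).1
    r.left.isOpenMap.isOpen_range
  let O : W₂.left.Opens := ⟨O', hO'⟩
  let W : U.Etale := Scheme.Etale.mk (O.ι ≫ W₂.hom)
  let ρ : W ⟶ W₂ := MorphismProperty.Over.homMk O.ι rfl
  have hw₂O : ptOf w₂ ∈ O := by
    have h1 : ptOf t₂ ∈ Set.range r.left.base := by
      refine ⟨ptOf v₄, (ptOf_map r v₄).symm.trans (congrArg ptOf ?_)⟩
      rw [Functor.map_comp_apply]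
      exact (congrArg _ hv₄).trans hα
    rw [← hO'eq] at h1
    have h2 : (pullback.fst W₂.hom g).base (ptOf t₂) = ptOf w₂ := by
      rw [show w₂ = bcFiberEquiv g ζ W₂ t₂ from ((bcFiberEquiv g ζ W₂).apply_symm_apply w₂).symm]
      exact (Scheme.Hom.comp_apply _ _ _).symm
    exact h2 ▸ h1
  obtain ⟨w, -⟩ := Scheme.pointSmallEtaleFiberObjToPreimage_surjective a rfl W
    ⟨(⟨ptOf w₂, hw₂O⟩ : O.toScheme), (Scheme.Hom.comp_apply _ _ _).trans ((hom_ptOf w₂).trans
      ((Scheme.Hom.comp_apply _ _ _).trans ((congrArg g.base ((base_of_point vt).symm.trans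
        ((congrArg _ hvt).trans hp))).trans ht)))⟩
  refine ⟨V, E i, W, w, c.M, inferInstance, φ₂ ≫ F.obj.map ρ.op, hV, haV, hi, hEc i, fun {k} _ _ {η} z hz => ?_⟩
  rw [show (φ₂ ≫ F.obj.map ρ.op) ≫ (Scheme.pointSmallEtale η).toPresheafFiber W z F.obj =
    φ₂ ≫ (Scheme.pointSmallEtale η).toPresheafFiber W₂ ((Scheme.pointSmallEtale η).fiber.map ρ z) F.obj from
    (Category.assoc _ _ _).trans (congrArg (φ₂ ≫ ·) ((Scheme.pointSmallEtale η).toPresheafFiber_w ρ z F.obj))]
  have hη : η.base (default : Spec (CommRingCat.of k)) ∈ Set.range g.base := by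
    rw [hr, ← hom_ptOf z]
    exact hz
  obtain ⟨η', rfl⟩ := exists_lift_immersion g η hη
  obtain ⟨zt, hzt⟩ : ∃ zt, bcFiberEquiv g η' W₂ zt = (Scheme.pointSmallEtale (η' ≫ g)).fiber.map ρ z :=
    ⟨_, (bcFiberEquiv g η' W₂).apply_symm_apply _⟩
  rw [← hzt]
  refine (bijective_pull_iff g φ₂ η' zt).1 ?_
  have hzO : ptOf zt ∈ Set.range r.left.base := by
    rw [← hO'eq]
    show (pullback.fst W₂.hom g).base (ptOf zt) ∈ O
    have h2 : (pullback.fst W₂.hom g).base (ptOf zt) = ptOf ((Scheme.pointSmallEtale (η' ≫ g)).fiber.map ρ z) := by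
      rw [← hzt]
      exact (Scheme.Hom.comp_apply _ _ _).symm
    rw [h2, ptOf_map]
    exact (ptOf z).2
  obtain ⟨q, hq⟩ := hzO
  obtain ⟨z₄, hz₄, -⟩ := exists_lift_point r zt q hq
  rw [← hz₄]
  refine Eq.mp (congrArg (fun m : c.M ⟶ _ => Function.Bijective ⇑(ConcreteCategory.hom m)) ?_)
    ((c.restrict (g₄ ≫ β)).const k η' z₄)
  refine (congrArg (· ≫ (Scheme.pointSmallEtale η').toPresheafFiber V₄ z₄ _) heq.symm).trans ?_
  exact (Category.assoc _ _ _).trans (congrArg (φT ≫ ·)
    ((Scheme.pointSmallEtale η').toPresheafFiber_w r z₄ ((EtModW.pull Λ g).obj F).obj))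

/-- Constructibility from constructible pieces through all points. -/
theorem isConstructible_of_pieces {X : Scheme.{u}} {F : EtModW.Mod Λ X} (h : ∀ (V : X.Opens), IsAffineOpen V → ∀ y : X, y ∈ V →
    ∃ E : Set X, y ∈ E ∧ IsPiece F E ∧ IsConstructible ((Subtype.val : ↥(V : Set X) → X) ⁻¹' E)) :
    EtModW.IsConstructible Λ F := by
  intro V hV
  have : CompactSpace ↥(V : Set X) := isCompact_iff_compactSpace.1 hV.isCompact
  have : QuasiSeparatedSpace ↥(V : Set X) := (isQuasiSeparated_iff_quasiSeparatedSpace _ V.2).1 hV.isQuasiSeparated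
  have : PrespectralSpace ↥(V : Set X) := V.2.isOpenEmbedding_subtypeVal.prespectralSpace
  have : QuasiSober ↥(V : Set X) := V.2.isOpenEmbedding_subtypeVal.quasiSober
  choose E hyE hE hEc using fun y : ↥(V : Set X) => h V hV y.1 y.2
  obtain ⟨t, ht⟩ := EtFound.exists_finite_cover (fun y => Subtype.val ⁻¹' E y) hEc fun y => ⟨y, hyE y⟩
  refine EtModWLib.adaptedStrata_of_cover V.2.isLocallyClosed (fun k : t => E k.1) (fun k => hE _) (fun k => hEc _) fun x hx => ?_
  obtain ⟨k, hk, hxk⟩ := ht ⟨x, hx⟩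
  exact Set.mem_iUnion.2 ⟨⟨k, hk⟩, hxk⟩


variable {U X : Scheme.{u}} (f : U ⟶ X) [AlgebraicGeometry.Etale f] [EtShriek.JCont f]

/-- Stalks of extensions by zero are sums over the points. -/
theorem bijective_extZero_sum {Ω : Type u} [Field Ω] [IsSepClosed Ω] (ξ : Spec (CommRingCat.of Ω) ⟶ X)
    (F : EtModW.Mod Λ U) {κ : Type*} [Fintype κ] (e : κ → PtsOver f ξ) (he : Function.Bijective e) :
    Function.Bijective fun x : (∀ k, (EtModW.stalk Λ (e k).1).obj F) => ∑ k, extZeroι f ξ F (e k) (x k) := by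
  classical
  let St : PtsOver f ξ → ModuleCat.{u + 1} Λ := fun z => (EtModW.stalk Λ z.1).obj F
  letI := Fintype.ofBijective e he
  let hc := extZeroCofanIsColimit f ξ F
  let m := hc.desc (Cofan.mk (ModuleCat.of Λ (∀ z, St z)) fun z =>
    ModuleCat.ofHom (LinearMap.single Λ (fun z => St z) z))
  have hm : ∀ z (x : St z), m (extZeroι f ξ F z x) = Pi.single z x := fun z x =>
    ConcreteCategory.congr_hom (hc.fac _ ⟨z⟩) x
  let φ : (∀ z, St z) → (EtModW.stalk Λ ξ).obj ((EtSix.extZeroMod Λ f).obj F) := fun x => ∑ z, extZeroι f ξ F z (x z)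
  have hφ : Function.Bijective φ := by
    refine ⟨fun x x' h => ?_, fun c => ⟨m c, ?_⟩⟩
    · have h' := congrArg m h
      simp only [φ, map_sum, hm] at h'
      rwa [Finset.univ_sum_single, Finset.univ_sum_single] at h'
    · have hid : m ≫ ModuleCat.ofHom (∑ z, (extZeroι f ξ F z).hom.comp (LinearMap.proj (φ := fun z => St z) z)) = 𝟙 _ := by
        refine hc.hom_ext fun z => ModuleCat.hom_ext (LinearMap.ext fun x => ?_)
        change (∑ z', (extZeroι f ξ F z').hom.comp (LinearMap.proj (φ := fun z => St z) z'))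
          (m (extZeroι f ξ F z.as x)) = extZeroι f ξ F z.as x
        rw [hm, LinearMap.sum_apply, Finset.sum_eq_single z.as]
        · simp
        · exact fun b _ hb => by simp [Pi.single_eq_of_ne hb]
        · simp
      have := ConcreteCategory.congr_hom hid c
      simpa [φ] using this
  let E := Equiv.ofBijective e he
  refine Eq.mp (congrArg Function.Bijective (funext fun x => ?_)) (hφ.comp (Equiv.piCongrLeft (fun z => St z) E).bijective)
  show ∑ z, _ = _
  rw [← E.sum_comp]
  refine Finset.sum_congr rfl fun k _ => congrArg (extZeroι f ξ F (e k)) ?_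
  exact Equiv.piCongrLeft_apply_apply (fun z => St z) E x k

/-- Extensions by zero of constructible sheaves have constructible pieces through all points. -/
theorem exists_piece_extZero [IsNoetherianRing Λ] [QuasiCompact f] [QuasiSeparated f] {F : EtModW.Mod Λ U}
    (hF : EtModW.IsConstructible Λ F) {V : X.Opens} (hV : IsAffineOpen V) (y : X) (hyV : y ∈ V) :
    ∃ E : Set X, y ∈ E ∧ IsPiece ((EtSix.extZeroMod Λ f).obj F) E ∧
      IsConstructible ((Subtype.val : ↥(V : Set X) → X) ⁻¹' E) := by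
  classical
  obtain ⟨Ω, _, _, ξ, rfl⟩ := exists_geomPoint y
  haveI := finite_ptsOver f ξ
  haveI := Fintype.ofFinite (PtsOver f ξ)
  choose Va Ea Wa wa Ma hMa φa hVa hav haE hEa hgoodA using fun a : PtsOver f ξ => exists_sections_on_piece hF a.1
  obtain ⟨⟨W, w⟩, hWw⟩ := IsCofiltered.inf_objs_exists (C := (Scheme.pointSmallEtale ξ).fiber.Elements)
    (Finset.univ.image fun a : PtsOver f ξ =>
      (Scheme.pointSmallEtale ξ).fiber.elementsMk ((EtShriek.compEtale f).obj (Wa a)) (extLiftPt a (Wa a) (wa a)))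
  have hr : ∀ a, ∃ r : W ⟶ (EtShriek.compEtale f).obj (Wa a),
      (Scheme.pointSmallEtale ξ).fiber.map r w = extLiftPt a (Wa a) (wa a) := fun a => by
    obtain ⟨g⟩ := hWw (Finset.mem_image_of_mem _ (Finset.mem_univ a))
    exact ⟨g.1, g.2⟩
  choose r hr using hr
  haveI : AlgebraicGeometry.Etale W.hom := W.prop
  let σ : ∀ a, W.left ⟶ U := fun a => ((r a).left : W.left ⟶ (Wa a).left) ≫ (Wa a).hom
  have hσ : ∀ a, σ a ≫ f = W.hom := fun a => (Category.assoc _ _ _).trans (MorphismProperty.Over.w (r a))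
  let wl : Spec (CommRingCat.of Ω) ⟶ W.left := w.left
  have hσw : ∀ a, wl ≫ σ a = a.1 := fun a => by
    refine (Category.assoc _ _ _).symm.trans ?_
    have h := congrArg CommaMorphism.left (hr a)
    exact (congrArg (· ≫ (Wa a).hom) h).trans (CategoryTheory.Over.w (wa a))
  -- the sections
  let G := (EtSix.extZeroMod Λ f).obj F
  let l : ∀ a, Ma a →ₗ[Λ] G.obj.obj (op W) := fun a =>
    (φa a ≫ ((EtSix.extZeroModAdj Λ f).unit.app F).hom.app (op (Wa a)) ≫ G.obj.map (r a).op).hom
  let M : ModuleCat.{u + 1} Λ := ModuleCat.of Λ (∀ a, Ma a)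
  haveI : ∀ a, Module.Finite Λ (Ma a) := hMa
  haveI : Module.Finite Λ M := inferInstanceAs (Module.Finite Λ (∀ a, Ma a))
  let L : (∀ a, Ma a) →ₗ[Λ] G.obj.obj (op W) := ∑ a, (l a).comp (LinearMap.proj a)
  let rl : ∀ a, W.left ⟶ (Wa a).left := fun a => (r a).left
  have hσpt : ∀ a, (σ a).base (ptOf w) = a.1.base (default : Spec (CommRingCat.of Ω)) := fun a =>
    (Scheme.Hom.comp_apply wl (σ a) _).symm.trans
      (congrArg (fun h : Spec (CommRingCat.of Ω) ⟶ U => h.base (default : Spec (CommRingCat.of Ω))) (hσw a))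
  obtain ⟨A, hA, hwA, hAV'⟩ := exists_isAffineOpen_mem_and_subset
    (U := (W.hom ⁻¹ᵁ V ⊓ Finset.univ.inf fun a => (σ a) ⁻¹ᵁ Va a : W.left.Opens)) (x := ptOf w) (by
      refine ⟨show W.hom.base (ptOf w) ∈ V from Set.mem_of_eq_of_mem (hom_ptOf w) hyV, ?_⟩
      rw [TopologicalSpace.Opens.coe_finset_inf, Finset.inf_set_eq_iInter, Set.mem_iInter₂]
      exact fun a _ => show (σ a).base (ptOf w) ∈ Va a from Set.mem_of_eq_of_mem (hσpt a) (hav a))
  have hAV : A ≤ W.hom ⁻¹ᵁ V := fun x hx => (hAV' hx).1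
  have hAVa : ∀ a, A ≤ (σ a) ⁻¹ᵁ Va a := fun a x hx =>
    (Finset.inf_le (f := fun a => (σ a) ⁻¹ᵁ Va a) (Finset.mem_univ a)) (hAV' hx).2
  let val : ↥(A : Set W.left) → W.left := Subtype.val
  haveI : IsAffine A.toScheme := hA
  haveI : CompactSpace ↥(A : Set W.left) := isCompact_iff_compactSpace.1 hA.isCompact
  haveI : QuasiSeparatedSpace ↥(A : Set W.left) :=
    (isQuasiSeparated_iff_quasiSeparatedSpace _ A.2).1 hA.isQuasiSeparated
  haveI : PrespectralSpace ↥(A : Set W.left) := A.2.isOpenEmbedding_subtypeVal.prespectralSpace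
  -- coincidence loci
  let Δ := pullback.diagonal f
  let τ : ∀ _ : {p : PtsOver f ξ × PtsOver f ξ // p.1 ≠ p.2}, W.left ⟶ pullback f f := fun p =>
    pullback.lift (σ p.1.1) (σ p.1.2) ((hσ _).trans (hσ _).symm)
  have hEc : ∀ p, IsConstructible (val ⁻¹' ((τ p).base ⁻¹' Set.range Δ.base)) := fun p => by
    let t : A.toScheme ⟶ pullback f f := A.ι ≫ τ p
    haveI : QuasiCompact (pullback.fst t Δ) := MorphismProperty.pullback_fst _ _ (inferInstanceAs (QuasiCompact Δ))
    haveI : CompactSpace ↥(pullback t Δ) := QuasiCompact.compactSpace_of_compactSpace (pullback.fst t Δ)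
    have hc : IsCompact (Set.range (pullback.fst t Δ).base) := isCompact_range (pullback.fst t Δ).continuous
    have he : Set.range (pullback.fst t Δ).base = val ⁻¹' ((τ p).base ⁻¹' Set.range Δ.base) := by
      rw [Scheme.Pullback.range_fst]
      ext q
      exact Iff.of_eq (congrArg (· ∈ Set.range Δ.base) (Scheme.Hom.comp_apply A.ι (τ p) q))
    rw [he] at hc
    have ho : IsOpen (val ⁻¹' ((τ p).base ⁻¹' Set.range Δ.base)) :=
      (Δ.isOpenEmbedding.isOpen_range.preimage (τ p).continuous).preimage continuous_subtype_val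
    exact (IsCompact.isRetrocompact hc ho).isConstructible ho
  -- the covering locus
  let P := pullback W.hom f
  let pr : P ⟶ W.left := pullback.fst W.hom f
  haveI : AlgebraicGeometry.Etale pr := MorphismProperty.pullback_fst _ _ ‹AlgebraicGeometry.Etale f›
  haveI : QuasiCompact pr := MorphismProperty.pullback_fst _ _ ‹QuasiCompact f›
  haveI : QuasiSeparated pr := MorphismProperty.pullback_fst _ _ ‹QuasiSeparated f›
  let sec : PtsOver f ξ → (W.left ⟶ P) := fun a => pullback.lift (𝟙 _) (σ a) ((Category.id_comp _).trans (hσ a).symm)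
  have hsec : ∀ a, sec a ≫ pr = 𝟙 _ := fun a => pullback.lift_fst _ _ _
  have hoi : ∀ a, IsOpenImmersion (sec a) := fun a => by
    have : AlgebraicGeometry.Etale (sec a) := EtCoh.etaleMP.of_postcomp (W' := EtCoh.etaleMP) (sec a) pr
      (inferInstanceAs (AlgebraicGeometry.Etale pr))
      (show AlgebraicGeometry.Etale (sec a ≫ pr) from (hsec a).symm ▸ inferInstance)
    have : Mono (sec a) := mono_of_mono_fac (hsec a)
    exact IsOpenImmersion.of_flat_of_mono (sec a)
  let bad : Set W.left := pr.base '' (⋃ a, Set.range (sec a).base)ᶜ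
  have hbad : IsConstructible (val ⁻¹' bad) := by
    refine isConstructible_image_over' pr hA ?_
    let O := pr ⁻¹ᵁ A
    haveI : CompactSpace ↥(O : Set P) := isCompact_iff_compactSpace.1 (pr.isCompact_preimage hA.isCompact)
    haveI : QuasiSeparatedSpace ↥(O : Set P) :=
      quasiSeparatedSpace_of_quasiSeparated (pr ∣_ A)
    haveI : PrespectralSpace ↥(O : Set P) := O.2.isOpenEmbedding_subtypeVal.prespectralSpace
    rw [Set.preimage_compl, Set.preimage_iUnion]
    refine (IsConstructible.iUnion fun a => ?_).compl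
    have := hoi a
    have e : (Subtype.val : ↥(O : Set P) → P) ⁻¹' Set.range (sec a).base =
        Subtype.val ⁻¹' ((sec a).base '' (A : Set W.left)) := by
      ext q
      refine ⟨?_, fun ⟨x, _, hx⟩ => ⟨x, hx⟩⟩
      rintro ⟨x, hx⟩
      refine ⟨x, ?_, hx⟩
      have h1 : pr.base q.1 ∈ A := q.2
      rw [← hx, ← Scheme.Hom.comp_apply, hsec a] at h1
      exact h1
    rw [e]
    have ho : IsOpen ((Subtype.val : ↥(O : Set P) → P) ⁻¹' ((sec a).base '' (A : Set W.left))) :=
      ((sec a).isOpenEmbedding.isOpenMap _ A.2).preimage continuous_subtype_val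
    refine (IsCompact.isRetrocompact ?_ ho).isConstructible ho
    rw [IsInducing.subtypeVal.isCompact_iff, Set.image_preimage_eq_of_subset]
    · exact hA.isCompact.image (sec a).continuous
    · rintro _ ⟨x, hx, rfl⟩
      refine ⟨⟨(sec a).base x, ?_⟩, rfl⟩
      show pr.base ((sec a).base x) ∈ A
      rw [← Scheme.Hom.comp_apply, hsec a]
      exact hx
  have hEp : ∀ a, IsConstructible (val ⁻¹' ((σ a).base ⁻¹' Ea a)) := fun a =>
    isConstructible_preimage_affine (σ a) hA (hVa a) (hAVa a) (hEa a)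
  let Good : Set ↥(A : Set W.left) := ((⋂ p, (val ⁻¹' ((τ p).base ⁻¹' Set.range Δ.base))ᶜ) ∩ (val ⁻¹' bad)ᶜ) ∩
    ⋂ a, val ⁻¹' ((σ a).base ⁻¹' Ea a)
  refine exists_piece_of_good hV w hA hAV hwA (M := M) (ModuleCat.ofHom L) (Good := Good)
    (((IsConstructible.iInter fun p => (hEc p).compl).inter hbad.compl).inter (IsConstructible.iInter hEp)) ?_ ?_
  · refine ⟨⟨Set.mem_iInter.2 fun p => ?_, ?_⟩, Set.mem_iInter.2 fun a => ?_⟩
    · intro hq
      refine p.2 (Subtype.ext ?_)
      obtain ⟨l, hl⟩ : ∃ l : Spec (CommRingCat.of Ω) ⟶ U, l ≫ Δ = wl ≫ τ p := by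
        refine ⟨IsOpenImmersion.lift Δ (wl ≫ τ p) ?_, IsOpenImmersion.lift_fac _ _ _⟩
        rintro _ ⟨x, rfl⟩
        rw [Subsingleton.elim (α := Spec (CommRingCat.of Ω)) x default, Scheme.Hom.comp_apply]
        exact hq
      have h1 := congrArg (· ≫ pullback.fst f f) hl
      have h2 := congrArg (· ≫ pullback.snd f f) hl
      simp only [Category.assoc, Δ, τ, pullback.diagonal_fst, pullback.diagonal_snd, Category.comp_id,
        pullback.lift_fst, pullback.lift_snd] at h1 h2
      exact (hσw _).symm.trans (h1.symm.trans (h2.trans (hσw _)))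
    · rintro ⟨q, hq, hqw⟩
      let P' : W.left.Etale := Scheme.Etale.mk pr
      obtain ⟨v, hv⟩ := Scheme.pointSmallEtaleFiberObjToPreimage_surjective wl rfl P' ⟨q, hqw⟩
      let vl : Spec (CommRingCat.of Ω) ⟶ P := v.left
      have hvfst : vl ≫ pr = wl := CategoryTheory.Over.w v
      have hvq : vl.base (default : Spec (CommRingCat.of Ω)) = q := congrArg Subtype.val hv
      have hsnd : (vl ≫ pullback.snd W.hom f) ≫ f = ξ := (Category.assoc _ _ _).trans
        ((congrArg (vl ≫ ·) pullback.condition.symm).trans ((Category.assoc _ _ _).symm.trans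
          ((congrArg (· ≫ W.hom) hvfst).trans (CategoryTheory.Over.w w))))
      let a : PtsOver f ξ := ⟨_, hsnd⟩
      have e : vl = wl ≫ sec a := pullback.hom_ext
        (hvfst.trans (((congrArg (wl ≫ ·) (hsec a)).trans (Category.comp_id _)).symm.trans (Category.assoc _ _ _).symm))
        ((hσw a).symm.trans ((congrArg (wl ≫ ·) (pullback.lift_snd _ _ _).symm).trans (Category.assoc _ _ _).symm))
      refine hq (Set.mem_iUnion.2 ⟨a, wl.base default, ?_⟩)
      rw [← Scheme.Hom.comp_apply, ← e]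
      exact hvq
    · show (σ a).base (ptOf w) ∈ Ea a
      exact Set.mem_of_eq_of_mem (hσpt a) (haE a)
  intro k _ _ η z ⟨q, ⟨⟨hqE, hqB⟩, hqEa⟩, hqz⟩
  let zl : Spec (CommRingCat.of k) ⟶ W.left := z.left
  let v : ∀ a, (Scheme.pointSmallEtale η).fiber.obj ((EtShriek.compEtale f).obj (Wa a)) := fun a =>
    (Scheme.pointSmallEtale η).fiber.map (r a) z
  let Y : PtsOver f ξ → PtsOver f η := fun a => projPt (Wa a) (v a)
  have hYv : ∀ a, (Y a).1 = zl ≫ σ a := fun a => Category.assoc zl _ _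
  have hY : Function.Bijective Y := by
    refine ⟨fun a b hab => by_contra fun hne => Set.mem_iInter.1 hqE ⟨(a, b), hne⟩ ?_, fun y' => ?_⟩
    · have e : zl ≫ σ a = zl ≫ σ b := (hYv a).symm.trans ((congrArg Subtype.val hab).trans (hYv b))
      have e' : zl ≫ τ ⟨(a, b), hne⟩ = (zl ≫ σ a) ≫ Δ := pullback.hom_ext
        ((Category.assoc _ _ _).trans ((congrArg (zl ≫ ·) (pullback.lift_fst _ _ _)).trans
          (((congrArg ((zl ≫ σ a) ≫ ·) (pullback.diagonal_fst f)).trans (Category.comp_id _)).symm.trans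
            (Category.assoc _ _ _).symm)))
        ((Category.assoc _ _ _).trans ((congrArg (zl ≫ ·) (pullback.lift_snd _ _ _)).trans
          (e.symm.trans (((congrArg ((zl ≫ σ a) ≫ ·) (pullback.diagonal_snd f)).trans (Category.comp_id _)).symm.trans
            (Category.assoc _ _ _).symm))))
      refine ⟨(zl ≫ σ a).base (default : Spec (CommRingCat.of k)), ?_⟩
      show Δ.base _ = (τ _).base (val q)
      rw [← Scheme.Hom.comp_apply, ← e']
      exact (Scheme.Hom.comp_apply _ _ _).trans (congrArg (τ _).base hqz.symm)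
    · let M : Spec (CommRingCat.of k) ⟶ P := pullback.lift zl y'.1 ((CategoryTheory.Over.w z).trans y'.2.symm)
      have hM : M.base (default : Spec (CommRingCat.of k)) ∈ ⋃ a, Set.range (sec a).base := by
        by_contra h
        refine hqB ⟨_, h, ?_⟩
        exact (Scheme.Hom.comp_apply _ _ _).symm.trans ((congrArg (fun r : Spec (CommRingCat.of k) ⟶ W.left =>
          r.base (default : Spec (CommRingCat.of k))) (pullback.lift_fst _ _ _)).trans hqz.symm)
      obtain ⟨a, ha⟩ := Set.mem_iUnion.1 hM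
      have := hoi a
      have hr : Set.range M.base ⊆ Set.range (sec a).base := by
        rintro _ ⟨x, rfl⟩
        rw [Subsingleton.elim (α := Spec (CommRingCat.of k)) x default]
        exact ha
      have h1 := IsOpenImmersion.lift_fac (sec a) M hr
      have h2 := congrArg (· ≫ pr) h1
      simp only [Category.assoc, hsec, Category.comp_id] at h2
      have h3 : IsOpenImmersion.lift (sec a) M hr = zl := h2.trans (pullback.lift_fst _ _ _)
      rw [h3] at h1
      refine ⟨a, Subtype.ext ((hYv a).trans ?_)⟩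
      exact (((congrArg (zl ≫ ·) (pullback.lift_snd _ _ _).symm).trans (Category.assoc _ _ _).symm).trans
        (congrArg (· ≫ pullback.snd W.hom f) h1)).trans (pullback.lift_snd _ _ _)
  haveI := Fintype.ofBijective Y hY
  let g : ∀ a, Ma a → (EtModW.stalk Λ (Y a).1).obj F := fun a s =>
    (Scheme.pointSmallEtale (Y a).1).toPresheafFiber (Wa a) (projElt (Wa a) (v a)) F.obj (φa a s)
  have hg : Function.Bijective fun c : (∀ a, Ma a) => fun a => g a (c a) :=
    Function.Bijective.piMap fun a => by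
      refine hgoodA a (projElt (Wa a) (v a)) ?_
      rw [hom_ptOf]
      refine Set.mem_of_eq_of_mem ?_ (Set.mem_iInter.1 hqEa a)
      show (Y a).1.base _ = (σ a).base (val q)
      rw [hYv a, Scheme.Hom.comp_apply]
      exact congrArg (σ a).base hqz.symm
  have hL : ∀ a (s : Ma a), (Scheme.pointSmallEtale η).toPresheafFiber W z G.obj (l a s) =
      extZeroι f η F (Y a) (g a s) := fun a s => by
    refine ((Scheme.pointSmallEtale η).toPresheafFiber_w_apply (r a) z G.obj _).trans ?_
    refine Eq.trans ?_ (ConcreteCategory.congr_hom (extZeroι_germ f η F (Y a) (Wa a) (projElt (Wa a) (v a))) (φa a s)).symm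
    show _ = (Scheme.pointSmallEtale η).toPresheafFiber _ (extLiftPt (Y a) (Wa a) (projElt (Wa a) (v a))) G.obj _
    rw [extLiftPt_projElt]
    rfl
  refine Eq.mp (congrArg Function.Bijective (funext fun c => ?_)) ((bijective_extZero_sum f η F Y hY).comp hg)
  show ∑ a, _ = (Scheme.pointSmallEtale η).toPresheafFiber W z G.obj (L c)
  rw [LinearMap.sum_apply, map_sum]
  exact Finset.sum_congr rfl fun a _ => (hL a (c a)).symm

/-- Extensions by zero along quasi-compact quasi-separated etale morphisms preserve constructibility. -/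
theorem isConstructible_extZero [IsNoetherianRing Λ] [QuasiCompact f] [QuasiSeparated f] {F : EtModW.Mod Λ U}
    (hF : EtModW.IsConstructible Λ F) : EtModW.IsConstructible Λ ((EtSix.extZeroMod Λ f).obj F) :=
  isConstructible_of_pieces fun _ hV y hy => exists_piece_extZero f hF hV y hy

end Groth.Agent.H9Misc.ExtZeroModConstr
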