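import Groth.Agent.ARLib.SubobjLattice
import Mathlib.CategoryTheory.Abelian.GrothendieckAxioms.Colim
import Mathlib.CategoryTheory.Abelian.GrothendieckCategory.Basic
import Mathlib.CategoryTheory.Limits.Preserves.Finite
import Mathlib.CategoryTheory.Limits.FunctorCategory.Shapes.Pullbacks
import Mathlib.CategoryTheory.Filtered.Connected
import Mathlib.CategoryTheory.Limits.Preserves.Filtered
import Mathlib.CategoryTheory.Functor.ReflectsIso.Balanced

/-! Abelian categories with a faithful exact left adjoint functor to a nice category. -/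

universe w v₁ u₁ u₂

open CategoryTheory Category Limits
open scoped Classical

namespace Groth.Agent.H9Misc.FaithfulLeftAdj

variable {A : Type u₁} [Category.{w} A] [Abelian A] [HasColimitsOfSize.{w, w} A]
  {B : Type u₂} [Category.{w} B] [Abelian B] [HasColimitsOfSize.{w, w} B] [AB5OfSize.{w, w} B]
  (F : A ⥤ B) (G : B ⥤ A) (adj : F ⊣ G) [F.Additive] [F.Faithful]
  [PreservesFiniteLimits F] [PreservesFiniteColimits F] [PreservesFilteredColimitsOfSize.{w, w} G]

include adj in
theorem ab5 : AB5OfSize.{w, w} A := by
  have : F.IsLeftAdjoint := adj.isLeftAdjoint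
  have : ReflectsFiniteLimits F := ⟨fun J _ _ => reflectsLimitsOfShape_of_reflectsIsomorphisms⟩
  exact ⟨fun J _ _ => HasExactColimitsOfShape.domain_of_functor J F⟩

include F in
lemma small_subobject [∀ b : B, Small.{w} (Subobject b)] (a : A) : Small.{w} (Subobject a) := by
  refine small_of_injective (f := fun S : Subobject a => Subobject.mk (F.map S.arrow)) fun S T h => ?_
  have le : ∀ {S T : Subobject a}, Subobject.mk (F.map S.arrow) ≤ Subobject.mk (F.map T.arrow) → S ≤ T := by
    intro S T h
    obtain ⟨g, hg⟩ : ∃ g, g ≫ F.map T.arrow = F.map S.arrow :=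
      ⟨_, Subobject.ofMkLEMk_comp h⟩
    have hp : IsPullback (F.map (pullback.fst S.arrow T.arrow)) (F.map (pullback.snd S.arrow T.arrow))
        (F.map S.arrow) (F.map T.arrow) := (IsPullback.of_hasPullback _ _).map F
    have : Epi (F.map (pullback.fst S.arrow T.arrow)) :=
      (SplitEpi.mk (hp.lift (𝟙 _) g (by rw [id_comp, hg])) (hp.lift_fst _ _ _)).epi
    have : Epi (pullback.fst S.arrow T.arrow) := F.epi_of_epi_map this
    have : IsIso (pullback.fst S.arrow T.arrow) := isIso_of_mono_of_epi _
    exact Subobject.le_of_comm (inv (pullback.fst S.arrow T.arrow) ≫ pullback.snd S.arrow T.arrow)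
      (by rw [assoc, ← pullback.condition, IsIso.inv_hom_id_assoc])
  exact le_antisymm (le h.le) (le h.ge)

section Pieces

variable {ι : Type w} (s : ι → B) (a : A)

/-- Index of the pieces. -/
abbrev Idx := Finset (Σ i, (s i ⟶ F.obj a))

/-- The subobject of `F a` covered by a finite set of morphisms. -/
noncomputable def cov (J : Idx F s a) : Subobject (F.obj a) :=
  imageSubobject (Sigma.desc fun p : J => p.1.2)

lemma cov_mono : Monotone (cov F s a) := fun J J' h => by
  show imageSubobject _ ≤ imageSubobject _
  refine le_of_eq_of_le ?_ (imageSubobject_comp_le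
    (Sigma.desc fun p : J => Sigma.ι (fun q : J' => s q.1.1) ⟨p.1, h p.2⟩) (Sigma.desc fun p : J' => p.1.2))
  congr 1
  exact Sigma.hom_ext _ _ fun p => by simp

/-- The diagram of the pieces. -/
noncomputable def covFunctor : Idx F s a ⥤ B :=
  Monotone.functor (cov_mono F s a) ⋙ Subobject.underlying

/-- Its inclusion in `F a`. -/
noncomputable def covHom : covFunctor F s a ⟶ (Functor.const _).obj (F.obj a) where
  app J := (cov F s a J).arrow
  naturality J J' f := by
    show Subobject.underlying.map ((cov_mono F s a).functor.map f) ≫ (cov F s a J').arrow = (cov F s a J).arrow ≫ 𝟙 _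
    rw [comp_id]
    exact Subobject.underlying_arrow _

variable (hsep : ∀ ⦃X Y : B⦄ (f g : X ⟶ Y), (∀ (i : ι) (h : s i ⟶ X), h ≫ f = h ≫ g) → f = g)

include hsep in
lemma isIso_colimMap_covHom : IsIso (colim.map (covHom F s a)) := by
  classical
  have := IsFiltered.isConnected (Idx F s a)
  have : ∀ J, Mono ((covHom F s a).app J) := fun J => inferInstanceAs (Mono (cov F s a J).arrow)
  have : Mono (covHom F s a) := NatTrans.mono_of_mono_app _
  have : Mono (colim.map (covHom F s a)) := inferInstance
  have hi : IsIso (colimit.desc ((Functor.const (Idx F s a)).obj (F.obj a)) (constCocone _ (F.obj a))) :=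
    ((colimit.isColimit _).coconePointUniqueUpToIso (isColimitConstCocone _ (F.obj a))).isIso_hom
  have : Epi (colim.map (covHom F s a) ≫ colimit.desc ((Functor.const (Idx F s a)).obj (F.obj a)) (constCocone _ (F.obj a))) := by
    refine ⟨fun {T} f g h => hsep f g fun i φ => ?_⟩
    let J : Idx F s a := {⟨i, φ⟩}
    have h' := congrArg (colimit.ι (covFunctor F s a) J ≫ ·) h
    simp [covHom] at h'
    have e : φ = Sigma.ι (fun p : J => s p.1.1) ⟨⟨i, φ⟩, Finset.mem_singleton_self _⟩ ≫
        factorThruImageSubobject (Sigma.desc fun p : J => p.1.2) ≫ (cov F s a J).arrow := by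
      simp [cov, J]
    have gen : ∀ {P Q R : B} (p : P ⟶ Q) (q : Q ⟶ R) (r : R ⟶ F.obj a), r ≫ f = r ≫ g →
        (p ≫ q ≫ r) ≫ f = (p ≫ q ≫ r) ≫ g := fun p q r hr => by simp only [assoc, hr]
    erw [id_comp, id_comp] at h'
    exact (congrArg (· ≫ f) e).trans ((gen _ _ _ h').trans (congrArg (· ≫ g) e).symm)
  have : IsIso (colim.map (covHom F s a) ≫ colimit.desc ((Functor.const (Idx F s a)).obj (F.obj a)) (constCocone _ (F.obj a))) :=
    isIso_of_mono_of_epi _
  exact IsIso.of_isIso_comp_right _ (colimit.desc ((Functor.const (Idx F s a)).obj (F.obj a)) (constCocone _ (F.obj a)))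

/-- The comparison into the constant diagram. -/
noncomputable def unitConst : (Functor.const (Idx F s a)).obj a ⟶ (Functor.const _).obj (G.obj (F.obj a)) :=
  (Functor.const _).map (adj.unit.app a)

/-- `G` of the pieces. -/
noncomputable def gHom : covFunctor F s a ⋙ G ⟶ (Functor.const _).obj (G.obj (F.obj a)) :=
  Functor.whiskerRight (covHom F s a) G ≫ (Functor.constComp _ _ _).hom

/-- The pieces of `a`. -/
noncomputable abbrev piece : Idx F s a ⥤ A := pullback (unitConst F G adj s a) (gHom F G s a)

lemma isPullback_app (J : Idx F s a) :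
    IsPullback ((pullback.fst (unitConst F G adj s a) (gHom F G s a)).app J)
      ((pullback.snd (unitConst F G adj s a) (gHom F G s a)).app J)
      (adj.unit.app a) ((gHom F G s a).app J) :=
  (IsPullback.of_hasPullback _ _).map ((evaluation _ A).obj J)

include hsep in
lemma isIso_colimMap_fst :
    IsIso (colim.map (pullback.fst (unitConst F G adj s a) (gHom F G s a))) := by
  have := ab5 F G adj
  have h1 : IsIso (colim.map (gHom F G s a)) := by
    have := isIso_colimMap_covHom F s a hsep
    have h := (preservesColimitNatIso G).hom.naturality (covHom F s a)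
    have : IsIso (colim.map (Functor.whiskerRight (covHom F s a) G)) := by
      refine (NatIso.isIso_map_iff (preservesColimitNatIso (J := Idx F s a) G) (covHom F s a)).1 ?_
      exact inferInstanceAs (IsIso (G.map (colim.map (covHom F s a))))
    unfold gHom
    rw [Functor.map_comp]
    exact IsIso.comp_isIso' this inferInstance
  exact ((IsPullback.of_hasPullback _ _).map (colim (J := Idx F s a) (C := A))).isIso_fst_of_isIso

include hsep in
lemma piece_jointly_epi {T : A} (f g : a ⟶ T)
    (h : ∀ J, (pullback.fst (unitConst F G adj s a) (gHom F G s a)).app J ≫ f =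
      (pullback.fst (unitConst F G adj s a) (gHom F G s a)).app J ≫ g) : f = g := by
  have := isIso_colimMap_fst F G adj s a hsep
  have := IsFiltered.isConnected (Idx F s a)
  have hi : IsIso (colimit.desc ((Functor.const (Idx F s a)).obj a) (constCocone _ a)) :=
    ((colimit.isColimit _).coconePointUniqueUpToIso (isColimitConstCocone _ a)).isIso_hom
  refine (cancel_epi (colim.map (pullback.fst (unitConst F G adj s a) (gHom F G s a)) ≫
    colimit.desc ((Functor.const (Idx F s a)).obj a) (constCocone _ a))).1 ?_
  refine colimit.hom_ext fun J => ?_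
  have := h J
  simp
  erw [id_comp, id_comp]
  exact this

lemma mono_piece (J : Idx F s a) :
    Mono ((pullback.snd (unitConst F G adj s a) (gHom F G s a)).app J) ∧
    Mono ((pullback.fst (unitConst F G adj s a) (gHom F G s a)).app J) ∧
    Mono (F.map ((pullback.snd (unitConst F G adj s a) (gHom F G s a)).app J) ≫ adj.counit.app _) := by
  have : G.IsRightAdjoint := adj.isRightAdjoint
  have : Mono ((gHom F G s a).app J) := by
    unfold gHom
    simp only [NatTrans.comp_app, Functor.whiskerRight_app, Functor.constComp_hom_app]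
    have : Mono ((covHom F s a).app J) := inferInstanceAs (Mono (cov F s a J).arrow)
    infer_instance
  have : Mono (adj.unit.app a) := by
    refine ⟨fun {T} f g h => F.map_injective ?_⟩
    have := congrArg (fun t => F.map t ≫ adj.counit.app (F.obj a)) h
    simpa [adj.left_triangle_components] using this
  have hp := isPullback_app F G adj s a J
  have : Mono ((pullback.fst (unitConst F G adj s a) (gHom F G s a)).app J) := hp.mono_fst_of_mono
  refine ⟨hp.mono_snd_of_mono, this, ?_⟩
  have e : (F.map ((pullback.snd (unitConst F G adj s a) (gHom F G s a)).app J) ≫ adj.counit.app _) ≫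
      (cov F s a J).arrow = F.map ((pullback.fst (unitConst F G adj s a) (gHom F G s a)).app J) := by
    have h : F.map ((pullback.fst (unitConst F G adj s a) (gHom F G s a)).app J ≫ adj.unit.app a) ≫ adj.counit.app (F.obj a) =
        F.map ((pullback.snd (unitConst F G adj s a) (gHom F G s a)).app J ≫ G.map (cov F s a J).arrow) ≫ adj.counit.app (F.obj a) := by
      refine congrArg (fun t => F.map t ≫ adj.counit.app (F.obj a)) (hp.w.trans ?_)
      simp only [gHom, NatTrans.comp_app, Functor.whiskerRight_app, Functor.constComp_hom_app]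
      exact congrArg (_ ≫ ·) (comp_id _)
    exact (assoc _ _ _).trans ((congrArg (_ ≫ ·) (adj.counit.naturality (cov F s a J).arrow).symm).trans
      ((assoc _ _ _).symm.trans ((congrArg (· ≫ adj.counit.app (F.obj a)) (F.map_comp _ _).symm).trans
        (h.symm.trans ((congrArg (· ≫ adj.counit.app (F.obj a)) (F.map_comp _ _)).trans
          ((assoc _ _ _).trans ((congrArg (_ ≫ ·) (adj.left_triangle_components a)).trans (comp_id _))))))))
  exact mono_of_mono_fac e

end Pieces

section Noetherian

lemma isNoetherianObject_sup {X : B} (S T : Subobject X) [IsNoetherianObject (S : B)] [IsNoetherianObject (T : B)] :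
    IsNoetherianObject ((S ⊔ T : Subobject X) : B) := by
  have := Groth.Agent.SubLat.isNoetherianObject_biprod (X := (S : B)) (Y := (T : B))
  let q : (S : B) ⊞ (T : B) ⟶ X := biprod.desc S.arrow T.arrow
  have := Groth.Agent.SubLat.isNoetherianObject_of_epi (factorThruImageSubobject q)
  have h : S ⊔ T ≤ imageSubobject q := sup_le
    (Subobject.le_of_comm (biprod.inl ≫ factorThruImageSubobject q) (by simp [q]))
    (Subobject.le_of_comm (biprod.inr ≫ factorThruImageSubobject q) (by simp [q]))
  exact isNoetherianObject_of_mono (Subobject.ofLE _ _ h)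

variable {ι : Type w} (s : ι → B) (hsN : ∀ i, IsNoetherianObject (s i)) (a : A)

include hsN in
lemma isNoetherianObject_cov (J : Idx F s a) : IsNoetherianObject ((cov F s a J : Subobject _) : B) := by
  classical
  let T : Subobject (F.obj a) := J.sup fun p => imageSubobject p.2
  have hT : IsNoetherianObject (T : B) := by
    refine Finset.sup_induction (p := fun T : Subobject (F.obj a) => IsNoetherianObject (T : B)) ?_ (fun S hS S' hS' => ?_) (fun p _ => ?_)
    · exact isNoetherianObject_of_isZero ((isZero_zero B).of_iso Subobject.botCoeIsoZero)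
    · have := hS; have := hS'; exact isNoetherianObject_sup S S'
    · have := hsN p.1
      exact Groth.Agent.SubLat.isNoetherianObject_of_epi (factorThruImageSubobject p.2)
  have h : cov F s a J ≤ T := by
    refine imageSubobject_le _ (Sigma.desc fun p => factorThruImageSubobject p.1.2 ≫
      Subobject.ofLE _ _ (Finset.le_sup (f := fun p => imageSubobject p.2) p.2)) ?_
    exact Sigma.hom_ext _ _ fun p => by simp
  exact isNoetherianObject_of_mono (Subobject.ofLE _ _ h)

lemma isNoetherianObject_of_map [IsNoetherianObject (F.obj a)] : IsNoetherianObject a := by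
  rw [isNoetherianObject_iff_monotone_chain_condition]
  intro f
  have hF : ∀ {S T : Subobject a}, S ≤ T → Subobject.mk (F.map S.arrow) ≤ Subobject.mk (F.map T.arrow) :=
    fun {S T} h => Subobject.mk_le_mk_of_comm (F.map (Subobject.ofLE S T h)) (by rw [← F.map_comp, Subobject.ofLE_arrow])
  obtain ⟨n, hn⟩ := monotone_chain_condition_of_isNoetherianObject
    ⟨fun k => Subobject.mk (F.map (f k).arrow), fun i j h => hF (f.2 h)⟩
  refine ⟨n, fun m hm => (le_antisymm (f.2 hm) ?_)⟩
  have h' : f n ≤ f m := f.2 hm
  let g := Subobject.ofLE (f n) (f m) h'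
  have : IsIso (F.map g) := by
    have e : F.map g ≫ F.map (f m).arrow = F.map (f n).arrow := by rw [← F.map_comp, Subobject.ofLE_arrow]
    have : F.map g = (Subobject.isoOfMkEqMk _ _ (hn m hm)).hom := by
      rw [← cancel_mono (F.map (f m).arrow), e]
      simp [Subobject.ofMkLEMk]
    rw [this]; infer_instance
  have : IsIso g := isIso_of_reflects_iso g F
  exact Subobject.le_of_comm (inv g) (by rw [IsIso.inv_comp_eq, Subobject.ofLE_arrow])

end Noetherian

section Main

variable {ι : Type w} (s : ι → B)
  (hsep : ∀ ⦃X Y : B⦄ (f g : X ⟶ Y), (∀ (i : ι) (h : s i ⟶ X), h ≫ f = h ≫ g) → f = g)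
  (hsN : ∀ i, IsNoetherianObject (s i))

include adj hsep hsN in
theorem isNoetherianObject_map (a : A) [IsNoetherianObject a] : IsNoetherianObject (F.obj a) := by
  classical
  let S : Idx F s a → Subobject a := fun J =>
    have := (mono_piece F G adj s a J).2.1
    Subobject.mk ((pullback.fst (unitConst F G adj s a) (gHom F G s a)).app J)
  have hS : Monotone S := fun J J' h => by
    have := (mono_piece F G adj s a J).2.1
    have := (mono_piece F G adj s a J').2.1
    exact Subobject.mk_le_mk_of_comm ((piece F G adj s a).map (homOfLE h))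
      (((pullback.fst (unitConst F G adj s a) (gHom F G s a)).naturality (homOfLE h)).trans (comp_id _))
  obtain ⟨_, ⟨J₀, rfl⟩, hmax⟩ := (wellFounded_gt (α := Subobject a)).has_min (Set.range S) ⟨_, ∅, rfl⟩
  have hle : ∀ J, S J ≤ S J₀ := fun J => by
    have h1 : S J₀ ≤ S (J₀ ∪ J) := hS Finset.subset_union_left
    have h2 := eq_of_le_of_not_lt h1 (hmax _ ⟨_, rfl⟩)
    rw [h2]
    exact hS Finset.subset_union_right
  have := (mono_piece F G adj s a J₀).2.1
  have : Epi ((pullback.fst (unitConst F G adj s a) (gHom F G s a)).app J₀) := by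
    refine ⟨fun {T} f g h => piece_jointly_epi F G adj s a hsep f g fun J => ?_⟩
    have := (mono_piece F G adj s a J).2.1
    have e := Subobject.ofMkLEMk_comp (hle J)
    rw [← e, assoc, assoc, h]
  have : IsIso ((pullback.fst (unitConst F G adj s a) (gHom F G s a)).app J₀) := isIso_of_mono_of_epi _
  have := (mono_piece F G adj s a J₀).2.2
  have := isNoetherianObject_cov F s hsN a J₀
  have h : IsNoetherianObject (F.obj ((piece F G adj s a).obj J₀)) :=
    @isNoetherianObject_of_mono _ _ _ _
      (F.map ((pullback.snd (unitConst F G adj s a) (gHom F G s a)).app J₀) ≫ adj.counit.app _)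
      (mono_piece F G adj s a J₀).2.2 this
  exact isNoetherianObject_of_mono (F.map (inv ((pullback.fst (unitConst F G adj s a) (gHom F G s a)).app J₀)))

/-- The candidate family. -/
noncomputable abbrev Fam [∀ b : B, Small.{w} (Subobject b)] [∀ a : A, Small.{w} (Subobject a)] : Type w :=
  Σ (m : ℕ) (i : Fin m → ι) (K : Shrink.{w} (Subobject (∐ fun j => s (i j)))),
    Shrink.{w} (Subobject (G.obj (cokernel ((equivShrink _).symm K).arrow)))

/-- The objects of the family. -/
noncomputable def famObj [∀ b : B, Small.{w} (Subobject b)] [∀ a : A, Small.{w} (Subobject a)] (k : Fam G s) : A :=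
  (((equivShrink _).symm k.2.2.2 : Subobject _) : A)

include adj hsep in
theorem fam_separates [∀ b : B, Small.{w} (Subobject b)] [∀ a : A, Small.{w} (Subobject a)]
    (P : A → Prop) (hPiso : ∀ {x y : A}, (x ≅ y) → P x → P y)
    (hP : ∀ (a : A) (J : Idx F s a), P ((piece F G adj s a).obj J))
    ⦃X Y : A⦄ (f g : X ⟶ Y) (h : ∀ (k : Fam G s), P (famObj G s k) → ∀ (φ : famObj G s k ⟶ X), φ ≫ f = φ ≫ g) : f = g := by
  classical
  refine piece_jointly_epi F G adj s X hsep f g fun J => ?_
  let e := J.equivFin.symm
  let i : Fin J.card → ι := fun m => (e m).1.1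
  let q : (∐ fun m => s (i m)) ⟶ ((cov F s X J : Subobject _) : B) :=
    Sigma.desc fun m => Sigma.ι (fun p : J => s p.1.1) (e m) ≫ factorThruImageSubobject (Sigma.desc fun p : J => p.1.2)
  have : Epi q := by
    have : q = Sigma.desc (fun m => Sigma.ι (fun p : J => s p.1.1) (e m)) ≫
        factorThruImageSubobject (Sigma.desc fun p : J => p.1.2) := Sigma.hom_ext _ _ fun m => by
      simp only [q, Sigma.ι_desc]
      exact (Sigma.ι_desc_assoc (fun m => Sigma.ι (fun p : J => s p.1.1) (e m)) m _).symm
    rw [this]
    have : Epi (Sigma.desc fun m => Sigma.ι (fun p : J => s p.1.1) (e m)) := by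
      refine ⟨fun {T} f' g' h' => Sigma.hom_ext _ _ fun p => ?_⟩
      obtain ⟨m, rfl⟩ := e.surjective p
      have := congrArg (Sigma.ι (fun m => s (i m)) m ≫ ·) h'
      exact (Sigma.ι_desc_assoc (fun m => Sigma.ι (fun p : J => s p.1.1) (e m)) m f').symm.trans (this.trans (Sigma.ι_desc_assoc _ _ _))
    exact epi_comp' this (inferInstanceAs (Epi (factorThruImageSubobject (Sigma.desc fun p : J => p.1.2))))
  let K : Subobject (∐ fun m => s (i m)) := Subobject.mk (kernel.ι q)
  obtain ⟨θ⟩ : Nonempty (cokernel ((equivShrink _).symm (equivShrink _ K)).arrow ≅ ((cov F s X J : Subobject _) : B)) := by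
    rw [Equiv.symm_apply_apply]
    refine ⟨cokernelIsoOfEq (Subobject.underlyingIso_hom_comp_eq_mk _).symm ≪≫ cokernelEpiComp _ _ ≪≫
      ?_⟩
    exact IsColimit.coconePointUniqueUpToIso (cokernelIsCokernel _)
      (Abelian.epiIsCokernelOfKernel _ (kernelIsKernel q))
  have := (mono_piece F G adj s X J).1
  let S : Subobject (G.obj (cokernel ((equivShrink _).symm (equivShrink _ K)).arrow)) :=
    Subobject.mk ((pullback.snd (unitConst F G adj s X) (gHom F G s X)).app J ≫ (G.mapIso θ.symm).hom)
  let k : Fam G s := ⟨J.card, i, equivShrink _ K, equivShrink _ S⟩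
  obtain ⟨ψ⟩ : Nonempty (famObj G s k ≅ (piece F G adj s X).obj J) := by
    unfold famObj
    simp only [k, Equiv.symm_apply_apply]
    exact ⟨Subobject.underlyingIso _⟩
  have := h k (hPiso ψ.symm (hP X J)) (ψ.hom ≫ (pullback.fst (unitConst F G adj s X) (gHom F G s X)).app J)
  rwa [assoc, assoc, cancel_epi] at this

end Main

end Groth.Agent.H9Misc.FaithfulLeftAdj
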