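import Groth.Agent.Lib.NormalPush
import Groth.Agent.VarDim.Top
import Groth.Agent.VarDim.Fibre

/-! Fibrations and function fields. -/

universe u

set_option linter.style.haveILetI false
set_option backward.isDefEq.respectTransparency false
set_option backward.isDefEq.respectTransparency.types false

open CategoryTheory CategoryTheory.Limits AlgebraicGeometry TopologicalSpace Opposite

namespace Groth.Agent.H9Misc.FibrationFF

open Groth.Agent.Lib

variable {X Y : Scheme.{u}} [IsIntegral X] [IsIntegral Y] (f : X ⟶ Y)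
  (h : f.base (genericPoint X) ⤳ genericPoint Y)

theorem halg_of_integral
    (H : ∀ x : X.functionField, (CohIII.stalkToFunctionField f (genericPoint Y) h).IsIntegralElem x →
      x ∈ (CohIII.stalkToFunctionField f (genericPoint Y) h).range)
    (x : X.functionField)
    (hx : ∃ p : Polynomial Y.functionField, p ≠ 0 ∧
        Polynomial.eval₂ (CohIII.stalkToFunctionField f (genericPoint Y) h) x p = 0) :
    x ∈ Set.range (CohIII.stalkToFunctionField f (genericPoint Y) h) := by
  obtain ⟨p, hp, e⟩ := hx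
  refine H x ⟨p * Polynomial.C p.leadingCoeff⁻¹, Polynomial.monic_mul_leadingCoeff_inv hp, ?_⟩
  rw [Polynomial.eval₂_mul, e, zero_mul]

theorem germ_comm {V : Y.Opens} (hηV : genericPoint Y ∈ V) (hηW : genericPoint X ∈ f ⁻¹ᵁ V) (a : Γ(Y, V)) :
    (CohIII.stalkToFunctionField f (genericPoint Y) h) (Y.presheaf.germ V (genericPoint Y) hηV a) =
      X.presheaf.germ (f ⁻¹ᵁ V) (genericPoint X) hηW (f.app V a) := by
  show (f.stalkMap (genericPoint X)).hom ((Y.presheaf.stalkSpecializes h).hom
      ((Y.presheaf.germ V (genericPoint Y) hηV).hom a)) = _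
  rw [show (Y.presheaf.stalkSpecializes h).hom ((Y.presheaf.germ V (genericPoint Y) hηV).hom a) =
    (Y.presheaf.germ V (f.base (genericPoint X)) (h.mem_open V.2 hηV)).hom a from
    Y.presheaf.germ_stalkSpecializes_apply hηV h a]
  exact Scheme.Hom.germ_stalkMap_apply f V (genericPoint X) _ a

include h in
theorem generic_mem {V : Y.Opens} (hηV : genericPoint Y ∈ V) : genericPoint X ∈ f ⁻¹ᵁ V := by
  show f.base (genericPoint X) ∈ V
  rw [NormalPush.eq_genericPoint f h]; exact hηV

/-- Functions with values in a normal scheme: integral elements come from sections. -/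
theorem exists_section (hX : Pi1.IsNormalScheme X) {V : Y.Opens} (hV : IsAffineOpen V)
    (hηV : genericPoint Y ∈ V) (z : X.functionField) (p : Polynomial Γ(Y, V)) (hp : p.Monic)
    (hz : Polynomial.eval₂ ((CohIII.stalkToFunctionField f (genericPoint Y) h).comp
        (Y.presheaf.germ V (genericPoint Y) hηV).hom) z p = 0) :
    ∃ s : Γ(X, f ⁻¹ᵁ V), X.presheaf.germ (f ⁻¹ᵁ V) (genericPoint X) (generic_mem f h hηV) s = z := by
  have key : ∀ x : X, x ∈ f ⁻¹ᵁ V → ∃ W : X.Opens, x ∈ W ∧ W ≤ f ⁻¹ᵁ V ∧ ∃ (hW : genericPoint X ∈ W) (t : Γ(X, W)),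
      X.presheaf.germ W (genericPoint X) hW t = z := by
    intro x hx
    obtain ⟨_, ⟨W, hWa, rfl⟩, hxW, hWle⟩ :=
      X.isBasis_affineOpens.exists_subset_of_mem_open hx (f ⁻¹ᵁ V).2
    have hW : genericPoint X ∈ W := ((genericPoint_spec X).mem_open_set_iff W.2).mpr ⟨x, trivial, hxW⟩
    have hle : W ≤ f ⁻¹ᵁ V := hWle
    haveI : Nonempty W := ⟨⟨x, hxW⟩⟩
    haveI : IsFractionRing Γ(X, W) X.functionField := functionField_isFractionRing_of_isAffineOpen X W hWa
    haveI : IsIntegrallyClosed Γ(X, W) := (Groth.Agent.S9821.result X).1 hX W hWa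
    let r : Γ(Y, V) →+* Γ(X, W) := (f.app V ≫ X.presheaf.map (homOfLE hle).op).hom
    have hr : (algebraMap Γ(X, W) X.functionField).comp r =
        (CohIII.stalkToFunctionField f (genericPoint Y) h).comp (Y.presheaf.germ V (genericPoint Y) hηV).hom := by
      refine RingHom.ext fun a => ?_
      show X.presheaf.germ W (genericPoint X) hW (X.presheaf.map (homOfLE hle).op (f.app V a)) = _
      rw [X.presheaf.germ_res_apply]
      exact (germ_comm f h hηV _ a).symm
    have hint : IsIntegral Γ(X, W) z := ⟨p.map r, hp.map r, by rw [Polynomial.eval₂_map, hr]; exact hz⟩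
    obtain ⟨t, ht⟩ := IsIntegrallyClosed.isIntegral_iff.1 hint
    exact ⟨W, hxW, hle, hW, t, ht⟩
  choose W hxW hWle hW t ht using key
  let O : (f ⁻¹ᵁ V : X.Opens) → X.Opens := fun i => W i.1 i.2
  have hcompat : TopCat.Presheaf.IsCompatible X.sheaf.obj O fun i => t i.1 i.2 := by
    intro i j
    have hij : genericPoint X ∈ O i ⊓ O j := ⟨hW i.1 i.2, hW j.1 j.2⟩
    refine germ_injective_of_isIntegral X (genericPoint X) hij ?_
    erw [X.presheaf.germ_res_apply, X.presheaf.germ_res_apply]
    exact (ht i.1 i.2).trans (ht j.1 j.2).symm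
  obtain ⟨s, hs, -⟩ := TopCat.Sheaf.existsUnique_gluing' X.sheaf O (f ⁻¹ᵁ V)
    (fun i => homOfLE (hWle i.1 i.2))
    (fun x hx => Opens.mem_iSup.2 ⟨⟨x, hx⟩, hxW x hx⟩) _ hcompat
  refine ⟨s, ?_⟩
  have hη := generic_mem f h hηV
  rw [← ht _ hη, ← show X.presheaf.map (homOfLE (hWle _ hη)).op s = t _ hη from hs ⟨_, hη⟩,
    X.presheaf.germ_res_apply]

/-- A fibration with normal source has algebraically closed function field. -/
theorem mem_range_of_integral (hX : Pi1.IsNormalScheme X) (hiso : ∀ U : Y.Opens, IsIso (f.app U))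
    (x : X.functionField) (hx : (CohIII.stalkToFunctionField f (genericPoint Y) h).IsIntegralElem x) :
    x ∈ (CohIII.stalkToFunctionField f (genericPoint Y) h).range := by
  obtain ⟨_, ⟨V, hV, rfl⟩, hηV, -⟩ :=
    Y.isBasis_affineOpens.exists_subset_of_mem_open (Set.mem_univ (genericPoint Y)) isOpen_univ
  haveI : Nonempty V := ⟨⟨_, hηV⟩⟩
  haveI : IsFractionRing Γ(Y, V) Y.functionField := functionField_isFractionRing_of_isAffineOpen Y V hV
  let φ : Y.functionField →+* X.functionField := CohIII.stalkToFunctionField f (genericPoint Y) h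
  let ψ : Γ(Y, V) →+* Y.functionField := (Y.presheaf.germ V (genericPoint Y) hηV).hom
  letI : Algebra Y.functionField X.functionField := φ.toAlgebra
  letI : Algebra Γ(Y, V) X.functionField := (φ.comp ψ).toAlgebra
  haveI : IsScalarTower Γ(Y, V) Y.functionField X.functionField := IsScalarTower.of_algebraMap_eq fun _ => rfl
  obtain ⟨m, p, hp, hpm⟩ := IsIntegral.exists_multiple_integral_of_isLocalization (R := Γ(Y, V))
    (nonZeroDivisors Γ(Y, V)) (Rₘ := Y.functionField) x hx
  obtain ⟨s, hs⟩ := exists_section f h hX hV hηV (m • x) p hp hpm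
  obtain ⟨a, ha⟩ := (ConcreteCategory.bijective_of_isIso (f.app V)).2 s
  have hm : ψ m ≠ 0 := IsLocalization.to_map_ne_zero_of_mem_nonZeroDivisors (S := Y.functionField) le_rfl m.2
  have e : φ (ψ a) = φ (ψ m) * x := by
    have h1 := germ_comm f h hηV (generic_mem f h hηV) a
    rw [ha, hs] at h1
    refine h1.trans ?_
    rw [Submonoid.smul_def, Algebra.smul_def]
    rfl
  refine ⟨ψ a / ψ m, ?_⟩
  show φ (ψ a / ψ m) = x
  rw [map_div₀, e, mul_div_cancel_left₀ _ (by simpa using hm)]

/-- If the source is not normal but finite type of the same dimension, a fibration is birational. -/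
theorem bijective_of_dim_eq {k : Type u} [Field k] (p : X ⟶ Spec (CommRingCat.of k))
    (q : Y ⟶ Spec (CommRingCat.of k)) [IsProper p] [IsProper q] (hf : f ≫ q = p)
    (hdim : topologicalKrullDim X = topologicalKrullDim Y) (hiso : ∀ U : Y.Opens, IsIso (f.app U)) :
    Function.Bijective (CohIII.stalkToFunctionField f (genericPoint Y) h) := by
  haveI : IsProper (f ≫ q) := hf ▸ ‹IsProper p›
  haveI : IsProper f := IsProper.of_comp f q
  haveI : X.IsSeparated := ⟨by rw [← terminal.comp_from p]; infer_instance⟩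
  haveI : Y.IsSeparated := ⟨by rw [← terminal.comp_from q]; infer_instance⟩
  have huniq : ∀ z : X, f z = genericPoint Y → z = genericPoint X := by
    intro z hz
    refine (VarDim.eq_of_specializes_of_deg_le p (genericPoint_specializes z) ?_).symm
    have h1 : VarDim.deg p (genericPoint X) = VarDim.deg q (genericPoint Y) := by
      have := hdim
      rw [VarDim.topologicalKrullDim_eq_deg_genericPoint p, VarDim.topologicalKrullDim_eq_deg_genericPoint q] at this
      exact_mod_cast this
    rw [h1, VarDim.deg_eq_add f q hf z, hz]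
    exact Nat.le_add_right _ _
  obtain ⟨W, hW, hηW⟩ : ∃ W : X.Opens, IsAffineOpen W ∧ genericPoint X ∈ W := by
    obtain ⟨_, ⟨W, hW, rfl⟩, hηW, -⟩ :=
      X.isBasis_affineOpens.exists_subset_of_mem_open (Set.mem_univ (genericPoint X)) isOpen_univ
    exact ⟨W, hW, hηW⟩
  have hη' : genericPoint Y ∉ f '' (W : Set X)ᶜ := by
    rintro ⟨z, hz, e⟩
    exact hz (by rw [huniq z e]; exact hηW)
  obtain ⟨_, ⟨V, hV, rfl⟩, hηV, hVle⟩ :=
    Y.isBasis_affineOpens.exists_subset_of_mem_open hη' (f.isClosedMap _ W.2.isClosed_compl).isOpen_compl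
  have hVW : f ⁻¹ᵁ V ≤ W := fun z hz => by
    by_contra hzW
    exact hVle hz ⟨z, hzW, rfl⟩
  haveI : Nonempty V := ⟨⟨_, hηV⟩⟩
  haveI : Nonempty (f ⁻¹ᵁ V) := ⟨⟨_, generic_mem f h hηV⟩⟩
  haveI : IsFractionRing Γ(Y, V) Y.functionField := functionField_isFractionRing_of_isAffineOpen Y V hV
  refine ⟨RingHom.injective _, fun x => ?_⟩
  have hWV : IsAffineOpen (f ⁻¹ᵁ V) := by
    haveI : IsAffine (W : Scheme.{u}) := hW
    haveI : IsAffineHom ((W.ι ≫ f) ≫ terminal.from Y) := inferInstance
    haveI : IsAffineHom (W.ι ≫ f) := IsAffineHom.of_comp (W.ι ≫ f) (terminal.from Y)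
    have h2 : IsAffineOpen ((W.ι ≫ f) ⁻¹ᵁ V) := hV.preimage (W.ι ≫ f)
    have h3 := h2.image_of_isOpenImmersion W.ι
    have h4 : W.ι ''ᵁ ((W.ι ≫ f) ⁻¹ᵁ V) = f ⁻¹ᵁ V := by
      rw [Scheme.Hom.comp_preimage, Scheme.Hom.image_preimage_eq_opensRange_inf, Scheme.Opens.opensRange_ι, inf_eq_right.2 hVW]
    rwa [h4] at h3
  haveI : IsFractionRing Γ(X, f ⁻¹ᵁ V) X.functionField := functionField_isFractionRing_of_isAffineOpen X _ hWV
  obtain ⟨a, b, -, rfl⟩ := IsFractionRing.div_surjective (A := Γ(X, f ⁻¹ᵁ V)) x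
  obtain ⟨a', rfl⟩ := (ConcreteCategory.bijective_of_isIso (f.app V)).2 a
  obtain ⟨b', rfl⟩ := (ConcreteCategory.bijective_of_isIso (f.app V)).2 b
  refine ⟨Y.presheaf.germ V _ hηV a' / Y.presheaf.germ V _ hηV b', ?_⟩
  rw [map_div₀, germ_comm f h hηV (generic_mem f h hηV), germ_comm f h hηV (generic_mem f h hηV)]
  rfl

end Groth.Agent.H9Misc.FibrationFF
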