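import Groth.Agent.H9Misc.SkyHom
import Groth.Agent.H9Misc.SkyPush
import Groth.Agent.H9Misc.DRingFibre
import Groth.Agent.H9Misc.TelLocal
import Groth.Agent.KFlatLib.Scheme.StalkCx
import Groth.Agent.KFlatLib.Scheme.PullTensorCx
import Groth.Agent.QCoh.Stalk
import Groth.Agent.S6942
import Groth.Agent.H9Misc.BrownGroth
import Groth.Agent.H9Misc.DRingPC
import Groth.Prelude.Def_DCoh2

/-! The derived fibre at a closed point detects the stalks of the cohomology sheaves. -/

set_option autoImplicit false
set_option linter.style.haveILetI false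
set_option backward.isDefEq.respectTransparency false
set_option backward.isDefEq.respectTransparency.types false
set_option maxHeartbeats 800000

universe u

open CategoryTheory CategoryTheory.Limits MonoidalCategory AlgebraicGeometry
open scoped TensorProduct

attribute [local instance] HasDerivedCategory.standard

noncomputable section

namespace Groth.Agent.H9Misc.FibreAtPoint

open Groth.Agent KFlatLib IsLocalRing DRingTor DRingLTensor

/-- The residue field as a module. -/
abbrev res (R : Type u) [CommRing R] [IsLocalRing R] : ModuleCat.{u} R := SkyHom.res R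

theorem isZero_homology_of_fibre {R : Type u} [CommRing R] [IsNoetherianRing R] [IsLocalRing R]
    (C : DRing.Cx R) (hC : IsKF C) {c : ℤ} (hb : (DerivedCategory.Q.obj C).IsLE c)
    (hfg : ∀ j, Module.Finite R ((DerivedCategory.homologyFunctor (ModuleCat.{u} R) j).obj (DerivedCategory.Q.obj C)))
    (i : ℤ) (h : IsZero (((tensC (res R)).obj C).homology i)) :
    IsZero ((DerivedCategory.homologyFunctor (ModuleCat.{u} R) i).obj (DerivedCategory.Q.obj C)) := by
  have hpc : DRing.IsPseudoCoherent' R (DerivedCategory.Q.obj C) := (DRingPC.pc'_iff _).2 fun m =>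
    (S6942.result R m (DerivedCategory.Q.obj C) PUnit.{u + 1}).1.2
      ⟨⟨c, fun j hj => ModuleCat.subsingleton_of_isZero (DerivedCategory.isZero_of_isLE _ c j hj)⟩, fun j _ => hfg j⟩
  obtain ⟨E, b, hEb, hE, ⟨e⟩⟩ := hpc
  haveI : DRing.HasLTensor R (res R) := DRingTor.hasLTensor (res R)
  obtain ⟨eC⟩ := nonempty_ltensor_iso (res R) hC
  obtain ⟨eE⟩ := nonempty_ltensor_iso (res R) (DRingFibre.isKF hE hEb)
  have hEx : ((tensC (res R)).obj E).ExactAt i := by
    rw [HomologicalComplex.exactAt_iff_isZero_homology]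
    exact h.of_iso (((DerivedCategory.homologyFunctorFactors (ModuleCat.{u} R) i).app _).symm ≪≫
      (DerivedCategory.homologyFunctor (ModuleCat.{u} R) i).mapIso
        (eE.symm ≪≫ (DRing.LTensor R (res R)).mapIso e ≪≫ eC) ≪≫
      (DerivedCategory.homologyFunctorFactors (ModuleCat.{u} R) i).app _)
  rw [HomologicalComplex.exactAt_iff' _ (i - 1) i (i + 1) (by simp) (by simp),
    ShortComplex.moduleCat_exact_iff] at hEx
  have hr : Function.Exact ((E.d (i - 1) i).hom.rTensor (R ⧸ maximalIdeal R))
      ((E.d i (i + 1)).hom.rTensor (R ⧸ maximalIdeal R)) := by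
    intro y
    refine ⟨fun hy => ?_, ?_⟩
    · obtain ⟨x, hx⟩ := hEx y hy
      exact ⟨x, hx⟩
    · rintro ⟨x, rfl⟩
      rw [← LinearMap.comp_apply, ← LinearMap.rTensor_comp, ← ModuleCat.hom_comp, E.d_comp_d,
        ModuleCat.hom_zero, LinearMap.rTensor_zero, LinearMap.zero_apply]
  have hl : Function.Exact ((E.d (i - 1) i).hom.lTensor (ResidueField R))
      ((E.d i (i + 1)).hom.lTensor (ResidueField R)) := by
    refine (Function.Exact.iff_of_ladder_linearEquiv (e₁ := TensorProduct.comm R _ _)
      (e₂ := TensorProduct.comm R _ _) (e₃ := TensorProduct.comm R _ _) ?_ ?_).2 hr <;>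
      exact TensorProduct.ext' fun a b => rfl
  haveI := (hE i).1
  haveI := (hE i).2
  haveI := (hE (i + 1)).1
  haveI := (hE (i + 1)).2
  obtain ⟨h', r, e'⟩ := DRingFibre.exists_splitting (E.d (i - 1) i).hom (E.d i (i + 1)).hom
    (by rw [← ModuleCat.hom_comp, E.d_comp_d, ModuleCat.hom_zero]) hl
  have hex : E.ExactAt i := by
    rw [HomologicalComplex.exactAt_iff' _ (i - 1) i (i + 1) (by simp) (by simp),
      ShortComplex.moduleCat_exact_iff]
    intro y hy
    refine ⟨h' y, ?_⟩
    have h2 := LinearMap.congr_fun e' y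
    simp only [LinearMap.add_apply, LinearMap.comp_apply, LinearMap.id_apply] at h2
    have hy' : (E.d i (i + 1)).hom y = 0 := hy
    rw [hy', map_zero, add_zero] at h2
    exact h2
  rw [HomologicalComplex.exactAt_iff_isZero_homology] at hex
  exact hex.of_iso ((DerivedCategory.homologyFunctor (ModuleCat.{u} R) i).mapIso e.symm ≪≫
    (DerivedCategory.homologyFunctorFactors (ModuleCat.{u} R) i).app _)

/-- Maps out of `R` detect cohomology. -/
theorem isZero_homology_of_forall_hom {R : Type u} [CommRing R] (L : DRing.Cx R) (i : ℤ) {A : ModuleCat.{u} R}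
    (eA : Nonempty (A ≅ ModuleCat.of R R))
    (h : ∀ ψ : (DerivedCategory.singleFunctor (ModuleCat.{u} R) 0).obj A ⟶ (DerivedCategory.Q.obj L)⟦i⟧, ψ = 0) :
    IsZero (L.homology i) := by
  obtain ⟨eA⟩ := eA
  let G := BrownGroth.gen R 0
  let M : DRing.Cx R := L⟦i⟧
  let q := HomotopyCategory.quotient (ModuleCat.{u} R) (ComplexShape.up ℤ)
  let e := DerivedCategory.quotientCompQhIso (ModuleCat.{u} R)
  have hQ : ∀ f : G ⟶ M, DerivedCategory.Q.map f = 0 := fun f => by
    let eG : (DerivedCategory.singleFunctor (ModuleCat.{u} R) 0).obj A ≅ DerivedCategory.Q.obj G :=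
      (DerivedCategory.singleFunctor (ModuleCat.{u} R) 0).mapIso eA ≪≫
        (DerivedCategory.singleFunctorIsoCompQ (ModuleCat.{u} R) 0).app _
    let eM := (DerivedCategory.Q.commShiftIso i).app L
    exact zero_of_epi_comp eG.hom (zero_of_comp_mono eM.hom (h ((eG.hom ≫ DerivedCategory.Q.map f) ≫ eM.hom)))
  have hM : M.ExactAt 0 := by
    rw [HomologicalComplex.exactAt_iff' _ (-1) 0 1 (by simp) (by simp), ShortComplex.moduleCat_exact_iff]
    intro z hz
    let f : G ⟶ M := HomologicalComplex.mkHomFromSingle (ModuleCat.ofHom (LinearMap.toSpanSingleton R _ z))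
      (fun l hl => by
        obtain rfl : l = 1 := by simp only [ComplexShape.up_Rel] at hl; omega
        refine ModuleCat.hom_ext (LinearMap.ext_ring ?_)
        show (M.d 0 1).hom ((1 : R) • z) = 0
        rw [one_smul]
        exact hz)
    have h0 : q.map f = q.map (0 : G ⟶ M) := (CochainComplex.IsKProjective.Qh_map_bijective G (q.obj M)).1 (by
      rw [← cancel_mono (e.hom.app M)]
      exact (e.hom.naturality f).trans ((by rw [hQ f, comp_zero] : e.hom.app G ≫ DerivedCategory.Q.map f = 0).trans
        (by rw [q.map_zero, Functor.map_zero, zero_comp])))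
    let H := HomotopyCategory.homotopyOfEq _ _ h0
    have hc := H.comm 0
    rw [dNext_eq _ (show (ComplexShape.up ℤ).Rel 0 1 from rfl),
      prevD_eq _ (show (ComplexShape.up ℤ).Rel (-1) 0 from (by simp : (-1 : ℤ) + 1 = 0)),
      HomologicalComplex.zero_f, add_zero] at hc
    let o : G.X 0 := (HomologicalComplex.singleObjXSelf (ComplexShape.up ℤ) 0 (ModuleCat.of R R)).inv.hom (1 : R)
    refine ⟨(H.hom 0 (-1)).hom o, ?_⟩
    have hc' := ConcreteCategory.congr_hom hc o
    have hd : G.d 0 1 = 0 := HomologicalComplex.single_obj_d _ _ _ _ _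
    have hl : (f.f 0).hom o = z := by
      have hid : (HomologicalComplex.singleObjXSelf (ComplexShape.up ℤ) 0 (ModuleCat.of R R)).hom.hom o = 1 :=
        (HomologicalComplex.singleObjXSelf (ComplexShape.up ℤ) 0 (ModuleCat.of R R)).toLinearEquiv.apply_symm_apply 1
      rw [HomologicalComplex.mkHomFromSingle_f]
      show (LinearMap.toSpanSingleton R _ z) ((HomologicalComplex.singleObjXSelf (ComplexShape.up ℤ) 0 (ModuleCat.of R R)).hom.hom o) = z
      rw [hid]
      exact one_smul R z
    rw [hd, zero_comp, zero_add] at hc'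
    rw [← hl]
    exact hc'.symm
  rw [HomologicalComplex.exactAt_iff_isZero_homology] at hM
  exact hM.of_iso (((HomologicalComplex.homologyFunctor (ModuleCat.{u} R) (ComplexShape.up ℤ) 0).shiftIso i 0 i (by omega)).app L).symm

variable {X : Scheme.{u}}

/-- The stalk of the structure module. -/
theorem nonempty_stalk_structure (x : X) :
    Nonempty ((DerSch.stalkFunctor X x).obj (Coh.structureModule X) ≅ ModuleCat.of (X.presheaf.stalk x) (X.presheaf.stalk x)) := by
  let M := (Coh.structureModule X).presheaf.stalk x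
  let l : X.presheaf.stalk x →ₗ[X.presheaf.stalk x] M := LinearMap.toSpanSingleton _ _ (H23.UnitSec.one x)
  have hl : Function.Bijective l := ⟨(injective_iff_map_eq_zero l).2 fun a ha => H23.UnitSec.eq_zero_of_smul_one a ha,
    fun m => Submodule.mem_span_singleton.1 ((H23.UnitSec.span_one x).ge Submodule.mem_top)⟩
  exact ⟨(LinearEquiv.ofBijective l hl).toModuleIso.symm⟩

/-- A complex supported at a closed point is a complex of skyscrapers. -/
def skyCxIso (x : X) (hx : IsClosed ({x} : Set X)) (W : CochainComplex X.Modules ℤ)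
    (hW : ∀ n y, y ≠ x → Subsingleton ((W.X n).presheaf.stalk y)) :
    W ≅ ((sky x).mapHomologicalComplex (ComplexShape.up ℤ)).obj ((stalkCx x).obj W) :=
  haveI : ∀ n, IsIso ((skyAdj x).unit.app (W.X n)) := fun n => SkyPush.isIso_toSky (W.X n) x hx (hW n)
  HomologicalComplex.Hom.isoOfComponents (fun n => asIso ((skyAdj x).unit.app (W.X n)))
    fun p q _ => ((skyAdj x).unit.naturality (W.d p q)).symm

theorem hom_ne_zero_of_fibre [IsLocallyNoetherian X] (x : X) (hx : IsClosed ({x} : Set X))
    (C : CochainComplex X.Modules ℤ) (hC : DCoh.IsKFlat C) (hcoh : DCoh.IsCohD (DerivedCategory.Q.obj C))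
    {c : ℤ} [(DerivedCategory.Q.obj C).IsLE c] (P : X.Modules) (eP : P ≅ (sky x).obj (res (X.presheaf.stalk x)))
    (i : ℤ)
    (h : ∀ φ : DCoh.inD X (Coh.structureModule X) ⟶ (shiftFunctor (DCoh.D X) i).obj
      (DerivedCategory.Q.obj ((DCoh.tensorCx.obj C).obj
        ((HomologicalComplex.single X.Modules (ComplexShape.up ℤ) 0).obj P))), φ = 0) :
    x ∉ CohB1.support (DCoh.HD (DerivedCategory.Q.obj C) i) := by
  let R := X.presheaf.stalk x
  let T : X.Modules ⥤ ModuleCat.{u} R := DerSch.stalkFunctor X x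
  haveI : T.IsLeftAdjoint := (skyAdj x).isLeftAdjoint
  haveI : PreservesFiniteColimits T := inferInstance
  haveI : PreservesFiniteLimits (sky x) :=
    haveI := (skyAdj x).isRightAdjoint
    inferInstance
  haveI : PreservesFiniteColimits (sky x) :=
    by
      have h := ((Functor.exact_tfae (sky x)).out 1 3).1 (exact_map_sky x)
      exact h.2
  let S := (HomologicalComplex.single X.Modules (ComplexShape.up ℤ) 0).obj P
  let W := (DCoh.tensorCx.obj C).obj S
  let W' := ((DCoh.tensorBi.flip.obj P).mapHomologicalComplex (ComplexShape.up ℤ)).obj C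
  let eW : W ≅ W' := (singleIso (DCoh.tensorBi (X := X)) P).app C
  have hW : ∀ n y, y ≠ x → Subsingleton ((W'.X n).presheaf.stalk y) := fun n y hy => by
    have hz : Subsingleton ((DerSch.stalkFunctor X y).obj P) := by
      haveI := H23.SkyPoint.subsingleton_stalk_sky (ξ := x) (N := res (X.presheaf.stalk x)) (x := y)
        fun h => hy (Set.mem_singleton_iff.1 (h.mem_closed hx rfl))
      exact Equiv.subsingleton (β := ((sky x).obj (res (X.presheaf.stalk x))).presheaf.stalk y)
        ((DerSch.stalkFunctor X y).mapIso eP).toLinearEquiv.toEquiv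
    exact ModuleCat.subsingleton_of_isZero
      ((((curriedTensor (ModuleCat.{u} (X.presheaf.stalk y))).obj ((DerSch.stalkFunctor X y).obj (C.X n))).map_isZero
        (ModuleCat.isZero_of_iff_subsingleton.2 hz)).of_iso
        (((stalkTensorBiIso y).app (C.X n)).app P : (DerSch.stalkFunctor X y).obj (W'.X n) ≅ _))
  let L := ((tensC (res R)).obj ((stalkCx x).obj C))
  let eS : (stalkCx x).obj W ≅ L :=
    (stalkTensorCxIso x C S).symm ≪≫
      (((curriedTensor (ModuleCat.{u} R)).map₂CochainComplex.obj ((stalkCx x).obj C))).mapIso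
        ((HomologicalComplex.singleMapHomologicalComplex T (ComplexShape.up ℤ) 0).app P ≪≫
          (HomologicalComplex.single (ModuleCat.{u} R) (ComplexShape.up ℤ) 0).mapIso
            (T.mapIso eP ≪≫ (skyStalkIso x).app _)) ≪≫
      (singleIso (curriedTensor (ModuleCat.{u} R)) (res R)).app _
  let eWs : W ≅ ((sky x).mapHomologicalComplex (ComplexShape.up ℤ)).obj L :=
    eW ≪≫ skyCxIso x hx W' hW ≪≫ ((sky x).mapHomologicalComplex (ComplexShape.up ℤ)).mapIso
      ((stalkCx x).mapIso eW.symm ≪≫ eS)
  let a := TelLocal.derivedAdjunction (skyAdj x)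
  haveI := a.right_adjoint_additive
  let eO : T.mapDerivedCategory.obj (DCoh.inD X (Coh.structureModule X)) ≅
      (DerivedCategory.singleFunctor (ModuleCat.{u} R) 0).obj (T.obj (Coh.structureModule X)) :=
    (T.mapDerivedCategorySingleFunctor 0).app _
  have hL : ∀ ψ : (DerivedCategory.singleFunctor (ModuleCat.{u} R) 0).obj (T.obj (Coh.structureModule X)) ⟶
      (DerivedCategory.Q.obj L)⟦i⟧, ψ = 0 := fun ψ => by
    let d : (sky x).mapDerivedCategory.obj ((DerivedCategory.Q.obj L)⟦i⟧) ≅
        (shiftFunctor (DCoh.D X) i).obj (DerivedCategory.Q.obj W) :=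
      ((sky x).mapDerivedCategory.commShiftIso i).app _ ≪≫ (shiftFunctor (DCoh.D X) i).mapIso
        ((sky x).mapDerivedCategoryFactors.app L ≪≫ DerivedCategory.Q.mapIso eWs.symm)
    have h0 := zero_of_comp_mono d.hom (h (a.homEquiv _ _ (eO.hom ≫ ψ) ≫ d.hom))
    have h1 : eO.hom ≫ ψ = 0 := (a.homEquiv _ _).injective (by
      rw [h0, Adjunction.homEquiv_unit, Functor.map_zero, comp_zero])
    exact zero_of_epi_comp _ h1
  have hz : IsZero (L.homology i) := isZero_homology_of_forall_hom L i (nonempty_stalk_structure x) hL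
  have hkf : IsKF ((stalkCx x).obj C) := (kFlat_iff_stalk C).1 hC x
  let eT := T.mapDerivedCategoryFactors.app C
  have hH : ∀ j, Nonempty ((DerivedCategory.homologyFunctor (ModuleCat.{u} R) j).obj
      (DerivedCategory.Q.obj ((stalkCx x).obj C)) ≅ T.obj (DCoh.HD (DerivedCategory.Q.obj C) j)) := fun j =>
    ⟨(DerivedCategory.homologyFunctor (ModuleCat.{u} R) j).mapIso eT.symm ≪≫
      (SiteBase.RpushD.nonempty_homology_mapDerived T (DerivedCategory.Q.obj C) j).some⟩
  haveI : IsNoetherianRing R := inferInstanceAs (IsNoetherianRing (X.presheaf.stalk x))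
  have := isZero_homology_of_fibre ((stalkCx x).obj C) hkf (c := c)
    ((DerivedCategory.isLE_iff _ c).2 fun j hj =>
      (T.map_isZero (DerivedCategory.isZero_of_isLE _ c j hj)).of_iso (hH j).some)
    (fun j => by
      haveI : Module.Finite R (T.obj (DCoh.HD (DerivedCategory.Q.obj C) j)) :=
        QCoh.finite_stalk_of_isFT (M := DCoh.HD (DerivedCategory.Q.obj C) j) (hcoh j).1 (hcoh j).2 x
      exact Module.Finite.equiv (hH j).some.toLinearEquiv.symm) i hz
  exact fun hm => hm (ModuleCat.subsingleton_of_isZero (this.of_iso (hH i).some.symm))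

end Groth.Agent.H9Misc.FibreAtPoint
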