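import Groth.Agent.PPSheaf.Gen
import Groth.Agent.ExistEasy.PP.PullSec
import Groth.Agent.S14444
import Mathlib.AlgebraicGeometry.Fiber
import Groth.Prelude.Def_CohBC2

/-! Sections on a fibre lift to sections over a neighbourhood when `H¹` of the fibres vanishes. -/

set_option linter.style.haveILetI false
set_option backward.isDefEq.respectTransparency false
set_option backward.isDefEq.respectTransparency.types false

universe u

open CategoryTheory Limits AlgebraicGeometry TopologicalSpace Opposite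

namespace Groth.Agent.H9Misc.FibreLift

open Groth.Agent Groth.Agent.Synt29.OmegaStalk

set_option maxHeartbeats 400000

section Point

variable {K : Type u} [Field K] {Z : Scheme.{u}} (j : Spec (CommRingCat.of K) ⟶ Z)

theorem le_preimage_of_mem {W : Z.Opens} (y₀ : ↥(Spec (CommRingCat.of K))) (hW : j y₀ ∈ W) : (⊤ : (Spec (CommRingCat.of K)).Opens) ≤ j ⁻¹ᵁ W := by
  intro z _
  exact (@Subsingleton.elim (PrimeSpectrum K) _ z y₀).symm ▸ hW

/-- Sections of a pullback to a field valued point come from sections near the image. -/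
theorem exists_pullSec_eq (y₀ : ↥(Spec (CommRingCat.of K))) (hj : Function.Surjective (j.stalkMap y₀)) (E : Z.Modules)
    (m : Γ((Scheme.Modules.pullback j).obj E, ⊤)) :
    ∃ (W : Z.Opens) (hW : (⊤ : (Spec (CommRingCat.of K)).Opens) ≤ j ⁻¹ᵁ W) (s : Γ(E, W)), QCoh.pullSec j E hW s = m := by
  let P := (Scheme.Modules.pullback j).obj E
  let good : St P y₀ → Prop := fun g => ∃ (W : Z.Opens) (hW : (⊤ : (Spec (CommRingCat.of K)).Opens) ≤ j ⁻¹ᵁ W) (s : Γ(E, W)),
    gm P (U := ⊤) (x := y₀) trivial (QCoh.pullSec j E hW s) = g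
  suffices H : good (gm P (U := ⊤) (x := y₀) trivial m) by
    obtain ⟨W, hW, s, hs⟩ := H
    refine ⟨W, hW, s, ?_⟩
    refine TopCat.Presheaf.section_ext ⟨P.presheaf, P.isSheaf⟩ ⊤ _ _ fun z _ => ?_
    obtain rfl : z = y₀ := @Subsingleton.elim (PrimeSpectrum K) _ z y₀
    exact hs
  have hres : ∀ {W W' : Z.Opens} (h : W' ≤ W) (hW : (⊤ : (Spec (CommRingCat.of K)).Opens) ≤ j ⁻¹ᵁ W)
      (hW' : (⊤ : (Spec (CommRingCat.of K)).Opens) ≤ j ⁻¹ᵁ W') (s : Γ(E, W)),
      QCoh.pullSec j E hW' (E.presheaf.map (homOfLE h).op s) = QCoh.pullSec j E hW s := fun h hW hW' s =>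
    (ExistEasy.pullSec_res j E h le_rfl hW hW' s).symm.trans
      (by rw [show homOfLE (le_rfl : (⊤ : (Spec (CommRingCat.of K)).Opens) ≤ ⊤) = 𝟙 _ from rfl, op_id]; exact QCoh.map_id' _ _)
  have hadd : ∀ g g', good g → good g' → good (g + g') := by
    rintro _ _ ⟨W, hW, s, rfl⟩ ⟨W', hW', s', rfl⟩
    refine ⟨W ⊓ W', le_inf hW hW', E.presheaf.map (homOfLE inf_le_left).op s + E.presheaf.map (homOfLE inf_le_right).op s', ?_⟩
    rw [QCoh.pullSec_add, map_add, hres inf_le_left hW, hres inf_le_right hW']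
  have hsmul : ∀ (r : (Spec (CommRingCat.of K)).presheaf.stalk y₀) g, good g → good (r • g) := by
    rintro r _ ⟨W, hW, s, rfl⟩
    obtain ⟨r', rfl⟩ := hj r
    obtain ⟨W', hy', a, rfl⟩ := Z.presheaf.exists_germ_eq r'
    have hW' := le_preimage_of_mem j y₀ hy'
    refine ⟨W ⊓ W', le_inf hW hW', (show Γ(Z, W ⊓ W') from Z.presheaf.map (homOfLE inf_le_right).op a) • (show Γ(E, W ⊓ W') from E.presheaf.map (homOfLE inf_le_left).op s), ?_⟩
    rw [QCoh.pullSec_smul, gm_smul, hres inf_le_left hW, PPSheaf.germ_appLE_stalkMap]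
    congr 1
    exact congrArg (j.stalkMap y₀) (Z.presheaf.germ_res_apply _ _ _ a)
  have hzero : good 0 := ⟨⊤, le_top, 0, by
    have := QCoh.pullSec_add (φ := j) (V := (⊤ : Z.Opens)) (W := (⊤ : (Spec (CommRingCat.of K)).Opens)) E
      (fun _ _ => trivial) 0 0
    rw [add_zero] at this
    rw [show QCoh.pullSec j E _ 0 = 0 from left_eq_add.1 this, map_zero]⟩
  have hm : gm P (U := ⊤) (x := y₀) trivial m ∈ (⊤ : Submodule ((Spec (CommRingCat.of K)).presheaf.stalk y₀) (St P y₀)) := Submodule.mem_top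
  rw [← PPSheaf.span_pullSect_eq_top j E y₀] at hm
  refine Submodule.span_induction (p := fun g _ => good g) ?_ hzero (fun g g' _ _ => hadd g g')
    (fun r g _ => hsmul r g) hm
  rintro _ ⟨W, hW, s, rfl⟩
  exact ⟨W, le_preimage_of_mem j y₀ hW, s, gm_res P _ _ _⟩

end Point

/-- A transpose on pulled back sections. -/
theorem transpose_pullSec {P Q : Scheme.{u}} (j : P ⟶ Q) {E : Q.Modules} {N : P.Modules}
    (α : E ⟶ (Scheme.Modules.pushforward j).obj N) {W : Q.Opens} {T : P.Opens} (hW : T ≤ j ⁻¹ᵁ W) (s : Γ(E, W)) :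
    (((Scheme.Modules.pullbackPushforwardAdjunction j).homEquiv E N).symm α).app T (QCoh.pullSec j E hW s) =
      N.presheaf.map (homOfLE hW).op (show Γ(N, j ⁻¹ᵁ W) from α.app W s) := by
  refine (QCoh.map_app_comm _ (homOfLE hW) _).trans (congrArg _ ?_)
  have h := ((Scheme.Modules.pullbackPushforwardAdjunction j).homEquiv E N).apply_symm_apply α
  rw [Adjunction.homEquiv_unit] at h
  exact congrArg (fun φ => Scheme.Modules.Hom.app φ W s) h

set_option maxHeartbeats 800000 in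
/-- The base change map on a section. -/
theorem bc0_pullSec {X' Y' : Scheme.{u}} {X Y : Scheme.{u}} (f : X ⟶ Y) (g : Y' ⟶ Y) (f' : X' ⟶ Y') (g' : X' ⟶ X)
    (w : g' ≫ f = f' ≫ g) (F : X.Modules) {W : Y.Opens} (hW : (⊤ : Y'.Opens) ≤ g ⁻¹ᵁ W)
    (hle : (⊤ : X'.Opens) ≤ g' ⁻¹ᵁ (f ⁻¹ᵁ W)) (s : Γ(F, f ⁻¹ᵁ W)) :
    (CohBC.bc0 f g f' g' w F).app ⊤ (QCoh.pullSec g ((Scheme.Modules.pushforward f).obj F) hW s) =
      QCoh.pullSec g' F hle s := by
  refine (transpose_pullSec g (CohBC.bc0Adj f g f' g' w F) hW s).trans ?_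
  show ((Scheme.Modules.pullback g').obj F).presheaf.map _
    (((Scheme.Modules.pullback g').obj F).presheaf.map _ (((Scheme.Modules.pullbackPushforwardAdjunction g').unit.app F).app (f ⁻¹ᵁ W) s)) = _
  exact QCoh.map_map _ _ _

variable {X Y : Scheme.{u}} (f : X ⟶ Y)

/-- Inverting and applying on sections. -/
theorem app_eq_of_inv {P : Scheme.{u}} {M N : P.Modules} (β : M ⟶ N) [IsIso β] {m : Γ(M, ⊤)} {t : Γ(N, ⊤)}
    (h : m = (inv β).app ⊤ t) : β.app ⊤ m = t := by
  subst h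
  exact congrArg (fun φ => Scheme.Modules.Hom.app φ ⊤ t) (IsIso.inv_hom_id β)

/-- Sections on a fibre come from sections over a neighbourhood. -/
theorem exists_lift [IsProper f] [Flat f] [IsLocallyNoetherian Y] (L : X.Modules) (hqc : Coh.IsQCoh L)
    (hfp : CohB1.IsFP L) (hfl : FlatMod.IsFlatOver f L)
    (h1 : ∀ y : Y, Subsingleton (CohIII.fiberH f L y 1)) (y : Y)
    (t : Γ((Scheme.Modules.pullback (f.fiberι y)).obj L, ⊤)) :
    ∃ (W : Y.Opens) (_ : y ∈ W) (hle : (⊤ : (f.fiber y).Opens) ≤ f.fiberι y ⁻¹ᵁ (f ⁻¹ᵁ W)) (s : Γ(L, f ⁻¹ᵁ W)),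
      QCoh.pullSec (f.fiberι y) L hle s = t := by
  haveI := hqc
  let j := Y.fromSpecResidueField y
  haveI : IsIso (CohBC.bc0 f j (f.fiberToSpecResidueField y) (f.fiberι y) (f.fiber_fac y) L) :=
    (Groth.Agent.S14444.result f L hfp hfl h1).2 _ _ _ (IsPullback.of_hasPullback f j)
  let bc := CohBC.bc0 f j (f.fiberToSpecResidueField y) (f.fiberι y) (f.fiber_fac y) L
  let N := (Scheme.Modules.pullback (f.fiberι y)).obj L
  let y₀ : ↥(Spec (Y.residueField y)) := IsLocalRing.closedPoint (Y.residueField y)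
  obtain ⟨W, hW, s, hs⟩ := exists_pullSec_eq (K := Y.residueField y) j y₀
    (j.stalkMap_surjective y₀) ((Scheme.Modules.pushforward f).obj L)
    ((inv bc).app ⊤ (show Γ((Scheme.Modules.pushforward (f.fiberToSpecResidueField y)).obj N, ⊤) from t))
  have hy : y ∈ W := Scheme.fromSpecResidueField_apply y y₀ ▸ hW (x := y₀) trivial
  have hle : (⊤ : (f.fiber y).Opens) ≤ f.fiberι y ⁻¹ᵁ (f ⁻¹ᵁ W) := by
    intro z _
    show f (f.fiberι y z) ∈ W
    have : f.fiberι y z ∈ Set.range (f.fiberι y) := ⟨z, rfl⟩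
    rw [Scheme.Hom.range_fiberι] at this
    rwa [show f (f.fiberι y z) = y from this]
  refine ⟨W, hy, hle, s, ?_⟩
  have e1 := bc0_pullSec f j (f.fiberToSpecResidueField y) (f.fiberι y) (f.fiber_fac y) L hW hle s
  have e2 := app_eq_of_inv bc hs
  exact e1.symm.trans e2

end Groth.Agent.H9Misc.FibreLift
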