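import Groth.Prelude.Def_SpSeq
import Mathlib.Algebra.Homology.Refinements
import Mathlib.Algebra.Homology.ShortComplex.QuasiIso
import Mathlib.Order.Interval.Finset.Defs
import Mathlib.Data.Int.Interval

/-! Convergence of spectral sequences of filtered complexes from vanishing of the homology of steps. -/

universe v u

open CategoryTheory CategoryTheory.Category CategoryTheory.Limits SpSeq SpSeq.FilCx

namespace Groth.Agent.H9Misc.FilCxConv

variable {A : Type u} [Category.{v} A] [Abelian A]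

/-- Subobjects are compared on generalized elements, up to refinements. -/
lemma le_of_refinements {X : A} {S T : Subobject X}
    (h : ∀ ⦃W : A⦄ (x : W ⟶ X), S.Factors x → ∃ (W' : A) (π : W' ⟶ W) (_ : Epi π), T.Factors (π ≫ x)) :
    S ≤ T := by
  obtain ⟨W', π, hπ, hf⟩ := h S.arrow (S.factors_self)
  have h0 : S.arrow ≫ cokernel.π T.arrow = 0 := by
    rw [← cancel_epi π, comp_zero, ← assoc, ← T.factorThru_arrow _ hf, assoc, cokernel.condition, comp_zero]
  exact Subobject.le_of_comm ((Abelian.monoIsKernelOfCokernel (CokernelCofork.ofπ _ (cokernel.condition T.arrow))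
    (cokernelIsCokernel _)).lift (KernelFork.ofι _ h0)) (Fork.IsLimit.lift_ι _)

lemma pullback_factors {X Y : A} (f : X ⟶ Y) (T : Subobject Y) {W : A} (x : W ⟶ X) :
    ((Subobject.pullback f).obj T).Factors x ↔ T.Factors (x ≫ f) := by
  constructor
  · intro h
    have e : (((Subobject.pullback f).obj T).factorThru x h ≫ Subobject.pullbackπ f T) ≫ T.arrow = x ≫ f := by
      rw [assoc, (Subobject.isPullback f T).w, Subobject.factorThru_arrow_assoc]
    exact e ▸ Subobject.factors_comp_arrow _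
  · intro h
    exact (Subobject.isPullback f T).lift_snd (T.factorThru _ h) x (T.factorThru_arrow _ h) ▸
      Subobject.factors_comp_arrow _

lemma image_factors {X Y : A} (f : X ⟶ Y) {W : A} (x : W ⟶ Y) (h : (imageSubobject f).Factors x) :
    ∃ (W' : A) (π : W' ⟶ W) (_ : Epi π) (y : W' ⟶ X), π ≫ x = y ≫ f := by
  obtain ⟨W', π, hπ, y, hy⟩ := surjective_up_to_refinements_of_epi (factorThruImageSubobject f)
    ((imageSubobject f).factorThru x h)
  refine ⟨W', π, hπ, y, ?_⟩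
  rw [← imageSubobject_arrow_comp f, ← assoc, ← hy, assoc, Subobject.factorThru_arrow]

lemma factors_image {X Y : A} (f : X ⟶ Y) {W : A} (y : W ⟶ X) : (imageSubobject f).Factors (y ≫ f) := by
  have e : (y ≫ factorThruImageSubobject f) ≫ (imageSubobject f).arrow = y ≫ f := by
    rw [assoc, imageSubobject_arrow_comp]
  exact e ▸ Subobject.factors_comp_arrow _

variable (K : FilCx A)

/-- The inclusion of a step in degree `n`. -/
noncomputable abbrev I (p n : ℤ) : (K.step p).X n ⟶ K.obj.X n := (K.fil p).arrow.f n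

lemma filX_factors {p n : ℤ} {W : A} (x : W ⟶ K.obj.X n) :
    (K.filX p n).Factors x ↔ ∃ x' : W ⟶ (K.step p).X n, x' ≫ I K p n = x :=
  Subobject.mk_factors_iff _ _

lemma filX_factors_I {p q n : ℤ} (h : p ≤ q) {W : A} (x' : W ⟶ (K.step q).X n) :
    (K.filX p n).Factors (x' ≫ I K q n) :=
  Subobject.factors_of_le _ (K.filX_anti n h) ((filX_factors K _).2 ⟨x', rfl⟩)

lemma I_d (p m n : ℤ) : I K p m ≫ K.obj.d m n = (K.step p).d m n ≫ I K p n :=
  (K.fil p).arrow.comm m n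

lemma cycle_of_comp {p n : ℤ} {W : A} (x' : W ⟶ (K.step p).X n) (h : x' ≫ I K p n ≫ K.obj.d n (n + 1) = 0) :
    x' ≫ (K.step p).d n (n + 1) = 0 := by
  haveI : Mono (I K p (n + 1)) := inferInstanceAs
    (Mono ((HomologicalComplex.eval A (ComplexShape.up ℤ) (n + 1)).map (K.fil p).arrow))
  rw [← cancel_mono (I K p (n + 1)), assoc, ← I_d, h, zero_comp]

variable {K}

lemma bdry_of_zero {p n m : ℤ} (hm : m + 1 = n) (hp : IsZero ((K.fil p : CochainComplex A ℤ).homology n))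
    {W : A} (x' : W ⟶ (K.step p).X n) (hx : x' ≫ I K p n ≫ K.obj.d n (n + 1) = 0) :
    ∃ (W' : A) (π : W' ⟶ W) (_ : Epi π) (y : W' ⟶ (K.step p).X m),
      π ≫ x' ≫ I K p n = y ≫ I K p m ≫ K.obj.d m n := by
  obtain ⟨W', π, hπ, y, hy⟩ := ((K.step p).exactAt_iff_exact_up_to_refinements m n (n + 1)
    (by simp; omega) (by simp)).1 ((HomologicalComplex.exactAt_iff_isZero_homology _ _).2 hp) x' (cycle_of_comp K x' hx)
  exact ⟨W', π, hπ, y, by rw [I_d, reassoc_of% hy]⟩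

lemma bdry_of_iso {p n m : ℤ} (hm : m + 1 = n) (hp : IsIso (HomologicalComplex.homologyMap (K.fil p).arrow n))
    {W : A} (x' : W ⟶ (K.step p).X n) (y : W ⟶ K.obj.X m) (hxy : x' ≫ I K p n = y ≫ K.obj.d m n) :
    ∃ (W' : A) (π : W' ⟶ W) (_ : Epi π) (y' : W' ⟶ (K.step p).X m),
      π ≫ x' ≫ I K p n = y' ≫ I K p m ≫ K.obj.d m n := by
  have hx : x' ≫ (K.step p).d n (n + 1) = 0 := cycle_of_comp K x' (by rw [reassoc_of% hxy, HomologicalComplex.d_comp_d, comp_zero])
  obtain ⟨W', π, hπ, y', hy'⟩ := (HomologicalComplex.mono_homologyMap_iff_up_to_refinements (K.fil p).arrow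
    m n (n + 1) (by simp; omega) (by simp)).1 (@IsIso.mono_of_iso _ _ _ _ _ hp) x' hx y hxy
  exact ⟨W', π, hπ, y', by rw [I_d, reassoc_of% hy']⟩

lemma cycle_surj {p n m : ℤ} (hm : m + 1 = n) (hp : IsIso (HomologicalComplex.homologyMap (K.fil p).arrow n))
    {W : A} (x : W ⟶ K.obj.X n) (hx : x ≫ K.obj.d n (n + 1) = 0) :
    ∃ (W' : A) (π : W' ⟶ W) (_ : Epi π) (w : W' ⟶ (K.step p).X n) (y : W' ⟶ K.obj.X m),
      π ≫ x = w ≫ I K p n + y ≫ K.obj.d m n := by
  obtain ⟨W', π, hπ, w, -, y, h⟩ := (HomologicalComplex.epi_homologyMap_iff_up_to_refinements (K.fil p).arrow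
    m n (n + 1) (by simp; omega) (by simp)).1 (@IsIso.epi_of_iso _ _ _ _ _ hp) x hx
  exact ⟨W', π, hπ, w, y, h⟩

variable (K)

/-- Split an element with boundary in a deep step. -/
lemma mem_ZTop_of {p n : ℤ} {W : A} {x : W ⟶ K.obj.X n} (hx : (K.filX p n).Factors x)
    {q : ℤ} (hq : p + 1 ≤ q) (y : W ⟶ (K.step q).X n) (h : x ≫ K.obj.d n (n + 1) = (y ≫ I K q n) ≫ K.obj.d n (n + 1)) :
    (K.ZTop p n).Factors x := by
  have e : x = (x - y ≫ I K q n) + y ≫ I K q n := (sub_add_cancel _ _).symm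
  rw [e]
  refine Subobject.factors_add _ _ ?_ (Subobject.factors_of_le _ le_sup_right (filX_factors_I K hq y))
  refine Subobject.factors_of_le _ le_sup_left ((Subobject.inf_factors _).2 ⟨?_, ?_⟩)
  · obtain ⟨x', rfl⟩ := (filX_factors K x).1 hx
    obtain ⟨y', hy'⟩ := (filX_factors K _).1 (filX_factors_I K (show p ≤ q by omega) y)
    exact (filX_factors K _).2 ⟨x' - y', by rw [Preadditive.sub_comp, hy']⟩
  · rw [kernelSubobject_factors_iff, Preadditive.sub_comp, h, sub_self]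

/-- `Z_r = Z_∞` for large `r`. -/
lemma ZSub_eq_ZTop {r : ℕ} (hr : 1 ≤ r) {p n : ℤ}
    (hz : IsZero ((K.fil (p + r) : CochainComplex A ℤ).homology (n + 1))) : K.ZSub r p n = K.ZTop p n := by
  refine le_antisymm (sup_le (le_of_refinements fun W x hx => ?_) le_sup_right)
    (sup_le_sup_right (inf_le_inf_left _ (kernelSubobject_le_pullback _ _)) _)
  obtain ⟨hx₁, hx₂⟩ := (Subobject.inf_factors _).1 hx
  obtain ⟨u, hu⟩ := (filX_factors K _).1 ((pullback_factors _ _ _).1 hx₂)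
  obtain ⟨W', π, hπ, y, hy⟩ := bdry_of_zero (m := n) (n := n + 1) rfl hz u (by
    rw [reassoc_of% hu, HomologicalComplex.d_comp_d, comp_zero])
  refine ⟨W', π, hπ, mem_ZTop_of K (Subobject.factors_of_factors_right _ hx₁) (q := p + r) (by omega) y ?_⟩
  rw [assoc, ← hu, hy, assoc]

lemma BSub_le_BBot (r : ℕ) (p n : ℤ) : K.BSub r p n ≤ K.BBot p n :=
  sup_le_sup_right (inf_le_inf_left _ (imageSubobject_comp_le _ _)) _

lemma ZTop_le_ZSub (r : ℕ) (p n : ℤ) : K.ZTop p n ≤ K.ZSub r p n :=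
  sup_le_sup_right (inf_le_inf_left _ (kernelSubobject_le_pullback _ _)) _

lemma factors_BSub {r : ℕ} {p n : ℤ} {W : A} {x : W ⟶ K.obj.X n} (hx : (K.filX p n).Factors x)
    (y : W ⟶ (K.step (p - r + 1)).X (n - 1)) (h : x = y ≫ I K (p - r + 1) (n - 1) ≫ K.obj.d (n - 1) n) :
    (K.BSub r p n).Factors x := by
  refine Subobject.factors_of_le _ le_sup_left ((Subobject.inf_factors _).2 ⟨hx, ?_⟩)
  obtain ⟨y', hy'⟩ := (K.filX (p - r + 1) (n - 1)).factors_iff _ |>.1 ((filX_factors K _).2 ⟨y, rfl⟩)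
  rw [h, ← assoc, ← Subobject.factorThru_arrow _ _ ((filX_factors K (y ≫ I K (p - r + 1) (n - 1))).2 ⟨y, rfl⟩), assoc]
  exact factors_image _ _

/-- `B_r = B_∞` for large `r`. -/
lemma BSub_eq_BBot {r : ℕ} (hr : 1 ≤ r) {p n : ℤ}
    (hi : IsIso (HomologicalComplex.homologyMap (K.fil (p - r + 1)).arrow n)) : K.BSub r p n = K.BBot p n := by
  refine le_antisymm (BSub_le_BBot K r p n) (sup_le (le_of_refinements fun W x hx => ?_) le_sup_right)
  obtain ⟨hx₁, hx₂⟩ := (Subobject.inf_factors _).1 hx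
  obtain ⟨W₁, π₁, hπ₁, z, hz⟩ := image_factors _ _ hx₂
  obtain ⟨x', hx'⟩ := (filX_factors K _).1
    (Subobject.factors_of_le _ (K.filX_anti n (show p - r + 1 ≤ p by omega)) hx₁)
  obtain ⟨W₂, π₂, hπ₂, y, hy⟩ := bdry_of_iso (m := n - 1) (by omega) hi (π₁ ≫ x') z (by rw [assoc, hx', hz])
  refine ⟨W₂, π₂ ≫ π₁, epi_comp _ _, factors_BSub K (Subobject.factors_of_factors_right _ hx₁) y ?_⟩
  rw [assoc, ← hx', ← hy, assoc]

/-- Cycles of a step with vanishing homology give first page boundaries. -/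
lemma ZSub_one_le_of_zero {p n : ℤ} (h₁ : IsZero ((K.fil (p + 1) : CochainComplex A ℤ).homology (n + 1)))
    (h₂ : IsZero ((K.fil p : CochainComplex A ℤ).homology n)) : K.ZSub 1 p n ≤ K.BSub 1 p n := by
  rw [ZSub_eq_ZTop K le_rfl (by simpa using h₁)]
  refine sup_le (le_of_refinements fun W x hx => ?_) le_sup_right
  obtain ⟨hx₁, hx₂⟩ := (Subobject.inf_factors _).1 hx
  obtain ⟨x', hx'⟩ := (filX_factors K _).1 hx₁
  obtain ⟨W', π, hπ, y, hy⟩ := bdry_of_zero (m := n - 1) (by omega) h₂ x' (by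
    rw [reassoc_of% hx']; exact (kernelSubobject_factors_iff _ x).1 hx₂)
  have hq : p ≤ p - ((1 : ℕ) : ℤ) + 1 := by simp
  have hq' : p - ((1 : ℕ) : ℤ) + 1 ≤ p := by simp
  refine ⟨W', π, hπ, ?_⟩
  obtain ⟨y', hy'⟩ := (filX_factors K _).1 (filX_factors_I K hq' y)
  refine factors_BSub K (Subobject.factors_of_factors_right _ hx₁) y' ?_
  rw [← hx', hy, reassoc_of% hy']

/-- Steps computing the cohomology give trivial first page. -/
lemma ZSub_one_le_of_iso {p n : ℤ} (h₁ : IsIso (HomologicalComplex.homologyMap (K.fil (p + 1)).arrow (n + 1)))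
    (h₂ : IsIso (HomologicalComplex.homologyMap (K.fil p).arrow n))
    (h₃ : IsIso (HomologicalComplex.homologyMap (K.fil (p + 1)).arrow n)) : K.ZSub 1 p n ≤ K.BSub 1 p n := by
  refine sup_le (le_of_refinements fun W x hx => ?_) le_sup_right
  obtain ⟨hx₁, hx₂⟩ := (Subobject.inf_factors _).1 hx
  obtain ⟨u, hu⟩ := (filX_factors K _).1
    (Subobject.factors_of_le _ (K.filX_anti (n + 1) (show p + 1 ≤ p + ((1 : ℕ) : ℤ) by simp))
      ((pullback_factors _ _ _).1 hx₂))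
  obtain ⟨W₁, π₁, hπ₁, y, hy⟩ := bdry_of_iso (m := n) rfl h₁ u x hu
  let c := π₁ ≫ x - y ≫ I K (p + 1) n
  have hc : c ≫ K.obj.d n (n + 1) = 0 := by
    simp only [c, Preadditive.sub_comp, assoc, ← hu, hy, sub_self]
  obtain ⟨W₂, π₂, hπ₂, w, z, hwz⟩ := cycle_surj (m := n - 1) (by omega) h₃ c hc
  obtain ⟨x', hx'⟩ := (filX_factors K _).1 hx₁
  obtain ⟨w', hw'⟩ := (filX_factors K _).1 (filX_factors_I K (show p ≤ p + 1 by omega) (π₂ ≫ y + w))
  obtain ⟨W₃, π₃, hπ₃, z', hz'⟩ := bdry_of_iso (m := n - 1) (by omega) h₂ (π₂ ≫ π₁ ≫ x' - w') z (by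
    simp only [Preadditive.sub_comp, assoc, hx', hw', Preadditive.add_comp]
    have := hwz
    simp only [c, Preadditive.comp_sub] at this
    rw [sub_eq_iff_eq_add'] at this
    rw [this]; abel)
  refine ⟨W₃, π₃ ≫ π₂ ≫ π₁, epi_comp' inferInstance (epi_comp _ _), ?_⟩
  have hsplit : (π₃ ≫ π₂ ≫ π₁) ≫ x = (π₃ ≫ (π₂ ≫ π₁ ≫ x' - w')) ≫ I K p n + π₃ ≫ w' ≫ I K p n := by
    simp only [assoc, Preadditive.comp_sub, Preadditive.sub_comp, hx']
    abel
  rw [hsplit]
  refine Subobject.factors_add _ _ ?_ (Subobject.factors_of_le _ le_sup_right ?_)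
  · have hq' : p - ((1 : ℕ) : ℤ) + 1 ≤ p := by simp
    obtain ⟨z'', hz''⟩ := (filX_factors K _).1 (filX_factors_I K hq' z')
    refine factors_BSub K ((filX_factors K _).2 ⟨_, rfl⟩) z'' ?_
    rw [assoc, hz', reassoc_of% hz'']
  · rw [hw', ← assoc]
    exact filX_factors_I K le_rfl _

theorem main (h0 : ∀ n : ℤ, ∃ p₀ : ℤ, ∀ p : ℤ, p₀ ≤ p → IsZero ((K.fil p : CochainComplex A ℤ).homology n))
    (h1 : ∀ n : ℤ, ∃ p₁ : ℤ, ∀ p : ℤ, p ≤ p₁ → IsIso (HomologicalComplex.homologyMap (K.fil p).arrow n)) :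
    K.IsBounded 1 ∧ (∀ n : ℤ, (K.HFil n).IsFinite) ∧ K.Converges := by
  choose P₀ hP₀ using h0
  choose P₁ hP₁ using h1
  have hE : ∀ n p, ¬ IsZero (K.E 1 p n) →
      p ∈ Set.Icc (min (P₁ n) (P₁ (n + 1)) - 1) (max (P₀ n) (P₀ (n + 1))) := by
    intro n p hp
    by_contra h
    apply hp
    have hle : K.ZSub 1 p n ≤ K.BSub 1 p n := by
      rw [Set.mem_Icc, not_and_or, not_le, not_le] at h
      obtain h | h := h
      · exact ZSub_one_le_of_iso K (hP₁ _ _ (by omega)) (hP₁ _ _ (by omega)) (hP₁ _ _ (by omega))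
      · exact ZSub_one_le_of_zero K (hP₀ _ _ (by omega)) (hP₀ _ _ (by omega))
    have : IsIso (Subobject.ofLE _ _ (K.BSub_le_ZSub 1 p n)) :=
      ⟨Subobject.ofLE _ _ hle, by rw [Subobject.ofLE_comp_ofLE, Subobject.ofLE_refl],
        by rw [Subobject.ofLE_comp_ofLE, Subobject.ofLE_refl]⟩
    exact Limits.isZero_cokernel_of_epi _
  have hfin : ∀ n, (K.HFil n).IsFinite := by
    intro n
    refine ⟨⟨P₁ n, ?_⟩, ⟨P₀ n, ?_⟩⟩
    · show imageSubobject (HomologicalComplex.homologyMap (K.fil (P₁ n)).arrow n) = ⊤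
      haveI := hP₁ n (P₁ n) le_rfl
      have : Epi (imageSubobject (HomologicalComplex.homologyMap (K.fil (P₁ n)).arrow n)).arrow :=
        epi_of_epi_fac (imageSubobject_arrow_comp (HomologicalComplex.homologyMap (K.fil (P₁ n)).arrow n))
      have := isIso_of_mono_of_epi
        (imageSubobject (HomologicalComplex.homologyMap (K.fil (P₁ n)).arrow n)).arrow
      exact Subobject.eq_top_of_isIso_arrow _
    · show imageSubobject (HomologicalComplex.homologyMap (K.fil (P₀ n)).arrow n) = ⊥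
      rw [(hP₀ n (P₀ n) le_rfl).eq_of_src (HomologicalComplex.homologyMap (K.fil (P₀ n)).arrow n) 0,
        imageSubobject_zero]
  refine ⟨fun n => (Set.finite_Icc _ _).subset (hE n), hfin, ?_, ⟨?_, fun n => ?_⟩, fun n => ?_⟩
  · intro p n
    refine ⟨max 1 (P₀ (n + 1) - p).toNat, fun r hr => ?_⟩
    rw [ZSub_eq_ZTop K (by omega) (hP₀ _ _ (by omega)), ZSub_eq_ZTop K (by omega) (hP₀ _ _ (by omega))]
  · refine fun p n => ⟨IsLeast.isGLB ⟨⟨max 1 (P₀ (n + 1) - p).toNat, ?_⟩, ?_⟩,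
      IsGreatest.isLUB ⟨⟨max 1 (p + 1 - P₁ n).toNat, ?_⟩, ?_⟩⟩
    · exact ZSub_eq_ZTop K (by omega) (hP₀ _ _ (by omega))
    · rintro _ ⟨r, rfl⟩
      exact ZTop_le_ZSub K r p n
    · exact BSub_eq_BBot K (by omega) (hP₁ _ _ (by omega))
    · rintro _ ⟨r, rfl⟩
      exact BSub_le_BBot K r p n
  · obtain ⟨⟨a', ha''⟩, ⟨b', hb''⟩⟩ := hfin n
    exact ⟨IsLeast.isGLB ⟨⟨b', hb''⟩, fun _ _ => bot_le⟩,
      IsGreatest.isLUB ⟨⟨a', ha''⟩, fun _ _ => le_top⟩⟩
  · intro T f hf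
    obtain ⟨q0, hq0⟩ := (hfin n).2
    have hiso : ∀ q, q0 ≤ q → IsIso (Limits.cokernel.π ((K.HFil n).fil q).arrow) := fun q hq => by
      have : (K.HFil n).fil q = ⊥ := le_bot_iff.1 (((K.HFil n).anti hq).trans hq0.le)
      have hz : ((K.HFil n).fil q).arrow = 0 := by rw [this, Subobject.bot_arrow]
      refine ⟨cokernel.desc _ (𝟙 _) (by rw [hz, zero_comp]), cokernel.π_desc _ _ _,
        coequalizer.hom_ext ?_⟩
      exact (cokernel.π_desc_assoc _ _ _ _).trans ((Category.id_comp _).trans (Category.comp_id _).symm)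
    have hπ : ∀ {p q : ℤ} (h : p ≤ q), Limits.cokernel.π ((K.HFil n).fil q).arrow ≫
        (K.HFil n).quotMap h = Limits.cokernel.π ((K.HFil n).fil p).arrow :=
      fun h => Limits.cokernel.π_desc _ _ _
    have := hiso q0 le_rfl
    refine ⟨f q0 ≫ inv (Limits.cokernel.π ((K.HFil n).fil q0).arrow), fun p => ?_⟩
    let q := max p q0
    have := hiso q (le_max_right _ _)
    have e1 := hπ (le_max_right p q0)
    have : IsIso ((K.HFil n).quotMap (le_max_right p q0)) := IsIso.of_isIso_fac_left e1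
    have e2 : f q = (f q0 ≫ inv (cokernel.π ((K.HFil n).fil q0).arrow)) ≫
        cokernel.π ((K.HFil n).fil q).arrow := by
      rw [← cancel_mono ((K.HFil n).quotMap (le_max_right p q0)), hf, Category.assoc,
        Category.assoc, e1, IsIso.inv_hom_id, Category.comp_id]
    rw [← hf p q (le_max_left _ _), e2]
    simp only [Category.assoc, hπ]

end Groth.Agent.H9Misc.FilCxConv
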