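import Groth.Agent.H9Misc.FilCxConv
import Groth.Agent.S6792
import Mathlib.Algebra.Homology.ExactSequence
import Mathlib.CategoryTheory.ObjectProperty.ClosedUnderIsomorphisms

/-! Weak Serre classes and spectral sequences of filtered complexes. -/

universe v u

open CategoryTheory CategoryTheory.Category CategoryTheory.Limits SpSeq SpSeq.FilCx

namespace Groth.Agent.H9Misc.FilCxWeakSerre

open FilCxConv

variable {A : Type u} [Category.{v} A] [Abelian A]

lemma sup_refine {X : A} {S T : Subobject X} {W : A} (x : W ⟶ X) (h : (S ⊔ T).Factors x) :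
    ∃ (W' : A) (π : W' ⟶ W) (_ : Epi π) (s : W' ⟶ X) (t : W' ⟶ X),
      S.Factors s ∧ T.Factors t ∧ π ≫ x = s + t := by
  let f : (S : A) ⊞ (T : A) ⟶ X := biprod.desc S.arrow T.arrow
  have hle : S ⊔ T ≤ imageSubobject f :=
    sup_le (le_of_refinements fun W y hy => ⟨W, 𝟙 W, inferInstance, by
      have e : (S.factorThru y hy ≫ biprod.inl) ≫ f = 𝟙 W ≫ y := by simp [f]
      exact e ▸ factors_image _ _⟩) (le_of_refinements fun W y hy => ⟨W, 𝟙 W, inferInstance, by
      have e : (T.factorThru y hy ≫ biprod.inr) ≫ f = 𝟙 W ≫ y := by simp [f]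
      exact e ▸ factors_image _ _⟩)
  obtain ⟨W', π, hπ, y, hy⟩ := image_factors f x (Subobject.factors_of_le _ hle h)
  refine ⟨W', π, hπ, (y ≫ biprod.fst) ≫ S.arrow, (y ≫ biprod.snd) ≫ T.arrow,
    Subobject.factors_comp_arrow _, Subobject.factors_comp_arrow _, ?_⟩
  rw [hy, assoc, assoc, ← Preadditive.comp_add]
  exact congrArg (y ≫ ·) (biprod.hom_ext' _ _ (by simp [f]) (by simp [f]))

lemma factors_of_epi {X : A} (T : Subobject X) {W' W : A} (π : W' ⟶ W) [Epi π] (x : W ⟶ X)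
    (h : T.Factors (π ≫ x)) : T.Factors x := by
  have h0 : x ≫ cokernel.π T.arrow = 0 := by
    rw [← cancel_epi π, comp_zero, ← assoc, ← T.factorThru_arrow _ h, assoc, cokernel.condition, comp_zero]
  have e := (Abelian.monoIsKernelOfCokernel (CokernelCofork.ofπ _ (cokernel.condition T.arrow))
    (cokernelIsCokernel _)).fac (KernelFork.ofι x h0) WalkingParallelPair.zero
  change _ ≫ T.arrow = x at e
  exact e ▸ Subobject.factors_comp_arrow _

lemma factors_sub {X : A} {P : Subobject X} {W : A} {f g : W ⟶ X} (hf : P.Factors f) (hg : P.Factors g) :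
    P.Factors (f - g) := by
  have e : (P.factorThru f hf - P.factorThru g hg) ≫ P.arrow = f - g := by
    rw [Preadditive.sub_comp, Subobject.factorThru_arrow, Subobject.factorThru_arrow]
  exact e ▸ Subobject.factors_comp_arrow _

section Quot

variable {X : A} {Z B : Subobject X} (hB : B ≤ Z)

/-- Classes of elements of `Z` in `Z / B`. -/
noncomputable def cls {W : A} (x : W ⟶ X) (h : Z.Factors x) : W ⟶ cokernel (Subobject.ofLE B Z hB) :=
  Z.factorThru x h ≫ cokernel.π _

lemma cls_eq_zero_iff {W : A} (x : W ⟶ X) (h : Z.Factors x) : cls hB x h = 0 ↔ B.Factors x := by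
  constructor
  · intro h0
    obtain ⟨l, hl⟩ : ∃ l, l ≫ Subobject.ofLE B Z hB = Z.factorThru x h :=
      ⟨_, (Abelian.monoIsKernelOfCokernel (CokernelCofork.ofπ _ (cokernel.condition (Subobject.ofLE B Z hB)))
        (cokernelIsCokernel _)).fac (KernelFork.ofι _ h0) WalkingParallelPair.zero⟩
    have e : l ≫ B.arrow = x := by rw [← Subobject.ofLE_arrow hB, reassoc_of% hl, Subobject.factorThru_arrow]
    exact e ▸ Subobject.factors_comp_arrow _
  · intro hx
    rw [cls, show Z.factorThru x h = B.factorThru x hx ≫ Subobject.ofLE B Z hB from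
      (cancel_mono Z.arrow).1 (by simp), assoc, cokernel.condition, comp_zero]

lemma comp_cls {W' W : A} (π : W' ⟶ W) (x : W ⟶ X) (h : Z.Factors x) (h' : Z.Factors (π ≫ x)) :
    π ≫ cls hB x h = cls hB (π ≫ x) h' := by
  rw [cls, cls, ← assoc]
  exact congrArg (· ≫ cokernel.π _) ((cancel_mono Z.arrow).1 (by simp))

lemma cls_eq_iff {W : A} (x y : W ⟶ X) (hx : Z.Factors x) (hy : Z.Factors y) :
    cls hB x hx = cls hB y hy ↔ B.Factors (x - y) := by
  rw [← cls_eq_zero_iff hB (x - y) (factors_sub hx hy), ← sub_eq_zero]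
  have e : cls hB (x - y) (factors_sub hx hy) = cls hB x hx - cls hB y hy := by
    rw [cls, cls, cls, ← Preadditive.sub_comp]
    exact congrArg (· ≫ cokernel.π _) ((cancel_mono Z.arrow).1 (by simp [Preadditive.sub_comp]))
  rw [e]

/-- The quotient map on a subobject of `Z`. -/
noncomputable def q (S : Subobject X) (hS : S ≤ Z) : (S : A) ⟶ cokernel (Subobject.ofLE B Z hB) :=
  cls hB S.arrow (Subobject.factors_of_le _ hS S.factors_self)

lemma epi_q (S : Subobject X) (hS : S ≤ Z) (h : Z ≤ S ⊔ B) : Epi (q hB S hS) := by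
  rw [epi_iff_surjective_up_to_refinements]
  intro W y
  obtain ⟨W₁, π₁, hπ₁, z, hz⟩ := surjective_up_to_refinements_of_epi (cokernel.π (Subobject.ofLE B Z hB)) y
  obtain ⟨W₂, π₂, hπ₂, s, t, hs, ht, e⟩ := sup_refine (z ≫ Z.arrow)
    (Subobject.factors_of_le _ h (Subobject.factors_comp_arrow _))
  refine ⟨W₂, π₂ ≫ π₁, epi_comp _ _, S.factorThru s hs, ?_⟩
  have h1 : Z.Factors s := Subobject.factors_of_le _ hS hs
  have h2 : Z.Factors (π₂ ≫ z ≫ Z.arrow) := Subobject.factors_of_factors_right _ (Subobject.factors_comp_arrow _)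
  rw [assoc, hz, q, comp_cls hB _ _ _ (by rw [Subobject.factorThru_arrow]; exact h1)]
  have e2 : π₂ ≫ z ≫ cokernel.π (Subobject.ofLE B Z hB) = cls hB (π₂ ≫ z ≫ Z.arrow) h2 := by
    rw [cls, ← assoc]
    exact congrArg (· ≫ cokernel.π _) ((cancel_mono Z.arrow).1 (by simp))
  rw [e2, cls_eq_iff, Subobject.factorThru_arrow, e, add_sub_cancel_left]
  exact ht

end Quot

lemma nonempty_iso_of_epi {S X Y : A} (f : S ⟶ X) (g : S ⟶ Y) [Epi f] [Epi g]
    (h₁ : ∀ {W : A} (x : W ⟶ S), x ≫ f = 0 → x ≫ g = 0)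
    (h₂ : ∀ {W : A} (x : W ⟶ S), x ≫ g = 0 → x ≫ f = 0) : Nonempty (X ≅ Y) := by
  refine ⟨⟨Abelian.epiDesc f g (h₁ _ (kernel.condition f)), Abelian.epiDesc g f (h₂ _ (kernel.condition g)), ?_, ?_⟩⟩
  · rw [← cancel_epi f]; simp
  · rw [← cancel_epi g]; simp

variable (K : FilCx A)

/-- The page, as an explicit cokernel. -/
noncomputable abbrev Pg (r : ℕ) (p n : ℤ) : A :=
  cokernel (Subobject.ofLE (K.BSub r p n) (K.ZSub r p n) (K.BSub_le_ZSub r p n))

/-- `F^p ∩ d⁻¹ F^{p+r}`. -/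
noncomputable def ASub (r : ℕ) (p n : ℤ) : Subobject (K.obj.X n) :=
  K.filX p n ⊓ (Subobject.pullback (K.obj.d n (n + 1))).obj (K.filX (p + r) (n + 1))

lemma factors_ASub {r : ℕ} {p n q m : ℤ} (hq : p + r = q) (hm : n + 1 = m) {W : A} (x : W ⟶ K.obj.X n) :
    (ASub K r p n).Factors x ↔ (K.filX p n).Factors x ∧ (K.filX q m).Factors (x ≫ K.obj.d n m) := by
  subst hq hm
  rw [ASub, Subobject.inf_factors, FilCxConv.pullback_factors]

lemma ASub_le (r : ℕ) (p n : ℤ) : ASub K r p n ≤ K.ZSub r p n := le_sup_left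

/-- The quotient map to the page. -/
noncomputable def h (r : ℕ) (p n : ℤ) : (ASub K r p n : A) ⟶ Pg K r p n :=
  q (K.BSub_le_ZSub r p n) _ (ASub_le K r p n)

instance epi_h (r : ℕ) (p n : ℤ) : Epi (h K r p n) :=
  epi_q _ _ _ (sup_le le_sup_left (le_sup_of_le_right le_sup_right))

lemma factors_B_of_bdry {r : ℕ} {p n m p' : ℤ} (hm : m + 1 = n) (hp' : p - r + 1 = p') {W : A} {x : W ⟶ K.obj.X n}
    (hx : (K.filX p n).Factors x) (y : W ⟶ K.obj.X m) (hy : (K.filX p' m).Factors y) (e : x = y ≫ K.obj.d m n) :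
    (K.BSub r p n).Factors x := by
  obtain rfl : m = n - 1 := by omega
  subst hp'
  refine Subobject.factors_of_le _ le_sup_left ((Subobject.inf_factors _).2 ⟨hx, ?_⟩)
  rw [e, ← Subobject.factorThru_arrow _ _ hy, assoc]
  exact factors_image _ _

lemma B_refine {r : ℕ} {p n m p' : ℤ} (hm : m + 1 = n) (hp' : p - r + 1 = p') {W : A} (x : W ⟶ K.obj.X n)
    (hx : (K.BSub r p n).Factors x) : ∃ (W' : A) (π : W' ⟶ W) (_ : Epi π) (y : W' ⟶ K.obj.X m) (t : W' ⟶ K.obj.X n),
      (K.filX p' m).Factors y ∧ (K.filX (p + 1) n).Factors t ∧ (K.filX p n).Factors (y ≫ K.obj.d m n) ∧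
        π ≫ x = y ≫ K.obj.d m n + t := by
  obtain rfl : m = n - 1 := by omega
  subst hp'
  obtain ⟨W₁, π₁, hπ₁, s, t, hs, ht, e⟩ := sup_refine x hx
  obtain ⟨hs₁, hs₂⟩ := (Subobject.inf_factors _).1 hs
  obtain ⟨W₂, π₂, hπ₂, y, hy⟩ := image_factors _ _ hs₂
  refine ⟨W₂, π₂ ≫ π₁, epi_comp _ _, y ≫ (K.filX (p - r + 1) (n - 1)).arrow, π₂ ≫ t,
    Subobject.factors_comp_arrow _, Subobject.factors_of_factors_right _ ht, ?_, ?_⟩
  · rw [assoc, ← hy]; exact Subobject.factors_of_factors_right _ hs₁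
  · rw [assoc, e, Preadditive.comp_add, hy, assoc]

lemma filX_le_B (r : ℕ) (p n : ℤ) : K.filX (p + 1) n ≤ K.BSub r p n := le_sup_right

lemma d_mem {r : ℕ} {p n q m : ℤ} (hq : p + r = q) (hm : n + 1 = m) :
    (ASub K r q m).Factors ((ASub K r p n).arrow ≫ K.obj.d n m) := by
  refine (factors_ASub K rfl rfl _).2 ⟨((factors_ASub K hq hm _).1 (Subobject.factors_self _)).2, ?_⟩
  rw [assoc, HomologicalComplex.d_comp_d, comp_zero]
  exact Subobject.factors_zero

/-- The page differential. -/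
noncomputable def dE (r : ℕ) (p n q m : ℤ) (hq : p + r = q) (hm : n + 1 = m) : Pg K r p n ⟶ Pg K r q m :=
  Abelian.epiDesc (h K r p n) ((ASub K r q m).factorThru _ (d_mem K hq hm) ≫ h K r q m) (by
    have hz : kernel.ι (h K r p n) ≫ h K r p n = 0 := kernel.condition _
    set x := kernel.ι (h K r p n) with hx
    clear_value x
    unfold h FilCxWeakSerre.q at hz
    rw [comp_cls _ _ _ _ (Subobject.factors_of_le _ (ASub_le K r p n) (Subobject.factors_comp_arrow _)),
      cls_eq_zero_iff] at hz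
    obtain ⟨W', π, hπ, y, t, hy, ht, -, e⟩ := B_refine K (show n - 1 + 1 = n by omega) rfl _ hz
    unfold h FilCxWeakSerre.q
    have hA : (ASub K r q m).Factors (x ≫ (ASub K r p n).arrow ≫ K.obj.d n m) :=
      Subobject.factors_of_factors_right _ (d_mem K hq hm)
    have hZ := Subobject.factors_of_le _ (ASub_le K r q m) hA
    rw [← assoc, comp_cls _ _ _ _ (by simp only [assoc, Subobject.factorThru_arrow]; exact hZ), cls_eq_zero_iff]
    simp only [assoc, Subobject.factorThru_arrow]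
    refine factors_of_epi _ π _ ?_
    refine factors_B_of_bdry K (p' := p + 1) hm (by omega)
      (Subobject.factors_of_factors_right _ ((Subobject.inf_factors _).1 hA).1) t ht ?_
    rw [reassoc_of% e, Preadditive.add_comp, assoc, HomologicalComplex.d_comp_d, comp_zero, zero_add])

lemma h_dE (r : ℕ) (p n q m : ℤ) (hq : p + r = q) (hm : n + 1 = m) {W : A} (x : W ⟶ (ASub K r p n : A))
    (hx : (K.ZSub r q m).Factors (x ≫ (ASub K r p n).arrow ≫ K.obj.d n m)) :
    x ≫ h K r p n ≫ dE K r p n q m hq hm = cls (K.BSub_le_ZSub r q m) _ hx := by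
  rw [dE, Abelian.comp_epiDesc, ← assoc, h, FilCxWeakSerre.q,
    comp_cls _ _ _ _ (by simpa using hx)]
  simp

lemma h_zero {r : ℕ} {p n : ℤ} {W : A} (x : W ⟶ (ASub K r p n : A)) :
    x ≫ h K r p n = 0 ↔ (K.BSub r p n).Factors (x ≫ (ASub K r p n).arrow) := by
  rw [h, FilCxWeakSerre.q, comp_cls _ _ _ _ (Subobject.factors_of_le _ (ASub_le K r p n) (Subobject.factors_comp_arrow _)),
    cls_eq_zero_iff]

lemma h_surj {r : ℕ} {p n : ℤ} {W : A} (γ : W ⟶ Pg K r p n) :
    ∃ (W' : A) (π : W' ⟶ W) (_ : Epi π) (a : W' ⟶ (ASub K r p n : A)), π ≫ γ = a ≫ h K r p n :=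
  surjective_up_to_refinements_of_epi (h K r p n) γ

lemma dE_comp (r : ℕ) (p₀ n₀ p n q m : ℤ) (h₀ : p₀ + r = p) (hn₀ : n₀ + 1 = n) (hq : p + r = q) (hm : n + 1 = m) :
    dE K r p₀ n₀ p n h₀ hn₀ ≫ dE K r p n q m hq hm = 0 := by
  rw [← cancel_epi (h K r p₀ n₀), comp_zero, dE, Abelian.comp_epiDesc_assoc, assoc]
  have hz : ((ASub K r p n).factorThru _ (d_mem K h₀ hn₀) ≫ (ASub K r p n).arrow ≫ K.obj.d n m) = 0 := by simp
  rw [h_dE K r p n q m hq hm _ (by rw [hz]; exact Subobject.factors_zero), cls_eq_zero_iff, hz]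
  exact Subobject.factors_zero

/-- The next page is the homology of the page differential. -/
theorem nonempty_iso_homology (r : ℕ) (p n p₀ n₀ q m : ℤ) (h₀ : p₀ + r = p) (hn₀ : n₀ + 1 = n)
    (hq : p + r = q) (hm : n + 1 = m) :
    Nonempty (Pg K (r + 1) p n ≅
      (ShortComplex.mk _ _ (dE_comp K r p₀ n₀ p n q m h₀ hn₀ hq hm)).homology) := by
  let S := ShortComplex.mk _ _ (dE_comp K r p₀ n₀ p n q m h₀ hn₀ hq hm)
  let A' := ASub K (r + 1) p n
  obtain ⟨hA₁, hA₂⟩ := (factors_ASub K (q := q + 1) (by push_cast; omega) hm A'.arrow).1 A'.factors_self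
  have hAr : (ASub K r p n).Factors A'.arrow :=
    (factors_ASub K hq hm _).2 ⟨hA₁, Subobject.factors_of_le _ (K.filX_anti m (by omega)) hA₂⟩
  let i : (A' : A) ⟶ (ASub K r p n : A) := (ASub K r p n).factorThru _ hAr
  have hi : i ≫ (ASub K r p n).arrow = A'.arrow := Subobject.factorThru_arrow _ _ _
  have hB : (K.BSub r q m).Factors (i ≫ (ASub K r p n).arrow ≫ K.obj.d n m) := by
    rw [reassoc_of% hi]; exact Subobject.factors_of_le _ (filX_le_B K r q m) hA₂
  have hk : (i ≫ h K r p n) ≫ S.g = 0 := by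
    show (i ≫ h K r p n) ≫ dE K r p n q m hq hm = 0
    rw [assoc, h_dE K r p n q m hq hm i (Subobject.factors_of_le _ (K.BSub_le_ZSub r q m) hB), cls_eq_zero_iff]
    exact hB
  let α : (A' : A) ⟶ S.homology := S.liftCycles _ hk ≫ S.homologyπ
  haveI : Epi α := by
    rw [epi_iff_surjective_up_to_refinements]
    intro W γ
    obtain ⟨W₁, π₁, hπ₁, z, hz, e₁⟩ := S.eq_liftCycles_homologyπ_up_to_refinements γ
    obtain ⟨W₂, π₂, hπ₂, a, e₂⟩ := h_surj K z
    have hd : (ASub K r q m).Factors (a ≫ (ASub K r p n).arrow ≫ K.obj.d n m) :=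
      Subobject.factors_of_factors_right _ (d_mem K hq hm)
    have hBd : (K.BSub r q m).Factors (a ≫ (ASub K r p n).arrow ≫ K.obj.d n m) := by
      rw [← cls_eq_zero_iff (K.BSub_le_ZSub r q m) _ (Subobject.factors_of_le _ (ASub_le K r q m) hd),
        ← h_dE K r p n q m hq hm a, ← assoc, ← e₂, assoc]
      exact (congrArg (π₂ ≫ ·) hz).trans comp_zero
    obtain ⟨W₃, π₃, hπ₃, y, t, hy, ht, -, e₃⟩ := B_refine K (show n + 1 = m from hm) (show q - r + 1 = p + 1 by omega) _ hBd
    let x := π₃ ≫ a ≫ (ASub K r p n).arrow - y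
    have hxF : (K.filX p n).Factors x := factors_sub (Subobject.factors_of_factors_right _
      (Subobject.factors_of_factors_right _ ((Subobject.inf_factors _).1 (Subobject.factors_self (ASub K r p n))).1))
      (Subobject.factors_of_le _ (K.filX_anti n (by omega)) hy)
    have hxd : x ≫ K.obj.d n m = t := by
      simp only [x, Preadditive.sub_comp, assoc, e₃]; abel
    have hxA : A'.Factors x := (factors_ASub K (q := q + 1) (by push_cast; omega) hm x).2 ⟨hxF, by rw [hxd]; exact ht⟩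
    refine ⟨W₃, π₃ ≫ π₂ ≫ π₁, epi_comp' inferInstance (epi_comp _ _), A'.factorThru x hxA, ?_⟩
    have eh : A'.factorThru x hxA ≫ i ≫ h K r p n = π₃ ≫ π₂ ≫ z := by
      rw [e₂, ← sub_eq_zero, ← assoc, ← assoc π₃, ← Preadditive.sub_comp, h_zero]
      simp only [Preadditive.sub_comp, assoc, hi, Subobject.factorThru_arrow, x, sub_sub_cancel_left]
      have := Subobject.factors_of_le _ (filX_le_B K r p n) hy
      have h' := factors_sub (Subobject.factors_zero (P := K.BSub r p n)) this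
      rwa [zero_sub] at h'
    simp only [α, assoc, e₁]
    rw [← assoc, ← assoc, ← assoc (A'.factorThru x hxA)]
    refine congrArg (· ≫ S.homologyπ) ?_
    rw [← cancel_mono S.iCycles]
    simp only [assoc, ShortComplex.liftCycles_i]
    exact eh.symm
  have key : ∀ {W : A} (x : W ⟶ (A' : A)), x ≫ α = 0 ↔ (K.BSub (r + 1) p n).Factors (x ≫ A'.arrow) := by
    intro W x
    have hxc : x ≫ α = S.liftCycles (x ≫ i ≫ h K r p n) (by rw [assoc, hk, comp_zero]) ≫ S.homologyπ := by
      simp only [α, ← assoc, ShortComplex.comp_liftCycles]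
    rw [hxc, ShortComplex.liftCycles_comp_homologyπ_eq_zero_iff_up_to_refinements]
    constructor
    · rintro ⟨W₁, π₁, hπ₁, c, e₁⟩
      obtain ⟨W₂, π₂, hπ₂, b, e₂⟩ := h_surj K c
      haveI : Epi (π₂ ≫ π₁) := epi_comp _ _
      refine factors_of_epi _ (π₂ ≫ π₁) _ ?_
      let bd := b ≫ (ASub K r p₀ n₀).arrow ≫ K.obj.d n₀ n
      have hbd : (ASub K r p n).Factors bd := Subobject.factors_of_factors_right _ (d_mem K h₀ hn₀)
      have hz : ((π₂ ≫ π₁ ≫ x ≫ i) - (ASub K r p n).factorThru bd hbd) ≫ h K r p n = 0 := by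
        have h3 : π₂ ≫ π₁ ≫ x ≫ i ≫ h K r p n = π₂ ≫ c ≫ dE K r p₀ n₀ p n h₀ hn₀ := congrArg (π₂ ≫ ·) e₁
        rw [Preadditive.sub_comp, assoc, assoc, assoc, h3, reassoc_of% e₂,
          h_dE K r p₀ n₀ p n h₀ hn₀ b (Subobject.factors_of_le _ (ASub_le K r p n) hbd), h, FilCxWeakSerre.q,
          comp_cls _ _ _ _ (by simpa using Subobject.factors_of_le _ (ASub_le K r p n) hbd)]
        simp [bd]
      rw [h_zero, Preadditive.sub_comp, Subobject.factorThru_arrow] at hz
      simp only [assoc, hi] at hz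
      obtain ⟨hb₁, hb₂⟩ := (factors_ASub K h₀ hn₀ _).1 (Subobject.factors_comp_arrow (P := ASub K r p₀ n₀) b)
      have h1 : (K.BSub (r + 1) p n).Factors bd := factors_B_of_bdry K hn₀ (p' := p₀) (by push_cast; omega)
        (by simpa [bd] using hb₂) _ hb₁ (by simp [bd])
      have hle : K.BSub r p n ≤ K.BSub (r + 1) p n := by
        refine sup_le (le_of_refinements fun W' y hy => ?_) le_sup_right
        obtain ⟨hy₁, hy₂⟩ := (Subobject.inf_factors _).1 hy
        obtain ⟨W'', π, hπ, z, hz⟩ := image_factors _ _ hy₂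
        refine ⟨W'', π, hπ, factors_B_of_bdry K (show n - 1 + 1 = n by omega) rfl
          (Subobject.factors_of_factors_right _ hy₁) (z ≫ (K.filX (p - r + 1) (n - 1)).arrow)
          (Subobject.factors_of_le _ (K.filX_anti _ (by push_cast; omega)) (Subobject.factors_comp_arrow _)) ?_⟩
        rw [assoc]; exact hz
      have h4 := Subobject.factors_add _ _ (Subobject.factors_of_le _ hle hz) h1
      simpa only [sub_add_cancel, assoc] using h4
    · intro hx
      obtain ⟨W', π, hπ, y, t, hy, ht, hyd, e⟩ := B_refine K hn₀ (show p - ((r + 1 : ℕ) : ℤ) + 1 = p₀ by push_cast; omega) _ hx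
      have hyA : (ASub K r p₀ n₀).Factors y := (factors_ASub K h₀ hn₀ y).2 ⟨hy, hyd⟩
      refine ⟨W', π, hπ, (ASub K r p₀ n₀).factorThru y hyA ≫ h K r p₀ n₀, ?_⟩
      have hd' : (ASub K r p n).Factors ((ASub K r p₀ n₀).factorThru y hyA ≫ (ASub K r p₀ n₀).arrow ≫ K.obj.d n₀ n) :=
        Subobject.factors_of_factors_right _ (d_mem K h₀ hn₀)
      show π ≫ x ≫ i ≫ h K r p n = (_ ≫ _) ≫ dE K r p₀ n₀ p n h₀ hn₀
      rw [assoc ((ASub K r p₀ n₀).factorThru y hyA), h_dE K r p₀ n₀ p n h₀ hn₀ _ (Subobject.factors_of_le _ (ASub_le K r p n) hd'), h, FilCxWeakSerre.q,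
        ← assoc, ← assoc, comp_cls _ _ _ _ (by
          simp only [assoc, hi]
          exact Subobject.factors_of_factors_right _ (Subobject.factors_of_factors_right _
            (Subobject.factors_of_le _ (ASub_le K r p n) hAr))), cls_eq_iff]
      simp only [assoc, hi, e, Subobject.factorThru_arrow_assoc, add_sub_cancel_left]
      exact Subobject.factors_of_le _ (filX_le_B K r p n) ht
  exact nonempty_iso_of_epi (h K (r + 1) p n) α (fun x hx => (key x).2 ((h_zero K x).1 hx))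
    (fun x hx => (h_zero K x).2 ((key x).1 hx))

/-- The limit page is the graded cohomology. -/
theorem nonempty_iso_gr (p n : ℤ) (hB : K.BBot p n ≤ K.ZTop p n) :
    Nonempty (cokernel (Subobject.ofLE (K.BBot p n) (K.ZTop p n) hB) ≅
      cokernel (Subobject.ofLE (K.filH (p + 1) n) (K.filH p n) (K.filH_anti n (Int.le_add_one le_rfl)))) := by
  let S := K.filX p n ⊓ kernelSubobject (K.obj.d n (n + 1))
  obtain ⟨hS₁, hS₂⟩ := (Subobject.inf_factors _).1 S.factors_self
  have hc : S.arrow ≫ K.obj.d n (n + 1) = 0 := (kernelSubobject_factors_iff _ _).1 hS₂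
  let η : (S : A) ⟶ K.obj.homology n := K.obj.liftCycles S.arrow (n + 1) (by simp) hc ≫ K.obj.homologyπ n
  have hmap : ∀ (p' : ℤ) {W : A} (x' : W ⟶ (K.step p').X n) (hx' : x' ≫ (K.step p').d n (n + 1) = 0)
      (x : W ⟶ K.obj.X n) (hx : x ≫ K.obj.d n (n + 1) = 0) (e : x' ≫ I K p' n = x),
      (K.step p').liftCycles x' (n + 1) (by simp) hx' ≫ (K.step p').homologyπ n ≫
        HomologicalComplex.homologyMap (K.fil p').arrow n =
      K.obj.liftCycles x (n + 1) (by simp) hx ≫ K.obj.homologyπ n := by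
    intro p' W x' hx' x hx e
    rw [HomologicalComplex.homologyπ_naturality, HomologicalComplex.liftCycles_comp_cyclesMap_assoc]
    simp only [show x' ≫ (K.fil p').arrow.f n = x from e]
  obtain ⟨s', hs'⟩ := (filX_factors K _).1 hS₁
  have hη : (K.filH p n).Factors η := by
    have hs'c := cycle_of_comp K s' (by rw [reassoc_of% hs', hc])
    have e := hmap p s' hs'c S.arrow hc hs'
    show (K.filH p n).Factors (_ ≫ _)
    rw [← e, ← assoc]
    exact factors_image _ _
  have hgr : K.filH (p + 1) n ≤ K.filH p n := K.filH_anti n (by omega)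
  let g : (S : A) ⟶ cokernel (Subobject.ofLE _ _ hgr) := cls hgr η hη
  haveI : Epi g := by
    rw [epi_iff_surjective_up_to_refinements]
    intro W γ
    obtain ⟨W₁, π₁, hπ₁, z, hz⟩ := surjective_up_to_refinements_of_epi (cokernel.π (Subobject.ofLE _ _ hgr)) γ
    obtain ⟨W₂, π₂, hπ₂, w, hw⟩ := image_factors (HomologicalComplex.homologyMap (K.fil p).arrow n)
      (z ≫ (K.filH p n).arrow) (Subobject.factors_comp_arrow (P := K.filH p n) z)
    obtain ⟨W₃, π₃, hπ₃, c, hcc, e⟩ := (K.step p).eq_liftCycles_homologyπ_up_to_refinements w (n + 1) (by simp)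
    have hcd : (c ≫ I K p n) ≫ K.obj.d n (n + 1) = 0 := by
      rw [assoc, I_d, reassoc_of% hcc, zero_comp]
    have hcS : S.Factors (c ≫ I K p n) :=
      (Subobject.inf_factors _).2 ⟨(filX_factors K _).2 ⟨c, rfl⟩, (kernelSubobject_factors_iff _ _).2 hcd⟩
    refine ⟨W₃, π₃ ≫ π₂ ≫ π₁, epi_comp' inferInstance (epi_comp _ _), S.factorThru _ hcS, ?_⟩
    simp only [g, assoc, hz]
    rw [comp_cls hgr _ _ _ (Subobject.factors_of_factors_right _ hη), cls, ← assoc, ← assoc]
    refine congrArg (· ≫ cokernel.π _) ((cancel_mono (K.filH p n).arrow).1 ?_)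
    simp only [assoc, Subobject.factorThru_arrow, hw, η]
    rw [reassoc_of% e, hmap p c hcc _ hcd rfl, ← assoc, HomologicalComplex.comp_liftCycles]
    simp
  have key : ∀ {W : A} (x : W ⟶ (S : A)), x ≫ g = 0 ↔ (K.BBot p n).Factors (x ≫ S.arrow) := by
    intro W x
    rw [show x ≫ g = cls hgr (x ≫ η) (Subobject.factors_of_factors_right _ hη) from comp_cls hgr _ _ _ _,
      cls_eq_zero_iff]
    have hxd : (x ≫ S.arrow) ≫ K.obj.d n (n + 1) = 0 := by rw [assoc, hc, comp_zero]
    have hxη : x ≫ η = K.obj.liftCycles (x ≫ S.arrow) (n + 1) (by simp) hxd ≫ K.obj.homologyπ n := by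
      simp only [η, ← assoc, HomologicalComplex.comp_liftCycles]
    constructor
    · intro hx
      obtain ⟨W₁, π₁, hπ₁, w, hw⟩ := image_factors _ _ hx
      obtain ⟨W₂, π₂, hπ₂, c, hcc, e⟩ := (K.step (p + 1)).eq_liftCycles_homologyπ_up_to_refinements w (n + 1) (by simp)
      have hcd : (c ≫ I K (p + 1) n) ≫ K.obj.d n (n + 1) = 0 := by
        rw [assoc, I_d, reassoc_of% hcc, zero_comp]
      have e1 : (π₂ ≫ π₁) ≫ x ≫ η = K.obj.liftCycles (c ≫ I K (p + 1) n) (n + 1) (by simp) hcd ≫ K.obj.homologyπ n := by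
        rw [assoc, hw, reassoc_of% e, hmap (p + 1) c hcc _ hcd rfl]
      rw [hxη, ← assoc, HomologicalComplex.comp_liftCycles,
        HomologicalComplex.liftCycles_comp_homologyπ_eq_iff_up_to_refinements K.obj (n - 1) n (n + 1) (by simp) (by simp)] at e1
      obtain ⟨W₃, π₃, hπ₃, y, hy⟩ := e1
      haveI : Epi (π₃ ≫ π₂ ≫ π₁) := epi_comp' inferInstance (epi_comp _ _)
      refine factors_of_epi _ (π₃ ≫ π₂ ≫ π₁) _ ?_
      simp only [assoc] at hy ⊢
      have hxF : (K.filX p n).Factors (π₃ ≫ π₂ ≫ π₁ ≫ x ≫ S.arrow) :=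
        Subobject.factors_of_factors_right _ (Subobject.factors_of_factors_right _ (Subobject.factors_of_factors_right _
          (Subobject.factors_of_factors_right _ hS₁)))
      have hcF : (K.filX p n).Factors (π₃ ≫ c ≫ I K (p + 1) n) :=
        Subobject.factors_of_factors_right _ (filX_factors_I K (by omega) c)
      have hyF : (K.filX p n).Factors (y ≫ K.obj.d (n - 1) n) := by
        have := factors_sub hxF hcF
        rwa [hy, add_sub_cancel_left] at this
      rw [hy]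
      exact Subobject.factors_add _ _ (Subobject.factors_of_le _ le_sup_right
        (Subobject.factors_of_factors_right _ (filX_factors_I K le_rfl c)))
        (Subobject.factors_of_le _ le_sup_left ((Subobject.inf_factors _).2 ⟨hyF, factors_image _ _⟩))
    · intro hx
      obtain ⟨W₁, π₁, hπ₁, s, t, hs, ht, e⟩ := sup_refine _ hx
      obtain ⟨W₂, π₂, hπ₂, y, hy⟩ := image_factors _ _ ((Subobject.inf_factors _).1 hs).2
      obtain ⟨t', ht'⟩ := (filX_factors K _).1 ht
      have htd : t ≫ K.obj.d n (n + 1) = 0 := by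
        have h1 : (π₂ ≫ π₁ ≫ x ≫ S.arrow) ≫ K.obj.d n (n + 1) = 0 := by simp [hc]
        rw [e, Preadditive.comp_add, hy, Preadditive.add_comp, assoc, HomologicalComplex.d_comp_d, comp_zero,
          zero_add, assoc] at h1
        exact (cancel_epi π₂).1 (h1.trans comp_zero.symm)
      haveI : Epi (π₂ ≫ π₁) := epi_comp _ _
      refine factors_of_epi _ (π₂ ≫ π₁) _ ?_
      have htc := cycle_of_comp K t' (by rw [reassoc_of% ht', htd])
      have e2 : (π₂ ≫ π₁) ≫ x ≫ η = π₂ ≫ (K.step (p + 1)).liftCycles t' (n + 1) (by simp) htc ≫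
          (K.step (p + 1)).homologyπ n ≫ HomologicalComplex.homologyMap (K.fil (p + 1)).arrow n := by
        rw [hmap (p + 1) t' htc t htd ht', hxη, ← assoc, ← assoc π₂, HomologicalComplex.comp_liftCycles,
          HomologicalComplex.comp_liftCycles,
          HomologicalComplex.liftCycles_comp_homologyπ_eq_iff_up_to_refinements K.obj (n - 1) n (n + 1) (by simp) (by simp)]
        refine ⟨W₂, 𝟙 _, inferInstance, y, ?_⟩
        simp only [Category.id_comp, assoc, e, Preadditive.comp_add, hy]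
        abel
      rw [e2, ← assoc, ← assoc]
      exact factors_image _ _
  haveI : Epi (q hB S le_sup_left) := epi_q hB S le_sup_left (sup_le le_sup_left (le_sup_of_le_right le_sup_right))
  have hq : ∀ {W : A} (x : W ⟶ (S : A)), x ≫ q hB S le_sup_left = 0 ↔ (K.BBot p n).Factors (x ≫ S.arrow) := by
    intro W x
    rw [q, comp_cls _ _ _ _ (Subobject.factors_of_le _ le_sup_left (Subobject.factors_comp_arrow _)), cls_eq_zero_iff]
  exact nonempty_iso_of_epi (q hB S le_sup_left) g (fun x hx => (key x).2 ((hq x).1 hx))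
    (fun x hx => (hq x).2 ((key x).1 hx))

section Serre

variable (P : ObjectProperty A) [P.IsClosedUnderIsomorphisms]
  (hP : ∀ S : ComposableArrows A 4, S.Exact → P (S.obj 0) → P (S.obj 1) → P (S.obj 3) → P (S.obj 4) → P (S.obj 2))

include hP

lemma mid {X₀ X₁ X₂ X₃ X₄ : A} (f₁ : X₀ ⟶ X₁) (f₂ : X₁ ⟶ X₂) (f₃ : X₂ ⟶ X₃) (f₄ : X₃ ⟶ X₄)
    (w₁ : f₁ ≫ f₂ = 0) (w₂ : f₂ ≫ f₃ = 0) (w₃ : f₃ ≫ f₄ = 0)
    (e₁ : (ShortComplex.mk _ _ w₁).Exact) (e₂ : (ShortComplex.mk _ _ w₂).Exact) (e₃ : (ShortComplex.mk _ _ w₃).Exact)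
    (p₀ : P X₀) (p₁ : P X₁) (p₃ : P X₃) (p₄ : P X₄) : P X₂ :=
  hP (ComposableArrows.mk₄ f₁ f₂ f₃ f₄)
    (ComposableArrows.exact_of_δ₀ (ComposableArrows.exact₂_mk _ w₁ e₁)
      (ComposableArrows.exact_of_δ₀ (ComposableArrows.exact₂_mk _ w₂ e₂) (ComposableArrows.exact₂_mk _ w₃ e₃)))
    p₀ p₁ p₃ p₄

variable {Z : A} (hZ : IsZero Z) (pZ : P Z)

include hZ pZ

lemma prop_kernel {X Y : A} (f : X ⟶ Y) (hX : P X) (hY : P Y) : P (kernel f) := by
  refine mid P hP (0 : Z ⟶ Z) (0 : Z ⟶ kernel f) (kernel.ι f) f (by simp) (by simp) (kernel.condition f)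
    (ShortComplex.exact_of_isZero_X₂ _ hZ) ?_ (ShortComplex.exact_of_f_is_kernel _ (kernelIsKernel f)) pZ pZ hX hY
  exact (ShortComplex.exact_iff_mono _ (by simp)).2 inferInstance

lemma prop_cokernel {X Y : A} (f : X ⟶ Y) (hX : P X) (hY : P Y) : P (cokernel f) := by
  refine mid P hP f (cokernel.π f) (0 : cokernel f ⟶ Z) (0 : Z ⟶ Z) (cokernel.condition f) (by simp) (by simp)
    (ShortComplex.exact_of_g_is_cokernel _ (cokernelIsCokernel f)) ?_ (ShortComplex.exact_of_isZero_X₂ _ hZ) hX hY pZ pZ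
  exact (ShortComplex.exact_iff_epi _ (by simp)).2 inferInstance

lemma prop_ext (S : ShortComplex A) (hS : S.ShortExact) (h₁ : P S.X₁) (h₃ : P S.X₃) : P S.X₂ := by
  haveI := hS.mono_f; haveI := hS.epi_g
  refine mid P hP (0 : Z ⟶ S.X₁) S.f S.g (0 : S.X₃ ⟶ Z) (by simp) S.zero (by simp)
    ?_ hS.exact ?_ pZ h₁ h₃ pZ
  · exact (ShortComplex.exact_iff_mono _ (by simp)).2 (inferInstanceAs (Mono S.f))
  · exact (ShortComplex.exact_iff_epi _ (by simp)).2 (inferInstanceAs (Epi S.g))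

lemma prop_homology (S : ShortComplex A) (h₁ : P S.X₁) (h₂ : P S.X₂) (h₃ : P S.X₃) : P S.homology := by
  have hc : P S.cycles := P.prop_of_iso S.cyclesIsoKernel.symm (prop_kernel P hP hZ pZ S.g h₂ h₃)
  exact P.prop_of_iso ((cokernelIsCokernel S.toCycles).coconePointUniqueUpToIso S.homologyIsCokernel)
    (prop_cokernel P hP hZ pZ S.toCycles h₁ hc)

end Serre

theorem main (hK : ∀ n : ℤ, (K.XFil n).IsFinite) (P : ObjectProperty A) [P.IsClosedUnderIsomorphisms]
    (h0 : ∃ Z : A, IsZero Z ∧ P Z)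
    (hP : ∀ S : ComposableArrows A 4, S.Exact → P (S.obj 0) → P (S.obj 1) → P (S.obj 3) → P (S.obj 4) → P (S.obj 2))
    (r : ℕ) (hr : ∀ p n : ℤ, P (K.E r p n)) (n : ℤ) : P (K.obj.homology n) := by
  obtain ⟨Z, hZ, pZ⟩ := h0
  have hpages : ∀ k : ℕ, ∀ p n : ℤ, P (K.E (r + k) p n) := by
    intro k
    induction k with
    | zero => exact hr
    | succ k ih =>
      intro p n
      obtain ⟨e⟩ := nonempty_iso_homology K (r + k) p n (p - (r + k : ℕ)) (n - 1) (p + (r + k : ℕ)) (n + 1)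
        (by omega) (by omega) rfl rfl
      exact P.prop_of_iso e.symm (prop_homology P hP hZ pZ _ (ih _ _) (ih _ _) (ih _ _))
  obtain ⟨-, hfin, -⟩ := Groth.Agent.S6792.result K hK
  obtain ⟨⟨a, ha⟩, ⟨b, hb⟩⟩ := hfin n
  have hgr : ∀ p, P ((K.HFil n).gr p) := by
    intro p
    obtain ⟨b', hb'⟩ := (hK (n + 1)).2
    obtain ⟨a', ha'⟩ := (hK (n - 1)).1
    let k := max (b' - p).toNat (p + 1 - a').toNat
    have hZT : K.ZSub (r + k) p n = K.ZTop p n := by
      have hpb : ∀ {X Y : A} (g : X ⟶ Y), (Subobject.pullback g).obj ⊥ = kernelSubobject g := by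
        intro X Y g
        refine le_antisymm (le_kernelSubobject _ _ ?_) (kernelSubobject_le_pullback g ⊥)
        rw [← (Subobject.isPullback g ⊥).w, Subobject.bot_arrow, Limits.comp_zero]
      have : K.filX (p + ((r + k : ℕ) : ℤ)) (n + 1) = ⊥ :=
        le_bot_iff.1 ((K.filX_anti (n + 1) (show b' ≤ _ by omega)).trans hb'.le)
      rw [FilCx.ZSub, FilCx.ZTop, this, hpb]
    have hBB : K.BSub (r + k) p n = K.BBot p n := by
      have : K.filX (p - ((r + k : ℕ) : ℤ) + 1) (n - 1) = ⊤ :=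
        top_le_iff.1 (ha'.ge.trans (K.filX_anti (n - 1) (by omega)))
      have e : ∀ S : Subobject (K.obj.X (n - 1)), S = ⊤ →
          imageSubobject (S.arrow ≫ K.obj.d (n - 1) n) = imageSubobject (K.obj.d (n - 1) n) := by
        rintro S rfl
        exact imageSubobject_iso_comp _ _
      rw [FilCx.BSub, FilCx.BBot, e _ this]
    have hB : K.BBot p n ≤ K.ZTop p n := by rw [← hBB, ← hZT]; exact K.BSub_le_ZSub _ p n
    obtain ⟨e⟩ := nonempty_iso_gr K p n hB
    refine P.prop_of_iso e ?_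
    have key : ∀ {Z' B' : Subobject (K.obj.X n)} (_ : K.ZSub (r + k) p n = Z') (_ : K.BSub (r + k) p n = B')
        (h' : B' ≤ Z'), P (subquot Z' B' h') := by
      rintro _ _ rfl rfl h'
      exact hpages k p n
    exact key hZT hBB hB
  have hstep : ∀ j : ℕ, P ((K.HFil n).step (b - j)) := by
    intro j
    induction j with
    | zero =>
      have hz : IsZero ((K.HFil n).step (b - ((0 : ℕ) : ℤ))) := by
        show IsZero ((K.HFil n).fil (b - ((0 : ℕ) : ℤ)) : A)
        rw [Nat.cast_zero, sub_zero, hb]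
        exact IsZero.of_mono_eq_zero _ Subobject.bot_arrow
      exact P.prop_of_iso (hZ.iso hz) pZ
    | succ j ih =>
      have hle : (K.HFil n).fil (b - ((j + 1 : ℕ) : ℤ) + 1) ≤ (K.HFil n).fil (b - ((j + 1 : ℕ) : ℤ)) :=
        (K.HFil n).anti (Int.le_add_one le_rfl)
      refine prop_ext P hP hZ pZ (ShortComplex.mk (Subobject.ofLE _ _ hle) (cokernel.π _) (cokernel.condition _))
        { exact := ShortComplex.exact_of_g_is_cokernel _ (cokernelIsCokernel _)
          mono_f := inferInstanceAs (Mono (Subobject.ofLE _ _ hle))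
          epi_g := inferInstanceAs (Epi (cokernel.π (Subobject.ofLE _ _ hle))) } ?_ (hgr _)
      show P ((K.HFil n).step (b - ((j + 1 : ℕ) : ℤ) + 1))
      rwa [show b - ((j + 1 : ℕ) : ℤ) + 1 = b - (j : ℤ) by push_cast; omega]
  have htop : (K.HFil n).fil (b - ((b - a).toNat : ℕ)) = ⊤ :=
    top_le_iff.1 (ha.ge.trans ((K.HFil n).anti (by omega)))
  exact P.prop_of_iso (@asIso _ _ _ _ _ ((Subobject.isIso_arrow_iff_eq_top _).2 htop)) (hstep (b - a).toNat)

end Groth.Agent.H9Misc.FilCxWeakSerre
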