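import Groth.Prelude.Def_SpSeq
import Groth.Agent.TriCat.KInjRes
import Mathlib.CategoryTheory.Adjunction.Evaluation
import Mathlib.CategoryTheory.Abelian.GrothendieckAxioms.FunctorCategory
import Mathlib.CategoryTheory.Generator.Presheaf
import Mathlib.CategoryTheory.Preadditive.Injective.Basic
import Mathlib.Algebra.Homology.HomotopyCategory.DegreewiseSplit
import Mathlib.CategoryTheory.Adjunction.Additive
import Mathlib.CategoryTheory.Abelian.Exact

/-! Filtered K-injective resolutions through diagrams indexed by `WithTop ℤ`. -/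

universe v u v' u'

open CategoryTheory Category Limits Opposite HomologicalComplex

namespace Groth.Agent.H9Misc.FilKInj

section Split

variable {A : Type u} [Category.{v} A] [Abelian A]

lemma kInjective_X₁ (S : ShortComplex (CochainComplex A ℤ))
    (σ : ∀ n, (S.map (HomologicalComplex.eval A _ n)).Splitting)
    [S.X₂.IsKInjective] [S.X₃.IsKInjective] : S.X₁.IsKInjective := by
  rw [CochainComplex.isKInjective_iff_rightOrthogonal]
  exact ObjectProperty.ext_of_isTriangulatedClosed₁ _
    (CochainComplex.trianglehOfDegreewiseSplit S σ)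
    ((HomotopyCategory.distinguished_iff_iso_trianglehOfDegreewiseSplit _).2 ⟨S, σ, ⟨Iso.refl _⟩⟩)
    (CochainComplex.IsKInjective.rightOrthogonal S.X₂)
    (CochainComplex.IsKInjective.rightOrthogonal S.X₃)

lemma kInjective_X₃ (S : ShortComplex (CochainComplex A ℤ))
    (σ : ∀ n, (S.map (HomologicalComplex.eval A _ n)).Splitting)
    [S.X₁.IsKInjective] [S.X₂.IsKInjective] : S.X₃.IsKInjective := by
  rw [CochainComplex.isKInjective_iff_rightOrthogonal]
  exact ObjectProperty.ext_of_isTriangulatedClosed₃ _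
    (CochainComplex.trianglehOfDegreewiseSplit S σ)
    ((HomotopyCategory.distinguished_iff_iso_trianglehOfDegreewiseSplit _).2 ⟨S, σ, ⟨Iso.refl _⟩⟩)
    (CochainComplex.IsKInjective.rightOrthogonal S.X₁)
    (CochainComplex.IsKInjective.rightOrthogonal S.X₂)

/-- The cokernel of a mono between good complexes is good. -/
lemma good_cokernel {K L : CochainComplex A ℤ} (i : K ⟶ L) [Mono i] [K.IsKInjective]
    [L.IsKInjective] (hK : ∀ n, Injective (K.X n)) (hL : ∀ n, Injective (L.X n)) :
    (cokernel i).IsKInjective ∧ ∀ n, Injective ((cokernel i).X n) := by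
  let S := ShortComplex.mk i (cokernel.π i) (cokernel.condition i)
  have hS : S.ShortExact := { exact := ShortComplex.exact_cokernel i }
  have hSn : ∀ n, (S.map (HomologicalComplex.eval A _ n)).ShortExact :=
    fun n => hS.map_of_exact _
  let σ : ∀ n, (S.map (HomologicalComplex.eval A _ n)).Splitting := fun n =>
    have : Injective (S.map (HomologicalComplex.eval A _ n)).X₁ := hK n
    (hSn n).splittingOfInjective
  have : S.X₁.IsKInjective := ‹_›
  have : S.X₂.IsKInjective := ‹_›
  exact ⟨kInjective_X₃ S σ, fun n =>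
    @Retract.injective _ _ _ _
      { i := (σ n).s, r := (cokernel.π i).f n, retract := (σ n).s_g } (hL n)⟩

/-- The kernel of a degreewise split epi between good complexes is good. -/
lemma good_kernel {K L : CochainComplex A ℤ} (p : K ⟶ L) [K.IsKInjective]
    [L.IsKInjective] (hK : ∀ n, Injective (K.X n)) (hp : ∀ n, IsSplitEpi (p.f n)) :
    (kernel p).IsKInjective ∧ ∀ n, Injective ((kernel p).X n) := by
  let S := ShortComplex.mk (kernel.ι p) p (kernel.condition p)
  have : Epi p := HomologicalComplex.epi_of_epi_f p fun n => by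
    have := hp n; infer_instance
  have hS : S.ShortExact := { exact := ShortComplex.exact_kernel p }
  have hSn : ∀ n, (S.map (HomologicalComplex.eval A _ n)).ShortExact :=
    fun n => hS.map_of_exact _
  let σ : ∀ n, (S.map (HomologicalComplex.eval A _ n)).Splitting := fun n =>
    ShortComplex.Splitting.ofExactOfSection _ (hSn n).exact (hp n).exists_splitEpi.some.section_
      (hp n).exists_splitEpi.some.id (hSn n).mono_f
  have : S.X₂.IsKInjective := ‹_›
  have : S.X₃.IsKInjective := ‹_›
  exact ⟨kInjective_X₁ S σ, fun n => @Retract.injective _ _ _ _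
      { i := (kernel.ι p).f n, r := (σ n).r, retract := (σ n).f_r } (hK n)⟩

lemma quasiIso_τ₁ {S₁ S₂ : ShortComplex (CochainComplex A ℤ)} (φ : S₁ ⟶ S₂)
    (h₁ : S₁.ShortExact) (h₂ : S₂.ShortExact) (q₂ : QuasiIso φ.τ₂) (q₃ : QuasiIso φ.τ₃) :
    QuasiIso φ.τ₁ := by
  rw [quasiIso_iff]
  intro i
  rw [quasiIsoAt_iff_isIso_homologyMap]
  show IsIso (ComposableArrows.app' ((ComposableArrows.δ₀Functor).map
    (HomologySequence.mapComposableArrows₅ φ h₁ h₂ (i - 1) i (by simp))) 2)
  refine Abelian.isIso_of_epi_of_isIso_of_isIso_of_mono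
    (HomologySequence.composableArrows₅_exact h₁ (i - 1) i (by simp)).δ₀
    (HomologySequence.composableArrows₅_exact h₂ (i - 1) i (by simp)).δ₀ _ ?_ ?_ ?_ ?_
  · show Epi (homologyMap φ.τ₂ (i - 1)); infer_instance
  · show IsIso (homologyMap φ.τ₃ (i - 1)); infer_instance
  · show IsIso (homologyMap φ.τ₂ i); infer_instance
  · show Mono (homologyMap φ.τ₃ i); infer_instance

end Split

section Eval

variable {A : Type u} [Category.{v} A] [Abelian A] [IsGrothendieckAbelian.{v} A]
variable {T : Type v} [SmallCategory T] [Quiver.IsThin T]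

@[reassoc]
lemma ι_map (c : T) (X : A) {t t' : T} (h : c ⟶ t) (q : t ⟶ t') :
    Sigma.ι (fun _ : c ⟶ t => X) h ≫ ((evaluationLeftAdjoint A c).obj X).map q =
      Sigma.ι (fun _ : c ⟶ t' => X) (h ≫ q) :=
  Sigma.ι_desc _ _

instance (c : T) : (evaluationLeftAdjoint A c).Additive := (evaluationAdjunctionRight A c).left_adjoint_additive

instance (c : T) : PreservesColimitsOfSize.{0, 0} (evaluationLeftAdjoint A c) :=
  (evaluationAdjunctionRight A c).leftAdjoint_preservesColimits

lemma mono_evaluationLeftAdjoint (c : T) {X Y : A} (f : X ⟶ Y) [Mono f] :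
    Mono ((evaluationLeftAdjoint A c).map f) := by
  have : ∀ t, Mono (((evaluationLeftAdjoint A c).map f).app t) := fun t => by
    show Mono (Sigma.desc fun h => f ≫ Sigma.ι (fun _ : c ⟶ t => Y) h)
    by_cases h : Nonempty (c ⟶ t)
    · obtain ⟨h⟩ := h
      refine ⟨fun {Z} a b e => ?_⟩
      have key : ∀ a : Z ⟶ ∐ fun _ : c ⟶ t => X,
          a = (a ≫ Sigma.desc fun _ => 𝟙 X) ≫ Sigma.ι (fun _ : c ⟶ t => X) h := fun a => by
        have : (Sigma.desc fun _ => 𝟙 X) ≫ Sigma.ι (fun _ : c ⟶ t => X) h = 𝟙 _ := by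
          refine Sigma.hom_ext _ _ fun k => ?_
          obtain rfl := Subsingleton.elim k h
          rw [Sigma.ι_desc_assoc, id_comp, comp_id]
        rw [assoc, this, comp_id]
      rw [key a, key b] at e ⊢
      congr 1
      rw [← cancel_mono f]
      simpa using congrArg (· ≫ Sigma.desc fun _ => 𝟙 Y) e
    · have : IsZero (∐ fun _ : c ⟶ t => X) := (IsZero.iff_id_eq_zero _).2
        (Sigma.hom_ext _ _ fun k => absurd ⟨k⟩ h)
      exact this.mono _
  exact NatTrans.mono_of_mono_app _

instance (c : T) : (evaluationLeftAdjoint A c).PreservesMonomorphisms :=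
  ⟨fun f _ => mono_evaluationLeftAdjoint c f⟩

lemma injective_eval (c : T) (J : T ⥤ A) [Injective J] : Injective (J.obj c) :=
  (evaluationAdjunctionRight A c).map_injective J ‹_›

lemma isSplitEpi_map (J : T ⥤ A) [Injective J] {x y : T} (f : x ⟶ y) : IsSplitEpi (J.map f) := by
  let X := J.obj y
  let Gy := (evaluationLeftAdjoint A y).obj X
  let Gx := (evaluationLeftAdjoint A x).obj X
  let g : Gy ⟶ Gx :=
    { app := fun t => Sigma.desc fun h => Sigma.ι (fun _ : x ⟶ t => X) (f ≫ h)
      naturality := fun t t' q => Sigma.hom_ext _ _ fun h => by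
        refine (ι_map_assoc y X h q _).trans ((Sigma.ι_desc _ _).trans ?_)
        refine Eq.trans ?_ ((reassoc_of% (Sigma.ι_desc (fun h => Sigma.ι (fun _ : x ⟶ t => X) (f ≫ h)) h)) _).symm
        exact (congrArg _ (Category.assoc f h q).symm).trans (ι_map x X (f ≫ h) q).symm }
  have : ∀ t, Mono (g.app t) := fun t => by
    classical
    let r : Gx.obj t ⟶ Gy.obj t := Sigma.desc fun _ =>
      if h : Nonempty (y ⟶ t) then Sigma.ι (fun _ : y ⟶ t => X) h.some else 0
    have hr : g.app t ≫ r = 𝟙 _ := Sigma.hom_ext _ _ fun h => by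
      refine ((reassoc_of% (Sigma.ι_desc (fun h => Sigma.ι (fun _ : x ⟶ t => X) (f ≫ h)) h)) _).trans
        ((Sigma.ι_desc _ _).trans ?_)
      rw [dif_pos (Nonempty.intro h)]
      exact (congrArg _ (Subsingleton.elim _ _)).trans (comp_id _).symm
    exact mono_of_mono_fac hr
  have : Mono g := NatTrans.mono_of_mono_app g
  let a : Gy ⟶ J := { app := fun t => Sigma.desc fun h => J.map h
                      naturality := fun t t' q => Sigma.hom_ext _ _ fun h =>
                        (ι_map_assoc y X h q _).trans ((Sigma.ι_desc _ _).trans ((J.map_comp h q).trans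
                          ((reassoc_of% (Sigma.ι_desc (fun h => J.map h) h)) _).symm)) }
  let b : Gx ⟶ J := Injective.factorThru a g
  refine IsSplitEpi.mk' ⟨Sigma.ι (fun _ : x ⟶ x => X) (𝟙 x) ≫ b.app x, ?_⟩
  have e := congrArg (fun φ => Sigma.ι (fun _ : y ⟶ y => X) (𝟙 y) ≫ NatTrans.app φ y)
    (Injective.comp_factorThru a g)
  have e₁ : Sigma.ι (fun _ : y ⟶ y => X) (𝟙 y) ≫ a.app y = J.map (𝟙 y) := Sigma.ι_desc _ _
  have e₂ : Sigma.ι (fun _ : y ⟶ y => X) (𝟙 y) ≫ g.app y ≫ b.app y =
      Sigma.ι (fun _ : x ⟶ y => X) f ≫ b.app y :=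
    (reassoc_of% (Sigma.ι_desc (fun h => Sigma.ι (fun _ : x ⟶ y => X) (f ≫ h)) (𝟙 y))) _
  refine (Category.assoc _ _ _).trans ?_
  refine Eq.trans (congrArg (Sigma.ι (fun _ : x ⟶ x => X) (𝟙 x) ≫ ·) (b.naturality f).symm) ?_
  refine (ι_map_assoc x X (𝟙 x) f _).trans ?_
  rw [id_comp]
  exact e₂.symm.trans (e.trans (e₁.trans (J.map_id y)))

lemma kInjective_rightAdjoint {B : Type u'} [Category.{v'} B] [Abelian B]
    (G : B ⥤ A) (F : A ⥤ B) (adj : F ⊣ G) [G.Additive] [F.Additive] [F.PreservesHomology]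
    (I : CochainComplex B ℤ) (h : I.IsKInjective) :
    CochainComplex.IsKInjective ((G.mapHomologicalComplex (ComplexShape.up ℤ)).obj I) := by
  refine ⟨fun {K} f hK => ?_⟩
  have hFK : ((F.mapHomologicalComplex (ComplexShape.up ℤ)).obj K).Acyclic := fun i => by
    rw [HomologicalComplex.exactAt_iff]
    exact ((HomologicalComplex.exactAt_iff _ _).1 (hK i)).map F
  let g : (F.mapHomologicalComplex (ComplexShape.up ℤ)).obj K ⟶ I :=
    (F.mapHomologicalComplex _).map f ≫
      { f := fun i => adj.counit.app (I.X i)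
        comm' := fun i j _ => (adj.counit.naturality (I.d i j)).symm }
  obtain ⟨h⟩ := h.nonempty_homotopy_zero g hFK
  refine ⟨{ hom := fun i j => adj.homEquiv (K.X i) (I.X j) (h.hom i j)
            zero := fun i j hij => by
              rw [h.zero i j hij]; erw [Adjunction.homEquiv_unit, G.map_zero, comp_zero]; rfl
            comm := fun i => ?_ }⟩
  have e : adj.homEquiv (K.X i) (I.X i) (g.f i) = f.f i := by
    change adj.homEquiv _ _ (F.map (f.f i) ≫ adj.counit.app (I.X i)) = _
    exact (congrArg (adj.homEquiv (K.X i) (I.X i)) (Adjunction.homEquiv_counit ..).symm).trans (Equiv.apply_symm_apply _ _)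
  rw [← e, h.comm i, HomologicalComplex.zero_f, HomologicalComplex.zero_f, add_zero, add_zero]
  erw [dNext_eq _ (show (ComplexShape.up ℤ).Rel i (i + 1) by simp),
    dNext_eq _ (show (ComplexShape.up ℤ).Rel i (i + 1) by simp),
    prevD_eq _ (show (ComplexShape.up ℤ).Rel (i - 1) i by simp),
    prevD_eq _ (show (ComplexShape.up ℤ).Rel (i - 1) i by simp)]
  change adj.homEquiv _ _ (F.map (K.d i (i + 1)) ≫ h.hom (i + 1) i + (show F.obj (K.X i) ⟶ I.X (i - 1) from h.hom i (i - 1)) ≫ I.d (i - 1) i) = _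
  erw [Adjunction.homEquiv_unit, Functor.map_add, Preadditive.comp_add]
  congr 1
  · exact (Adjunction.homEquiv_unit ..).symm.trans (adj.homEquiv_naturality_left _ _)
  · exact (Adjunction.homEquiv_unit ..).symm.trans (adj.homEquiv_naturality_right _ _)

lemma preservesHomology_evaluationLeftAdjoint (c : T) :
    (evaluationLeftAdjoint A c).PreservesHomology :=
  Functor.preservesHomology_of_preservesMonos_and_cokernels _

end Eval


section Main

variable {A : Type u} [Category.{v} A] [Abelian A] [IsGrothendieckAbelian.{v} A]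

/-- The index category. -/
abbrev Idx : Type v := (ULift.{v} (WithTop ℤ))ᵒᵖ

instance : IsGrothendieckAbelian.{v} (Idx.{v} ⥤ A) where
  ab5OfSize := ⟨fun J _ _ => inferInstance⟩

/-- The top index. -/
abbrev top : Idx.{v} := op ⟨⊤⟩

/-- The finite indices. -/
abbrev idx (p : ℤ) : Idx.{v} := op ⟨(p : WithTop ℤ)⟩

/-- The projection. -/
def toIdx (p : ℤ) : (top : Idx.{v}) ⟶ idx p := (homOfLE (show (⟨(p : WithTop ℤ)⟩ : ULift.{v} (WithTop ℤ)) ≤ ⟨⊤⟩ from le_top (a := (p : WithTop ℤ)))).op

lemma injective_cokernel {X Y : A} (i : X ⟶ Y) [Mono i] [Injective X] [Injective Y] :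
    Injective (cokernel i) :=
  have hS : (ShortComplex.mk i (cokernel.π i) (cokernel.condition i)).ShortExact :=
    { exact := ShortComplex.exact_cokernel i }
  have : Injective (ShortComplex.mk i (cokernel.π i) (cokernel.condition i)).X₁ := ‹Injective X›
  Retract.injective (Y := Y)
    { i := hS.splittingOfInjective.s, r := cokernel.π i, retract := hS.splittingOfInjective.s_g }

variable (K : SpSeq.FilCx A)

/-- The filtration extended by `⊥` at infinity. -/
noncomputable def S : WithTop ℤ → Subobject K.obj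
  | (p : ℤ) => K.fil p
  | ⊤ => ⊥

lemma S_anti : Antitone (S K)
  | ⊤, ⊤, _ => le_rfl
  | ⊤, (q : ℤ), h => absurd h (not_le.2 (WithTop.coe_lt_top q))
  | (p : ℤ), ⊤, _ => (bot_le : (⊥ : Subobject K.obj) ≤ _)
  | (p : ℤ), (q : ℤ), h => K.anti (WithTop.coe_le_coe.1 h)

/-- The quotient diagram. -/
noncomputable def quotDiag : Idx.{v} ⥤ CochainComplex A ℤ where
  obj x := cokernel (S K x.unop.down).arrow
  map {x y} f := cokernel.desc _ (cokernel.π _) (by
    rw [← Subobject.ofLE_arrow (S_anti K (show y.unop.down ≤ x.unop.down from (leOfHom f.unop : y.unop ≤ x.unop))),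
      assoc, cokernel.condition, comp_zero])
  map_id x := coequalizer.hom_ext (by simp)
  map_comp f g := coequalizer.hom_ext (by simp)

/-- The quotient diagram as a complex of diagrams. -/
noncomputable def quotCx : CochainComplex (Idx.{v} ⥤ A) ℤ where
  X n := quotDiag K ⋙ HomologicalComplex.eval A _ n
  d i j := { app := fun t => ((quotDiag K).obj t).d i j
             naturality := fun t t' f => ((quotDiag K).map f).comm i j }
  shape i j h := by ext t; exact ((quotDiag K).obj t).shape i j h
  d_comp_d' i j k _ _ := by ext t; exact ((quotDiag K).obj t).d_comp_d i j k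

variable {J' : CochainComplex (Idx.{v} ⥤ A) ℤ}

/-- Evaluation of a complex of diagrams. -/
noncomputable abbrev ev (J' : CochainComplex (Idx.{v} ⥤ A) ℤ) (t : Idx.{v}) : CochainComplex A ℤ :=
  (((evaluation Idx.{v} A).obj t).mapHomologicalComplex (ComplexShape.up ℤ)).obj J'

/-- Transition maps. -/
noncomputable def evMap (J' : CochainComplex (Idx.{v} ⥤ A) ℤ) {t t' : Idx.{v}} (f : t ⟶ t') :
    ev J' t ⟶ ev J' t' where
  f n := (J'.X n).map f
  comm' i j _ := ((J'.d i j).naturality f)

/-- Components of a map out of the quotient diagram. -/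
noncomputable def comp (j' : quotCx K ⟶ J') (t : Idx.{v}) : (quotDiag K).obj t ⟶ ev J' t :=
  (((evaluation Idx.{v} A).obj t).mapHomologicalComplex (ComplexShape.up ℤ)).map j'

lemma comp_natural (j' : quotCx K ⟶ J') {t t' : Idx.{v}} (f : t ⟶ t') :
    (quotDiag K).map f ≫ comp K j' t' = comp K j' t ≫ evMap J' f :=
  HomologicalComplex.hom_ext _ _ fun n => (j'.f n).naturality f

lemma quasiIso_comp (j' : quotCx K ⟶ J') [QuasiIso j'] (t : Idx.{v}) : QuasiIso (comp K j' t) :=
  inferInstanceAs (QuasiIso ((((evaluation Idx.{v} A).obj t).mapHomologicalComplex _).map j'))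

theorem main : ∃ (J : SpSeq.FilCx A) (j : K ⟶ J),
    (∀ n p : ℤ, Injective (J.obj.X n) ∧ Injective ((J.XFil n).step p) ∧ Injective ((J.XFil n).quot p) ∧
      ∀ (p' : ℤ) (h : p ≤ p'), Injective (cokernel ((J.XFil n).stepLE h))) ∧
    (CochainComplex.IsKInjective J.obj ∧ ∀ p : ℤ, CochainComplex.IsKInjective (J.step p) ∧
      CochainComplex.IsKInjective (J.quot p) ∧
      ∀ (p' : ℤ) (h : p ≤ p'), CochainComplex.IsKInjective (cokernel (J.stepLE h))) ∧
    QuasiIso j.hom ∧
    (∀ p : ℤ, ∃ jp : K.step p ⟶ J.step p, jp ≫ (J.fil p).arrow = (K.fil p).arrow ≫ j.hom ∧ QuasiIso jp ∧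
      (∀ (p' : ℤ) (h : p ≤ p'), ∃ (jp' : K.step p' ⟶ J.step p') (jg : cokernel (K.stepLE h) ⟶ cokernel (J.stepLE h)),
        jp' ≫ (J.fil p').arrow = (K.fil p').arrow ≫ j.hom ∧ jp' ≫ J.stepLE h = K.stepLE h ≫ jp ∧
        cokernel.π (K.stepLE h) ≫ jg = jp ≫ cokernel.π (J.stepLE h) ∧ QuasiIso jg)) ∧
    (∀ p : ℤ, ∃ jq : K.quot p ⟶ J.quot p,
      cokernel.π (K.fil p).arrow ≫ jq = j.hom ≫ cokernel.π (J.fil p).arrow ∧ QuasiIso jq) := by
  obtain ⟨J', j', hJ', hj', -, hinj⟩ := TriCat.exists_kInjective_resolution'.{v} (quotCx K)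
  have gK : ∀ t, (ev J' t).IsKInjective := fun t => by
    have := preservesHomology_evaluationLeftAdjoint (A := A) t
    exact kInjective_rightAdjoint _ _ (evaluationAdjunctionRight A t) J' hJ'
  have gI : ∀ t n, Injective ((ev J' t).X n) := fun t n => by
    have := hinj n
    exact injective_eval t (J'.X n)
  have gS : ∀ {t t' : Idx.{v}} (f : t ⟶ t') n, IsSplitEpi ((evMap J' f).f n) := fun f n => by
    have := hinj n
    exact isSplitEpi_map (J'.X n) f
  let J : SpSeq.FilCx A :=
    { obj := ev J' top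
      fil := fun p => Subobject.mk (kernel.ι (evMap J' (toIdx p)))
      anti := fun p q h => by
        let g : (idx q : Idx.{v}) ⟶ idx p :=
          (homOfLE (show (⟨(p : WithTop ℤ)⟩ : ULift.{v} (WithTop ℤ)) ≤ ⟨(q : WithTop ℤ)⟩ from WithTop.coe_le_coe.2 h)).op
        have e : evMap J' (toIdx q) ≫ evMap J' g = evMap J' (toIdx p) :=
          HomologicalComplex.hom_ext _ _ fun n =>
            ((J'.X n).map_comp _ _).symm.trans (congrArg (J'.X n).map (Subsingleton.elim _ _))
        refine Subobject.mk_le_mk_of_comm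
          (kernel.lift _ (kernel.ι (evMap J' (toIdx q))) ?_) (kernel.lift_ι _ _ _)
        rw [← e, kernel.condition_assoc, zero_comp] }
  have hsI : ∀ p n, Injective ((J.step p).X n) := fun p n =>
    @Injective.of_iso _ _ _ _ ((HomologicalComplex.eval A _ n).mapIso (Subobject.underlyingIso _).symm)
      ((have := gK top; have := gK (idx p); good_kernel (evMap J' (toIdx p)) (gI top) (gS _)).2 n)
  have hsK : ∀ p, (J.step p).IsKInjective := fun p => by
    have := gK top
    have := gK (idx p)
    have := (good_kernel (evMap J' (toIdx p)) (gI top) (gS _)).1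
    exact CochainComplex.isKInjective_of_iso (Subobject.underlyingIso _).symm
  have : J.obj.IsKInjective := gK top
  let jhom : K.obj ⟶ J.obj := cokernel.π (S K ⊤).arrow ≫ comp K j' top
  have hw : ∀ p, jhom ≫ evMap J' (toIdx p) = cokernel.π (K.fil p).arrow ≫ comp K j' (idx p) := fun p => by
    refine (assoc _ _ _).trans ((congrArg (cokernel.π (S K ⊤).arrow ≫ ·) (comp_natural K j' (toIdx p)).symm).trans ?_)
    exact (assoc _ _ _).symm.trans (congrArg (· ≫ comp K j' (idx p)) (cokernel.π_desc _ _ _))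
  obtain ⟨jp, hjp⟩ : ∃ jp : ∀ p, K.step p ⟶ J.step p, ∀ p, jp p ≫ (J.fil p).arrow = (K.fil p).arrow ≫ jhom := by
    refine ⟨fun p => kernel.lift (evMap J' (toIdx p)) ((K.fil p).arrow ≫ jhom) ?_
      ≫ (Subobject.underlyingIso _).inv, fun p => ?_⟩
    · exact ((assoc _ _ _).trans (congrArg ((K.fil p).arrow ≫ ·) (hw p))).trans
        ((assoc _ _ _).symm.trans ((congrArg (· ≫ comp K j' (idx p)) (cokernel.condition _)).trans zero_comp))
    · simp [J]
  have qtop : IsIso (cokernel.π (S K ⊤).arrow) := by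
    have h0 : (S K ⊤).arrow ≫ 𝟙 K.obj = 0 := (comp_id _).trans Subobject.bot_arrow
    have : Mono (cokernel.π (S K ⊤).arrow) :=
      mono_of_mono_fac (cokernel.π_desc (S K ⊤).arrow (𝟙 K.obj) h0)
    exact isIso_of_mono_of_epi _
  have qj : QuasiIso jhom := by
    have := quasiIso_comp K j' top
    have : QuasiIso (show K.obj ⟶ (quotDiag K).obj top from cokernel.π (S K ⊤).arrow) :=
      inferInstanceAs (QuasiIso (cokernel.π (S K ⊤).arrow))
    exact _root_.quasiIso_comp (show K.obj ⟶ (quotDiag K).obj top from cokernel.π (S K ⊤).arrow) (comp K j' top)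
  have qp : ∀ p, QuasiIso (jp p) := fun p => by
    have : Epi (evMap J' (toIdx p)) := HomologicalComplex.epi_of_epi_f _ fun n => by
      have := gS (toIdx p) n
      infer_instance
    let S₁ := ShortComplex.mk (K.fil p).arrow (cokernel.π (K.fil p).arrow) (cokernel.condition _)
    have z₂ : (J.fil p).arrow ≫ evMap J' (toIdx p) = 0 := by
      rw [← cancel_epi (Subobject.underlyingIso (kernel.ι (evMap J' (toIdx p)))).inv]
      simp [J]
    let S₂ := ShortComplex.mk (J.fil p).arrow (evMap J' (toIdx p)) z₂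
    have h₂ : S₂.ShortExact :=
      { exact := ShortComplex.exact_of_iso
          (show ShortComplex.mk (kernel.ι (evMap J' (toIdx p))) (evMap J' (toIdx p)) (kernel.condition _) ≅ S₂ from
            ShortComplex.isoMk (Subobject.underlyingIso _).symm (Iso.refl _) (Iso.refl _)
            (by simp [S₂, J]) (by simp [S₂]))
          (ShortComplex.exact_kernel (evMap J' (toIdx p)))
        mono_f := inferInstanceAs (Mono (J.fil p).arrow)
        epi_g := ‹_› }
    let φ : S₁ ⟶ S₂ := ⟨jp p, jhom, comp K j' (idx p), hjp p, hw p⟩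
    exact quasiIso_τ₁ φ { exact := ShortComplex.exact_cokernel _ } h₂ qj (quasiIso_comp K j' (idx p))
  refine ⟨J, ⟨jhom, fun p => ?_⟩, fun n p => ⟨gI top n, ?_⟩, ⟨‹_›, fun p => ⟨hsK p, ?_, fun p' h => ?_⟩⟩,
    qj, fun p => ⟨jp p, hjp p, qp p, fun p' h => ?_⟩, fun p => ?_⟩
  · exact Subobject.le_of_comm ((Subobject.isPullback jhom (J.fil p)).lift (jp p) (K.fil p).arrow (hjp p))
      ((Subobject.isPullback jhom (J.fil p)).lift_snd _ _ _)
  · have e : ∀ p, Injective ((J.XFil n).step p) := fun p =>
      @Injective.of_iso _ _ _ _ (Subobject.underlyingIso ((J.fil p).arrow.f n)).symm (hsI p n)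
    have := e p
    have : Injective (J.XFil n).obj := gI top n
    exact ⟨e p, injective_cokernel _, fun p' h => have := e p'; injective_cokernel _⟩
  · have := hsK p
    exact (good_cokernel (J.fil p).arrow (hsI p) (gI top)).1
  · have := hsK p
    have := hsK p'
    exact (good_cokernel (J.stepLE h) (hsI p') (hsI p)).1
  · have hsq : jp p' ≫ J.stepLE h = K.stepLE h ≫ jp p := by
      rw [← cancel_mono (J.fil p).arrow, assoc, assoc, Subobject.ofLE_arrow, hjp, hjp,
        Subobject.ofLE_arrow_assoc]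
    refine ⟨jp p', cokernel.map _ _ (jp p') (jp p) hsq.symm, hjp p', hsq, cokernel.π_desc _ _ _, ?_⟩
    let S₁ := ShortComplex.mk (K.stepLE h) (cokernel.π _) (cokernel.condition _)
    let S₂ := ShortComplex.mk (J.stepLE h) (cokernel.π _) (cokernel.condition _)
    let φ : S₁ ⟶ S₂ := ⟨jp p', jp p, cokernel.map _ _ (jp p') (jp p) hsq.symm, hsq, (cokernel.π_desc _ _ _).symm⟩
    exact HomologicalComplex.HomologySequence.quasiIso_τ₃ φ { exact := ShortComplex.exact_cokernel _ }
      { exact := ShortComplex.exact_cokernel _ } (qp p') (qp p)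
  · refine ⟨cokernel.map _ _ (jp p) jhom (hjp p).symm, cokernel.π_desc _ _ _, ?_⟩
    let S₁ := ShortComplex.mk (K.fil p).arrow (cokernel.π _) (cokernel.condition _)
    let S₂ := ShortComplex.mk (J.fil p).arrow (cokernel.π _) (cokernel.condition _)
    let φ : S₁ ⟶ S₂ := ⟨jp p, jhom, cokernel.map _ _ (jp p) jhom (hjp p).symm, hjp p, (cokernel.π_desc _ _ _).symm⟩
    exact HomologicalComplex.HomologySequence.quasiIso_τ₃ φ { exact := ShortComplex.exact_cokernel _ }
      { exact := ShortComplex.exact_cokernel _ } (qp p) qj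

end Main

end Groth.Agent.H9Misc.FilKInj
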