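import Groth.Prelude.Def_SpSeq
import Mathlib.Algebra.Homology.CommSq
import Mathlib.CategoryTheory.Abelian.Refinements
import Mathlib.CategoryTheory.Abelian.CommSq

/-! Pushouts and pullbacks of filtered objects. -/

universe v u

open CategoryTheory CategoryTheory.Category CategoryTheory.Limits SpSeq

namespace Groth.Agent.H9Misc.FilPushout

variable {A : Type u} [Category.{v} A] [Abelian A]

lemma le_pullback_iff {X Y : A} (f : X ⟶ Y) (S : Subobject X) (T : Subobject Y) :
    S ≤ (Subobject.pullback f).obj T ↔ T.Factors (S.arrow ≫ f) := by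
  rw [← Limits.pullback_factors_iff]
  exact ⟨fun h => Subobject.factors_of_le _ h (S.factors_self), Subobject.le_of_factors⟩

lemma imageSubobject_le_iff {X Y : A} (h : X ⟶ Y) (T : Subobject Y) :
    imageSubobject h ≤ T ↔ T.Factors h := by
  refine ⟨fun hle => Subobject.factors_of_le _ hle ?_, fun hF => imageSubobject_le _ (T.factorThru h hF) (by simp)⟩
  exact (Subobject.factors_iff _ _).2 ⟨factorThruImageSubobject h, imageSubobject_arrow_comp h⟩

lemma imageSubobject_factors {X Y : A} (h : X ⟶ Y) {Z : A} (k : Z ⟶ X) :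
    (imageSubobject h).Factors (k ≫ h) :=
  Subobject.factors_of_factors_right k ((imageSubobject_le_iff h _).1 le_rfl)

lemma exists_lift_image {X Y : A} (h : X ⟶ Y) {T : A} (x : T ⟶ Y) (hx : (imageSubobject h).Factors x) :
    ∃ (T' : A) (π : T' ⟶ T) (_ : Epi π) (y : T' ⟶ X), π ≫ x = y ≫ h := by
  haveI : Epi (factorThruImageSubobject h) := by unfold factorThruImageSubobject; exact epi_comp _ _
  obtain ⟨T', π, hπ, y, hy⟩ := surjective_up_to_refinements_of_epi (factorThruImageSubobject h)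
    ((imageSubobject h).factorThru x hx)
  refine ⟨T', π, hπ, y, ?_⟩
  conv_rhs => rw [← imageSubobject_arrow_comp h, ← assoc, ← hy, assoc, Subobject.factorThru_arrow]

lemma factors_mk {X Z : A} {T : Subobject X} {x : Z ⟶ X} (y : Z ⟶ (T : A)) (h : y ≫ T.arrow = x) : T.Factors x :=
  h ▸ Subobject.factors_comp_arrow y

/-- Membership can be tested after an epimorphism. -/
lemma factors_of_epi {X : A} (T : Subobject X) {Z Z' : A} (π : Z' ⟶ Z) [Epi π] (x : Z ⟶ X)
    (h : T.Factors (π ≫ x)) : T.Factors x := by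
  have : x ≫ cokernel.π T.arrow = 0 := by
    rw [← cancel_epi π, comp_zero, ← assoc, ← Subobject.factorThru_arrow _ _ h, assoc, cokernel.condition, comp_zero]
  exact factors_mk (Abelian.monoLift T.arrow x this) (Abelian.monoLift_comp _ _ _)

lemma fac_comp {K L : FilObj A} (f : K ⟶ L) {p : ℤ} {Z : A} (x : Z ⟶ K.obj) (hx : (K.fil p).Factors x) :
    (L.fil p).Factors (x ≫ f.hom) := by
  have := (le_pullback_iff f.hom _ _).1 (f.compat p)
  rw [← Subobject.factorThru_arrow _ _ hx, assoc]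
  exact Subobject.factors_of_factors_right _ this

lemma fac_arrow {K L : FilObj A} (f : K ⟶ L) (p : ℤ) : (L.fil p).Factors ((K.fil p).arrow ≫ f.hom) :=
  fac_comp f _ (K.fil p).factors_self

lemma strict_iff {K L : FilObj A} (f : K ⟶ L) :
    FilObj.IsStrict f ↔ ∀ (p : ℤ) (T : A) (x : T ⟶ K.obj), (L.fil p).Factors (x ≫ f.hom) →
      ∃ (T' : A) (π : T' ⟶ T) (_ : Epi π) (y : T' ⟶ K.obj), (K.fil p).Factors y ∧ π ≫ x ≫ f.hom = y ≫ f.hom := by
  constructor
  · intro hf p T x hx
    have h : (imageSubobject f.hom ⊓ L.fil p).Factors (x ≫ f.hom) :=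
      (Subobject.inf_factors _).2 ⟨imageSubobject_factors f.hom x, hx⟩
    rw [← hf p] at h
    obtain ⟨T', π, hπ, y, hy⟩ := exists_lift_image _ _ h
    exact ⟨T', π, hπ, y ≫ (K.fil p).arrow, Subobject.factors_comp_arrow _, by rw [hy, assoc]⟩
  · intro h p
    refine le_antisymm ?_ (Subobject.le_of_factors ?_)
    · rw [imageSubobject_le_iff]
      exact (Subobject.inf_factors _).2 ⟨imageSubobject_factors f.hom _, fac_arrow f p⟩
    · obtain ⟨h1, h2⟩ := (Subobject.inf_factors _).1 (imageSubobject f.hom ⊓ L.fil p).factors_self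
      obtain ⟨T₁, π₁, hπ₁, x, hx⟩ := exists_lift_image _ _ h1
      obtain ⟨T₂, π₂, hπ₂, y, hy, hxy⟩ := h p T₁ x (hx ▸ Subobject.factors_of_factors_right π₁ h2)
      refine factors_of_epi _ (π₂ ≫ π₁) _ ?_
      rw [assoc, hx, hxy, ← Subobject.factorThru_arrow _ _ hy, assoc]
      exact imageSubobject_factors _ _

/-- Underlying map of a composite. -/
lemma comp_hom {K L M : FilObj A} (f : K ⟶ L) (g : L ⟶ M) : (f ≫ g).hom = f.hom ≫ g.hom := rfl

lemma hom_ext' {K L : FilObj A} {f g : K ⟶ L} (h : f.hom = g.hom) : f = g := FilObj.Hom.ext h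

/-- Strictness passes along an isomorphism of the target. -/
lemma strict_comp_iso {K L L' : FilObj A} {f : K ⟶ L} (hf : FilObj.IsStrict f) (e : L ≅ L') :
    FilObj.IsStrict (f ≫ e.hom) := by
  rw [strict_iff] at hf ⊢
  intro p T x hx
  have := fac_comp e.inv _ hx
  rw [assoc, ← comp_hom, assoc, e.hom_inv_id, comp_id] at this
  obtain ⟨T', π, hπ, y, hy, hxy⟩ := hf p T x this
  exact ⟨T', π, hπ, y, hy, by rw [comp_hom, reassoc_of% hxy]⟩

/-- Strictness passes along an isomorphism of the source. -/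
lemma strict_iso_comp {K K' L : FilObj A} {f : K ⟶ L} (hf : FilObj.IsStrict f) (e : K' ≅ K) :
    FilObj.IsStrict (e.hom ≫ f) := by
  rw [strict_iff] at hf ⊢
  intro p T x hx
  rw [comp_hom, ← assoc] at hx
  obtain ⟨T', π, hπ, y, hy, hxy⟩ := hf p T _ hx
  refine ⟨T', π, hπ, y ≫ e.inv.hom, fac_comp e.inv _ hy, ?_⟩
  rw [comp_hom, assoc, ← reassoc_of% (comp_hom e.inv e.hom), e.inv_hom_id]
  rw [assoc] at hxy
  exact hxy.trans (by rw [show (𝟙 K : K ⟶ K).hom = 𝟙 K.obj from rfl, id_comp])

section Pushout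

variable {K L M : FilObj A} (f : K ⟶ L) (g : K ⟶ M)

/-- The pushout object. -/
noncomputable def po : FilObj A where
  obj := pushout f.hom g.hom
  fil p := imageSubobject (biprod.desc ((L.fil p).arrow ≫ pushout.inl f.hom g.hom) ((M.fil p).arrow ≫ pushout.inr f.hom g.hom))
  anti p q h := by
    dsimp only
    rw [imageSubobject_le_iff, Subobject.factors_iff]
    refine ⟨biprod.map (L.stepLE h) (M.stepLE h) ≫ factorThruImageSubobject _, ?_⟩
    erw [assoc, imageSubobject_arrow_comp]
    ext <;> simp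

/-- The first map to the pushout. -/
noncomputable def poInl : L ⟶ po f g :=
  ⟨pushout.inl f.hom g.hom, fun p => by
    rw [le_pullback_iff]
    have := imageSubobject_factors (biprod.desc ((L.fil p).arrow ≫ pushout.inl f.hom g.hom)
      ((M.fil p).arrow ≫ pushout.inr f.hom g.hom)) biprod.inl
    rw [biprod.inl_desc] at this
    exact this⟩

/-- The second map to the pushout. -/
noncomputable def poInr : M ⟶ po f g :=
  ⟨pushout.inr f.hom g.hom, fun p => by
    rw [le_pullback_iff]
    have := imageSubobject_factors (biprod.desc ((L.fil p).arrow ≫ pushout.inl f.hom g.hom)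
      ((M.fil p).arrow ≫ pushout.inr f.hom g.hom)) biprod.inr
    rw [biprod.inr_desc] at this
    exact this⟩

lemma isPushout_po : IsPushout f g (poInl f g) (poInr f g) := by
  have w : f ≫ poInl f g = g ≫ poInr f g := hom_ext' pushout.condition
  refine ⟨⟨w⟩, ⟨PushoutCocone.IsColimit.mk w
    (fun s => ⟨pushout.desc s.inl.hom s.inr.hom (congrArg FilObj.Hom.hom s.condition), fun p => ?_⟩)
    (fun s => hom_ext' (pushout.inl_desc _ _ _)) (fun s => hom_ext' (pushout.inr_desc _ _ _))
    (fun s m h1 h2 => hom_ext' (pushout.hom_ext ?_ ?_))⟩⟩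
  · refine (imageSubobject_le_iff _ _).2 ((Limits.pullback_factors_iff _ _ _).2 ?_)
    refine factors_mk (biprod.desc ((s.pt.fil p).factorThru _ (fac_arrow s.inl p)) ((s.pt.fil p).factorThru _ (fac_arrow s.inr p))) ?_
    apply biprod.hom_ext'
    · rw [biprod.inl_desc_assoc, Subobject.factorThru_arrow, biprod.inl_desc_assoc, assoc, pushout.inl_desc]
    · rw [biprod.inr_desc_assoc, Subobject.factorThru_arrow, biprod.inr_desc_assoc, assoc, pushout.inr_desc]
  · exact (congrArg FilObj.Hom.hom h1).trans (pushout.inl_desc _ _ _).symm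
  · exact (congrArg FilObj.Hom.hom h2).trans (pushout.inr_desc _ _ _).symm

lemma strict_poInr (hf : FilObj.IsStrict f) : FilObj.IsStrict (poInr f g) := by
  rw [strict_iff] at hf ⊢
  intro p T x hx
  obtain ⟨T₁, π₁, hπ₁, y, hy⟩ := exists_lift_image _ _ hx
  change T₁ ⟶ L.step p ⊞ M.step p at y
  change π₁ ≫ x ≫ pushout.inr f.hom g.hom = _ at hy
  obtain ⟨l, m, hl, hm, hlm⟩ : ∃ (l : T₁ ⟶ L.obj) (m : T₁ ⟶ M.obj), (L.fil p).Factors l ∧ (M.fil p).Factors m ∧
      π₁ ≫ x ≫ pushout.inr f.hom g.hom = l ≫ pushout.inl f.hom g.hom + m ≫ pushout.inr f.hom g.hom := by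
    refine ⟨(y ≫ biprod.fst) ≫ (L.fil p).arrow, (y ≫ biprod.snd) ≫ (M.fil p).arrow, Subobject.factors_comp_arrow _,
      Subobject.factors_comp_arrow _, ?_⟩
    refine hy.trans ?_
    change y ≫ biprod.desc ((L.fil p).arrow ≫ pushout.inl f.hom g.hom) ((M.fil p).arrow ≫ pushout.inr f.hom g.hom) = _
    simp only [assoc]
    rw [biprod.desc_eq]
    exact Preadditive.comp_add _ _ _ _ _ _
  have sq : IsPushout f.hom g.hom (pushout.inl f.hom g.hom) (pushout.inr f.hom g.hom) := IsPushout.of_hasPushout _ _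
  obtain ⟨T₂, π₂, hπ₂, k, hk⟩ := (ShortComplex.exact_of_g_is_cokernel sq.shortComplex sq.isColimitCokernelCofork).exact_up_to_refinements
    (biprod.lift l (m - π₁ ≫ x)) (by
      show biprod.lift l (m - π₁ ≫ x) ≫ biprod.desc (pushout.inl f.hom g.hom) (pushout.inr f.hom g.hom) = 0
      rw [biprod.lift_desc, Preadditive.sub_comp, assoc, hlm]
      abel)
  change T₂ ⟶ K.obj at k
  change π₂ ≫ biprod.lift l (m - π₁ ≫ x) = k ≫ biprod.lift f.hom (-g.hom) at hk
  have hk1 : π₂ ≫ l = k ≫ f.hom := by simpa using congrArg (· ≫ biprod.fst) hk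
  obtain ⟨T₃, π₃, hπ₃, k', hk', hkk⟩ := hf p T₂ k (hk1 ▸ Subobject.factors_of_factors_right π₂ hl)
  refine ⟨T₃, π₃ ≫ π₂ ≫ π₁, inferInstance, k' ≫ g.hom + π₃ ≫ π₂ ≫ m,
    Subobject.factors_add _ _ (fac_comp g _ hk') (Subobject.factors_of_factors_right _ (Subobject.factors_of_factors_right _ hm)), ?_⟩
  show (π₃ ≫ π₂ ≫ π₁) ≫ x ≫ pushout.inr f.hom g.hom = (k' ≫ g.hom + π₃ ≫ π₂ ≫ m) ≫ pushout.inr f.hom g.hom
  simp only [assoc, hlm, Preadditive.comp_add, Preadditive.add_comp]
  rw [← pushout.condition, reassoc_of% hk1, reassoc_of% hkk]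

theorem main : HasPushout f g ∧ ∀ (P : FilObj A) (g' : L ⟶ P) (f' : M ⟶ P),
    IsPushout f g g' f' → FilObj.IsStrict f → FilObj.IsStrict f' := by
  refine ⟨(isPushout_po f g).hasPushout, fun P g' f' h hf => ?_⟩
  have := strict_comp_iso (strict_poInr f g hf) ((isPushout_po f g).isoIsPushout _ _ h)
  rwa [IsPushout.inr_isoIsPushout_hom] at this

end Pushout

section Pullback

variable {K L M : FilObj A} (f : L ⟶ K) (g : M ⟶ K)

/-- The pullback object. -/
noncomputable def pb : FilObj A where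
  obj := pullback f.hom g.hom
  fil p := (Subobject.pullback (pullback.fst f.hom g.hom)).obj (L.fil p) ⊓
    (Subobject.pullback (pullback.snd f.hom g.hom)).obj (M.fil p)
  anti p q h := inf_le_inf (((Subobject.pullback _).map (homOfLE (L.anti h))).le) (((Subobject.pullback _).map (homOfLE (M.anti h))).le)

/-- The first map from the pullback. -/
noncomputable def pbFst : pb f g ⟶ L := ⟨pullback.fst f.hom g.hom, fun _ => inf_le_left⟩

/-- The second map from the pullback. -/
noncomputable def pbSnd : pb f g ⟶ M := ⟨pullback.snd f.hom g.hom, fun _ => inf_le_right⟩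

lemma isPullback_pb : IsPullback (pbFst f g) (pbSnd f g) f g := by
  have w : pbFst f g ≫ f = pbSnd f g ≫ g := hom_ext' pullback.condition
  refine ⟨⟨w⟩, ⟨PullbackCone.IsLimit.mk w
    (fun s => ⟨pullback.lift s.fst.hom s.snd.hom (congrArg FilObj.Hom.hom s.condition), fun p => ?_⟩)
    (fun s => hom_ext' (pullback.lift_fst _ _ _)) (fun s => hom_ext' (pullback.lift_snd _ _ _))
    (fun s m h1 h2 => hom_ext' (pullback.hom_ext ?_ ?_))⟩⟩
  · rw [le_pullback_iff]
    refine (Subobject.inf_factors _).2 ⟨(Limits.pullback_factors_iff _ _ _).2 ?_, (Limits.pullback_factors_iff _ _ _).2 ?_⟩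
    · erw [assoc, pullback.lift_fst]; exact fac_arrow s.fst p
    · erw [assoc, pullback.lift_snd]; exact fac_arrow s.snd p
  · exact (congrArg FilObj.Hom.hom h1).trans (pullback.lift_fst _ _ _).symm
  · exact (congrArg FilObj.Hom.hom h2).trans (pullback.lift_snd _ _ _).symm

lemma strict_pbSnd (hf : FilObj.IsStrict f) : FilObj.IsStrict (pbSnd f g) := by
  rw [strict_iff] at hf ⊢
  intro p T x hx
  change T ⟶ pullback f.hom g.hom at x
  change (M.fil p).Factors (x ≫ pullback.snd f.hom g.hom) at hx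
  have h1 : (K.fil p).Factors ((x ≫ pullback.fst f.hom g.hom) ≫ f.hom) := by
    rw [assoc, pullback.condition, ← assoc]
    exact fac_comp g _ hx
  obtain ⟨T', π, hπ, l, hl, hxl⟩ := hf p T _ h1
  have hw : l ≫ f.hom = (π ≫ x ≫ pullback.snd f.hom g.hom) ≫ g.hom := by
    rw [← hxl]; simp [pullback.condition]
  refine ⟨T', π, hπ, pullback.lift l (π ≫ x ≫ pullback.snd f.hom g.hom) hw, ?_, (pullback.lift_snd _ _ _).symm⟩
  refine (Subobject.inf_factors _).2 ⟨(Limits.pullback_factors_iff _ _ _).2 ?_, (Limits.pullback_factors_iff _ _ _).2 ?_⟩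
  · erw [pullback.lift_fst]; exact hl
  · erw [pullback.lift_snd]; exact Subobject.factors_of_factors_right π hx

theorem main' : HasPullback f g ∧ ∀ (P : FilObj A) (g' : P ⟶ L) (f' : P ⟶ M),
    IsPullback g' f' f g → FilObj.IsStrict f → FilObj.IsStrict f' := by
  refine ⟨(isPullback_pb f g).hasPullback, fun P g' f' h hf => ?_⟩
  have := strict_iso_comp (strict_pbSnd f g hf) (h.isoIsPullback _ _ (isPullback_pb f g))
  rwa [IsPullback.isoIsPullback_hom_snd] at this

end Pullback

end Groth.Agent.H9Misc.FilPushout
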