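import Groth.Prelude.Def_SpSeq
import Groth.Agent.TriCat.KInjRes
import Mathlib.Algebra.Homology.DerivedCategory.KInjective
import Mathlib.Algebra.Homology.HomotopyCategory.ShortExact

/-!
# An inverse system in the derived category comes from a filtered complex
-/

set_option linter.style.haveILetI false
set_option maxHeartbeats 1000000

universe w v u

open CategoryTheory CategoryTheory.Category CategoryTheory.Limits

namespace Groth.Agent.H9Misc.FilTel

variable {A : Type u} [Category.{v} A] [Abelian A] [IsGrothendieckAbelian.{v} A]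

lemma le1 (i : ℤ) : i ≤ i + 1 := by omega

/-- The indices at least `i`. -/
abbrev Ix (i : ℤ) := ULift.{v} {k : ℤ // i ≤ k}

instance hasColim (J : Type v) : HasColimitsOfShape (Discrete J) (CochainComplex A ℤ) := by infer_instance

variable (I : ℤ → CochainComplex A ℤ) (t : ∀ i, I (i + 1) ⟶ I i)

/-- Sources of the telescope. -/
noncomputable abbrev SA (i : ℤ) : CochainComplex A ℤ := ∐ fun k : Ix.{v} i => I (k.down.1 + 1)

/-- Targets of the telescope. -/
noncomputable abbrev SB (i : ℤ) : CochainComplex A ℤ := ∐ fun k : Ix.{v} i => I k.down.1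

/-- The inclusion of a term. -/
noncomputable abbrev ιA (i k : ℤ) (h : i ≤ k) : I (k + 1) ⟶ SA I i :=
  Sigma.ι (fun k : Ix.{v} i => I (k.down.1 + 1)) ⟨⟨k, h⟩⟩

/-- The inclusion of a term. -/
noncomputable abbrev ιB (i k : ℤ) (h : i ≤ k) : I k ⟶ SB I i :=
  Sigma.ι (fun k : Ix.{v} i => I k.down.1) ⟨⟨k, h⟩⟩

lemma hom_extA {i : ℤ} {Z : CochainComplex A ℤ} {f g : SA I i ⟶ Z}
    (h : ∀ k (hk : i ≤ k), ιA I i k hk ≫ f = ιA I i k hk ≫ g) : f = g :=
  Sigma.hom_ext _ _ fun k => h k.down.1 k.down.2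

lemma hom_extB {i : ℤ} {Z : CochainComplex A ℤ} {f g : SB I i ⟶ Z}
    (h : ∀ k (hk : i ≤ k), ιB I i k hk ≫ f = ιB I i k hk ≫ g) : f = g :=
  Sigma.hom_ext _ _ fun k => h k.down.1 k.down.2

/-- The telescope map. -/
noncomputable def d (i : ℤ) : SA I i ⟶ SB I i :=
  Sigma.desc fun k => ιB I i (k.down.1 + 1) (by have := k.down.2; omega) - t k.down.1 ≫ ιB I i k.down.1 k.down.2

lemma ιA_d (i k : ℤ) (h : i ≤ k) :
    ιA I i k h ≫ d I t i = ιB I i (k + 1) (by omega) - t k ≫ ιB I i k h := Sigma.ι_desc _ _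

/-- Composite transition maps. -/
noncomputable def Q (i : ℤ) : ∀ (n : ℕ) (j : ℤ), j = i + n → (I j ⟶ I i)
  | 0, _, h => eqToHom (congrArg I (by simpa using h))
  | n + 1, _, h => eqToHom (congrArg I (h.trans (by push_cast; ring : i + ((n + 1 : ℕ) : ℤ) = i + n + 1))) ≫
      t (i + n) ≫ Q i n (i + n) rfl

omit [IsGrothendieckAbelian.{v} A] in
lemma Q_congr (i : ℤ) {n m : ℕ} (e : n = m) (j : ℤ) (h : j = i + n) (h' : j = i + m) :
    Q I t i n j h = Q I t i m j h' := by
  subst e; rfl

omit [IsGrothendieckAbelian.{v} A] in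
lemma Q_succ (i : ℤ) (n : ℕ) (j : ℤ) (h : j = i + n) (h' : j + 1 = i + (n + 1 : ℕ)) :
    Q I t i (n + 1) (j + 1) h' = t j ≫ Q I t i n j h := by
  subst h
  simp [Q]

/-- Composite transition maps. -/
noncomputable def P (i j : ℤ) (h : i ≤ j) : I j ⟶ I i := Q I t i (j - i).toNat j (by omega)

omit [IsGrothendieckAbelian.{v} A] in
lemma P_self (i : ℤ) (h : i ≤ i) : P I t i i h = 𝟙 _ := by
  show Q I t i _ i _ = _
  rw [Q_congr I t i (show (i - i).toNat = 0 by omega) i (by omega) (by omega)]
  simp [Q]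

omit [IsGrothendieckAbelian.{v} A] in
lemma P_succ (i j : ℤ) (h : i ≤ j) (h' : i ≤ j + 1) : P I t i (j + 1) h' = t j ≫ P I t i j h := by
  show Q I t i _ (j + 1) _ = t j ≫ Q I t i _ j _
  rw [Q_congr I t i (show (j + 1 - i).toNat = (j - i).toNat + 1 by omega) (j + 1) (by omega) (by omega)]
  exact Q_succ I t i _ j _ _

omit [IsGrothendieckAbelian.{v} A] in
lemma P_left (i j : ℤ) (h : i + 1 ≤ j) : P I t i j (by omega) = P I t (i + 1) j h ≫ t i := by
  revert h
  refine fun h => Int.leInduction (m := i + 1) (motive := fun j _ => ∀ h : i + 1 ≤ j,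
    P I t i j (by omega) = P I t (i + 1) j h ≫ t i) ?_ ?_ j h h
  · intro h'
    rw [P_succ I t i i le_rfl, P_self, P_self, comp_id, id_comp]
  · intro n hn ih h'
    rw [P_succ I t i n (by omega), P_succ I t (i + 1) n hn, ih hn, assoc]

/-- The projection to the first term. -/
noncomputable def π (i : ℤ) : SB I i ⟶ I i := Sigma.desc fun k => P I t i k.down.1 k.down.2

lemma ιB_π (i k : ℤ) (h : i ≤ k) : ιB I i k h ≫ π I t i = P I t i k h := Sigma.ι_desc _ _

/-- The partial sums. -/
noncomputable def R (i : ℤ) : ∀ (n : ℕ) (j : ℤ), j = i + n → (I j ⟶ SA I i)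
  | 0, _, _ => 0
  | n + 1, _, h => eqToHom (congrArg I (h.trans (by push_cast; ring : i + ((n + 1 : ℕ) : ℤ) = i + n + 1))) ≫
      (ιA I i (i + n) (by omega) + t (i + n) ≫ R i n (i + n) rfl)

lemma R_congr (i : ℤ) {n m : ℕ} (e : n = m) (j : ℤ) (h : j = i + n) (h' : j = i + m) :
    R I t i n j h = R I t i m j h' := by
  subst e; rfl

lemma R_succ (i : ℤ) (n : ℕ) (j : ℤ) (h : j = i + n) (h' : j + 1 = i + (n + 1 : ℕ)) :
    R I t i (n + 1) (j + 1) h' = ιA I i j (by omega) + t j ≫ R I t i n j h := by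
  subst h
  simp [R]

/-- The partial sums. -/
noncomputable def S' (i j : ℤ) (h : i ≤ j) : I j ⟶ SA I i := R I t i (j - i).toNat j (by omega)

lemma S'_self (i : ℤ) (h : i ≤ i) : S' I t i i h = 0 := by
  show R I t i _ i _ = _
  rw [R_congr I t i (show (i - i).toNat = 0 by omega) i (by omega) (by omega)]
  rfl

lemma S'_succ (i j : ℤ) (h : i ≤ j) (h' : i ≤ j + 1) :
    S' I t i (j + 1) h' = ιA I i j h + t j ≫ S' I t i j h := by
  show R I t i _ (j + 1) _ = _ + t j ≫ R I t i _ j _
  rw [R_congr I t i (show (j + 1 - i).toNat = (j - i).toNat + 1 by omega) (j + 1) (by omega) (by omega)]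
  exact R_succ I t i _ j _ _

/-- The retraction of the telescope map. -/
noncomputable def σ (i : ℤ) : SB I i ⟶ SA I i := Sigma.desc fun k => S' I t i k.down.1 k.down.2

lemma ιB_σ (i k : ℤ) (h : i ≤ k) : ιB I i k h ≫ σ I t i = S' I t i k h := Sigma.ι_desc _ _

lemma d_π (i : ℤ) : d I t i ≫ π I t i = 0 := hom_extA I fun k hk => by
  rw [← assoc, ιA_d, Preadditive.sub_comp, assoc, ιB_π, ιB_π, P_succ I t i k hk, sub_self, comp_zero]

/-- The telescope short complex. -/
noncomputable def sc (i : ℤ) : ShortComplex (CochainComplex A ℤ) := ShortComplex.mk (d I t i) (π I t i) (d_π I t i)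

/-- It is split. -/
noncomputable def splitting (i : ℤ) : (sc I t i).Splitting where
  r := σ I t i
  s := ιB I i i le_rfl
  f_r := hom_extA I fun k hk => by
    show ιA I i k hk ≫ d I t i ≫ σ I t i = ιA I i k hk ≫ 𝟙 _
    rw [← assoc, ιA_d, Preadditive.sub_comp, assoc, ιB_σ, ιB_σ, S'_succ I t i k hk, add_sub_cancel_right, comp_id]
  s_g := by
    show ιB I i i le_rfl ≫ π I t i = 𝟙 _
    rw [ιB_π, P_self]
  id := hom_extB I fun k hk => by
    show ιB I i k hk ≫ (σ I t i ≫ d I t i + π I t i ≫ ιB I i i le_rfl) = ιB I i k hk ≫ 𝟙 _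
    rw [Preadditive.comp_add, ← assoc, ← assoc, ιB_σ, ιB_π, comp_id]
    refine Int.leInduction (m := i) (motive := fun k _ => ∀ hk : i ≤ k,
      S' I t i k hk ≫ d I t i + P I t i k hk ≫ ιB I i i le_rfl = ιB I i k hk) ?_ ?_ k hk hk
    · intro h
      rw [S'_self, P_self, zero_comp, zero_add, id_comp]
    · intro n hn ih h
      rw [S'_succ I t i n hn, P_succ I t i n hn, Preadditive.add_comp, ιA_d, assoc, assoc, add_assoc,
        ← Preadditive.comp_add, ih hn, sub_add_cancel]

/-- Inclusion of tails. -/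
noncomputable def incA {i j : ℤ} (h : i ≤ j) : SA I j ⟶ SA I i :=
  Sigma.desc fun k => ιA I i k.down.1 (h.trans k.down.2)

/-- Inclusion of tails. -/
noncomputable def incB {i j : ℤ} (h : i ≤ j) : SB I j ⟶ SB I i :=
  Sigma.desc fun k => ιB I i k.down.1 (h.trans k.down.2)

/-- The total source. -/
noncomputable abbrev TA : CochainComplex A ℤ := ∐ fun k : ULift.{v} ℤ => I (k.down + 1)

/-- The total target. -/
noncomputable abbrev TB : CochainComplex A ℤ := ∐ fun k : ULift.{v} ℤ => I k.down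

/-- Inclusion into the total source. -/
noncomputable def allA (i : ℤ) : SA I i ⟶ TA I :=
  Sigma.desc fun k => Sigma.ι (fun k : ULift.{v} ℤ => I (k.down + 1)) ⟨k.down.1⟩

/-- Inclusion into the total target. -/
noncomputable def allB (i : ℤ) : SB I i ⟶ TB I :=
  Sigma.desc fun k => Sigma.ι (fun k : ULift.{v} ℤ => I k.down) ⟨k.down.1⟩

open Classical in
instance mono_allA (i : ℤ) : Mono (allA I i) :=
  (SplitMono.mk (Sigma.desc fun k : ULift.{v} ℤ => if h : i ≤ k.down then ιA I i k.down h else 0)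
    (hom_extA I fun k hk => by simp [allA, hk])).mono

open Classical in
instance mono_allB (i : ℤ) : Mono (allB I i) :=
  (SplitMono.mk (Sigma.desc fun k : ULift.{v} ℤ => if h : i ≤ k.down then ιB I i k.down h else 0)
    (hom_extB I fun k hk => by simp [allB, hk])).mono

lemma incA_allA {i j : ℤ} (h : i ≤ j) : incA I h ≫ allA I i = allA I j :=
  hom_extA I fun k hk => by simp [incA, allA]

lemma incB_allB {i j : ℤ} (h : i ≤ j) : incB I h ≫ allB I i = allB I j :=
  hom_extB I fun k hk => by simp [incB, allB]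

/-- The total telescope map. -/
noncomputable def dT : TA I ⟶ TB I :=
  Sigma.desc fun k => Sigma.ι (fun k : ULift.{v} ℤ => I k.down) ⟨k.down + 1⟩ -
    t k.down ≫ Sigma.ι (fun k : ULift.{v} ℤ => I k.down) ⟨k.down⟩

lemma d_allB (i : ℤ) : d I t i ≫ allB I i = allA I i ≫ dT I t :=
  hom_extA I fun k hk => by
    rw [← assoc, ιA_d, ← assoc, show ιA I i k hk ≫ allA I i = Sigma.ι (fun k : ULift.{v} ℤ => I (k.down + 1)) ⟨k⟩ from Sigma.ι_desc _ _,
      show Sigma.ι (fun k : ULift.{v} ℤ => I (k.down + 1)) ⟨k⟩ ≫ dT I t = _ from Sigma.ι_desc _ _,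
      Preadditive.sub_comp, assoc]
    simp [allB]

/-- The acyclic correction. -/
noncomputable abbrev CC : CochainComplex A ℤ :=
  ∐ fun k : ULift.{v} ℤ => CochainComplex.mappingCone (𝟙 (I (k.down + 1)))

/-- The map to the acyclic correction. -/
noncomputable def uT : TA I ⟶ CC I :=
  Limits.Sigma.map fun k : ULift.{v} ℤ => CochainComplex.mappingCone.inr (𝟙 (I (k.down + 1)))

/-- The corrected telescope map. -/
noncomputable def d' (i : ℤ) : SA I i ⟶ SB I i ⊞ CC I := biprod.lift (d I t i) (allA I i ≫ uT I)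

/-- The corrected total map. -/
noncomputable def dT' : TA I ⟶ TB I ⊞ CC I := biprod.lift (dT I t) (uT I)

lemma comm_all (i : ℤ) : d' I t i ≫ biprod.map (allB I i) (𝟙 _) = allA I i ≫ dT' I t := by
  apply biprod.hom_ext
  · simp [d', dT', d_allB]
  · simp [d', dT']

/-- The telescope. -/
noncomputable abbrev Tel (i : ℤ) : CochainComplex A ℤ := CochainComplex.mappingCone (d' I t i)

/-- The total telescope. -/
noncomputable abbrev Tot : CochainComplex A ℤ := CochainComplex.mappingCone (dT' I t)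

omit [IsGrothendieckAbelian.{v} A] in
open CochainComplex.HomComplex CochainComplex.mappingCone in
lemma mono_coneMap {K₁ L₁ K₂ L₂ : CochainComplex A ℤ} (φ₁ : K₁ ⟶ L₁) (φ₂ : K₂ ⟶ L₂) (a : K₁ ⟶ K₂) (b : L₁ ⟶ L₂)
    (comm : φ₁ ≫ b = a ≫ φ₂) [Mono a] [Mono b] : Mono (CochainComplex.mappingCone.map φ₁ φ₂ a b comm) := by
  haveI : ∀ n, Mono ((CochainComplex.mappingCone.map φ₁ φ₂ a b comm).f n) := fun n => ⟨fun {Z} g h hgh => by
    have e1 := congrArg (fun x => x ≫ (fst φ₂).1.v n (n + 1) rfl) hgh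
    have e2 := congrArg (fun x => x ≫ (snd φ₂).v n n (add_zero n)) hgh
    have hf1 : (CochainComplex.mappingCone.map φ₁ φ₂ a b comm).f n ≫ (fst φ₂).1.v n (n + 1) rfl =
        (fst φ₁).1.v n (n + 1) rfl ≫ a.f (n + 1) := by
      refine ext_from φ₁ (n + 1) n rfl ?_ ?_ <;> simp [CochainComplex.mappingCone.map]
    have hf2 : (CochainComplex.mappingCone.map φ₁ φ₂ a b comm).f n ≫ (snd φ₂).v n n (add_zero n) =
        (snd φ₁).v n n (add_zero n) ≫ b.f n := by
      refine ext_from φ₁ (n + 1) n rfl ?_ ?_ <;> simp [CochainComplex.mappingCone.map]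
    simp only [assoc, hf1, hf2] at e1 e2
    refine ext_to φ₁ n (n + 1) rfl ?_ ?_
    · exact (cancel_mono (a.f (n + 1))).1 (by simpa using e1)
    · exact (cancel_mono (b.f n)).1 (by simpa using e2)⟩
  exact HomologicalComplex.mono_of_mono_f _ inferInstance

/-- The inclusion in the total telescope. -/
noncomputable def telAll (i : ℤ) : Tel I t i ⟶ Tot I t :=
  CochainComplex.mappingCone.map _ _ (allA I i) (biprod.map (allB I i) (𝟙 _)) (comm_all I t i)

instance mono_telAll (i : ℤ) : Mono (telAll I t i) := mono_coneMap _ _ _ _ _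

lemma comm_inc {i j : ℤ} (h : i ≤ j) : d' I t j ≫ biprod.map (incB I h) (𝟙 _) = incA I h ≫ d' I t i := by
  have hd : d I t j ≫ incB I h = incA I h ≫ d I t i := by
    rw [← cancel_mono (allB I i), assoc, assoc, incB_allB, d_allB, d_allB, ← assoc, incA_allA]
  apply biprod.hom_ext
  · simp [d', hd]
  · simp [d', ← incA_allA I h]

/-- The transition maps of the telescopes. -/
noncomputable def telInc {i j : ℤ} (h : i ≤ j) : Tel I t j ⟶ Tel I t i :=
  CochainComplex.mappingCone.map _ _ (incA I h) (biprod.map (incB I h) (𝟙 _)) (comm_inc I t h)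

lemma telInc_telAll {i j : ℤ} (h : i ≤ j) : telInc I t h ≫ telAll I t i = telAll I t j := by
  refine (CochainComplex.mappingCone.map_comp _ _ _ _ _ _ _ _ _).symm.trans ?_
  show CochainComplex.mappingCone.map _ _ (incA I h ≫ allA I i)
    (biprod.map (incB I h) (𝟙 _) ≫ biprod.map (allB I i) (𝟙 _)) _ = _
  congr 1
  · exact incA_allA I h
  · exact biprod.hom_ext _ _ (by simp [incB_allB]) (by simp)

/-- The projection of a telescope. -/
noncomputable def telπ (i : ℤ) : Tel I t i ⟶ I i :=
  CochainComplex.mappingCone.desc _ 0 (biprod.fst ≫ π I t i) (by simp [d', d_π])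

lemma telInc_telπ (i : ℤ) :
    telInc I t (le1 i) ≫ telπ I t i = telπ I t (i + 1) ≫ t i := by
  refine HomologicalComplex.hom_ext _ _ fun n => CochainComplex.mappingCone.ext_from _ (n + 1) n rfl ?_ ?_
  · simp [telInc, telπ, CochainComplex.mappingCone.map, CochainComplex.HomComplex.Cochain.zero_v]
  · have h : incB I (le1 i) ≫ π I t i = π I t (i + 1) ≫ t i :=
      hom_extB I fun k hk => by
        rw [← assoc, ← assoc, ιB_π, show ιB I (i + 1) k hk ≫ incB I _ = ιB I i k (by omega) from Sigma.ι_desc _ _, ιB_π,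
          P_left I t i k hk]
    have h' : (CochainComplex.mappingCone.inr (d' I t (i + 1))) ≫ telInc I t (le1 i) ≫ telπ I t i =
        CochainComplex.mappingCone.inr (d' I t (i + 1)) ≫ telπ I t (i + 1) ≫ t i := by
      simp [telInc, telπ, CochainComplex.mappingCone.map, h]
    exact congrArg (fun x => x.f n) h'

variable [HasDerivedCategory.{w} A]

lemma isZero_CC : IsZero (DerivedCategory.Q.obj (CC I)) := by
  have hz : ∀ k : ULift.{v} ℤ, IsZero (DerivedCategory.Q.obj (CochainComplex.mappingCone (𝟙 (I (k.down + 1))))) :=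
    fun k => (Pretriangulated.Triangle.isZero₃_iff_isIso₁ _
      (DerivedCategory.mappingCone_triangle_distinguished (𝟙 (I (k.down + 1))))).2
      (inferInstanceAs (IsIso (DerivedCategory.Q.map (𝟙 (I (k.down + 1))))))
  rw [IsZero.iff_id_eq_zero]
  refine Groth.Agent.TriCat.sigma_Q_hom_ext _ fun k => ?_
  exact (hz k).eq_of_src _ _

lemma isIso_Q_fst {X C : CochainComplex A ℤ} (hC : IsZero (DerivedCategory.Q.obj C)) :
    IsIso (DerivedCategory.Q.map (biprod.fst : X ⊞ C ⟶ X)) := by
  refine ⟨DerivedCategory.Q.map (biprod.inl : X ⟶ X ⊞ C), ?_, by rw [← Functor.map_comp, biprod.inl_fst, CategoryTheory.Functor.map_id]⟩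
  have h : DerivedCategory.Q.map ((biprod.snd : X ⊞ C ⟶ C) ≫ (biprod.inr : C ⟶ X ⊞ C)) = 0 := by
    rw [Functor.map_comp, hC.eq_of_tgt (DerivedCategory.Q.map biprod.snd) 0, zero_comp]
  rw [← Functor.map_comp, ← CategoryTheory.Functor.map_id, ← biprod.total, Functor.map_add, h, add_zero]

lemma isIso_Q_telπ (i : ℤ) : IsIso (DerivedCategory.Q.map (telπ I t i)) := by
  let φ : Tel I t i ⟶ CochainComplex.mappingCone (d I t i) :=
    CochainComplex.mappingCone.map _ _ (𝟙 _) biprod.fst (by simp [d'])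
  haveI := isIso_Q_fst (isZero_CC I) (X := SB I i)
  haveI : IsIso (DerivedCategory.Q.map φ) := by
    let ψ := DerivedCategory.Q.mapTriangle.map
      (CochainComplex.mappingCone.triangleMap (d' I t i) (d I t i) (𝟙 _) biprod.fst (by simp [d']))
    exact Pretriangulated.isIso₃_of_isIso₁₂ ψ (DerivedCategory.mappingCone_triangle_distinguished _)
      (DerivedCategory.mappingCone_triangle_distinguished _)
      (inferInstanceAs (IsIso (DerivedCategory.Q.map (𝟙 (SA I i)))))
      (inferInstanceAs (IsIso (DerivedCategory.Q.map (biprod.fst : SB I i ⊞ CC I ⟶ SB I i))))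
  haveI := CochainComplex.mappingCone.quasiIso_descShortComplex (splitting I t i).shortExact
  have h : telπ I t i = φ ≫ CochainComplex.mappingCone.descShortComplex (sc I t i) := by
    refine HomologicalComplex.hom_ext _ _ fun n => CochainComplex.mappingCone.ext_from _ (n + 1) n rfl ?_ ?_
    · simp [telπ, φ, CochainComplex.mappingCone.map, CochainComplex.mappingCone.descShortComplex, sc, CochainComplex.HomComplex.Cochain.zero_v]
      rfl
    · simp [telπ, φ, CochainComplex.mappingCone.map, CochainComplex.mappingCone.descShortComplex, sc, CochainComplex.HomComplex.Cochain.zero_v]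
  rw [h]
  let g : CochainComplex.mappingCone (d I t i) ⟶ I i := CochainComplex.mappingCone.descShortComplex (sc I t i)
  haveI : IsIso (DerivedCategory.Q.map g) :=
    (DerivedCategory.isIso_Q_map_iff_quasiIso _ _).2 ‹_›
  show IsIso (DerivedCategory.Q.map (φ ≫ g))
  rw [Functor.map_comp]
  infer_instance

omit [IsGrothendieckAbelian.{v} A] in
lemma exists_homotopy {K L : CochainComplex A ℤ} [L.IsKInjective] (f g : K ⟶ L)
    (h : DerivedCategory.Q.map f = DerivedCategory.Q.map g) : Nonempty (Homotopy f g) := by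
  refine ⟨HomotopyCategory.homotopyOfEq _ _ ((CochainComplex.IsKInjective.Qh_map_bijective _ L).1 ?_)⟩
  let e := DerivedCategory.quotientCompQhIso A
  have h1 := e.hom.naturality f
  have h2 := e.hom.naturality g
  refine (cancel_mono (e.hom.app L)).1 (h1.trans ?_)
  rw [h]
  exact h2.symm

omit [IsGrothendieckAbelian.{v} A] in
lemma exists_lift {K L : CochainComplex A ℤ} [L.IsKInjective]
    (g : DerivedCategory.Q.obj K ⟶ DerivedCategory.Q.obj L) : ∃ f : K ⟶ L, DerivedCategory.Q.map f = g := by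
  let e := DerivedCategory.quotientCompQhIso A
  obtain ⟨q, hq⟩ := (CochainComplex.IsKInjective.Qh_map_bijective _ L).2 (e.hom.app K ≫ g ≫ e.inv.app L)
  obtain ⟨f, rfl⟩ := (HomotopyCategory.quotient A (ComplexShape.up ℤ)).map_surjective q
  refine ⟨f, (cancel_epi (e.hom.app K)).1 ((e.hom.naturality f).symm.trans ?_)⟩
  refine (congrArg (fun x => x ≫ e.hom.app L) hq).trans ?_
  rw [assoc, assoc, e.inv_hom_id_app]
  exact congrArg (e.hom.app K ≫ ·) (comp_id _)

/-- The main construction. -/
theorem exists_filCx (L : CochainComplex A ℤ) [L.IsKInjective] (a : ∀ i, I i ⟶ L)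
    (ha : ∀ i, DerivedCategory.Q.map (t i ≫ a i) = DerivedCategory.Q.map (a (i + 1))) :
    ∃ (K : SpSeq.FilCx A) (e : DerivedCategory.Q.obj K.obj ≅ DerivedCategory.Q.obj L)
      (ei : ∀ i : ℤ, DerivedCategory.Q.obj (K.step i) ≅ DerivedCategory.Q.obj (I i)),
      (∀ i : ℤ, DerivedCategory.Q.map (K.fil i).arrow ≫ e.hom = (ei i).hom ≫ DerivedCategory.Q.map (a i)) ∧
      (∀ i : ℤ, DerivedCategory.Q.map (K.stepLE (le_of_lt (Int.lt_succ_self i))) ≫ (ei i).hom =
        (ei (i + 1)).hom ≫ DerivedCategory.Q.map (t i)) := by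
  have hk := fun k : ℤ => ( exists_homotopy (a (k + 1) - t k ≫ a k) 0
    (by rw [Functor.map_sub, ha, sub_self, Functor.map_zero])).some
  let z := fun k => CochainComplex.HomComplex.Cochain.equivHomotopy _ _ (hk k)
  let wk : ∀ k : ULift.{v} ℤ, CochainComplex.mappingCone (𝟙 (I (k.down + 1))) ⟶ L := fun k =>
    CochainComplex.mappingCone.desc _ (-(z k.down).1) (-(a (k.down + 1) - t k.down ≫ a k.down)) (by
      have h2 := (z k.down).2.trans ((congrArg (CochainComplex.HomComplex.δ (-1) 0 (z k.down).1 + ·)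
        (CochainComplex.HomComplex.Cochain.ofHom_zero _ _)).trans (add_zero _))
      rw [CochainComplex.HomComplex.δ_neg, ← h2, id_comp, CochainComplex.HomComplex.Cochain.ofHom_neg])
  let aT : TB I ⊞ CC I ⟶ L := biprod.desc (Sigma.desc fun k => a k.down) (Sigma.desc wk)
  have haT : dT' I t ≫ aT = 0 := Sigma.hom_ext _ _ fun k => by
    simp [dT', aT, dT, uT, wk, Preadditive.sub_comp]
  let f : Tot I t ⟶ L := CochainComplex.mappingCone.desc _ 0 aT (by simp [haT])
  let j : Tot I t ⟶ L ⊞ CochainComplex.mappingCone (𝟙 (Tot I t)) :=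
    biprod.lift f (CochainComplex.mappingCone.inr (𝟙 (Tot I t)))
  haveI : Mono j := by
    have : Mono (CochainComplex.mappingCone.inr (𝟙 (Tot I t))) := by
      haveI : ∀ n, Mono ((CochainComplex.mappingCone.inr (𝟙 (Tot I t))).f n) := fun n =>
        (SplitMono.mk ((CochainComplex.mappingCone.snd (𝟙 (Tot I t))).v n n (add_zero n)) (by simp)).mono
      exact HomologicalComplex.mono_of_mono_f _ inferInstance
    exact mono_of_mono_fac (show j ≫ biprod.snd = CochainComplex.mappingCone.inr (𝟙 (Tot I t)) by simp [j])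
  let K : SpSeq.FilCx A :=
    { obj := L ⊞ CochainComplex.mappingCone (𝟙 (Tot I t))
      fil := fun i => Subobject.mk (telAll I t i ≫ j)
      anti := fun i i' h => Subobject.mk_le_mk_of_comm (telInc I t h) (by rw [← assoc, telInc_telAll]) }
  haveI := isIso_Q_fst (X := L) (C := CochainComplex.mappingCone (𝟙 (Tot I t)))
    ((Pretriangulated.Triangle.isZero₃_iff_isIso₁ _
      (DerivedCategory.mappingCone_triangle_distinguished (𝟙 (Tot I t)))).2
      (inferInstanceAs (IsIso (DerivedCategory.Q.map (𝟙 (Tot I t))))))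
  haveI : ∀ i, IsIso (DerivedCategory.Q.map (telπ I t i)) := isIso_Q_telπ I t
  let u : ∀ i, K.step i ≅ Tel I t i := fun i => Subobject.underlyingIso (telAll I t i ≫ j)
  refine ⟨K, asIso (DerivedCategory.Q.map (biprod.fst : L ⊞ CochainComplex.mappingCone (𝟙 (Tot I t)) ⟶ L)),
    fun i => DerivedCategory.Q.mapIso (u i) ≪≫ asIso (DerivedCategory.Q.map (telπ I t i)), fun i => ?_, fun i => ?_⟩
  · let s : I i ⟶ Tel I t i := ιB I i i le_rfl ≫ biprod.inl ≫ CochainComplex.mappingCone.inr (d' I t i)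
    have hs : s ≫ telπ I t i = 𝟙 _ := by simp [s, telπ, ιB_π, P_self]
    haveI : IsIso (DerivedCategory.Q.map s) := by
      have h : DerivedCategory.Q.map s ≫ DerivedCategory.Q.map (telπ I t i) = 𝟙 _ := by
        rw [← Functor.map_comp, hs, CategoryTheory.Functor.map_id]
      rw [show DerivedCategory.Q.map s = inv (DerivedCategory.Q.map (telπ I t i)) from
        IsIso.eq_inv_of_inv_hom_id h]
      infer_instance
    have hsf : s ≫ telAll I t i ≫ f = a i := by
      simp [s, telAll, f, aT, CochainComplex.mappingCone.map, allB]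
    have key : DerivedCategory.Q.map (telAll I t i ≫ f) = DerivedCategory.Q.map (telπ I t i ≫ a i) := by
      rw [← cancel_epi (DerivedCategory.Q.map s), ← Functor.map_comp, ← Functor.map_comp, hsf, ← assoc, hs, id_comp]
    have h3 : (K.fil i).arrow ≫ biprod.fst = (u i).hom ≫ telAll I t i ≫ f := by
      have h4 : (u i).inv ≫ (K.fil i).arrow = telAll I t i ≫ j := Subobject.underlyingIso_arrow _
      rw [← Iso.inv_comp_eq, ← assoc, h4, assoc]
      simp [j]
    simp only [Iso.trans_hom, Functor.mapIso_hom, asIso_hom, assoc]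
    rw [← Functor.map_comp, ← Functor.map_comp (DerivedCategory.Q) (telπ I t i), ← key, ← Functor.map_comp, h3]
  · simp only [Iso.trans_hom, Functor.mapIso_hom, asIso_hom, assoc]
    show DerivedCategory.Q.map (K.stepLE (le1 i)) ≫ _ = _
    have h5 : K.stepLE (le1 i) ≫ (u i).hom =
        (u (i + 1)).hom ≫ telInc I t (le1 i) := by
      rw [← cancel_mono (telAll I t i ≫ j), assoc, assoc, ← assoc (telInc I t _), telInc_telAll,
        show (u i).hom ≫ telAll I t i ≫ j = (K.fil i).arrow from Subobject.underlyingIso_hom_comp_eq_mk _,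
        show (u (i + 1)).hom ≫ telAll I t (i + 1) ≫ j = (K.fil (i + 1)).arrow from Subobject.underlyingIso_hom_comp_eq_mk _]
      exact Subobject.ofLE_arrow _
    rw [← Functor.map_comp_assoc, h5, ← Functor.map_comp, ← Functor.map_comp, ← Functor.map_comp, assoc, telInc_telπ]

end Groth.Agent.H9Misc.FilTel
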