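import Groth.Agent.H9Misc.TwistFF
import Groth.Agent.KFlatLib.Scheme.RpushUnbounded
import Groth.Agent.KFlatLib.Scheme.CohD
import Groth.Agent.S1039

/-! Finite dimensional Hom spaces and direct images. -/

set_option autoImplicit false
set_option linter.style.haveILetI false
set_option backward.isDefEq.respectTransparency false
set_option backward.isDefEq.respectTransparency.types false
set_option maxHeartbeats 800000

universe u

open CategoryTheory CategoryTheory.Limits AlgebraicGeometry

attribute [local instance] HasDerivedCategory.standard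
attribute [local instance] Groth.Agent.KExact.SerreTop.selfOver

noncomputable section

namespace Groth.Agent.H9Misc.FinHom

open Groth.Agent KFlatLib

variable {k : Type u} [Field k]

/-- Maps into a direct image. -/
theorem finite_hom_push {Z Y : Scheme.{u}} [Z.Over (Spec (CommRingCat.of k))] [Y.Over (Spec (CommRingCat.of k))]
    (f : Z ⟶ Y) [f.IsOver (Spec (CommRingCat.of k))] [DCoh.HasRpush f] [DCoh.HasLpull f]
    (E : DCoh.D Y) (K : DCoh.D Z) (i : ℤ) :
    (Module.Finite k ((DCoh.Lpull f).obj E ⟶ (shiftFunctor (DCoh.D Z) i).obj K) ↔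
      Module.Finite k (E ⟶ (shiftFunctor (DCoh.D Y) i).obj ((DCoh.Rpush f).obj K))) ∧
    (Nontrivial (E ⟶ (shiftFunctor (DCoh.D Y) i).obj ((DCoh.Rpush f).obj K)) ↔
      Nontrivial ((DCoh.Lpull f).obj E ⟶ (shiftFunctor (DCoh.D Z) i).obj K)) := by
  haveI := KExact.SerreTop.additive_rpush f
  haveI := KExact.HHLinear.linear_rpush (A := k) f
  obtain ⟨adj⟩ := nonempty_lpull_rpush_adj f
  obtain ⟨es⟩ := KExact.SerreTop.nonempty_rpush_shiftNat f i
  let M := (shiftFunctor (DCoh.D Z) i).obj K
  let lin : ((DCoh.Lpull f).obj E ⟶ M) →ₗ[k] (E ⟶ (DCoh.Rpush f).obj M) :=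
    (Linear.leftComp k _ (adj.unit.app E)).comp ((DCoh.Rpush f).mapLinearMap k)
  have hlin : Function.Bijective lin := by
    have : ⇑lin = fun g => adj.homEquiv E M g := funext fun g => (adj.homEquiv_unit ..).symm
    rw [this]
    exact (adj.homEquiv E M).bijective
  let l : ((DCoh.Lpull f).obj E ⟶ M) ≃ₗ[k] (E ⟶ (shiftFunctor (DCoh.D Y) i).obj ((DCoh.Rpush f).obj K)) :=
    (LinearEquiv.ofBijective lin hlin).trans (Linear.homCongr k (Iso.refl E) (es.app K))
  exact ⟨⟨fun h => haveI := h; Module.Finite.equiv l, fun h => haveI := h; Module.Finite.equiv l.symm⟩,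
    ⟨fun h => haveI := h; l.toEquiv.nontrivial, fun h => haveI := h; l.toEquiv.symm.nontrivial⟩⟩

/-- Sections compute the cohomology of a quasi-coherent complex on `Spec k`. -/
theorem homology_spec (C : DCoh.D (Spec (CommRingCat.of k))) (hC : DCoh.IsQCohD C) (i : ℤ) :
    (Module.Finite k (DCoh.inD _ (Coh.structureModule (Spec (CommRingCat.of k))) ⟶
        (shiftFunctor (DCoh.D (Spec (CommRingCat.of k))) i).obj C) → Coh.IsCoh (DCoh.HD C i)) ∧
    (Subsingleton (DCoh.inD _ (Coh.structureModule (Spec (CommRingCat.of k))) ⟶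
        (shiftFunctor (DCoh.D (Spec (CommRingCat.of k))) i).obj C) → IsZero (DCoh.HD C i)) := by
  let R := CommRingCat.of k
  haveI : IsNoetherianRing R := inferInstanceAs (IsNoetherianRing k)
  haveI : PreservesFiniteLimits (tilde.functor R) := QCoh.tilde_preservesFiniteLimits
  haveI : PreservesFiniteColimits (tilde.functor R) := QCoh.tilde_preservesFiniteColimits
  haveI : (tilde.functor R).Linear k := KExact.HHLinear.linear_tilde
  let C' := (shiftFunctor (DCoh.D (Spec R)) i).obj C
  let eH : DCoh.HD C' 0 ≅ DCoh.HD C i :=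
    ((DerivedCategory.homologyFunctor (Spec R).Modules 0).shiftIso i 0 i (by omega)).app C
  have hC' : DCoh.IsQCohD C' := fun j => isQCoh_of_iso
    (((DerivedCategory.homologyFunctor (Spec R).Modules 0).shiftIso i j (i + j) rfl).app C).symm (hC _)
  obtain ⟨M, ⟨eM⟩⟩ := exists_tildeD_iso hC'
  let eT : DCoh.HD C i ≅ tilde ((DerivedCategory.homologyFunctor (ModuleCat.{u} k) 0).obj M) :=
    eH.symm ≪≫ (DerivedCategory.homologyFunctor _ 0).mapIso eM.symm ≪≫
      (mapDCHomologyIso (tilde.functor R) 0).app M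
  let eO : DCoh.inD _ (Coh.structureModule (Spec R)) ≅ (DCoh.tildeD R).obj (Dual.inD k k) :=
    (DerivedCategory.singleFunctor (Spec R).Modules 0).mapIso (tildeSelf (R := R)).symm ≪≫
      (((tilde.functor R).mapDerivedCategorySingleFunctor 0).app (ModuleCat.of k k)).symm
  let lin : (Dual.inD k k ⟶ M) →ₗ[k] (DCoh.inD _ (Coh.structureModule (Spec R)) ⟶ C') :=
    (Linear.homCongr k eO.symm eM).toLinearMap.comp ((DCoh.tildeD R).mapLinearMap k)
  let l := LinearEquiv.ofBijective lin
    ((Linear.homCongr k eO.symm eM).bijective.comp (tildeD_map_bijective (R := R) (Dual.inD k k) M))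
  obtain ⟨e⟩ := exists_homRingLEquiv (A := k) M 0
  let eM0 : M ≅ (shiftFunctor (Dual.D k) (0 : ℤ)).obj M := ((shiftFunctorZero (Dual.D k) ℤ).app M).symm
  let l' := (Linear.homCongr k (Iso.refl (Dual.inD k k)) eM0).trans e
  refine ⟨fun h => ?_, fun h => ?_⟩
  · haveI := h
    haveI : Module.Finite k (Dual.inD k k ⟶ M) := Module.Finite.equiv l.symm
    haveI : Module.Finite k (Dual.HD k M 0) := Module.Finite.equiv l'
    exact isCoh_of_iso eT.symm ((isCoh_tilde_iff _).2 inferInstance)
  · haveI := h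
    haveI : Subsingleton (Dual.inD k k ⟶ M) := l.toEquiv.subsingleton
    haveI : Subsingleton (Dual.HD k M 0) := l'.symm.toEquiv.subsingleton
    exact ((tilde.functor R).map_isZero (ModuleCat.isZero_of_iff_subsingleton.2 inferInstance)).of_iso eT

/-- Direct images to the point. -/
theorem locPC_rpush {X : Scheme.{u}} [X.Over (Spec (CommRingCat.of k))]
    [QuasiCompact (X ↘ Spec (CommRingCat.of k))] [QuasiSeparated (X ↘ Spec (CommRingCat.of k))]
    [DCoh.HasRpush (X ↘ Spec (CommRingCat.of k))] (C : DCoh.D X) (hC : DCoh.IsQCohD C)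
    (hfin : ∀ i : ℤ, Module.Finite k (DCoh.inD X (Coh.structureModule X) ⟶ (shiftFunctor (DCoh.D X) i).obj C))
    (hset : Set.Finite {i : ℤ | Nontrivial (DCoh.inD X (Coh.structureModule X) ⟶ (shiftFunctor (DCoh.D X) i).obj C)})
    (m : ℤ) : LocPC m ((DCoh.Rpush (X ↘ Spec (CommRingCat.of k))).obj C) := by
  let f := X ↘ Spec (CommRingCat.of k)
  haveI := hasLpull f
  haveI : Scheme.Hom.IsOver f (Spec (CommRingCat.of k)) := ⟨Category.comp_id _⟩
  haveI : IsNoetherian (Spec (CommRingCat.of k)) := inferInstance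
  obtain ⟨w⟩ := KExact.SmoothShriek.nonempty_lpull_inD f
  have hq := isQCohD_rpush f hC
  have key := fun i => finite_hom_push (k := k) f (DCoh.inD _ (Coh.structureModule _)) C i
  obtain ⟨b, hb⟩ := hset.bddAbove
  refine locPC_of_coh hq (fun i _ => (homology_spec _ hq i).1 ((key i).1.1 ?_)) b fun i hi => (homology_spec _ hq i).2 ?_
  · haveI := hfin i
    exact Module.Finite.equiv (Linear.homCongr k w (Iso.refl _))
  · refine not_nontrivial_iff_subsingleton.1 fun hn => absurd (hb ?_) (not_le.2 hi)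
    haveI := (key i).2.1 hn
    exact (Linear.homCongr k w (Iso.refl _)).toEquiv.nontrivial

end Groth.Agent.H9Misc.FinHom
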