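import Groth.Agent.QCoh.FlatBC
import Groth.Agent.PnCoh.PushNat
import Mathlib.RingTheory.Finiteness.Projective

/-! Base change in cohomology along finite projective ring maps, for arbitrary schemes. -/

set_option backward.isDefEq.respectTransparency false
set_option backward.isDefEq.respectTransparency.types false
set_option linter.style.haveILetI false

universe u

open CategoryTheory CategoryTheory.Limits AlgebraicGeometry TopologicalSpace Opposite
open scoped TensorProduct

noncomputable section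

namespace Groth.Agent.H9Misc.FinProjBC

open Groth.Agent

variable {X X' : Scheme.{u}} {A B : Type u} [CommRing A] [CommRing B] [Algebra A B]
  {pA : X ⟶ Spec (CommRingCat.of A)} {pB : X' ⟶ Spec (CommRingCat.of B)} {φ : X' ⟶ X}

section

variable (h : IsPullback φ pB pA (Spec.map (CommRingCat.ofHom (algebraMap A B))))
  {M : X.Modules} (hM : Coh.IsQCoh M)

/-- The ab sheaf `φ_* φ^* M`. -/
abbrev N (φ : X' ⟶ X) (M : X.Modules) : CohTop.Ab (X.toPresheafedSpace.carrier) :=
  (CohTop.push φ.base).obj (QCoh.abSheaf ((Scheme.Modules.pullback φ).obj M))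

/-- The unit, on abelian sheaves. -/
def eta (φ : X' ⟶ X) (M : X.Modules) : QCoh.abSheaf M ⟶ N φ M :=
  ⟨((Scheme.Modules.pullbackPushforwardAdjunction φ).unit.app M).mapPresheaf⟩

/-- Multiplication on `φ_* φ^* M`. -/
def sigma (pB : X' ⟶ Spec (CommRingCat.of B)) (φ : X' ⟶ X) (M : X.Modules) (b : B) : N φ M ⟶ N φ M :=
  (CohTop.push φ.base).map (Coh.smulAb ((Scheme.Modules.pullback φ).obj M) (Coh.toGlobal pB b))

lemma basis (X : Scheme.{u}) : Opens.IsBasis (Set.range fun V : X.affineOpens => V.1) := by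
  convert X.isBasis_affineOpens
  exact Subtype.range_coe

include h in
lemma eta_smul (a : A) :
    Coh.smulAb M (Coh.toGlobal pA a) ≫ eta φ M = eta φ M ≫ sigma pB φ M (algebraMap A B a) := by
  ext U m
  let W := φ ⁻¹ᵁ U.unop
  refine (Scheme.Modules.Hom.app_smul ((Scheme.Modules.pullbackPushforwardAdjunction φ).unit.app M)
    (Coh.resTop X U (Coh.toGlobal pA a)) m).trans ?_
  refine congrArg (fun r : Γ(X', W) => r •
    (show Γ((Scheme.Modules.pullback φ).obj M, W) from
      ((Scheme.Modules.pullbackPushforwardAdjunction φ).unit.app M).app U.unop m)) ?_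
  refine (QCoh.app_topRes φ U.unop (Coh.toGlobal pA a)).trans ?_
  rw [← QCoh.toGlobal_comm pA pB φ h.w a]
  rfl

lemma map_sec_smul {Z : Scheme.{u}} {R : Type u} [CommRing R] (ρ : R →+* Coh.Γtop Z) (P : Z.Modules)
    {V W : Z.Opens} (i : W ≤ V) (r : R) (y : Γ(P, V)) :
    letI := QCoh.secModule ρ P V
    letI := QCoh.secModule ρ P W
    P.presheaf.map (homOfLE i).op (r • y) = r • P.presheaf.map (homOfLE i).op y := by
  letI := QCoh.secModule ρ P V
  letI := QCoh.secModule ρ P W
  show P.presheaf.map (homOfLE i).op ((Z.presheaf.map (homOfLE (le_top : V ≤ ⊤)).op (ρ r)) • y) =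
    (Z.presheaf.map (homOfLE (le_top : W ≤ ⊤)).op (ρ r)) • P.presheaf.map (homOfLE i).op y
  refine (Scheme.Modules.map_smul P _ _ _).trans (congrArg (· • _) ?_)
  refine (ConcreteCategory.congr_hom (Z.presheaf.map_comp _ _) (ρ r)).symm.trans ?_
  rfl

include h hM in
theorem exists_coord (c : B →ₗ[A] A) :
    ∃ s : N φ M ⟶ QCoh.abSheaf M, ∀ (V : X.affineOpens) (b : B) (m : Γ(M, V.1)),
      s.hom.app (op V.1) ((eta φ M ≫ sigma pB φ M b).hom.app (op V.1) m) =
        (Coh.smulAb M (Coh.toGlobal pA (c b))).hom.app (op V.1) m := by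
  let ρ := Coh.toGlobal pA
  let ρ' := Coh.toGlobal pB
  let M' := (Scheme.Modules.pullback φ).obj M
  let η : M ⟶ (Scheme.Modules.pushforward φ).obj M' := (Scheme.Modules.pullbackPushforwardAdjunction φ).unit.app M
  have hbc : QCoh.IsAffineBC (M := M) (M' := M') φ ρ ρ' (QCoh.toGlobal_comm pA pB φ h.w) η :=
    QCoh.isAffineBC_of_isPullback h hM
  have key : ∀ V : X.affineOpens, ∃ f : Γ(M', φ ⁻¹ᵁ V.1) →+ Γ(M, V.1),
      letI := QCoh.secModule ρ M V.1
      letI := QCoh.secModule ρ' M' (φ ⁻¹ᵁ V.1)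
      ∀ (b : B) (m : Γ(M, V.1)), f (b • QCoh.secMap φ η le_rfl m) = c b • m := by
    intro V
    letI := QCoh.secModule ρ M V.1
    letI := QCoh.secModule ρ' M' (φ ⁻¹ᵁ V.1)
    letI := QCoh.secModule (ρ'.comp (algebraMap A B)) M' (φ ⁻¹ᵁ V.1)
    haveI : IsScalarTower A B Γ(M', φ ⁻¹ᵁ V.1) := .of_algebraMap_smul fun _ _ => rfl
    let hb := hbc V.1 V.2
    refine ⟨((TensorProduct.lid A Γ(M, V.1)).toLinearMap.comp (c.rTensor Γ(M, V.1))).toAddMonoidHom.comp
      hb.equiv.symm.toLinearMap.toAddMonoidHom, fun b m => ?_⟩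
    show TensorProduct.lid A Γ(M, V.1) (c.rTensor Γ(M, V.1) (hb.equiv.symm (b • QCoh.secMap φ η le_rfl m))) = _
    rw [show hb.equiv.symm (b • QCoh.secMap φ η le_rfl m) = b ⊗ₜ[A] m from
      hb.equiv.symm_apply_eq.2 (hb.equiv_tmul b m).symm]
    simp
  choose f hf using key
  have nat : ∀ (V W : X.affineOpens) (i : W.1 ≤ V.1) (y : Γ(M', φ ⁻¹ᵁ V.1)),
      f W (M'.presheaf.map (homOfLE (φ.preimage_mono i)).op y) = M.presheaf.map (homOfLE i).op (f V y) := by
    intro V W i y
    letI := QCoh.secModule ρ M V.1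
    letI := QCoh.secModule ρ M W.1
    letI := QCoh.secModule ρ' M' (φ ⁻¹ᵁ V.1)
    letI := QCoh.secModule ρ' M' (φ ⁻¹ᵁ W.1)
    letI := QCoh.secModule (ρ'.comp (algebraMap A B)) M' (φ ⁻¹ᵁ V.1)
    haveI : IsScalarTower A B Γ(M', φ ⁻¹ᵁ V.1) := .of_algebraMap_smul fun _ _ => rfl
    let hb := hbc V.1 V.2
    obtain ⟨z, rfl⟩ := hb.equiv.surjective y
    induction z using TensorProduct.induction_on with
    | zero => simp only [map_zero]
    | add z w hz hw => simp only [map_add, hz, hw]
    | tmul b m =>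
      rw [hb.equiv_tmul]
      show f W (M'.presheaf.map (homOfLE (φ.preimage_mono i)).op (b • QCoh.secMap φ η le_rfl m)) =
        M.presheaf.map (homOfLE i).op (f V (b • QCoh.secMap φ η le_rfl m))
      rw [hf V]
      have e1 : M'.presheaf.map (homOfLE (φ.preimage_mono i)).op (b • QCoh.secMap φ η le_rfl m) =
          b • QCoh.secMap φ η le_rfl (M.presheaf.map (homOfLE i).op m) := by
        rw [QCoh.secMap_map]
        refine (map_sec_smul ρ' M' (φ.preimage_mono i) b _).trans ?_
        exact congrArg (b • ·) (QCoh.map_secMap φ η le_rfl (homOfLE (φ.preimage_mono i)) m)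
      rw [e1, hf W]
      exact (map_sec_smul ρ M i (c b) m).symm
  let α : (inducedFunctor fun V : X.affineOpens => V.1).op ⋙ (N φ M).obj ⟶
      (inducedFunctor fun V : X.affineOpens => V.1).op ⋙ (QCoh.abSheaf M).obj :=
    { app := fun V => AddCommGrpCat.ofHom (f V.unop)
      naturality := fun V W g => AddCommGrpCat.ext fun y => nat V.unop W.unop g.unop.hom.le y }
  refine ⟨⟨TopCat.Sheaf.restrictHomEquivHom _ (QCoh.abSheaf M) (basis X) α⟩, fun V b m => ?_⟩
  refine (congr($(TopCat.Sheaf.extend_hom_app (N φ M).obj (QCoh.abSheaf M) (basis X) α V) _)).trans ?_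
  letI := QCoh.secModule ρ' M' (φ ⁻¹ᵁ V.1)
  have hmm : QCoh.secMap φ η le_rfl m = η.app V.1 m := QCoh.map_id' _ _
  refine Eq.trans ?_ (hf V b m)
  rw [hmm]
  rfl

lemma hom_ext_affine {F G : CohTop.Ab (X.toPresheafedSpace.carrier)} {a b : F ⟶ G}
    (hab : ∀ (V : X.affineOpens) (y : F.obj.obj (op V.1)), a.hom.app (op V.1) y = b.hom.app (op V.1) y) : a = b :=
  InducedCategory.hom_ext (TopCat.Sheaf.hom_ext _ G (basis X) fun V => AddCommGrpCat.ext (hab V))

theorem nonempty_equiv_of_dual {R S T T' : Type u} [CommRing R] [CommRing S] [Algebra R S]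
    [AddCommGroup T] [Module R T] [AddCommGroup T'] [Module S T'] {n : ℕ} (bv : Fin n → S)
    (cv : Fin n → (S →ₗ[R] R)) (hdual : ∀ b : S, ∑ j, cv j b • bv j = b)
    (η : T →+ T') (hη : ∀ (a : R) (z : T), η (a • z) = algebraMap R S a • η z)
    (t : Fin n → (T' →+ T)) (h1 : ∀ y, ∑ j, bv j • η (t j y) = y)
    (h2 : ∀ (j : Fin n) (b : S) (z : T), t j (b • η z) = cv j b • z) :
    Nonempty (S ⊗[R] T ≃ₗ[S] T') := by
  letI : Module R T' := Module.compHom T' (algebraMap R S)
  haveI : IsScalarTower R S T' := .of_algebraMap_smul fun _ _ => rfl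
  let l : T →ₗ[R] T' := { toFun := η, map_add' := map_add η, map_smul' := hη }
  let β : S ⊗[R] T →ₗ[S] T' :=
    TensorProduct.AlgebraTensorModule.lift ((LinearMap.lsmul S (T →ₗ[R] T')).flip l)
  let inv' : T' →+ S ⊗[R] T := ∑ j, (TensorProduct.mk R S T (bv j)).toAddMonoidHom.comp (t j)
  have hinv : ∀ y, inv' y = ∑ j, bv j ⊗ₜ[R] t j y := fun y => by
    simp [inv', AddMonoidHom.finsetSum_apply]
  have hβ : ∀ (b : S) (z : T), β (b ⊗ₜ[R] z) = b • η z := fun b z => rfl
  have e1 : ∀ y, β (inv' y) = y := fun y => by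
    rw [hinv, map_sum]
    simpa only [hβ] using h1 y
  have e2 : ∀ x, inv' (β x) = x := fun x => by
    induction x using TensorProduct.induction_on with
    | zero => simp only [map_zero]
    | add z w hz hw => simp only [map_add, hz, hw]
    | tmul b z =>
      rw [hinv, hβ]
      simp only [h2, TensorProduct.tmul_smul, TensorProduct.smul_tmul', ← TensorProduct.sum_tmul, hdual]
  exact ⟨{ β with invFun := inv', left_inv := e2, right_inv := e1 }⟩

include h hM in
/-- Base change in cohomology along a finite projective ring map. -/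
theorem exists_equiv [Module.Finite A B] [Module.Projective A B] (i : ℕ) :
    letI := QCoh.modHH (Coh.toGlobal pA) M i
    letI := QCoh.modHH (Coh.toGlobal pB) ((Scheme.Modules.pullback φ).obj M) i
    Nonempty (B ⊗[A] Coh.HH X M i ≃ₗ[B] Coh.HH X' ((Scheme.Modules.pullback φ).obj M) i) := by
  let M' := (Scheme.Modules.pullback φ).obj M
  haveI : IsAffineHom φ := MorphismProperty.of_isPullback h.flip inferInstance
  have hb : QCoh.Ab.PreimageBasis φ.base (QCoh.stdCovers X') := fun U y hy => by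
    obtain ⟨_, ⟨W, hW, rfl⟩, hyW, hWU⟩ := X.isBasis_affineOpens.exists_subset_of_mem_open hy U.2
    exact ⟨W, hWU, hyW, hW.preimage φ⟩
  obtain ⟨e, he⟩ := PnCoh.H_push_equiv_natural φ.base (QCoh.stdCovers X') hb (QCoh.abSheaf M')
    (QCoh.stdCovers_acyclic (QCoh.isQCoh_pullback φ hM)) i
  obtain ⟨n, p, q, -, -, hpq⟩ := Module.Finite.exists_comp_eq_id_of_projective A B
  let bv : Fin n → B := fun j => p (Pi.single j 1)
  let cv : Fin n → (B →ₗ[A] A) := fun j => (LinearMap.proj j).comp q
  have hdual : ∀ b : B, ∑ j, cv j b • bv j = b := fun b => by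
    conv_rhs => rw [← LinearMap.id_apply (R := A) b, ← hpq, LinearMap.comp_apply,
      pi_eq_sum_univ' (q b), map_sum]
    exact Finset.sum_congr rfl fun j _ => (map_smul p _ _).symm
  choose s hs using fun j => exists_coord h hM (cv j)
  have hsec : ∀ (j : Fin n) (b : B), eta φ M ≫ sigma pB φ M b ≫ s j =
      Coh.smulAb M (Coh.toGlobal pA (cv j b)) := fun j b => hom_ext_affine fun V m => hs j V b m
  have hone : ∑ j, s j ≫ eta φ M ≫ sigma pB φ M (bv j) = 𝟙 (N φ M) := by
    refine hom_ext_affine fun V y => ?_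
    letI := QCoh.secModule (Coh.toGlobal pA) M V.1
    letI := QCoh.secModule (Coh.toGlobal pB) M' (φ ⁻¹ᵁ V.1)
    letI := QCoh.secModule ((Coh.toGlobal pB).comp (algebraMap A B)) M' (φ ⁻¹ᵁ V.1)
    haveI : IsScalarTower A B Γ(M', φ ⁻¹ᵁ V.1) := .of_algebraMap_smul fun _ _ => rfl
    let η' : M ⟶ (Scheme.Modules.pushforward φ).obj M' := (Scheme.Modules.pullbackPushforwardAdjunction φ).unit.app M
    have hbc : QCoh.IsAffineBC (M := M) (M' := M') φ (Coh.toGlobal pA) (Coh.toGlobal pB)
        (QCoh.toGlobal_comm pA pB φ h.w) η' := QCoh.isAffineBC_of_isPullback h hM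
    let hb := hbc V.1 V.2
    obtain ⟨z, rfl⟩ : ∃ z, hb.equiv z = y := hb.equiv.surjective y
    induction z using TensorProduct.induction_on with
    | zero => simp only [map_zero]
    | add z w hz hw =>
      rw [map_add hb.equiv]
      exact (map_add _ _ _).trans ((congrArg₂ (· + ·) hz hw).trans (map_add _ _ _).symm)
    | tmul b m =>
      have hm : hb.equiv (b ⊗ₜ[A] m) = (eta φ M ≫ sigma pB φ M b).hom.app (op V.1) m := by
        rw [hb.equiv_tmul]
        exact congrArg (b • ·) (QCoh.map_id' _ _)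
      rw [hm]
      have key : eta φ M ≫ sigma pB φ M b ≫ ∑ j, s j ≫ eta φ M ≫ sigma pB φ M (bv j) =
          eta φ M ≫ sigma pB φ M b := by
        rw [Preadditive.comp_sum, Preadditive.comp_sum]
        conv_rhs => rw [← hdual b]
        have hsum : ∀ f : Fin n → B, sigma pB φ M (∑ j, f j) = ∑ j, sigma pB φ M (f j) := fun f => by
          show (CohTop.push φ.base).map (QCoh.smulAbHom M' (Coh.toGlobal pB (∑ j, f j))) = _
          rw [map_sum, map_sum, Functor.map_sum]
          rfl
        rw [hsum, Preadditive.comp_sum]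
        refine Finset.sum_congr rfl fun j _ => ?_
        rw [← Category.assoc (sigma pB φ M b), ← Category.assoc (eta φ M), hsec,
          ← Category.assoc, eta_smul h, Category.assoc]
        refine congrArg (eta φ M ≫ ·) ?_
        rw [sigma, sigma, sigma, ← Functor.map_comp, ← Coh.smulAb_mul, ← map_mul, Algebra.smul_def, mul_comm]
      exact congr(($key).hom.app (op V.1) m)
  letI := QCoh.modHH (Coh.toGlobal pA) M i
  letI := QCoh.modHH (Coh.toGlobal pB) M' i
  let η₁ : Coh.HH X M i →+ Coh.HH X' M' i :=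
    e.symm.toAddMonoidHom.comp (Sheaf.H.map (eta φ M) i)
  let t : Fin n → (Coh.HH X' M' i →+ Coh.HH X M i) := fun j =>
    (Sheaf.H.map (s j) i).comp e.toAddMonoidHom
  have hσ : ∀ (b : B) (y : Coh.HH X' M' i), e (b • y) = Sheaf.H.map (sigma pB φ M b) i (e y) :=
    fun b y => he _ y
  have hee : ∀ z : Coh.HH X M i, e (η₁ z) = Sheaf.H.map (eta φ M) i z := fun z => e.apply_symm_apply _
  refine nonempty_equiv_of_dual bv cv hdual η₁ (fun a z => e.injective ?_) t (fun y => e.injective ?_)
    (fun j b z => ?_)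
  · rw [hσ, hee, hee]
    exact (Sheaf.H.map_comp_apply _ _ _).symm.trans
      ((congrArg (fun f => Sheaf.H.map f i z) (eta_smul h a)).trans (Sheaf.H.map_comp_apply _ _ _))
  · rw [map_sum e]
    refine Eq.trans (Finset.sum_congr rfl fun j _ => ?_)
      ((map_sum (AddMonoidHom.mk' (fun f : N φ M ⟶ N φ M => Sheaf.H.map f i (e y))
          (fun f g => Sheaf.H.map_add_apply f g (e y))) _ _).symm.trans
        ((congrArg (fun f => Sheaf.H.map f i (e y)) hone).trans (Sheaf.H.map_id_apply _)))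
    refine (hσ _ _).trans ?_
    refine (congrArg (Sheaf.H.map (sigma pB φ M (bv j)) i) (hee _)).trans ?_
    refine (Sheaf.H.map_comp_apply _ _ _).symm.trans ?_
    refine (Sheaf.H.map_comp_apply _ _ _).symm.trans ?_
    rfl
  · show Sheaf.H.map (s j) i (e (b • η₁ z)) = Sheaf.H.map (Coh.smulAb M (Coh.toGlobal pA (cv j b))) i z
    refine (congrArg (Sheaf.H.map (s j) i) ((hσ _ _).trans
      (congrArg (Sheaf.H.map (sigma pB φ M b) i) (hee z)))).trans ?_
    refine (Sheaf.H.map_comp_apply _ _ _).symm.trans ?_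
    refine (Sheaf.H.map_comp_apply _ _ _).symm.trans ?_
    exact congrArg (fun f => Sheaf.H.map f i z) (hsec j b)

end

end Groth.Agent.H9Misc.FinProjBC
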