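import Groth.Agent.TriCat.Hocolim
import Mathlib.CategoryTheory.Linear.Yoneda
import Mathlib.CategoryTheory.Triangulated.Subcategory
import Mathlib.RingTheory.Noetherian.Basic
import Mathlib.LinearAlgebra.FiniteDimensional.Basic

/-!
# Finite dimensional cohomological functors on objects with a generator are represented by homotopy colimits
-/

set_option autoImplicit false
set_option linter.style.haveILetI false
set_option maxHeartbeats 1000000

universe t v u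

open CategoryTheory CategoryTheory.Category CategoryTheory.Limits CategoryTheory.Pretriangulated Opposite

noncomputable section

namespace Groth.Agent.H9Misc.FinRep

open Groth.Agent TriCat

variable {k : Type t} [Field k] {D : Type u} [Category.{v} D] [Preadditive D] [Linear k D] [HasZeroObject D]
  [HasShift D ℤ] [∀ n : ℤ, (shiftFunctor D n).Additive] [Pretriangulated D]
  {P : ObjectProperty D} [P.IsTriangulated] [P.IsClosedUnderIsomorphisms]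

variable (H : P.FullSubcategoryᵒᵖ ⥤ ModuleCat.{v} k)

/-- Restriction along a map of test objects. -/
def res {A B : D} (hA : P A) (hB : P B) (u : A ⟶ B) : H.obj (op ⟨B, hB⟩) →ₗ[k] H.obj (op ⟨A, hA⟩) :=
  (H.map (ObjectProperty.homMk u : (⟨A, hA⟩ : P.FullSubcategory) ⟶ ⟨B, hB⟩).op).hom

lemma res_id {A : D} (hA : P A) (x : H.obj (op ⟨A, hA⟩)) : res H hA hA (𝟙 A) x = x := by
  show (H.map (ObjectProperty.homMk (𝟙 A) : (⟨A, hA⟩ : P.FullSubcategory) ⟶ ⟨A, hA⟩).op).hom x = x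
  rw [show (ObjectProperty.homMk (𝟙 A) : (⟨A, hA⟩ : P.FullSubcategory) ⟶ ⟨A, hA⟩) = 𝟙 _ from rfl, op_id, H.map_id]
  rfl

lemma res_comp {A B C : D} (hA : P A) (hB : P B) (hC : P C) (u : A ⟶ B) (w : B ⟶ C) (x : H.obj (op ⟨C, hC⟩)) :
    res H hA hC (u ≫ w) x = res H hA hB u (res H hB hC w x) := by
  show (H.map (ObjectProperty.homMk (u ≫ w) : (⟨A, hA⟩ : P.FullSubcategory) ⟶ ⟨C, hC⟩).op).hom x = _
  rw [show (ObjectProperty.homMk (u ≫ w) : (⟨A, hA⟩ : P.FullSubcategory) ⟶ ⟨C, hC⟩) =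
      (ObjectProperty.homMk u : (⟨A, hA⟩ : P.FullSubcategory) ⟶ ⟨B, hB⟩) ≫
        (ObjectProperty.homMk w : (⟨B, hB⟩ : P.FullSubcategory) ⟶ ⟨C, hC⟩) from rfl, op_comp, H.map_comp]
  rfl

/-- Cohomological. -/
def IsCoh : Prop :=
  ∀ T ∈ distTriang D, ∀ (h₁ : P T.obj₁) (h₂ : P T.obj₂) (h₃ : P T.obj₃) (y : H.obj (op ⟨T.obj₂, h₂⟩)),
    res H h₁ h₂ T.mor₁ y = 0 → ∃ z, res H h₂ h₃ T.mor₂ z = y

/-- Linear. -/
def IsLin : Prop :=
  ∀ (A B : P.FullSubcategory) (r : k) (f : A ⟶ B), H.map (r • f).op = r • H.map f.op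

variable [H.Additive]

lemma res_add {A B : D} (hA : P A) (hB : P B) (u w : A ⟶ B) (x : H.obj (op ⟨B, hB⟩)) :
    res H hA hB (u + w) x = res H hA hB u x + res H hA hB w x := by
  show (H.map (ObjectProperty.homMk (u + w) : (⟨A, hA⟩ : P.FullSubcategory) ⟶ ⟨B, hB⟩).op).hom x = _
  rw [show (ObjectProperty.homMk (u + w) : (⟨A, hA⟩ : P.FullSubcategory) ⟶ ⟨B, hB⟩) =
      ObjectProperty.homMk u + ObjectProperty.homMk w from rfl, op_add, Functor.map_add]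
  rfl

lemma res_zero {A B : D} (hA : P A) (hB : P B) (x : H.obj (op ⟨B, hB⟩)) : res H hA hB 0 x = 0 := by
  have h := res_add H hA hB 0 0 x
  rw [add_zero] at h
  exact add_eq_left.1 h.symm

lemma res_sub {A B : D} (hA : P A) (hB : P B) (u w : A ⟶ B) (x : H.obj (op ⟨B, hB⟩)) :
    res H hA hB (u - w) x = res H hA hB u x - res H hA hB w x := by
  rw [eq_sub_iff_add_eq, ← res_add, sub_add_cancel]

omit [H.Additive] in
lemma res_smul (hlin : IsLin H) {A B : D} (hA : P A) (hB : P B) (r : k) (u : A ⟶ B) (x : H.obj (op ⟨B, hB⟩)) :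
    res H hA hB (r • u) x = r • res H hA hB u x := by
  show (H.map (ObjectProperty.homMk (r • u) : (⟨A, hA⟩ : P.FullSubcategory) ⟶ ⟨B, hB⟩).op).hom x = _
  rw [show (ObjectProperty.homMk (r • u) : (⟨A, hA⟩ : P.FullSubcategory) ⟶ ⟨B, hB⟩) = r • ObjectProperty.homMk u
    from rfl, hlin]
  rfl

/-- An element with its object. -/
structure Pt where
  obj : D
  mem : P obj
  el : H.obj (op ⟨obj, mem⟩)

variable {G : D} (hG : ∀ n : ℤ, P (G⟦n⟧))

omit [H.Additive] in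
lemma exists_kill (hcoh : IsCoh H) (Q : Pt H) (L : List (Σ n : ℤ, (G⟦n⟧ ⟶ Q.obj)))
    (hL : ∀ p ∈ L, res H (hG p.1) Q.mem p.2 Q.el = 0) :
    ∃ (Q' : Pt H) (a : Q.obj ⟶ Q'.obj), res H Q.mem Q'.mem a Q'.el = Q.el ∧ ∀ p ∈ L, p.2 ≫ a = 0 := by
  induction L with
  | nil => exact ⟨Q, 𝟙 _, res_id H Q.mem Q.el, by simp⟩
  | cons p L ih =>
    obtain ⟨Q', a, ha, hkill⟩ := ih fun q hq => hL q (List.mem_cons_of_mem _ hq)
    obtain ⟨Z, g, c, hT⟩ := distinguished_cocone_triangle (p.2 ≫ a)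
    have hZ : P Z := ObjectProperty.ext_of_isTriangulatedClosed₃ P _ hT (hG p.1) Q'.mem
    obtain ⟨z, hz⟩ := hcoh _ hT (hG p.1) Q'.mem hZ Q'.el (by
      show res H (hG p.1) Q'.mem (p.2 ≫ a) Q'.el = 0
      rw [res_comp H (hG p.1) Q.mem Q'.mem, ha]
      exact hL p (List.mem_cons_self ..))
    refine ⟨⟨Z, hZ, z⟩, a ≫ g, ?_, fun q hq => ?_⟩
    · rw [res_comp H Q.mem Q'.mem hZ]
      exact (congrArg _ hz).trans ha
    · rcases List.mem_cons.1 hq with rfl | hq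
      · rw [← assoc]
        exact comp_distTriang_mor_zero₁₂ _ hT
      · rw [← assoc, hkill q hq, zero_comp]

lemma exists_hit (Q : Pt H) : ∀ L : List (Σ n : ℤ, H.obj (op ⟨G⟦n⟧, hG n⟩)),
    ∃ (Q' : Pt H) (a : Q.obj ⟶ Q'.obj), res H Q.mem Q'.mem a Q'.el = Q.el ∧
      ∀ p ∈ L, ∃ φ : G⟦p.1⟧ ⟶ Q'.obj, res H (hG p.1) Q'.mem φ Q'.el = p.2
  | [] => ⟨Q, 𝟙 _, res_id H Q.mem Q.el, by simp⟩
  | p :: L => by
    obtain ⟨Q', a, ha, hit⟩ := exists_hit Q L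
    let S := Q'.obj ⊞ G⟦p.1⟧
    have hS : P S := ObjectProperty.ext_of_isTriangulatedClosed₂ P _
      (binaryBiproductTriangle_distinguished Q'.obj (G⟦p.1⟧)) Q'.mem (hG p.1)
    let x : H.obj (op ⟨S, hS⟩) := res H hS Q'.mem biprod.fst Q'.el + res H hS (hG p.1) biprod.snd p.2
    have h1 : res H Q'.mem hS biprod.inl x = Q'.el := by
      simp only [x, map_add, ← res_comp H, biprod.inl_fst, biprod.inl_snd, res_id, res_zero, add_zero]
    have h2 : res H (hG p.1) hS biprod.inr x = p.2 := by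
      simp only [x, map_add, ← res_comp H, biprod.inr_fst, biprod.inr_snd, res_id, res_zero, zero_add]
    refine ⟨⟨S, hS, x⟩, a ≫ biprod.inl, ?_, fun q hq => ?_⟩
    · rw [res_comp H Q.mem Q'.mem hS, h1, ha]
    · rcases List.mem_cons.1 hq with rfl | hq
      · exact ⟨biprod.inr, h2⟩
      · obtain ⟨φ, hφ⟩ := hit q hq
        refine ⟨φ ≫ biprod.inl, ?_⟩
        rw [res_comp H (hG q.1) Q'.mem hS, h1, hφ]

variable (hlin : IsLin H)
  (hfinHom : ∀ X, P X → (∀ n : ℤ, Module.Finite k (G⟦n⟧ ⟶ X)) ∧ Set.Finite {n : ℤ | Nontrivial (G⟦n⟧ ⟶ X)})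
  (hfinH : (∀ n : ℤ, Module.Finite k (H.obj (op ⟨G⟦n⟧, hG n⟩))) ∧
    Set.Finite {n : ℤ | Nontrivial (H.obj (op ⟨G⟦n⟧, hG n⟩))})

include hlin hfinHom in
lemma exists_step (hcoh : IsCoh H) (Q : Pt H) :
    ∃ (Q' : Pt H) (a : Q.obj ⟶ Q'.obj), res H Q.mem Q'.mem a Q'.el = Q.el ∧
      ∀ (n : ℤ) (φ : G⟦n⟧ ⟶ Q.obj), res H (hG n) Q.mem φ Q.el = 0 → φ ≫ a = 0 := by
  classical
  obtain ⟨hf, hs⟩ := hfinHom Q.obj Q.mem
  let ev : ∀ n : ℤ, (G⟦n⟧ ⟶ Q.obj) →ₗ[k] H.obj (op ⟨G⟦n⟧, hG n⟩) := fun n =>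
    { toFun := fun φ => res H (hG n) Q.mem φ Q.el
      map_add' := fun φ ψ => res_add H _ _ φ ψ _
      map_smul' := fun r φ => res_smul H hlin _ _ r φ _ }
  have hfg : ∀ n : ℤ, (LinearMap.ker (ev n)).FG := fun n => by
    haveI := hf n
    exact IsNoetherian.noetherian _
  choose S hS using hfg
  let L : List (Σ n : ℤ, (G⟦n⟧ ⟶ Q.obj)) := (hs.toFinset.sigma fun n => S n).toList
  obtain ⟨Q', a, ha, hkill⟩ := exists_kill H hG hcoh Q L fun p hp => by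
    have := (Finset.mem_sigma.1 (Finset.mem_toList.1 hp)).2
    exact LinearMap.mem_ker.1 ((hS p.1).le (Submodule.subset_span this))
  refine ⟨Q', a, ha, fun n φ hφ => ?_⟩
  by_cases hn : Nontrivial (G⟦n⟧ ⟶ Q.obj)
  · have hφ' : φ ∈ Submodule.span k ((S n : Finset (G⟦n⟧ ⟶ Q.obj)) : Set (G⟦n⟧ ⟶ Q.obj)) :=
      (hS n).symm ▸ LinearMap.mem_ker.2 hφ
    refine (Submodule.span_le (p := LinearMap.ker (Linear.rightComp k (G⟦n⟧) a))).2 (fun ψ hψ => ?_) hφ'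
    exact hkill ⟨n, ψ⟩ (Finset.mem_toList.2 (Finset.mem_sigma.2 ⟨hs.mem_toFinset.2 hn, hψ⟩))
  · haveI := not_nontrivial_iff_subsingleton.1 hn
    rw [Subsingleton.elim φ 0, zero_comp]

include hfinH hlin in
lemma exists_start : ∃ Q : Pt H, ∀ (n : ℤ) (h : H.obj (op ⟨G⟦n⟧, hG n⟩)),
    ∃ φ : G⟦n⟧ ⟶ Q.obj, res H (hG n) Q.mem φ Q.el = h := by
  classical
  obtain ⟨hf, hs⟩ := hfinH
  obtain ⟨Z, hZ, hZ'⟩ := P.exists_prop_of_containsZero
  have hfg : ∀ n : ℤ, (⊤ : Submodule k (H.obj (op ⟨G⟦n⟧, hG n⟩))).FG := fun n => (hf n).fg_top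
  choose S hS using hfg
  obtain ⟨Q, -, -, hit⟩ := exists_hit H hG ⟨Z, hZ', 0⟩ (hs.toFinset.sigma fun n => S n).toList
  refine ⟨Q, fun n h => ?_⟩
  by_cases hn : Nontrivial (H.obj (op ⟨G⟦n⟧, hG n⟩))
  · let ev : (G⟦n⟧ ⟶ Q.obj) →ₗ[k] H.obj (op ⟨G⟦n⟧, hG n⟩) :=
      { toFun := fun φ => res H (hG n) Q.mem φ Q.el
        map_add' := fun φ ψ => res_add H _ _ φ ψ _
        map_smul' := fun r φ => res_smul H hlin _ _ r φ _ }
    have hle : Submodule.span k ((S n : Finset _) : Set (H.obj (op ⟨G⟦n⟧, hG n⟩))) ≤ LinearMap.range ev :=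
      Submodule.span_le.2 fun ψ hψ => hit ⟨n, ψ⟩ (Finset.mem_toList.2 (Finset.mem_sigma.2 ⟨hs.mem_toFinset.2 hn, hψ⟩))
    exact hle ((hS n).symm ▸ Submodule.mem_top)
  · haveI := not_nontrivial_iff_subsingleton.1 hn
    exact ⟨0, Subsingleton.elim _ _⟩

/-- A system. -/
structure Sys where
  pt : ℕ → Pt H
  f : ∀ m, (pt m).obj ⟶ (pt (m + 1)).obj
  comp : ∀ m, res H (pt m).mem (pt (m + 1)).mem (f m) (pt (m + 1)).el = (pt m).el
  kill : ∀ m (n : ℤ) (φ : G⟦n⟧ ⟶ (pt m).obj), res H (hG n) (pt m).mem φ (pt m).el = 0 → φ ≫ f m = 0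
  surj : ∀ (n : ℤ) (h : H.obj (op ⟨G⟦n⟧, hG n⟩)), ∃ φ, res H (hG n) (pt 0).mem φ (pt 0).el = h

include hlin hfinHom hfinH in
theorem nonempty_sys (hcoh : IsCoh H) : Nonempty (Sys H hG) := by
  obtain ⟨Q₀, h₀⟩ := exists_start H hG hlin hfinH
  choose next a ha hk using exists_step H hG hlin hfinHom hcoh
  let pts : ℕ → Pt H := fun m => Nat.rec Q₀ (fun _ R => next R) m
  exact ⟨⟨pts, fun m => a (pts m), fun m => ha (pts m), fun m n φ hφ => hk (pts m) n φ hφ, h₀⟩⟩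

variable [HasColimitsOfShape (Discrete ℕ) D]

/-- Main theorem. -/
theorem exists_represent (hlin : IsLin H) (hcoh : IsCoh H)
    (hfinHom : ∀ X, P X → (∀ n : ℤ, Module.Finite k (G⟦n⟧ ⟶ X)) ∧ Set.Finite {n : ℤ | Nontrivial (G⟦n⟧ ⟶ X)})
    (hfinH : (∀ n : ℤ, Module.Finite k (H.obj (op ⟨G⟦n⟧, hG n⟩))) ∧
      Set.Finite {n : ℤ | Nontrivial (H.obj (op ⟨G⟦n⟧, hG n⟩))})
    (hfix : ∀ C, P C → ∀ K : ℕ → D, (∀ m, P (K m)) → ∀ g : C ⟶ ∐ K, FinFactor g)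
    [P.IsStableUnderRetracts]
    (hgen : ∀ (Q : ObjectProperty D) [Q.IsClosedUnderIsomorphisms] [Q.IsStableUnderRetracts] [Q.IsTriangulated],
      Q G → ∀ C, P C → Q C) :
    ∃ (K : ℕ → D) (f : ∀ m, K m ⟶ K (m + 1)) (Y : D) (i : ∀ m, K m ⟶ Y), (∀ m, P (K m)) ∧
      DerLim.IsHocolim K f Y i ∧ Nonempty (H ≅ (ObjectProperty.ι P).op ⋙ (linearYoneda k D).obj Y) := by
  classical
  obtain ⟨S⟩ := nonempty_sys H hG hlin hfinHom hfinH hcoh
  let K : ℕ → D := fun m => (S.pt m).obj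
  obtain ⟨Y, i, hY⟩ := exists_isHocolim K S.f
  let F := Functor.ofSequence S.f
  let tr : ∀ {m l : ℕ}, m ≤ l → (K m ⟶ K l) := fun h => F.map (homOfLE h)
  have htr : ∀ {m l : ℕ} (h : m ≤ l), tr h ≫ i l = i m := fun {m l} h =>
    cocone_of_succ F i (fun j => by
      rw [show F.map (homOfLE (Nat.le_succ j)) = S.f j from Functor.ofSequence_map_homOfLE_succ S.f j]
      exact IsHocolim.comp_i hY j) h
  have htrel : ∀ {m l : ℕ} (h : m ≤ l),
      res H (S.pt m).mem (S.pt l).mem (tr h) (S.pt l).el = (S.pt m).el := fun {m l} h => by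
    induction l, h using Nat.le_induction with
    | base => rw [show tr (le_refl m) = 𝟙 (K m) from F.map_id m]; exact res_id H _ _
    | succ j hj ih =>
      rw [show tr (le_trans hj (Nat.le_succ j)) = tr hj ≫ S.f j from by
        rw [← show F.map (homOfLE (Nat.le_succ j)) = S.f j from Functor.ofSequence_map_homOfLE_succ S.f j]
        exact (congrArg F.map (homOfLE_comp hj (Nat.le_succ j)).symm).trans (F.map_comp _ _),
        res_comp H _ (S.pt j).mem, S.comp, ih]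
  have hlift : ∀ {C : D}, P C → ∀ g : C ⟶ Y, ∃ (m : ℕ) (g' : C ⟶ K m), g' ≫ i m = g := fun {C} hC g => by
    obtain ⟨ψ, rfl⟩ := IsHocolim.exists_lift_of_injective hY (fun y hy => by
      let e : C⟦(-1 : ℤ)⟧⟦(1 : ℤ)⟧ ≅ C := (shiftFunctorCompIsoId D (-1 : ℤ) 1 (by simp)).app C
      obtain ⟨y0, hy0⟩ := (shiftFunctor D (1 : ℤ)).map_surjective (e.hom ≫ y)
      have h1 : y0 ≫ (𝟙 (∐ K) - DerLim.shiftMap K S.f) = 0 := by
        apply (shiftFunctor D (1 : ℤ)).map_injective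
        rw [Functor.map_comp, hy0, assoc, hy, comp_zero, Functor.map_zero]
      have h2 := eq_zero_of_finFactor_comp_one_sub_shiftMap K S.f
        (hfix _ (P.le_shift (-1 : ℤ) _ hC) K (fun m => (S.pt m).mem) y0) h1
      rw [← cancel_epi e.hom, ← hy0, h2, Functor.map_zero, comp_zero]) g
    obtain ⟨s, a, rfl⟩ := hfix C hC K (fun m => (S.pt m).mem) ψ
    refine ⟨s.sup id, ∑ j ∈ s, if h : j ≤ s.sup id then a j ≫ tr h else 0, ?_⟩
    rw [Preadditive.sum_comp, Preadditive.sum_comp]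
    refine Finset.sum_congr rfl fun j hj => ?_
    have h : j ≤ s.sup id := Finset.le_sup (f := id) hj
    rw [dif_pos h, assoc, assoc, htr h, Sigma.ι_desc]
  have hdie : ∀ {C : D}, P C → ∀ (m : ℕ) (g : C ⟶ K m), g ≫ i m = 0 →
      ∃ (l : ℕ) (h : m ≤ l), g ≫ tr h = 0 := fun {C} hC m g hg => by
    obtain ⟨c, hc⟩ := id hY
    obtain ⟨ψ, hψ⟩ : ∃ ψ : C ⟶ ∐ K, g ≫ Sigma.ι K m = ψ ≫ (𝟙 (∐ K) - DerLim.shiftMap K S.f) :=
      Triangle.coyoneda_exact₂ _ hc (g ≫ Sigma.ι K m) (by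
      show (g ≫ Sigma.ι K m) ≫ Sigma.desc i = 0
      rw [assoc, Sigma.ι_desc, hg])
    obtain ⟨s, a, ha⟩ := hfix C hC K (fun m => (S.pt m).mem) ψ
    let l := max m (s.sup id + 1)
    let Φ : (∐ K) ⟶ K l := Sigma.desc fun j => if h : j ≤ l then tr h else 0
    refine ⟨l, le_max_left _ _, ?_⟩
    have h1 : (g ≫ Sigma.ι K m) ≫ Φ = g ≫ tr (le_max_left _ _) := by
      rw [assoc, Sigma.ι_desc, dif_pos (le_max_left _ _)]
    refine h1.symm.trans ((congrArg (· ≫ Φ) hψ).trans ?_)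
    show (ψ ≫ (𝟙 (∐ K) - DerLim.shiftMap K S.f)) ≫ Φ = 0
    rw [ha, assoc, Preadditive.sum_comp]
    refine Finset.sum_eq_zero fun j hj => ?_
    have hjl : j + 1 ≤ l := le_trans (Nat.succ_le_succ (Finset.le_sup (f := id) hj)) (le_max_right _ _)
    rw [assoc, ← assoc (Sigma.ι K j), ι_one_sub_shiftMap, Preadditive.sub_comp, Sigma.ι_desc, assoc, Sigma.ι_desc,
      dif_pos ((Nat.le_succ j).trans hjl), dif_pos hjl,
      show tr ((Nat.le_succ j).trans hjl) = S.f j ≫ tr hjl from by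
        rw [← show F.map (homOfLE (Nat.le_succ j)) = S.f j from Functor.ofSequence_map_homOfLE_succ S.f j]
        exact (congrArg F.map (homOfLE_comp (Nat.le_succ j) hjl).symm).trans (F.map_comp _ _),
      sub_self, comp_zero]
  have hwd : ∀ {C : D} (hC : P C) (m l : ℕ) (g : C ⟶ K m) (g' : C ⟶ K l), g ≫ i m = g' ≫ i l →
      res H hC (S.pt m).mem g (S.pt m).el = res H hC (S.pt l).mem g' (S.pt l).el := fun {C} hC m l g g' h => by
    let d : C ⟶ K (max m l) := g ≫ tr (le_max_left m l) - g' ≫ tr (le_max_right m l)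
    obtain ⟨N, hN, hd⟩ := hdie hC (max m l) d (by
      show (g ≫ tr (le_max_left m l) - g' ≫ tr (le_max_right m l)) ≫ i (max m l) = 0
      rw [Preadditive.sub_comp, assoc, assoc, htr, htr, h, sub_self])
    have h0 : res H hC (S.pt (max m l)).mem d (S.pt (max m l)).el = 0 := by
      rw [← htrel hN, ← res_comp H, hd, res_zero]
    rw [res_sub, res_comp H hC (S.pt m).mem, htrel, res_comp H hC (S.pt l).mem, htrel, sub_eq_zero] at h0
    exact h0
  let val : ∀ {C : D} (hC : P C), (C ⟶ Y) → H.obj (op ⟨C, hC⟩) := fun {C} hC g =>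
    res H hC (S.pt (hlift hC g).choose).mem (hlift hC g).choose_spec.choose (S.pt (hlift hC g).choose).el
  have hval : ∀ {C : D} (hC : P C) (m : ℕ) (g : C ⟶ K m),
      val hC (g ≫ i m) = res H hC (S.pt m).mem g (S.pt m).el := fun {C} hC m g =>
    hwd hC _ _ _ _ (hlift hC (g ≫ i m)).choose_spec.choose_spec
  have hnat : ∀ {C C' : D} (hC : P C) (hC' : P C') (u : C ⟶ C') (g : C' ⟶ Y),
      val hC (u ≫ g) = res H hC hC' u (val hC' g) := fun {C C'} hC hC' u g => by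
    obtain ⟨m, g', rfl⟩ := hlift hC' g
    rw [← assoc, hval, hval, res_comp H hC hC']
  have hadd : ∀ {C : D} (hC : P C) (g g' : C ⟶ Y), val hC (g + g') = val hC g + val hC g' :=
    fun {C} hC g g' => by
      obtain ⟨m, a, rfl⟩ := hlift hC g
      obtain ⟨l, b, rfl⟩ := hlift hC g'
      rw [← htr (le_max_left m l), ← htr (le_max_right m l), ← assoc, ← assoc, ← Preadditive.add_comp, hval, hval,
        hval, res_add]
  have hsmul : ∀ {C : D} (hC : P C) (r : k) (g : C ⟶ Y), val hC (r • g) = r • val hC g := fun {C} hC r g => by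
    obtain ⟨m, a, rfl⟩ := hlift hC g
    rw [← Linear.smul_comp, hval, hval, res_smul H hlin]
  let ev : ∀ (C : D) (hC : P C), (C ⟶ Y) →ₗ[k] H.obj (op ⟨C, hC⟩) := fun C hC =>
    { toFun := val hC, map_add' := hadd hC, map_smul' := hsmul hC }
  let Q : ObjectProperty D := fun C => ∃ hC : ∀ n : ℤ, P (C⟦n⟧), ∀ n, Function.Bijective (ev _ (hC n))
  have hiso : ∀ {C C' : D} (e : C ≅ C') (hC : P C) (hC' : P C'),
      Function.Bijective (ev C hC) → Function.Bijective (ev C' hC') := fun {C C'} e hC hC' h => by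
    refine ⟨fun a b hab => (cancel_epi e.hom).1 (h.1 ?_), fun y => ?_⟩
    · show val hC (e.hom ≫ a) = val hC (e.hom ≫ b)
      rw [hnat hC hC', hnat hC hC']
      exact congrArg _ hab
    · obtain ⟨x, hx⟩ := h.2 (res H hC hC' e.hom y)
      refine ⟨e.inv ≫ x, ?_⟩
      show val hC' (e.inv ≫ x) = y
      rw [hnat hC' hC, show val hC x = _ from hx, ← res_comp H, e.inv_hom_id, res_id]
  have hfive : ∀ T ∈ distTriang D, ∀ (h₁ : P T.obj₁) (h₂ : P T.obj₂) (h₃ : P T.obj₃)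
      (h₁' : P (T.obj₁⟦(1 : ℤ)⟧)) (h₃' : P (T.obj₃⟦(-1 : ℤ)⟧)),
      Function.Bijective (ev _ h₁) → Function.Bijective (ev _ h₃) → Function.Bijective (ev _ h₁') →
      Function.Bijective (ev _ h₃') → Function.Bijective (ev _ h₂) := fun T hT h₁ h₂ h₃ h₁' h₃' b₁ b₃ b₁' b₃' => by
    refine ⟨(injective_iff_map_eq_zero _).2 fun g hg => ?_, fun h => ?_⟩
    · replace hg : val h₂ g = 0 := hg
      have h0 : T.mor₁ ≫ g = 0 := b₁.1 (by
        rw [map_zero]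
        show val h₁ (T.mor₁ ≫ g) = 0
        rw [hnat h₁ h₂, hg, map_zero])
      obtain ⟨g₃, rfl⟩ := Triangle.yoneda_exact₂ T hT g h0
      rw [hnat h₂ h₃] at hg
      obtain ⟨z, hz⟩ := hcoh _ (rot_of_distTriang _ hT) h₂ h₃ h₁' (val h₃ g₃) hg
      obtain ⟨w, hw⟩ := b₁'.2 z
      have : g₃ = T.mor₃ ≫ w := b₃.1 (by
        show val h₃ g₃ = val h₃ (T.mor₃ ≫ w)
        rw [hnat h₃ h₁', show val h₁' w = z from hw]
        exact hz.symm)
      rw [this, ← assoc, comp_distTriang_mor_zero₂₃ _ hT, zero_comp]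
    · obtain ⟨g₁, hg₁⟩ := b₁.2 (res H h₁ h₂ T.mor₁ h)
      replace hg₁ : val h₁ g₁ = res H h₁ h₂ T.mor₁ h := hg₁
      have hT' := inv_rot_of_distTriang _ hT
      let u : T.obj₃⟦(-1 : ℤ)⟧ ⟶ T.obj₁ := T.invRotate.mor₁
      have hu : val h₃' (u ≫ g₁) = 0 := by
        rw [hnat h₃' h₁, hg₁, ← res_comp H, show u ≫ T.mor₁ = 0 from comp_distTriang_mor_zero₁₂ _ hT', res_zero]
      obtain ⟨g₂, hg₂⟩ : ∃ g₂ : T.obj₂ ⟶ Y, g₁ = T.mor₁ ≫ g₂ :=
        Triangle.yoneda_exact₂ _ hT' g₁ (b₃'.1 (hu.trans (map_zero _).symm))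
      obtain ⟨z, hz⟩ := hcoh T hT h₁ h₂ h₃ (h - val h₂ g₂) (by
        rw [map_sub, ← hnat h₁ h₂, ← hg₁, sub_eq_zero]
        exact congrArg (val h₁) hg₂)
      obtain ⟨g₃, hg₃⟩ := b₃.2 z
      refine ⟨g₂ + T.mor₂ ≫ g₃, ?_⟩
      show val h₂ (g₂ + T.mor₂ ≫ g₃) = h
      rw [hadd, hnat h₂ h₃, show val h₃ g₃ = z from hg₃, hz, add_sub_cancel]
  haveI : Q.IsClosedUnderIsomorphisms := ⟨fun {A B} e ⟨hA, hb⟩ =>
    ⟨fun n => P.prop_of_iso ((shiftFunctor D n).mapIso e) (hA n), fun n => hiso ((shiftFunctor D n).mapIso e) _ _ (hb n)⟩⟩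
  haveI : Q.IsStableUnderRetracts := ⟨fun {A B} r ⟨hB, hb⟩ => by
    let r' := fun n : ℤ => r.map (shiftFunctor D n)
    have hA : ∀ n : ℤ, P (A⟦n⟧) := fun n => P.prop_of_retract (r' n) (hB n)
    refine ⟨hA, fun n => ⟨fun a b hab => ?_, fun y => ?_⟩⟩
    · have h1 : (r' n).r ≫ a = (r' n).r ≫ b := (hb n).1 (by
        show val (hB n) ((r' n).r ≫ a) = val (hB n) ((r' n).r ≫ b)
        rw [hnat (hB n) (hA n), hnat (hB n) (hA n)]
        exact congrArg _ hab)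
      have h2 := congrArg ((r' n).i ≫ ·) h1
      simpa using h2
    · obtain ⟨x, hx⟩ := (hb n).2 (res H (hB n) (hA n) (r' n).r y)
      refine ⟨(r' n).i ≫ x, ?_⟩
      show val (hA n) ((r' n).i ≫ x) = y
      rw [hnat (hA n) (hB n), show val (hB n) x = _ from hx, ← res_comp H, (r' n).retract, res_id]⟩
  haveI : Q.IsTriangulated :=
    { exists_zero := by
        obtain ⟨Z, hZ, hZ'⟩ := P.exists_prop_of_containsZero
        have hA : ∀ n : ℤ, P (Z⟦n⟧) := fun n => P.le_shift n _ hZ'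
        refine ⟨Z, hZ, hA, fun n => ?_⟩
        have hz := (shiftFunctor D n).map_isZero hZ
        refine ⟨fun a b _ => hz.eq_of_src a b, fun y => ⟨0, ?_⟩⟩
        rw [map_zero, ← res_id H _ y, hz.eq_of_src (𝟙 _) 0, res_zero]
      isStableUnderShiftBy := fun m => ⟨fun A ⟨hA, hb⟩ => by
        let e := fun n : ℤ => (shiftFunctorAdd D m n).app A
        exact ⟨fun n => P.prop_of_iso (e n) (hA (m + n)), fun n => hiso (e n) _ _ (hb (m + n))⟩⟩
      ext₂' := fun T hT ⟨h₁, b₁⟩ ⟨h₃, b₃⟩ => ObjectProperty.le_isoClosure _ _ (by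
        have hTn := fun n : ℤ => Triangle.shift_distinguished T hT n
        have h₂ : ∀ n : ℤ, P (T.obj₂⟦n⟧) := fun n =>
          ObjectProperty.ext_of_isTriangulatedClosed₂ P _ (hTn n) (h₁ n) (h₃ n)
        refine ⟨h₂, fun n => ?_⟩
        let e₁ : T.obj₁⟦n + 1⟧ ≅ T.obj₁⟦n⟧⟦(1 : ℤ)⟧ := (shiftFunctorAdd D n 1).app _
        let e₃ : T.obj₃⟦n + -1⟧ ≅ T.obj₃⟦n⟧⟦(-1 : ℤ)⟧ := (shiftFunctorAdd D n (-1)).app _
        exact hfive _ (hTn n) (h₁ n) (h₂ n) (h₃ n) (P.prop_of_iso e₁ (h₁ _)) (P.prop_of_iso e₃ (h₃ _))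
          (b₁ n) (b₃ n) (hiso e₁ _ _ (b₁ _)) (hiso e₃ _ _ (b₃ _))) }
  have hQG : Q G := by
    refine ⟨hG, fun n => ⟨(injective_iff_map_eq_zero _).2 fun g hg => ?_, fun y => ?_⟩⟩
    · obtain ⟨m, g', rfl⟩ := hlift (hG n) g
      replace hg : val (hG n) (g' ≫ i m) = 0 := hg
      rw [hval] at hg
      rw [← IsHocolim.comp_i hY m, ← assoc]
      exact (congrArg (· ≫ i (m + 1)) (S.kill m n g' hg)).trans zero_comp
    · obtain ⟨φ, hφ⟩ := S.surj n y
      exact ⟨φ ≫ i 0, (hval (hG n) 0 φ).trans hφ⟩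
  have hbij : ∀ (C : D) (hC : P C), Function.Bijective (ev C hC) := fun C hC => by
    obtain ⟨hC', hb⟩ := hgen Q hQG C hC
    exact hiso ((shiftFunctorZero D ℤ).app C) (hC' 0) hC (hb 0)
  refine ⟨K, S.f, Y, i, fun m => (S.pt m).mem, hY, ⟨(NatIso.ofComponents
    (fun C => (LinearEquiv.ofBijective (ev C.unop.obj C.unop.property) (hbij _ _)).toModuleIso) ?_).symm⟩⟩
  intro C C' w
  refine ModuleCat.hom_ext (LinearMap.ext fun g => ?_)
  exact hnat C'.unop.property C.unop.property w.unop.hom g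

end Groth.Agent.H9Misc.FinRep
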