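import Groth.Agent.FittX.Sheaf
import Groth.Agent.QCoh.Support
import Groth.Agent.QCoh.Extension

/-!
# A lower bound for the number of generators of a cokernel
-/

universe u

open CategoryTheory CategoryTheory.Limits AlgebraicGeometry

namespace Groth.Agent.H9Misc.FittBound

variable {X : Scheme.{u}}

/-- The cokernel of a map from a rank `a` bundle to a rank `b` bundle cannot be generated by fewer
than `b - a` sections near any point. -/
theorem not_generated_cokernel {A B : X.Modules} {a b r : ℕ} (hA : FlatMod.IsFinLocFreeOfRank a A)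
    (hB : FlatMod.IsFinLocFreeOfRank b B) (hAq : Coh.IsQCoh A) (hBq : Coh.IsQCoh B) (u : A ⟶ B)
    (hr : r + a < b) (x : X) (U : X.Opens) (hx : x ∈ U)
    (p : FlatMod.freeMod (U : Scheme.{u}) r ⟶ (cokernel u).restrict U.ι) : ¬ Epi p := by
  intro hp
  obtain ⟨U₁, hx₁, ⟨e₁⟩⟩ := hA x
  obtain ⟨U₂, hx₂, ⟨e₂⟩⟩ := hB x
  obtain ⟨_, ⟨V, hV, rfl⟩, hxV, hVU⟩ := X.isBasis_affineOpens.exists_subset_of_mem_open
    (show x ∈ U ⊓ U₁ ⊓ U₂ from ⟨⟨hx, hx₁⟩, hx₂⟩) (U ⊓ U₁ ⊓ U₂).isOpen
  have hV' : IsAffineOpen V := hV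
  have hle : V ≤ U ⊓ U₁ ⊓ U₂ := hVU
  obtain ⟨lA⟩ := QCoh.free_sections (M := A) hV' (hle.trans (inf_le_left.trans inf_le_right)) e₁
  obtain ⟨lB⟩ := QCoh.free_sections (M := B) hV' (hle.trans inf_le_right) e₂
  let π : B ⟶ cokernel u := cokernel.π u
  have hπ : u ≫ π = 0 := cokernel.condition u
  have hC : Coh.IsQCoh (cokernel u) := QCoh.isQCoh_cokernel hAq hBq u
  have hI : Coh.IsQCoh (kernel π) := QCoh.isQCoh_kernel hBq hC π
  have hex : (ShortComplex.mk u π hπ).Exact := ShortComplex.exact_cokernel u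
  haveI := hp
  obtain ⟨g, hg⟩ := FittX.exists_gens_of_epi hV' (hle.trans (inf_le_left.trans inf_le_left)) hC p
  choose g' hg' using fun i => QCoh.app_surjective_of_epi hBq hC π hV' (g i)
  haveI := hex.epi_kernelLift
  let uL : Γ(A, V) →ₗ[Γ(X, V)] Γ(B, V) :=
    { toFun := u.app V, map_add' := map_add (u.app V).hom, map_smul' := fun r x => u.app_smul r x }
  let πL : Γ(B, V) →ₗ[Γ(X, V)] Γ(cokernel u, V) :=
    { toFun := π.app V, map_add' := map_add (π.app V).hom, map_smul' := fun r x => π.app_smul r x }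
  let bA : Module.Basis (Fin a) Γ(X, V) Γ(A, V) := (Module.Basis.ofRepr lA).reindex Equiv.ulift
  let bB : Module.Basis (Fin b) Γ(X, V) Γ(B, V) := (Module.Basis.ofRepr lB).reindex Equiv.ulift
  let gens : Fin r ⊕ Fin a → Γ(B, V) := Sum.elim g' (fun j => uL (bA j))
  have htop : Submodule.span Γ(X, V) (Set.range gens) = ⊤ := by
    refine eq_top_iff.2 fun y _ => ?_
    have hy : πL y ∈ Submodule.map πL (Submodule.span Γ(X, V) (Set.range g')) := by
      rw [Submodule.map_span, ← Set.range_comp, show (πL ∘ g') = g from funext hg', hg]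
      exact Submodule.mem_top
    obtain ⟨y₁, hy₁, hy₁'⟩ := Submodule.mem_map.1 hy
    have hS : (ShortComplex.mk (kernel.ι π) π (kernel.condition π)).ShortExact :=
      { exact := ShortComplex.exact_kernel π, mono_f := inferInstance, epi_g := inferInstance }
    obtain ⟨z, hz⟩ := QCoh.exists_app_f_eq hS V (y - y₁) (by
      change πL (y - y₁) = 0
      rw [map_sub, hy₁', sub_self])
    obtain ⟨w, hw⟩ := QCoh.app_surjective_of_epi hAq hI (kernel.lift π u hπ) hV' z
    have hu : uL w = y - y₁ := by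
      rw [← hz, ← hw]
      change (u.app V) w = _
      conv_lhs => rw [← kernel.lift_ι π u hπ]
      rfl
    rw [show y = y₁ + uL w by rw [hu]; abel]
    refine Submodule.add_mem _ (Submodule.span_mono ?_ hy₁) ?_
    · rintro _ ⟨i, rfl⟩; exact ⟨Sum.inl i, rfl⟩
    · rw [← bA.sum_repr w, map_sum]
      refine Submodule.sum_mem _ fun j _ => ?_
      rw [map_smul]
      exact Submodule.smul_mem _ _ (Submodule.subset_span ⟨Sum.inr j, rfl⟩)
  haveI : Nontrivial Γ(X, V) := (X.presheaf.germ _ x hxV).hom.domain_nontrivial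
  have h1 : Module.finrank Γ(X, V) Γ(B, V) = b := by
    rw [Module.finrank_eq_card_basis bB, Fintype.card_fin]
  have h2 := finrank_le_of_span_eq_top (v := gens) htop
  rw [h1, Fintype.card_sum, Fintype.card_fin, Fintype.card_fin] at h2
  omega

end Groth.Agent.H9Misc.FittBound
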