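import Groth.Agent.QCoh.LocFree
import Groth.Agent.QCoh.Support
import Groth.Agent.QCoh.DevissageP
import Groth.Agent.QCoh.Qcqs
import Groth.Agent.H23.Frame
import Groth.Agent.GenusOneSS.Free
import Groth.Agent.Lib.CurveDeg
import Groth.Agent.KZ.LFRes
import Groth.Agent.Snapper.IsoOn

/-! A free module mapping to a push-forward, isomorphically at the generic point. -/

set_option linter.style.haveILetI false
set_option linter.unusedSectionVars false
set_option backward.isDefEq.respectTransparency false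
set_option backward.isDefEq.respectTransparency.types false

universe u

open CategoryTheory CategoryTheory.Limits AlgebraicGeometry TopologicalSpace

noncomputable section

namespace Groth.Agent.H9Misc.GenPushFree

open Groth.Agent

theorem germ_map {X : Scheme.{u}} {A B : X.Modules} (φ : A ⟶ B) {V : X.Opens} {x : X} (hx : x ∈ V) (w : Γ(A, V)) :
    (DerSch.stalkFunctor X x).map φ (A.presheaf.germ V x hx w) = B.presheaf.germ V x hx (φ.app V w) :=
  TopCat.Presheaf.stalkFunctor_map_germ_apply V x hx φ.mapPresheaf w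

/-- Bijective on an affine open gives bijective on its stalks. -/
theorem bijective_stalk {X : Scheme.{u}} {A B : X.Modules} (hA : Coh.IsQCoh A) (hB : Coh.IsQCoh B) (φ : A ⟶ B)
    {V : X.Opens} (hV : IsAffineOpen V) (hb : Function.Bijective (φ.app V)) {x : X} (hx : x ∈ V) :
    Function.Bijective ((DerSch.stalkFunctor X x).map φ).hom := by
  letI := QCoh.stalkAlg (X := X) hx
  letI := QCoh.stalkModule A hx
  letI := QCoh.stalkModule B hx
  haveI := QCoh.isScalarTower_stalk A hx
  haveI := QCoh.isScalarTower_stalk B hx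
  haveI := QCoh.isLocalization_stalk' hV hx
  haveI := QCoh.isLocalizedModule_germLin hA hV hx
  haveI := QCoh.isLocalizedModule_germLin hB hV hx
  let g := (X.presheaf.germ V x hx).hom
  let p := (hV.primeIdealOf ⟨x, hx⟩).asIdeal
  let Φ := ((DerSch.stalkFunctor X x).map φ).hom
  have hu : ∀ a : p.primeCompl, IsUnit (g (a : Γ(X, V))) := fun a =>
    (X.mem_basicOpen _ x hx).1 ((QCoh.mem_basicOpen_iff_notMem hV hx _).2 a.2)
  constructor
  · refine (injective_iff_map_eq_zero _).2 fun z hz => ?_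
    obtain ⟨⟨w, a⟩, hwa⟩ := IsLocalizedModule.surj p.primeCompl (QCoh.germLin A hx) z
    replace hwa : g a • z = A.presheaf.germ V x hx w := hwa
    have h1 : B.presheaf.germ V x hx (φ.app V w) = 0 := by
      rw [← germ_map φ hx w, ← hwa, map_smul]
      exact (congrArg (g (a : Γ(X, V)) • ·) hz).trans (smul_zero _)
    obtain ⟨c, hc, hc0⟩ := (QCoh.germ_eq_zero_iff hB hV hx _).1 h1
    have h2 : c • w = 0 := hb.1 (by
      rw [Scheme.Modules.Hom.app_smul, hc0, map_zero])
    have h3 : A.presheaf.germ V x hx w = 0 := (QCoh.germ_eq_zero_iff hA hV hx _).2 ⟨c, hc, h2⟩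
    rw [h3, (hu a).smul_eq_zero] at hwa
    exact hwa
  · intro y
    obtain ⟨⟨w, a⟩, hwa⟩ := IsLocalizedModule.surj p.primeCompl (QCoh.germLin B hx) y
    replace hwa : g a • y = B.presheaf.germ V x hx w := hwa
    obtain ⟨v, rfl⟩ := hb.2 w
    obtain ⟨e, he⟩ := (hu a).exists_left_inv
    refine ⟨e • (show (DerSch.stalkFunctor X x).obj A from A.presheaf.germ V x hx v), ?_⟩
    rw [map_smul, germ_map φ hx v, ← hwa, smul_smul, he, one_smul]

theorem exists_free_to_push {X Y : Scheme.{u}} [IsIntegral X] [IsNoetherian X] [IsIntegral Y] [IsNoetherian Y]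
    (f : X ⟶ Y) [IsFinite f] [Surjective f] :
    ∃ (r : ℕ) (M : X.Modules) (α : FlatMod.freeMod Y r ⟶ (Scheme.Modules.pushforward f).obj M) (V : Y.Opens),
      0 < r ∧ Coh.IsCoh M ∧ IsAffineOpen V ∧ genericPoint Y ∈ V ∧ Function.Bijective (α.app V) := by
  let η := genericPoint Y
  let G := (Scheme.Modules.pushforward f).obj (Coh.structureModule X)
  have hG : Coh.IsCoh G := QCoh.isCoh_pushforward_finite f QCoh.isCoh_structureModule'
  haveI : Module.Free (Y.presheaf.stalk η) (G.presheaf.stalk η) := by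
    letI : Field (Y.presheaf.stalk η) := inferInstanceAs (Field Y.functionField)
    infer_instance
  obtain ⟨W, r, hη, ⟨e⟩⟩ := QCoh.exists_free_nhd_of_free_stalk (KZ.LFRes.isFP_of_isCoh hG) η
  obtain ⟨_, ⟨V, hV, rfl⟩, hηV, hle⟩ :=
    Y.isBasis_affineOpens.exists_subset_of_mem_open (show η ∈ W from hη) W.2
  have hV' : IsAffineOpen V := hV
  obtain ⟨l⟩ := QCoh.free_sections hV' hle e
  let U : X.Opens := f ⁻¹ᵁ V
  haveI : Nonempty U := by
    obtain ⟨x, hx⟩ := f.surjective η
    exact ⟨⟨x, show f x ∈ V from hx ▸ hηV⟩⟩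
  have hr : 0 < r := by
    by_contra h
    obtain rfl : r = 0 := by omega
    haveI : Subsingleton Γ(G, V) := l.toEquiv.subsingleton
    exact not_subsingleton Γ(X, U) (inferInstanceAs (Subsingleton Γ(G, V)))
  let bs : Module.Basis (Fin r) Γ(Y, V) Γ(G, V) :=
    (Module.Basis.ofRepr l).reindex Equiv.ulift
  let O := Coh.structureModule X
  let N := (Scheme.Modules.pushforward U.ι).obj (O.restrict U.ι)
  have hN : Coh.IsQCoh N := QCoh.isQCoh_pushforward U.ι (QCoh.isQCoh_restrict U.ι QCoh.isQCoh_structureModule)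
  have himg : U.ι ''ᵁ (U.ι ⁻¹ᵁ (⊤ : X.Opens)) ≤ U := by
    rw [U.ι.image_preimage_eq_opensRange_inf, Scheme.Opens.opensRange_ι]
    exact inf_le_left
  let t : Fin r → Γ(N, ⊤) := fun i => O.presheaf.map (homOfLE himg).op (show Γ(O, U) from bs i)
  let φ : FlatMod.freeMod X r ⟶ N := ∑ i, H23.Frame.proj X r i ≫ QCoh.homOfTop (t i)
  let M := Limits.image φ
  have hfree : Coh.IsCoh (FlatMod.freeMod X r) := CurveDeg.isCoh_of_isFinLocFree (GenusOneSS.isFinLocFree_freeMod r)
  have hMq : Coh.IsQCoh M := by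
    let i : kernel (cokernel.π φ) ≅ M := (Abelian.imageIsoImage φ)
    exact (QCoh.isQCoh_iff_iso i).1 (QCoh.isQCoh_kernel hN (QCoh.isQCoh_cokernel hfree.1 hN φ) _)
  have hM : Coh.IsCoh M := QCoh.isCoh_of_epi (factorThruImage φ) hfree hMq
  let s : Fin r → Γ(M, ⊤) := fun i => (factorThruImage φ).app ⊤ ((H23.Frame.incl X r i).app ⊤ (H23.Frame.one ⊤))
  let P := (Scheme.Modules.pushforward f).obj M
  let sP : Fin r → Γ(P, ⊤) := fun i => M.presheaf.map (homOfLE le_top).op (s i)
  let α : FlatMod.freeMod Y r ⟶ P := ∑ i, H23.Frame.proj Y r i ≫ QCoh.homOfTop (sP i)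
  refine ⟨r, M, α, V, hr, hM, hV', hηV, ?_⟩
  have hst : ∀ i, (Limits.image.ι φ).app ⊤ (s i) = t i := fun i => by
    show (factorThruImage φ ≫ Limits.image.ι φ).app ⊤ _ = _
    rw [Limits.image.fac, H23.Frame.app_sum, Finset.sum_eq_single i]
    · show (H23.Frame.incl X r i ≫ H23.Frame.proj X r i ≫ QCoh.homOfTop (t i)).app ⊤ (H23.Frame.one ⊤) = _
      rw [← Category.assoc, H23.Frame.incl_proj, if_pos rfl, Category.id_comp]
      refine (QCoh.homOfTop_app (t i) (W := ⊤) (1 : Γ(X, ⊤))).trans ((one_smul _ _).trans ?_)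
      exact QCoh.map_id' (M := N) _ (t i)
    · intro j _ hj
      show (H23.Frame.incl X r i ≫ H23.Frame.proj X r j ≫ QCoh.homOfTop (t j)).app ⊤ (H23.Frame.one ⊤) = _
      rw [← Category.assoc, H23.Frame.incl_proj, if_neg (fun h => hj h.symm), Limits.zero_comp]
      rfl
    · exact fun h => absurd (Finset.mem_univ i) h
  let ψ : O ⟶ N := Snapper.resMap U O
  have hψ : Function.Bijective (ψ.app U) := Snapper.resMap_app_bijective U O le_rfl
  have key : ∀ c : Fin r → Γ(Y, V),
      (Limits.image.ι φ).app U (α.app V (∑ i, c i • (H23.Frame.incl Y r i).app V (H23.Frame.one V))) =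
        ψ.app U (show Γ(O, U) from ∑ i, c i • bs i) := fun c => by
    rw [H23.Frame.app_sum]
    have hterm : ∀ i, (H23.Frame.proj Y r i ≫ QCoh.homOfTop (sP i)).app V
        (∑ j, c j • (H23.Frame.incl Y r j).app V (H23.Frame.one V)) =
          (show Γ(X, U) from f.app V (c i)) • M.presheaf.map (homOfLE (le_top (a := U))).op (s i) := fun i => by
      show (QCoh.homOfTop (sP i)).app V ((H23.Frame.proj Y r i).app V _) = _
      refine (congrArg ((QCoh.homOfTop (sP i)).app V) (H23.Frame.proj_comb V c i)).trans ?_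
      refine (QCoh.homOfTop_app (sP i) (c i)).trans ?_
      show (show Γ(X, U) from f.app V (c i)) • M.presheaf.map (homOfLE (f.preimage_mono (le_top (a := V)))).op (M.presheaf.map (homOfLE (le_top (a := f ⁻¹ᵁ (⊤ : Y.Opens)))).op (s i)) = _
      exact congrArg ((show Γ(X, U) from f.app V (c i)) • ·) (QCoh.map_map (M := M) _ _ (s i))
    refine (congrArg _ (Finset.sum_congr rfl fun i _ => hterm i)).trans ?_
    rw [map_sum]
    refine Eq.trans ?_ (congrArg (ψ.app U)
      (show (∑ i, (show Γ(X, U) from f.app V (c i)) • (show Γ(O, U) from bs i)) = _ from rfl))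
    rw [map_sum]
    refine Finset.sum_congr rfl fun i _ => ?_
    rw [Scheme.Modules.Hom.app_smul, Scheme.Modules.Hom.app_smul]
    refine congrArg (_ • ·) ?_
    have h1 : (Limits.image.ι φ).app U (M.presheaf.map (homOfLE (le_top (a := U))).op (s i)) =
        N.presheaf.map (homOfLE (le_top (a := U))).op (t i) := by
      rw [← hst i]
      exact ConcreteCategory.congr_hom ((Limits.image.ι φ).mapPresheaf.naturality (homOfLE (le_top (a := U))).op) (s i)
    refine h1.trans ?_
    show _ = ((Scheme.Modules.restrictAdjunction U.ι).unit.app O).app U _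
    rw [Scheme.Modules.restrictAdjunction_unit_app_app]
    exact QCoh.map_map (M := O) _ _ (show Γ(O, U) from bs i)
  have hι : Function.Injective ((Limits.image.ι φ).app U) := QCoh.app_injective (Limits.image.ι φ) U
  have hfr : Function.Bijective (fun c : Fin r → Γ(Y, V) =>
      ∑ i, c i • (H23.Frame.incl Y r i).app V (H23.Frame.one V)) :=
    Function.bijective_iff_has_inverse.mpr ⟨fun x i => (show Γ(Y, V) from (H23.Frame.proj Y r i).app V x),
      fun c => funext fun j => H23.Frame.proj_comb V c j, H23.Frame.free_eq_sum V⟩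
  have hbs : Function.Bijective (fun c : Fin r → Γ(Y, V) => ∑ i, c i • bs i) := by
    have h : (fun c : Fin r → Γ(Y, V) => ∑ i, c i • bs i) = bs.equivFun.symm :=
      funext fun c => (bs.equivFun_symm_apply c).symm
    rw [h]
    exact LinearEquiv.bijective _
  refine ⟨fun a b hab => ?_, fun m => ?_⟩
  · obtain ⟨c, rfl⟩ := hfr.2 a
    obtain ⟨c', rfl⟩ := hfr.2 b
    exact congrArg (fun c : Fin r → Γ(Y, V) => ∑ i, c i • (H23.Frame.incl Y r i).app V (H23.Frame.one V))
      (hbs.1 (hψ.1 ((key c).symm.trans ((congrArg _ hab).trans (key c')))))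
  · obtain ⟨y, hy⟩ := hψ.2 ((Limits.image.ι φ).app U (show Γ(M, U) from m))
    obtain ⟨c, hc⟩ := hbs.2 (show Γ(G, V) from y)
    refine ⟨_, hι ((key c).trans ((congrArg (ψ.app U) hc).trans hy))⟩

end Groth.Agent.H9Misc.GenPushFree
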