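import Groth.Agent.KFlatLib.Scheme.TorBCTensor
import Groth.Agent.KFlatLib.Scheme.TildeAmp
import Groth.Agent.AmpleVan.AdicBase
import Groth.Agent.FlatMisc.RingPullback
import Groth.Agent.CAlgUI.Flat
import Groth.Agent.H9Misc.GenPushFree
import Groth.Agent.QCoh.Pullback

/-! Flat quasi-coherent covers on semi-separated quasi-compact schemes. -/

set_option linter.style.haveILetI false
set_option linter.unusedSectionVars false
set_option backward.isDefEq.respectTransparency false
set_option backward.isDefEq.respectTransparency.types false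

universe u

open CategoryTheory CategoryTheory.Limits AlgebraicGeometry TopologicalSpace Opposite

noncomputable section

namespace Groth.Agent.H9Misc.FlatCover

open Groth.Agent

variable {X : Scheme.{u}}

lemma exists_flat_affine [IsAffine X] {M : X.Modules} (hM : Coh.IsQCoh M) :
    ∃ (F : X.Modules) (p : F ⟶ M), Coh.IsQCoh F ∧ FlatMod.IsFlat F ∧ Epi p := by
  let e := X.isoSpec
  let M' := (Scheme.Modules.pullback e.inv).obj M
  obtain ⟨N, ⟨eN⟩⟩ := QCoh.isQCoh_spec_iff.1 (show Coh.IsQCoh M' from QCoh.isQCoh_pullback e.inv hM)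
  let P : ModuleCat.{u} Γ(X, ⊤) := ModuleCat.of Γ(X, ⊤) (N →₀ Γ(X, ⊤))
  let q : P ⟶ N := ModuleCat.ofHom (Finsupp.linearCombination Γ(X, ⊤) (id : N → N))
  haveI : Epi q := (ModuleCat.epi_iff_surjective q).2 (Finsupp.linearCombination_id_surjective Γ(X, ⊤) N)
  let T := (tilde.functor Γ(X, ⊤)).obj P
  have hT : Coh.IsQCoh T := QCoh.isQCoh_spec_iff.2 ⟨P, ⟨Iso.refl _⟩⟩
  have hf : FlatMod.IsFlat T := (KFlatLib.isFlat_tilde_iff P).2 inferInstance
  haveI : Epi ((tilde.functor Γ(X, ⊤)).map q) := inferInstance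
  let p' : T ⟶ M' := (tilde.functor Γ(X, ⊤)).map q ≫ eN.hom
  let back : (Scheme.Modules.pullback e.hom).obj M' ≅ M :=
    (Scheme.Modules.pullbackComp e.hom e.inv).app M ≪≫
      (Scheme.Modules.pullbackCongr e.hom_inv_id).app M ≪≫ (Scheme.Modules.pullbackId X).app M
  haveI : Epi p' := epi_comp _ _
  haveI : Epi ((Scheme.Modules.pullback e.hom).map p') := inferInstance
  exact ⟨(Scheme.Modules.pullback e.hom).obj T, (Scheme.Modules.pullback e.hom).map p' ≫ back.hom,
    QCoh.isQCoh_pullback e.hom hT, KFlatLib.isFlat_pullback e.hom hf, epi_comp _ _⟩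

lemma flatAt_of_bijective {A B : X.Modules} (φ : A ⟶ B) (x : X)
    (h : Function.Bijective ((DerSch.stalkFunctor X x).map φ).hom) (hB : FlatMod.IsFlatAt B x) :
    FlatMod.IsFlatAt A x := by
  haveI : Module.Flat (X.presheaf.stalk x) ((DerSch.stalkFunctor X x).obj B : Type u) := hB
  exact Module.Flat.of_linearEquiv (LinearEquiv.ofBijective _ h)

lemma flatAt_of_iso {A B : X.Modules} (e : A ≅ B) (x : X) (hB : FlatMod.IsFlatAt B x) :
    FlatMod.IsFlatAt A x :=
  flatAt_of_bijective e.hom x
    ((DerSch.stalkFunctor X x).mapIso e).toLinearEquiv.bijective hB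

lemma flatOverAt_restrict (W : X.Opens) {K : X.Modules} (y : (W : Scheme.{u}))
    (h : FlatMod.IsFlatAt K (W.ι.base y)) : FlatMod.IsFlatOverAt W.ι (K.restrict W.ι) y := by
  letI := (W.ι.stalkMap y).hom.toAlgebra
  haveI : Module.Flat (X.presheaf.stalk (W.ι.base y)) ((DerSch.stalkFunctor X (W.ι.base y)).obj K : Type u) := h
  have h1 : FlatMod.IsFlatAt ((Scheme.Modules.pullback W.ι).obj K) y :=
    (Module.Flat.equiv_iff ((KFlatLib.stalkPullbackIso W.ι y).app K).toLinearEquiv).2
      (Module.Flat.baseChange (X.presheaf.stalk (W.ι.base y)) ((W : Scheme.{u}).presheaf.stalk y)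
        ((DerSch.stalkFunctor X (W.ι.base y)).obj K : Type u))
  have h2 : FlatMod.IsFlatAt (K.restrict W.ι) y :=
    flatAt_of_iso ((Scheme.Modules.restrictFunctorIsoPullback W.ι).app K) y h1
  haveI : Module.Flat ((W : Scheme.{u}).presheaf.stalk y) ((K.restrict W.ι).presheaf.stalk y) := h2
  haveI : Module.Flat (X.presheaf.stalk (W.ι.base y)) ((W : Scheme.{u}).presheaf.stalk y) :=
    Flat.stalkMap W.ι y
  letI := FlatMod.moduleStalkOver W.ι (K.restrict W.ι) y
  haveI : IsScalarTower (X.presheaf.stalk (W.ι.base y)) ((W : Scheme.{u}).presheaf.stalk y)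
      ((K.restrict W.ι).presheaf.stalk y) := IsScalarTower.of_algebraMap_smul fun _ _ => rfl
  exact Module.Flat.trans (X.presheaf.stalk (W.ι.base y)) ((W : Scheme.{u}).presheaf.stalk y) _

lemma isAffineHom_ι (hd : ∀ V W : X.Opens, IsAffineOpen V → IsAffineOpen W → IsAffineOpen (V ⊓ W))
    {U : X.Opens} (hU : IsAffineOpen U) : IsAffineHom U.ι := by
  refine ⟨fun W hW => (Scheme.Opens.ι U).isAffineOpen_iff_of_isOpenImmersion.1 ?_⟩
  rw [Scheme.Hom.image_preimage_eq_opensRange_inf, Scheme.Opens.opensRange_ι]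
  exact hd U W hU hW

lemma flatAt_push (hd : ∀ V W : X.Opens, IsAffineOpen V → IsAffineOpen W → IsAffineOpen (V ⊓ W))
    {U V : X.Opens} (hU : IsAffineOpen U) (hV : IsAffineOpen V) {K : (U : Scheme.{u}).Modules}
    (hK : Coh.IsQCoh K) {x : X} (hx : x ∈ V)
    (h : ∀ y : X, y ∈ V → y ∈ U → FlatMod.IsFlatAt ((Scheme.Modules.pushforward U.ι).obj K) y) :
    FlatMod.IsFlatAt ((Scheme.Modules.pushforward U.ι).obj K) x := by
  let W : X.Opens := V ⊓ U
  haveI := isAffineHom_ι hd hU
  haveI : IsAffineHom W.ι := isAffineHom_ι hd (hd V U hV hU)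
  let N := (Scheme.Modules.pushforward U.ι).obj K
  have hN : Coh.IsQCoh N := QCoh.isQCoh_pushforward U.ι hK
  have hN' : Coh.IsQCoh (N.restrict W.ι) := QCoh.isQCoh_restrict _ hN
  have hfl : FlatMod.IsFlat ((Scheme.Modules.pushforward W.ι).obj (N.restrict W.ι)) :=
    KFlatLib.TorBC.isFlat_pushforward_of_flatOver W.ι hN' fun y => flatOverAt_restrict W y
      (h _ y.2.1 y.2.2)
  refine flatAt_of_bijective ((Scheme.Modules.restrictAdjunction W.ι).unit.app N) x
    (GenPushFree.bijective_stalk hN (QCoh.isQCoh_pushforward W.ι hN') _ hV ?_ hx) (hfl x)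
  have he : U.ι ⁻¹ᵁ V = U.ι ⁻¹ᵁ (W.ι ''ᵁ (W.ι ⁻¹ᵁ V)) := by
    rw [Scheme.Hom.image_preimage_eq_opensRange_inf, Scheme.Opens.opensRange_ι]
    ext y
    exact ⟨fun hy => ⟨⟨hy, y.2⟩, hy⟩, fun hy => hy.2⟩
  have hi : IsIso (N.presheaf.map (homOfLE (W.ι.image_preimage_le V)).op) :=
    KFlatLib.isIso_presheaf_map K.presheaf ((Opens.map U.ι.base).map (homOfLE (W.ι.image_preimage_le V))).op he
  rw [Scheme.Modules.restrictAdjunction_unit_app_app]
  exact ConcreteCategory.bijective_of_isIso (N.presheaf.map (homOfLE (W.ι.image_preimage_le V)).op)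

lemma shortExact_pullback_fst {G A B : X.Modules} (η : G ⟶ B) (P : A ⟶ B) [Epi P] :
    (ShortComplex.mk (pullback.lift (0 : kernel P ⟶ G) (kernel.ι P) (by simp)) (pullback.fst η P)
      (pullback.lift_fst _ _ _)).ShortExact := by
  haveI : Mono (pullback.lift (0 : kernel P ⟶ G) (kernel.ι P) (by simp) : kernel P ⟶ pullback η P) :=
    mono_of_mono_fac (pullback.lift_snd (f := η) (g := P) _ _ _)
  refine ⟨ShortComplex.exact_of_f_is_kernel _ (KernelFork.IsLimit.ofι' _ _ fun {A'} k hk => ?_)⟩
  have hk2 : (k ≫ pullback.snd η P) ≫ P = 0 := by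
    rw [Category.assoc, ← pullback.condition, reassoc_of% hk, zero_comp]
  refine ⟨kernel.lift P (k ≫ pullback.snd η P) hk2, ?_⟩
  apply pullback.hom_ext
  · simp only [Category.assoc, pullback.lift_fst, comp_zero]
    exact hk.symm
  · simp

lemma flat_ext {R : Type u} [CommRing R] (S : ShortComplex (ModuleCat.{u} R)) (hS : S.ShortExact)
    (h1 : Module.Flat R S.X₁) (h3 : Module.Flat R S.X₃) : Module.Flat R S.X₂ :=
  CAlgUI.flat_middle (f := S.f.hom) (g := S.g.hom) hS.moduleCat_injective_f
    ((ShortComplex.ShortExact.moduleCat_exact_iff_function_exact S).1 hS.exact)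
    hS.moduleCat_surjective_g

lemma flat_ker {R : Type u} [CommRing R] (S : ShortComplex (ModuleCat.{u} R)) (hS : S.ShortExact)
    (h2 : Module.Flat R S.X₂) (h3 : Module.Flat R S.X₃) : Module.Flat R S.X₁ :=
  FlatMisc.flat_of_exact S.f.hom S.g.hom hS.moduleCat_injective_f hS.moduleCat_surjective_g
    ((ShortComplex.ShortExact.moduleCat_exact_iff_function_exact S).1 hS.exact)

theorem exists_flat_list (hd : ∀ V W : X.Opens, IsAffineOpen V → IsAffineOpen W → IsAffineOpen (V ⊓ W))
    {M : X.Modules} (hM : Coh.IsQCoh M) (l : List X.affineOpens) :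
    ∃ (G : X.Modules) (π : G ⟶ M), Coh.IsQCoh G ∧ Epi π ∧
      ∀ V ∈ l, ∀ x ∈ V.1, FlatMod.IsFlatAt G x := by
  induction l with
  | nil => exact ⟨M, 𝟙 M, hM, inferInstance, fun V hV => by simp at hV⟩
  | cons a l ih =>
    obtain ⟨G, π, hG, hπ, hfl⟩ := ih
    haveI := hπ
    obtain ⟨U, hU⟩ := a
    haveI : IsAffine U.toScheme := hU
    haveI := isAffineHom_ι hd hU
    have hGU : Coh.IsQCoh (G.restrict U.ι) := QCoh.isQCoh_restrict _ hG
    obtain ⟨F, p, hF, hFf, hp⟩ := exists_flat_affine hGU
    haveI := hp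
    let jF := (Scheme.Modules.pushforward U.ι).obj F
    let jG := (Scheme.Modules.pushforward U.ι).obj (G.restrict U.ι)
    let P : jF ⟶ jG := (Scheme.Modules.pushforward U.ι).map p
    haveI : Epi P := AmpleVan.epi_push U.ι hF hGU p
    have hjF : Coh.IsQCoh jF := QCoh.isQCoh_pushforward U.ι hF
    have hjG : Coh.IsQCoh jG := QCoh.isQCoh_pushforward U.ι hGU
    have hjFf : FlatMod.IsFlat jF := by
      refine KFlatLib.TorBC.isFlat_pushforward_of_flatOver U.ι hF fun y => ?_
      haveI : Module.Flat ((U : Scheme.{u}).presheaf.stalk y) (F.presheaf.stalk y) := hFf y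
      letI := (U.ι.stalkMap y).hom.toAlgebra
      haveI : Module.Flat (X.presheaf.stalk (U.ι.base y)) ((U : Scheme.{u}).presheaf.stalk y) :=
        Flat.stalkMap U.ι y
      letI := FlatMod.moduleStalkOver U.ι F y
      haveI : IsScalarTower (X.presheaf.stalk (U.ι.base y)) ((U : Scheme.{u}).presheaf.stalk y)
          (F.presheaf.stalk y) := IsScalarTower.of_algebraMap_smul fun _ _ => rfl
      exact Module.Flat.trans (X.presheaf.stalk (U.ι.base y)) ((U : Scheme.{u}).presheaf.stalk y) _
    let η : G ⟶ jG := (Scheme.Modules.restrictAdjunction U.ι).unit.app G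
    have hsq : IsPullback (pullback.fst η P) (pullback.snd η P) η P := IsPullback.of_hasPullback η P
    -- quasi-coherence
    let d : G ⊞ jF ⟶ jG := biprod.desc η (-P)
    have hbi : Coh.IsQCoh (G ⊞ jF) := QCoh.isQCoh_X₂
      (S := ShortComplex.mk (biprod.inl : G ⟶ G ⊞ jF) biprod.snd biprod.inl_snd)
      (ShortComplex.Splitting.ofHasBinaryBiproduct _ _).shortExact hG hjF
    let eK : pullback η P ≅ kernel d :=
      { hom := kernel.lift d (biprod.lift (pullback.fst η P) (pullback.snd η P)) (by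
          simp [d, pullback.condition])
        inv := pullback.lift (kernel.ι d ≫ biprod.fst) (kernel.ι d ≫ biprod.snd) (by
          have h := kernel.condition d
          have hd' : d = biprod.fst ≫ η - biprod.snd ≫ P := by
            apply biprod.hom_ext' <;> simp [d]
          have h' : kernel.ι d ≫ (biprod.fst ≫ η - biprod.snd ≫ P) = 0 := by
            rw [← hd']; exact h
          rw [Preadditive.comp_sub, sub_eq_zero] at h'
          simpa only [Category.assoc] using h')
        hom_inv_id := by apply pullback.hom_ext <;> simp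
        inv_hom_id := by apply equalizer.hom_ext; apply biprod.hom_ext <;> simp }
    have hq : Coh.IsQCoh (pullback η P) :=
      (QCoh.isQCoh_iff_iso eK).2 (QCoh.isQCoh_kernel hbi hjG d)
    haveI : Epi (pullback.fst η P) := inferInstance
    refine ⟨pullback η P, pullback.fst η P ≫ π, hq, epi_comp _ _, ?_⟩
    have hηU : ∀ x ∈ U, IsIso ((DerSch.stalkFunctor X x).map η) := by
      intro x hx
      haveI := KFlatLib.isIso_pushUnit_app U G U le_rfl
      exact (ConcreteCategory.isIso_iff_bijective _).2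
        (GenPushFree.bijective_stalk hG hjG η hU (ConcreteCategory.bijective_of_isIso (η.app U)) hx)
    intro V hV x hxV
    by_cases hxU : x ∈ U
    · haveI := hηU x hxU
      have h' := hsq.map (DerSch.stalkFunctor X x)
      haveI : IsIso ((DerSch.stalkFunctor X x).map (pullback.snd η P)) := h'.isIso_snd_of_isIso
      exact flatAt_of_bijective (pullback.snd η P) x (ConcreteCategory.bijective_of_isIso _) (hjFf x)
    · rcases List.mem_cons.1 hV with h | hVl
      · subst h
        exact absurd hxV hxU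
      -- the kernel
      let eP : (Scheme.Modules.pushforward U.ι).obj (kernel p) ≅ kernel P :=
        PreservesKernel.iso (Scheme.Modules.pushforward U.ι) p
      have hKflatU : ∀ y : X, y ∈ V.1 → FlatMod.IsFlatAt G y → y ∈ U → FlatMod.IsFlatAt (kernel P) y := by
        intro y _ hGy hyU
        haveI := hηU y hyU
        let η' := asIso ((DerSch.stalkFunctor X y).map η)
        haveI : Module.Flat (X.presheaf.stalk y) ((DerSch.stalkFunctor X y).obj G : Type u) := hGy
        have hGj : Module.Flat (X.presheaf.stalk y) ((DerSch.stalkFunctor X y).obj jG : Type u) :=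
          Module.Flat.of_linearEquiv η'.toLinearEquiv.symm
        have hS : (ShortComplex.mk (kernel.ι P) P (kernel.condition P)).ShortExact :=
          { exact := ShortComplex.exact_of_f_is_kernel _ (kernelIsKernel P) }
        exact flat_ker _ (hS.map_of_exact (DerSch.stalkFunctor X y)) (hjFf y) hGj
      have hKx : FlatMod.IsFlatAt (kernel P) x :=
        flatAt_of_iso eP.symm x (flatAt_push hd hU V.2 (QCoh.isQCoh_kernel hF hGU p) hxV
          fun y hyV hyU => flatAt_of_iso eP y (hKflatU y hyV (hfl V hVl y hyV) hyU))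
      exact flat_ext _ ((shortExact_pullback_fst η P).map_of_exact (DerSch.stalkFunctor X x)) hKx
        (hfl V hVl x hxV)

theorem exists_flat_cover [CompactSpace X]
    (hd : ∀ V W : X.Opens, IsAffineOpen V → IsAffineOpen W → IsAffineOpen (V ⊓ W))
    {M : X.Modules} (hM : Coh.IsQCoh M) :
    ∃ (F : X.Modules) (π : F ⟶ M), Coh.IsQCoh F ∧ FlatMod.IsFlat F ∧ Epi π := by
  classical
  obtain ⟨s, hs⟩ := isCompact_univ.elim_finite_subcover (fun V : X.affineOpens => (V.1 : Set X))
    (fun V => V.1.isOpen) (fun x _ => by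
      obtain ⟨_, ⟨V, hV, rfl⟩, hx, -⟩ :=
        X.isBasis_affineOpens.exists_subset_of_mem_open (Set.mem_univ x) isOpen_univ
      exact Set.mem_iUnion.2 ⟨⟨V, hV⟩, hx⟩)
  obtain ⟨G, π, hG, hπ, hfl⟩ := exists_flat_list hd hM s.toList
  refine ⟨G, π, hG, fun x => ?_, hπ⟩
  obtain ⟨V, hVs, hx⟩ := Set.mem_iUnion₂.1 (hs (Set.mem_univ x))
  exact hfl V (Finset.mem_toList.2 hVs) x hx

end Groth.Agent.H9Misc.FlatCover
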