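import Groth.Agent.H9Misc.FlatCxUCT
import Groth.Prelude.Def_ega3

/-! Monomorphism-preserving tensor homology functors over a Dedekind domain. -/

universe u

open CategoryTheory CategoryTheory.Limits

namespace Groth.Agent.H9Misc.FlatCxDedekind

open Groth.Agent.FlatCxLib

variable {A : Type u} [CommRing A] [IsDedekindDomain A]
  (P : ChainComplex (ModuleCat.{u} A) ℤ) (hP : ∀ i, Module.Flat A (P.X i))

include hP in
theorem preservesMono_iff_flat_homology (p : ℤ) :
    (CohIII.TFun P p).PreservesMonomorphisms ↔ Module.Flat A (P.homology p) := by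
  obtain ⟨r, hr⟩ : ∃ r, r + 1 = p := ⟨p - 1, by omega⟩
  haveI := hP r
  haveI : Module.Flat A (LinearMap.range (cokerDesc P (p + 1) p r)) := by
    rw [range_cokerDesc]
    exact FlatCxUCT.flat_submodule _
  rw [preservesMono_iff hP (rfl : p + 1 = p + 1)]
  have e : Hom' P (p + 1) p r ≃ₗ[A] P.homology p := hom'Equiv rfl hr
  refine ⟨fun _ => ?_, fun _ => ?_⟩
  · haveI : Module.Flat A (Hom' P (p + 1) p r) := flat_sub_of_flat (hom'ToCoker_injective P (p + 1) p r)
      (exact_hom'ToCoker P (p + 1) p r) (LinearMap.surjective_rangeRestrict _)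
    exact Module.Flat.of_linearEquiv e.symm
  · haveI : Module.Flat A (Hom' P (p + 1) p r) := Module.Flat.of_linearEquiv e
    exact flat_of_flat_sub_quotient (hom'ToCoker_injective P (p + 1) p r)
      (exact_hom'ToCoker P (p + 1) p r) (LinearMap.surjective_rangeRestrict _)

end Groth.Agent.H9Misc.FlatCxDedekind
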