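import Groth.Agent.H9Misc.KosOrth
import Groth.Agent.SiteBase.RpushD.Gen
import Groth.Agent.ModPull.Refine

/-!
# Derived direct images preserve objects with zero derived completion
-/

set_option linter.style.haveILetI false
set_option maxHeartbeats 1000000

universe u

open CategoryTheory CategoryTheory.Category CategoryTheory.Limits Opposite CategoryTheory.Pretriangulated
open DerivedCategory (Qh Q quotientCompQhIso)

attribute [local instance] HasDerivedCategory.standard

namespace Groth.Agent.H9Misc.Kos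

section Transfer

variable {A : Type (u + 1)} [Category.{u} A] [Abelian A] [IsGrothendieckAbelian.{u} A]
  {B : Type (u + 1)} [Category.{u} B] [Abelian B] [IsGrothendieckAbelian.{u} B]
  {F : A ⥤ B} {G : B ⥤ A} (adj : F ⊣ G) [F.Additive] [G.Additive]
  (hgood : ∀ M : A, ∃ (P : A) (π : P ⟶ M), LeftAdjExists.Good G P ∧ Epi π)

include adj hgood in
/-- Vanishing of maps from a bounded good complex transfers along the derived adjunction. -/
theorem subsingleton_totalRightDerived
    [(G.mapHomotopyCategory (ComplexShape.up ℤ) ⋙ Qh).HasRightDerivedFunctor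
      (HomotopyCategory.quasiIso B (ComplexShape.up ℤ))]
    (P : CochainComplex A ℤ) (a : ℤ) [P.IsStrictlyLE a] (hP : ∀ n, LeftAdjExists.Good G (P.X n))
    (M : DerivedCategory B) (h : Subsingleton (Q.obj ((F.mapHomologicalComplex (ComplexShape.up ℤ)).obj P) ⟶ M)) :
    Subsingleton (Q.obj P ⟶ ((G.mapHomotopyCategory (ComplexShape.up ℤ) ⋙ Qh).totalRightDerived Qh
      (HomotopyCategory.quasiIso B (ComplexShape.up ℤ))).obj M) := by
  have := SiteBase.RpushD.qh_isLeftAdjoint (A := B)
  let adjQ := Adjunction.ofIsLeftAdjoint (Qh (C := B))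
  let W := HomotopyCategory.quasiIso B (ComplexShape.up ℤ)
  have := TriCat.isRightDerivedFunctor_of_adjunction adjQ W (G.mapHomotopyCategory (ComplexShape.up ℤ) ⋙ Qh)
  let eR := (Functor.rightDerivedUnique (LeftAdjExists.RG G Qh.rightAdjoint) _
    (Functor.whiskerRight adjQ.unit (G.mapHomotopyCategory (ComplexShape.up ℤ) ⋙ Qh) :
      G.mapHomotopyCategory (ComplexShape.up ℤ) ⋙ Qh ⟶ Qh ⋙ Qh.rightAdjoint ⋙ G.mapHomotopyCategory (ComplexShape.up ℤ) ⋙ Qh)
    ((G.mapHomotopyCategory (ComplexShape.up ℤ) ⋙ Qh).totalRightDerivedUnit Qh W) W).app M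
  let FK := F.mapHomotopyCategory (ComplexShape.up ℤ)
  let a' := (SerreDerived.adjHtpy (ComplexShape.up ℤ) adj).comp adjQ
  let PK := (HomotopyCategory.quotient A (ComplexShape.up ℤ)).obj P
  let i : Qh.obj (FK.obj PK) ≅ Q.obj ((F.mapHomologicalComplex (ComplexShape.up ℤ)).obj P) :=
    Qh.mapIso ((F.mapHomotopyCategoryFactors (ComplexShape.up ℤ)).app P) ≪≫
      (quotientCompQhIso B).app _
  have h1 : Subsingleton (Qh.obj (FK.obj PK) ⟶ M) := i.homFromEquiv.subsingleton
  have h2 : Subsingleton (Qh.obj PK ⟶ (LeftAdjExists.RG G Qh.rightAdjoint).obj M) :=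
    @Equiv.subsingleton _ _ ((a'.homEquiv PK M).trans
      (Equiv.ofBijective _ (LeftAdjExists.Qh_map_bijective adj hgood adjQ P a hP M))).symm h1
  exact @Equiv.subsingleton _ _ ((((quotientCompQhIso A).app P).homCongr eR).symm) h2

end Transfer

variable {C D : Type u} [SmallCategory C] [SmallCategory D]
  {J : GrothendieckTopology C} {K : GrothendieckTopology D}
  {O_C : Sheaf J CommRingCat.{u}} {O_D : Sheaf K CommRingCat.{u}} (f : ModSite.RMor O_C O_D)

/-- The image of a list of sections. -/
abbrev imageList {V : D} (l : List (O_D.obj.obj (op V))) : List (O_C.obj.obj (op (f.fn.obj V))) :=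
  l.map fun a => (f.sharp.hom.app (op V)).hom a

lemma spanAt_image {V V' : D} (l : List (O_D.obj.obj (op V))) (q : V' ⟶ V) {y : O_D.obj.obj (op V')}
    (hy : y ∈ spanAt l q) {X : C} (t : X ⟶ f.fn.obj V') :
    (O_C.obj.map t.op).hom ((f.sharp.hom.app (op V')).hom y) ∈ spanAt (imageList f l) (t ≫ f.fn.map q) := by
  let φ : O_D.obj.obj (op V') →+* O_C.obj.obj (op X) := (O_C.obj.map t.op).hom.comp (f.sharp.hom.app (op V')).hom
  refine (Ideal.map_le_iff_le_comap.1 (le_of_eq ?_) :
    spanAt l q ≤ Ideal.comap φ (spanAt (imageList f l) (t ≫ f.fn.map q))) hy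
  rw [spanAt, spanAt, Ideal.map_span, Set.image_image]
  congr 1
  have key : ∀ a, φ ((O_D.obj.map q.op).hom a) =
      (O_C.obj.map (t ≫ f.fn.map q).op).hom ((f.sharp.hom.app (op V)).hom a) := fun a => by
    rw [op_comp, Functor.map_comp]
    exact congrArg (O_C.obj.map t.op).hom (CategoryTheory.congr_fun (f.sharp.hom.naturality q.op) a)
  ext z
  simp only [Set.mem_image, Set.mem_setOf_eq, imageList, List.mem_map]
  constructor
  · rintro ⟨a, ha, rfl⟩
    exact ⟨_, ⟨a, ha, rfl⟩, (key a).symm⟩
  · rintro ⟨_, ⟨a, ha, rfl⟩, rfl⟩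
    exact ⟨a, ha, key a⟩

/-- Local generators of `I` give local generators of the extended ideal. -/
theorem GenPair.image {I : DerComp.IdealSh O_D} {I' : DerComp.IdealSh O_C} (hI' : DerComp.RIsIdealExt f I I')
    {V : D} {l : List (O_D.obj.obj (op V))} (hl : GenPair I V l) : GenPair I' (f.fn.obj V) (imageList f l) where
  mem a' ha' := by
    obtain ⟨a, ha, rfl⟩ := List.mem_map.1 ha'
    exact hI'.1 V a (hl.mem a ha)
  loc X h g hg := by
    let K' : DerComp.IdealSh O_C :=
      { ideal := fun U =>
          { carrier := {g | ∀ ⦃X : C⦄ (m : X ⟶ U) (h : X ⟶ f.fn.obj V), ∃ S ∈ J X, ∀ ⦃X' : C⦄ (k : X' ⟶ X),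
              S k → (O_C.obj.map (k ≫ m).op).hom g ∈ spanAt (imageList f l) (k ≫ h)}
            zero_mem' := fun X m h => ⟨⊤, J.top_mem _, fun X' k _ => by rw [map_zero]; exact zero_mem _⟩
            add_mem' := by
              intro x y hx hy X m h
              obtain ⟨S, hS, hx⟩ := hx m h
              obtain ⟨T, hT, hy⟩ := hy m h
              exact ⟨S ⊓ T, J.intersection_covering hS hT, fun X' k hk => by
                rw [map_add]; exact add_mem (hx k hk.1) (hy k hk.2)⟩
            smul_mem' := by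
              intro c x hx X m h
              obtain ⟨S, hS, hx⟩ := hx m h
              exact ⟨S, hS, fun X' k hk => by
                rw [smul_eq_mul, map_mul]; exact Ideal.mul_mem_left _ _ (hx k hk)⟩ }
        map_mem := fun {U U'} p g hg X m h => by
          obtain ⟨S, hS, hs⟩ := hg (m ≫ p) h
          refine ⟨S, hS, fun X' k hk => ?_⟩
          have := hs k hk
          rw [← assoc, op_comp (g := p), Functor.map_comp] at this
          exact this
        glue := fun {U g} T hT hf X m h => by
          refine ⟨{ arrows := fun X' k => (O_C.obj.map (k ≫ m).op).hom g ∈ spanAt (imageList f l) (k ≫ h)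
                    downward_closed := fun {X₁ X₂ k} hk t => by
                      have h1 := spanAt_map _ _ t hk
                      rw [assoc, assoc, op_comp, Functor.map_comp]
                      exact h1 }, J.transitive (J.pullback_stable m hT) _ fun X' k hk => ?_, fun X' k hk => hk⟩
          obtain ⟨S, hS, hs⟩ := hf (k ≫ m) hk (𝟙 X') (k ≫ h)
          refine J.superset_covering (fun X'' t ht => ?_) hS
          have := hs t ht
          show (O_C.obj.map ((t ≫ k) ≫ m).op).hom g ∈ spanAt (imageList f l) ((t ≫ k) ≫ h)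
          rw [comp_id] at this
          rw [assoc, assoc, op_comp, Functor.map_comp]
          exact this }
    have hK : DerComp.RMapsIdealInto f I K' := by
      intro V' x hx X m h
      refine ⟨{ arrows := fun X' k => (O_C.obj.map (k ≫ m).op).hom ((f.sharp.hom.app (op V')).hom x) ∈
                  spanAt (imageList f l) (k ≫ h)
                downward_closed := fun {X₁ X₂ k} hk t => by
                  have h1 := spanAt_map _ _ t hk
                  rw [assoc, assoc, op_comp, Functor.map_comp]
                  exact h1 }, ?_, fun X' k hk => hk⟩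
      refine J.transitive (ModPull.pairSieve_mem (K := K) f.fn m h) _ ?_
      rintro X₁ k ⟨V'', a₁, a₂, t, e₁, e₂⟩
      obtain ⟨S, hS, hs⟩ := hl.loc a₂ ((O_D.obj.map a₁.op).hom x) (I.map_mem a₁ hx)
      refine J.superset_covering ?_ (ModPull.imgSieve_mem f.fn hS t)
      rintro X₂ k' ⟨V₃, s, t', hS', e⟩
      have h1 := spanAt_image f l _ (hs s hS') t'
      have e' : t' ≫ f.fn.map (s ≫ a₂) = (k' ≫ k) ≫ h := by
        rw [Functor.map_comp, reassoc_of% e, e₂, assoc]
      have e'' : t' ≫ f.fn.map (s ≫ a₁) = (k' ≫ k) ≫ m := by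
        rw [Functor.map_comp, reassoc_of% e, e₁, assoc]
      rw [e'] at h1
      show (O_C.obj.map ((k' ≫ k) ≫ m).op).hom ((f.sharp.hom.app (op V')).hom x) ∈ _
      rw [← e'', op_comp, Functor.map_comp]
      refine (congrArg (fun z => (O_C.obj.map t'.op).hom z ∈ _) ?_).mp h1
      refine Eq.trans ?_ (CategoryTheory.congr_fun (f.sharp.hom.naturality (s ≫ a₁).op) x)
      refine congrArg (f.sharp.hom.app (op V₃)).hom ?_
      rw [op_comp, Functor.map_comp]
      rfl
    obtain ⟨S, hS, hs⟩ := hI'.2 K' hK X hg (𝟙 X) h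
    refine ⟨S, hS, fun X' k hk => ?_⟩
    have := hs k hk
    rwa [comp_id] at this

lemma good_biprod_iso {M N : ModSite.Mod O_D} (e : M ≅ N) (h : LeftAdjExists.Good f.push M) :
    LeftAdjExists.Good f.push N := fun E hE n => by
  have := h E hE n
  refine ⟨fun x y => ?_⟩
  rw [← Abelian.Ext.mk₀_id_comp x, ← Abelian.Ext.mk₀_id_comp y, ← e.inv_hom_id,
    ← Abelian.Ext.mk₀_comp_mk₀_assoc, ← Abelian.Ext.mk₀_comp_mk₀_assoc,
    Subsingleton.elim ((Abelian.Ext.mk₀ e.hom).comp x (zero_add _))]

lemma good_kosFree (V : D) (l : List (O_D.obj.obj (op V))) (m : ℤ) :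
    LeftAdjExists.Good f.push ((kosFree V l).X m) := by
  refine KosCx.Kc_terms (fun M => LeftAdjExists.Good f.push ((ModSite.extZero O_D V).obj M))
    (fun e => good_biprod_iso f ((ModSite.extZero O_D V).mapIso e))
    (fun M N hM hN =>
      haveI : PreservesBinaryBiproducts (ModSite.extZero O_D V) :=
        preservesBinaryBiproducts_of_preservesBinaryCoproducts _
      good_biprod_iso f ((ModSite.extZero O_D V).mapBiprod M N).symm
      (LeftAdjExists.good_biprod hM hN)) _ _ (fun j => ?_) m
  by_cases hj : j = 0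
  · subst hj
    exact good_biprod_iso f ((ModSite.extZero O_D V).mapIso
      (HomologicalComplex.singleObjXSelf (ComplexShape.up ℤ) 0 (ModSite.unit (O_D.over V))).symm)
      (DerCompPush.good_freeOn f V)
  · exact LeftAdjExists.good_of_isZero
      ((ModSite.extZero O_D V).map_isZero (HomologicalComplex.isZero_single_obj_X _ _ _ _ hj))

/-- The inverse image of an extended Koszul complex. -/
theorem nonempty_pull_kosFree (V : D) (l : List (O_D.obj.obj (op V))) :
    Nonempty ((f.pull.mapHomologicalComplex (ComplexShape.up ℤ)).obj (kosFree V l) ≅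
      kosFree (f.fn.obj V) (imageList f l)) := by
  let r := fun a : O_D.obj.obj (op V) => DerComp.GSec.ofSect O_D V a
  let r' := fun a : O_D.obj.obj (op V) =>
    DerComp.GSec.ofSect O_C (f.fn.obj V) ((f.sharp.hom.app (op V)).hom a)
  have h := KosCx.inter_Kc r r' (ModSite.extZero O_D V ⋙ f.pull) (ModSite.extZero O_C (f.fn.obj V)) l
    (KosLin.inter_single r r' (ModSite.extZero O_D V ⋙ f.pull) (ModSite.extZero O_C (f.fn.obj V)) 0
      (DerCompPush.pullFreeIso f V) fun a => by
        rw [KosLin.smulEnd_id_eq, KosLin.smulEnd_id_eq]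
        exact (DerCompPush.pullFreeIso_comm f V a).symm)
  obtain ⟨e, -⟩ := h
  have hl : (imageList f l).map (fun a => DerComp.GSec.ofSect O_C (f.fn.obj V) a) = l.map r' := List.map_map ..
  exact ⟨(Iso.refl _) ≪≫ e ≪≫
    eqToIso (congrArg (fun L => ((ModSite.extZero O_C (f.fn.obj V)).mapHomologicalComplex (ComplexShape.up ℤ)).obj
      (KosCx.Kc L ((HomologicalComplex.single _ (ComplexShape.up ℤ) 0).obj _))) hl.symm)⟩

/-- Derived direct images preserve the Koszul condition. -/
theorem kosOrth_RpushD [SiteCmp.HasRpushD f] {I : DerComp.IdealSh O_D} {I' : DerComp.IdealSh O_C}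
    (hI' : DerComp.RIsIdealExt f I I') {N : DerivedCategory (ModSite.Mod O_C)} (hN : KosOrth O_C I' N) :
    KosOrth O_D I ((SiteCmp.RpushD f).obj N) := by
  intro V l hl n
  have : f.pull.Additive := f.adj.left_adjoint_additive
  obtain ⟨e⟩ := nonempty_pull_kosFree f V l
  let P := (kosFree V l)⟦-n⟧
  have : CochainComplex.IsStrictlyLE (kosFree V l) 0 := by
    have := KosCx.Kc_isStrictlyLE (l.map fun a => DerComp.GSec.ofSect O_D V a)
      ((HomologicalComplex.single (ModSite.Mod (O_D.over V)) (ComplexShape.up ℤ) 0).obj (ModSite.unit (O_D.over V))) 0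
    rw [CochainComplex.isStrictlyLE_iff] at this ⊢
    exact fun i hi => (ModSite.extZero O_D V).map_isZero (this i hi)
  have hP : CochainComplex.IsStrictlyLE P n := CochainComplex.isStrictlyLE_shift (kosFree V l) 0 (-n) n (by omega)
  have h0 := hN _ _ (GenPair.image f hI' hl) n
  let i : Q.obj ((f.pull.mapHomologicalComplex (ComplexShape.up ℤ)).obj P) ≅
      (Q.obj (kosFree (f.fn.obj V) (imageList f l)))⟦-n⟧ :=
    Q.mapIso (((f.pull.mapHomologicalComplex (ComplexShape.up ℤ)).commShiftIso (-n)).app _ ≪≫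
      (shiftFunctor _ (-n)).mapIso e) ≪≫ (Q.commShiftIso (-n)).app _
  have h1 : Subsingleton ((Q.obj (kosFree (f.fn.obj V) (imageList f l)))⟦-n⟧ ⟶ N) :=
    @Equiv.subsingleton _ _ (((shiftEquiv' _ (-n) n (neg_add_cancel n)).toAdjunction.homEquiv _ _)) h0
  have h2 := subsingleton_totalRightDerived f.adj (RpushLeftAdj.exists_good f) P n
    (fun m => good_kosFree f V l _) N (i.homFromEquiv.subsingleton)
  exact @Equiv.subsingleton _ _
    (((Q.commShiftIso (-n)).app (kosFree V l)).homFromEquiv.trans
      ((shiftEquiv' _ (-n) n (neg_add_cancel n)).toAdjunction.homEquiv _ _)).symm h2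

end Groth.Agent.H9Misc.Kos
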