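import Groth.Agent.H9Misc.KosOrth
import Groth.Agent.ModTensor.KFlat
import Mathlib.Algebra.Homology.BifunctorHomotopy

/-!
# Internal hom and derived completion
-/

set_option linter.style.haveILetI false
set_option maxHeartbeats 1000000

universe u

open CategoryTheory CategoryTheory.Category CategoryTheory.Limits Opposite CategoryTheory.Pretriangulated
open Groth.Agent.ModTensor

attribute [local instance] HasDerivedCategory.standard

namespace Groth.Agent.H9Misc.Kos

variable {C : Type u} [SmallCategory C] {J : GrothendieckTopology C} {O : Sheaf J CommRingCat.{u}}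
  {I : DerComp.IdealSh O}

/-- A map to a complete object whose composites with maps out of Koszul complexes are bijective is a completion. -/
theorem isIso_of_kos_bijective [DerComp.HasDerCompletion O I] (hI : I.IsFiniteType)
    {X : DerivedCategory (ModSite.Mod O)} (Y : DerComp.DComp O I) (α : X ⟶ Y.obj)
    (h : ∀ V l, GenPair I V l → ∀ k : ℤ, Function.Bijective fun g : (DerivedCategory.Q.obj (kosFree V l))⟦k⟧ ⟶ X => g ≫ α) :
    IsIso (((DerComp.derCompletionAdj O I).homEquiv X Y).symm α) := by
  obtain ⟨E, g, c, hT⟩ := distinguished_cocone_triangle α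
  have hE : LOrth O I E := by
    refine lOrth_of_kosOrth hI fun V l hl n => ?_
    let S := DerivedCategory.Q.obj (kosFree V l)
    suffices hs : Subsingleton (S⟦-n⟧ ⟶ E) from
      @Equiv.subsingleton _ _ ((shiftEquiv' _ (-n) n (neg_add_cancel n)).toAdjunction.homEquiv _ _).symm hs
    refine subsingleton_of_forall_eq 0 fun x => ?_
    let e : S⟦-n - 1⟧⟦(1 : ℤ)⟧ ≅ S⟦-n⟧ := ((shiftFunctorAdd' _ (-n - 1) 1 (-n) (by omega)).app S).symm
    obtain ⟨z, hz⟩ := (shiftFunctor (DerivedCategory (ModSite.Mod O)) (1 : ℤ)).map_surjective (e.hom ≫ x ≫ c)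
    have hz0 : z = 0 := by
      refine (h V l hl (-n - 1)).1 ?_
      show z ≫ α = 0 ≫ α
      rw [zero_comp]
      apply (shiftFunctor (DerivedCategory (ModSite.Mod O)) (1 : ℤ)).map_injective
      rw [Functor.map_comp, hz, Functor.map_zero, assoc, assoc]
      have h31 : c ≫ α⟦(1 : ℤ)⟧' = 0 := comp_distTriang_mor_zero₃₁ _ hT
      rw [h31, comp_zero, comp_zero]
    have hx : x ≫ c = 0 := by
      rw [← cancel_epi e.hom, comp_zero, ← hz, hz0, Functor.map_zero]
    obtain ⟨y, rfl⟩ := Triangle.coyoneda_exact₃ _ hT x hx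
    obtain ⟨w, rfl⟩ := (h V l hl (-n)).2 y
    have h12 : α ≫ g = 0 := comp_distTriang_mor_zero₁₂ _ hT
    show ((w ≫ α) ≫ g : S⟦-n⟧ ⟶ E) = 0
    rw [assoc, h12, comp_zero]
  refine DerCompRestrict.isIso_symm_homEquiv I _ _ fun N hN => ?_
  have hb := (TelOrth.forall_subsingleton_iff _ hT N).1 (hE N hN) 0
  let e := (shiftFunctorZero (DerivedCategory (ModSite.Mod O)) ℤ).app N
  have h2 := (e.homToEquiv (Z := X)).bijective.comp (hb.comp (e.symm.homToEquiv).bijective)
  refine (congrArg Function.Bijective (funext fun x => ?_)).mp h2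
  show (α ≫ x ≫ e.inv) ≫ e.hom = _
  simp

variable (P : CochainComplex (ModSite.Mod O) ℤ) [ModSite.HasLTensorCx P]

/-- Derived tensor products of extended Koszul complexes do not see objects left orthogonal to complete ones. -/
theorem subsingleton_LTensor_hom {V : C} {l : List (O.obj.obj (op V))} (hl : GenPair I V l)
    {N : DerivedCategory (ModSite.Mod O)} (hN : LOrth O I N) (k n : ℤ) :
    Subsingleton ((ModSite.LTensorCx P).obj (DerivedCategory.Q.obj
      (((ModSite.extZero O V).mapHomologicalComplex (ComplexShape.up ℤ)).obj ((kosUnit V l)⟦k⟧))) ⟶ N⟦n⟧) := by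
  let L := (kosUnit V l)⟦k⟧
  let K := ((ModSite.extZero O V).mapHomologicalComplex (ComplexShape.up ℤ)).obj L
  have hle : CochainComplex.IsStrictlyLE L (-k) := by
    have := KosCx.Kc_isStrictlyLE (l.map fun a => DerComp.GSec.ofSect O V a)
      ((HomologicalComplex.single (ModSite.Mod (O.over V)) (ComplexShape.up ℤ) 0).obj (ModSite.unit (O.over V))) 0
    exact CochainComplex.isStrictlyLE_shift (kosUnit V l) 0 k (-k) (by omega)
  have hKle : CochainComplex.IsStrictlyLE K (-k) := by
    rw [CochainComplex.isStrictlyLE_iff] at hle ⊢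
    exact fun i hi => (ModSite.extZero O V).map_isZero (hle i hi)
  have hflat : ∀ m, ModSite.IsFlat (((ModSite.extZero O V).mapHomologicalComplex (ComplexShape.up ℤ)).obj (kosUnit V l) |>.X m) := by
    refine KosCx.Kc_terms (fun M => ModSite.IsFlat ((ModSite.extZero O V).obj M))
      (fun e h => isFlat_of_iso ((ModSite.extZero O V).mapIso e) h) (fun M M' hM hM' => ?_) _ _ fun j => ?_
    · haveI : PreservesBinaryBiproducts (ModSite.extZero O V) :=
        preservesBinaryBiproducts_of_preservesBinaryCoproducts _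
      exact isFlat_of_iso ((ModSite.extZero O V).mapBiprod M M').symm (isFlat_biprod _ _ _ hM hM')
    · by_cases hj : j = 0
      · subst hj
        exact isFlat_of_iso ((ModSite.extZero O V).mapIso
          (HomologicalComplex.singleObjXSelf (ComplexShape.up ℤ) 0 (ModSite.unit (O.over V))).symm)
          (isFlat_freeOn O V)
      · exact isFlat_of_isZero _ _
          ((ModSite.extZero O V).map_isZero (HomologicalComplex.isZero_single_obj_X _ _ _ _ hj))
  have hK : ModSite.IsKFlat K := isKFlat_of_isStrictlyLE K (-k) fun m => hflat _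
  have hc := TensorLinear.isIso_counit P hK
  let c := ((ModSite.tensorCxQ P).totalLeftDerivedCounit DerivedCategory.Q
    (HomologicalComplex.quasiIso (ModSite.Mod O) (ComplexShape.up ℤ)))
  haveI := ModTensor.additive_extZero O V
  haveI : (ModTensor.restrBi O V).Additive := inferInstance
  haveI : ∀ X, ((ModTensor.restrBi O V).obj X).Additive := fun X =>
    inferInstanceAs (ModSite.restr O V ⋙ (ModSite.tensorBi (O.over V)).obj X).Additive
  haveI : PreservesColimitsOfSize.{0, 0} (ModSite.extZero O V) :=
    (ModSite.extZeroAdj O V).leftAdjoint_preservesColimits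
  let R := ((ModSite.restr O V).mapHomologicalComplex (ComplexShape.up ℤ)).obj P
  let Z := ((ModSite.tensorCx (O.over V)).obj L).obj R
  let T := KFlatLib.totalMapIso (ModTensor.projBiIso O V) L P
  let η : (ModSite.LTensorCx P).obj (DerivedCategory.Q.obj K) ≅
      DerivedCategory.Q.obj (((ModSite.extZero O V).mapHomologicalComplex (ComplexShape.up ℤ)).obj Z) :=
    @asIso _ _ _ _ (c.app K) hc ≪≫ DerivedCategory.Q.mapIso T
  have hnil : ∀ a ∈ l, KosTri.Nil (DerComp.GSec.ofSect O V a) (DerivedCategory.Q.obj Z) := fun a ha => by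
    obtain ⟨m, ⟨hm⟩⟩ := KosCx.exists_null (l.map fun a => DerComp.GSec.ofSect O V a)
      ((HomologicalComplex.single (ModSite.Mod (O.over V)) (ComplexShape.up ℤ) 0).obj (ModSite.unit (O.over V)))
      (List.mem_map.2 ⟨a, ha, rfl⟩)
    refine ⟨m, ?_⟩
    let s := DerComp.GSec.ofSect O V a ^ m
    have h1 : Homotopy (s • 𝟙 L) ((0 : DerComp.GSec (O.over V)) • 𝟙 L) := (Homotopy.ofEq (by
      rw [Functor.map_smul, CategoryTheory.Functor.map_id])).trans ((hm.shift k).trans
        (Homotopy.ofEq ((Functor.map_zero _ _ _).trans (zero_smul _ _).symm)))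
    have h2 : DerivedCategory.Q.map (((ModSite.tensorCx (O.over V)).map (s • 𝟙 L)).app R) =
        DerivedCategory.Q.map (((ModSite.tensorCx (O.over V)).map ((0 : DerComp.GSec (O.over V)) • 𝟙 L)).app R) :=
      DerivedCategory.Q_map_eq_of_homotopy _
        (HomologicalComplex.mapBifunctorMapHomotopy₁ h1 (𝟙 R) (ModSite.tensorBi (O.over V)) (ComplexShape.up ℤ))
    rw [TensorLinear.tensorCx_map_smul, TensorLinear.tensorCx_map_smul, Functor.map_smul, Functor.map_smul,
      CategoryTheory.Functor.map_id, zero_smul] at h2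
    exact h2
  have := subsingleton_nil_hom hl hN hnil n
  have := (extHomEquiv V Z N n).subsingleton
  exact η.homFromEquiv.subsingleton

set_option maxHeartbeats 1000000 in
/-- The internal hom of the completion is a completion of the internal hom. -/
theorem bijective_RHom_map [DerComp.HasRHom P] [DerComp.HasDerCompletion O I] (G : DerivedCategory (ModSite.Mod O))
    {V : C} {l : List (O.obj.obj (op V))} (hl : GenPair I V l) (k : ℤ) :
    Function.Bijective fun g : (DerivedCategory.Q.obj (kosFree V l))⟦k⟧ ⟶ (DerComp.RHom P).obj G =>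
      g ≫ (DerComp.RHom P).map (DerComp.toDerCompletion I G) := by
  obtain ⟨D, g₂, g₃, hT⟩ := distinguished_cocone_triangle (DerComp.toDerCompletion I G)
  have hD := lOrth_cone G g₂ g₃ hT
  let a := DerComp.RHomAdj P
  let i : (DerivedCategory.Q.obj (kosFree V l))⟦k⟧ ≅
      DerivedCategory.Q.obj (((ModSite.extZero O V).mapHomologicalComplex (ComplexShape.up ℤ)).obj ((kosUnit V l)⟦k⟧)) :=
    ((DerivedCategory.Q.commShiftIso k).app _).symm ≪≫
      DerivedCategory.Q.mapIso ((((ModSite.extZero O V).mapHomologicalComplex (ComplexShape.up ℤ)).commShiftIso k).app _).symm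
  let S := (ModSite.LTensorCx P).obj (DerivedCategory.Q.obj
    (((ModSite.extZero O V).mapHomologicalComplex (ComplexShape.up ℤ)).obj ((kosUnit V l)⟦k⟧)))
  have hS : Function.Bijective fun x : S ⟶ G => x ≫ DerComp.toDerCompletion I G := by
    have h0 := subsingleton_LTensor_hom P hl hD k 0
    have h1 := subsingleton_LTensor_hom P hl hD k (-1)
    refine ⟨fun x y hxy => ?_, fun y => ?_⟩
    · rw [← sub_eq_zero]
      obtain ⟨q, hq⟩ := Triangle.coyoneda_exact₂ _ (inv_rot_of_distTriang _ hT) (x - y) (by
        show (x - y) ≫ DerComp.toDerCompletion I G = 0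
        rw [Preadditive.sub_comp]
        exact sub_eq_zero.2 hxy)
      rw [hq, show q = 0 from h1.elim (α := S ⟶ D⟦(-1 : ℤ)⟧) q 0]
      exact zero_comp
    · obtain ⟨q, hq⟩ := Triangle.coyoneda_exact₂ _ hT y (by
        show (y ≫ g₂ : S ⟶ D) = 0
        rw [← cancel_mono ((shiftFunctorZero (DerivedCategory (ModSite.Mod O)) ℤ).inv.app D)]
        exact h0.elim _ _)
      exact ⟨q, hq.symm⟩
  let φ := fun Y => (i.homFromEquiv (Z := (DerComp.RHom P).obj Y)).trans (a.homEquiv _ Y).symm
  have h2 := (φ _).symm.bijective.comp (hS.comp (φ G).bijective)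
  refine (congrArg Function.Bijective (funext fun x => ?_)).mp h2
  refine (φ _).injective ?_
  rw [Function.comp_apply, Function.comp_apply, Equiv.apply_symm_apply]
  show (a.homEquiv _ G).symm (i.inv ≫ x) ≫ _ = (a.homEquiv _ _).symm (i.inv ≫ x ≫ _)
  rw [← assoc, ← a.homEquiv_naturality_right_symm]

end Groth.Agent.H9Misc.Kos
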