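import Groth.Agent.H9Misc.KosKill
import Groth.Agent.H9Misc.ExtScalar
import Groth.Agent.H9Misc.KosPush
import Groth.Agent.H9Misc.KosRHom
import Groth.Agent.H9Misc.DerCompExists

/-!
# Derived complete objects along a flat map inducing an isomorphism modulo the ideal
-/

set_option linter.style.haveILetI false
set_option maxHeartbeats 1000000

universe w w' v v' u u'

open CategoryTheory CategoryTheory.Category CategoryTheory.Limits Opposite CategoryTheory.Pretriangulated
open Groth.Agent.ModTensor Groth.Agent.ModPull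
open scoped ZeroObject

attribute [local instance] HasDerivedCategory.standard

namespace Groth.Agent.H9Misc.FlatEquiv

section Derived

variable {A : Type (u + 1)} [Category.{u} A] [Abelian A] {B : Type (u + 1)} [Category.{u} B] [Abelian B]

lemma isZero_Q_iff (M : CochainComplex A ℤ) : IsZero (DerivedCategory.Q.obj M) ↔ M.Acyclic := by
  refine ⟨fun h i => ?_, fun h => ?_⟩
  · rw [HomologicalComplex.exactAt_iff_isZero_homology]
    exact ((DerivedCategory.homologyFunctor A i).map_isZero h).of_iso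
      ((DerivedCategory.homologyFunctorFactors A i).symm.app M)
  · have : IsIso (DerivedCategory.Q.map (0 : M ⟶ 0)) := by
      rw [DerivedCategory.isIso_Q_map_iff_quasiIso]
      exact ⟨fun i => (quasiIsoAt_iff_exactAt _ i (h i)).2
        (ShortComplex.exact_of_isZero_X₂ _ ((HomologicalComplex.eval A _ i).map_isZero (isZero_zero _)))⟩
    exact (DerivedCategory.Q.map_isZero (isZero_zero _)).of_iso (asIso (DerivedCategory.Q.map (0 : M ⟶ 0)))

/-- An exact functor reflecting isomorphisms reflects isomorphisms on derived categories. -/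
theorem isIso_of_isIso_map (G : B ⥤ A) [G.Additive] [PreservesFiniteLimits G] [PreservesFiniteColimits G]
    [G.Faithful] {X Y : DerivedCategory B} (f : X ⟶ Y) (h : IsIso (G.mapDerivedCategory.map f)) : IsIso f := by
  obtain ⟨Z, g, c, hT⟩ := distinguished_cocone_triangle f
  have hT' := G.mapDerivedCategory.map_distinguished _ hT
  have hz : IsZero (G.mapDerivedCategory.obj Z) := (Triangle.isZero₃_iff_isIso₁ _ hT').2 h
  refine (Triangle.isZero₃_iff_isIso₁ _ hT).1 ?_
  have := Localization.essSurj (DerivedCategory.Q (C := B)) (HomologicalComplex.quasiIso B (ComplexShape.up ℤ))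
  let e := DerivedCategory.Q.objObjPreimageIso Z
  refine IsZero.of_iso ((isZero_Q_iff _).2 fun i => ?_) e.symm
  have h1 := (isZero_Q_iff _).1 (hz.of_iso ((G.mapDerivedCategoryFactors.app _).symm ≪≫ G.mapDerivedCategory.mapIso e)) i
  exact ((DerivedCategory.Q.objPreimage Z).sc i).exact_map_iff_of_faithful G |>.1 h1

variable {E : A ⥤ B} {G : B ⥤ A} (adj : E ⊣ G) [E.Additive] [G.Additive] [PreservesFiniteLimits E]
  [PreservesFiniteColimits E] [PreservesFiniteLimits G] [PreservesFiniteColimits G]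

/-- The unit on complexes. -/
noncomputable def unitCx (K : CochainComplex A ℤ) :
    K ⟶ (G.mapHomologicalComplex (ComplexShape.up ℤ)).obj ((E.mapHomologicalComplex (ComplexShape.up ℤ)).obj K) where
  f n := adj.unit.app (K.X n)
  comm' i j _ := (adj.unit.naturality (K.d i j)).symm

/-- The unit of the derived adjunction. -/
theorem exists_unit_iso (K : CochainComplex A ℤ) :
    ∃ e : DerivedCategory.Q.obj ((G.mapHomologicalComplex (ComplexShape.up ℤ)).obj
        ((E.mapHomologicalComplex (ComplexShape.up ℤ)).obj K)) ≅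
        G.mapDerivedCategory.obj (E.mapDerivedCategory.obj (DerivedCategory.Q.obj K)),
      (TelLocal.derivedAdjunction adj).unit.app (DerivedCategory.Q.obj K) =
        DerivedCategory.Q.map (unitCx adj K) ≫ e.hom := by
  letI : CatCommSq (E.mapHomotopyCategory (ComplexShape.up ℤ)) DerivedCategory.Qh DerivedCategory.Qh
    E.mapDerivedCategory := ⟨E.mapDerivedCategoryFactorsh.symm⟩
  letI : CatCommSq (G.mapHomotopyCategory (ComplexShape.up ℤ)) DerivedCategory.Qh DerivedCategory.Qh
    G.mapDerivedCategory := ⟨G.mapDerivedCategoryFactorsh.symm⟩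
  let KK := (HomotopyCategory.quotient A (ComplexShape.up ℤ)).obj K
  refine ⟨(CatCommSq.iso (G.mapHomotopyCategory (ComplexShape.up ℤ)) DerivedCategory.Qh DerivedCategory.Qh
      G.mapDerivedCategory).app ((E.mapHomotopyCategory (ComplexShape.up ℤ)).obj KK) ≪≫
    G.mapDerivedCategory.mapIso ((CatCommSq.iso (E.mapHomotopyCategory (ComplexShape.up ℤ)) DerivedCategory.Qh
      DerivedCategory.Qh E.mapDerivedCategory).app KK), ?_⟩
  exact Adjunction.localization_unit_app (SerreDerived.adjHtpy (ComplexShape.up ℤ) adj) DerivedCategory.Qh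
    (HomotopyCategory.quasiIso A (ComplexShape.up ℤ)) DerivedCategory.Qh
    (HomotopyCategory.quasiIso B (ComplexShape.up ℤ)) E.mapDerivedCategory G.mapDerivedCategory KK

end Derived

variable {C : Type u} [SmallCategory C] {J : GrothendieckTopology C} {O O' : Sheaf J CommRingCat.{u}}

/-- The span of scalars, as a submodule. -/
lemma inSpan_add {X : ModSite.Mod O} {W : Cᵒᵖ} : ∀ {l : List (DerComp.GSec O)} {x y : ((fg O).obj X).obj W},
    KillUnit.InSpan X W l x → KillUnit.InSpan X W l y → KillUnit.InSpan X W l (x + y)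
  | [], x, y, hx, hy => by
    show x + y = 0
    rw [show x = 0 from hx, show y = 0 from hy, add_zero]
  | a :: l, x, y, ⟨p, hp⟩, ⟨q, hq⟩ => ⟨p + q, by
    have := inSpan_add hp hq
    rwa [smul_add, ← sub_add_sub_comm]⟩

lemma inSpan_zero {X : ModSite.Mod O} {W : Cᵒᵖ} : ∀ {l : List (DerComp.GSec O)},
    KillUnit.InSpan X W l (0 : ((fg O).obj X).obj W)
  | [] => rfl
  | a :: l => ⟨0, by rw [smul_zero, sub_zero]; exact inSpan_zero⟩

lemma inSpan_smul_mem {X : ModSite.Mod O} {W : Cᵒᵖ} : ∀ {l : List (DerComp.GSec O)} {a : DerComp.GSec O},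
    a ∈ l → ∀ y : ((fg O).obj X).obj W, KillUnit.InSpan X W l (KillUnit.gv a W • y)
  | b :: l, a, h, y => by
    rcases List.mem_cons.1 h with rfl | h
    · exact ⟨y, by rw [sub_self]; exact inSpan_zero⟩
    · exact ⟨0, by rw [smul_zero, sub_zero]; exact inSpan_smul_mem h y⟩

variable (φ : O ⟶ O') {V : C} {l : List (O.obj.obj (op V))}

/-- The generators on the slice. -/
noncomputable abbrev gens (V : C) (l : List (O.obj.obj (op V))) : List (DerComp.GSec (O.over V)) :=
  l.map fun a => DerComp.GSec.ofSect O V a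

/-- The algebra on the slice. -/
noncomputable abbrev algV (V : C) : ModSite.Mod (O.over V) := (ModSite.restr O V).obj (ExtScalar.alg φ)

lemma mem_ideal_of_inSpan {I : DerComp.IdealSh O} {I' : DerComp.IdealSh O'} (hI' : DerComp.IsIdealExt φ I I')
    (Z : Over V) : ∀ {l : List (O.obj.obj (op V))}, (∀ a ∈ l, a ∈ I.ideal V) → ∀ {x : O'.obj.obj (op Z.left)},
      KillUnit.InSpan (algV φ V) (op Z) (gens V l) x → x ∈ I'.ideal Z.left
  | [], _, x, h => by
    rw [show x = 0 from h]
    exact zero_mem _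
  | a :: l, hl, x, ⟨y, h⟩ => by
    have h' := mem_ideal_of_inSpan hI' Z (fun b hb => hl b (List.mem_cons_of_mem _ hb)) h
    have ha : (φ.hom.app (op Z.left)).hom ((O.obj.map Z.hom.op).hom a) * (show O'.obj.obj (op Z.left) from y) ∈
        I'.ideal Z.left := Ideal.mul_mem_right _ _ (hI'.1 _ _ (I.map_mem _ (hl a (by simp))))
    have := add_mem h' ha
    exact (congrArg (· ∈ I'.ideal Z.left) (sub_add_cancel x
      ((φ.hom.app (op Z.left)).hom ((O.obj.map Z.hom.op).hom a) * (show O'.obj.obj (op Z.left) from y)))).mp this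

lemma inSpan_unit_of_mem (Z : Over V) {x : O.obj.obj (op Z.left)} (hx : x ∈ Kos.spanAt l Z.hom) :
    KillUnit.InSpan (ModSite.unit (O.over V)) (op Z) (gens V l) x := by
  suffices H : ∀ x : O.obj.obj (op Z.left), x ∈ Kos.spanAt l Z.hom → ∀ c : O.obj.obj (op Z.left),
      KillUnit.InSpan (ModSite.unit (O.over V)) (op Z) (gens V l) (c * x : O.obj.obj (op Z.left)) from
    (congrArg (KillUnit.InSpan (ModSite.unit (O.over V)) (op Z) (gens V l)) (one_mul x)).mp (H x hx 1)
  intro x hx
  refine Submodule.span_induction ?_ ?_ ?_ ?_ hx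
  · rintro _ ⟨a, ha, rfl⟩ c
    rw [mul_comm]
    exact inSpan_smul_mem (List.mem_map.2 ⟨a, ha, rfl⟩) (show ((fg (O.over V)).obj (ModSite.unit (O.over V))).obj (op Z) from c)
  · intro c
    rw [mul_zero]
    exact inSpan_zero
  · intro x y _ _ hx hy c
    rw [mul_add]
    exact inSpan_add (hx c) (hy c)
  · intro r x _ hx c
    rw [smul_eq_mul, ← mul_assoc]
    exact hx (c * r)

lemma inSpan_alg_of_mem (Z : Over V) {x : O'.obj.obj (op Z.left)}
    (hx : x ∈ Kos.spanAt (O := O') (Kos.imageList (DerCompRestr.toRMor φ) l) Z.hom) :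
    KillUnit.InSpan (algV φ V) (op Z) (gens V l) x := by
  suffices H : ∀ x : O'.obj.obj (op Z.left), x ∈ Kos.spanAt (O := O') (Kos.imageList (DerCompRestr.toRMor φ) l) Z.hom →
      ∀ c : O'.obj.obj (op Z.left),
      KillUnit.InSpan (algV φ V) (op Z) (gens V l) (c * x : O'.obj.obj (op Z.left)) from
    (congrArg (KillUnit.InSpan (algV φ V) (op Z) (gens V l)) (one_mul x)).mp (H x hx 1)
  intro x hx
  refine Submodule.span_induction ?_ ?_ ?_ ?_ hx
  · rintro _ ⟨a', ha', rfl⟩ c
    obtain ⟨a, ha, rfl⟩ := List.mem_map.1 ha'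
    have h := inSpan_smul_mem (X := algV φ V) (W := op Z) (List.mem_map.2 ⟨a, ha, rfl⟩ :
      DerComp.GSec.ofSect O V a ∈ gens V l) (show ((fg (O.over V)).obj (algV φ V)).obj (op Z) from c)
    refine (congrArg (KillUnit.InSpan (algV φ V) (op Z) (gens V l)) ?_).mp h
    show (φ.hom.app (op Z.left)).hom ((O.obj.map Z.hom.op).hom a) * c =
      c * (O'.obj.map Z.hom.op).hom ((φ.hom.app (op V)).hom a)
    rw [mul_comm]
    exact congrArg (c * ·) (CategoryTheory.congr_fun (φ.hom.naturality Z.hom.op) a)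
  · intro c
    rw [mul_zero]
    exact inSpan_zero
  · intro x y _ _ hx hy c
    rw [mul_add]
    exact inSpan_add (hx c) (hy c)
  · intro r x _ hx c
    rw [smul_eq_mul, ← mul_assoc]
    exact hx (c * r)

lemma locally_over {Z : Over V} {P : ∀ ⦃X : C⦄, (X ⟶ Z.left) → Prop} (h : Locally J Z.left P) :
    Locally (J.over V) Z (fun _ g => P g.left) := by
  obtain ⟨S, hS, hP⟩ := h
  exact ⟨(Sieve.overEquiv Z).symm S, J.overEquiv_symm_mem_over Z S hS,
    fun W g hg => hP g.left ((Sieve.overEquiv_symm_iff _ g).1 hg)⟩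

variable {I : DerComp.IdealSh O} {I' : DerComp.IdealSh O'}

/-- The hypothesis on `O/I → O'/IO'`, on a slice with generators. -/
theorem isQuotEquiv (hI' : DerComp.IsIdealExt φ I I') (hl : Kos.GenPair I V l)
    (hinj : ∀ (U : C) (f : O.obj.obj (op U)), (φ.hom.app (op U)).hom f ∈ I'.ideal U → f ∈ I.ideal U)
    (hsurj : ∀ (U : C) (f' : O'.obj.obj (op U)), ∃ S ∈ J U, ∀ ⦃W : C⦄ (g : W ⟶ U), S g →
      ∃ a : O.obj.obj (op W), (O'.obj.map g.op).hom f' - (φ.hom.app (op W)).hom a ∈ I'.ideal W) :
    KillUnit.IsQuotEquiv (ExtScalar.oneV φ V) (gens V l) where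
  inj Z x hx := by
    have h1 := mem_ideal_of_inSpan φ hI' Z hl.mem hx
    have h2 : x ∈ I.ideal Z.left := by
      refine hinj _ x ?_
      exact (congrArg (· ∈ I'.ideal Z.left) (mul_one ((φ.hom.app (op Z.left)).hom x))).mp h1
    obtain ⟨S, hS, hs⟩ := hl.loc Z.hom x h2
    refine (locally_over (Z := Z) (P := fun X k => (O.obj.map k.op).hom x ∈ Kos.spanAt l (k ≫ Z.hom))
      ⟨S, hS, hs⟩).mono fun W g hg => inSpan_unit_of_mem W ?_
    rw [Over.w g] at hg
    exact hg
  surj Z y := by
    have hl' := Kos.GenPair.image (DerCompRestr.toRMor φ) (I' := I') hI' hl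
    obtain ⟨S, hS, hs⟩ := hsurj Z.left y
    refine (locally_over (Z := Z) (P := fun X k => ∃ a : O.obj.obj (op X),
      (O'.obj.map k.op).hom (show O'.obj.obj (op Z.left) from y) - (φ.hom.app (op X)).hom a ∈
        Kos.spanAt (O := O') (Kos.imageList (DerCompRestr.toRMor φ) l) (k ≫ Z.hom))
      (Locally.bind (P := fun W g => ∃ a : O.obj.obj (op W),
        (O'.obj.map g.op).hom (show O'.obj.obj (op Z.left) from y) - (φ.hom.app (op W)).hom a ∈ I'.ideal W)
        ⟨S, hS, hs⟩ fun W g ⟨a, ha⟩ => ?_)).mono fun W g ⟨a, ha⟩ => ⟨a, ?_⟩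
    · obtain ⟨T, hT, ht⟩ := hl'.loc (g ≫ Z.hom) _ ha
      refine ⟨T, hT, fun W' k hk => ⟨(O.obj.map k.op).hom a, ?_⟩⟩
      have h := ht k hk
      rw [map_sub, ← assoc] at h
      refine (congrArg (· ∈ Kos.spanAt (O := O') (Kos.imageList (DerCompRestr.toRMor φ) l) ((k ≫ g) ≫ Z.hom)) ?_).mp h
      rw [op_comp, Functor.map_comp]
      exact congrArg (fun z => _ - z) (CategoryTheory.congr_fun (φ.hom.naturality k.op) a).symm
    · refine inSpan_alg_of_mem φ W ((congrArg (· ∈ Kos.spanAt (O := O') _ W.hom) ?_).mp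
        ((congrArg (fun q : W.left ⟶ V => (O'.obj.map g.left.op).hom (show O'.obj.obj (op Z.left) from y) -
          (φ.hom.app (op W.left)).hom a ∈ Kos.spanAt (O := O') (V := V) (Kos.imageList (DerCompRestr.toRMor φ) l) q)
          (Over.w g)).mp ha))
      exact congrArg (fun z => _ - z) (mul_one ((φ.hom.app (op W.left)).hom a)).symm

/-- Composition with a completion map is bijective on maps from objects without maps to its cone. -/
lemma bijective_comp_toDer {O : Sheaf J CommRingCat.{u}} {I : DerComp.IdealSh O} [DerComp.HasDerCompletion O I]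
    (M : DerivedCategory (ModSite.Mod O)) (T : DerivedCategory (ModSite.Mod O))
    (h : ∀ {D : DerivedCategory (ModSite.Mod O)}, Kos.KosOrth O I D → ∀ n : ℤ, Subsingleton (T ⟶ D⟦n⟧)) :
    Function.Bijective fun x : T ⟶ M => x ≫ DerComp.toDerCompletion I M := by
  obtain ⟨D, g, c, hT⟩ := distinguished_cocone_triangle (DerComp.toDerCompletion I M)
  have hD := Kos.kosOrth_cone M g c hT
  have h0 := h hD 0
  have h1 := h hD (-1)
  refine ⟨fun x y hxy => ?_, fun y => ?_⟩
  · rw [← sub_eq_zero]
    obtain ⟨q, hq⟩ := Triangle.coyoneda_exact₂ _ (inv_rot_of_distTriang _ hT) (x - y) (by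
      show (x - y) ≫ DerComp.toDerCompletion I M = 0
      rw [Preadditive.sub_comp]
      exact sub_eq_zero.2 hxy)
    rw [hq, show q = 0 from h1.elim (α := T ⟶ D⟦(-1 : ℤ)⟧) q 0]
    exact zero_comp
  · obtain ⟨q, hq⟩ := Triangle.coyoneda_exact₂ _ hT y (by
      show (y ≫ g : T ⟶ D) = 0
      rw [← cancel_mono ((shiftFunctorZero (DerivedCategory (ModSite.Mod O)) ℤ).inv.app D)]
      exact h0.elim _ _)
    exact ⟨q, hq.symm⟩

variable [PreservesFiniteLimits (DerCompRestr.res φ)] [PreservesFiniteColimits (DerCompRestr.res φ)]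

theorem bijective_unit (hI' : DerComp.IsIdealExt φ I I') (hflat : ModSite.IsFlat (ExtScalar.alg φ))
    (hinj : ∀ (U : C) (f : O.obj.obj (op U)), (φ.hom.app (op U)).hom f ∈ I'.ideal U → f ∈ I.ideal U)
    (hsurj : ∀ (U : C) (f' : O'.obj.obj (op U)), ∃ S ∈ J U, ∀ ⦃W : C⦄ (g : W ⟶ U), S g →
      ∃ a : O.obj.obj (op W), (O'.obj.map g.op).hom f' - (φ.hom.app (op W)).hom a ∈ I'.ideal W)
    (hl : Kos.GenPair I V l) [(ExtScalar.pullF φ).Additive] [PreservesFiniteLimits (ExtScalar.pullF φ)]
    [PreservesFiniteColimits (ExtScalar.pullF φ)] (E : DerivedCategory (ModSite.Mod O)) (k : ℤ) :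
    Function.Bijective fun x : (DerivedCategory.Q.obj (Kos.kosFree V l))⟦k⟧ ⟶ E =>
      x ≫ (TelLocal.derivedAdjunction (ExtScalar.adjF φ)).unit.app E := by
  let a := TelLocal.derivedAdjunction (ExtScalar.adjF φ)
  let b := TelLocal.derivedAdjunction (ModSite.extZeroAdj O V)
  have := Localization.essSurj (DerivedCategory.Q (C := ModSite.Mod O))
    (HomologicalComplex.quasiIso (ModSite.Mod O) (ComplexShape.up ℤ))
  let K := DerivedCategory.Q.objPreimage E
  let eE := DerivedCategory.Q.objObjPreimageIso E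
  obtain ⟨e, he⟩ := exists_unit_iso (ExtScalar.adjF φ) K
  let u := unitCx (ExtScalar.adjF φ) K
  let S := (DerivedCategory.Q.obj (Kos.kosFree V l))⟦k⟧
  let S₁ := (DerivedCategory.Q.obj (Kos.kosUnit V l))⟦k⟧
  let iS : (ModSite.extZero O V).mapDerivedCategory.obj S₁ ≅ S :=
    ((ModSite.extZero O V).mapDerivedCategory.commShiftIso k).app _ ≪≫
      (shiftFunctor _ k).mapIso ((ModSite.extZero O V).mapDerivedCategoryFactors.app _)
  have hR : PreservesFiniteLimits (KillUnit.tenT (algV φ V)) := (ModTensor.isFlat_restr hflat V).1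
  let Rc := (ModSite.restr O V).mapHomologicalComplex (ComplexShape.up ℤ)
  let Lc := ((ExtScalar.pullF φ).mapHomologicalComplex (ComplexShape.up ℤ)).obj K
  let i : ((KillUnit.tenT (algV φ V)).mapHomologicalComplex (ComplexShape.up ℤ)).obj (Rc.obj K) ≅
      Rc.obj (((DerCompRestr.res φ).mapHomologicalComplex (ComplexShape.up ℤ)).obj Lc) :=
    HomologicalComplex.Hom.isoOfComponents (fun n => (ExtScalar.restrIso φ V).app (K.X n))
      fun p q _ => ((ExtScalar.restrIso φ V).hom.naturality (K.d p q)).symm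
  have hres : Function.Bijective fun x : S₁ ⟶ DerivedCategory.Q.obj (Rc.obj K) =>
      x ≫ DerivedCategory.Q.map (Rc.map u) :=
    KillUnit.bijective_unitCx (isQuotEquiv φ hI' hl hinj hsurj) _ _ i (Rc.map u)
      (HomologicalComplex.hom_ext _ _ fun n => ExtScalar.unitApp_restrIso φ (K.X n) V) S₁
      fun r hr => (KosCx.nil_Q _ _ r hr).shift k
  let F₀ := (ModSite.restr O V).mapDerivedCategoryFactors.app K
  let F₁ := (ModSite.restr O V).mapDerivedCategoryFactors.app
    (((DerCompRestr.res φ).mapHomologicalComplex (ComplexShape.up ℤ)).obj Lc)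
  let P₀ : (S ⟶ DerivedCategory.Q.obj K) ≃ (S₁ ⟶ DerivedCategory.Q.obj (Rc.obj K)) :=
    (iS.symm.homFromEquiv.trans (b.homEquiv _ _)).trans F₀.homToEquiv
  let P₁ : (S ⟶ DerivedCategory.Q.obj (((DerCompRestr.res φ).mapHomologicalComplex (ComplexShape.up ℤ)).obj Lc)) ≃
      (S₁ ⟶ DerivedCategory.Q.obj (Rc.obj (((DerCompRestr.res φ).mapHomologicalComplex (ComplexShape.up ℤ)).obj Lc))) :=
    (iS.symm.homFromEquiv.trans (b.homEquiv _ _)).trans F₁.homToEquiv
  have hu : Function.Bijective fun x : S ⟶ DerivedCategory.Q.obj K => x ≫ DerivedCategory.Q.map u := by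
    refine (congrArg Function.Bijective (funext fun x => ?_)).mp (P₁.symm.bijective.comp (hres.comp P₀.bijective))
    refine P₁.injective ?_
    rw [Function.comp_apply, Function.comp_apply, Equiv.apply_symm_apply]
    show (b.homEquiv _ _ (iS.hom ≫ x) ≫ F₀.hom) ≫ DerivedCategory.Q.map (Rc.map u) =
      b.homEquiv _ _ (iS.hom ≫ x ≫ DerivedCategory.Q.map u) ≫ F₁.hom
    have hn : (ModSite.restr O V).mapDerivedCategory.map (DerivedCategory.Q.map u) ≫ F₁.hom =
        F₀.hom ≫ DerivedCategory.Q.map (Rc.map u) := (ModSite.restr O V).mapDerivedCategoryFactors.hom.naturality u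
    rw [assoc, ← hn, ← assoc, ← assoc iS.hom]
    exact congrArg (· ≫ F₁.hom) (b.homEquiv_naturality_right _ _).symm
  have h2 : Function.Bijective fun x : S ⟶ E =>
      (((x ≫ eE.inv) ≫ DerivedCategory.Q.map u) ≫ e.hom) ≫
        (DerCompRestr.res φ).mapDerivedCategory.map ((ExtScalar.pullF φ).mapDerivedCategory.map eE.hom) :=
    (asIso ((DerCompRestr.res φ).mapDerivedCategory.map
      ((ExtScalar.pullF φ).mapDerivedCategory.map eE.hom))).homToEquiv.bijective.comp
      (e.homToEquiv.bijective.comp (hu.comp eE.symm.homToEquiv.bijective))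
  refine (congrArg Function.Bijective (funext fun x => ?_)).mp h2
  show (((x ≫ eE.inv) ≫ DerivedCategory.Q.map u) ≫ e.hom) ≫ _ = x ≫ a.unit.app E
  rw [assoc, assoc, assoc]
  refine congrArg (x ≫ ·) ?_
  rw [← assoc (DerivedCategory.Q.map u), ← he]
  refine (congrArg (eE.inv ≫ ·) (a.unit.naturality eE.hom).symm).trans ?_
  exact eE.inv_hom_id_assoc _

/-- Equivalence of derived complete objects. -/
theorem equivalence_derComp (hI : I.IsFiniteType) (hI' : DerComp.IsIdealExt φ I I')
    (hflat : ModSite.IsFlat (ExtScalar.alg φ))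
    (hinj : ∀ (U : C) (f : O.obj.obj (op U)), (φ.hom.app (op U)).hom f ∈ I'.ideal U → f ∈ I.ideal U)
    (hsurj : ∀ (U : C) (f' : O'.obj.obj (op U)), ∃ S ∈ J U, ∀ ⦃W : C⦄ (g : W ⟶ U), S g →
      ∃ a : O.obj.obj (op W), (O'.obj.map g.op).hom f' - (φ.hom.app (op W)).hom a ∈ I'.ideal W)
    (hiff : ∀ K', DerComp.IsDerComp O' I' K' ↔
      DerComp.IsDerComp O I ((DerCompRestr.res φ).mapDerivedCategory.obj K')) :
    (∀ K' L' : DerivedCategory (ModSite.Mod O'), DerComp.IsDerComp O' I' K' → DerComp.IsDerComp O' I' L' →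
      Function.Bijective fun ψ : K' ⟶ L' => (DerCompRestr.res φ).mapDerivedCategory.map ψ) ∧
    ∀ E : DerivedCategory (ModSite.Mod O), DerComp.IsDerComp O I E → ∃ K' : DerivedCategory (ModSite.Mod O'),
      DerComp.IsDerComp O' I' K' ∧ Nonempty ((DerCompRestr.res φ).mapDerivedCategory.obj K' ≅ E) := by
  haveI := DerCompExists.hasDerCompletion O I
  haveI := DerCompExists.hasDerCompletion O' I'
  haveI := ExtScalar.preservesFiniteLimits_pullF φ hflat
  haveI : (ExtScalar.pullF φ).Additive := (ExtScalar.adjF φ).left_adjoint_additive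
  haveI : PreservesColimitsOfSize.{0, 0} (ExtScalar.pullF φ) := (ExtScalar.adjF φ).leftAdjoint_preservesColimits
  haveI : PreservesFiniteColimits (ExtScalar.pullF φ) := ⟨fun _ => inferInstance⟩
  haveI : (DerCompRestr.res φ).Faithful :=
    have : (DerCompRestr.res φ ⋙ SheafOfModules.toSheaf.{u} (ModSite.ringSh O)).Faithful :=
      inferInstanceAs (SheafOfModules.toSheaf.{u} (ModSite.ringSh O')).Faithful
    Functor.Faithful.of_comp (DerCompRestr.res φ) (SheafOfModules.toSheaf.{u} (ModSite.ringSh O))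
  let R := (DerCompRestr.res φ).mapDerivedCategory
  let L := (ExtScalar.pullF φ).mapDerivedCategory
  let a := TelLocal.derivedAdjunction (ExtScalar.adjF φ)
  let β : ∀ E, E ⟶ R.obj ((DerComp.derCompletion O' I').obj (L.obj E)).obj := fun E =>
    a.homEquiv E _ (DerComp.toDerCompletion I' (L.obj E))
  have hβ : ∀ E, DerComp.IsDerComp O I E → IsIso (β E) := by
    intro E hE
    have hc : DerComp.IsDerComp O I (R.obj ((DerComp.derCompletion O' I').obj (L.obj E)).obj) :=
      (hiff _).1 ((DerComp.derCompletion O' I').obj (L.obj E)).property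
    have h := Kos.isIso_of_kos_bijective hI ⟨_, hc⟩ (β E) fun V l hl k => by
      let S := (DerivedCategory.Q.obj (Kos.kosFree V l))⟦k⟧
      obtain ⟨eP⟩ := Kos.nonempty_pull_kosFree (DerCompRestr.toRMor φ) V l
      let l' := Kos.imageList (DerCompRestr.toRMor φ) l
      have hl' : Kos.GenPair I' V l' := Kos.GenPair.image (DerCompRestr.toRMor φ) (I' := I') hI' hl
      let iL : L.obj S ≅ (DerivedCategory.Q.obj (Kos.kosFree (O := O') V l'))⟦k⟧ :=
        ((ExtScalar.pullF φ).mapDerivedCategory.commShiftIso k).app _ ≪≫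
          (shiftFunctor _ k).mapIso ((ExtScalar.pullF φ).mapDerivedCategoryFactors.app _ ≪≫
            DerivedCategory.Q.mapIso eP)
      have h2 : Function.Bijective fun x : L.obj S ⟶ L.obj E => x ≫ DerComp.toDerCompletion I' (L.obj E) :=
        bijective_comp_toDer (I := I') (L.obj E) (L.obj S) fun {D} hD n => by
          have h3 := hD V l' hl' (n - k)
          have : Subsingleton ((DerivedCategory.Q.obj (Kos.kosFree (O := O') V l'))⟦k⟧ ⟶ D⟦n⟧) :=
            ((shiftEquiv' (DerivedCategory (ModSite.Mod O')) k (-k) (add_neg_cancel k)).toAdjunction.homEquiv _ _).trans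
              (((shiftFunctorAdd' (DerivedCategory (ModSite.Mod O')) n (-k) (n - k) (by omega)).app _).symm.homToEquiv)
              |>.subsingleton
          exact iL.homFromEquiv.subsingleton
      have h1 := bijective_unit φ hI' hflat hinj hsurj hl E k
      refine (congrArg Function.Bijective (funext fun x => ?_)).mp
        ((((a.homEquiv S (L.obj E)).symm.trans (Equiv.ofBijective _ h2)).trans (a.homEquiv S _)).bijective.comp h1)
      show a.homEquiv S _ ((a.homEquiv S _).symm (x ≫ a.unit.app E) ≫ DerComp.toDerCompletion I' (L.obj E)) = x ≫ β E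
      rw [a.homEquiv_naturality_right, Equiv.apply_symm_apply, assoc]
      refine congrArg (x ≫ ·) ?_
      exact (a.homEquiv_unit _ _ _).symm
    have hu : IsIso (DerComp.toDerCompletion I E) := by
      have hb := DerCompRestrict.toDerCompletion_bijective I E _ hE
      obtain ⟨r, hr⟩ := hb.2 (𝟙 E)
      refine ⟨r, hr, ?_⟩
      refine (DerCompRestrict.toDerCompletion_bijective I E _
        ((DerComp.derCompletion O I).obj E).property).1 ?_
      show DerComp.toDerCompletion I E ≫ r ≫ DerComp.toDerCompletion I E = DerComp.toDerCompletion I E ≫ 𝟙 _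
      rw [← assoc, show DerComp.toDerCompletion I E ≫ r = 𝟙 E from hr, id_comp, comp_id]
    have hfac : DerComp.toDerCompletion I E ≫ (((DerComp.derCompletionAdj O I).homEquiv E ⟨_, hc⟩).symm (β E)).hom =
        β E := by
      exact (((DerComp.derCompletionAdj O I).homEquiv_unit _ _ _).symm).trans
        (((DerComp.derCompletionAdj O I).homEquiv E ⟨_, hc⟩).apply_symm_apply (β E))
    rw [← hfac]
    have : IsIso (((DerComp.derCompletionAdj O I).homEquiv E ⟨_, hc⟩).symm (β E)).hom :=
      inferInstanceAs (IsIso ((DerComp.IsDerComp O I).ι.map (((DerComp.derCompletionAdj O I).homEquiv E ⟨_, hc⟩).symm (β E))))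
    exact IsIso.comp_isIso
  refine ⟨fun K' L' hK hL => ?_, fun E hE => ⟨_, ((DerComp.derCompletion O' I').obj (L.obj E)).property,
    ⟨(@asIso _ _ _ _ (β E) (hβ E hE)).symm⟩⟩⟩
  obtain ⟨m, hm⟩ := (DerCompRestrict.toDerCompletion_bijective I' (L.obj (R.obj K')) _ hK).2 (a.counit.app K')
  change DerComp.toDerCompletion I' (L.obj (R.obj K')) ≫ m = a.counit.app K' at hm
  have h1 : β (R.obj K') ≫ R.map m = 𝟙 _ := by
    show a.homEquiv _ _ _ ≫ R.map m = _
    rw [← a.homEquiv_naturality_right, hm, a.homEquiv_unit]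
    exact a.right_triangle_components K'
  have := hβ (R.obj K') ((hiff K').1 hK)
  have : IsIso (R.map m) := by
    rw [show R.map m = inv (β (R.obj K')) from (IsIso.eq_inv_of_hom_inv_id h1)]
    infer_instance
  have := isIso_of_isIso_map (DerCompRestr.res φ) m this
  have h2 : Function.Bijective fun ψ : K' ⟶ L' => a.counit.app K' ≫ ψ := by
    refine (congrArg Function.Bijective (funext fun ψ => ?_)).mp
      ((DerCompRestrict.toDerCompletion_bijective I' (L.obj (R.obj K')) _ hL).comp (asIso m).symm.homFromEquiv.bijective)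
    show DerComp.toDerCompletion I' _ ≫ m ≫ ψ = _
    rw [← assoc, hm]
  refine (congrArg Function.Bijective (funext fun ψ => ?_)).mp ((a.homEquiv (R.obj K') L').bijective.comp h2)
  show a.homEquiv _ _ (a.counit.app K' ≫ ψ) = R.map ψ
  rw [a.homEquiv_naturality_right, a.homEquiv_unit]
  exact (congrArg (· ≫ R.map ψ) (a.right_triangle_components K')).trans (id_comp _)

end Groth.Agent.H9Misc.FlatEquiv
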