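import Mathlib.Algebra.Category.ModuleCat.ChangeOfRings
import Mathlib.RingTheory.Flat.Basic

/-! Flatness of extended scalars. -/

universe u

open TensorProduct

namespace Groth.Agent.H9Misc.FlatExt

variable {A B : Type u} [CommRing A] [CommRing B]

lemma flat_obj_aux (φ : A →+* B) (N : ModuleCat.{u} A) (inst : Algebra A B) (hinst : inst = φ.toAlgebra)
    (h : letI := inst; Module.Flat B (B ⊗[A] N)) : Module.Flat B ((ModuleCat.extendScalars φ).obj N) := by
  subst hinst
  let := φ.toAlgebra
  have := h
  exact inferInstanceAs (Module.Flat B (B ⊗[A] N))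

lemma flat_obj [Algebra A B] (N : ModuleCat.{u} A) (h : Module.Flat B (B ⊗[A] N)) :
    Module.Flat B ((ModuleCat.extendScalars (algebraMap A B)).obj N) :=
  flat_obj_aux (algebraMap A B) N ‹Algebra A B› (Algebra.algebra_ext _ _ fun _ => rfl) h

end Groth.Agent.H9Misc.FlatExt
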