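import Groth.Agent.AmpleX.ExtendQS
import Groth.Agent.AmpleX.FiniteSet
import Groth.Agent.QCoh.CechMap
import Groth.Agent.H23.PicMul
import Mathlib.RingTheory.Flat.EquationalCriterion

/-! Flatness over the base of sections over a generating locus, from flatness of high twists. -/

set_option linter.style.haveILetI false
set_option backward.isDefEq.respectTransparency false
set_option backward.isDefEq.respectTransparency.types false

universe u

open CategoryTheory CategoryTheory.Limits AlgebraicGeometry TopologicalSpace Opposite MonoidalCategory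

noncomputable section

namespace Groth.Agent.H9Misc.FlatTwist

open Groth.Agent
open Groth.Agent.H23.PicMul

variable {X : Scheme.{u}} {M N : X.Modules}

/-- `a ↦ a ⊗ b` as an additive map. -/
def tmulL {U : X.Opens} (b : Γ(N, U)) : Γ(M, U) →+ Γ(CohB1.tensorMod M N, U) :=
  AddMonoidHom.mk' (fun a => InvX.tmul a b) fun a a' =>
    (congrArg _ (KFlatLib.tm_add_left a a' b)).trans (map_add _ _ _)

lemma tmulL_apply {U : X.Opens} (b : Γ(N, U)) (a : Γ(M, U)) : tmulL b a = InvX.tmul a b := rfl

/-- Tensoring with a frame is injective. -/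
theorem germ_tmul_bijective {U : X.Opens} {b : Γ(N, U)} (hb : InvX.IsFrame b) {x : X} (hx : x ∈ U) :
    ∃ T : M.presheaf.stalk x → (CohB1.tensorMod M N).presheaf.stalk x, Function.Bijective T ∧ T 0 = 0 ∧
      ∀ (W : X.Opens) (hW : W ≤ U) (hxW : x ∈ W) (a : Γ(M, W)),
        T (M.presheaf.germ W x hxW a) =
          (CohB1.tensorMod M N).presheaf.germ W x hxW (InvX.tmul a (AModX.res N hW b)) := by
  let P := CohB1.toPMod M
  let Q := CohB1.toPMod N
  let gb : KFlatLib.stalkMod x Q := KFlatLib.germP Q U hx b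
  let eb := LinearEquiv.ofBijective (LinearMap.toSpanSingleton (X.presheaf.stalk x) (KFlatLib.stalkMod x Q) gb)
    (hb.germ_bijective hx)
  let T := ((TensorProduct.rid (X.presheaf.stalk x) (KFlatLib.stalkMod x P)).symm.trans
    (TensorProduct.congr (LinearEquiv.refl _ _) eb)).trans (KFlatLib.tensorStalkEquiv P Q)
  haveI hi := KFlatLib.isIso_stalk_unitShP (x := x) (P ⊗ Q)
  let u := ((KFlatLib.stalkP x).map (KFlatLib.unitShP (P ⊗ Q)))
  have hu : Function.Bijective u.hom := ConcreteCategory.bijective_of_isIso u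
  refine ⟨fun c => u.hom (T c), hu.comp T.bijective, (congrArg _ (map_zero T)).trans (map_zero _),
    fun W hW hxW a => ?_⟩
  have hT : T (KFlatLib.germP P W hxW a) =
      KFlatLib.germP (P ⊗ Q) W hxW (KFlatLib.tm a (AModX.res N hW b)) := by
    show KFlatLib.tensorStalkEquiv P Q (TensorProduct.congr (LinearEquiv.refl _ _) eb
      ((TensorProduct.rid (X.presheaf.stalk x) (KFlatLib.stalkMod x P)).symm (KFlatLib.germP P W hxW a))) = _
    rw [TensorProduct.rid_symm_apply, TensorProduct.congr_tmul]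
    show KFlatLib.tensorStalkEquiv P Q (KFlatLib.germP P W hxW a ⊗ₜ ((1 : X.presheaf.stalk x) • gb)) = _
    rw [one_smul, show gb = KFlatLib.germP Q W hxW (AModX.res N hW b) from (InvX.germ_res' hW hxW b).symm]
    exact KFlatLib.ofTensor_germ W hxW a _
  show u.hom (T (KFlatLib.germP P W hxW a)) = _
  rw [hT]
  exact KFlatLib.stalkModMap_germ _ W hxW _

/-- Tensoring with a frame is injective. -/
theorem tmul_frame_inj {U : X.Opens} {b : Γ(N, U)} (hb : InvX.IsFrame b) {a : Γ(M, U)}
    (h : InvX.tmul a b = 0) : a = 0 := by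
  refine TopCat.Presheaf.section_ext (C := AddCommGrpCat.{u}) ⟨M.presheaf, M.isSheaf⟩ _ _ _ fun x hx => ?_
  refine Eq.trans ?_ (map_zero _).symm
  obtain ⟨T, hT, hT0, hTg⟩ := germ_tmul_bijective (M := M) hb hx
  refine hT.1 ((hTg U le_rfl hx a).trans (Eq.trans ?_ hT0.symm))
  rw [AModX.res_self, h]
  exact map_zero _

/-- Tensoring with a frame is surjective. -/
theorem tmul_frame_surj {U : X.Opens} {b : Γ(N, U)} (hb : InvX.IsFrame b)
    (w : Γ(CohB1.tensorMod M N, U)) : ∃ a : Γ(M, U), InvX.tmul a b = w := by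
  have hloc : ∀ p : U, ∃ (W : X.Opens) (hW : W ≤ U) (_ : p.1 ∈ W) (a : Γ(M, W)),
      InvX.tmul a (AModX.res N hW b) = AModX.res _ hW w := fun p => by
    obtain ⟨T, hT, -, hTg⟩ := germ_tmul_bijective (M := M) hb p.2
    obtain ⟨c, hc⟩ := hT.2 ((CohB1.tensorMod M N).presheaf.germ U p.1 p.2 w)
    obtain ⟨W₁, h₁, a, rfl⟩ := TopCat.Presheaf.exists_germ_eq M.presheaf (x := p.1) c
    let W := W₁ ⊓ U
    have hxW : p.1 ∈ W := ⟨h₁, p.2⟩
    rw [← InvX.germ_res' (inf_le_left : W ≤ W₁) hxW a, hTg W inf_le_right hxW,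
      ← InvX.germ_res' (inf_le_right : W ≤ U) hxW w] at hc
    obtain ⟨W', hW', i, j, hij⟩ :=
      TopCat.Presheaf.germ_eq (C := AddCommGrpCat.{u}) (CohB1.tensorMod M N).presheaf p.1 hxW hxW _ _ hc
    change AModX.res _ i.le _ = AModX.res _ j.le _ at hij
    rw [InvX.res_tmul, AModX.res_res, AModX.res_res, AModX.res_res] at hij
    exact ⟨W', i.le.trans inf_le_right, hW', _, hij⟩
  choose W hW hpW a ha using hloc
  obtain ⟨R, hR, -⟩ := AModX.existsUnique_glue (M := M) W hW (fun p hp => ⟨⟨p, hp⟩, hpW ⟨p, hp⟩⟩) a fun p q => by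
    refine sub_eq_zero.1 (tmul_frame_inj (hb.res ((inf_le_left : W p ⊓ W q ≤ W p).trans (hW p))) ?_)
    rw [← tmulL_apply, map_sub, tmulL_apply, tmulL_apply, sub_eq_zero]
    have h1 := congrArg (AModX.res _ (inf_le_left : W p ⊓ W q ≤ W p)) (ha p)
    have h2 := congrArg (AModX.res _ (inf_le_right : W p ⊓ W q ≤ W q)) (ha q)
    rw [InvX.res_tmul, AModX.res_res, AModX.res_res] at h1 h2
    exact h1.trans h2.symm
  refine ⟨R, AModX.eq_of_locally _ _ fun p hp => ⟨W ⟨p, hp⟩, hW _, hpW _, ?_⟩⟩
  rw [InvX.res_tmul, hR ⟨p, hp⟩, ha]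

variable {A : Type u} [CommRing A] (φ : A →+* Γ(X, ⊤))

lemma smul_tmul {U : X.Opens} (c : A) (a : Γ(M, U)) (b : Γ(N, U)) :
    letI := QCoh.secModule φ M U
    letI := QCoh.secModule φ (CohB1.tensorMod M N) U
    InvX.tmul (c • a) b = c • InvX.tmul a b :=
  InvX.tmul_smul_left _ a b

lemma res_secModule {U V : X.Opens} (h : V ≤ U) (c : A) (a : Γ(M, U)) :
    letI := QCoh.secModule φ M U
    letI := QCoh.secModule φ M V
    AModX.res M h (c • a) = c • AModX.res M h a := by
  letI := QCoh.secModule φ M U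
  letI := QCoh.secModule φ M V
  exact (AModX.res_smul h _ a).trans (congrArg (· • _) (AModX.resR_resR le_top h (φ c)))

theorem flat_of_iso {M' : X.Modules} (e : M ≅ M') (U : X.Opens)
    (h : letI := QCoh.secModule φ M U; Module.Flat A Γ(M, U)) :
    letI := QCoh.secModule φ M' U; Module.Flat A Γ(M', U) := by
  letI := QCoh.secModule φ M U
  letI := QCoh.secModule φ M' U
  haveI := h
  let l : Γ(M', U) →ₗ[A] Γ(M, U) :=
    { toFun := fun x => e.inv.app U x
      map_add' := fun x y => map_add _ x y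
      map_smul' := fun c x => Scheme.Modules.Hom.app_smul e.inv _ x }
  let r : Γ(M, U) →ₗ[A] Γ(M', U) :=
    { toFun := fun x => e.hom.app U x
      map_add' := fun x y => map_add _ x y
      map_smul' := fun c x => Scheme.Modules.Hom.app_smul e.hom _ x }
  exact Module.Flat.of_retract l r (LinearMap.ext fun x =>
    ConcreteCategory.congr_hom (congrArg (fun t => t.app U) e.inv_hom_id) x)

/-- If the global sections of high twists are flat over `A`, so are the sections over a generating locus. -/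
theorem flat_genLocus [CompactSpace X] [QuasiSeparatedSpace X] {F L : X.Modules} (hF : Coh.IsQCoh F)
    (hL : PicF.IsInvertible L) (s : Coh.structureModule X ⟶ L) (n₀ : ℕ)
    (hq : ∀ n : ℕ, Coh.IsQCoh (CohB1.tensorMod F (CohB1.tensorPow L n)))
    (hflat : ∀ n : ℕ, n₀ ≤ n → letI := QCoh.secModule φ (CohB1.tensorMod F (CohB1.tensorPow L n)) ⊤
      Module.Flat A Γ(CohB1.tensorMod F (CohB1.tensorPow L n), ⊤)) :
    letI := QCoh.secModule φ F (CohB1.genLocus L s)
    Module.Flat A Γ(F, CohB1.genLocus L s) := by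
  classical
  let G := CohB1.genLocus L s
  letI : ∀ (Z : X.Modules) (U : X.Opens), Module A Γ(Z, U) := fun Z U => QCoh.secModule φ Z U
  refine Module.Flat.of_forall_isTrivialRelation fun {l a m} hrel => ?_
  choose k hk using fun i => AmpleX.exists_extend' hF hL s (m i)
  let K := n₀ + Finset.univ.sup k
  choose t ht using fun i => hk i K ((Finset.le_sup (Finset.mem_univ i)).trans (Nat.le_add_left _ _))
  let e := AModX.res L (le_top : G ≤ ⊤) (InvX.one s)
  have he : InvX.IsFrame e := AmpleX.res_genLocus_frame s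
  let FK := CohB1.tensorMod F (CohB1.tensorPow L K)
  have hsum : AModX.res FK (le_top : G ≤ ⊤) (∑ i, a i • t i) = 0 := by
    rw [map_sum]
    refine (Finset.sum_congr rfl fun i _ => ?_).trans ((map_sum (tmulL (AmpleX.powElt e K))
      (fun i => a i • m i) _).symm.trans ((congrArg _ hrel).trans (map_zero _)))
    rw [tmulL_apply, res_secModule φ, ht i, smul_tmul φ]
  obtain ⟨l₀, hl₀⟩ := AmpleX.exists_killed (hq K) hL s _ hsum
  let b := AmpleX.powElt (InvX.one s) l₀
  have hiso : Nonempty (CohB1.tensorMod FK (CohB1.tensorPow L l₀) ≅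
      CohB1.tensorMod F (CohB1.tensorPow L (K + l₀))) := H23.PicMul.cl_eq_iff.1 (by
    simp only [FK, H23.PicMul.cl_tensor, H23.PicMul.cl_tensorPow, pow_add, mul_assoc])
  haveI : Module.Flat A Γ(CohB1.tensorMod FK (CohB1.tensorPow L l₀), ⊤) :=
    flat_of_iso φ hiso.some.symm ⊤ (hflat _ (by omega))
  have hrel' : ∑ i, a i • InvX.tmul (t i) b = 0 := by
    refine (Finset.sum_congr rfl fun i _ => ?_).trans ((map_sum (tmulL b) (fun i => a i • t i) _).symm.trans
      (hl₀ l₀ le_rfl))
    rw [tmulL_apply, smul_tmul φ]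
  obtain ⟨q, c, z, hz, hc⟩ := Module.Flat.isTrivialRelation_of_sum_smul_eq_zero hrel'
  let eK := AmpleX.powElt e K
  let el := AmpleX.powElt e l₀
  have hres : ∀ i, InvX.tmul (InvX.tmul (m i) eK) el =
      ∑ j, c i j • AModX.res _ (le_top : G ≤ ⊤) (z j) := fun i => by
    have h1 := congrArg (AModX.res (CohB1.tensorMod FK (CohB1.tensorPow L l₀)) (le_top : G ≤ ⊤)) (hz i)
    rw [map_sum, InvX.res_tmul, ht i, AmpleX.res_powElt] at h1
    exact h1.trans (Finset.sum_congr rfl fun j _ => res_secModule φ _ _ _)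
  have heK : InvX.IsFrame eK := AmpleX.isFrame_powElt he K
  have hel : InvX.IsFrame el := AmpleX.isFrame_powElt he l₀
  choose y hy using fun j => (tmul_frame_surj hel (AModX.res _ (le_top : G ≤ ⊤) (z j))).imp
    fun _ h => h
  choose v hv using fun j => tmul_frame_surj heK (y j)
  refine ⟨q, c, v, fun i => sub_eq_zero.1 (tmul_frame_inj heK (tmul_frame_inj hel ?_)), hc⟩
  rw [← tmulL_apply, ← tmulL_apply, map_sub, map_sub, map_sum, map_sum, tmulL_apply, tmulL_apply, hres i,
    sub_eq_zero]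
  refine Finset.sum_congr rfl fun j _ => ?_
  rw [tmulL_apply, tmulL_apply, smul_tmul φ, smul_tmul φ, hv j, hy j]

end Groth.Agent.H9Misc.FlatTwist
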