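import Groth.Agent.S0002
import Groth.Agent.FFun.Sup
import Groth.Agent.FFun.GoodM
import Groth.Agent.SheafHomX.Proper
import Groth.Agent.ArtFunLib.HilbAffine
import Groth.Agent.MorLib.UnivHomeo
import Groth.Agent.P1Sym.Finite

/-!
# Global sections of infinitesimal neighbourhoods are radicial over global sections
-/

universe u

set_option backward.isDefEq.respectTransparency false
set_option backward.isDefEq.respectTransparency.types false

open CategoryTheory CategoryTheory.Limits AlgebraicGeometry TopologicalSpace Opposite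
open Groth.Agent.PnCoh.Finite (mapLin)

noncomputable section

namespace Groth.Agent.H9Misc.FormalRadicial

open FFun

variable {A : Type u} [CommRing A] [IsNoetherianRing A] {X : Scheme.{u}} [X.Over (Spec (CommRingCat.of A))]

theorem exists_sections_image_le [IsProper (X ↘ Spec (CommRingCat.of A))] {M : X.Modules} (hM : Coh.IsCoh M)
    (I : Ideal A) (n : ℕ) :
    ∃ (k : ℕ) (h : n ≤ k), ∀ y : Γ(modJ (I ^ k) M, ⊤), ∃ t : Γ(M, ⊤),
      (modJπ (I ^ n) M).app ⊤ t = (trJ (Ideal.pow_le_pow_right h) M).app ⊤ y := by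
  haveI : CompactSpace X := QuasiCompact.compactSpace_of_compactSpace (X ↘ Spec (CommRingCat.of A))
  haveI : IsLocallyNoetherian X := LocallyOfFiniteType.isLocallyNoetherian (X ↘ Spec (CommRingCat.of A))
  haveI : IsNoetherian X := { __ := ‹IsLocallyNoetherian X›, __ := ‹CompactSpace X› }
  have hG := good_of_finite (X := X) (Z := Set.univ) (fun N hN q => Groth.Agent.S0002.result A X N hN.1 q) I
  obtain ⟨k, h, hy⟩ := (hG M (inCls_univ hM) 0).2 n
  refine ⟨k, h, fun y => ?_⟩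
  obtain ⟨z, hz⟩ := hy ((Sheaf.H.equiv₀ (Coh.toAb (modJ (I ^ k) M)) isTerminalTop).symm y)
  refine ⟨Sheaf.H.equiv₀ (Coh.toAb M) isTerminalTop z, ?_⟩
  refine (Sheaf.H.equiv₀_naturality isTerminalTop ((QCoh.toAbFunctor X).map (modJπ (I ^ n) M)) z).trans ?_
  refine (congrArg (Sheaf.H.equiv₀ (Coh.toAb (modJ (I ^ n) M)) isTerminalTop) hz).trans ?_
  refine (Sheaf.H.equiv₀_naturality isTerminalTop ((QCoh.toAbFunctor X).map
    (trJ (Ideal.pow_le_pow_right h) M)) ((Sheaf.H.equiv₀ (Coh.toAb (modJ (I ^ k) M)) isTerminalTop).symm y)).symm.trans ?_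
  exact congrArg ((trJ (Ideal.pow_le_pow_right h) M).app ⊤) (AddEquiv.apply_symm_apply _ y)

/-- The reduction modulo an ideal. -/
abbrev redι (J : Ideal A) :=
  pullback.fst (X ↘ Spec (CommRingCat.of A)) (Spec.map (CommRingCat.ofHom (Ideal.Quotient.mk J)))

theorem app_surjective_and_ker (J : Ideal A) {W : X.Opens} (hW : IsAffineOpen W) :
    Function.Surjective ((redι (X := X) J).app W).hom ∧
      RingHom.ker ((redι (X := X) J).app W).hom = J.map (φsec W) := by
  have h := ArtFunLib.HilbAffine.ker_appLE_of_isPullback (φ := CommRingCat.ofHom (Ideal.Quotient.mk J))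
    Ideal.Quotient.mk_surjective
    (IsPullback.of_hasPullback (X ↘ Spec (CommRingCat.of A)) (Spec.map (CommRingCat.ofHom (Ideal.Quotient.mk J))))
    ⟨W, hW⟩ _ rfl le_rfl
  rw [← Scheme.Hom.app_eq_appLE] at h
  refine ⟨h.1, h.2.trans ?_⟩
  rw [CommRingCat.hom_ofHom, Ideal.mk_ker]
  rfl

theorem π_eq_of_app_eq (J : Ideal A) {U : X.Opens} (d : Γ(X, U)) (hd : (redι (X := X) J).app U d = 0) :
    (modJπ J (Coh.structureModule X)).app U (show Γ(Coh.structureModule X, U) from d) = 0 := by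
  choose W hW hxW hWU using fun x : U => exists_isAffineOpen_mem_and_subset (X := X) (x := x.1) x.2
  refine TopCat.Sheaf.eq_of_locally_eq'
    ⟨(modJ J (Coh.structureModule X)).presheaf, (modJ J (Coh.structureModule X)).isSheaf⟩ W U
    (fun x => homOfLE (hWU x)) (fun x hx => Opens.mem_iSup.2 ⟨⟨x, hx⟩, hxW ⟨x, hx⟩⟩) _ 0 fun x => ?_
  rw [map_zero]
  have h0 : X.presheaf.map (homOfLE (hWU x)).op d ∈ RingHom.ker ((redι (X := X) J).app (W x)).hom := by
    refine RingHom.mem_ker.2 ((ConcreteCategory.congr_hom ((redι (X := X) J).naturality (homOfLE (hWU x)).op) d).trans ?_)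
    simp only [CommRingCat.comp_apply]
    rw [hd]
    exact map_zero _
  rw [(app_surjective_and_ker J (hW x)).2] at h0
  refine (QCoh.map_app_comm (modJπ J (Coh.structureModule X)) (homOfLE (hWU x)) d).symm.trans (π_app_eq_zero (Coh.structureModule X) J (W x) ?_)
  rw [Ideal.smul_eq_mul, Ideal.mul_top]
  exact h0

theorem π_sub_eq_zero {J J' : Ideal A} (hJ : J' ≤ J) (M : X.Modules) (y : Γ(modJ J' M, ⊤)) (t : Γ(M, ⊤))
    (ht : (modJπ J M).app ⊤ t = (trJ hJ M).app ⊤ y) (U : X.Opens) (s : Γ(M, U))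
    (hy : (modJ J' M).presheaf.map (homOfLE (le_top : U ≤ ⊤)).op y = (modJπ J' M).app U s) :
    (modJπ J M).app U (s - M.presheaf.map (homOfLE (le_top : U ≤ ⊤)).op t) = 0 := by
  have e2 : (modJπ J M).app U s = (trJ hJ M).app U ((modJπ J' M).app U s) :=
    congr(($(π_descJ (modJπ J M) (hJ.trans (le_killIdeal_modJ J M)))).app U s).symm
  rw [map_sub, sub_eq_zero, e2, ← hy, QCoh.map_app_comm, QCoh.map_app_comm, ht]

theorem mem_of_π_sub {U : X.Opens} (hU : IsAffineOpen U) (I : Ideal A) (d : Γ(X, U))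
    (hd : (modJπ (I ^ 1) (Coh.structureModule X)).app U (show Γ(Coh.structureModule X, U) from d) = 0) :
    d ∈ I.map (φsec U) := by
  have h := mem_of_π_app_eq_zero (QCoh.isQCoh_structureModule (X := X)) (I ^ 1) hU hd
  rw [Ideal.smul_eq_mul, Ideal.mul_top] at h
  rwa [pow_one] at h

theorem exists_sub_pow_eq_zero [IsProper (X ↘ Spec (CommRingCat.of A))] (I : Ideal A) :
    ∃ k : ℕ, 1 ≤ k ∧ ∀ s : Γ(pullback (X ↘ Spec (CommRingCat.of A))
        (Spec.map (CommRingCat.ofHom (Ideal.Quotient.mk (I ^ k)))), ⊤),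
      ∃ t : Γ(X, ⊤), IsNilpotent (s - (redι (X := X) (I ^ k)).appTop t) := by
  haveI : IsLocallyNoetherian X := LocallyOfFiniteType.isLocallyNoetherian (X ↘ Spec (CommRingCat.of A))
  let M := Coh.structureModule X
  obtain ⟨k, hk, hy⟩ := exists_sections_image_le (QCoh.isCoh_structureModule' (X := X)) I 1
  refine ⟨k, hk, fun s => ?_⟩
  let P := pullback (X ↘ Spec (CommRingCat.of A)) (Spec.map (CommRingCat.ofHom (Ideal.Quotient.mk (I ^ k))))
  let i : P ⟶ X := redι (X := X) (I ^ k)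
  let rs : ∀ U : X.Opens, Γ(P, i ⁻¹ᵁ U) := fun U =>
    P.presheaf.map (homOfLE (le_top : i ⁻¹ᵁ U ≤ ⊤)).op s
  choose sU hsU using fun U : X.affineOpens => (app_surjective_and_ker (I ^ k) U.2).1 (rs U.1)
  have hres : ∀ {U V : X.Opens} (h : V ≤ U) (d : Γ(X, U)), i.app V (X.presheaf.map (homOfLE h).op d) =
      P.presheaf.map (homOfLE (i.preimage_mono h)).op (i.app U d) := fun h d =>
    ConcreteCategory.congr_hom (i.naturality (homOfLE h).op) d
  have hrs : ∀ {U V : X.Opens} (h : V ≤ U), P.presheaf.map (homOfLE (i.preimage_mono h)).op (rs U) = rs V :=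
    fun h => (ConcreteCategory.congr_hom (P.presheaf.map_comp _ _) s).symm
  let yU : ∀ U : X.affineOpens, Γ(modJ (I ^ k) M, U.1) := fun U => (modJπ (I ^ k) M).app U.1 (show Γ(M, U.1) from sU U)
  obtain ⟨y, hy', -⟩ := TopCat.Sheaf.existsUnique_gluing' ⟨(modJ (I ^ k) M).presheaf, (modJ (I ^ k) M).isSheaf⟩
    (fun U : X.affineOpens => U.1) ⊤ (fun U => homOfLE le_top)
    (fun x _ => by
      obtain ⟨W, hW, hxW, -⟩ := exists_isAffineOpen_mem_and_subset (X := X) (x := x) (U := ⊤) trivial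
      exact Opens.mem_iSup.2 ⟨⟨W, hW⟩, hxW⟩) yU
    (fun U V => by
      refine (QCoh.map_app_comm (modJπ (I ^ k) M) (homOfLE inf_le_left) (sU U)).symm.trans (Eq.trans ?_ (QCoh.map_app_comm (modJπ (I ^ k) M) (homOfLE inf_le_right) (sU V)))
      rw [← sub_eq_zero, ← map_sub]
      refine π_eq_of_app_eq (I ^ k) (U := U.1 ⊓ V.1)
        (X.presheaf.map (homOfLE (inf_le_left : U.1 ⊓ V.1 ≤ U.1)).op (sU U) -
          X.presheaf.map (homOfLE (inf_le_right : U.1 ⊓ V.1 ≤ V.1)).op (sU V)) ?_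
      show i.app _ (_ - _) = 0
      rw [map_sub, hres, hres]
      refine sub_eq_zero.2 ?_
      exact ((congrArg _ (hsU U)).trans (hrs inf_le_left)).trans ((congrArg _ (hsU V)).trans (hrs inf_le_right)).symm)
  obtain ⟨t, ht⟩ := hy y
  refine ⟨(show Γ(X, ⊤) from t), k, ?_⟩
  refine TopCat.Sheaf.eq_of_locally_eq' P.sheaf (fun U : X.affineOpens => i ⁻¹ᵁ U.1) ⊤
    (fun U => homOfLE le_top) (fun z _ => ?_) _ _ fun U => ?_
  · obtain ⟨W, hW, hxW, -⟩ := exists_isAffineOpen_mem_and_subset (X := X) (x := i z) (U := ⊤) trivial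
    exact Opens.mem_iSup.2 ⟨⟨W, hW⟩, hxW⟩
  show P.presheaf.map (homOfLE (le_top : i ⁻¹ᵁ U.1 ≤ ⊤)).op ((s - i.appTop t) ^ k) =
    P.presheaf.map (homOfLE (le_top : i ⁻¹ᵁ U.1 ≤ ⊤)).op 0
  rw [map_pow, map_sub, map_zero]
  let t' : Γ(X, U.1) := X.presheaf.map (homOfLE (le_top : U.1 ≤ ⊤)).op (show Γ(X, ⊤) from t)
  have hi : P.presheaf.map (homOfLE (le_top : i ⁻¹ᵁ U.1 ≤ ⊤)).op (i.appTop t) = i.app U.1 t' :=
    (hres (le_top : U.1 ≤ ⊤) _).symm
  rw [hi, show P.presheaf.map (homOfLE (le_top : i ⁻¹ᵁ U.1 ≤ ⊤)).op s = i.app U.1 (sU U) from (hsU U).symm,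
    ← map_sub, ← map_pow]
  refine RingHom.mem_ker.1 ?_
  rw [(app_surjective_and_ker (I ^ k) U.2).2, Ideal.map_pow]
  refine Ideal.pow_mem_pow ?_ k
  have key := π_sub_eq_zero (Ideal.pow_le_pow_right hk) M y t ht U.1 (show Γ(M, U.1) from sU U) (hy' U)
  exact mem_of_π_sub U.2 I _ key

/-- Surjective modulo nilpotents implies universally injective. -/
theorem universallyInjective_specMap {R S : CommRingCat.{u}} (φ : R ⟶ S)
    (h : ∀ s, ∃ r, IsNilpotent (s - φ r)) : UniversallyInjective (Spec.map φ) := by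
  let q : S ⟶ CommRingCat.of (S ⧸ nilradical S) := CommRingCat.ofHom (Ideal.Quotient.mk _)
  haveI : Surjective (Spec.map q) := ⟨fun p => by
    refine ⟨⟨p.asIdeal.map (Ideal.Quotient.mk (nilradical S)),
      Ideal.map_isPrime_of_surjective Ideal.Quotient.mk_surjective
        (by rw [Ideal.mk_ker]; exact nilradical_le_prime _)⟩, PrimeSpectrum.ext ?_⟩
    show Ideal.comap (Ideal.Quotient.mk (nilradical S)) (Ideal.map (Ideal.Quotient.mk (nilradical S)) p.asIdeal) = _
    rw [Ideal.comap_map_of_surjective _ Ideal.Quotient.mk_surjective]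
    refine sup_eq_left.2 ?_
    intro x hx
    exact nilradical_le_prime _ (Ideal.Quotient.eq_zero_iff_mem.1 hx)⟩
  haveI := IsClosedImmersion.spec_of_surjective (φ ≫ q) fun z => by
    obtain ⟨s, rfl⟩ := Ideal.Quotient.mk_surjective z
    obtain ⟨r, hr⟩ := h s
    exact ⟨r, (Ideal.Quotient.eq.2 (mem_nilradical.2 hr)).symm⟩
  refine MorLib.universallyInjective_of_comp_surjective (Spec.map q) (Spec.map φ) ?_
  rw [← Spec.map_comp]
  infer_instance

theorem main [IsProper (X ↘ Spec (CommRingCat.of A))]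
    (hpi : UniversallyInjective (Spec.map (X ↘ Spec (CommRingCat.of A)).appTop)) (I : Ideal A) :
    ∃ J : Ideal A, J ≤ I ∧ I ≤ J.radical ∧
      UniversallyInjective (Spec.map (pullback.snd (X ↘ Spec (CommRingCat.of A))
        (Spec.map (CommRingCat.ofHom (Ideal.Quotient.mk J)))).appTop) := by
  obtain ⟨k, hk, h⟩ := exists_sub_pow_eq_zero (X := X) I
  refine ⟨I ^ k, Ideal.pow_le_self (Nat.one_le_iff_ne_zero.1 hk), fun x hx => ⟨k, Ideal.pow_mem_pow hx k⟩, ?_⟩
  haveI := universallyInjective_specMap (redι (X := X) (I ^ k)).appTop h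
  haveI := hpi
  refine MorLib.universallyInjective_of_comp _
    (Spec.map (Spec.map (CommRingCat.ofHom (Ideal.Quotient.mk (I ^ k)))).appTop) ?_
  have e := congrArg (fun g => Spec.map g.appTop)
    (pullback.condition (f := X ↘ Spec (CommRingCat.of A)) (g := Spec.map (CommRingCat.ofHom (Ideal.Quotient.mk (I ^ k)))))
  simp only [Scheme.Hom.comp_appTop, Spec.map_comp] at e
  rw [← e]
  exact MorphismProperty.comp_mem @UniversallyInjective _ _ inferInstance inferInstance

end Groth.Agent.H9Misc.FormalRadicial
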