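import Groth.Agent.H9Misc.ProjVan
import Groth.Agent.GrModX.Exact

/-!
# Shifted maps of `M(n)~` and the free graded module
-/

set_option autoImplicit false
set_option backward.isDefEq.respectTransparency false
set_option backward.isDefEq.respectTransparency.types false
set_option linter.style.haveILetI false
set_option linter.unusedSectionVars false
set_option maxHeartbeats 1600000
set_option synthInstance.maxHeartbeats 200000

universe u

open CategoryTheory CategoryTheory.Limits AlgebraicGeometry TopologicalSpace Opposite DirectSum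

noncomputable section

namespace Groth.Agent.H9Misc.FreeTilde

open Groth.Agent

section Shift

variable {A σ : Type u} [CommRing A] [SetLike σ A] [AddSubgroupClass σ A] (𝒜 : ℕ → σ) [GradedRing 𝒜]
variable {M τ : Type u} [AddCommGroup M] [Module A M] [SetLike τ M] [AddSubgroupClass τ M] {ℳ : ℕ → τ}
  [SetLike.GradedSMul 𝒜 ℳ]
variable {N τ' : Type u} [AddCommGroup N] [Module A N] [SetLike τ' N] [AddSubgroupClass τ' N] {𝒩 : ℕ → τ'}
  [SetLike.GradedSMul 𝒜 𝒩]
variable (u : M →ₗ[A] N) {a b : ℤ}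
  (hu : ∀ (i : ℕ) (m : M), m ∈ ℳ i → GrModX.Deg 𝒩 ((i : ℤ) - a + b) (u m))

include hu in
theorem locMap_mem_shift (x : ProjectiveSpectrum 𝒜) {q : GrMod.LocMod 𝒜 (M := M) x}
    (hq : q ∈ GrMod.tildeAt 𝒜 ℳ a x) : GrMod.locMap u x q ∈ GrMod.tildeAt 𝒜 𝒩 b x := by
  induction hq using Submodule.span_induction with
  | mem q h =>
    obtain ⟨i, j, m, s, hs, hij, rfl⟩ := h
    rw [GrMod.locMap_mk]
    exact GrModX.mk_mem_tildeAt 𝒜 𝒩 b x s.2 hs ((hu i m m.2).congr (by omega))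
  | zero => rw [map_zero]; exact zero_mem _
  | add q q' _ _ h h' => rw [map_add]; exact add_mem h h'
  | smul c q _ h =>
    rw [GrMod.a0_smul_def]
    change (LocalizedModule.map _ u) (c.val • q) ∈ _
    rw [LinearMap.map_smul, ← GrMod.a0_smul_def]
    exact Submodule.smul_mem _ c h

variable (U : (Opens (ProjectiveSpectrum.top 𝒜))ᵒᵖ)

/-- The shifted map on dependent functions. -/
def shiftFn (f : ∀ x : U.unop, GrMod.tildeAt 𝒜 ℳ a x.1) (x : U.unop) : GrMod.tildeAt 𝒜 𝒩 b x.1 :=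
  ⟨GrMod.locMap u x.1 (f x).1, locMap_mem_shift 𝒜 u hu x.1 (f x).2⟩

theorem isLocFrac_shiftFn (f : ∀ x : U.unop, GrMod.tildeAt 𝒜 ℳ a x.1) (hf : (GrMod.isLocFrac 𝒜 ℳ a).pred f) :
    (GrMod.isLocFrac 𝒜 𝒩 b).pred (shiftFn 𝒜 u hu U f) := fun x => by
  rcases hf x with ⟨V, mV, iV, i, j, m, s, nin, c, w⟩
  have hd : GrModX.Deg 𝒩 ((j : ℤ) + b) (u m) := by
    rcases c with c | c
    · exact (hu i m m.2).congr (by omega)
    · exact Or.inl (by rw [c, map_zero])
  have key : ∀ y : V, GrMod.locMap u y.1 (f (iV y)).1 =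
      LocalizedModule.mk (u m) ⟨(s : A), nin y⟩ := fun y => by
    rw [w y, GrMod.locMap_mk]
  rcases hd with h0 | ⟨i', hi', hmem⟩
  · exact ⟨V, mV, iV, 0, j, ⟨0, zero_mem _⟩, s, nin, Or.inr rfl, fun y => (key y).trans (by rw [h0])⟩
  · exact ⟨V, mV, iV, i', j, ⟨u m, hmem⟩, s, nin, Or.inl hi', key⟩

/-- The shifted map on sections. -/
def shiftApp : GrMod.sect 𝒜 ℳ a U →+ GrMod.sect 𝒜 𝒩 b U where
  toFun f := ⟨shiftFn 𝒜 u hu U f.1, isLocFrac_shiftFn 𝒜 u hu U f.1 f.2⟩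
  map_zero' := Subtype.ext (funext fun x => Subtype.ext (map_zero (GrMod.locMap u x.1)))
  map_add' f g := Subtype.ext (funext fun x => Subtype.ext (map_add (GrMod.locMap u x.1) _ _))

theorem shiftApp_smul (r : GrTwist.O (𝒜 := 𝒜) U) (f : GrMod.sect 𝒜 ℳ a U) :
    shiftApp 𝒜 u hu U (r • f) = r • shiftApp 𝒜 u hu U f :=
  Subtype.ext (funext fun x => Subtype.ext (LinearMap.map_smul (LocalizedModule.map _ u) (r.1 x).val (f.1 x).1))

/-- `M(a)~ ⟶ N(b)~` of a map shifting degrees by `b - a`. -/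
def shiftMap : GrMod.tilde 𝒜 ℳ a ⟶ GrMod.tilde 𝒜 𝒩 b :=
  ⟨PresheafOfModules.homMk
    { app := fun U => AddCommGrpCat.ofHom (shiftApp 𝒜 u hu U)
      naturality := fun _ _ _ => rfl }
    fun U r s => shiftApp_smul 𝒜 u hu U r s⟩

theorem shiftMap_app_val (V : (Proj 𝒜).Opens) (s : Γ(GrMod.tilde 𝒜 ℳ a, V)) (y : V) :
    GrMod.val ((shiftMap 𝒜 u hu).app V s) y = GrMod.locMap u y.1 (GrMod.val s y) := rfl

end Shift

section Free

variable {R A : Type u} [CommRing R] [CommRing A] [Algebra R A] (𝒜 : ℕ → Submodule R A) [GradedAlgebra 𝒜]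

/-- The pieces of `A(-e)`. -/
def sh (e d : ℕ) : Submodule R A := if e ≤ d then 𝒜 (d - e) else ⊥

theorem mem_sh {e i : ℕ} {x : A} (hx : x ∈ 𝒜 i) : x ∈ sh 𝒜 e (i + e) := by
  rw [sh, if_pos (Nat.le_add_left e i), Nat.add_sub_cancel]
  exact hx

theorem deg_of_mem_sh {e d : ℕ} {x : A} (hx : x ∈ sh 𝒜 e d) : GrModX.Deg 𝒜 ((d : ℤ) - e) x := by
  by_cases h : e ≤ d
  · rw [sh, if_pos h] at hx
    exact Or.inr ⟨d - e, by omega, hx⟩
  · rw [sh, if_neg h] at hx
    exact Or.inl hx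

variable (r e : ℕ)

/-- The pieces of `A(-e)^r`. -/
def free (d : ℕ) : Submodule R (Fin r → A) := Submodule.pi Set.univ fun _ => sh 𝒜 e d

theorem mem_free {d : ℕ} {v : Fin r → A} : v ∈ free 𝒜 r e d ↔ ∀ j, v j ∈ sh 𝒜 e d := by
  simp [free, Submodule.mem_pi]

theorem single_mem_free {i : ℕ} (j : Fin r) {x : A} (hx : x ∈ 𝒜 i) :
    Pi.single j x ∈ free 𝒜 r e (i + e) := by
  classical
  refine (mem_free 𝒜 r e).2 fun l => ?_
  by_cases h : l = j
  · subst h; rw [Pi.single_eq_same]; exact mem_sh 𝒜 hx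
  · rw [Pi.single_eq_of_ne h]; exact zero_mem _

instance : SetLike.GradedSMul 𝒜 (free 𝒜 r e) where
  smul_mem := by
    intro i d a v ha hv
    rw [mem_free] at hv ⊢
    intro j
    have h := hv j
    by_cases he : e ≤ d
    · rw [sh, if_pos he] at h
      show a * v j ∈ sh 𝒜 e (i + d)
      rw [show i + d = (i + (d - e)) + e by omega]
      exact mem_sh 𝒜 (SetLike.mul_mem_graded ha h)
    · rw [sh, if_neg he, Submodule.mem_bot] at h
      show a * v j ∈ sh 𝒜 e (i + d)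
      rw [h, mul_zero]
      exact zero_mem _

/-- One coordinate into the pieces. -/
def decompAt (j : Fin r) : A →+ ⨁ d, free 𝒜 r e d :=
  (DirectSum.toAddMonoid fun i : ℕ =>
    (DirectSum.of (fun d => free 𝒜 r e d) (i + e)).comp
      (AddMonoidHom.mk' (fun x : 𝒜 i => (⟨Pi.single j x.1,
          single_mem_free 𝒜 r e j x.2⟩ : free 𝒜 r e (i + e)))
        fun x y => Subtype.ext (by simp only [Submodule.coe_add, Pi.single_add]))).comp
    (decomposeAddEquiv 𝒜).toAddMonoidHom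

theorem decompAt_of_mem (j : Fin r) {i : ℕ} {x : A} (hx : x ∈ 𝒜 i) :
    decompAt 𝒜 r e j x = DirectSum.of (fun d => free 𝒜 r e d) (i + e)
      ⟨Pi.single j x, single_mem_free 𝒜 r e j hx⟩ := by
  show DirectSum.toAddMonoid _ (decompose 𝒜 x) = _
  rw [decompose_of_mem 𝒜 hx, DirectSum.toAddMonoid_of]
  rfl

theorem coe_decompAt (j : Fin r) (x : A) :
    DirectSum.coeAddMonoidHom (free 𝒜 r e) (decompAt 𝒜 r e j x) = Pi.single j x := by
  induction x using Decomposition.inductionOn 𝒜 with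
  | zero => rw [map_zero, map_zero, Pi.single_zero]
  | @homogeneous i m => rw [decompAt_of_mem 𝒜 r e j m.2, DirectSum.coeAddMonoidHom_of]
  | add a b ha hb => rw [map_add, map_add, ha, hb, Pi.single_add]

instance : DirectSum.Decomposition (free 𝒜 r e) where
  decompose' := fun v => ∑ j, decompAt 𝒜 r e j (v j)
  left_inv v := by
    show DirectSum.coeAddMonoidHom (free 𝒜 r e) (∑ j, decompAt 𝒜 r e j (v j)) = v
    rw [map_sum]
    simp_rw [coe_decompAt]
    exact Finset.univ_sum_single v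
  right_inv w := by
    show ∑ j, decompAt 𝒜 r e j (DirectSum.coeAddMonoidHom (free 𝒜 r e) w j) = w
    induction w using DirectSum.induction_on with
    | zero => simp
    | of d v =>
      rw [DirectSum.coeAddMonoidHom_of]
      have hv := (mem_free 𝒜 r e).1 v.2
      by_cases h : e ≤ d
      · obtain ⟨i, rfl⟩ : ∃ i, d = i + e := ⟨d - e, (Nat.sub_add_cancel h).symm⟩
        have hv' : ∀ j, v.1 j ∈ 𝒜 i := fun j => by
          have := hv j
          rwa [sh, if_pos h, Nat.add_sub_cancel] at this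
        simp_rw [decompAt_of_mem 𝒜 r e _ (hv' _)]
        rw [← map_sum]
        congr 1
        refine Subtype.ext ?_
        rw [AddSubmonoidClass.coe_finsetSum]
        exact Finset.univ_sum_single v.1
      · have h0 : v = 0 := Subtype.ext (funext fun j => by
          have := hv j
          rwa [sh, if_neg h, Submodule.mem_bot] at this)
        subst h0
        simp
    | add a b ha hb =>
      rw [map_add]
      simp only [Pi.add_apply, map_add, Finset.sum_add_distrib, ha, hb]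

theorem proj_shift (j : Fin r) (d : ℕ) (v : Fin r → A) (hv : v ∈ free 𝒜 r e d) :
    GrModX.Deg 𝒜 ((d : ℤ) - 0 + -(e : ℤ)) ((LinearMap.proj j : (Fin r → A) →ₗ[A] A) v) := by
  rw [sub_zero, ← sub_eq_add_neg]
  exact deg_of_mem_sh 𝒜 ((mem_free 𝒜 r e).1 hv j)

theorem single_shift (j : Fin r) (i : ℕ) (x : A) (hx : x ∈ 𝒜 i) :
    GrModX.Deg (free 𝒜 r e) ((i : ℤ) - -(e : ℤ) + 0) (LinearMap.single A (fun _ : Fin r => A) j x) :=
  Or.inr ⟨i + e, by push_cast; ring, single_mem_free 𝒜 r e j hx⟩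

/-- The coordinates `A(-e)^r~ ⟶ A(-e)~`. -/
def projMap (j : Fin r) : GrMod.tilde 𝒜 (free 𝒜 r e) 0 ⟶ GrMod.tilde 𝒜 𝒜 (-(e : ℤ)) :=
  shiftMap 𝒜 (LinearMap.proj j : (Fin r → A) →ₗ[A] A) (proj_shift 𝒜 r e j)

/-- The inclusions `A(-e)~ ⟶ A(-e)^r~`. -/
def inclMap (j : Fin r) : GrMod.tilde 𝒜 𝒜 (-(e : ℤ)) ⟶ GrMod.tilde 𝒜 (free 𝒜 r e) 0 :=
  shiftMap 𝒜 (LinearMap.single A (fun _ : Fin r => A) j) (single_shift 𝒜 r e j)

theorem inclMap_projMap (i j : Fin r) :
    inclMap 𝒜 r e i ≫ projMap 𝒜 r e j = if i = j then 𝟙 _ else 0 := by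
  classical
  refine Scheme.Modules.hom_ext _ _ fun U => ?_
  ext s
  refine GrModX.ext_val 𝒜 𝒜 fun y => ?_
  show GrMod.val ((projMap 𝒜 r e j).app U ((inclMap 𝒜 r e i).app U s)) y = _
  rw [projMap, shiftMap_app_val, inclMap, shiftMap_app_val]
  obtain ⟨⟨m, t⟩, hmt⟩ := Quotient.exists_rep (GrMod.val s y)
  have hm : GrMod.val s y = LocalizedModule.mk m t := hmt.symm
  rw [hm, GrMod.locMap_mk, GrMod.locMap_mk, LinearMap.proj_apply, LinearMap.single_apply]
  by_cases h : i = j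
  · subst h
    rw [if_pos rfl, Pi.single_eq_same]
    exact hm.symm
  · rw [if_neg h, Pi.single_eq_of_ne (Ne.symm h), LocalizedModule.zero_mk]
    rfl

/-- `A(-e)^r~` maps onto the sum of the `O(-e)`. -/
theorem exists_epi_free {F : (Proj 𝒜).Modules} (φ : (∐ fun _ : Fin r => Twist.twist 𝒜 (-(e : ℤ))) ⟶ F) [Epi φ] :
    ∃ p : GrMod.tilde 𝒜 (free 𝒜 r e) 0 ⟶ F, Epi p := by
  classical
  let p₀ : GrMod.tilde 𝒜 (free 𝒜 r e) 0 ⟶ ∐ fun _ : Fin r => Twist.twist 𝒜 (-(e : ℤ)) :=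
    ∑ j, projMap 𝒜 r e j ≫ eqToHom (ProjVan.tilde_self_eq (𝒜 := 𝒜) _).symm ≫
      Sigma.ι (fun _ : Fin r => Twist.twist 𝒜 (-(e : ℤ))) j
  let s : (∐ fun _ : Fin r => Twist.twist 𝒜 (-(e : ℤ))) ⟶ GrMod.tilde 𝒜 (free 𝒜 r e) 0 :=
    Sigma.desc fun i => eqToHom (ProjVan.tilde_self_eq (𝒜 := 𝒜) _) ≫ inclMap 𝒜 r e i
  have hs : s ≫ p₀ = 𝟙 _ := Sigma.hom_ext _ _ fun i => by
    rw [Sigma.ι_desc_assoc, Category.assoc, Category.comp_id]
    simp only [p₀, Preadditive.comp_sum]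
    rw [Finset.sum_eq_single i]
    · rw [← Category.assoc (inclMap 𝒜 r e i), inclMap_projMap, if_pos rfl, Category.id_comp]
      rw [← Category.assoc, eqToHom_trans, eqToHom_refl, Category.id_comp]
    · intro j _ hj
      rw [← Category.assoc (inclMap 𝒜 r e i), inclMap_projMap, if_neg (Ne.symm hj), zero_comp, comp_zero]
    · exact fun h => absurd (Finset.mem_univ i) h
  haveI : Epi p₀ := by
    haveI : Epi (s ≫ p₀) := by rw [hs]; infer_instance
    exact epi_of_epi s p₀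
  exact ⟨p₀ ≫ φ, epi_comp _ _⟩

end Free

end Groth.Agent.H9Misc.FreeTilde
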