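import Mathlib.CategoryTheory.Functor.Derived.PointwiseLeftDerived

/-! Pointwise left derived functors from adapted objects. -/

universe v₁ v₂ v₃ u₁ u₂ u₃

open CategoryTheory Category Limits

namespace Groth.Agent.H9Misc.LeftAdapted

variable {C : Type u₁} [Category.{v₁} C] {D : Type u₂} [Category.{v₂} D]
  {H : Type u₃} [Category.{v₃} H]

/-- Conditions for computing a left derived functor with adapted objects. -/
structure IsAdaptedClass (L : C ⥤ D) (G : C ⥤ H) (P : C → Prop) : Prop where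
  res : ∀ X, ∃ (R : C) (w : R ⟶ X), IsIso (L.map w) ∧ P R
  frac : ∀ {X R : C} (g : L.obj R ⟶ L.obj X), ∃ (R' : C) (f : R' ⟶ X) (s : R' ⟶ R),
    IsIso (L.map s) ∧ L.map s ≫ g = L.map f
  eq : ∀ {X R : C} (f g : R ⟶ X), L.map f = L.map g →
    ∃ (R' : C) (t : R' ⟶ R), IsIso (L.map t) ∧ G.map (t ≫ f) = G.map (t ≫ g)
  inverts : ∀ {R R' : C} (s : R ⟶ R'), P R → P R' → IsIso (L.map s) → IsIso (G.map s)

namespace IsAdaptedClass

variable {L : C ⥤ D} {G : C ⥤ H} {P : C → Prop} (h : IsAdaptedClass L G P)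
include h

lemma exists_roof {X R : C} (g : L.obj R ⟶ L.obj X) : ∃ (R' : C) (f : R' ⟶ X) (s : R' ⟶ R),
    P R' ∧ IsIso (L.map s) ∧ L.map s ≫ g = L.map f := by
  obtain ⟨R', f, s, hs, e⟩ := h.frac g
  obtain ⟨R'', w, hw, hR⟩ := h.res R'
  refine ⟨R'', w ≫ f, w ≫ s, hR, by rw [L.map_comp]; infer_instance, ?_⟩
  rw [L.map_comp, L.map_comp, assoc, e]

lemma exists_common {X R R₁ R₂ : C} (f₁ : R₁ ⟶ X) (s₁ : R₁ ⟶ R) (f₂ : R₂ ⟶ X) (s₂ : R₂ ⟶ R)
    (g : L.obj R ⟶ L.obj X) [IsIso (L.map s₁)] [IsIso (L.map s₂)]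
    (e₁ : L.map s₁ ≫ g = L.map f₁) (e₂ : L.map s₂ ≫ g = L.map f₂) :
    ∃ (R₃ : C) (a : R₃ ⟶ R₁) (b : R₃ ⟶ R₂), P R₃ ∧ IsIso (L.map a) ∧ IsIso (L.map b) ∧
      G.map (a ≫ f₁) = G.map (b ≫ f₂) ∧ G.map (a ≫ s₁) = G.map (b ≫ s₂) := by
  obtain ⟨R₀, b, a, ha, e⟩ := h.frac (L.map s₁ ≫ inv (L.map s₂))
  have hb : IsIso (L.map b) := by rw [← e]; infer_instance
  have es : L.map (a ≫ s₁) = L.map (b ≫ s₂) := by
    rw [L.map_comp, L.map_comp, ← e]
    simp
  obtain ⟨R', t, ht, et⟩ := h.eq _ _ es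
  have ef : L.map (t ≫ a ≫ f₁) = L.map (t ≫ b ≫ f₂) := by
    simp only [L.map_comp, ← e₁, ← e₂]
    rw [← L.map_comp_assoc a, es, L.map_comp_assoc]
  obtain ⟨R'', t', ht', et'⟩ := h.eq _ _ ef
  obtain ⟨R₃, w, hw, hR⟩ := h.res R''
  refine ⟨R₃, w ≫ t' ≫ t ≫ a, w ≫ t' ≫ t ≫ b, hR, by simp only [L.map_comp]; infer_instance,
    by simp only [L.map_comp]; infer_instance, ?_, ?_⟩
  · have := congrArg (G.map w ≫ ·) et'
    simpa using this
  · have := congrArg (G.map (w ≫ t') ≫ ·) et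
    simpa using this

/-- The component of the cone. -/
noncomputable def comp {R : C} (hR : P R) {X : C} (g : L.obj R ⟶ L.obj X) : G.obj R ⟶ G.obj X :=
  have := h.inverts (h.exists_roof g).choose_spec.choose_spec.choose
    (h.exists_roof g).choose_spec.choose_spec.choose_spec.1 hR
    (h.exists_roof g).choose_spec.choose_spec.choose_spec.2.1
  inv (G.map (h.exists_roof g).choose_spec.choose_spec.choose) ≫
    G.map (h.exists_roof g).choose_spec.choose

lemma comp_spec {R : C} (hR : P R) {X : C} (g : L.obj R ⟶ L.obj X) {R' : C} (f : R' ⟶ X)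
    (s : R' ⟶ R) (hR' : P R') [IsIso (L.map s)] (e : L.map s ≫ g = L.map f) :
    G.map s ≫ h.comp hR g = G.map f := by
  obtain ⟨hR₀, hs₀, e₀⟩ := (h.exists_roof g).choose_spec.choose_spec.choose_spec
  have := h.inverts (h.exists_roof g).choose_spec.choose_spec.choose hR₀ hR hs₀
  have h0 : G.map (h.exists_roof g).choose_spec.choose_spec.choose ≫ h.comp hR g =
      G.map (h.exists_roof g).choose_spec.choose := by
    simp [comp]
  obtain ⟨R₃, a, b, hR₃, ha, hb, ef, es⟩ := h.exists_common _ _ f s g e₀ e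
  have := h.inverts b hR₃ hR' hb
  rw [← cancel_epi (G.map b), ← assoc, ← G.map_comp, ← es, G.map_comp, assoc, h0,
    ← G.map_comp, ef, G.map_comp]

lemma comp_map {R : C} (hR : P R) {X : C} (f : R ⟶ X) : h.comp hR (L.map f) = G.map f := by
  have := h.comp_spec hR (L.map f) f (𝟙 R) hR (by simp)
  simpa using this

lemma comp_natural {R : C} (hR : P R) {X Y : C} (u : X ⟶ Y) (g : L.obj R ⟶ L.obj X) :
    h.comp hR g ≫ G.map u = h.comp hR (g ≫ L.map u) := by
  obtain ⟨R', f, s, hR', hs, e⟩ := h.exists_roof g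
  have := h.inverts s hR' hR hs
  rw [← cancel_epi (G.map s), reassoc_of% (h.comp_spec hR g f s hR' e),
    h.comp_spec hR (g ≫ L.map u) (f ≫ u) s hR' (by rw [reassoc_of% e, L.map_comp]), G.map_comp]

/-- The cone computing the derived functor at an adapted object. -/
noncomputable def cone {R : C} (hR : P R) : Cone (StructuredArrow.proj (L.obj R) L ⋙ G) where
  pt := G.obj R
  π :=
    { app := fun j => h.comp hR j.hom
      naturality := fun j k u => by
        show 𝟙 _ ≫ h.comp hR k.hom = h.comp hR j.hom ≫ G.map u.right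
        rw [id_comp, h.comp_natural hR u.right j.hom, StructuredArrow.w u] }

/-- The cone is a limit. -/
noncomputable def isLimit {R : C} (hR : P R) : IsLimit (h.cone hR) where
  lift s := s.π.app (StructuredArrow.mk (𝟙 (L.obj R)))
  fac s j := by
    obtain ⟨R', f, t, hR', ht, e⟩ := h.exists_roof j.hom
    have ht' := h.inverts t hR' hR ht
    have e₀ : s.π.app (StructuredArrow.mk (inv (L.map t))) ≫ G.map t =
        s.π.app (StructuredArrow.mk (𝟙 (L.obj R))) := by
      have := s.π.naturality (StructuredArrow.homMk t (by simp) :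
        StructuredArrow.mk (inv (L.map t)) ⟶ StructuredArrow.mk (𝟙 (L.obj R)))
      simp at this
      exact this.symm
    have e₁ : s.π.app (StructuredArrow.mk (inv (L.map t))) ≫ G.map f = s.π.app j := by
      have := s.π.naturality (StructuredArrow.homMk f (by simp [← e]) :
        StructuredArrow.mk (inv (L.map t)) ⟶ j)
      simp at this
      exact this.symm
    show s.π.app (StructuredArrow.mk (𝟙 (L.obj R))) ≫ h.comp hR j.hom = _
    rw [← e₀, ← e₁]
    exact (assoc _ _ _).trans (congrArg (_ ≫ ·) (h.comp_spec hR j.hom f t hR' e))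
  uniq s m hm := by
    have := hm (StructuredArrow.mk (𝟙 (L.obj R)))
    rw [← this]
    show m = m ≫ h.comp hR (𝟙 (L.obj R))
    rw [← L.map_id, h.comp_map hR, G.map_id]
    exact (comp_id _).symm

lemma hasPointwiseRightKanExtensionAt (X : C) :
    Functor.HasPointwiseRightKanExtensionAt L G (L.obj X) := by
  obtain ⟨R, w, hw, hR⟩ := h.res X
  rw [← Functor.hasPointwiseRightKanExtensionAt_iff_of_iso L G (asIso (L.map w))]
  exact ⟨⟨⟨h.cone hR, h.isLimit hR⟩⟩⟩

lemma isIso_app {LF : D ⥤ H} {α : L ⋙ LF ⟶ G}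
    (hα : (Functor.RightExtension.mk LF α).IsPointwiseRightKanExtension) {R : C} (hR : P R) :
    IsIso (α.app R) := by
  have e := IsLimit.conePointUniqueUpToIso_hom_comp (hα (L.obj R)) (h.isLimit hR)
    (StructuredArrow.mk (𝟙 (L.obj R)))
  have e' : h.comp hR (𝟙 (L.obj R)) = 𝟙 _ := by rw [← L.map_id, h.comp_map hR, G.map_id]
  have e'' : α.app R = ((hα (L.obj R)).conePointUniqueUpToIso (h.isLimit hR)).hom := by
    refine Eq.trans ?_ (e.symm.trans ((congrArg (_ ≫ ·) e').trans (comp_id _)))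
    simp
  rw [e'']
  infer_instance

variable (W : MorphismProperty C) [L.IsLocalization W]

lemma hasPointwiseLeftDerivedFunctor : G.HasPointwiseLeftDerivedFunctor W := fun X =>
  (G.hasPointwiseLeftDerivedFunctorAt_iff L W X).2 (h.hasPointwiseRightKanExtensionAt X)

lemma hasLeftDerivedFunctor : G.HasLeftDerivedFunctor W :=
  have := h.hasPointwiseLeftDerivedFunctor W
  inferInstance

lemma isIso_totalLeftDerivedCounit [G.HasLeftDerivedFunctor W] {R : C} (hR : P R) :
    IsIso ((G.totalLeftDerivedCounit L W).app R) :=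
  have := h.hasPointwiseLeftDerivedFunctor W
  h.isIso_app (Functor.isPointwiseRightKanExtensionOfHasPointwiseLeftDerivedFunctor _
    (G.totalLeftDerivedCounit L W) W) hR

end IsAdaptedClass

end Groth.Agent.H9Misc.LeftAdapted
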