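import Groth.Agent.H9Misc.TopDerived
import Groth.Agent.H9Misc.LeftAdapted
import Groth.Agent.H9Misc.ClassResOp
import Mathlib.Algebra.Homology.DerivedCategory.Fractions

/-! `RF ≅ L(RⁿF)[-n]` for functors of cohomological dimension `n`. -/

universe w w' v v' u u'

open CategoryTheory Category Limits HomologicalComplex ZeroObject

namespace Groth.Agent.H9Misc.TopCompare

open Groth.Agent.TriCat Groth.Agent.HorseLib Tower TopDerived DerivedCategory

variable {A : Type u} [Category.{v} A] [Abelian A] [HasDerivedCategory.{w} A] [EnoughInjectives A]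
  {B : Type u'} [Category.{v'} B] [Abelian B] [HasDerivedCategory.{w'} B]
  (F : A ⥤ B) [F.Additive] [PreservesFiniteLimits F] (n : ℕ)

omit [EnoughInjectives A] [PreservesFiniteLimits F] in
lemma eq_post {X R : CochainComplex A ℤ} (f g : X ⟶ R) (e : Q.map f = Q.map g) :
    ∃ (R' : CochainComplex A ℤ) (t : R ⟶ R'), IsIso (Q.map t) ∧
      (F.mapHomologicalComplex (ComplexShape.up ℤ) ⋙ Q).map (f ≫ t) =
        (F.mapHomologicalComplex (ComplexShape.up ℤ) ⋙ Q).map (g ≫ t) := by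
  have e' : Qh.map ((HomotopyCategory.quotient _ _).map f) = Qh.map ((HomotopyCategory.quotient _ _).map g) := by
    have h₁ := NatIso.naturality_1 (quotientCompQhIso A).symm f
    have h₂ := NatIso.naturality_1 (quotientCompQhIso A).symm g
    exact h₁.symm.trans ((congrArg (fun t => _ ≫ t ≫ _) e).trans h₂)
  obtain ⟨R', s, hs, es⟩ := (MorphismProperty.map_eq_iff_postcomp Qh (HomotopyCategory.quasiIso A _) _ _).1 e'
  obtain ⟨R', rfl⟩ := HomotopyCategory.quotient_obj_surjective R'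
  obtain ⟨t, rfl⟩ := (HomotopyCategory.quotient _ _).map_surjective s
  have hs' := Localization.inverts Qh (HomotopyCategory.quasiIso A _) _ hs
  refine ⟨R', t, (NatIso.isIso_map_iff (quotientCompQhIso A) t).1 hs', ?_⟩
  rw [← Functor.map_comp, ← Functor.map_comp] at es
  exact DerivedCategory.Q_map_eq_of_homotopy _ (F.mapHomotopy (HomotopyCategory.homotopyOfEq _ _ es))

omit [EnoughInjectives A] [PreservesFiniteLimits F] in
lemma eq_pre (G : A ⥤ B) [G.Additive] {X R : CochainComplex A ℤ} (f g : R ⟶ X) (e : Q.map f = Q.map g) :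
    ∃ (R' : CochainComplex A ℤ) (t : R' ⟶ R), IsIso (Q.map t) ∧
      (G.mapHomologicalComplex (ComplexShape.up ℤ) ⋙ Q).map (t ≫ f) =
        (G.mapHomologicalComplex (ComplexShape.up ℤ) ⋙ Q).map (t ≫ g) := by
  have e' : Qh.map ((HomotopyCategory.quotient _ _).map f) = Qh.map ((HomotopyCategory.quotient _ _).map g) := by
    have h₁ := NatIso.naturality_1 (quotientCompQhIso A).symm f
    have h₂ := NatIso.naturality_1 (quotientCompQhIso A).symm g
    exact h₁.symm.trans ((congrArg (fun t => _ ≫ t ≫ _) e).trans h₂)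
  obtain ⟨R', s, hs, es⟩ := (MorphismProperty.map_eq_iff_precomp Qh (HomotopyCategory.quasiIso A _) _ _).1 e'
  obtain ⟨R', rfl⟩ := HomotopyCategory.quotient_obj_surjective R'
  obtain ⟨t, rfl⟩ := (HomotopyCategory.quotient _ _).map_surjective s
  have hs' := Localization.inverts Qh (HomotopyCategory.quasiIso A _) _ hs
  refine ⟨R', t, (NatIso.isIso_map_iff (quotientCompQhIso A) t).1 hs', ?_⟩
  rw [← Functor.map_comp, ← Functor.map_comp] at es
  exact DerivedCategory.Q_map_eq_of_homotopy _ (G.mapHomotopy (HomotopyCategory.homotopyOfEq _ _ es))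

/-- The functor on complexes. -/
noncomputable abbrev GR : CochainComplex A ℤ ⥤ DerivedCategory B :=
  F.mapHomologicalComplex (ComplexShape.up ℤ) ⋙ Q

variable (hdim : ∀ (i : ℕ), n < i → ∀ X : A, IsZero ((F.rightDerived i).obj X))

include hdim

theorem rightClass : AdaptedDerived.IsAdaptedClass (Q (C := A)) (GR F)
    (fun R => ∀ j, IsRightAcyclic F (R.X j)) where
  res X := by
    obtain ⟨L, f, hf, hL⟩ := FinDimDerived.exists_res F n hdim X
    exact ⟨L, f, (isIso_Q_map_iff_quasiIso (φ := f)).2 hf, hL⟩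
  frac {X R} g := by
    obtain ⟨R', f, s, hs, e⟩ := DerivedCategory.left_fac g
    exact ⟨R', f, s, hs, by rw [e, assoc, IsIso.inv_hom_id, comp_id]⟩
  eq f g e := eq_post F f g e
  inverts {R R'} s hR hR' hs := by
    have hs' : IsIso (Qh.map ((HomotopyCategory.quotient A (.up ℤ)).map s)) :=
      (NatIso.isIso_map_iff (quotientCompQhIso A) s).2 hs
    have h := (FinDimDerived.isAdaptedClass F n hdim).inverts
      ((HomotopyCategory.quotient A (.up ℤ)).map s) hR hR' hs'
    exact (NatIso.isIso_map_iff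
      (Functor.isoWhiskerRight (F.mapHomotopyCategoryFactors (ComplexShape.up ℤ)) Qh ≪≫
        Functor.associator _ _ _ ≪≫
        Functor.isoWhiskerLeft (F.mapHomologicalComplex (ComplexShape.up ℤ)) (quotientCompQhIso B)) s).1 h

lemma acyclic_CC : ∀ (k : ℕ) (K : CochainComplex A ℤ),
    (∀ (m : ℤ) (i : ℕ), k < i → IsZero ((F.rightDerived i).obj (K.X m))) →
    ∀ m, IsRightAcyclic F ((CC k K).X m)
  | 0, K, h, m => fun i hi => h m i hi
  | k + 1, K, h, m => acyclic_CC k (Cok K) (fun m i hi => by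
      obtain ⟨i, rfl⟩ : ∃ j, i = j + 1 := ⟨i - 1, by omega⟩
      exact isZero_rightDerived_Cok F i K m (h m (i + 2) (by omega))) m

omit hdim in
lemma acyclic_LL : ∀ (k : ℕ) (K : CochainComplex A ℤ),
    (∀ m, IsRightAcyclic F ((CC k K).X m)) → ∀ m, IsRightAcyclic F ((LL k K).X m)
  | 0, K, h, m => h m
  | k + 1, K, h, m => fun i hi => by
    have := preservesBinaryBiproducts_of_preservesBiproducts (F.rightDerived i)
    exact ((F.rightDerived i).mapBiprod ((D K).X m) ((LL k (Cok K)).X (m - 1))).symm.isZero_iff.1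
      ((biprod_isZero_iff _ _).2 ⟨isRightAcyclic_of_injective _ i hi, acyclic_LL k (Cok K) h (m - 1) i hi⟩)

lemma acyclic_LL_n (K : CochainComplex A ℤ) : ∀ m, IsRightAcyclic F ((LL n K).X m) :=
  acyclic_LL F n K (acyclic_CC F n hdim n K (fun m i hi => hdim i hi _))

omit hdim in
lemma isIso_map_incl {Q₁ : CochainComplex A ℤ} (E : ℤ → A) (π : discs E ⟶ Q₁) :
    IsIso ((GR F).map (incl π)) := by
  let G := F.mapHomologicalComplex (ComplexShape.up ℤ)
  have w : incl π ≫ fstCx π = 0 := by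
    ext m
    show ((Q₁.XIsoOfEq (show m + (-1 : ℤ) = m - 1 by lia)).hom ≫
      (biprod.inr : Q₁.X (m - 1) ⟶ coconeX (discs E) Q₁ m)) ≫ biprod.fst = 0
    simp
  let S := ShortComplex.mk (incl π) (fstCx π) w
  have σ : ∀ m, (S.map (HomologicalComplex.eval A _ m)).Splitting := fun m =>
    { r := ((biprod.snd : coconeX (discs E) Q₁ m ⟶ _) ≫ (Q₁.XIsoOfEq (show m + (-1 : ℤ) = m - 1 by lia)).inv :)
      s := (biprod.inl : (discs E).X m ⟶ coconeX (discs E) Q₁ m)
      f_r := by
        show ((Q₁.XIsoOfEq _).hom ≫ (biprod.inr : Q₁.X (m - 1) ⟶ coconeX (discs E) Q₁ m)) ≫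
          (biprod.snd : coconeX (discs E) Q₁ m ⟶ _) ≫ (Q₁.XIsoOfEq (show m + (-1 : ℤ) = m - 1 by lia)).inv = 𝟙 (Q₁.X (m + -1))
        simp
      s_g := biprod.inl_fst
      id := by
        show ((biprod.snd : coconeX (discs E) Q₁ m ⟶ _) ≫ (Q₁.XIsoOfEq (show m + (-1 : ℤ) = m - 1 by lia)).inv) ≫
            (Q₁.XIsoOfEq (show m + (-1 : ℤ) = m - 1 by lia)).hom ≫ (biprod.inr : Q₁.X (m - 1) ⟶ coconeX (discs E) Q₁ m) +
          (biprod.fst : coconeX (discs E) Q₁ m ⟶ _) ≫ biprod.inl = 𝟙 (coconeX (discs E) Q₁ m)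
        simp only [assoc, Iso.inv_hom_id_assoc]
        exact (add_comm _ _).trans biprod.total }
  have hS : (S.map G).ShortExact :=
    HomologicalComplex.shortExact_of_degreewise_shortExact _ fun m => ((σ m).map F).shortExact
  exact (isIso_Q_map_iff_quasiIso (φ := G.map (incl π))).2
    (Groth.Agent.TriCat.quasiIso_f_of_acyclic hS (acyclic_map_discs F E))

omit hdim in
lemma isIso_map_J : ∀ (k : ℕ) (K : CochainComplex A ℤ), IsIso ((GR F).map (J k K))
  | 0, K => by
    have : IsIso (J 0 K) := inferInstanceAs (IsIso ((shiftFunctorZero' (CochainComplex A ℤ) _ _).hom.app K))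
    infer_instance
  | k + 1, K => by
    have h₂ : IsIso ((GR F).map ((shiftFunctor (CochainComplex A ℤ) (-1 : ℤ)).map (J k (Cok K)))) := by
      have := isIso_map_J k (Cok K)
      exact (NatIso.isIso_map_iff ((GR F).commShiftIso (-1 : ℤ)) (J k (Cok K))).2
        (inferInstanceAs (IsIso ((shiftFunctor (DerivedCategory B) (-1 : ℤ)).map ((GR F).map (J k (Cok K))))))
    have h₃ : IsIso ((GR F).map (incl (prj K ≫ ιL k (Cok K)))) := isIso_map_incl F _ _
    show IsIso ((GR F).map (_ ≫ _ ≫ _))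
    rw [Functor.map_comp, Functor.map_comp]
    have h₁ : IsIso ((shiftFunctorAdd' (CochainComplex A ℤ) (-(k : ℤ)) (-1) (-((k + 1 : ℕ) : ℤ))
        (by omega)).hom.app (CC k (Cok K))) := Iso.isIso_hom ((shiftFunctorAdd' (CochainComplex A ℤ) (-(k : ℤ)) (-1) (-((k + 1 : ℕ) : ℤ))
        (by omega)).app (CC k (Cok K)))
    exact IsIso.comp_isIso' ((GR F).mapIso (@asIso _ _ _ _ _ h₁)).isIso_hom (IsIso.comp_isIso' h₂ h₃)

omit hdim in
lemma isZero_left {S : ShortComplex A} (hS : S.ShortExact) (i : ℕ)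
    (h₃ : ∀ j, j + 1 = i → IsZero ((F.rightDerived j).obj S.X₃))
    (h₂ : IsZero ((F.rightDerived i).obj S.X₂)) : IsZero ((F.rightDerived i).obj S.X₁) := by
  let := HasDerivedCategory.standard A
  let := HasDerivedCategory.standard B
  rcases i with _ | j
  · have := preservesFiniteLimits_rightDerived_zero (F := F)
    have := hS.mono_f
    exact h₂.of_mono ((F.rightDerived 0).map S.f)
  · obtain ⟨δ, w₁, w₂, w₃, -, -, e₃⟩ := exists_rightDerived_ses F hS j
    exact e₃.isZero_X₂ ((h₃ j rfl).eq_of_src _ _) (h₂.eq_of_tgt _ _)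

lemma bound_syz : ∀ (k : ℕ) (X : A), (∀ i, i + k < n → IsZero ((F.rightDerived i).obj X)) →
    ClassResOp.Bound (fun Y : A => ∀ i : ℕ, i ≠ n → IsZero ((F.rightDerived i).obj Y)) k X
  | 0, X, h => fun i hi => by
    rcases Nat.lt_or_gt_of_ne hi with hlt | hgt
    · exact h i (by omega)
    · exact hdim i hgt _
  | k + 1, X, h => fun S hS hY ⟨e⟩ => bound_syz k S.X₁ fun i hi =>
      isZero_left F hS i (fun j hj => (h j (by omega)).of_iso ((F.rightDerived j).mapIso e))
        (hY i (by omega))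

/-- The target functor. -/
noncomputable abbrev GG [(F.rightDerived n).Additive] : CochainComplex A ℤ ⥤ DerivedCategory B :=
  (F.rightDerived n).mapHomologicalComplex (ComplexShape.up ℤ) ⋙ Q

omit hdim in
lemma paste {C : Type*} [Category C] {a₀ a₁ a₂ a₃ a₄ a₅ b₀ b₁ b₂ b₃ b₄ b₅ : C}
    {p : a₀ ⟶ a₁} {q : a₁ ⟶ a₂} {r : a₂ ⟶ a₃} {s : a₃ ⟶ a₄} {t : a₄ ⟶ a₅}
    {p' : b₀ ⟶ b₁} {q' : b₁ ⟶ b₂} {r' : b₂ ⟶ b₃} {s' : b₃ ⟶ b₄} {t' : b₄ ⟶ b₅}
    {x₀ : a₀ ⟶ b₀} {x₁ : a₁ ⟶ b₁} {x₂ : a₂ ⟶ b₂} {x₃ : a₃ ⟶ b₃} {x₄ : a₄ ⟶ b₄} {x₅ : a₅ ⟶ b₅}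
    (e₁ : x₀ ≫ p' = p ≫ x₁) (e₂ : x₁ ≫ q' = q ≫ x₂) (e₃ : x₂ ≫ r' = r ≫ x₃) (e₄ : x₃ ≫ s' = s ≫ x₄)
    (e₅ : x₄ ≫ t' = t ≫ x₅) :
    x₀ ≫ p' ≫ q' ≫ r' ≫ s' ≫ t' = (p ≫ q ≫ r ≫ s ≫ t) ≫ x₅ := by
  simp [reassoc_of% e₁, reassoc_of% e₂, reassoc_of% e₃, reassoc_of% e₄, e₅]

section Eta

variable {RF : DerivedCategory A ⥤ DerivedCategory B} (α : GR F ⟶ Q ⋙ RF)
  (hα : ∀ R : CochainComplex A ℤ, (∀ j, IsRightAcyclic F (R.X j)) → IsIso (α.app R))

include hα

/-- The comparison at a complex. -/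
noncomputable def etaApp (K : CochainComplex A ℤ) :
    RF.obj (Q.obj K) ⟶ ((GG F n).obj K)⟦-(n : ℤ)⟧ :=
  have := hα (LL n K) (acyclic_LL_n F n hdim K)
  have := isIso_map_J F n K
  RF.map (Q.map (ιL n K)) ≫ inv (α.app (LL n K)) ≫ inv ((GR F).map (J n K)) ≫
    ((GR F).commShiftIso (-(n : ℤ))).hom.app (CC n K) ≫
      (shiftFunctor (DerivedCategory B) (-(n : ℤ))).map (Q.map (Xi F n K))

lemma isIso_etaApp (K : CochainComplex A ℤ)
    (hK : ∀ (m : ℤ) (i : ℕ), i ≠ n → IsZero ((F.rightDerived i).obj (K.X m))) :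
    IsIso (etaApp F n hdim α hα K) := by
  have := hα (LL n K) (acyclic_LL_n F n hdim K)
  have := isIso_map_J F n K
  have : IsIso (Q.map (ιL n K)) := (isIso_Q_map_iff_quasiIso (φ := ιL n K)).2 (ιL_spec n K).2
  have : IsIso (Q.map (Xi F n K)) :=
    (isIso_Q_map_iff_quasiIso (φ := Xi F n K)).2 (quasiIso_Xi_of_concentrated F n K hK)
  unfold etaApp
  infer_instance

lemma etaApp_natural {K K' : CochainComplex A ℤ} (f : K ⟶ K') :
    RF.map (Q.map f) ≫ etaApp F n hdim α hα K' =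
      etaApp F n hdim α hα K ≫ (shiftFunctor (DerivedCategory B) (-(n : ℤ))).map ((GG F n).map f) := by
  have := hα (LL n K) (acyclic_LL_n F n hdim K)
  have := hα (LL n K') (acyclic_LL_n F n hdim K')
  have := isIso_map_J F n K
  have := isIso_map_J F n K'
  obtain ⟨c, l, hl, hJ, hLift⟩ := exists_lifts n f
  have s₁ : RF.map (Q.map f) ≫ RF.map (Q.map (ιL n K')) = RF.map (Q.map (ιL n K)) ≫ RF.map (Q.map l) := by
    simp only [← Functor.map_comp, hl]
  have s₂ : RF.map (Q.map l) ≫ inv (α.app (LL n K')) = inv (α.app (LL n K)) ≫ (GR F).map l := by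
    rw [IsIso.eq_inv_comp, ← assoc, IsIso.comp_inv_eq]
    exact (α.naturality l).symm
  have s₃ : (GR F).map l ≫ inv ((GR F).map (J n K')) =
      inv ((GR F).map (J n K)) ≫ (GR F).map ((shiftFunctor (CochainComplex A ℤ) (-(n : ℤ))).map c) := by
    rw [IsIso.eq_inv_comp, ← assoc, IsIso.comp_inv_eq, ← Functor.map_comp, ← Functor.map_comp, hJ]
  have s₄ := ((GR F).commShiftIso (-(n : ℤ))).hom.naturality c
  have hX : (F.mapHomologicalComplex (ComplexShape.up ℤ)).map c ≫ Xi F n K' =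
      Xi F n K ≫ ((F.rightDerived n).mapHomologicalComplex (ComplexShape.up ℤ)).map f :=
    HomologicalComplex.hom_ext _ _ fun m => xi_natural F n K m K' m _ _ (hLift m)
  have s₅ : (shiftFunctor (DerivedCategory B) (-(n : ℤ))).map ((GR F).map c) ≫
      (shiftFunctor (DerivedCategory B) (-(n : ℤ))).map (Q.map (Xi F n K')) =
      (shiftFunctor (DerivedCategory B) (-(n : ℤ))).map (Q.map (Xi F n K)) ≫
        (shiftFunctor (DerivedCategory B) (-(n : ℤ))).map ((GG F n).map f) := by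
    rw [← Functor.map_comp, ← Functor.map_comp]
    exact congrArg _ ((Q.map_comp _ _).symm.trans ((congrArg Q.map hX).trans (Q.map_comp _ _)))
  exact paste s₁ s₂ s₃ s₄ s₅

variable (hP : ∀ X : A, ∃ (Y : A) (p : Y ⟶ X), Epi p ∧ ∀ i : ℕ, i ≠ n → IsZero ((F.rightDerived i).obj Y))

include hP

theorem leftClass : LeftAdapted.IsAdaptedClass (Q (C := A)) (GG F n)
    (fun R => ∀ (m : ℤ) (i : ℕ), i ≠ n → IsZero ((F.rightDerived i).obj (R.X m))) where
  res X := by
    obtain ⟨L, f, hf, hL⟩ := ClassResOp.exists_left_res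
      (fun Y : A => ∀ i : ℕ, i ≠ n → IsZero ((F.rightDerived i).obj Y))
      (fun X => by obtain ⟨Y, p, hp, hY⟩ := hP X; exact ⟨Y, p, hY, hp⟩)
      (fun S hS h₃ => by
        refine ⟨fun h₁ i hi => ?_, fun h₂ i hi => ?_⟩
        · let := HasDerivedCategory.standard A
          let := HasDerivedCategory.standard B
          obtain ⟨δ, w₁, w₂, w₃, e₁, -, -⟩ := exists_rightDerived_ses F hS i
          exact e₁.isZero_X₂ ((h₁ i hi).eq_of_src _ _) ((h₃ i hi).eq_of_tgt _ _)
        · rcases Nat.lt_or_gt_of_ne hi with hlt | hgt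
          · exact isZero_left F hS i (fun j hj => h₃ j (by omega)) (h₂ i hi)
          · exact hdim i hgt _)
      n X (fun j => bound_syz F n hdim n (X.X j) (fun i hi => by omega))
    exact ⟨L, f, (isIso_Q_map_iff_quasiIso (φ := f)).2 hf, fun m i hi => hL m i hi⟩
  frac {X R} g := by
    obtain ⟨R', s, hs, f, e⟩ := DerivedCategory.right_fac g
    exact ⟨R', f, s, hs, by rw [e, IsIso.hom_inv_id_assoc]⟩
  eq f g e := eq_pre (F.rightDerived n) f g e
  inverts {R R'} s hR hR' hs := by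
    have := isIso_etaApp F n hdim α hα R hR
    have := isIso_etaApp F n hdim α hα R' hR'
    have h := etaApp_natural F n hdim α hα s
    have : IsIso ((shiftFunctor (DerivedCategory B) (-(n : ℤ))).map ((GG F n).map s)) := by
      have : IsIso (etaApp F n hdim α hα R ≫ (shiftFunctor (DerivedCategory B) (-(n : ℤ))).map ((GG F n).map s)) := by
        rw [← h]; infer_instance
      exact IsIso.of_isIso_comp_left (etaApp F n hdim α hα R) _
    exact isIso_of_reflects_iso _ (shiftFunctor (DerivedCategory B) (-(n : ℤ)))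

end Eta

section Main

variable (hP : ∀ X : A, ∃ (Y : A) (p : Y ⟶ X), Epi p ∧ ∀ i : ℕ, i ≠ n → IsZero ((F.rightDerived i).obj Y))

include hP

theorem hasLeftDerivedFunctor :
    (GG F n).HasLeftDerivedFunctor (HomologicalComplex.quasiIso A (ComplexShape.up ℤ)) := by
  have := (rightClass F n hdim).hasRightDerivedFunctor (HomologicalComplex.quasiIso A (ComplexShape.up ℤ))
  exact (leftClass F n hdim ((GR F).totalRightDerivedUnit Q (HomologicalComplex.quasiIso A (ComplexShape.up ℤ)))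
    (fun R hR => (rightClass F n hdim).isIso_totalRightDerivedUnit _ hR) hP).hasLeftDerivedFunctor _

theorem nonempty_iso [(GR F).HasRightDerivedFunctor (HomologicalComplex.quasiIso A (ComplexShape.up ℤ))]
    [(GG F n).HasLeftDerivedFunctor (HomologicalComplex.quasiIso A (ComplexShape.up ℤ))] :
    Nonempty ((GR F).totalRightDerived Q (HomologicalComplex.quasiIso A (ComplexShape.up ℤ)) ≅
      (GG F n).totalLeftDerived Q (HomologicalComplex.quasiIso A (ComplexShape.up ℤ)) ⋙
        shiftFunctor (DerivedCategory B) (-(n : ℤ))) := by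
  let W := HomologicalComplex.quasiIso A (ComplexShape.up ℤ)
  let α := (GR F).totalRightDerivedUnit Q W
  have hα : ∀ R : CochainComplex A ℤ, (∀ j, IsRightAcyclic F (R.X j)) → IsIso (α.app R) :=
    fun R hR => (rightClass F n hdim).isIso_totalRightDerivedUnit _ hR
  have hc := leftClass F n hdim α hα hP
  let RF := (GR F).totalRightDerived Q W
  let E := shiftFunctorCompIsoId (DerivedCategory B) (-(n : ℤ)) (n : ℤ) (by omega)
  let η : Q ⋙ (RF ⋙ shiftFunctor (DerivedCategory B) (n : ℤ)) ⟶ GG F n :=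
    { app := fun K => (shiftFunctor (DerivedCategory B) (n : ℤ)).map (etaApp F n hdim α hα K) ≫
        E.hom.app ((GG F n).obj K)
      naturality := fun K K' f => by
        have h₁ := congrArg (shiftFunctor (DerivedCategory B) (n : ℤ)).map (etaApp_natural F n hdim α hα f)
        rw [Functor.map_comp, Functor.map_comp] at h₁
        have h₂ := E.hom.naturality ((GG F n).map f)
        exact (assoc _ _ _).symm.trans ((congrArg (· ≫ _) h₁).trans ((assoc _ _ _).trans
          ((congrArg (_ ≫ ·) h₂).trans (assoc _ _ _).symm))) }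
  let LG := (GG F n).totalLeftDerived Q W
  let c := (GG F n).totalLeftDerivedCounit Q W
  let θ := LG.leftDerivedLift c W (RF ⋙ shiftFunctor (DerivedCategory B) (n : ℤ)) η
  have hθ : ∀ R : CochainComplex A ℤ, (∀ (m : ℤ) (i : ℕ), i ≠ n → IsZero ((F.rightDerived i).obj (R.X m))) →
      IsIso (θ.app (Q.obj R)) := fun R hR => by
    have := hc.isIso_totalLeftDerivedCounit W hR
    have := isIso_etaApp F n hdim α hα R hR
    have h := LG.leftDerived_fac_app c W (RF ⋙ shiftFunctor (DerivedCategory B) (n : ℤ)) η R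
    have : IsIso (θ.app (Q.obj R) ≫ c.app R) := by
      rw [h]
      show IsIso ((shiftFunctor (DerivedCategory B) (n : ℤ)).map _ ≫ _)
      infer_instance
    exact IsIso.of_isIso_comp_right _ (c.app R)
  have : IsIso θ := by
    have : ∀ Y, IsIso (θ.app Y) := fun Y => by
      have := Localization.essSurj (Q (C := A)) W
      obtain ⟨K, ⟨e⟩⟩ : ∃ K, Nonempty (Q.obj K ≅ Y) := ⟨_, ⟨Q.objObjPreimageIso Y⟩⟩
      obtain ⟨R, w, hw, hR⟩ := hc.res K
      exact (NatTrans.isIso_app_iff_of_iso θ ((asIso (Q.map w)).trans e)).1 (hθ R hR)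
    exact NatIso.isIso_of_isIso_app θ
  exact ⟨(Functor.rightUnitor RF).symm ≪≫
    Functor.isoWhiskerLeft RF (shiftFunctorCompIsoId (DerivedCategory B) (n : ℤ) (-(n : ℤ)) (by omega)).symm ≪≫
    (Functor.associator _ _ _).symm ≪≫ Functor.isoWhiskerRight (asIso θ) _⟩

end Main

end Groth.Agent.H9Misc.TopCompare
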