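import Groth.Agent.H9Misc.AdjDescend
import Groth.Agent.H9Misc.AdaptedDerived
import Groth.Agent.H9Misc.TopCompare
import Groth.Agent.TriCat.KInjRes
import Mathlib.CategoryTheory.Abelian.GrothendieckCategory.ModuleEmbedding.GabrielPopescu

/-! Derived right adjoints of exact functors; the derived Gabriel–Popescu theorem. -/

universe w w' v v' u u'

open CategoryTheory Category Limits DerivedCategory

namespace Groth.Agent.H9Misc.GPDerived

section QLevel

variable {B : Type u} [Category.{v} B] [Abelian B] [HasDerivedCategory.{w} B]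
  {A : Type u'} [Category.{v'} A] [Abelian A] [HasDerivedCategory.{w'} A]
  (G : B ⥤ A) [G.Additive]

/-- K-injective complexes compute derived functors on complexes. -/
theorem kInjClass (hK : ∀ K : CochainComplex B ℤ, ∃ (I : CochainComplex B ℤ) (f : K ⟶ I), I.IsKInjective ∧ QuasiIso f) :
    AdaptedDerived.IsAdaptedClass (Q (C := B)) (G.mapHomologicalComplex (ComplexShape.up ℤ) ⋙ Q)
      (fun I => CochainComplex.IsKInjective I) where
  res X := by
    obtain ⟨I, f, hI, hf⟩ := hK X
    exact ⟨I, f, (isIso_Q_map_iff_quasiIso (φ := f)).2 hf, hI⟩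
  frac {X R} g := by
    obtain ⟨R', f, s, hs, e⟩ := DerivedCategory.left_fac g
    exact ⟨R', f, s, hs, by rw [e, assoc, IsIso.inv_hom_id, comp_id]⟩
  eq f g e := TopCompare.eq_post G f g e
  inverts {R R'} s hR hR' hs := by
    have := hR
    have := hR'
    have hs' : IsIso (Qh.map ((HomotopyCategory.quotient B (.up ℤ)).map s)) :=
      (NatIso.isIso_map_iff (quotientCompQhIso B) s).2 hs
    obtain ⟨g, hg⟩ := (CochainComplex.IsKInjective.Qh_map_bijective _ R).2
      (inv (Qh.map ((HomotopyCategory.quotient B (.up ℤ)).map s)))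
    have hs'' : IsIso ((HomotopyCategory.quotient B (.up ℤ)).map s) :=
      ⟨g, (CochainComplex.IsKInjective.Qh_map_bijective _ R).1 (by rw [Functor.map_comp, hg]; simp),
        (CochainComplex.IsKInjective.Qh_map_bijective _ R').1 (by rw [Functor.map_comp, hg]; simp)⟩
    exact (NatIso.isIso_map_iff
      (Functor.isoWhiskerRight (G.mapHomotopyCategoryFactors (ComplexShape.up ℤ)) Qh ≪≫
        Functor.associator _ _ _ ≪≫
        Functor.isoWhiskerLeft (G.mapHomologicalComplex (ComplexShape.up ℤ)) (quotientCompQhIso A)) s).1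
      (inferInstanceAs (IsIso (Qh.map ((G.mapHomotopyCategory (ComplexShape.up ℤ)).map
        ((HomotopyCategory.quotient B (.up ℤ)).map s)))))

variable {RB : DerivedCategory B ⥤ HomotopyCategory B (ComplexShape.up ℤ)} (adjQ : Qh ⊣ RB)

/-- The transformation from termwise application to the derived functor through K-injectives. -/
noncomputable def unitQ : G.mapHomologicalComplex (ComplexShape.up ℤ) ⋙ Q ⟶
    Q ⋙ (RB ⋙ G.mapHomotopyCategory (ComplexShape.up ℤ)) ⋙ Qh :=
  Functor.whiskerLeft (G.mapHomologicalComplex (ComplexShape.up ℤ)) (quotientCompQhIso A).inv ≫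
    (Functor.associator _ _ _).inv ≫
    Functor.whiskerRight (G.mapHomotopyCategoryFactors (ComplexShape.up ℤ)).inv Qh ≫
    (Functor.associator _ _ _).hom ≫
    Functor.whiskerLeft (HomotopyCategory.quotient B (.up ℤ))
      (Functor.whiskerRight adjQ.unit (G.mapHomotopyCategory (ComplexShape.up ℤ) ⋙ Qh)) ≫
    Functor.whiskerRight (quotientCompQhIso B).hom ((RB ⋙ G.mapHomotopyCategory (ComplexShape.up ℤ)) ⋙ Qh)

lemma isIso_unitQ (I : CochainComplex B ℤ) [I.IsKInjective] : IsIso ((unitQ G adjQ).app I) := by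
  have := TriCat.isIso_unit_of_isKInjective adjQ I
  have : IsIso ((G.mapHomotopyCategory (ComplexShape.up ℤ) ⋙ Qh).map
      (adjQ.unit.app ((HomotopyCategory.quotient B (ComplexShape.up ℤ)).obj I))) := inferInstance
  unfold unitQ
  simp only [NatTrans.comp_app, Functor.whiskerLeft_app, Functor.whiskerRight_app, Functor.associator_inv_app,
    Functor.associator_hom_app]
  infer_instance

include adjQ in
/-- Any right derived functor on complexes is the one through K-injectives. -/
theorem nonempty_iso (hK : ∀ K : CochainComplex B ℤ, ∃ (I : CochainComplex B ℤ) (f : K ⟶ I), I.IsKInjective ∧ QuasiIso f)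
    (RG : DerivedCategory B ⥤ DerivedCategory A)
    (α : G.mapHomologicalComplex (ComplexShape.up ℤ) ⋙ Q ⟶ Q ⋙ RG)
    [RG.IsRightDerivedFunctor α (HomologicalComplex.quasiIso B (ComplexShape.up ℤ))] :
    Nonempty ((RB ⋙ G.mapHomotopyCategory (ComplexShape.up ℤ)) ⋙ Qh ≅ RG) := by
  let W := HomologicalComplex.quasiIso B (ComplexShape.up ℤ)
  have hc := kInjClass (A := A) G hK
  have := hc.hasPointwiseRightDerivedFunctor W
  let θ := RG.rightDerivedDesc α W _ (unitQ G adjQ)
  have hθ : ∀ R : CochainComplex B ℤ, R.IsKInjective → IsIso (θ.app (Q.obj R)) := fun R hR => by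
    have := hc.isIso_app (Functor.isPointwiseLeftKanExtensionOfHasPointwiseRightDerivedFunctor _ α W) hR
    have := hR
    have := isIso_unitQ G adjQ R
    have h := RG.rightDerived_fac_app α W _ (unitQ G adjQ) R
    have : IsIso (α.app R ≫ θ.app (Q.obj R)) := by rw [h]; infer_instance
    exact IsIso.of_isIso_comp_left (α.app R) _
  have : IsIso θ := by
    have : ∀ Y, IsIso (θ.app Y) := fun Y => by
      have := Localization.essSurj (Q (C := B)) W
      obtain ⟨K, ⟨e⟩⟩ : ∃ K, Nonempty (Q.obj K ≅ Y) := ⟨_, ⟨Q.objObjPreimageIso Y⟩⟩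
      obtain ⟨R, w, hw, hR⟩ := hc.res K
      exact (NatTrans.isIso_app_iff_of_iso θ ((asIso (Q.map w)).symm.trans e)).1 (hθ R hR)
    exact NatIso.isIso_of_isIso_app θ
  exact ⟨(asIso θ).symm⟩

end QLevel

variable {B : Type u} [Category.{v} B] [Abelian B] [IsGrothendieckAbelian.{v} B] [HasDerivedCategory.{w} B]
  {A : Type u'} [Category.{v'} A] [Abelian A] [HasDerivedCategory.{w'} A]
  {F : A ⥤ B} {G : B ⥤ A} (adj : F ⊣ G) [F.Additive] [G.Additive]
  [PreservesFiniteLimits F] [PreservesFiniteColimits F]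

omit [HasDerivedCategory.{w} B] in
lemma exists_res (K : CochainComplex B ℤ) :
    ∃ (I : CochainComplex B ℤ) (f : K ⟶ I), I.IsKInjective ∧ QuasiIso f := by
  obtain ⟨I, f, hI, hf, -, -⟩ := TriCat.exists_kInjective_resolution' K
  exact ⟨I, f, hI, hf⟩

variable (B) in
/-- The chosen right adjoint to localization. -/
lemma qh_isLeftAdjoint : (Qh (C := B)).IsLeftAdjoint :=
  TriCat.qh_isLeftAdjoint_of_exists_resolution exists_res

include adj in
theorem nonempty_adj_of_isRightDerived (RG : DerivedCategory B ⥤ DerivedCategory A)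
    (α : G.mapHomologicalComplex (ComplexShape.up ℤ) ⋙ Q ⟶ Q ⋙ RG)
    [RG.IsRightDerivedFunctor α (HomologicalComplex.quasiIso B (ComplexShape.up ℤ))] :
    Nonempty (F.mapDerivedCategory ⊣ RG) := by
  have := qh_isLeftAdjoint B
  let adjQ := Adjunction.ofIsLeftAdjoint (Qh (C := B))
  obtain ⟨e⟩ := nonempty_iso G adjQ exists_res RG α
  exact ⟨(AdjDescend.derivedAdj adj adjQ).ofNatIsoRight e⟩

include adj in
theorem adj_fullyFaithful [IsIso adj.counit]
    [(G.mapHomotopyCategory (ComplexShape.up ℤ) ⋙ Qh).HasRightDerivedFunctor (HomotopyCategory.quasiIso B (ComplexShape.up ℤ))] :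
    let RG := (G.mapHomotopyCategory (ComplexShape.up ℤ) ⋙ Qh).totalRightDerived Qh (HomotopyCategory.quasiIso B (ComplexShape.up ℤ))
    ∃ a : F.mapDerivedCategory ⊣ RG, IsIso a.counit := by
  intro RG
  have := qh_isLeftAdjoint B
  let adjQ := Adjunction.ofIsLeftAdjoint (Qh (C := B))
  let W := HomotopyCategory.quasiIso B (ComplexShape.up ℤ)
  have := TriCat.isRightDerivedFunctor_of_adjunction adjQ W (G.mapHomotopyCategory (ComplexShape.up ℤ) ⋙ Qh)
  let e : Qh.rightAdjoint ⋙ G.mapHomotopyCategory (ComplexShape.up ℤ) ⋙ Qh ≅ RG :=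
    Functor.rightDerivedUnique _ _ (Functor.whiskerRight adjQ.unit (G.mapHomotopyCategory (ComplexShape.up ℤ) ⋙ Qh) :
      G.mapHomotopyCategory (ComplexShape.up ℤ) ⋙ Qh ⟶ Qh ⋙ Qh.rightAdjoint ⋙ G.mapHomotopyCategory (ComplexShape.up ℤ) ⋙ Qh)
      ((G.mapHomotopyCategory (ComplexShape.up ℤ) ⋙ Qh).totalRightDerivedUnit Qh W) W
  have : IsIso adjQ.counit := by
    have hb : ∀ Y, IsIso (adjQ.counit.app Y) := fun Y => by
      have := Localization.essSurj (Qh (C := B)) W
      obtain ⟨K, ⟨eK⟩⟩ : ∃ K, Nonempty (Qh.obj K ≅ Y) := ⟨_, ⟨Qh.objObjPreimageIso Y⟩⟩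
      obtain ⟨I, f, hI, hf⟩ := exists_res K.as
      have := TriCat.isIso_unit_of_isKInjective adjQ I
      have h := adjQ.left_triangle_components ((HomotopyCategory.quotient B _).obj I)
      have : IsIso (adjQ.counit.app (Qh.obj ((HomotopyCategory.quotient B _).obj I))) := by
        have : IsIso (Qh.map (adjQ.unit.app ((HomotopyCategory.quotient B _).obj I)) ≫
            adjQ.counit.app (Qh.obj ((HomotopyCategory.quotient B _).obj I))) := by
          rw [h]; exact IsIso.id _
        exact IsIso.of_isIso_comp_left (Qh.map (adjQ.unit.app ((HomotopyCategory.quotient B _).obj I))) _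
      have hw : IsIso (Qh.map ((HomotopyCategory.quotient B (.up ℤ)).map f)) :=
        (NatIso.isIso_map_iff (quotientCompQhIso B) f).2 ((isIso_Q_map_iff_quasiIso (φ := f)).2 hf)
      exact (NatTrans.isIso_app_iff_of_iso adjQ.counit
        ((@asIso _ _ _ _ _ hw).symm.trans eK)).1 this
    exact NatIso.isIso_of_isIso_app _
  have := AdjDescend.isIso_derivedAdj_counit adj adjQ
  refine ⟨(AdjDescend.derivedAdj adj adjQ).ofNatIsoRight ((Functor.associator _ _ _) ≪≫ e), ?_⟩
  have : ∀ Y, IsIso (((AdjDescend.derivedAdj adj adjQ).ofNatIsoRight ((Functor.associator _ _ _) ≪≫ e)).counit.app Y) := fun Y => by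
    simp only [Adjunction.ofNatIsoRight, Adjunction.mk'_counit, NatTrans.comp_app, Functor.whiskerRight_app]
    infer_instance
  exact NatIso.isIso_of_isIso_app _

end Groth.Agent.H9Misc.GPDerived
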