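import Groth.Agent.H9Misc.HomEval
import Groth.Agent.H9Misc.ExtModShift
import Groth.Agent.Lib.ExtShShift
import Groth.Agent.LC.GorLoc

/-! Local Ext modules through a pairing are Ext of modules. -/

set_option linter.style.haveILetI false
set_option linter.unusedSectionVars false
set_option backward.isDefEq.respectTransparency false
set_option backward.isDefEq.respectTransparency.types false

universe u

open CategoryTheory CategoryTheory.Limits AlgebraicGeometry

noncomputable section

namespace Groth.Agent.H9Misc.HomEvalExt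

open Groth.Agent Groth.Agent.SheafHomX ExtShShift HomEval

variable {X : Scheme.{u}} {R : Type u} [CommRing R] (P : Pairing X R) {G : X.Modules} (I : InjectiveResolution G)

/-- A presentation of `M` after applying the pairing. -/
structure Step (C : X.Modules → Prop) (M : X.Modules) where
  S : ShortComplex X.Modules
  hS : S.ShortExact
  mem : C S.X₁
  f : S.X₃ ⟶ M
  isoT : IsIso (P.T.map f)
  isoCx : ∀ q, IsIso (P.T.map (HomologicalComplex.homologyMap (cxMap I f) q))
  evIso : IsIso (HomEval.ev P G S.X₂)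
  cxZero : ∀ q, IsZero (P.T.obj ((cx I S.X₂).homology (q + 1)))
  proj : Projective (P.T.obj S.X₂)
  shortExactT : ∀ w, (ShortComplex.mk (P.T.map S.f) (P.T.map S.g) w).ShortExact
  exact₃ : ∀ w (hc : (ShortComplex.mk (cxMap I S.g) (cxMap I S.f) w).ShortExact) (q : ℕ) z,
    (ShortComplex.mk (P.T.map (HomologicalComplex.homologyMap (cxMap I S.f) q))
      (P.T.map (hc.δ q (q + 1) rfl)) z).Exact
  exact₁ : ∀ w (hc : (ShortComplex.mk (cxMap I S.g) (cxMap I S.f) w).ShortExact) (q : ℕ) z,
    (ShortComplex.mk (P.T.map (hc.δ q (q + 1) rfl))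
      (P.T.map (HomologicalComplex.homologyMap (cxMap I S.g) (q + 1))) z).Exact

variable [PreservesFiniteLimits P.T] {C : X.Modules → Prop} (hC : ∀ M, C M → Nonempty (Step P I C M))

namespace Step

variable {P I} {M : X.Modules} (s : Step P I C M)

include s

theorem isIso_map_homMap : IsIso (P.T.map ((homMap s.f).app G)) := by
  haveI := s.isoCx 0
  have h : (homMap s.f).app G =
      (zeroIso I M).hom ≫ HomologicalComplex.homologyMap (cxMap I s.f) 0 ≫ (zeroIso I s.S.X₃).inv := by
    rw [← Category.assoc, ← zeroIso_naturality, Category.assoc, Iso.hom_inv_id, Category.comp_id]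
  rw [h, Functor.map_comp, Functor.map_comp]
  infer_instance

theorem exactT : ∃ w, (ShortComplex.mk (P.T.map s.S.f) (P.T.map s.S.g) w).ShortExact := by
  haveI := P.additive
  exact ⟨by rw [← Functor.map_comp, s.S.zero, Functor.map_zero], s.shortExactT _⟩

theorem mono_map : Function.Injective (P.T.map ((homMap s.S.g).app G)).hom := by
  haveI := s.hS.epi_g
  haveI := (homMap_exact s.hS.exact G).choose_spec.1
  exact (ModuleCat.mono_iff_injective _).1 (P.T.map_mono _)

theorem pre_injective : Function.Injective (pre P G s.S.g).hom := fun φ ψ h => by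
  obtain ⟨w, hw⟩ := s.exactT
  haveI := hw.epi_g
  exact (cancel_epi (P.T.map s.S.g)).1 h

theorem injective_ev : Function.Injective (HomEval.ev P G M).hom := by
  haveI := s.isoT
  haveI := s.isIso_map_homMap
  haveI := s.evIso
  have h0 : Function.Injective (HomEval.ev P G s.S.X₃).hom := fun a b hab => by
    refine s.mono_map ((ConcreteCategory.bijective_of_isIso (HomEval.ev P G s.S.X₂)).1 ?_)
    have h := HomEval.ev_naturality P G s.S.g
    exact (ConcreteCategory.congr_hom h a).trans ((congrArg (pre P G s.S.g).hom hab).trans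
      (ConcreteCategory.congr_hom h b).symm)
  intro a b hab
  refine (ConcreteCategory.bijective_of_isIso (P.T.map ((homMap s.f).app G))).1 (h0 ?_)
  have h := HomEval.ev_naturality P G s.f
  exact (ConcreteCategory.congr_hom h a).trans ((congrArg (pre P G s.f).hom hab).trans
    (ConcreteCategory.congr_hom h b).symm)

theorem isIso_ev (hK : Function.Injective (HomEval.ev P G s.S.X₁).hom) : IsIso (HomEval.ev P G M) := by
  haveI := s.isoT
  haveI := s.isIso_map_homMap
  haveI := s.evIso
  refine isIso_ev_of_isIso P G s.f ((ConcreteCategory.isIso_iff_bijective _).2 ⟨?_, fun φ => ?_⟩)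
  · intro a b hab
    refine s.mono_map ((ConcreteCategory.bijective_of_isIso (HomEval.ev P G s.S.X₂)).1 ?_)
    have h := HomEval.ev_naturality P G s.S.g
    exact (ConcreteCategory.congr_hom h a).trans ((congrArg (pre P G s.S.g).hom hab).trans
      (ConcreteCategory.congr_hom h b).symm)
  · haveI := P.additive
    haveI := s.hS.epi_g
    obtain ⟨z, hm, hex⟩ := homMap_exact s.hS.exact G
    haveI := hm
    obtain ⟨p, hp⟩ := (ConcreteCategory.bijective_of_isIso (HomEval.ev P G s.S.X₂)).2 ((pre P G s.S.g).hom φ)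
    have hp0 : (P.T.map ((homMap s.S.f).app G)).hom p = 0 := by
      refine hK ?_
      rw [map_zero]
      refine (ConcreteCategory.congr_hom (HomEval.ev_naturality P G s.S.f) p).trans ?_
      refine (congrArg (pre P G s.S.f).hom hp).trans ?_
      show P.T.map s.S.f ≫ P.T.map s.S.g ≫ (φ : P.T.obj s.S.X₃ ⟶ P.T.obj G) = 0
      rw [← Category.assoc, ← Functor.map_comp, s.S.zero, Functor.map_zero, zero_comp]
    obtain ⟨a, ha⟩ := (ShortComplex.moduleCat_exact_iff _).1
      (hex.map_of_mono_of_preservesKernel P.T ‹_› inferInstance) p hp0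
    refine ⟨a, s.pre_injective ?_⟩
    refine (ConcreteCategory.congr_hom (HomEval.ev_naturality P G s.S.g) a).symm.trans ?_
    exact (congrArg (HomEval.ev P G s.S.X₂).hom ha).trans hp

theorem epi_δ (w) (hc : (ShortComplex.mk (cxMap I s.S.g) (cxMap I s.S.f) w).ShortExact) (q : ℕ) :
    Epi (P.T.map (hc.δ q (q + 1) rfl)) := by
  haveI := P.additive
  exact (s.exact₁ w hc q (by rw [← Functor.map_comp, hc.δ_comp, Functor.map_zero])).epi_f
    ((s.cxZero q).eq_of_tgt _ _)

theorem isIso_δ (w) (hc : (ShortComplex.mk (cxMap I s.S.g) (cxMap I s.S.f) w).ShortExact) (q : ℕ) :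
    IsIso (P.T.map (hc.δ (q + 1) (q + 2) rfl)) := by
  haveI := P.additive
  haveI := s.epi_δ w hc (q + 1)
  haveI := (s.exact₃ w hc (q + 1) (by rw [← Functor.map_comp, hc.comp_δ, Functor.map_zero])).mono_g
    ((s.cxZero q).eq_of_src _ _)
  exact isIso_of_mono_of_epi _

end Step

include hC

theorem isIso_ev (M : X.Modules) (hM : C M) : IsIso (HomEval.ev P G M) := by
  obtain ⟨s⟩ := hC M hM
  obtain ⟨t⟩ := hC s.S.X₁ s.mem
  exact s.isIso_ev t.injective_ev

/-- Degree zero. -/
theorem nonempty_zero (M : X.Modules) (hM : C M) :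
    Nonempty (P.T.obj ((cx I M).homology 0) ≅ ModuleCat.of R (P.T.obj M ⟶ P.T.obj G)) :=
  haveI := isIso_ev P I hC M hM
  ⟨(P.T.mapIso (zeroIso I M)).symm ≪≫ asIso (HomEval.ev P G M)⟩

/-- Positive degrees. -/
theorem nonempty_succ (q : ℕ) : ∀ (M : X.Modules), C M →
    Nonempty (P.T.obj ((cx I M).homology (q + 1)) ≅
      ModuleCat.of R (Abelian.Ext.{u} (P.T.obj M) (P.T.obj G) (q + 1))) := by
  haveI := P.additive
  induction q with
  | zero =>
    intro M hM
    obtain ⟨s⟩ := hC M hM
    haveI := s.isoT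
    haveI := s.isoCx 1
    haveI := s.evIso
    haveI := isIso_ev P I hC s.S.X₁ s.mem
    obtain ⟨z, hT⟩ := s.exactT
    haveI := s.proj
    obtain ⟨w, hc⟩ := exists_shortExact I s.hS
    haveI := s.epi_δ w hc 0
    let e : P.T.obj ((cx I s.S.X₁).homology 0) ≅ ModuleCat.of R (P.T.obj s.S.X₁ ⟶ P.T.obj G) :=
      (P.T.mapIso (zeroIso I s.S.X₁)).symm ≪≫ asIso (HomEval.ev P G s.S.X₁)
    let e' : P.T.obj ((cx I s.S.X₂).homology 0) ≅ ModuleCat.of R (P.T.obj s.S.X₂ ⟶ P.T.obj G) :=
      (P.T.mapIso (zeroIso I s.S.X₂)).symm ≪≫ asIso (HomEval.ev P G s.S.X₂)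
    have hsq : P.T.map (HomologicalComplex.homologyMap (cxMap I s.S.f) 0) ≫ e.hom =
        e'.hom ≫ pre P G s.S.f := by
      show _ ≫ P.T.map (zeroIso I s.S.X₁).inv ≫ HomEval.ev P G s.S.X₁ =
        (P.T.map (zeroIso I s.S.X₂).inv ≫ HomEval.ev P G s.S.X₂) ≫ _
      rw [Category.assoc, ← HomEval.ev_naturality, ← Functor.map_comp_assoc, ← Functor.map_comp_assoc]
      congr 2
      rw [Iso.eq_inv_comp, ← Category.assoc, ← zeroIso_naturality, Category.assoc, Iso.hom_inv_id,
        Category.comp_id]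
    have hex := (ShortComplex.moduleCat_exact_iff _).1
      (s.exact₃ w hc 0 (by rw [← Functor.map_comp, hc.comp_δ, Functor.map_zero]))
    have hw0 : P.T.map (HomologicalComplex.homologyMap (cxMap I s.S.f) 0) ≫ P.T.map (hc.δ 0 1 rfl) = 0 := by
      rw [← Functor.map_comp, hc.comp_δ, Functor.map_zero]
    obtain ⟨b⟩ := ExtModShift.nonempty_ext_one_iso hT (P.T.obj G) e (P.T.map (hc.δ 0 1 rfl))
      ((ModuleCat.epi_iff_surjective _).1 inferInstance) (fun a => ⟨fun h => by
        obtain ⟨p, hp⟩ := hex a h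
        exact ⟨e'.hom.hom p, (ConcreteCategory.congr_hom hsq p).symm.trans (congrArg e.hom.hom hp)⟩,
      fun ⟨ψ, hψ⟩ => by
        obtain ⟨p, hp⟩ := (ConcreteCategory.bijective_of_isIso e'.hom).2 ψ
        have ha : (P.T.map (HomologicalComplex.homologyMap (cxMap I s.S.f) 0)).hom p = a :=
          (ConcreteCategory.bijective_of_isIso e.hom).1
            ((ConcreteCategory.congr_hom hsq p).trans ((congrArg (pre P G s.S.f).hom hp).trans hψ))
        rw [← ha]
        exact ConcreteCategory.congr_hom hw0 p⟩)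
    exact ⟨asIso (P.T.map (HomologicalComplex.homologyMap (cxMap I s.f) 1)) ≪≫ b ≪≫
      (LC.extCongr (R := R) (asIso (P.T.map s.f)) (Iso.refl (P.T.obj G)) 1).toModuleIso⟩
  | succ q ih =>
    intro M hM
    obtain ⟨s⟩ := hC M hM
    haveI := s.isoT
    haveI := s.isoCx (q + 2)
    obtain ⟨z, hT⟩ := s.exactT
    haveI := s.proj
    obtain ⟨w, hc⟩ := exists_shortExact I s.hS
    haveI := s.isIso_δ w hc q
    obtain ⟨b⟩ := ih s.S.X₁ s.mem
    exact ⟨asIso (P.T.map (HomologicalComplex.homologyMap (cxMap I s.f) (q + 2))) ≪≫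
      (asIso (P.T.map (hc.δ (q + 1) (q + 2) rfl))).symm ≪≫ b ≪≫
      ExtModShift.shiftIso hT (P.T.obj G) q ≪≫
      (LC.extCongr (R := R) (asIso (P.T.map s.f)) (Iso.refl (P.T.obj G)) (q + 2)).toModuleIso⟩

/-- All degrees. -/
theorem nonempty_ext (q : ℕ) (M : X.Modules) (hM : C M) :
    Nonempty (P.T.obj ((cx I M).homology q) ≅
      ModuleCat.of R (Abelian.Ext.{u} (P.T.obj M) (P.T.obj G) q)) := by
  rcases q with _ | q
  · obtain ⟨a⟩ := nonempty_zero P I hC M hM
    exact ⟨a ≪≫ (Abelian.Ext.linearEquiv₀ (R := R)).symm.toModuleIso⟩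
  · exact nonempty_succ P I hC q M hM

end Groth.Agent.H9Misc.HomEvalExt
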