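import Groth.Agent.H9Misc.GammaPairing
import Groth.Agent.H9Misc.HomEvalExt
import Groth.Agent.SheafHomY.Ext
import Groth.Agent.KFlatLib.Perfect.Tensor
import Groth.Agent.Lib.CurveDeg

/-! Global sections of local Ext sheaves on affine noetherian schemes. -/

set_option linter.style.haveILetI false
set_option linter.unusedSectionVars false
set_option backward.isDefEq.respectTransparency false
set_option backward.isDefEq.respectTransparency.types false

universe u

open CategoryTheory CategoryTheory.Limits AlgebraicGeometry

noncomputable section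

namespace Groth.Agent.H9Misc.GammaHomExt

open Groth.Agent Groth.Agent.SheafHomX ExtShShift GammaPairing

variable {X : Scheme.{u}} [IsAffine X] [IsLocallyNoetherian X] {G : X.Modules} (I : InjectiveResolution G)

set_option maxHeartbeats 2000000 in
theorem nonempty_step (hG : Coh.IsQCoh G)
    (hQ : ∀ (A : X.Modules), Coh.IsCoh A → ∀ q, Coh.IsQCoh ((cx I A).homology q))
    (M : X.Modules) (hM : Coh.IsCoh M) :
    Nonempty (HomEvalExt.Step (pairing X) I (fun A : X.Modules => Coh.IsCoh A) M) := by
  obtain ⟨n, p, hp⟩ := exists_free_epi hM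
  have hF : Coh.IsCoh (FlatMod.freeMod X n) := CurveDeg.isCoh_of_isFinLocFree (KFlatLib.isFinLocFree_freeMod n)
  let S : ShortComplex X.Modules := ShortComplex.mk (kernel.ι p) p (kernel.condition p)
  have hS : S.ShortExact := { exact := ShortComplex.exact_kernel p, epi_g := hp }
  have hK : Coh.IsCoh S.X₁ := QCoh.isCoh_kernel hF hM p
  refine ⟨{ S := S, hS := hS, mem := hK, f := 𝟙 M, isoT := inferInstance, isoCx := fun q => ?_,
            evIso := ?_, cxZero := fun q => ?_, proj := projective_freeMod X n,
            shortExactT := fun w => shortExact_map hS hK.1,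
            exact₃ := fun w hc q z => exact_map (hc.homology_exact₃ q (q + 1) rfl) (hQ _ hF q) (hQ _ hK q) (hQ _ hM _),
            exact₁ := fun w hc q z => exact_map (hc.homology_exact₁ q (q + 1) rfl) (hQ _ hK q) (hQ _ hM _) (hQ _ hF _) }⟩
  · have h : cxMap I (𝟙 M) = 𝟙 (cx I M) := HomologicalComplex.hom_ext _ _ fun i => homMap_id M (I.cocomplex.X i)
    rw [h, HomologicalComplex.homologyMap_id]
    infer_instance
  · haveI := isIso_ev_unit X G hG
    exact HomEval.isIso_ev_freeMod (pairing X) G n
  · haveI := SheafHomY.preservesFiniteColimits_hom (KFlatLib.isFinLocFree_freeMod (X := X) n)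
    refine (gammaTop X).map_isZero (ExtShShift.isZero_of_exact I (FlatMod.freeMod X n) (fun u hu => ?_) q)
    haveI := hu
    infer_instance

/-- Sections of the local Ext sheaves of a coherent module are the Ext of sections. -/
theorem nonempty_ext (hG : Coh.IsQCoh G)
    (hQ : ∀ (A : X.Modules), Coh.IsCoh A → ∀ q, Coh.IsQCoh ((cx I A).homology q))
    (M : X.Modules) (hM : Coh.IsCoh M) (q : ℕ) :
    Nonempty ((gammaTop X).obj ((cx I M).homology q) ≅
      ModuleCat.of Γ(X, ⊤) (Abelian.Ext.{u} ((gammaTop X).obj M) ((gammaTop X).obj G) q)) :=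
  HomEvalExt.nonempty_ext (pairing X) I (fun A hA => nonempty_step I hG hQ A hA) q M hM

end Groth.Agent.H9Misc.GammaHomExt
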