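import Groth.Agent.H9Misc.HomEval
import Groth.Agent.QCoh.TensorSections
import Groth.Agent.QCoh.Tilde
import Groth.Agent.QCoh.CechStd
import Groth.Agent.QCoh.HHExact
import Groth.Agent.QCoh.Support
import Groth.Agent.InvX.GenEpi
import Groth.Agent.H23.UnitSec

/-! Global sections as a pairing, and their exactness on affine schemes. -/

set_option linter.style.haveILetI false
set_option linter.unusedSectionVars false
set_option backward.isDefEq.respectTransparency false
set_option backward.isDefEq.respectTransparency.types false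

universe u

open CategoryTheory CategoryTheory.Limits AlgebraicGeometry MonoidalCategory Opposite
open scoped TensorProduct

noncomputable section

namespace Groth.Agent.H9Misc.GammaPairing

open Groth.Agent

variable (X : Scheme.{u})

/-- A morphism on global sections, linearly. -/
def linTop {M N : X.Modules} (g : M ⟶ N) : Γ(M, ⊤) →ₗ[Γ(X, ⊤)] Γ(N, ⊤) where
  toFun := g.app ⊤
  map_add' a b := map_add _ a b
  map_smul' r a := (g.val.app (op ⊤)).hom.map_smul r a

/-- Global sections, as modules. -/
def gammaTop : X.Modules ⥤ ModuleCat.{u} Γ(X, ⊤) where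
  obj M := ModuleCat.of Γ(X, ⊤) Γ(M, ⊤)
  map g := ModuleCat.ofHom (linTop X g)
  map_id M := by ext; rfl
  map_comp f g := by ext; rfl

instance : (gammaTop X).Additive where
  map_add {M N f g} := by ext; rfl

instance preservesFiniteLimits_gammaTop : PreservesFiniteLimits (gammaTop X) :=
  haveI : PreservesFiniteLimits
      (gammaTop X ⋙ forget₂ (ModuleCat.{u} Γ(X, ⊤)) AddCommGrpCat) :=
    haveI : PreservesFiniteLimits (Scheme.Modules.toPresheaf X) := PreservesLimitsOfSize.preservesFiniteLimits _
    haveI : PreservesFiniteLimits (Scheme.Modules.toPresheaf X ⋙ (CategoryTheory.evaluation _ AddCommGrpCat).obj (op ⊤)) :=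
      haveI : PreservesFiniteLimits
          ((CategoryTheory.evaluation (TopologicalSpace.Opens X)ᵒᵖ AddCommGrpCat.{u}).obj (op ⊤)) :=
        ⟨fun J _ _ => inferInstance⟩
      comp_preservesFiniteLimits _ _
    preservesFiniteLimits_of_natIso
      (Iso.refl (Scheme.Modules.toPresheaf X ⋙ (CategoryTheory.evaluation _ AddCommGrpCat).obj (op ⊤)))
  preservesFiniteLimits_of_reflects_of_preserves (gammaTop X) (forget₂ (ModuleCat.{u} Γ(X, ⊤)) AddCommGrpCat)

/-- The pairing of global sections. -/
def pairing : HomEval.Pairing X Γ(X, ⊤) where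
  T := gammaTop X
  additive := inferInstance
  τ M N := ModuleCat.ofHom (QCoh.tmLin M N ⊤)
  natl {M M'} f N a b := (KFlatLib.tmSh_naturality_left f N (U := ⊤) a b).symm
  natr M {N N'} g a b := (KFlatLib.tmSh_naturality_right M g (U := ⊤) a b).symm

instance : PreservesFiniteLimits (pairing X).T := preservesFiniteLimits_gammaTop X

theorem isIso_ev_unit [IsAffine X] (G : X.Modules) (hG : Coh.IsQCoh G) :
    IsIso (HomEval.ev (pairing X) G (Coh.structureModule X)) := by
  refine HomEval.isIso_ev_unit (pairing X) G (H23.UnitSec.oneG ⊤) (fun N => ?_) ?_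
  · refine ⟨fun φ ψ h => ?_, fun n => ?_⟩
    · refine ModuleCat.hom_ext (LinearMap.ext fun t => ?_)
      have ht : (t : Γ(Coh.structureModule X, ⊤)) = (show Γ(X, ⊤) from t) • H23.UnitSec.oneG ⊤ :=
        (mul_one (show Γ(X, ⊤) from t)).symm
      rw [ht]
      exact (map_smul φ.hom _ (H23.UnitSec.oneG ⊤)).trans
        ((congrArg (_ • ·) h).trans (map_smul ψ.hom _ (H23.UnitSec.oneG ⊤)).symm)
    · exact ⟨ModuleCat.ofHom (LinearMap.toSpanSingleton Γ(X, ⊤) N n), one_smul _ n⟩
  · let Z := (SheafHomX.hom (Coh.structureModule X)).obj G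
    have hZ : Coh.IsQCoh Z := KFlatLib.isQCoh_of_iso ((SheafHomX.unitIso X).app G).symm hG
    have hO : Coh.IsQCoh (Coh.structureModule X) := QCoh.isQCoh_structureModule
    have h1 : Function.Bijective fun z : Γ(Z, ⊤) => z ⊗ₜ[Γ(X, ⊤)] H23.UnitSec.oneG ⊤ :=
      (TensorProduct.rid Γ(X, ⊤) Γ(Z, ⊤)).symm.bijective
    exact (QCoh.bijective_tmLin hZ hO (isAffineOpen_top X)).comp h1

theorem projective_freeMod (n : ℕ) : Projective ((gammaTop X).obj (FlatMod.freeMod X n)) := by
  classical
  let O := Coh.structureModule X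
  haveI : Projective ((gammaTop X).obj O) :=
    inferInstanceAs (Projective (ModuleCat.of Γ(X, ⊤) Γ(X, ⊤)))
  let ι : Fin n → (O ⟶ FlatMod.freeMod X n) := fun i => Sigma.ι (fun _ : Fin n => O) i
  let π : Fin n → (FlatMod.freeMod X n ⟶ O) := fun i => Sigma.desc fun k => if k = i then 𝟙 _ else 0
  have h : ∑ i, π i ≫ ι i = 𝟙 _ := Sigma.hom_ext _ _ fun k => by
    rw [Preadditive.comp_sum, Category.comp_id, Finset.sum_eq_single k]
    · rw [Sigma.ι_desc_assoc, if_pos rfl, Category.id_comp]
    · intro i _ hi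
      rw [Sigma.ι_desc_assoc, if_neg (Ne.symm hi), zero_comp]
    · exact fun hk => absurd (Finset.mem_univ k) hk
  refine ⟨fun f e _ => ⟨∑ i, (gammaTop X).map (π i) ≫ Projective.factorThru ((gammaTop X).map (ι i) ≫ f) e, ?_⟩⟩
  rw [Preadditive.sum_comp]
  simp only [Category.assoc, Projective.factorThru_comp, ← Functor.map_comp_assoc]
  rw [← Preadditive.sum_comp, ← Functor.map_sum, h, CategoryTheory.Functor.map_id, Category.id_comp]

variable {X} [IsAffine X]

/-- A coherent module on an affine scheme is a quotient of a finite free one. -/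
theorem exists_free_epi {M : X.Modules} (hM : Coh.IsCoh M) : ∃ (n : ℕ) (p : FlatMod.freeMod X n ⟶ M), Epi p := by
  have hT := isAffineOpen_top X
  haveI := QCoh.finite_sections hM hT
  obtain ⟨n, s, hs⟩ := Module.Finite.exists_fin (R := Γ(X, ⊤)) (M := Γ(M, ⊤))
  refine ⟨n, InvX.exists_epi_freeMod (s := s) (fun x => ?_)⟩
  letI := QCoh.stalkAlg (X := X) (U := ⊤) (x := x) trivial
  letI := QCoh.stalkModule M (U := ⊤) (x := x) trivial
  haveI := QCoh.isScalarTower_stalk M (U := ⊤) (x := x) trivial
  haveI := QCoh.isLocalizedModule_germLin hM.1 hT (x := x) trivial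
  haveI := QCoh.isLocalization_stalk' hT (x := x) (show x ∈ (⊤ : X.Opens) from trivial)
  refine eq_top_iff.2 fun m _ => ?_
  obtain ⟨⟨a, r⟩, hr⟩ := IsLocalizedModule.surj (hT.primeIdealOf ⟨x, trivial⟩).asIdeal.primeCompl
    (QCoh.germLin M (U := ⊤) (x := x) trivial) m
  have hu := IsLocalization.map_units (X.presheaf.stalk x) r
  have ha : QCoh.germLin M (U := ⊤) (x := x) trivial a ∈ Submodule.span (X.presheaf.stalk x)
      (Set.range fun i => (M.presheaf.germ ⊤ x trivial).hom (s i)) := by
    have h := Submodule.mem_map_of_mem (f := QCoh.germLin M (U := ⊤) (x := x) trivial) (hs.ge (Submodule.mem_top : a ∈ ⊤))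
    rw [Submodule.map_span, ← Set.range_comp] at h
    exact Submodule.span_le_restrictScalars Γ(X, ⊤) (X.presheaf.stalk x) _ h
  rw [← hr] at ha
  refine (Submodule.smul_mem_iff_of_isUnit _ hu).1 ?_
  rw [algebraMap_smul]
  exact ha

/-- Global sections are exact on short exact sequences with quasi-coherent kernel. -/
theorem shortExact_map {S : ShortComplex X.Modules} (hS : S.ShortExact) (h1 : Coh.IsQCoh S.X₁) :
    (S.map (gammaTop X)).ShortExact := by
  haveI := hS.mono_f
  haveI := hS.epi_g
  exact
    { exact := hS.exact.map_of_mono_of_preservesKernel (gammaTop X) ‹_› inferInstance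
      mono_f := (gammaTop X).map_mono S.f
      epi_g := (ModuleCat.epi_iff_surjective _).2
        (QCoh.app_top_surjective_of_HH_one hS (QCoh.subsingleton_HH_of_isAffine h1 0)) }

/-- Global sections are exact on exact sequences of quasi-coherent modules. -/
theorem exact_map {S : ShortComplex X.Modules} (hS : S.Exact) (h1 : Coh.IsQCoh S.X₁) (h2 : Coh.IsQCoh S.X₂)
    (h3 : Coh.IsQCoh S.X₃) : (S.map (gammaTop X)).Exact := by
  have hK : Coh.IsQCoh (kernel S.g) := QCoh.isQCoh_kernel h2 h3 S.g
  let l := kernel.lift S.g S.f S.zero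
  haveI : Epi l := hS.epi_kernelLift
  let T₁ : ShortComplex X.Modules := ShortComplex.mk (kernel.ι l) l (kernel.condition l)
  have hT₁ : T₁.ShortExact := { exact := ShortComplex.exact_kernel l }
  haveI : Epi ((gammaTop X).map l) := (shortExact_map hT₁ (QCoh.isQCoh_kernel h1 hK l)).epi_g
  let Tk := KernelFork.mapIsLimit (KernelFork.ofι (kernel.ι S.g) (kernel.condition S.g)) (kernelIsKernel S.g) (gammaTop X)
  refine (ShortComplex.moduleCat_exact_iff _).2 fun b hb => ?_
  obtain ⟨k, hk⟩ := (ShortComplex.moduleCat_exact_iff _).1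
    (ShortComplex.exact_of_f_is_kernel (ShortComplex.mk ((gammaTop X).map (kernel.ι S.g)) ((gammaTop X).map S.g)
      (by rw [← Functor.map_comp, kernel.condition, Functor.map_zero])) Tk) b hb
  obtain ⟨a, ha⟩ := (ModuleCat.epi_iff_surjective ((gammaTop X).map l)).1 inferInstance k
  refine ⟨a, ?_⟩
  show ((gammaTop X).map S.f).hom a = b
  rw [show S.f = l ≫ kernel.ι S.g from (kernel.lift_ι _ _ _).symm, Functor.map_comp, ← hk]
  exact congrArg _ ha

end Groth.Agent.H9Misc.GammaPairing
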