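import Groth.Agent.H9Misc.ResPropAffine

/-!
# Generating families and affine morphisms
-/

set_option autoImplicit false
set_option backward.isDefEq.respectTransparency false
set_option backward.isDefEq.respectTransparency.types false
set_option linter.style.haveILetI false

universe u

open CategoryTheory CategoryTheory.Limits AlgebraicGeometry TopologicalSpace Opposite

noncomputable section

namespace Groth.Agent.H9Misc.GenAffine

open Groth.Agent

theorem isClosedImmersion_of_cover {X Y S : Scheme.{u}} (f : X ⟶ S) [IsAffineHom f] (g : Y ⟶ S) [IsAffineHom g] (h : Y ⟶ X) (w : h ≫ f = g)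
    {ι : Type u} (W : ι → S.affineOpens) (hcov : ∀ x : S, ∃ i, x ∈ (W i).1)
    (hsurj : ∀ i, Function.Surjective ((AffAlg.algHom f g h w).app (op (W i).1)).hom) :
    IsClosedImmersion h := by
  refine IsZariskiLocalAtTarget.of_iSup_eq_top (P := @IsClosedImmersion)
    (fun i => f ⁻¹ᵁ (W i).1) (IsOpenCover.comap (v := fun i => (W i).1)
      (top_unique fun x _ => Opens.mem_iSup.2 (hcov x)) f.base.1) fun i => ?_
  let U := W i
  have : IsAffine (f ⁻¹ᵁ U.1).toScheme := U.2.preimage f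
  have : IsAffine (h ⁻¹ᵁ (f ⁻¹ᵁ U.1)).toScheme := by
    rw [← RelSpecX.preimage_eq f g h w U.1]
    exact U.2.preimage g
  refine IsClosedImmersion.of_surjective_of_isAffine _ ?_
  have e1 : Function.Surjective (h.app (f ⁻¹ᵁ U.1)).hom := by
    have hs := hsurj i
    rw [RelSpecX.algHom_app] at hs
    subst w
    rw [Scheme.Hom.app_eq_appLE]
    exact hs
  rw [morphismRestrict_appTop]
  have e2 : ∀ {A B : X.Opens} (e : A = B), Function.Surjective (h.app A).hom →
      Function.Surjective (h.app B).hom := fun e hA => e ▸ hA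
  have e3 := e2 (Scheme.Opens.ι_image_top (f ⁻¹ᵁ U.1)).symm e1
  show Function.Surjective ((Y.presheaf.map
      (eqToHom (image_morphismRestrict_preimage h (f ⁻¹ᵁ U.1) ⊤)).op).hom ∘
    (h.app ((f ⁻¹ᵁ U.1).ι ''ᵁ ⊤)).hom)
  exact (ConcreteCategory.bijective_of_isIso
    (Y.presheaf.map (eqToHom (image_morphismRestrict_preimage h (f ⁻¹ᵁ U.1) ⊤)).op)).2.comp e3


/-- Sections of a coproduct over an affine open. -/
theorem mem_iSup_sigma {X : Scheme.{u}} {κ : Type u} (E : κ → X.Modules) (hE : ∀ k, Coh.IsQCoh (E k))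
    {U : X.Opens} (hU : IsAffineOpen U) (z : Γ(∐ E, U)) :
    z ∈ Submodule.span Γ(X, U) {y : Γ(∐ E, U) | ∃ k x, y = (Sigma.ι E k).app U x} := by
  let M := ∐ E
  have hM : Coh.IsQCoh M := QCoh.isQCoh_colimit _ fun k => hE k.as
  let T : ModuleCat.{u} Γ(X, U) := moduleSpecΓFunctor.obj (M.restrict hU.fromSpec)
  haveI : (moduleSpecΓFunctor (R := Γ(X, U))).PreservesZeroMorphisms := ⟨fun _ _ => rfl⟩
  let N : Submodule Γ(X, U) T := Submodule.span Γ(X, U) {y : T | ∃ k x, y = QCoh.toChart hU M ((Sigma.ι E k).app U x)}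
  let P : (Spec Γ(X, U)).Modules := tilde (ModuleCat.of Γ(X, U) (T ⧸ N))
  let α := (tilde.isoTop (ModuleCat.of Γ(X, U) (T ⧸ N)))
  let g : T ⟶ moduleSpecΓFunctor.obj P :=
    (@ModuleCat.ofHom _ _ T (T ⧸ N) _ T.isModule _ _ N.mkQ) ≫ α.hom
  obtain ⟨χ, hχ⟩ := (QCoh.bijective_ΓMap (QCoh.isQCoh_restrict hU.fromSpec hM) P).2 g
  have h0 : ∀ k, (Scheme.Modules.restrictFunctor hU.fromSpec).map (Sigma.ι E k) ≫ χ = 0 := fun k => by
    refine (QCoh.bijective_ΓMap (QCoh.isQCoh_restrict hU.fromSpec (hE k)) P).1 ?_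
    show moduleSpecΓFunctor.map _ = moduleSpecΓFunctor.map 0
    rw [Functor.map_comp, Functor.map_zero, show moduleSpecΓFunctor.map χ = g from hχ]
    refine ModuleCat.hom_ext (LinearMap.ext fun y => ?_)
    obtain ⟨x, rfl⟩ := (QCoh.bijective_toChart hU (E k)).2 y
    exact (congrArg α.hom.hom ((Submodule.Quotient.mk_eq_zero N).2
      (Submodule.subset_span ⟨k, x, QCoh.map_app_comm (Sigma.ι E k) _ x⟩))).trans (map_zero α.hom.hom)
  have hz : χ = 0 := by
    refine ((Scheme.Modules.restrictAdjunction hU.fromSpec).homEquiv _ _).injective (Sigma.hom_ext _ _ fun k => ?_)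
    refine ((Scheme.Modules.restrictAdjunction hU.fromSpec).homEquiv_naturality_left _ _).symm.trans ?_
    rw [h0 k, Adjunction.homEquiv_unit, Adjunction.homEquiv_unit]
    simp
  have hmem : ∀ t : T, t ∈ N := fun t => (Submodule.Quotient.mk_eq_zero N).1 <| by
    have h := ConcreteCategory.congr_hom ((show moduleSpecΓFunctor.map χ = g from hχ).symm.trans (show moduleSpecΓFunctor.map χ = 0 by rw [hz, Functor.map_zero])) t
    exact (ConcreteCategory.bijective_of_isIso α.hom).1 ((show α.hom (N.mkQ t) = 0 from h).trans (map_zero α.hom.hom).symm)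
  have hback : ∀ t ∈ N, ∃ y ∈ Submodule.span Γ(X, U) {y : Γ(∐ E, U) | ∃ k x, y = (Sigma.ι E k).app U x},
      QCoh.toChart hU M y = t := fun t ht => by
    refine Submodule.span_induction ?_ ?_ ?_ ?_ ht
    · rintro _ ⟨k, x, rfl⟩
      exact ⟨_, Submodule.subset_span ⟨k, x, rfl⟩, rfl⟩
    · refine ⟨0, zero_mem _, ?_⟩
      exact (AddMonoidHom.mk' (QCoh.toChart hU M) (QCoh.toChart_add hU M)).map_zero
    · rintro a b _ _ ⟨y, hy, rfl⟩ ⟨y', hy', rfl⟩
      exact ⟨y + y', add_mem hy hy', QCoh.toChart_add hU M y y'⟩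
    · rintro r a _ ⟨y, hy, rfl⟩
      exact ⟨r • y, Submodule.smul_mem _ r hy, QCoh.toChart_smul hU M r y⟩
  obtain ⟨y, hy, hyz⟩ := hback _ (hmem (QCoh.toChart hU M z))
  rwa [(QCoh.bijective_toChart hU M).1 hyz] at hy

/-- A closed immersion into the bundle from generators. -/
theorem exists_embedding {X Y : Scheme.{u}} (f : Y ⟶ X) [IsAffineHom f] {F : X.Modules} (hF : Coh.IsQCoh F)
    (φ : F ⟶ (RelSpec.QCAlg.directImage f).toModule) {ι : Type u} (W : ι → X.affineOpens)
    (hcov : ∀ x : X, ∃ i, x ∈ (W i).1)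
    (hgen : ∀ i, Subring.closure (Set.range ((RelSpec.QCAlg.directImage f).str.app (op (W i).1)).hom ∪
      Set.range (fun e : Γ(F, (W i).1) => SymAlgX.jv (RelSpec.QCAlg.directImage f) φ (W i).1 e)) = ⊤) :
    ∃ (B : RelSpec.QCAlg X) (φ' : F ⟶ B.toModule) (c : Y ⟶ B.spec),
      RelSpec.IsSymAlg F B φ' ∧ IsClosedImmersion c ∧ c ≫ B.π = f := by
  let A := SymAlgX.symAlg hF
  have hA : RelSpec.IsSymAlg F A (SymAlgX.symJ hF) := SymAlgX.isSymAlg_symAlg hF
  obtain ⟨ψ, hψ, -⟩ := hA (RelSpec.QCAlg.directImage f) φ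
  let ω : AffAlg.algHoms A.π f := ⟨A.gammaMap ≫ ψ.hom, by
    rw [← Category.assoc, A.π_c_gammaMap]
    exact ψ.comm⟩
  refine ⟨A, SymAlgX.symJ hF, RelSpecX.ofAlgHom A.π f ω, hA, ?_, RelSpecX.ofAlgHom_comp A.π f ω⟩
  refine isClosedImmersion_of_cover A.π f _ (RelSpecX.ofAlgHom_comp A.π f ω) W hcov fun i => ?_
  rw [RelSpecX.algHom_ofAlgHom]
  haveI : IsIso A.gammaMap := RelSpecX.isIso_gammaMap A
  haveI : IsIso (A.gammaMap.app (op (W i).1)) := NatIso.isIso_app_of_isIso A.gammaMap _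
  refine Function.Surjective.comp (g := ⇑(ψ.hom.app (op (W i).1))) ?_
    (ConcreteCategory.bijective_of_isIso (A.gammaMap.app (op (W i).1))).2
  intro b
  have hb : b ∈ (⊤ : Subring ((RelSpec.QCAlg.directImage f).presheaf.obj (op (W i).1))) := trivial
  rw [← hgen i] at hb
  refine (Subring.closure_le (t := (ψ.hom.app (op (W i).1)).hom.range)).2 ?_ hb
  rintro _ (⟨r, rfl⟩ | ⟨e, rfl⟩)
  · exact ⟨(A.str.app (op (W i).1)).hom r, ConcreteCategory.congr_hom (NatTrans.congr_app ψ.comm _) r⟩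
  · exact ⟨(SymAlgX.symJ hF).app (W i).1 e, congrArg (fun β : F ⟶ (RelSpec.QCAlg.directImage f).toModule => β.app (W i).1 e) hψ⟩

theorem main (X : Scheme.{u}) [CompactSpace X]
    {ι : Type u} (E : ι → X.Modules) (hE : ∀ i, Coh.IsQCoh (E i)) :
    (∀ M : X.Modules, Coh.IsQCoh M → ∃ (κ : Type u) (j : κ → ι) (π : (∐ fun k : κ => E (j k)) ⟶ M), Epi π) ↔
    (∀ (Y : Scheme.{u}) (f : Y ⟶ X) [IsAffineHom f],
      ∃ (κ : Type u) (j : κ → ι) (B : RelSpec.QCAlg X) (φ : (∐ fun k : κ => E (j k)) ⟶ B.toModule) (c : Y ⟶ B.spec),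
        RelSpec.IsSymAlg (∐ fun k : κ => E (j k)) B φ ∧ IsClosedImmersion c ∧ c ≫ B.π = f ∧
        (LocallyOfFiniteType f → Finite κ)) := by
  classical
  constructor
  · intro h Y f _
    let D := RelSpec.QCAlg.directImage f
    have hD : Coh.IsQCoh D.toModule := QCoh.isQCoh_pushforward f QCoh.isQCoh_structureModule
    obtain ⟨κ, j, π, hπ⟩ := h D.toModule hD
    haveI := hπ
    have hq : Coh.IsQCoh (∐ fun k : κ => E (j k)) := QCoh.isQCoh_colimit _ fun k => hE _
    by_cases hf : LocallyOfFiniteType f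
    · haveI := hf
      obtain ⟨s₀, hs₀, hcov⟩ := isCompact_iff_finite_and_eq_biUnion_affineOpens.mp
        (show IsCompact ((⊤ : X.Opens) : Set X) from isCompact_univ)
      haveI := hs₀.to_subtype
      have hcov' : ∀ x : X, ∃ i : s₀, x ∈ i.1.1 := fun x => by
        have hx : x ∈ (⊤ : X.Opens) := trivial
        rw [hcov] at hx
        obtain ⟨V, hV, hxV⟩ := by simpa only [Opens.mem_iSup, exists_prop] using hx
        exact ⟨⟨V, hV⟩, hxV⟩
      have hloc : ∀ U : s₀, ∃ (T : Finset (D.presheaf.obj (op U.1.1))) (s : Finset κ),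
          Subring.closure (Set.range (D.str.app (op U.1.1)).hom ∪ T) = ⊤ ∧
          ∀ b ∈ T, ∃ z : Γ(∐ fun k : κ => E (j k), U.1.1), (π.app U.1.1 z : D.presheaf.obj (op U.1.1)) = b ∧
            z ∈ ⨆ k ∈ s, Submodule.span Γ(X, U.1.1) (Set.range ((Sigma.ι (fun k : κ => E (j k)) k).app U.1.1)) := fun U => by
        have hft : (D.str.app (op U.1.1)).hom.FiniteType := by
          show (f.app U.1.1).hom.FiniteType
          rw [Scheme.Hom.app_eq_appLE]
          exact f.finiteType_appLE U.1.2 (U.1.2.preimage f) _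
        letI := (D.str.app (op U.1.1)).hom.toAlgebra
        obtain ⟨T, hT⟩ := hft.1
        choose z hz using fun b : D.presheaf.obj (op U.1.1) =>
          QCoh.app_surjective_of_epi hq hD π U.1.2 (show Γ(D.toModule, U.1.1) from b)
        have hfin : ∀ b : D.presheaf.obj (op U.1.1), ∃ s : Finset κ,
            z b ∈ ⨆ k ∈ s, Submodule.span Γ(X, U.1.1) (Set.range ((Sigma.ι (fun k : κ => E (j k)) k).app U.1.1)) := fun b => by
          refine Submodule.exists_finset_of_mem_iSup (p := fun k => Submodule.span Γ(X, U.1.1)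
            (Set.range ((Sigma.ι (fun k : κ => E (j k)) k).app U.1.1))) ?_
          refine Submodule.span_le.2 ?_ (mem_iSup_sigma (fun k : κ => E (j k)) (fun k => hE _) U.1.2 (z b))
          rintro _ ⟨k, x, rfl⟩
          exact Submodule.mem_iSup_of_mem k (Submodule.subset_span ⟨x, rfl⟩)
        choose s hs using hfin
        refine ⟨T, T.biUnion s, ?_, fun b hb => ⟨z b, hz b, ?_⟩⟩
        · have := congrArg Subalgebra.toSubring hT
          rw [Algebra.adjoin_eq_ring_closure] at this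
          exact this
        · exact SetLike.le_def.1 (biSup_mono fun k hk => Finset.mem_biUnion.2 ⟨b, hb, hk⟩) (hs b)
      choose T s hT hTs using hloc
      haveI := Fintype.ofFinite s₀
      let S : Finset κ := Finset.univ.biUnion s
      let ρ : (∐ fun k : S => E (j k.1)) ⟶ D.toModule :=
        Sigma.desc fun k : S => Sigma.ι (fun k : κ => E (j k)) k.1 ≫ π
      have hρq : Coh.IsQCoh (∐ fun k : S => E (j k.1)) := QCoh.isQCoh_colimit _ fun k => hE _
      obtain ⟨B, φ, c, hB, hc, hcf⟩ := exists_embedding f hρq ρ (fun U : s₀ => U.1) hcov' fun U => by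
        refine top_unique ((hT U).symm.le.trans (Subring.closure_le.2 (Set.union_subset ?_ ?_)))
        · exact fun x hx => Subring.subset_closure (Or.inl hx)
        intro b hb
        obtain ⟨z, rfl, hzs⟩ := hTs U b hb
        have hsub : ∀ {w : Γ(∐ fun k : κ => E (j k), U.1.1)},
            w ∈ (⨆ k ∈ s U, Submodule.span Γ(X, U.1.1) (Set.range ((Sigma.ι (fun k : κ => E (j k)) k).app U.1.1))) →
            ∃ e, ρ.app U.1.1 e = π.app U.1.1 w := by
          intro w hw
          rw [← Submodule.span_iUnion₂] at hw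
          refine Submodule.span_induction ?_ ?_ ?_ ?_ hw
          · intro w' hw'
            obtain ⟨k, hk, x, rfl⟩ := Set.mem_iUnion₂.1 hw'
            let k' : S := ⟨k, Finset.mem_biUnion.2 ⟨U, Finset.mem_univ _, hk⟩⟩
            exact ⟨(Sigma.ι (fun k : S => E (j k.1)) k').app U.1.1 x,
              congr(($(Sigma.ι_desc (fun k : S => Sigma.ι (fun k : κ => E (j k)) k.1 ≫ π) k')).app U.1.1 x)⟩
          · exact ⟨0, (map_zero _).trans (map_zero _).symm⟩
          · rintro a b _ _ ⟨e, he⟩ ⟨e', he'⟩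
            exact ⟨e + e', by rw [map_add, map_add, he, he']⟩
          · rintro r a _ ⟨e, he⟩
            exact ⟨r • e, by rw [Scheme.Modules.Hom.app_smul, Scheme.Modules.Hom.app_smul, he]⟩
        obtain ⟨e, he⟩ := hsub hzs
        exact Subring.subset_closure (Or.inr ⟨e, he⟩)
      exact ⟨S, fun k => j k.1, B, φ, c, hB, hc, hcf, fun _ => inferInstance⟩
    · obtain ⟨B, φ, c, hB, hc, hcf⟩ := exists_embedding f hq π (fun U : X.affineOpens => U) (fun x => by
          obtain ⟨W, hW, hxW, -⟩ := exists_isAffineOpen_mem_and_subset (X := X) (x := x) (U := ⊤) trivial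
          exact ⟨⟨W, hW⟩, hxW⟩) fun U => by
        refine top_unique fun b _ => Subring.subset_closure (Or.inr ?_)
        exact QCoh.app_surjective_of_epi hq hD π U.2 (show Γ(D.toModule, U.1) from b)
      exact ⟨κ, j, B, φ, c, hB, hc, hcf, fun h => absurd h hf⟩
  · intro h M hM
    obtain ⟨κ, j, B, φ, c, hB, hc, hcf, -⟩ := h (ResPropAffine.sq hM).spec (ResPropAffine.sq hM).π
    haveI := hc
    obtain ⟨χ, hχ⟩ := ResPropAffine.exists_algMap c hcf
    obtain ⟨π, hπ⟩ := ResPropAffine.exists_epi_of_surjective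
      (QCoh.isQCoh_colimit _ fun k => hE _) hM hB χ hχ
    exact ⟨κ, j, π, hπ⟩

end Groth.Agent.H9Misc.GenAffine
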