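import Groth.Agent.KFlatLib.Scheme.ResolutionDescent
import Groth.Agent.KFlatLib.Scheme.PushCoprod
import Groth.Agent.H23.LocFinCoprod
import Groth.Agent.H23.PicMul

/-! Generators push forward along finite locally free surjections. -/

set_option linter.style.haveILetI false
set_option backward.isDefEq.respectTransparency false

universe u

open CategoryTheory CategoryTheory.Limits AlgebraicGeometry
open Groth.Agent.H23.PicMul

namespace Groth.Agent.H9Misc.GenPushFlat

open KFlatLib

theorem generating_push {X Y : Scheme.{u}} (f : X ⟶ Y) (hf : Mor2.IsFinLocFree f) [Surjective f]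
    {ι : Type u} (E : ι → X.Modules) (hE : ∀ i, Coh.IsQCoh (E i))
    (hgen : ∀ M : X.Modules, Coh.IsQCoh M →
      ∃ (κ : Type u) (j : κ → ι) (π : (∐ fun k : κ => E (j k)) ⟶ M), Epi π)
    (N : Y.Modules) (hN : Coh.IsQCoh N) :
    ∃ (κ : Type u) (j : κ → ι) (π : (∐ fun k : κ => (Scheme.Modules.pushforward f).obj (E (j k))) ⟶ N), Epi π := by
  obtain ⟨hfin, hflat, hlfp⟩ := id hf
  let A := (Scheme.Modules.pushforward f).obj (Coh.structureModule X)
  have hA : FlatMod.IsFinLocFree A := ((Groth.Agent.S9716.result f).2 hf).2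
  have hO : FlatMod.IsFinLocFree (Coh.structureModule Y) :=
    H23.PullPush.isFinLocFree_of_iso (coproductUniqueIso (fun _ : Fin 1 => Coh.structureModule Y))
      (isFinLocFree_freeMod 1)
  let W := (SheafHomX.hom A).obj (Coh.structureModule Y)
  have hW : FlatMod.IsFinLocFree W := SheafHomX.isFinLocFree_hom hA hO
  let T := DCoh.tensorBi (X := Y)
  let M : Y.Modules := (T.obj W).obj N
  have hM : Coh.IsQCoh M :=
    KFlatLib.isQCoh_tensor (QCoh.isQCoh_of_isFP (QCoh.isFlat_and_isFP_iff.2 hW).2) hN
  obtain ⟨e⟩ := nonempty_push_pull_iso f (QCoh.isFlat_and_isFP_iff.2 hA).1 hM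
  obtain ⟨κ, j, π, hπ⟩ := hgen _ (QCoh.isQCoh_pullback f hM)
  haveI : Epi ((Scheme.Modules.pushforward f).map π) :=
    AmpleVan.epi_push f (H23.LocFinCoprod.isQCoh_coprod (fun k => hE (j k))) (QCoh.isQCoh_pullback f hM) π
  haveI : PreservesColimitsOfShape (Discrete κ) (Scheme.Modules.pushforward f) :=
    preservesColimitsOfShape_push_discrete f
  let c : (∐ fun k : κ => (Scheme.Modules.pushforward f).obj (E (j k))) ⟶
      (Scheme.Modules.pushforward f).obj (∐ fun k : κ => E (j k)) :=
    sigmaComparison (Scheme.Modules.pushforward f) (fun k : κ => E (j k))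
  haveI : IsIso c := inferInstanceAs (IsIso (sigmaComparison (Scheme.Modules.pushforward f) (fun k : κ => E (j k))))
  obtain ⟨e'⟩ := cl_eq_iff.1 (show PicF.cl ((T.obj A).obj M) = PicF.cl ((T.obj W).obj ((T.obj A).obj N)) by
    show PicF.cl (CohB1.tensorMod A (CohB1.tensorMod W N)) = PicF.cl (CohB1.tensorMod W (CohB1.tensorMod A N))
    simp only [cl_tensor]
    ac_rfl)
  haveI hε : Epi ((SheafHomX.adj A).counit.app (Coh.structureModule Y)) :=
    epi_counit fun y => exists_split_push f hA y
  haveI : Epi ((T.map ((SheafHomX.adj A).counit.app (Coh.structureModule Y))).app N) := by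
    haveI : PreservesColimitsOfShape WalkingSpan (T.flip.obj N) := inferInstance
    exact inferInstanceAs (Epi ((T.flip.obj N).map ((SheafHomX.adj A).counit.app (Coh.structureModule Y))))
  let θ : (∐ fun k : κ => (Scheme.Modules.pushforward f).obj (E (j k))) ⟶ N :=
    c ≫ (Scheme.Modules.pushforward f).map π ≫ (e.inv ≫ e'.hom) ≫
      (((tensorAssocSch Y).app W).app A).inv.app N ≫
      (T.map ((SheafHomX.adj A).counit.app (Coh.structureModule Y))).app N ≫
      (SheafHomX.tenUnitIso N).hom
  exact ⟨κ, j, θ, by dsimp only [θ]; infer_instance⟩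

end Groth.Agent.H9Misc.GenPushFlat
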