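import Groth.Agent.H9Misc.GenPushFree
import Groth.Agent.H23.LocFinCoprod
import Groth.Agent.QCoh.SubCompare
import Groth.Agent.QCoh.AnnIdeal
import Groth.Agent.ModPairLib.Basic
import Mathlib.RingTheory.Filtration

/-! A push-forward mapping to a power of a coherent module, isomorphically at the generic point. -/

set_option linter.style.haveILetI false
set_option linter.unusedSectionVars false
set_option backward.isDefEq.respectTransparency false
set_option backward.isDefEq.respectTransparency.types false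

universe u

open CategoryTheory CategoryTheory.Limits AlgebraicGeometry TopologicalSpace

noncomputable section

namespace Groth.Agent.H9Misc.GenPushHom

open Groth.Agent GenPushFree

theorem mono_of_stalk_bijective_and_kills {Y : Scheme.{u}} [IsNoetherian Y] {B Q : Y.Modules} (hB : Coh.IsCoh B)
    (hQ : Coh.IsQCoh Q) (ψ : B ⟶ Q) {V : Y.Opens} (hV : IsAffineOpen V) (hψ : Function.Injective (ψ.app V)) :
    ∃ J : Y.IdealSheafData, Mono (Dual3.idealMulι J B ≫ ψ) ∧
      Function.Bijective ((Dual3.idealMulι J B).app V) := by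
  classical
  let T := kernel ψ
  have hT : Coh.IsCoh T := QCoh.isCoh_of_mono (kernel.ι ψ) hB (QCoh.isQCoh_kernel hB.1 hQ ψ)
  let J := QCoh.annIdeal hT.1 hT.2
  choose U hU hxU using fun x : Y => QCoh.exists_affine_mem x
  obtain ⟨t, ht⟩ := isCompact_univ.elim_finite_subcover (fun x : Y => (U x : Set Y))
    (fun x => (U x).2) (fun x _ => Set.mem_iUnion.2 ⟨x, hxU x⟩)
  have hAR : ∀ x : Y, ∃ k : ℕ, ∀ n ≥ k, ∀ b : Γ(B, U x),
      b ∈ J.ideal ⟨U x, hU x⟩ ^ n • (⊤ : Submodule Γ(Y, U x) Γ(B, U x)) → ψ.app (U x) b = 0 → b = 0 := fun x => by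
    haveI : IsNoetherianRing Γ(Y, U x) := IsLocallyNoetherian.component_noetherian ⟨U x, hU x⟩
    haveI := QCoh.finite_sections hB (hU x)
    let N := LinearMap.ker (QCoh.appLin ψ (U x))
    obtain ⟨k, hk⟩ := (J.ideal ⟨U x, hU x⟩).exists_pow_inf_eq_pow_smul N
    refine ⟨k + 1, fun n hn b hb hb0 => ?_⟩
    have h1 : b ∈ J.ideal ⟨U x, hU x⟩ ^ n • (⊤ : Submodule Γ(Y, U x) Γ(B, U x)) ⊓ N := ⟨hb, hb0⟩
    rw [hk n (by omega)] at h1
    have h2 : b ∈ J.ideal ⟨U x, hU x⟩ • N :=
      (Submodule.smul_mono (Ideal.pow_le_self (by omega)) inf_le_right) h1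
    have h3 : J.ideal ⟨U x, hU x⟩ • N ≤ ⊥ := Submodule.smul_le.2 fun a ha m hm => by
      obtain ⟨w, rfl⟩ : ∃ w : Γ(T, U x), (kernel.ι ψ).app (U x) w = m :=
        QCoh.exists_kernel_lift ψ (U x) m hm
      rw [Submodule.mem_bot, ← Scheme.Modules.Hom.app_smul]
      have : a ∈ Module.annihilator Γ(Y, U x) Γ(T, U x) := ha
      rw [Module.mem_annihilator.1 this w, map_zero]
    exact (Submodule.mem_bot _).1 (h3 h2)
  choose k hk using hAR
  let n := t.sup k + 1
  refine ⟨J ^ n, ?_, ?_⟩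
  · have hB1 := QCoh.isQCoh_idealMul (J ^ n) hB.1
    refine Preadditive.mono_of_kernel_zero ?_
    refine QCoh.hom_eq_zero_of_cover (QCoh.isQCoh_kernel hB1 hQ _) hB1 _ (fun x : t => U x.1)
      (fun x => hU x.1) (fun y => ?_) fun x w => ?_
    · obtain ⟨x, hx⟩ := Set.mem_iUnion.1 (ht (Set.mem_univ y))
      obtain ⟨hxt, hy⟩ := Set.mem_iUnion.1 hx
      exact ⟨⟨x, hxt⟩, hy⟩
    · let z := (kernel.ι (Dual3.idealMulι (J ^ n) B ≫ ψ)).app (U x.1) w
      have hz : ψ.app (U x.1) ((Dual3.idealMulι (J ^ n) B).app (U x.1) z) = 0 := by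
        show ((kernel.ι (Dual3.idealMulι (J ^ n) B ≫ ψ)) ≫ Dual3.idealMulι (J ^ n) B ≫ ψ).app (U x.1) w = 0
        rw [kernel.condition]
        rfl
      have hmem : (Dual3.idealMulι (J ^ n) B).app (U x.1) z ∈
          J.ideal ⟨U x.1, hU x.1⟩ ^ n • (⊤ : Submodule Γ(Y, U x.1) Γ(B, U x.1)) := by
        have h := QCoh.range_idealMul (J ^ n) hB.1 (hU x.1)
        rw [Scheme.IdealSheafData.ideal_pow, Pi.pow_apply] at h
        exact h.le ⟨z, rfl⟩
      haveI : Mono (Dual3.idealMulι (J ^ n) B) := inferInstanceAs (Mono (kernel.ι _))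
      refine QCoh.app_injective (Dual3.idealMulι (J ^ n) B) (U x.1) ?_
      rw [map_zero]
      exact hk x.1 n (Nat.le_succ_of_le (Finset.le_sup x.2)) _ hmem hz
  · haveI : Mono (Dual3.idealMulι (J ^ n) B) := inferInstanceAs (Mono (kernel.ι _))
    have htop : J.ideal ⟨V, hV⟩ = ⊤ := by
      refine (Ideal.eq_top_iff_one _).2 (Module.mem_annihilator.2 fun w => ?_)
      rw [one_smul]
      refine QCoh.app_injective (kernel.ι ψ) V (hψ ?_)
      rw [map_zero, map_zero]
      show (kernel.ι ψ ≫ ψ).app V w = 0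
      rw [kernel.condition]
      rfl
    refine ⟨QCoh.app_injective _ V, fun b => ?_⟩
    have h := QCoh.range_idealMul (J ^ n) hB.1 hV
    rw [Scheme.IdealSheafData.ideal_pow, Pi.pow_apply, htop, Ideal.top_pow, Submodule.top_smul] at h
    exact h.ge (Submodule.mem_top (x := b))

variable {X Y : Scheme.{u}} [IsIntegral X] [IsNoetherian X] [IsIntegral Y] [IsNoetherian Y]
  (f : X ⟶ Y) [IsFinite f] [Surjective f]

theorem exists_push_sub (M : X.Modules) (hM : Coh.IsCoh M) {Q2 : Y.Modules} (hQ : Coh.IsCoh Q2)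
    (π : (Scheme.Modules.pushforward f).obj M ⟶ Q2) {V : Y.Opens} (hV : IsAffineOpen V)
    (hz : Subsingleton Γ(Q2, V)) :
    ∃ (G : X.Modules) (i : G ⟶ M), Coh.IsCoh G ∧ (Scheme.Modules.pushforward f).map i ≫ π = 0 ∧
      Function.Bijective (((Scheme.Modules.pushforward f).map i).app V) := by
  let J := QCoh.annIdeal hQ.1 hQ.2
  let J' := J.comap f
  haveI : Mono (Dual3.idealMulι J' M) := inferInstanceAs (Mono (kernel.ι _))
  have hGq := QCoh.isQCoh_idealMul J' hM.1
  refine ⟨(Dual3.idealMul J').obj M, Dual3.idealMulι J' M, QCoh.isCoh_of_mono (Dual3.idealMulι J' M) hM hGq, ?_, ?_⟩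
  · have hPq := (QCoh.isCoh_pushforward_finite f (QCoh.isCoh_of_mono (Dual3.idealMulι J' M) hM hGq)).1
    choose U hU hxU using fun x : Y => QCoh.exists_affine_mem x
    refine QCoh.hom_eq_zero_of_cover hPq hQ.1 _ U hU (fun y => ⟨y, hxU y⟩) fun x w => ?_
    let W : X.affineOpens := ⟨f ⁻¹ᵁ U x, (hU x).preimage f⟩
    have hmem : (Dual3.idealMulι J' M).app W.1 (show Γ((Dual3.idealMul J').obj M, W.1) from w) ∈
        J'.ideal W • (⊤ : Submodule Γ(X, W.1) Γ(M, W.1)) :=
      (QCoh.range_idealMul J' hM.1 W.2).le ⟨_, rfl⟩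
    rw [show J'.ideal W = (J.ideal ⟨U x, hU x⟩).map (f.appLE (U x) W.1 le_rfl).hom from
      ModPairLib.ideal_comap J f ⟨U x, hU x⟩ W le_rfl] at hmem
    show π.app (U x) (show Γ((Scheme.Modules.pushforward f).obj M, U x) from
      (Dual3.idealMulι J' M).app W.1 (show Γ((Dual3.idealMul J').obj M, W.1) from w)) = 0
    let toA : Γ(M, W.1) → Γ((Scheme.Modules.pushforward f).obj M, U x) := fun m => m
    have key : ∀ a ∈ (J.ideal ⟨U x, hU x⟩).map (f.appLE (U x) W.1 le_rfl).hom, ∀ m : Γ(M, W.1),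
        π.app (U x) (toA (a • m)) = 0 := fun a ha => by
      refine Submodule.span_induction (p := fun a _ => ∀ m : Γ(M, W.1), π.app (U x) (toA (a • m)) = 0) ?_ ?_ ?_ ?_ ha
      · rintro _ ⟨a, ha, rfl⟩ m
        have h1 : toA ((f.appLE (U x) W.1 le_rfl).hom a • m) = a • toA m := by
          rw [← Scheme.Hom.app_eq_appLE]
          rfl
        rw [h1, Scheme.Modules.Hom.app_smul]
        exact Module.mem_annihilator.1 ha _
      · intro m
        rw [zero_smul]
        exact map_zero _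
      · intro a b _ _ ha hb m
        rw [add_smul]
        exact (map_add _ _ _).trans ((congrArg₂ (· + ·) (ha m) (hb m)).trans (add_zero _))
      · intro c a _ ha m
        rw [smul_eq_mul, mul_comm, mul_smul]
        exact ha _
    refine Submodule.smul_induction_on (p := fun m => π.app (U x) (toA m) = 0) hmem
      (fun a ha m _ => key a ha m) fun a b ha hb => ?_
    exact (map_add _ _ _).trans ((congrArg₂ (· + ·) ha hb).trans (add_zero _))
  · let W : X.affineOpens := ⟨f ⁻¹ᵁ V, hV.preimage f⟩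
    have htop : J'.ideal W = ⊤ := by
      rw [show J'.ideal W = (J.ideal ⟨V, hV⟩).map (f.appLE V W.1 le_rfl).hom from
        ModPairLib.ideal_comap J f ⟨V, hV⟩ W le_rfl,
        show J.ideal ⟨V, hV⟩ = ⊤ from (Ideal.eq_top_iff_one _).2 (Module.mem_annihilator.2 fun w => hz.elim _ _),
        Ideal.map_top]
    refine ⟨QCoh.app_injective (Dual3.idealMulι J' M) W.1, fun m => ?_⟩
    have h := QCoh.range_idealMul J' hM.1 W.2
    rw [htop, Submodule.top_smul] at h
    exact h.ge (Submodule.mem_top (x := (show Γ(M, W.1) from m)))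

theorem isIso_stalk_of_bijective {A B : Y.Modules} (hA : Coh.IsQCoh A) (hB : Coh.IsQCoh B) (φ : A ⟶ B)
    {V : Y.Opens} (hV : IsAffineOpen V) (hb : Function.Bijective (φ.app V)) {x : Y} (hx : x ∈ V) :
    IsIso ((DerSch.stalkFunctor Y x).map φ) :=
  (ConcreteCategory.isIso_iff_bijective _).2 (bijective_stalk hA hB φ hV hb hx)

theorem finrank_stalk_map_coprod {Z : Scheme.{u}} (F : Z.Modules ⥤ Y.Modules) [F.Additive] (η : Y)
    [Module.Free (Y.presheaf.stalk η) ((DerSch.stalkFunctor Y η).obj (F.obj (Coh.structureModule Z)))]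
    [Module.Finite (Y.presheaf.stalk η) ((DerSch.stalkFunctor Y η).obj (F.obj (Coh.structureModule Z)))] (m : ℕ) :
    Module.finrank (Y.presheaf.stalk η) ((DerSch.stalkFunctor Y η).obj (F.obj (FlatMod.freeMod Z m))) =
      m * Module.finrank (Y.presheaf.stalk η) ((DerSch.stalkFunctor Y η).obj (F.obj (Coh.structureModule Z))) := by
  let H := F ⋙ DerSch.stalkFunctor Y η
  let e : H.obj (∐ fun _ : Fin m => Coh.structureModule Z) ≅ _ :=
    PreservesCoproduct.iso H _ ≪≫ ModuleCat.coprodIsoDirectSum _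
  haveI : ∀ _i : Fin m, Module.Finite (Y.presheaf.stalk η) (H.obj (Coh.structureModule Z)) := fun _ => inferInstanceAs
    (Module.Finite (Y.presheaf.stalk η) ((DerSch.stalkFunctor Y η).obj (F.obj (Coh.structureModule Z))))
  haveI hfr : ∀ _i : Fin m, Module.Free (Y.presheaf.stalk η) (H.obj (Coh.structureModule Z)) := fun _ => inferInstanceAs
    (Module.Free (Y.presheaf.stalk η) ((DerSch.stalkFunctor Y η).obj (F.obj (Coh.structureModule Z))))
  refine e.toLinearEquiv.finrank_eq.trans ?_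
  refine (@Module.finrank_directSum (Y.presheaf.stalk η) _ _ (Fin m) _ (fun _ => (H.obj (Coh.structureModule Z) : Type u)) _ _ hfr this).trans ?_
  rw [Finset.sum_const, Finset.card_univ, Fintype.card_fin, smul_eq_mul]
  rfl

theorem finrank_stalk_coprod (F : Y.Modules) (η : Y) (r : ℕ)
    [Module.Free (Y.presheaf.stalk η) ((DerSch.stalkFunctor Y η).obj F)]
    [Module.Finite (Y.presheaf.stalk η) ((DerSch.stalkFunctor Y η).obj F)] :
    Module.finrank (Y.presheaf.stalk η) ((DerSch.stalkFunctor Y η).obj (∐ fun _ : ULift.{u} (Fin r) => F)) =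
      r * Module.finrank (Y.presheaf.stalk η) ((DerSch.stalkFunctor Y η).obj F) := by
  let H := DerSch.stalkFunctor Y η
  let e : H.obj (∐ fun _ : ULift.{u} (Fin r) => F) ≅ _ :=
    PreservesCoproduct.iso H _ ≪≫ ModuleCat.coprodIsoDirectSum _
  refine e.toLinearEquiv.finrank_eq.trans ?_
  rw [Module.finrank_directSum, Finset.sum_const, Finset.card_univ, Fintype.card_ulift, Fintype.card_fin,
    smul_eq_mul]

theorem exists_push_hom (F : Y.Modules) (hF : Coh.IsCoh F) :
    ∃ (r : ℕ) (G : X.Modules) (β : (Scheme.Modules.pushforward f).obj G ⟶ ∐ fun _ : ULift.{u} (Fin r) => F),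
      0 < r ∧ Coh.IsCoh G ∧ IsIso ((DerSch.stalkFunctor Y (genericPoint Y)).map β) := by
  let η := genericPoint Y
  let G₀ := (Scheme.Modules.pushforward f).obj (Coh.structureModule X)
  have hG₀ : Coh.IsCoh G₀ := QCoh.isCoh_pushforward_finite f QCoh.isCoh_structureModule'
  letI : Field (Y.presheaf.stalk η) := inferInstanceAs (Field Y.functionField)
  haveI : Module.Finite (Y.presheaf.stalk η) ((DerSch.stalkFunctor Y η).obj G₀) :=
    QCoh.finite_stalk_of_isFT hG₀.1 hG₀.2 η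
  haveI : Module.Finite (Y.presheaf.stalk η) ((DerSch.stalkFunctor Y η).obj F) :=
    QCoh.finite_stalk_of_isFT hF.1 hF.2 η
  let r := Module.finrank (Y.presheaf.stalk η) ((DerSch.stalkFunctor Y η).obj G₀)
  have hr : 0 < r := by
    haveI : Nontrivial ((DerSch.stalkFunctor Y η).obj G₀) := not_subsingleton_iff_nontrivial.1 fun hsub => by
      obtain ⟨x, hx⟩ := f.surjective η
      obtain ⟨V, hV, hηV⟩ := QCoh.exists_affine_mem η
      have h1 := (QCoh.germ_eq_zero_iff hG₀.1 hV hηV (show Γ(G₀, V) from (1 : Γ(X, f ⁻¹ᵁ V)))).1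
        (@Subsingleton.elim _ hsub _ _)
      obtain ⟨a, ha, ha0⟩ := h1
      have ha1 : (f.app V a : Γ(X, f ⁻¹ᵁ V)) = 0 := (mul_one _).symm.trans ha0
      have h2 : x ∈ X.basicOpen (f.app V a) := by
        rw [← Scheme.preimage_basicOpen]
        show f x ∈ Y.basicOpen a
        rw [hx]
        exact ha
      rw [ha1, Scheme.basicOpen_zero] at h2
      exact h2
    exact Module.finrank_pos
  let m := Module.finrank (Y.presheaf.stalk η) ((DerSch.stalkFunctor Y η).obj F)
  let M := FlatMod.freeMod X m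
  have hM : Coh.IsCoh M := CurveDeg.isCoh_of_isFinLocFree (GenusOneSS.isFinLocFree_freeMod m)
  let A := (Scheme.Modules.pushforward f).obj M
  let B := ∐ fun _ : ULift.{u} (Fin r) => F
  have hA : Coh.IsCoh A := QCoh.isCoh_pushforward_finite f hM
  have hB : Coh.IsCoh B := H23.LocFinCoprod.isCoh_coprod (H23.LocFinCoprod.lf_of_finite _) fun _ => hF
  haveI : (Scheme.Modules.pushforward f).Additive :=
    (Scheme.Modules.pullbackPushforwardAdjunction f).right_adjoint_additive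
  have hrank : Module.finrank (Y.presheaf.stalk η) (A.presheaf.stalk η) =
      Module.finrank (Y.presheaf.stalk η) (B.presheaf.stalk η) := by
    refine (finrank_stalk_map_coprod (Scheme.Modules.pushforward f) η m).trans ?_
    refine Eq.trans ?_ (finrank_stalk_coprod F η r).symm
    exact Nat.mul_comm _ _
  obtain ⟨WA, a, hηA, ⟨eA⟩⟩ := QCoh.exists_free_nhd_of_free_stalk (KZ.LFRes.isFP_of_isCoh hA) η
  obtain ⟨WB, b, hηB, ⟨eB⟩⟩ := QCoh.exists_free_nhd_of_free_stalk (KZ.LFRes.isFP_of_isCoh hB) η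
  obtain ⟨_, ⟨V₀, hV, rfl⟩, hηV, hle⟩ :=
    Y.isBasis_affineOpens.exists_subset_of_mem_open (show η ∈ WA ⊓ WB from ⟨hηA, hηB⟩) (WA ⊓ WB).2
  let V : Y.Opens := V₀
  have hV' : IsAffineOpen V := hV
  have hle' : V ≤ WA ⊓ WB := hle
  obtain ⟨lA⟩ := QCoh.free_sections hV' (hle'.trans inf_le_left) eA
  obtain ⟨lB⟩ := QCoh.free_sections hV' (hle'.trans inf_le_right) eB
  have hab : a = b :=
    (QCoh.finrank_stalk_of_freeChart hV' hA.1 lA hηV).symm.trans
      (hrank.trans (QCoh.finrank_stalk_of_freeChart hV' hB.1 lB hηV))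
  subst hab
  obtain ⟨iA⟩ := QCoh.exists_free_restrict hA.1 hV' lA
  obtain ⟨iB⟩ := QCoh.exists_free_restrict hB.1 hV' lB
  let θ := iA ≪≫ iB.symm
  let Q := (Scheme.Modules.pushforward V.ι).obj (B.restrict V.ι)
  have hQ : Coh.IsQCoh Q := QCoh.isQCoh_pushforward V.ι (QCoh.isQCoh_restrict V.ι hB.1)
  let φ : A ⟶ Q := Snapper.resMap V A ≫ (Scheme.Modules.pushforward V.ι).map θ.hom
  have hφ : Function.Bijective (φ.app V) := by
    have h1 := Snapper.resMap_app_bijective V A (W := V) le_rfl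
    have h2 : Function.Bijective (((Scheme.Modules.pushforward V.ι).map θ.hom).app V) :=
      ConcreteCategory.bijective_of_isIso _
    exact h2.comp h1
  let ψ := Snapper.resMap V B
  have hψ := Snapper.resMap_app_bijective V B (W := V) le_rfl
  obtain ⟨J, hmono, hιb⟩ := mono_of_stalk_bijective_and_kills hB hQ ψ hV' hψ.1
  let ι₁ := Dual3.idealMulι J B
  let ψ₁ := ι₁ ≫ ψ
  haveI : Mono ψ₁ := hmono
  haveI : Mono ι₁ := inferInstanceAs (Mono (kernel.ι _))
  have hB₁ : Coh.IsCoh ((Dual3.idealMul J).obj B) := QCoh.isCoh_of_mono ι₁ hB (QCoh.isQCoh_idealMul J hB.1)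
  have hC : Coh.IsQCoh (cokernel ψ₁) := QCoh.isQCoh_cokernel hB₁.1 hQ ψ₁
  let e := φ ≫ cokernel.π ψ₁
  have hK : Coh.IsQCoh (kernel e) := QCoh.isQCoh_kernel hA.1 hC e
  let p₁ := kernel.ι e
  let lc := Abelian.monoIsKernelOfCokernel (CokernelCofork.ofπ (cokernel.π ψ₁) (cokernel.condition ψ₁))
    (cokernelIsCokernel ψ₁)
  have hz0 : (p₁ ≫ φ) ≫ cokernel.π ψ₁ = 0 := (Category.assoc _ _ _).trans (kernel.condition e)
  let p₂ : kernel e ⟶ (Dual3.idealMul J).obj B := lc.lift (KernelFork.ofι (p₁ ≫ φ) hz0)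
  have hp₂ : p₂ ≫ ψ₁ = p₁ ≫ φ := lc.fac (KernelFork.ofι (p₁ ≫ φ) hz0) WalkingParallelPair.zero
  have hQ₂ : Coh.IsCoh (cokernel p₁) := QCoh.isCoh_cokernel hK hA p₁
  have hp₁ : ∀ x ∈ V, IsIso ((DerSch.stalkFunctor Y x).map p₁) ∧ IsIso ((DerSch.stalkFunctor Y x).map p₂) :=
    fun x hx => by
    let Φ := DerSch.stalkFunctor Y x
    haveI hiφ : IsIso (Φ.map φ) := isIso_stalk_of_bijective hA.1 hQ φ hV' hφ hx
    haveI hiψ : IsIso (Φ.map ψ₁) := isIso_stalk_of_bijective hB₁.1 hQ ψ₁ hV' (hψ.comp hιb) hx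
    have hS : (ShortComplex.mk p₁ e (kernel.condition e)).Exact :=
      ShortComplex.exact_of_f_is_kernel _ (kernelIsKernel e)
    have hzero : IsZero (Φ.obj (cokernel ψ₁)) :=
      Snapper.notMem_support_iff.1 (Snapper.notMem_support_cokernel ψ₁ (@IsIso.epi_of_iso _ _ _ _ _ hiψ))
    haveI : Mono (Φ.map p₁) := inferInstance
    haveI : Epi (Φ.map p₁) := (hS.map Φ).epi_f (hzero.eq_of_tgt _ _)
    haveI hi1 : IsIso (Φ.map p₁) := isIso_of_mono_of_epi _
    have h : Φ.map p₂ ≫ Φ.map ψ₁ = Φ.map p₁ ≫ Φ.map φ := by rw [← Φ.map_comp, ← Φ.map_comp, hp₂]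
    exact ⟨hi1, IsIso.of_isIso_fac_right h⟩
  have hz : Subsingleton Γ(cokernel p₁, V) := subsingleton_of_forall_eq 0 fun s =>
    TopCat.Presheaf.section_ext ⟨(cokernel p₁).presheaf, (cokernel p₁).isSheaf⟩ V s 0 fun x hx => by
      haveI := (hp₁ x hx).1
      haveI : Subsingleton ((cokernel p₁).presheaf.stalk x) :=
        not_not.1 (Snapper.notMem_support_cokernel p₁ (@IsIso.epi_of_iso _ _ _ _ _ (hp₁ x hx).1))
      exact Subsingleton.elim _ _
  obtain ⟨G, i, hG, hzero, hib⟩ := exists_push_sub f M hM hQ₂ (cokernel.π p₁) hV' hz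
  let pi := (Scheme.Modules.pushforward f).map i
  let L := (Abelian.monoIsKernelOfCokernel (CokernelCofork.ofπ (cokernel.π p₁) (cokernel.condition p₁))
    (cokernelIsCokernel p₁)).lift (KernelFork.ofι pi hzero)
  have hL : L ≫ p₁ = pi :=
    (Abelian.monoIsKernelOfCokernel (CokernelCofork.ofπ (cokernel.π p₁) (cokernel.condition p₁))
      (cokernelIsCokernel p₁)).fac (KernelFork.ofι pi hzero) WalkingParallelPair.zero
  refine ⟨r, G, L ≫ p₂ ≫ ι₁, hr, hG, ?_⟩
  let Φ := DerSch.stalkFunctor Y η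
  haveI := (hp₁ η hηV).1
  haveI := (hp₁ η hηV).2
  haveI : IsIso (Φ.map pi) :=
    isIso_stalk_of_bijective (QCoh.isCoh_pushforward_finite f hG).1 hA.1 pi hV' hib hηV
  haveI : IsIso (Φ.map ι₁) := isIso_stalk_of_bijective hB₁.1 hB.1 ι₁ hV' hιb hηV
  haveI : IsIso (Φ.map L) := by
    have h : Φ.map L ≫ Φ.map p₁ = Φ.map pi := by rw [← Φ.map_comp, hL]
    exact IsIso.of_isIso_fac_right h
  rw [Φ.map_comp, Φ.map_comp]
  infer_instance

end Groth.Agent.H9Misc.GenPushHom
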