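import Groth.Agent.AlgSpLib.MonoFieldPt
import Groth.Agent.AlgStLib.DiagGeomPt
import Groth.Agent.AlgStLib.TrivialStab
import Groth.Agent.AlgStLib.Bootstrap
import Mathlib.RingTheory.Flat.FaithfullyFlat.Algebra
import Mathlib.LinearAlgebra.TensorProduct.RightExactness

/-!
# Stacks without automorphisms over geometric points are algebraic spaces
-/

set_option autoImplicit false
set_option linter.style.haveILetI false
set_option backward.isDefEq.respectTransparency false
set_option backward.isDefEq.respectTransparency.types false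

universe u

open CategoryTheory CategoryTheory.Functor CategoryTheory.Limits AlgebraicGeometry Opposite AlgSp
open Groth.Agent.FibBase Groth.Agent.AlgSpLib Groth.Agent.AlgStLib
open scoped TensorProduct

namespace Groth.Agent.H9Misc.GeomStab

/-- Extending the ground field of a first order thickening. -/
theorem exists_field_extension_thickening {k K : Type u} [Field k] [Field K] [Algebra k K] {R R' : CommRingCat.{u}}
    (φ : R ⟶ R') (hφ : Function.Surjective φ) (hker : RingHom.ker φ.hom ^ 2 = ⊥) (ψ : CommRingCat.of k ⟶ R) :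
    ∃ (R₂ R₂' : CommRingCat.{u}) (φ₂ : R₂ ⟶ R₂') (i : R ⟶ R₂) (i' : R' ⟶ R₂') (τ : CommRingCat.of K ⟶ R₂),
      Function.Surjective φ₂ ∧ RingHom.ker φ₂.hom ^ 2 = ⊥ ∧ φ ≫ i' = i ≫ φ₂ ∧
      ψ ≫ i = CommRingCat.ofHom (algebraMap k K) ≫ τ ∧ Epi (Spec.map i) := by
  letI := ψ.hom.toAlgebra
  letI := (φ.hom.comp ψ.hom).toAlgebra
  let f : R →ₐ[k] R' := AlgHom.mk φ.hom fun _ => rfl
  let m := Algebra.TensorProduct.map f (AlgHom.id k K)
  refine ⟨CommRingCat.of (R ⊗[k] K), CommRingCat.of (R' ⊗[k] K), CommRingCat.ofHom m.toRingHom,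
    CommRingCat.ofHom Algebra.TensorProduct.includeLeftRingHom,
    CommRingCat.ofHom Algebra.TensorProduct.includeLeftRingHom,
    CommRingCat.ofHom Algebra.TensorProduct.includeRight.toRingHom, ?_, ?_, ?_, ?_, ?_⟩
  · exact Algebra.TensorProduct.map_surjective (R := k) (f := f) (g := AlgHom.id k K) hφ Function.surjective_id
  · show RingHom.ker m ^ 2 = ⊥
    rw [Algebra.TensorProduct.rTensor_ker _ hφ, ← Ideal.map_pow]
    show Ideal.map _ (RingHom.ker φ.hom ^ 2) = ⊥
    rw [hker, Ideal.map_bot]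
  · refine CommRingCat.hom_ext (RingHom.ext fun x => ?_)
    show φ.hom x ⊗ₜ[k] (1 : K) = m (x ⊗ₜ[k] 1)
    rw [Algebra.TensorProduct.map_tmul]
    rfl
  · exact CommRingCat.hom_ext (RingHom.ext fun x =>
      ((Algebra.TensorProduct.includeLeft (R := k) (S := k) (A := R) (B := K)).commutes x).trans
        ((Algebra.TensorProduct.includeRight (R := k) (A := R) (B := K)).commutes x).symm)
  · haveI : Flat (Spec.map (CommRingCat.ofHom (Algebra.TensorProduct.includeLeftRingHom :
        R →+* R ⊗[k] K))) := by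
      rw [HasRingHomProperty.Spec_iff (P := @Flat)]
      exact (RingHom.flat_algebraMap_iff (R := R) (S := R ⊗[k] K)).2 inferInstance
    haveI : Surjective (Spec.map (CommRingCat.ofHom (Algebra.TensorProduct.includeLeftRingHom :
        R →+* R ⊗[k] K))) := ⟨fun p => by
      haveI : Module.FaithfullyFlat R (R ⊗[k] K) := inferInstance
      exact PrimeSpectrum.comap_surjective_of_faithfullyFlat (A := R) (B := R ⊗[k] K) p⟩
    exact Flat.epi_of_flat_of_surjective _

variable {S : Scheme.{u}}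

/-- A morphism locally of finite type with at most one lift of every point with values in a scheme over an
algebraically closed field is a monomorphism. -/
theorem mono_of_geomFieldPt {F G : Space S} (f : F ⟶ G) (hf : LocP @LocallyOfFiniteType f.hom)
    (H : ∀ (k : Type u) [Field k] [IsAlgClosed k] (s : Spec (CommRingCat.of k) ⟶ S) (T : Over S) (t : T ⟶ Over.mk s)
      (g : (yon S).obj (Over.mk s) ⟶ G.obj) (a b : (yon S).obj T ⟶ F.obj),
      a ≫ f.hom = (yon S).map t ≫ g → b ≫ f.hom = (yon S).map t ≫ g → a = b) :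
    Mono f.hom := by
  refine mono_of_unramified_of_geomPt f ?_ fun K _ _ str a b hab => H K str _ (𝟙 _) (a ≫ f.hom) a b ?_ ?_
  swap
  · rw [CategoryTheory.Functor.map_id, Category.id_comp]
  swap
  · rw [CategoryTheory.Functor.map_id, Category.id_comp]; exact hab.symm
  intro U V a b h ha hb w
  have hlft : LocallyOfFiniteType h.left := hf a b h ha hb w
  refine ⟨hlft, Groth.Agent.GrpSchLib.formallyUnramified_of_fibres h.left fun y => ?_⟩
  let k := V.left.residueField y
  let s : Spec k ⟶ S := V.left.fromSpecResidueField y ≫ V.hom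
  let q := h.left.fiberToSpecResidueField y
  let K := AlgebraicClosure k
  let σ : Spec (CommRingCat.of K) ⟶ Spec k := Spec.map (CommRingCat.ofHom (algebraMap k K))
  suffices key₀ : ∀ (R R' : CommRingCat.{u}) (φ : R ⟶ R') (_ : Function.Surjective φ)
      (_ : RingHom.ker φ.hom ^ 2 = ⊥) (g₁ g₂ : Spec R ⟶ h.left.fiber y) (τ : Spec R ⟶ Spec (CommRingCat.of K))
      (_ : τ ≫ σ = g₁ ≫ q) (_ : Spec.map φ ≫ g₁ = Spec.map φ ≫ g₂) (_ : g₁ ≫ q = g₂ ≫ q),
      g₁ ≫ pullback.fst _ _ = g₂ ≫ pullback.fst _ _ by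
    refine FormallyUnramified.of_hom_ext _ fun R R' φ hφ hker g₁ g₂ hg hgq => pullback.hom_ext ?_ hgq
    obtain ⟨R₂, R₂', φ₂, i, i', τ, hφ₂, hker₂, hsq, hτ, hepi⟩ :=
      exists_field_extension_thickening (k := k) (K := K) φ hφ hker (Spec.preimage (g₁ ≫ q))
    rw [← cancel_epi (Spec.map i), ← Category.assoc, ← Category.assoc]
    refine key₀ R₂ R₂' φ₂ hφ₂ hker₂ _ _ (Spec.map τ) ?_ ?_ ?_
    · rw [Category.assoc, ← Spec.map_preimage (g₁ ≫ q), ← Spec.map_comp, ← Spec.map_comp]
      exact congrArg Spec.map hτ.symm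
    · rw [← Category.assoc, ← Category.assoc, ← Spec.map_comp, ← hsq, Spec.map_comp, Category.assoc,
        Category.assoc, hg]
    · rw [Category.assoc, Category.assoc]
      exact congrArg (Spec.map i ≫ ·) hgq
  intro R R' φ hφ hker g₁ g₂ τ hτ hg hgq
  let T : Over S := Over.mk ((g₁ ≫ q) ≫ s)
  let sK : Spec (CommRingCat.of K) ⟶ S := σ ≫ s
  let t : T ⟶ Over.mk sK := Over.homMk τ (by
    show τ ≫ σ ≫ s = (g₁ ≫ q) ≫ s
    rw [← Category.assoc, hτ])
  let jy : Over.mk sK ⟶ V := Over.homMk (σ ≫ V.left.fromSpecResidueField y) (by simp [sK, s])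
  have hcond : ∀ g' : Spec R ⟶ h.left.fiber y, (g' ≫ pullback.fst _ _) ≫ h.left =
      (g' ≫ q) ≫ V.left.fromSpecResidueField y := fun g' => by
    simp only [Category.assoc]
    exact congrArg (g' ≫ ·) pullback.condition
  have hu : ∀ g' : Spec R ⟶ h.left.fiber y, g' ≫ q = g₁ ≫ q →
      (g' ≫ pullback.fst _ _) ≫ U.hom = T.hom := fun g' e => by
    rw [← Over.w h, ← Category.assoc, hcond, e]
    simp [T, s]
  let u₁ : T ⟶ U := Over.homMk (g₁ ≫ pullback.fst _ _) (hu g₁ rfl)
  let u₂ : T ⟶ U := Over.homMk (g₂ ≫ pullback.fst _ _) (hu g₂ hgq.symm)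
  have hh : ∀ g' (e : g' ≫ q = g₁ ≫ q),
      ((Over.homMk (g' ≫ pullback.fst _ _) (hu g' e)) : T ⟶ U) ≫ h = t ≫ jy := fun g' e => by
    ext1
    exact (hcond g').trans ((congrArg (· ≫ V.left.fromSpecResidueField y) (e.trans hτ.symm)).trans
      (Category.assoc _ _ _))
  have hab : (yon S).map u₁ ≫ a = (yon S).map u₂ ≫ a := by
    refine H K sK T t ((yon S).map jy ≫ b) _ _ ?_ ?_
    · rw [Category.assoc, w, ← Category.assoc, ← Functor.map_comp, ← Category.assoc, ← Functor.map_comp,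
        hh g₁ rfl]
    · rw [Category.assoc, w, ← Category.assoc, ← Functor.map_comp, ← Category.assoc, ← Functor.map_comp,
        hh g₂ hgq.symm]
  let p := ha.rep.snd a
  have hp : Etale p.left := ha.property_snd a
  let l₁ : T ⟶ ha.rep.pullback a := ha.rep.lift ((yon S).map u₁) u₂ hab
  let l₂ : T ⟶ ha.rep.pullback a := ha.rep.lift ((yon S).map u₂) u₂ rfl
  have e₁ : l₁ ≫ p = u₂ := ha.rep.lift_snd _ _ _
  have e₂ : l₂ ≫ p = u₂ := ha.rep.lift_snd _ _ _
  have key : l₁.left = l₂.left := by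
    let T' : Over S := Over.mk (Spec.map φ ≫ T.hom)
    let i : T' ⟶ T := Over.homMk (Spec.map φ) rfl
    have hi : i ≫ u₁ = i ≫ u₂ := by
      ext1
      exact ((Category.assoc _ _ _).symm.trans (congrArg (· ≫ pullback.fst _ _) hg)).trans (Category.assoc _ _ _)
    have hil : i ≫ l₁ = i ≫ l₂ := by
      refine ha.rep.hom_ext ?_ ?_
      · simp only [Functor.map_comp, Category.assoc]
        rw [ha.rep.lift_fst, ha.rep.lift_fst, ← Functor.map_comp, hi, Functor.map_comp]
      · rw [Category.assoc, Category.assoc, e₁, e₂]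
    have : IsClosedImmersion (Spec.map φ) := IsClosedImmersion.spec_of_surjective φ hφ
    exact FormallyUnramified.hom_ext (Spec.map φ) (isNilpotent_ker_specMap φ hker) p.left
      (congrArg (·.left) hil) ((congrArg (·.left) e₁).trans (congrArg (·.left) e₂).symm)
  have h12 : (yon S).map u₁ = (yon S).map u₂ :=
    ((ha.rep.lift_fst _ _ _).symm.trans (congrArg (fun l => (yon S).map l ≫ _) (Over.OverMorphism.ext key))).trans
      (ha.rep.lift_fst _ _ _)
  exact congrArg (·.left) ((yon S).map_injective h12)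


variable {𝒳 : AlgSt.Cat S}

/-- The diagonal of a stack with trivial stabilisers at geometric points is a monomorphism. -/
theorem isMono_diag_of_geom_trivial_stab (h : AlgSt.IsAlgStack Scheme.fppfPrecoverage 𝒳)
    (H : ∀ (k : Type u) [Field k] [IsAlgClosed k] (sk : Spec (CommRingCat.of k) ⟶ S)
        (x : FibCat.overCat (Over.mk sk) ⥤ᵇ 𝒳) (T : Over (Over.mk sk)),
        Subsingleton (Gerb.AutO (x.obj T))) :
    AlgSt.IsMono (FibCat.diag (FibCat.toSelf 𝒳)) := by
  intro U y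
  obtain ⟨F, e, he, hlft⟩ := repByAlgSpWith_lft_diag_toSelf h.diag h.atlas U y
  refine ⟨F, e, he, ?_⟩
  let Φ := BasedFunctor.comp e (FibCat.fpFst y (FibCat.diag (FibCat.toSelf 𝒳)))
  let φ : F ⟶ (AlgSp.ofScheme S).obj U := ObjectProperty.homMk (AlgSt.spMapOfOver Φ)
  refine mono_of_geomFieldPt φ hlft fun k _ _ s T t g a b ha hb => ?_
  obtain ⟨g₀, rfl⟩ := (yon S).map_surjective (X := Over.mk s) (Y := U) g
  let pa : (AlgSt.ofSp F.obj).obj := ⟨T, (J S).uliftYonedaEquiv a⟩
  let pb : (AlgSt.ofSp F.obj).obj := ⟨T, (J S).uliftYonedaEquiv b⟩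
  have hsec : ∀ (c : (yon S).obj T ⟶ F.obj) (_ : c ≫ φ.hom = (yon S).map t ≫ (yon S).map g₀),
      AlgSt.secHom Φ (⟨T, (J S).uliftYonedaEquiv c⟩ : (AlgSt.ofSp F.obj).obj) = t ≫ g₀ := fun c hc => by
    have h1 := congrArg (J S).uliftYonedaEquiv hc
    rw [GrothendieckTopology.uliftYonedaEquiv_comp, ← (yon S).map_comp] at h1
    exact congrArg ULift.down h1
  let A := e.obj pa
  let B := e.obj pb
  have eA : A.obj.fst.left = T := Φ.w_obj pa
  have eB : B.obj.fst.left = T := Φ.w_obj pb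
  have hA : eqToHom eA.symm ≫ A.obj.fst.hom = t ≫ g₀ := hsec a ha
  have hB : eqToHom eB.symm ≫ B.obj.fst.hom = t ≫ g₀ := hsec b hb
  let m₁ : A.obj.fst ≅ B.obj.fst := Over.isoMk (eqToIso (eA.trans eB.symm)) (by
    rw [eqToIso.hom, ← cancel_epi (eqToHom eA.symm), hA, eqToHom_trans_assoc]
    exact hB)
  let f : (FibCat.diag (FibCat.toSelf 𝒳)).obj A.obj.snd ⟶ (FibCat.diag (FibCat.toSelf 𝒳)).obj B.obj.snd :=
    A.obj.iso.inv ≫ y.map m₁.hom ≫ B.obj.iso.hom
  -- the source of `f` comes from a point over `k`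
  let x : FibCat.overCat (Over.mk s) ⥤ᵇ 𝒳 :=
    BasedFunctor.comp (AlgSt.overMap g₀) (BasedFunctor.comp y (FibCat.fpFst _ _))
  let V : Over U := (AlgSt.overMap g₀).obj (Over.mk t)
  let v : A.obj.fst ≅ V := Over.isoMk (eqToIso eA) (by
    show eqToHom eA ≫ (t ≫ g₀) = _
    rw [← hA, eqToHom_trans_assoc, eqToHom_refl, Category.id_comp])
  let w : A.obj.snd ≅ x.obj (Over.mk t) :=
    (FibCat.fpFst _ _).toFunctor.mapIso (A.obj.iso.symm ≪≫ y.toFunctor.mapIso v)
  have hf : f.hom.fst = f.hom.snd := by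
    refine eq_of_map_eq_of_subsingleton h.isStack.1 w (H k s x (Over.mk t)) _ _ ?_
    have := IsHomLift.fac' 𝒳.p
      ((FibCat.fp (FibCat.toSelf 𝒳) (FibCat.toSelf 𝒳)).p.map f) f.hom.snd
    refine Eq.trans ?_ this.symm
    simp
  have hfd : f = (FibCat.diag (FibCat.toSelf 𝒳)).map f.hom.fst :=
    ObjectProperty.hom_ext _ (CategoricalPullback.hom_ext rfl hf.symm)
  let M : A ⟶ B := ObjectProperty.homMk ⟨m₁.hom, f.hom.fst, by
    rw [← hfd]
    exact (Iso.hom_inv_id_assoc _ _).symm⟩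
  have := full_of_isEquivOver he
  obtain ⟨ψ, hψ⟩ := e.toFunctor.map_surjective M
  have hbase : ψ.hom = 𝟙 T := by
    have h1 : (Φ.map ψ).left = eqToHom (Φ.w_obj pa) ≫ ψ.hom ≫ eqToHom (Φ.w_obj pb).symm :=
      IsHomLift.fac' (FibCat.overCat U).p ((AlgSt.ofSp F.obj).p.map ψ) (Φ.map ψ)
    have h2 : (Φ.map ψ).left = eqToHom (eA.trans eB.symm) :=
      congrArg (fun m : A ⟶ B => m.hom.fst.left) hψ
    rw [h2, ← eqToHom_trans eA eB.symm, cancel_epi] at h1
    exact ((cancel_mono (eqToHom eB.symm)).1 ((Category.id_comp _).trans h1)).symm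
  refine (J S).uliftYonedaEquiv.injective ?_
  have hsec' := ψ.map_sec
  rw [hbase] at hsec'
  exact hsec'.symm.trans (congrArg (fun q => (ConcreteCategory.hom q) pb.sec) (F.obj.obj.map_id (op T)))

/-- An algebraic stack with trivial stabilisers at geometric points is an algebraic space. -/
theorem repByAlgSp_of_geom_trivial_stab (h : AlgSt.IsAlgStack Scheme.fppfPrecoverage 𝒳)
    (H : ∀ (k : Type u) [Field k] [IsAlgClosed k] (sk : Spec (CommRingCat.of k) ⟶ S)
        (x : FibCat.overCat (Over.mk sk) ⥤ᵇ 𝒳) (T : Over (Over.mk sk)),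
        Subsingleton (Gerb.AutO (x.obj T))) :
    AlgSt.RepByAlgSp 𝒳 := by
  have hd := (full_faithful_of_isMono (fp_isFibGrpd h.isStack.1 h.isStack.1 isFibGrpd_selfOver)
    (isMono_diag_of_geom_trivial_stab h H)).1
  exact repByAlgSp_of_isFibSetoid h
    (isFibSetoid_iff.2 ⟨h.isStack.1, (faithful_iff_full_diag (FibCat.toSelf 𝒳)).2 hd⟩)

end Groth.Agent.H9Misc.GeomStab
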