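import Groth.Agent.H9Misc.CorrAdjoint
import Groth.Agent.H9Misc.BCDualizing

/-!
# Adjoints of Fourier–Mukai functors twisted by relative dualizing complexes
-/

set_option autoImplicit false
set_option linter.style.haveILetI false
set_option maxHeartbeats 1000000

universe u

open CategoryTheory CategoryTheory.Limits AlgebraicGeometry

attribute [local instance] HasDerivedCategory.standard

namespace Groth.Agent.H9Misc

open KFlatLib Lib.DerivedNat

section Cat

variable {C D : Type*} [Category C] [Category D]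

/-- An adjunction between full subcategories restricts to smaller ones. -/
theorem nonempty_restrict_adj {P P' : ObjectProperty C} {Q Q' : ObjectProperty D} (hP : ∀ M, P' M → P M)
    (hQ : ∀ M, Q' M → Q M) {F : C ⥤ D} {G : D ⥤ C}
    (hF : ∀ M, P M → Q (F.obj M)) (hG : ∀ M, Q M → P (G.obj M))
    (hF' : ∀ M, P' M → Q' (F.obj M)) (hG' : ∀ M, Q' M → P' (G.obj M))
    (adj : ObjectProperty.lift Q (P.ι ⋙ F) (fun M => hF M.obj M.property) ⊣
      ObjectProperty.lift P (Q.ι ⋙ G) (fun M => hG M.obj M.property)) :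
    Nonempty (ObjectProperty.lift Q' (P'.ι ⋙ F) (fun M => hF' M.obj M.property) ⊣
      ObjectProperty.lift P' (Q'.ι ⋙ G) (fun M => hG' M.obj M.property)) :=
  ⟨adj.restrictFullyFaithful (ObjectProperty.fullyFaithfulιOfLE hP) (ObjectProperty.fullyFaithfulιOfLE hQ)
    (isoOfι (Iso.refl _)) (isoOfι (Iso.refl _))⟩

/-- Isomorphic functors have isomorphic restrictions. -/
noncomputable def liftCongr {P : ObjectProperty C} {Q : ObjectProperty D} {F F' : C ⥤ D} (e : F ≅ F')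
    (h : ∀ M, P M → Q (F.obj M)) (h' : ∀ M, P M → Q (F'.obj M)) :
    ObjectProperty.lift Q (P.ι ⋙ F) (fun M => h M.obj M.property) ≅
      ObjectProperty.lift Q (P.ι ⋙ F') (fun M => h' M.obj M.property) :=
  isoOfι (Functor.isoWhiskerLeft P.ι e)

end Cat

local notation "qc" Z:max => ObjectProperty.ι (DCoh.IsQCohD (X := Z))

variable {U X Y : Scheme.{u}}

/-- Tensoring the kernel with the twist is the internal hom into the twist. -/
theorem nonempty_twist_iso_RHom (K W N : CochainComplex U.Modules ℤ) (hK : DCoh.IsPerfect (DCoh.toD U K))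
    [DCoh.HasLTensorCx K] [DCoh.HasRSheafHom K] [DCoh.HasLTensorCx W]
    (eN : DCoh.toD U N ≅ (DCoh.LTensorCx W).obj ((DCoh.RSheafHom K).obj (DCoh.inD U (Coh.structureModule U)))) :
    Nonempty (DCoh.toD U N ≅ (DCoh.RSheafHom K).obj (DCoh.toD U W)) := by
  obtain ⟨Kd, ⟨eKd⟩⟩ : ∃ Kd : CochainComplex U.Modules ℤ, Nonempty (DCoh.toD _ Kd ≅
      (DCoh.RSheafHom K).obj (DCoh.inD _ (Coh.structureModule U))) :=
    ⟨_, ⟨DerivedCategory.Q.objObjPreimageIso _⟩⟩
  haveI := hasLTensorCx Kd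
  obtain ⟨θ⟩ := nonempty_ltensor_dual_natIso K hK Kd eKd
  obtain ⟨s⟩ := KExact.nonempty_ltensor_swap W Kd
  exact ⟨eN ≪≫ (DCoh.LTensorCx W).mapIso eKd.symm ≪≫ s.symm ≪≫ θ.app _⟩

/-- The twisted dual of a perfect kernel is perfect. -/
theorem isPerfect_twist (K W N : CochainComplex U.Modules ℤ) (hK : DCoh.IsPerfect (DCoh.toD U K))
    [DCoh.HasLTensorCx K] [DCoh.HasRSheafHom K] [DCoh.HasLTensorCx W] (hW : DCoh.IsPerfect (DCoh.toD U W))
    (eN : DCoh.toD U N ≅ (DCoh.LTensorCx W).obj ((DCoh.RSheafHom K).obj (DCoh.inD U (Coh.structureModule U)))) :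
    DCoh.IsPerfect (DCoh.toD U N) :=
  isPerfect_congr eN.symm (isPerfect_ltensor' W hW (isPerfect_RSheafHom_structure K hK))

/-- The left adjoint of a correspondence, from a dualizing complex of the first leg. -/
theorem nonempty_corr_leftAdj [IsNoetherian X] (p : U ⟶ X) (q : U ⟶ Y) [IsProper p] [Flat p]
    [QuasiCompact q] [QuasiSeparated q]
    (K W D : CochainComplex U.Modules ℤ) (hK : DCoh.IsPerfect (DCoh.toD U K)) (hW : DCoh.IsPerfect (DCoh.toD U W))
    [DCoh.HasLpull p] [DCoh.HasLTensorCx K] [DCoh.HasRpush q] [DCoh.HasRSheafHom K]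
    [DCoh.HasLpull q] [DCoh.HasRpush p] [DCoh.HasLTensorCx W] [DCoh.HasLTensorCx D]
    (eD : DCoh.toD U D ≅ (DCoh.LTensorCx W).obj ((DCoh.RSheafHom K).obj (DCoh.inD U (Coh.structureModule U))))
    (hR : DCoh.RpushPreservesQCoh p) [DCoh.HasShriek p hR]
    (O : DCoh.DQCoh X) (hO : O.obj ≅ DCoh.inD X (Coh.structureModule X))
    (eW : DCoh.toD U W ≅ DCoh.dualizingCx p hR O)
    (h : ∀ M : DCoh.D Y, DCoh.IsQCohD M → DCoh.IsQCohD ((DCoh.Lpull q ⋙ DCoh.LTensorCx D ⋙ DCoh.Rpush p).obj M))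
    (h' : ∀ M : DCoh.D X, DCoh.IsQCohD M → DCoh.IsQCohD ((DCoh.Lpull p ⋙ DCoh.LTensorCx K ⋙ DCoh.Rpush q).obj M)) :
    Nonempty (ObjectProperty.lift DCoh.IsQCohD (qc Y ⋙ DCoh.Lpull q ⋙ DCoh.LTensorCx D ⋙ DCoh.Rpush p)
        (fun M => h M.obj M.property) ⊣
      ObjectProperty.lift DCoh.IsQCohD (qc X ⋙ DCoh.Lpull p ⋙ DCoh.LTensorCx K ⋙ DCoh.Rpush q)
        (fun M => h' M.obj M.property)) := by
  have hD : DCoh.IsPerfect (DCoh.toD U D) := isPerfect_twist K W D hK hW eD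
  haveI : DCoh.HasRSheafHom D := by
    let P := (kRes U).obj D
    haveI := hasLTensorCx P
    haveI := hasRSheafHom_of_isKFlat P (isKFlat_kRes D)
    obtain ⟨c⟩ := nonempty_LTensorCx_congr_D (P := P) (E := D) ((resQIso U).app D)
    exact ((DCoh.RSheafHomAdj P).ofNatIsoLeft c).isLeftAdjoint
  haveI : DCoh.HasRSheafHom W := by
    let P := (kRes U).obj W
    haveI := hasLTensorCx P
    haveI := hasRSheafHom_of_isKFlat P (isKFlat_kRes W)
    obtain ⟨c⟩ := nonempty_LTensorCx_congr_D (P := P) (E := W) ((resQIso U).app W)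
    exact ((DCoh.RSheafHomAdj P).ofNatIsoLeft c).isLeftAdjoint
  obtain ⟨eWW⟩ := nonempty_RHom_self p hR O hO W eW
  obtain ⟨eK⟩ := nonempty_RHom_twist K hK W eWW D eD
  haveI : LocallyOfFinitePresentation p := inferInstance
  obtain ⟨eG⟩ := Groth.Agent.S3658.result U X p hR (DCoh.shriek p hR) (DCoh.shriekAdj p hR) O ⟨hO⟩ W ⟨eW⟩
  exact nonempty_corr_adj q p D hD hR _ (DCoh.shriekAdj p hR) W eG K eK.symm h h'

end Groth.Agent.H9Misc
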