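import Groth.Agent.GrModX.Finite
import Mathlib.RingTheory.Ideal.AssociatedPrime.Localization
import Mathlib.RingTheory.Ideal.AssociatedPrime.Finiteness

/-!
# The tail of a graded module is the tail of the sections of the twists of its sheaf on `Proj`
-/

set_option autoImplicit false
set_option linter.unusedSectionVars false

noncomputable section

universe u

open CategoryTheory AlgebraicGeometry TopologicalSpace DirectSum Opposite

namespace Groth.Agent.H9Misc.GradedTail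

open Groth.Agent.GrModX

variable {A σ : Type u} [CommRing A] [SetLike σ A] [AddSubgroupClass σ A] (𝒜 : ℕ → σ) [GradedRing 𝒜]
variable {M τ : Type u} [AddCommGroup M] [Module A M] [SetLike τ M] [AddSubgroupClass τ M] (ℳ : ℕ → τ)
variable [SetLike.GradedSMul 𝒜 ℳ] [DirectSum.Decomposition ℳ]

/-- Every homogeneous element of positive degree has a power sending `m` into `Q`. -/
def Tors (Q : Submodule A M) (m : M) : Prop :=
  ∀ (d : ℕ) (f : A), 0 < d → f ∈ 𝒜 d → ∃ e : ℕ, f ^ e • m ∈ Q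

/-- In high degrees, elements sent into `Q` by the irrelevant ideal lie in `Q`. -/
theorem exists_tail [IsNoetherianRing A] (k : ℕ)
    (hk : (Submodule.span A (⋃ i ∈ Set.Ici k, (ℳ i : Set M))).FG) (Q : Submodule A M) :
    ∃ N : ℕ, k ≤ N ∧ ∀ n, N ≤ n → ∀ m ∈ ℳ n, Tors 𝒜 Q m → m ∈ Q := by
  classical
  have hfg : (HomogeneousIdeal.irrelevant 𝒜).toIdeal.FG := IsNoetherian.noetherian _
  haveI := (Proj16.irrelevant_fg_iff 𝒜).mp hfg
  let S : Set M := {m | ∃ i, k ≤ i ∧ m ∈ ℳ i ∧ Tors 𝒜 Q m}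
  have hS : Submodule.span A S ≤ Submodule.span A (⋃ i ∈ Set.Ici k, (ℳ i : Set M)) :=
    Submodule.span_mono fun m ⟨i, hi, hm, _⟩ => Set.mem_iUnion₂.mpr ⟨i, hi, hm⟩
  haveI := isNoetherian_of_fg_of_noetherian _ hk
  have hSfg : (Submodule.span A S).FG := isNoetherian_submodule.mp inferInstance _ hS
  obtain ⟨G, hG, hspan⟩ := Submodule.fg_span_iff_fg_span_finset_subset _ |>.mp hSfg
  have hb : ∀ g : G, ∃ i P : ℕ, (g : M) ∈ ℳ i ∧ ∀ p, P ≤ p → ∀ a ∈ 𝒜 p, a • (g : M) ∈ Q := by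
    intro g
    obtain ⟨i, -, hi, htors⟩ := hG g.2
    let I : Ideal A := Submodule.comap (LinearMap.toSpanSingleton A M (g : M)) Q
    have hI : (HomogeneousIdeal.irrelevant 𝒜).toIdeal ≤ I.radical := by
      rw [HomogeneousIdeal.irrelevant_eq_span, Ideal.span_le]
      intro f hf
      obtain ⟨d, hd, hfd⟩ : ∃ d, 0 < d ∧ f ∈ 𝒜 d := by simpa using hf
      obtain ⟨e, he⟩ := htors d f hd hfd
      exact ⟨e, he⟩
    obtain ⟨t, ht⟩ := Ideal.exists_pow_le_of_le_radical_of_fg hI hfg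
    obtain ⟨P, hP⟩ := Proj16.exists_mem_irrelevant_pow 𝒜 t
    exact ⟨i, P, hi, fun p hp a ha => ht (hP p hp a ha)⟩
  choose i P hi hP using hb
  refine ⟨k + ∑ g, (i g + P g), by omega, fun n hn m hm htors => ?_⟩
  have hmem : m ∈ Submodule.span A (Set.range fun g : G => (g : M)) := by
    rw [show Set.range (fun g : G => (g : M)) = (G : Set M) by simp, ← hspan]
    exact Submodule.subset_span ⟨n, by omega, hm, htors⟩
  obtain ⟨c, hc⟩ := (Submodule.mem_span_range_iff_exists_fun A).mp hmem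
  rw [← decompose_of_mem_same ℳ hm, ← hc, decompose_sum, DirectSum.sum_apply,
    AddSubmonoidClass.coe_finsetSum]
  refine Submodule.sum_mem _ fun g _ => ?_
  rw [decompose_smul_mem 𝒜 ℳ (c g) (hi g) n]
  have hg : i g + P g ≤ ∑ g, (i g + P g) :=
    Finset.single_le_sum (f := fun g => i g + P g) (fun _ _ => Nat.zero_le _) (Finset.mem_univ g)
  rw [if_pos (by omega)]
  exact hP g _ (by omega) _ (SetLike.coe_mem _)

/-- Homogeneous prime avoidance in positive degree. -/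
theorem exists_pos_notMem (S : Finset (Ideal A))
    (hS : ∀ P ∈ S, P.IsPrime ∧ P.IsHomogeneous 𝒜 ∧ ∃ d, 0 < d ∧ ∃ h ∈ 𝒜 d, h ∉ P) :
    ∃ e : ℕ, 0 < e ∧ ∃ x ∈ 𝒜 e, ∀ P ∈ S, x ∉ P := by
  classical
  suffices ∀ T ⊆ S, ∃ e : ℕ, 0 < e ∧ ∃ x ∈ 𝒜 e, ∀ P ∈ T, x ∉ P from this S subset_rfl
  intro T
  induction T using Finset.strongInduction with
  | H T ih =>
    intro hTS
    rcases T.eq_empty_or_nonempty with rfl | hne
    · exact ⟨1, one_pos, 0, zero_mem _, by simp⟩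
    obtain ⟨P, hPT, hmin⟩ := T.exists_minimal hne
    obtain ⟨hPp, -, eh, heh, h, hh, hhP⟩ := hS P (hTS hPT)
    obtain ⟨ef, hef, f, hf, hfav⟩ :=
      ih (T.erase P) (Finset.erase_ssubset hPT) ((Finset.erase_subset _ _).trans hTS)
    by_cases hfP : f ∈ P
    swap
    · refine ⟨ef, hef, f, hf, fun Q hQ => ?_⟩
      rcases eq_or_ne Q P with rfl | hQP
      exacts [hfP, hfav Q (Finset.mem_erase.2 ⟨hQP, hQ⟩)]
    have hg0 : ∀ U ⊆ T.erase P, ∃ e : ℕ, ∃ g ∈ 𝒜 e, g ∉ P ∧ ∀ Q ∈ U, g ∈ Q := by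
      intro U
      induction U using Finset.induction_on with
      | empty =>
        exact fun _ => ⟨0, 1, SetLike.one_mem_graded 𝒜,
          fun h => hPp.ne_top ((Ideal.eq_top_iff_one P).2 h), by simp⟩
      | @insert Q U _ ihU =>
        intro hU
        obtain ⟨e, g, hg, hgP, hgU⟩ := ihU ((Finset.subset_insert _ _).trans hU)
        obtain ⟨hQP, hQT⟩ := Finset.mem_erase.1 (hU (Finset.mem_insert_self Q U))
        have hnle : ¬ Q ≤ P := fun h => hQP (le_antisymm h (hmin hQT h))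
        obtain ⟨r, hrQ, hrP⟩ := SetLike.not_le_iff_exists.1 hnle
        obtain ⟨i, hi⟩ : ∃ i, (decompose 𝒜 r i : A) ∉ P := by
          by_contra hc
          push Not at hc
          exact hrP (sum_support_decompose 𝒜 r ▸ Ideal.sum_mem _ fun i _ => hc i)
        refine ⟨e + i, g * (decompose 𝒜 r i : A), SetLike.mul_mem_graded hg (SetLike.coe_mem _),
          fun h => (hPp.mem_or_mem h).elim hgP hi, fun Q' hQ' => ?_⟩
        rcases Finset.mem_insert.1 hQ' with rfl | hQ'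
        · exact Ideal.mul_mem_left _ _ ((hS Q' (hTS hQT)).2.1 i hrQ)
        · exact Ideal.mul_mem_right _ _ (hgU Q' hQ')
    obtain ⟨e0, g0, hg0', hg0P, hg0Q⟩ := hg0 _ subset_rfl
    refine ⟨(e0 + eh) * ef, Nat.mul_pos (by omega) hef, f ^ (e0 + eh) + (g0 * h) ^ ef,
      add_mem (pow_mem_deg 𝒜 hf _) ?_, fun Q hQ hmem => ?_⟩
    · rw [mul_comm]; exact pow_mem_deg 𝒜 (SetLike.mul_mem_graded hg0' hh) _
    · rcases eq_or_ne Q P with rfl | hQP
      · have hf' : f ^ (e0 + eh) ∈ Q := Ideal.pow_mem_of_mem _ hfP _ (by omega)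
        exact (hPp.mem_or_mem (hPp.mem_of_pow_mem _ ((Ideal.add_mem_iff_right _ hf').1 hmem))).elim
          hg0P hhP
      · have hQ' := Finset.mem_erase.2 ⟨hQP, hQ⟩
        have hg' : (g0 * h) ^ ef ∈ Q :=
          Ideal.pow_mem_of_mem _ (Ideal.mul_mem_right _ _ (hg0Q Q hQ')) _ hef
        exact hfav Q hQ' ((hS Q (hTS hQ)).1.mem_of_pow_mem _ ((Ideal.add_mem_iff_left _ hg').1 hmem))

/-- A homogeneous element of positive degree regular up to irrelevant torsion in high degrees. -/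
theorem exists_regular [IsNoetherianRing A] (k : ℕ)
    (hk : (Submodule.span A (⋃ i ∈ Set.Ici k, (ℳ i : Set M))).FG) :
    ∃ (d : ℕ) (x : A), 0 < d ∧ x ∈ 𝒜 d ∧
      ∀ i, k ≤ i → ∀ m ∈ ℳ i, x • m = 0 → Tors 𝒜 (⊥ : Submodule A M) m := by
  classical
  let W := Submodule.span A (⋃ i ∈ Set.Ici k, (ℳ i : Set M))
  haveI : Module.Finite A W := Module.Finite.iff_fg.mpr hk
  have hfin := associatedPrimes.finite A W
  let S : Finset (Ideal A) := (hfin.toFinset.image fun P => (P.homogeneousCore 𝒜).toIdeal).filter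
    fun P => P.IsPrime ∧ P.IsHomogeneous 𝒜 ∧ ∃ d, 0 < d ∧ ∃ h ∈ 𝒜 d, h ∉ P
  obtain ⟨d, hd, x, hx, hxS⟩ := exists_pos_notMem 𝒜 S fun P hP => (Finset.mem_filter.mp hP).2
  refine ⟨d, x, hd, hx, fun i hi m hm hxm e f he hf => ?_⟩
  have hmW : m ∈ W := Submodule.subset_span (Set.mem_iUnion₂.mpr ⟨i, hi, hm⟩)
  let N : Submodule A W := A ∙ (⟨m, hmW⟩ : W)
  have hann : ∀ r : A, r ∈ Module.annihilator A N ↔ r • m = 0 := fun r => by
    rw [show Module.annihilator A N = N.annihilator from rfl,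
      Submodule.mem_annihilator_span_singleton, Subtype.ext_iff]
    rfl
  suffices f ∈ (Module.annihilator A N).radical by
    obtain ⟨e, he⟩ := this
    exact ⟨e, by rw [Submodule.mem_bot]; exact (hann _).mp he⟩
  rw [← Ideal.sInf_minimalPrimes, Submodule.mem_sInf]
  intro P hP
  have hass : P ∈ associatedPrimes A W :=
    associatedPrimes.subset_of_injective N.injective_subtype
      (Module.associatedPrimes.minimalPrimes_annihilator_subset_associatedPrimes A N hP)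
  haveI := hP.isPrime
  by_contra hfP
  refine hxS (Ideal.homogeneousCore 𝒜 P).toIdeal (Finset.mem_filter.mpr
    ⟨Finset.mem_image.mpr ⟨P, hfin.mem_toFinset.mpr hass, rfl⟩, Ideal.IsPrime.homogeneousCore ‹_›,
      (Ideal.homogeneousCore 𝒜 P).isHomogeneous, e, he, f, hf,
      fun h => hfP (Ideal.toIdeal_homogeneousCore_le 𝒜 P h)⟩) ?_
  exact Ideal.mem_homogeneousCore_of_homogeneous_of_mem ⟨d, hx⟩ (hP.1.2 ((hann x).mpr hxm))

theorem decompose_smul_left {x : A} {d : ℕ} (hx : x ∈ 𝒜 d) (m : M) (j : ℕ) :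
    (decompose ℳ (x • m) (d + j) : M) = x • (decompose ℳ m j : M) := by
  induction m using Decomposition.inductionOn ℳ with
  | zero => simp
  | @homogeneous i t =>
    have h : x • (t : M) ∈ ℳ (d + i) := SetLike.GradedSMul.smul_mem hx t.2
    by_cases hij : i = j
    · subst hij
      rw [decompose_of_mem_same ℳ h, decompose_of_mem_same ℳ t.2]
    · rw [decompose_of_mem_ne ℳ h (by omega), decompose_of_mem_ne ℳ t.2 hij, smul_zero]
  | add a b ha hb =>
    rw [smul_add, decompose_add, DFinsupp.add_apply, AddMemClass.coe_add, ha, hb, decompose_add,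
      DFinsupp.add_apply, AddMemClass.coe_add, smul_add]

theorem exists_pos_homogeneous_notMem (y : ProjectiveSpectrum 𝒜) :
    ∃ (e : ℕ) (f : A), 0 < e ∧ f ∈ 𝒜 e ∧ f ∉ y.asHomogeneousIdeal := by
  by_contra! h
  refine y.not_irrelevant_le ?_
  change (HomogeneousIdeal.irrelevant 𝒜).toIdeal ≤ y.asHomogeneousIdeal.toIdeal
  rw [HomogeneousIdeal.irrelevant_eq_span, Ideal.span_le]
  intro f hf
  obtain ⟨d, hd, hfd⟩ : ∃ d, 0 < d ∧ f ∈ 𝒜 d := by simpa using hf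
  exact h d f hd hfd

/-- The algebraic data behind the comparison in degrees `≥ N`: a homogeneous element of positive degree regular
on these degrees, and modulo whose multiples there is no irrelevant torsion. -/
def TailData (N : ℕ) : Prop :=
  ∃ (d : ℕ) (x : A), 0 < d ∧ x ∈ 𝒜 d ∧ (∀ i, N ≤ i → ∀ m ∈ ℳ i, x • m = 0 → m = 0) ∧
    ∀ i, N ≤ i → ∀ m ∈ ℳ i, Tors 𝒜 (LinearMap.range (LinearMap.lsmul A M x)) m →
      m ∈ LinearMap.range (LinearMap.lsmul A M x)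

theorem TailData.mono {N N' : ℕ} (h : TailData 𝒜 ℳ N) (hN : N ≤ N') : TailData 𝒜 ℳ N' := by
  obtain ⟨d, x, hd, hx, h1, h2⟩ := h
  exact ⟨d, x, hd, hx, fun i hi => h1 i (hN.trans hi), fun i hi => h2 i (hN.trans hi)⟩

theorem exists_tailData [IsNoetherianRing A]
    (hTF : ∃ k : ℕ, (Submodule.span A (⋃ i ∈ Set.Ici k, (ℳ i : Set M))).FG) :
    ∃ N : ℕ, TailData 𝒜 ℳ N := by
  obtain ⟨k, hk⟩ := hTF
  obtain ⟨d, x, hd, hx, hreg⟩ := exists_regular 𝒜 ℳ k hk
  obtain ⟨N0, hN0k, hN0⟩ := exists_tail 𝒜 ℳ k hk ⊥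
  obtain ⟨N1, hN1k, hN1⟩ := exists_tail 𝒜 ℳ k hk (LinearMap.range (LinearMap.lsmul A M x))
  exact ⟨N0 + N1, d, x, hd, hx,
    fun i hi m hm h => (Submodule.mem_bot A).mp (hN0 i (by omega) m hm (hreg i (by omega) m hm h)),
    fun i hi => hN1 i (by omega)⟩

/-- **The tail comparison**, with the degree as an integer. -/
theorem tail_of_data {N : ℕ} (hD : TailData 𝒜 ℳ N) : ∀ n : ℕ, N ≤ n →
      (∀ m ∈ ℳ n, (∀ y : ProjectiveSpectrum 𝒜, (LocalizedModule.mk m 1 : GrMod.LocMod 𝒜 (M := M) y) = 0) → m = 0) ∧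
      ∀ z : ℤ, z = n → ∀ sec : Γ(GrMod.tilde 𝒜 ℳ z, (⊤ : (Proj 𝒜).Opens)),
        ∃ m ∈ ℳ n, ∀ y, GrMod.val sec y = LocalizedModule.mk m 1 := by
  obtain ⟨d, x, hd, hx, hreg, hN1⟩ := hD
  have hpow : ∀ (p i : ℕ), N ≤ i → ∀ m ∈ ℳ i, x ^ p • m = 0 → m = 0 := by
    intro p
    induction p with
    | zero => intro i _ m _ h; rwa [pow_zero, one_smul] at h
    | succ p ih =>
      intro i hi m hm h
      refine ih i hi m hm (hreg (p * d + i) (by omega) _
        (SetLike.GradedSMul.smul_mem (pow_mem_deg 𝒜 hx p) hm) ?_)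
      rwa [smul_smul, ← pow_succ']
  intro n hn
  refine ⟨fun m hm h => ?_, ?_⟩
  · obtain ⟨p, hp⟩ := exists_pow_smul_eq_zero_of_mk 𝒜 hd hx (deg_of_mem hm) fun y _ => ⟨1, h y⟩
    exact hpow p n hn m hm hp
  rintro z rfl sec
  -- comparison with a presentation `m / x ^ K` on `D(x)`
  have key : ∀ (K : ℕ), ∀ m ∈ ℳ (K * d + n),
      (∀ (y : (⊤ : (Proj 𝒜).Opens)) (hy : x ∉ y.1.asHomogeneousIdeal),
        GrMod.val sec y = LocalizedModule.mk m ⟨x ^ K, pow_notMem y.1.isPrime hy K⟩) →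
      ∀ (e : ℕ) (f : A), 0 < e → f ∈ 𝒜 e → ∃ (p : ℕ) (mf : M), f ^ p • m = x ^ K • mf ∧
        ∀ (y : (⊤ : (Proj 𝒜).Opens)) (hy : f ∉ y.1.asHomogeneousIdeal),
          GrMod.val sec y = LocalizedModule.mk mf ⟨f ^ p, pow_notMem y.1.isPrime hy p⟩ := by
    intro K m hm hval e f he hf
    obtain ⟨l, mf, hmf, hvalf⟩ := exists_frac 𝒜 ℳ he hf (n : ℤ)
      ((GrMod.tilde 𝒜 ℳ (n : ℤ)).presheaf.map
        (homOfLE (le_top : Proj.basicOpen 𝒜 f ≤ ⊤)).op sec)
    obtain ⟨i, hi, hmf⟩ := hmf.exists_mem (by positivity)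
    obtain rfl : i = l * e + n := by exact_mod_cast hi
    have hw : f ^ l • m - x ^ K • mf ∈ ℳ (l * e + K * d + n) := by
      refine sub_mem ?_ ?_
      · rw [add_assoc]; exact SetLike.GradedSMul.smul_mem (pow_mem_deg 𝒜 hf l) hm
      · rw [show l * e + K * d + n = K * d + (l * e + n) by ring]
        exact SetLike.GradedSMul.smul_mem (pow_mem_deg 𝒜 hx K) hmf
    obtain ⟨q, hq⟩ := exists_pow_smul_eq_zero 𝒜 (Nat.add_pos_left he d)
      (SetLike.mul_mem_graded hf hx) (deg_of_mem hw) fun y hy => by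
        have hyf : f ∉ y.asHomogeneousIdeal := fun h =>
          hy (y.asHomogeneousIdeal.toIdeal.mul_mem_right _ h)
        have hyx : x ∉ y.asHomogeneousIdeal := fun h =>
          hy (y.asHomogeneousIdeal.toIdeal.mul_mem_left _ h)
        have h1 := hvalf ⟨y, hyf⟩
        rw [val_res] at h1
        have h2 := (hval ⟨y, trivial⟩ hyx).symm.trans h1
        rw [LocalizedModule.mk_eq] at h2
        obtain ⟨c, hc⟩ := h2
        simp only [Submonoid.smul_def] at hc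
        exact ⟨c.1, c.2, by rw [smul_sub, hc, sub_self]⟩
    rw [mul_pow, mul_comm, mul_smul] at hq
    have hw' : f ^ q • (f ^ l • m - x ^ K • mf) ∈ ℳ (q * e + (l * e + K * d + n)) :=
      SetLike.GradedSMul.smul_mem (pow_mem_deg 𝒜 hf q) hw
    have hr := hpow q _ (by omega) _ hw' hq
    rw [smul_sub, sub_eq_zero, smul_smul, ← pow_add] at hr
    refine ⟨q + l, f ^ q • mf, ?_, fun y hy => ?_⟩
    · rw [hr, smul_comm (x ^ K)]
    · have h1 := hvalf ⟨y.1, hy⟩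
      rw [val_res] at h1
      refine h1.trans ?_
      rw [LocalizedModule.mk_eq]
      refine ⟨1, ?_⟩
      simp only [one_smul, Submonoid.smul_def, smul_smul]
      rw [← pow_add, show l + q = q + l by omega]
  -- descend to `K = 0`
  have down : ∀ (K : ℕ), ∀ m ∈ ℳ (K * d + n),
      (∀ (y : (⊤ : (Proj 𝒜).Opens)) (hy : x ∉ y.1.asHomogeneousIdeal),
        GrMod.val sec y = LocalizedModule.mk m ⟨x ^ K, pow_notMem y.1.isPrime hy K⟩) →
      ∃ m₀ ∈ ℳ n, ∀ y, GrMod.val sec y = LocalizedModule.mk m₀ 1 := by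
    intro K
    induction K with
    | zero =>
      intro m hm hval
      refine ⟨m, by simpa using hm, fun y => ?_⟩
      obtain ⟨e, f, he, hf, hfy⟩ := exists_pos_homogeneous_notMem 𝒜 y.1
      obtain ⟨p, mf, hmf, hv⟩ := key 0 m hm hval e f he hf
      rw [pow_zero, one_smul] at hmf
      rw [hv y hfy, ← hmf, LocalizedModule.mk_eq]
      refine ⟨1, ?_⟩
      simp only [one_smul, Submonoid.smul_def, OneMemClass.coe_one]
    | succ K ih =>
      intro m hm hval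
      obtain ⟨m', hm'⟩ := hN1 ((K + 1) * d + n) (by omega) m hm fun e f he hf => by
        obtain ⟨p, mf, hmf, -⟩ := key (K + 1) m hm hval e f he hf
        exact ⟨p, x ^ K • mf, by rw [LinearMap.lsmul_apply, smul_smul, ← pow_succ', hmf]⟩
      rw [LinearMap.lsmul_apply] at hm'
      have hcomp : x • (decompose ℳ m' (K * d + n) : M) = m := by
        rw [← decompose_smul_left 𝒜 ℳ hx, hm', show d + (K * d + n) = (K + 1) * d + n by ring,
          decompose_of_mem_same ℳ hm]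
      refine ih (decompose ℳ m' (K * d + n) : M) (SetLike.coe_mem _) fun y hy => ?_
      rw [hval y hy, LocalizedModule.mk_eq]
      refine ⟨1, ?_⟩
      simp only [one_smul, Submonoid.smul_def]
      rw [← hcomp, smul_smul, pow_succ]
  obtain ⟨K, mx, hmx, hvalx⟩ := exists_frac 𝒜 ℳ hd hx (n : ℤ)
    ((GrMod.tilde 𝒜 ℳ (n : ℤ)).presheaf.map (homOfLE (le_top : Proj.basicOpen 𝒜 x ≤ ⊤)).op sec)
  obtain ⟨i, hi, hmx⟩ := hmx.exists_mem (by positivity)
  obtain rfl : i = K * d + n := by exact_mod_cast hi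
  refine down K mx hmx fun y hy => ?_
  have := hvalx ⟨y.1, hy⟩
  rw [val_res] at this
  exact this

theorem bijective_of_data {N : ℕ} (hD : TailData 𝒜 ℳ N) (n : ℕ) (hn : N ≤ n) :
    Function.Bijective (GrMod.alpha 𝒜 ℳ n) := by
  refine ⟨(injective_iff_map_eq_zero _).mpr fun m hm => Subtype.ext ?_, fun sec => ?_⟩
  · exact (tail_of_data 𝒜 ℳ hD n hn).1 _ m.2 fun y => congrArg (fun s : Γ(GrMod.tilde 𝒜 ℳ (n : ℤ), (⊤ : (Proj 𝒜).Opens)) =>
      GrMod.val s (⟨y, trivial⟩ : (⊤ : (Proj 𝒜).Opens))) hm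
  · obtain ⟨m, hm, h⟩ := (tail_of_data 𝒜 ℳ hD n hn).2 n rfl sec
    exact ⟨⟨m, hm⟩, ext_val 𝒜 ℳ fun y => (h y).symm⟩

variable [IsNoetherianRing A]

theorem alpha_tail (hTF : ∃ k : ℕ, (Submodule.span A (⋃ i ∈ Set.Ici k, (ℳ i : Set M))).FG) :
    ∃ N : ℕ, ∀ n : ℕ, N ≤ n →
      (∀ m ∈ ℳ n, (∀ y : ProjectiveSpectrum 𝒜, (LocalizedModule.mk m 1 : GrMod.LocMod 𝒜 (M := M) y) = 0) → m = 0) ∧
      ∀ z : ℤ, z = n → ∀ sec : Γ(GrMod.tilde 𝒜 ℳ z, (⊤ : (Proj 𝒜).Opens)),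
        ∃ m ∈ ℳ n, ∀ y, GrMod.val sec y = LocalizedModule.mk m 1 :=
  (exists_tailData 𝒜 ℳ hTF).imp fun _ h => tail_of_data 𝒜 ℳ h

/-- `M_n → Γ(Proj, M(n)~)` is bijective for large `n`. -/
theorem alpha_bijective (hTF : ∃ k : ℕ, (Submodule.span A (⋃ i ∈ Set.Ici k, (ℳ i : Set M))).FG) :
    ∃ N : ℕ, ∀ n : ℕ, N ≤ n → Function.Bijective (GrMod.alpha 𝒜 ℳ n) :=
  (exists_tailData 𝒜 ℳ hTF).imp fun _ h => bijective_of_data 𝒜 ℳ h

/-- With `A₊` generated in degree one, `A_{p+e} = A_e A_p`. -/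
theorem mem_closure_mul (hgen : (HomogeneousIdeal.irrelevant 𝒜).toIdeal = Ideal.span (𝒜 1 : Set A))
    (p : ℕ) : ∀ e : ℕ, ∀ a ∈ 𝒜 (p + e),
      a ∈ AddSubmonoid.closure {c | ∃ u ∈ 𝒜 e, ∃ v ∈ 𝒜 p, u * v = c} := by
  classical
  intro e
  induction e with
  | zero => exact fun a ha => AddSubmonoid.subset_closure ⟨1, SetLike.one_mem_graded 𝒜, a, ha, one_mul a⟩
  | succ e ih =>
    intro a ha
    set C := AddSubmonoid.closure {c | ∃ u ∈ 𝒜 (e + 1), ∃ v ∈ 𝒜 p, u * v = c}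
    have hmem : a ∈ Ideal.span (𝒜 1 : Set A) :=
      hgen ▸ HomogeneousIdeal.mem_irrelevant_of_mem 𝒜 (by omega) ha
    have hmul : ∀ b ∈ 𝒜 (p + e), ∀ x ∈ 𝒜 1, b * x ∈ C := fun b hb x hx => by
      refine AddSubmonoid.closure_induction (fun c hc => ?_) (by rw [zero_mul]; exact zero_mem _)
        (fun c c' _ _ h h' => by rw [add_mul]; exact add_mem h h') (ih b hb)
      obtain ⟨u, hu, v, hv, rfl⟩ := hc
      exact AddSubmonoid.subset_closure ⟨u * x, SetLike.mul_mem_graded hu hx, v, hv, by ring⟩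
    suffices ∀ z ∈ Ideal.span (𝒜 1 : Set A), ∀ r : A,
        GradedRing.proj 𝒜 (p + (e + 1)) (r * z) ∈ C by
      have := this a hmem 1
      rwa [one_mul, Proj16.proj_of_mem 𝒜 ha] at this
    intro z hz
    induction hz using Submodule.span_induction with
    | mem x hx =>
      intro r
      rw [Proj16.proj_mul_of_mem 𝒜 hx, if_pos (by omega), show p + (e + 1) - 1 = p + e by omega]
      exact hmul _ (Proj16.proj_mem 𝒜 _ r) x hx
    | zero => intro r; rw [mul_zero, map_zero]; exact zero_mem _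
    | add y y' _ _ hy hy' => intro r; rw [mul_add, map_add]; exact add_mem (hy r) (hy' r)
    | smul b y _ hy => intro r; rw [smul_eq_mul, ← mul_assoc]; exact hy _
set_option maxHeartbeats 2000000 in

/-- In high degrees the sections of the twists are generated by those of one twist. -/
theorem exists_generated (hgen : (HomogeneousIdeal.irrelevant 𝒜).toIdeal = Ideal.span (𝒜 1 : Set A))
    (hTF : ∃ k : ℕ, (Submodule.span A (⋃ i ∈ Set.Ici k, (ℳ i : Set M))).FG) :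
    ∃ k : ℕ, ∀ e : ℕ, (⨆ a : 𝒜 e, (GrMod.smulSect 𝒜 ℳ a (k : ℤ)
      (op (⊤ : Opens (ProjectiveSpectrum.top 𝒜)))).range) = ⊤ := by
  classical
  obtain ⟨N, hN⟩ := alpha_tail 𝒜 ℳ hTF
  obtain ⟨k₀, hk₀⟩ := hTF
  obtain ⟨L, g, ej, hg, hgens⟩ := exists_homogeneous_generators 𝒜 ℳ k₀ hk₀
  obtain ⟨k, hk⟩ : ∃ k, k = N + k₀ + ∑ j, ej j := ⟨_, rfl⟩
  refine ⟨k, fun e => eq_top_iff.mpr fun s _ => ?_⟩
  set G := ⨆ a : 𝒜 e, (GrMod.smulSect 𝒜 ℳ a (k : ℤ)
      (op (⊤ : Opens (ProjectiveSpectrum.top 𝒜)))).range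
  obtain ⟨m, hm, hval⟩ := (hN (k + e) (by omega)).2 _ (Nat.cast_add k e).symm s
  let T : M → Prop := fun z => ∃ t ∈ G, ∀ y,
    GrMod.val (t : Γ(GrMod.tilde 𝒜 ℳ ((k : ℤ) + e), (⊤ : (Proj 𝒜).Opens))) y =
      LocalizedModule.mk z 1
  have hT0 : T 0 := ⟨0, zero_mem _, fun y => (LocalizedModule.zero_mk _).symm⟩
  have hTadd : ∀ z z', T z → T z' → T (z + z') := by
    rintro z z' ⟨t, ht, h⟩ ⟨t', ht', h'⟩
    refine ⟨t + t', add_mem ht ht', fun y => ?_⟩
    exact (congrArg₂ (· + ·) (h y) (h' y)).trans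
      ((LocalizedModule.mkLinearMap _ M).map_add z z').symm
  suffices T m by
    obtain ⟨t, ht, h⟩ := this
    have e' : s = t := ext_val 𝒜 ℳ fun y => (hval y).trans (h y).symm
    exact e'.symm ▸ ht
  obtain ⟨c, hc, -, hsum⟩ := hgens (k + e) (by omega) m hm
  rw [hsum]
  refine Finset.sum_induction _ T hTadd hT0 fun j _ => ?_
  have hj : ej j ≤ ∑ j, ej j := Finset.single_le_sum (fun _ _ => Nat.zero_le _) (Finset.mem_univ j)
  have hcj : c j ∈ 𝒜 ((k - ej j) + e) := by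
    rw [show k - ej j + e = k + e - ej j by omega]
    exact hc j (by omega)
  refine AddSubmonoid.closure_induction (motive := fun a _ => T (a • g j)) (fun a ha => ?_)
    (by simpa using hT0) (fun a b _ _ ha hb => by rw [add_smul]; exact hTadd _ _ ha hb)
    (mem_closure_mul 𝒜 hgen (k - ej j) e _ hcj)
  obtain ⟨u, hu, v, hv, rfl⟩ := ha
  have hvg : v • g j ∈ ℳ k := by
    have := SetLike.GradedSMul.smul_mem (A := 𝒜) (B := ℳ) hv (hg j)
    rwa [vadd_eq_add, Nat.sub_add_cancel (by omega)] at this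
  refine ⟨GrMod.smulSect 𝒜 ℳ (⟨u, hu⟩ : 𝒜 e) (k : ℤ) _ (GrMod.globalOf 𝒜 ℳ ⟨_, hvg⟩),
    AddSubgroup.mem_iSup_of_mem ⟨u, hu⟩ ⟨_, rfl⟩, fun y => ?_⟩
  change (Localization.mk u 1 : GrTwist.Loc 𝒜 y.1) • LocalizedModule.mk (v • g j) 1 = _
  rw [LocalizedModule.mk_smul_mk, one_mul, smul_smul]

omit [IsNoetherianRing A] [SetLike.GradedSMul 𝒜 ℳ] in
theorem fg_tail_zero [Module.Finite A M] :
    ∃ k : ℕ, (Submodule.span A (⋃ i ∈ Set.Ici k, (ℳ i : Set M))).FG := by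
  classical
  refine ⟨0, ?_⟩
  rw [show Submodule.span A (⋃ i ∈ Set.Ici (0 : ℕ), (ℳ i : Set M)) = ⊤ from eq_top_iff.mpr fun m _ => ?_]
  · exact Module.Finite.fg_top
  rw [← sum_support_decompose ℳ m]
  exact Submodule.sum_mem _ fun i _ =>
    Submodule.subset_span (Set.mem_iUnion₂.mpr ⟨i, Nat.zero_le i, SetLike.coe_mem _⟩)

end Groth.Agent.H9Misc.GradedTail
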