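import Groth.Agent.KFlatLib.Scheme.ProjClosed
import Groth.Agent.SiteBase.RpushD.Devissage
import Groth.Agent.KExact.ClosedBC
import Groth.Agent.ZClosLib.CohDescent
import Groth.Agent.KFlatLib.Scheme.CohD
import Groth.Prelude.Def_SGA6

/-! Direct image along a closed immersion reflects bounded coherent objects. -/

set_option autoImplicit false
set_option linter.style.haveILetI false
set_option backward.isDefEq.respectTransparency false
set_option backward.isDefEq.respectTransparency.types false

universe u

open CategoryTheory CategoryTheory.Limits AlgebraicGeometry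

attribute [local instance] HasDerivedCategory.standard

noncomputable section

namespace Groth.Agent.H9Misc.PushReflect

open Groth.Agent KFlatLib

variable {Z Y : Scheme.{u}} (i : Z ⟶ Y) [IsClosedImmersion i] [DCoh.HasRpush i]

theorem nonempty_hd_rpush (K : DCoh.D Z) (n : ℤ) :
    Nonempty (DCoh.HD ((DCoh.Rpush i).obj K) n ≅ (Scheme.Modules.pushforward i).obj (DCoh.HD K n)) := by
  haveI : PreservesFiniteColimits (Scheme.Modules.pushforward i) :=
    ⟨fun J _ _ => preservesColimitsOfShape_push i J⟩
  haveI : PreservesFiniteLimits (Scheme.Modules.pushforward i) := by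
    haveI := (Scheme.Modules.pullbackPushforwardAdjunction i).isRightAdjoint
    infer_instance
  let F := Scheme.Modules.pushforward i
  let eK := DerivedCategory.Q.objObjPreimageIso K
  obtain ⟨e⟩ := nonempty_rpush_iso_closed i (DerivedCategory.Q.objPreimage K)
  exact ⟨(DerivedCategory.homologyFunctor Y.Modules n).mapIso
      ((DCoh.Rpush i).mapIso eK.symm ≪≫ e ≪≫ (F.mapDerivedCategoryFactors.app _).symm ≪≫
        F.mapDerivedCategory.mapIso eK) ≪≫ (SiteBase.RpushD.nonempty_homology_mapDerived F K n).some⟩

theorem cohbP_of_rpush [IsLocallyNoetherian Y] [IsLocallyNoetherian Z] {K : DCoh.D Z} (h : SGA6.cohbP Y ((DCoh.Rpush i).obj K)) : SGA6.cohbP Z K := by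
  haveI := KExact.isIso_counit_closed i
  let c := fun M : Z.Modules => (asIso (Scheme.Modules.pullbackPushforwardAdjunction i).counit).app M
  have hz : ∀ n, IsZero (DCoh.HD ((DCoh.Rpush i).obj K) n) → IsZero (DCoh.HD K n) := fun n hn =>
    ((Scheme.Modules.pullback i).map_isZero (hn.of_iso (nonempty_hd_rpush i K n).some.symm)).of_iso (c _).symm
  obtain ⟨hc, a, b, ha, hb⟩ := h
  refine ⟨fun n => KFlatLib.isCoh_of_iso (c _) (ZClosLib.isCoh_pullback i
    (KFlatLib.isCoh_of_iso (nonempty_hd_rpush i K n).some (hc n))), a, b, ?_, ?_⟩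
  · exact (DerivedCategory.isGE_iff K a).2 fun n hn => hz n (DerivedCategory.isZero_of_isGE _ a n hn)
  · exact (DerivedCategory.isLE_iff K b).2 fun n hn => hz n (DerivedCategory.isZero_of_isLE _ b n hn)

end Groth.Agent.H9Misc.PushReflect
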