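import Groth.Agent.H9Misc.DualTest
import Groth.Agent.H9Misc.PushReflect
import Groth.Agent.KFlatLib.Scheme.RpushRestrict
import Groth.Agent.KFlatLib.Scheme.LpullComp
import Groth.Agent.KFlatLib.Scheme.CohD
import Groth.Agent.KFlatLib.Perfect.Betti
import Groth.Agent.PnCoh.Chow.Exists
import Groth.Agent.H23.RedSub
import Groth.Agent.RegLoc6.Basic

/-! Coherence of cohomology from Hom finiteness, on regular proper schemes, through closures of graphs. -/

set_option autoImplicit false
set_option linter.style.haveILetI false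
set_option backward.isDefEq.respectTransparency false
set_option backward.isDefEq.respectTransparency.types false
set_option maxHeartbeats 1000000

universe u

open CategoryTheory CategoryTheory.Limits AlgebraicGeometry TopologicalSpace MvPolynomial
open HomogeneousLocalization

attribute [local instance] HasDerivedCategory.standard
attribute [local instance] Groth.Agent.H9Misc.PnCrit.overPn

noncomputable section

namespace Groth.Agent.H9Misc.GraphCrit

open Groth.Agent

variable {k : Type u} [Field k]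

/-- An affine scheme of finite type as a closed subscheme of an affine chart of projective space. -/
theorem exists_chart_map {W : Scheme.{u}} [IsAffine W] (f : W ⟶ Spec (CommRingCat.of k)) [LocallyOfFiniteType f] :
    ∃ (n : ℕ) (V : Scheme.{u}) (v : V ⟶ CohB1.ProjSpace n k) (e : W ⟶ V),
      IsOpenImmersion v ∧ IsClosedImmersion e ∧ (e ≫ v) ≫ CohB1.ProjSpace.toSpec n k = f := by
  obtain ⟨n, s, hs⟩ := PnCoh.Chow.exists_gens f (isAffineOpen_top W)
  let a := PnCoh.Chow.aHom f (⊤ : W.Opens)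
  let c : MvPolynomial (Fin (n + 1)) k →+* Γ(W, ⊤) := eval₂Hom a (Fin.cons 1 s)
  have h0 : (X 0 : MvPolynomial (Fin (n + 1)) k) ∈ CohB1.polyGrading n k 1 := ProjPt.X_mem _
  have hc0 : c (X 0) = 1 := by simp [c]
  have hu : IsUnit (c (X 0)) := hc0 ▸ isUnit_one
  let ψ := ProjPt.coordHom (CohB1.polyGrading n k) c hu
  have hψ : Function.Surjective ψ := by
    intro y
    obtain ⟨p, rfl⟩ := hs y
    induction p using MvPolynomial.induction_on with
    | C t =>
      have hm : (C t : MvPolynomial (Fin (n + 1)) k) ∈ CohB1.polyGrading n k (0 • 1) := by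
        rw [zero_smul]
        exact MvPolynomial.isHomogeneous_C _ _
      refine ⟨Away.mk _ h0 0 _ hm, ?_⟩
      have h := ProjPt.coordHom_mk_mul (CohB1.polyGrading n k) c hu h0 0 _ hm
      rw [pow_zero, mul_one] at h
      refine h.trans ?_
      simp [c, a]
    | add p q hp hq =>
      obtain ⟨u, hu'⟩ := hp
      obtain ⟨v, hv⟩ := hq
      exact ⟨u + v, by rw [map_add, map_add, hu', hv]⟩
    | mul_X p i hp =>
      obtain ⟨u, hu'⟩ := hp
      have hm : (X i.succ : MvPolynomial (Fin (n + 1)) k) ∈ CohB1.polyGrading n k (1 • 1) := by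
        rw [one_smul]
        exact ProjPt.X_mem _
      refine ⟨u * Away.mk _ h0 1 _ hm, ?_⟩
      have h := ProjPt.coordHom_mk_mul (CohB1.polyGrading n k) c hu h0 1 _ hm
      rw [hc0, one_pow, mul_one] at h
      rw [map_mul, map_mul, hu', h]
      simp [c]
  let e := W.toSpecΓ ≫ Spec.map (CommRingCat.ofHom ψ)
  haveI : IsClosedImmersion (Spec.map (CommRingCat.ofHom ψ)) := IsClosedImmersion.spec_of_surjective _ hψ
  refine ⟨n, _, Proj.awayι (CohB1.polyGrading n k) (X 0) h0 one_pos, e, inferInstance, inferInstance, ?_⟩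
  have he : e ≫ Proj.awayι (CohB1.polyGrading n k) (X 0) h0 one_pos =
      ProjPt.pt (CohB1.polyGrading n k) c h0 one_pos hu := by
    rw [ProjPt.pt, Category.assoc]
  rw [he]
  show ProjPt.pt (CohB1.polyGrading n k) c h0 one_pos hu ≫ Proj.toSpecZero (CohB1.polyGrading n k) ≫ Spec.map _ = _
  rw [← Category.assoc, ProjPt.pt_toSpecZero, Category.assoc, ← Spec.map_comp, ProjPt.eq_toSpecΓ f]
  congr 2
  refine CommRingCat.hom_ext (RingHom.ext fun t => ?_)
  show c (MvPolynomial.C t) = _
  simp only [c, eval₂Hom_C]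
  show ((Scheme.ΓSpecIso (CommRingCat.of k)).inv ≫ f.appLE ⊤ ⊤ le_top) t = _
  rw [show f.appLE ⊤ ⊤ le_top = f.appTop from (f.app_eq_appLE (U := ⊤)).symm]

variable {X : Scheme.{u}} [X.Over (Spec (CommRingCat.of k))] [IsProper (X ↘ Spec (CommRingCat.of k))]

open KFlatLib in
theorem isCohD_of_fin (hreg : Models.IsRegularScheme X) (K : DCoh.D X) (hK : DCoh.IsQCohD K)
    (h : ∀ E : DCoh.D X, DCoh.IsPerfect E → DualTest.Fin' k E K) : DCoh.IsCohD K := by
  let f := X ↘ Spec (CommRingCat.of k)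
  haveI : IsNoetherian X := KExact.BCNat.isNoetherian_of_ft f
  haveI : ∀ x : X, _root_.IsReduced (X.presheaf.stalk x) := fun x => by
    haveI := hreg x
    haveI := RegLoc6.isDomain_of_isRegularLocalRing (X.presheaf.stalk x)
    infer_instance
  haveI : IsReduced X := isReduced_of_isReduced_stalk X
  suffices hloc : ∀ x : X, ∃ (W : Scheme.{u}) (j : W ⟶ X) (_ : IsOpenImmersion j), x ∈ Set.range j.base ∧
      DCoh.IsCohD ((rho j).obj K) from fun i => isCoh_of_local fun x => by
    obtain ⟨W, j, hj, hx, hc⟩ := hloc x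
    haveI := isLocallyNoetherian_of_isOpenImmersion j
    exact ⟨W, j, hj, hx, isCoh_of_iso (restrictHDIso j K i) (hc i)⟩
  intro x
  obtain ⟨_, ⟨U, hU, rfl⟩, hxU, -⟩ := X.isBasis_affineOpens.exists_subset_of_mem_open (Set.mem_univ x) isOpen_univ
  let W : Scheme.{u} := Scheme.Opens.toScheme (X := X) U
  let j : W ⟶ X := Scheme.Opens.ι (X := X) U
  haveI : IsAffine W := hU
  haveI : IsReduced W := isReduced_of_isOpenImmersion j
  obtain ⟨n, V, v, e, hv, he, hev⟩ := exists_chart_map (j ≫ f)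
  let P := CohB1.ProjSpace n k
  haveI : IsProper (CohB1.ProjSpace.toSpec n k) := PnCoh.Chow.isProper_toSpec n k
  haveI : IsNoetherian P := KExact.BCNat.isNoetherian_of_ft (CohB1.ProjSpace.toSpec n k)
  let G : W ⟶ pullback f (CohB1.ProjSpace.toSpec n k) := pullback.lift j (e ≫ v) hev.symm
  let G' : W ⟶ pullback f (v ≫ CohB1.ProjSpace.toSpec n k) :=
    pullback.lift j e (by rw [← hev, Category.assoc])
  haveI : IsClosedImmersion G' := by
    haveI : IsClosedImmersion (G' ≫ pullback.snd f (v ≫ CohB1.ProjSpace.toSpec n k)) := by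
      rw [pullback.lift_snd]
      exact he
    exact IsClosedImmersion.of_comp G' (pullback.snd f (v ≫ CohB1.ProjSpace.toSpec n k))
  let Cl : Closeds ↥(pullback f (CohB1.ProjSpace.toSpec n k)) := Closeds.closure (Set.range G)
  let I := Scheme.IdealSheafData.vanishingIdeal Cl
  let Z := I.subscheme
  let ι' : Z ⟶ pullback f (CohB1.ProjSpace.toSpec n k) := I.subschemeι
  let p : Z ⟶ X := ι' ≫ pullback.fst _ _
  let q : Z ⟶ P := ι' ≫ pullback.snd _ _
  obtain ⟨γ, hγ⟩ := H23.RedSub.exists_lift_closed G ι' (by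
    rw [H23.RedSub.range_vanishingIdeal]
    exact subset_closure)
  have hγp : γ ≫ p = j := by
    show γ ≫ ι' ≫ pullback.fst _ _ = j
    rw [← Category.assoc, hγ, pullback.lift_fst]
  have hγq : γ ≫ q = e ≫ v := by
    show γ ≫ ι' ≫ pullback.snd _ _ = e ≫ v
    rw [← Category.assoc, hγ, pullback.lift_snd]
  letI : Z.Over (Spec (CommRingCat.of k)) := ⟨p ≫ f⟩
  haveI : p.IsOver (Spec (CommRingCat.of k)) := ⟨rfl⟩
  haveI : q.IsOver (Spec (CommRingCat.of k)) := ⟨by
    show (ι' ≫ pullback.snd _ _) ≫ CohB1.ProjSpace.toSpec n k = (ι' ≫ pullback.fst _ _) ≫ f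
    rw [Category.assoc, Category.assoc, pullback.condition]⟩
  haveI : IsProper p := inferInstance
  haveI : IsProper q := inferInstance
  haveI := hasLpull p
  haveI := hasRpush_scheme q
  haveI := hasLpull q
  let N := (DCoh.Lpull p).obj K
  have hN : DCoh.IsQCohD N := isQCohD_lpull p hK
  have hM : SGA6.cohbP P ((DCoh.Rpush q).obj N) := PnCrit.cohbP_of_finite _ (isQCohD_rpush q hN) fun d _ => by
    have h2 := DualTest.fin_pull hreg K hK h p ((DCoh.Lpull q).obj (PnCrit.O n k (-(d : ℤ))))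
      (isPerfect_lpull q (H28.PerfGen.locSP_lf
        (H23.PullPush.isFinLocFree_of_isInvertible (Synt29.PnEuler.isInvertible_O n k _))))
    exact ⟨fun i => (FinHom.finite_hom_push (k := k) q _ N i).1.1 (h2.1 i),
      h2.2.subset fun i hi => (FinHom.finite_hom_push (k := k) q _ N i).2.1 hi⟩
  let O : P.Opens := v.opensRange
  have hrange : Set.range γ = ((q ⁻¹ᵁ O : Z.Opens) : Set Z) := by
    let m := pullback.map f (v ≫ CohB1.ProjSpace.toSpec n k) f (CohB1.ProjSpace.toSpec n k) (𝟙 X) v (𝟙 _)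
      (by simp) (by simp)
    have hG : G' ≫ m = G := by
      apply pullback.hom_ext <;> simp [G, G', m]
    have hm : Set.range m = (pullback.snd f (CohB1.ProjSpace.toSpec n k)) ⁻¹' Set.range v := by
      rw [Scheme.Pullback.range_map]
      simp
    have hem : Topology.IsEmbedding m := m.isOpenEmbedding.isEmbedding
    ext z
    refine ⟨?_, fun hz => ?_⟩
    · rintro ⟨w, rfl⟩
      show q (γ w) ∈ Set.range v
      rw [← Scheme.Hom.comp_apply, hγq]
      exact ⟨e w, rfl⟩
    · have hz' : ι' z ∈ Set.range m := by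
        rw [hm]
        exact hz
      have hzc : ι' z ∈ closure (Set.range G) := by
        have : ι' z ∈ Set.range ι' := ⟨z, rfl⟩
        rwa [H23.RedSub.range_vanishingIdeal] at this
      obtain ⟨t, ht⟩ := hz'
      have hrG : Set.range G = m '' Set.range G' := by
        rw [← Set.range_comp, ← TopCat.coe_comp, ← Scheme.Hom.comp_base, hG]
      have htc : t ∈ closure (Set.range G') := by
        rw [hem.closure_eq_preimage_closure_image, Set.mem_preimage, ← hrG, ht]
        exact hzc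
      rw [G'.isClosedEmbedding.isClosed_range.closure_eq] at htc
      obtain ⟨w, rfl⟩ := htc
      refine ⟨w, ι'.isClosedEmbedding.injective ?_⟩
      rw [← Scheme.Hom.comp_apply, hγ, ← hG, Scheme.Hom.comp_apply, ht]
  haveI : IsImmersion γ := by
    haveI : IsImmersion G := by
      have hG : G' ≫ pullback.map f (v ≫ CohB1.ProjSpace.toSpec n k) f (CohB1.ProjSpace.toSpec n k) (𝟙 X) v (𝟙 _)
          (by simp) (by simp) = G := by
        apply pullback.hom_ext <;> simp [G, G']
      rw [← hG]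
      infer_instance
    haveI : IsImmersion (γ ≫ ι') := by rw [hγ]; infer_instance
    exact IsImmersion.of_comp γ ι'
  haveI : IsOpenImmersion γ := H23.RedSub.isOpenImmersion_of_isOpen_range γ (hrange ▸ (q ⁻¹ᵁ O).2)
  have hOp : γ.opensRange = q ⁻¹ᵁ O := Opens.ext hrange
  let a : W ≅ (q ⁻¹ᵁ O).toScheme := γ.isoOpensRange ≪≫ Scheme.isoOfEq Z hOp
  have haι : a.hom ≫ (q ⁻¹ᵁ O).ι = γ := by simp [a]
  haveI : IsClosedImmersion (q ∣_ O) := by
    have hq : q ∣_ O = a.inv ≫ e ≫ v.isoOpensRange.hom := by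
      rw [← cancel_mono O.ι, morphismRestrict_ι, Category.assoc, Category.assoc, Scheme.Hom.isoOpensRange_hom_ι,
        ← hγq, ← haι, Category.assoc, a.inv_hom_id_assoc]
    rw [hq]
    infer_instance
  haveI := hasRpush_scheme (q ∣_ O)
  obtain ⟨r⟩ := nonempty_rpush_restrictD_iso q O
  haveI : IsLocallyNoetherian O.toScheme := isLocallyNoetherian_of_isOpenImmersion O.ι
  haveI : IsLocallyNoetherian Z := LocallyOfFiniteType.isLocallyNoetherian q
  haveI : IsLocallyNoetherian (q ⁻¹ᵁ O).toScheme := isLocallyNoetherian_of_isOpenImmersion (q ⁻¹ᵁ O).ι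
  have hb : SGA6.cohbP O.toScheme ((DCoh.Rpush (q ∣_ O)).obj ((rho (q ⁻¹ᵁ O).ι).obj N)) := by
    obtain ⟨hc, lo, hi, hlo, hhi⟩ := hM
    let R := (rho O.ι).obj ((DCoh.Rpush q).obj N)
    have hR : SGA6.cohbP O.toScheme R :=
      ⟨isCohD_rho O.ι hc, lo, hi,
        (DerivedCategory.isGE_iff R lo).2 fun i hi' => ((Scheme.Modules.restrictFunctor O.ι).map_isZero
          (DerivedCategory.isZero_of_isGE _ lo i hi')).of_iso (restrictHDIso O.ι _ i),
        (DerivedCategory.isLE_iff R hi).2 fun i hi' => ((Scheme.Modules.restrictFunctor O.ι).map_isZero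
          (DerivedCategory.isZero_of_isLE _ hi i hi')).of_iso (restrictHDIso O.ι _ i)⟩
    obtain ⟨hc', lo', hi', hlo', hhi'⟩ := hR
    haveI : DerivedCategory.TStructure.t.IsGE ((DCoh.Rpush q ⋙ DCoh.restrictD O.ι).obj N) lo' := hlo'
    haveI : DerivedCategory.TStructure.t.IsLE ((DCoh.Rpush q ⋙ DCoh.restrictD O.ι).obj N) hi' := hhi'
    exact ⟨fun i => isCoh_of_iso ((DerivedCategory.homologyFunctor _ i).mapIso (r.app N)) (hc' i), lo', hi',
      DerivedCategory.TStructure.t.isGE_of_iso (r.app N) lo', DerivedCategory.TStructure.t.isLE_of_iso (r.app N) hi'⟩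
  have hcN := (PushReflect.cohbP_of_rpush (q ∣_ O) hb).1
  haveI : IsLocallyNoetherian W := isLocallyNoetherian_of_isOpenImmersion j
  refine ⟨W, j, inferInstance, ?_, fun i => ?_⟩
  · rw [Scheme.Opens.range_ι]
    exact hxU
  · let g := (q ⁻¹ᵁ O).ι ≫ p
    haveI := hasLpull (q ⁻¹ᵁ O).ι
    haveI := hasLpull g
    haveI := hasLpull a.hom
    haveI := hasLpull (a.hom ≫ g)
    haveI := hasLpull j
    obtain ⟨c1⟩ := nonempty_lpull_comp (q ⁻¹ᵁ O).ι p
    obtain ⟨c2⟩ := nonempty_lpull_comp a.hom g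
    have hj : a.hom ≫ g = j := by rw [← Category.assoc, haι, hγp]
    let E := (rho (q ⁻¹ᵁ O).ι).obj N
    let e3 : (rho a.hom).obj E ≅ (rho j).obj K :=
      rhoLpullIso a.hom E ≪≫ (DCoh.Lpull a.hom).mapIso (rhoLpullIso (q ⁻¹ᵁ O).ι N ≪≫ c1.app K) ≪≫ c2.app K ≪≫
        eqToIso (by simp only [hj]) ≪≫ (rhoLpullIso j K).symm
    exact isCoh_of_iso ((DerivedCategory.homologyFunctor W.Modules i).mapIso e3) (isCohD_rho a.hom hcN i)

end Groth.Agent.H9Misc.GraphCrit
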