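import Mathlib

/-! Iterates of a multiple of a derivation in characteristic `p`. -/

set_option linter.style.haveILetI false

universe u v

open Finset

namespace Groth.Agent.H9Misc.Hochschild

section Basic

variable {B : Type u} [CommRing B]

/-- The coefficient of `D ^ k` in `(b D) ^ n`. -/
def P (δ : B → B) (b : B) : ℕ → ℕ → B
  | 0, 0 => 1
  | 0, _ + 1 => 0
  | n + 1, 0 => b * δ (P δ b n 0)
  | n + 1, k + 1 => b * (δ (P δ b n (k + 1)) + P δ b n k)

variable {K : Type v} [CommRing K] [Algebra K B] (δ : Derivation K B B) (b : B)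

lemma P_lt : ∀ n k : ℕ, n < k → P δ b n k = 0
  | 0, k + 1, _ => rfl
  | n + 1, k + 1, h => by
    simp only [P]
    rw [P_lt n (k + 1) (by omega), P_lt n k (by omega), map_zero, add_zero, mul_zero]

lemma P_zero : ∀ n : ℕ, P δ b (n + 1) 0 = 0
  | 0 => by simp [P]
  | n + 1 => by
    show b * δ (P δ b (n + 1) 0) = 0
    rw [P_zero n, map_zero, mul_zero]

lemma P_self : ∀ n : ℕ, P δ b n n = b ^ n
  | 0 => by simp [P]
  | n + 1 => by
    show b * (δ (P δ b n (n + 1)) + P δ b n n) = b ^ (n + 1)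
    rw [P_lt δ b n (n + 1) (by omega), map_zero, zero_add, P_self n, pow_succ']

/-- `(b D) ^ n` in terms of powers of `D`. -/
theorem mul_pow_eq {R : Type*} [Ring R] (ι : B →+* R) (D : R) (hD : ∀ x, D * ι x = ι x * D + ι (δ x)) (n : ℕ) :
    (ι b * D) ^ n = ∑ k ∈ range (n + 1), ι (P δ b n k) * D ^ k := by
  induction n with
  | zero => simp [P]
  | succ n ih =>
    rw [pow_succ', ih, Finset.mul_sum]
    have h1 : ∀ k, ι b * D * (ι (P δ b n k) * D ^ k) =
        ι (b * P δ b n k) * D ^ (k + 1) + ι (b * δ (P δ b n k)) * D ^ k := fun k => by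
      rw [mul_assoc, ← mul_assoc D, hD, pow_succ', map_mul, map_mul]
      noncomm_ring
    rw [Finset.sum_congr rfl fun k _ => h1 k, Finset.sum_add_distrib,
      Finset.sum_range_succ' (fun k => ι (P δ b (n + 1) k) * D ^ k)]
    have h2 : ∑ k ∈ range (n + 1), ι (b * δ (P δ b n k)) * D ^ k =
        ∑ k ∈ range (n + 1), ι (b * δ (P δ b n (k + 1))) * D ^ (k + 1) + ι (b * δ (P δ b n 0)) * D ^ 0 := by
      rw [← Finset.sum_range_succ' (fun k => ι (b * δ (P δ b n k)) * D ^ k), Finset.sum_range_succ _ (n + 1),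
        P_lt δ b n (n + 1) (by omega)]
      simp
    rw [h2, ← add_assoc, ← Finset.sum_add_distrib]
    refine congrArg₂ (· + ·) (Finset.sum_congr rfl fun k _ => ?_) rfl
    simp only [P, map_mul, map_add]
    noncomm_ring

lemma iterate_mul (f g : B) (n : ℕ) :
    (⇑δ)^[n] (f * g) = ∑ i ∈ range (n + 1), (n.choose i : B) * ((⇑δ)^[i] f * (⇑δ)^[n - i] g) := by
  induction n with
  | zero => simp
  | succ n ih =>
    rw [Function.iterate_succ_apply', ih, map_sum,
      Finset.sum_choose_succ_mul (fun i j => (⇑δ)^[i] f * (⇑δ)^[j] g) n, ← Finset.sum_add_distrib]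
    refine Finset.sum_congr rfl fun i hi => ?_
    have hi' : i ≤ n := by simpa using hi
    rw [Derivation.leibniz, Derivation.map_natCast, smul_zero, add_zero, Derivation.leibniz,
      show n + 1 - i = (n - i) + 1 by omega, Function.iterate_succ_apply', Function.iterate_succ_apply']
    simp only [smul_eq_mul]
    ring

lemma iterate_eq_pow (n : ℕ) (x : B) : ((δ : B →ₗ[K] B) ^ n) x = (⇑δ)^[n] x := by
  rw [Module.End.pow_apply]; rfl

variable (p : ℕ) [hp : Fact p.Prime] [CharP B p]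

lemma iterate_prime_leibniz (f g : B) :
    (⇑δ)^[p] (f * g) = f * (⇑δ)^[p] g + g * (⇑δ)^[p] f := by
  rw [iterate_mul, Finset.sum_range_succ,
    Finset.sum_eq_single_of_mem 0 (Finset.mem_range.2 hp.out.pos) fun i hi h0 => ?_]
  · simp; ring
  · have : (p.choose i : B) = 0 := (CharP.cast_eq_zero_iff B p _).2
      (hp.out.dvd_choose_self h0 (Finset.mem_range.1 hi))
    simp [this]

/-- The `p`-th iterate of a derivation. -/
noncomputable def iterPow : Derivation K B B :=
  Derivation.mk' ((δ : B →ₗ[K] B) ^ p) fun f g => by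
    simp only [iterate_eq_pow, iterate_prime_leibniz δ p f g, smul_eq_mul]

lemma iterPow_apply (x : B) : iterPow δ p x = (⇑δ)^[p] x := iterate_eq_pow δ p x

end Basic

section Universal

variable (p : ℕ) [hp : Fact p.Prime]

open MvPolynomial

/-- Shift of variables. -/
noncomputable def shiftX : Derivation (ZMod p) (MvPolynomial ℕ (ZMod p)) (MvPolynomial ℕ (ZMod p)) :=
  mkDerivation _ fun i => X (i + 1)

/-- Shift of three families of variables. -/
noncomputable def shiftY : Derivation (ZMod p) (MvPolynomial (ℕ ⊕ Bool × ℕ) (ZMod p))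
    (MvPolynomial (ℕ ⊕ Bool × ℕ) (ZMod p)) :=
  mkDerivation _ fun v => Sum.elim (fun i => X (Sum.inl (i + 1))) (fun w => X (Sum.inr (w.1, w.2 + 1))) v

lemma P_map {B C : Type*} [CommRing B] [CommRing C] (φ : B →+* C) (δ : B → B) (ε : C → C)
    (h : ∀ x, φ (δ x) = ε (φ x)) (b : B) : ∀ n k, φ (P δ b n k) = P ε (φ b) n k
  | 0, 0 => map_one φ
  | 0, _ + 1 => map_zero φ
  | n + 1, 0 => by simp only [P, map_mul, h, P_map φ δ ε h b n 0]
  | n + 1, k + 1 => by simp only [P, map_mul, map_add, h, P_map φ δ ε h b n (k + 1), P_map φ δ ε h b n k]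

lemma iterate_shiftY (w : Bool) (i k : ℕ) :
    (⇑(shiftY p))^[k] (X (Sum.inr (w, i))) = X (Sum.inr (w, i + k)) := by
  induction k with
  | zero => rfl
  | succ k ih => rw [Function.iterate_succ_apply', ih]; simp [shiftY, mkDerivation_X, add_assoc]

lemma shift_rename (f : MvPolynomial ℕ (ZMod p)) :
    rename Sum.inl (shiftX p f) = shiftY p (rename Sum.inl f) := by
  induction f using MvPolynomial.induction_on with
  | C a => simp [shiftX, shiftY, MvPolynomial.rename_C]
  | add f g hf hg => simp [map_add, hf, hg]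
  | mul_X f i hf =>
    simp only [shiftX, shiftY] at hf
    simp [Derivation.leibniz, shiftX, shiftY, mkDerivation_X, hf]

lemma pderiv_rename_inl (f : MvPolynomial ℕ (ZMod p)) (w : Bool × ℕ) :
    pderiv (Sum.inr w : ℕ ⊕ Bool × ℕ) (rename Sum.inl f) = 0 := by
  induction f using MvPolynomial.induction_on with
  | C a => simp
  | add f g hf hg => simp [map_add, hf, hg]
  | mul_X f i hf => simp [hf]

/-- Hochschild's vanishing in the universal case. -/
theorem P_universal (k : ℕ) (hk : 2 ≤ k) (hkp : k < p) : P (shiftX p) (X 0) p k = 0 := by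
  apply (rename_injective (Sum.inl : ℕ → ℕ ⊕ Bool × ℕ) Sum.inl_injective)
  rw [map_zero]
  let Q : ℕ → (MvPolynomial (ℕ ⊕ Bool × ℕ) (ZMod p)) := fun j => P (shiftY p) (X (Sum.inl 0)) p j
  have hQ : ∀ j, Q j = rename Sum.inl (P (shiftX p) (X 0) p j) := fun j => by
    have := P_map (rename (Sum.inl : ℕ → ℕ ⊕ Bool × ℕ) : MvPolynomial ℕ (ZMod p) →ₐ[ZMod p] (MvPolynomial (ℕ ⊕ Bool × ℕ) (ZMod p))).toRingHom
      (shiftX p) (shiftY p) (shift_rename p) (X 0) p j
    simp only [AlgHom.toRingHom_eq_coe, RingHom.coe_coe, rename_X] at this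
    exact this.symm
  have hQd : ∀ j w, pderiv (Sum.inr w : ℕ ⊕ Bool × ℕ) (Q j) = 0 := fun j w => by
    rw [hQ]; exact pderiv_rename_inl p _ w
  let y : ℕ → (MvPolynomial (ℕ ⊕ Bool × ℕ) (ZMod p)) := fun i => X (Sum.inr (false, i))
  let z : ℕ → (MvPolynomial (ℕ ⊕ Bool × ℕ) (ZMod p)) := fun i => X (Sum.inr (true, i))
  let E : Derivation (ZMod p) (MvPolynomial (ℕ ⊕ Bool × ℕ) (ZMod p)) (MvPolynomial (ℕ ⊕ Bool × ℕ) (ZMod p)) := (X (Sum.inl 0) : (MvPolynomial (ℕ ⊕ Bool × ℕ) (ZMod p))) • shiftY p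
  have hE : ∀ f : (MvPolynomial (ℕ ⊕ Bool × ℕ) (ZMod p)), (⇑E)^[p] f = ∑ j ∈ range (p + 1), Q j * (⇑(shiftY p))^[j] f := fun f => by
    have h := mul_pow_eq (shiftY p) (X (Sum.inl 0)) (Algebra.lmul (ZMod p) (MvPolynomial (ℕ ⊕ Bool × ℕ) (ZMod p))).toRingHom
      (shiftY p : (MvPolynomial (ℕ ⊕ Bool × ℕ) (ZMod p)) →ₗ[ZMod p] (MvPolynomial (ℕ ⊕ Bool × ℕ) (ZMod p))) (fun x => LinearMap.ext fun g => by
        simp only [AlgHom.toRingHom_eq_coe, RingHom.coe_coe, Module.End.mul_apply, LinearMap.add_apply,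
          Algebra.lmul, AlgHom.coe_mk]
        show shiftY p (x * g) = x * shiftY p g + shiftY p x * g
        rw [Derivation.leibniz]
        simp only [smul_eq_mul]
        ring) p
    have h' := LinearMap.congr_fun h f
    rw [LinearMap.coe_sum, Finset.sum_apply] at h'
    refine Eq.trans ?_ (h'.trans (Finset.sum_congr rfl fun j _ => ?_))
    · rw [Module.End.pow_apply]; rfl
    · rw [Module.End.mul_apply, Module.End.pow_apply]; rfl
  have key : ∑ j ∈ range (p + 1), Q j * ∑ i ∈ range (j + 1), (j.choose i : (MvPolynomial (ℕ ⊕ Bool × ℕ) (ZMod p))) * (y i * z (j - i)) =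
      y 0 * ∑ j ∈ range (p + 1), Q j * z j + z 0 * ∑ j ∈ range (p + 1), Q j * y j := by
    have h := iterate_prime_leibniz E p (y 0) (z 0)
    rw [hE, hE, hE] at h
    simpa [iterate_mul, y, z, iterate_shiftY] using h
  have hyy : ∀ i, pderiv (Sum.inr (false, 1) : ℕ ⊕ Bool × ℕ) (y i) = if i = 1 then 1 else 0 := fun i => by
    rcases eq_or_ne i 1 with rfl | hi
    · simp [y]
    · rw [if_neg hi]; exact pderiv_X_of_ne (by simpa using hi)
  have hyz : ∀ i, pderiv (Sum.inr (false, 1) : ℕ ⊕ Bool × ℕ) (z i) = 0 := fun i => by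
    exact pderiv_X_of_ne (by simp)
  have hz : ∀ i, pderiv (Sum.inr (true, k - 1) : ℕ ⊕ Bool × ℕ) (z i) = if i = k - 1 then 1 else 0 := fun i => by
    rcases eq_or_ne i (k - 1) with rfl | hi
    · simp [z]
    · rw [if_neg hi]; exact pderiv_X_of_ne (by simpa using hi)
  have h1 := congrArg (pderiv (Sum.inr (false, 1) : ℕ ⊕ Bool × ℕ)) key
  simp only [map_sum, map_add, pderiv_mul, Derivation.map_natCast, hQd, hyy, hyz, zero_mul, mul_zero,
    zero_add, add_zero, Finset.sum_const_zero, mul_ite, mul_one, ite_mul, one_mul, Finset.sum_ite_eq',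
    Finset.mem_range, show (0 : ℕ) ≠ 1 by omega, if_false] at h1
  have h2 := congrArg (pderiv (Sum.inr (true, k - 1) : ℕ ⊕ Bool × ℕ)) h1
  have hk1 : ∀ j, (1 < j + 1 ∧ j - 1 = k - 1) ↔ j = k := fun j => by omega
  simp only [map_sum, apply_ite (pderiv (Sum.inr (true, k - 1) : ℕ ⊕ Bool × ℕ)), pderiv_mul, map_zero,
    Derivation.map_natCast, hQd, hz, zero_mul, mul_zero, zero_add, add_zero, mul_ite, mul_one,
    show (0 : ℕ) ≠ k - 1 by omega, if_false, ← ite_and, hk1, Finset.sum_ite_eq', Finset.mem_range,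
    show k < p + 1 by omega, if_true, ite_self, Nat.choose_one_right] at h2
  have hkne : (k : ZMod p) ≠ 0 := fun h =>
    (Nat.not_dvd_of_pos_of_lt (by omega) hkp) ((ZMod.natCast_eq_zero_iff _ _).1 h)
  have hu : IsUnit (k : (MvPolynomial (ℕ ⊕ Bool × ℕ) (ZMod p))) := by
    rw [← map_natCast (algebraMap (ZMod p) (MvPolynomial (ℕ ⊕ Bool × ℕ) (ZMod p)))]
    exact (isUnit_iff_ne_zero.2 hkne).map _
  rw [← hQ]
  exact hu.mul_left_eq_zero.1 h2

end Universal

/-- Hochschild's vanishing. -/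
theorem P_eq_zero {B : Type u} [CommRing B] {K : Type v} [CommRing K] [Algebra K B] (δ : Derivation K B B)
    (b : B) (p : ℕ) [Fact p.Prime] [CharP B p] (k : ℕ) (hk : 2 ≤ k) (hkp : k < p) : P δ b p k = 0 := by
  letI := ZMod.algebra B p
  let φ : MvPolynomial ℕ (ZMod p) →ₐ[ZMod p] B := MvPolynomial.aeval fun i => (⇑δ)^[i] b
  have h : ∀ f, φ (shiftX p f) = δ (φ f) := fun f => by
    induction f using MvPolynomial.induction_on with
    | C a =>
      obtain ⟨n, rfl⟩ := ZMod.natCast_zmod_surjective a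
      simp [shiftX]
    | add f g hf hg => simp [map_add, hf, hg]
    | mul_X f i hf =>
      simp [φ, Derivation.leibniz, shiftX, MvPolynomial.mkDerivation_X, Function.iterate_succ_apply'] at hf ⊢
      rw [hf]
  have := P_map φ.toRingHom (shiftX p) δ h (MvPolynomial.X 0) p k
  rw [P_universal p k hk hkp, map_zero] at this
  simpa [φ] using this.symm

/-- Hochschild's formula. -/
theorem mul_pow_prime {B : Type u} [CommRing B] {K : Type v} [CommRing K] [Algebra K B] (δ : Derivation K B B)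
    (b : B) (p : ℕ) [hp : Fact p.Prime] [CharP B p] {R : Type*} [Ring R] (ι : B →+* R) (D : R)
    (hD : ∀ x, D * ι x = ι x * D + ι (δ x)) :
    (ι b * D) ^ p = ι (b ^ p) * D ^ p + ι (P δ b p 1) * D := by
  have h2 : 2 ≤ p := hp.out.two_le
  rw [mul_pow_eq δ b ι D hD p, Finset.sum_range_succ, P_self,
    Finset.sum_eq_single_of_mem 1 (Finset.mem_range.2 (by omega)) fun k hk hk1 => ?_]
  · rw [pow_one, add_comm]
  · rcases Nat.eq_zero_or_pos k with rfl | hk0
    · obtain ⟨m, rfl⟩ : ∃ m, p = m + 1 := ⟨p - 1, by omega⟩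
      rw [P_zero, map_zero, zero_mul]
    · rw [P_eq_zero δ b p k (by omega) (Finset.mem_range.1 hk), map_zero, zero_mul]

end Groth.Agent.H9Misc.Hochschild
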