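import Groth.Agent.H9Misc.SerreRight
import Groth.Agent.S6746
import Groth.Agent.S6742
import Groth.Agent.S1006
import Groth.Prelude.Def_KLin
import Groth.Prelude.Def_SGA6
import Mathlib.CategoryTheory.Triangulated.HomologicalFunctor

/-!
# Right Serre functor on perfect complexes of a regular proper scheme
-/

set_option autoImplicit false
set_option linter.style.haveILetI false
set_option linter.unusedSectionVars false
set_option backward.isDefEq.respectTransparency false
set_option backward.isDefEq.respectTransparency.types false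
set_option maxHeartbeats 1000000

universe u

open CategoryTheory CategoryTheory.Limits CategoryTheory.Pretriangulated AlgebraicGeometry Opposite

attribute [local instance] HasDerivedCategory.standard

noncomputable section

namespace Groth.Agent.H9Misc.PerfSerre

open Groth.Agent SerreRep SerreRight

variable (k : Type u) [Field k] {X : Scheme.{u}} [X.Over (Spec (CommRingCat.of k))]

/-- Perfect objects. -/
abbrev T (X : Scheme.{u}) := (SGA6.perfP X).FullSubcategory

/-- Hom spaces of the full subcategory. -/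
def homLin (A B : T X) : (A ⟶ B) ≃ₗ[k] (A.obj ⟶ B.obj) :=
  LinearEquiv.ofBijective ((ObjectProperty.ι (SGA6.perfP X)).mapLinearMap k)
    ((SGA6.perfP X).fullyFaithfulι.map_bijective A B)

/-- The dual of a functor. -/
def dualOf (G : T X ⥤ ModuleCat.{u + 1} k) : (T X)ᵒᵖ ⥤ ModuleCat.{u + 1} k where
  obj E := ModuleCat.of k (Module.Dual k (G.obj E.unop))
  map f := ModuleCat.ofHom (G.map f.unop).hom.dualMap
  map_id E := by
    refine ModuleCat.hom_ext (LinearMap.ext fun φ => LinearMap.ext fun x => ?_)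
    show φ (G.map (𝟙 E.unop) x) = φ x
    rw [G.map_id]; rfl
  map_comp f g := by
    refine ModuleCat.hom_ext (LinearMap.ext fun φ => LinearMap.ext fun x => ?_)
    show φ (G.map (g.unop ≫ f.unop) x) = φ (G.map f.unop (G.map g.unop x))
    rw [G.map_comp]; rfl

variable [IsProper (X ↘ Spec (CommRingCat.of k))] [(SGA6.perfP X).IsTriangulated]

theorem finite_hom (A B : T X) : Module.Finite k (A ⟶ B) := by
  haveI : IsNoetherian X := Groth.Agent.KExact.BCNat.isNoetherian_of_ft (X ↘ Spec (CommRingCat.of k))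
  haveI := (Groth.Agent.S6742.result k X B.obj (Groth.Agent.S1006.result X B.obj B.property) A.obj A.property).1 0
  exact Module.Finite.equiv ((Linear.homCongr k (Iso.refl A.obj) ((shiftFunctorZero (DCoh.D X) ℤ).app B.obj)).trans
    (homLin k A B).symm)

/-- Homs into shifts in the subcategory. -/
def homShift (A B : T X) (n : ℤ) :
    (A ⟶ (shiftFunctor (T X) n).obj B) ≃ₗ[k] (A.obj ⟶ B.obj⟦n⟧) :=
  (homLin k A _).trans (Linear.homCongr k (Iso.refl A.obj) (((SGA6.perfP X).ι.commShiftIso n).app B))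

include k in
theorem finite_set_hom (A B : T X) : Set.Finite {n : ℤ | Nontrivial (A ⟶ (shiftFunctor (T X) n).obj B)} := by
  haveI : IsNoetherian X := Groth.Agent.KExact.BCNat.isNoetherian_of_ft (X ↘ Spec (CommRingCat.of k))
  refine (Groth.Agent.S6742.result k X B.obj (Groth.Agent.S1006.result X B.obj B.property) A.obj A.property).2.subset
    fun n (hn : Nontrivial _) => (homShift k A B n).toEquiv.symm.nontrivial

omit [IsProper (X ↘ Spec (CommRingCat.of k))] in
/-- A distinguished triangle with perfect vertices, in the subcategory. -/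
theorem exists_lift_triangle (T₀ : Triangle (DCoh.D X)) (hT : T₀ ∈ distTriang (DCoh.D X))
    (h₁ : DCoh.IsPerfect T₀.obj₁) (h₂ : DCoh.IsPerfect T₀.obj₂) (h₃ : DCoh.IsPerfect T₀.obj₃) :
    ∃ m₃, Triangle.mk (ObjectProperty.homMk T₀.mor₁ : (⟨T₀.obj₁, h₁⟩ : T X) ⟶ ⟨T₀.obj₂, h₂⟩)
      (ObjectProperty.homMk T₀.mor₂ : (⟨T₀.obj₂, h₂⟩ : T X) ⟶ ⟨T₀.obj₃, h₃⟩) m₃ ∈ distTriang (T X) := by
  let e := ((SGA6.perfP X).ι.commShiftIso (1 : ℤ)).app (⟨T₀.obj₁, h₁⟩ : T X)
  refine ⟨(ObjectProperty.homMk (T₀.mor₃ ≫ e.inv) :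
    (⟨T₀.obj₃, h₃⟩ : T X) ⟶ (shiftFunctor (T X) (1 : ℤ)).obj ⟨T₀.obj₁, h₁⟩), ?_⟩
  refine isomorphic_distinguished _ hT _ (Triangle.isoMk _ _ (Iso.refl _) (Iso.refl _) (Iso.refl _) ?_ ?_ ?_)
  · exact (Category.comp_id _).trans (Category.id_comp _).symm
  · exact (Category.comp_id _).trans (Category.id_comp _).symm
  · show ((T₀.mor₃ ≫ e.inv) ≫ e.hom) ≫
      (shiftFunctor (DCoh.D X) (1 : ℤ)).map (𝟙 T₀.obj₁) = 𝟙 T₀.obj₃ ≫ T₀.mor₃
    refine (congrArg (_ ≫ ·) ((shiftFunctor (DCoh.D X) (1 : ℤ)).map_id T₀.obj₁)).trans ?_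
    refine (Category.comp_id _).trans ((Category.assoc _ _ _).trans ?_)
    exact ((congrArg (_ ≫ ·) e.inv_hom_id).trans (Category.comp_id _)).trans (Category.id_comp _).symm

variable (hreg : Models.IsRegularScheme X)

include hreg in
/-- Duals of finite homological functors are representable. -/
theorem exists_rep (G : T X ⥤ ModuleCat.{u + 1} k) [G.Additive] [G.Linear k] [G.IsHomological]
    (hfin : ∀ E : T X, (∀ n : ℤ, Module.Finite k (G.obj ((shiftFunctor (T X) n).obj E))) ∧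
      Set.Finite {n : ℤ | Nontrivial (G.obj ((shiftFunctor (T X) n).obj E))}) :
    ∃ (K : T X) (e : ∀ E : T X, (E ⟶ K) ≃ₗ[k] Module.Dual k (G.obj E)),
      ∀ (E E' : T X) (g : E' ⟶ E) (f : E ⟶ K), e E' (g ≫ f) = (e E f) ∘ₗ (G.map g).hom := by
  haveI : (dualOf k G).Additive := ⟨fun {E E'} {f g} => by
    refine ModuleCat.hom_ext (LinearMap.ext fun φ => LinearMap.ext fun x => ?_)
    let φ' : Module.Dual k (G.obj E.unop) := φ
    show φ' (G.map (f.unop + g.unop) x) = φ' (G.map f.unop x) + φ' (G.map g.unop x)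
    rw [G.map_add]; exact map_add φ' _ _⟩
  obtain ⟨K, hK, ⟨e⟩⟩ := Groth.Agent.S6746.result k X hreg (dualOf k G)
    (fun A B r f => by
      refine ModuleCat.hom_ext (LinearMap.ext fun φ => LinearMap.ext fun x => ?_)
      let φ' : Module.Dual k (G.obj B) := φ
      show φ' (G.map (r • f) x) = r • φ' (G.map f x)
      rw [G.map_smul]; exact map_smul φ' _ _)
    (fun T₀ hT h₁ h₂ h₃ y hy => by
      obtain ⟨m₃, hm⟩ := exists_lift_triangle T₀ hT h₁ h₂ h₃
      have hex := (ShortComplex.moduleCat_exact_iff _).1 (G.map_distinguished_exact _ hm)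
      let y' : Module.Dual k (G.obj ⟨T₀.obj₂, h₂⟩) := y
      let ψ := (G.map (ObjectProperty.homMk T₀.mor₂ : (⟨T₀.obj₂, h₂⟩ : T X) ⟶ ⟨T₀.obj₃, h₃⟩)).hom
      have hker : LinearMap.ker ψ ≤ LinearMap.ker y' := fun a ha => by
        obtain ⟨b, rfl⟩ := hex a ha
        exact LinearMap.congr_fun hy b
      obtain ⟨z, hz⟩ := LinearMap.exists_extend (p := LinearMap.range ψ)
        ((Submodule.liftQ (LinearMap.ker ψ) y' hker) ∘ₗ ψ.quotKerEquivRange.symm.toLinearMap)
      refine ⟨z, LinearMap.ext fun a => ?_⟩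
      refine (LinearMap.congr_fun hz ⟨ψ a, LinearMap.mem_range_self ψ a⟩).trans ?_
      show Submodule.liftQ _ y' hker (ψ.quotKerEquivRange.symm ⟨ψ a, _⟩) = y' a
      rw [show ψ.quotKerEquivRange.symm ⟨ψ a, LinearMap.mem_range_self ψ a⟩ = Submodule.Quotient.mk a from
        (LinearEquiv.symm_apply_eq _).2 (Subtype.ext (ψ.quotKerEquivRange_apply_mk a).symm)]
      rfl)
    (fun E => ⟨fun n => by
      haveI := (hfin E).1 n
      exact (inferInstance : Module.Finite k (Module.Dual k (G.obj ((shiftFunctor (T X) n).obj E)))),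
      (hfin E).2.subset fun n (hn : Nontrivial (Module.Dual k (G.obj ((shiftFunctor (T X) n).obj E)))) => by
        show Nontrivial (G.obj ((shiftFunctor (T X) n).obj E))
        by_contra h
        haveI := not_nontrivial_iff_subsingleton.1 h
        exact false_of_nontrivial_of_subsingleton (Module.Dual k (G.obj ((shiftFunctor (T X) n).obj E)))⟩)
  refine ⟨⟨K, hK⟩, fun E => (homLin k E ⟨K, hK⟩).trans (e.app (op E)).toLinearEquiv.symm, fun E E' g f => ?_⟩
  exact LinearMap.congr_fun (congrArg ModuleCat.Hom.hom (e.inv.naturality g.op)) f.hom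

omit [IsProper (X ↘ Spec (CommRingCat.of k))] in
theorem linear_coyoneda (A : T X) : Functor.Linear k ((linearCoyoneda k (T X)).obj (op A)) :=
  ⟨fun f r => ModuleCat.hom_ext (LinearMap.ext fun x => Linear.comp_smul _ _ _ x r f)⟩

omit [IsProper (X ↘ Spec (CommRingCat.of k))] in
theorem homological_coyoneda (A : T X) : ((linearCoyoneda k (T X)).obj (op A)).IsHomological where
  map_zero Y Z := ModuleCat.hom_ext (LinearMap.ext fun x => comp_zero (f := (x : A ⟶ Y)))
  exact T' hT := (ShortComplex.moduleCat_exact_iff _).2 fun x hx => by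
    obtain ⟨y, hy⟩ := Triangle.coyoneda_exact₂ T' hT x hx
    exact ⟨y, hy.symm⟩

include hreg in
theorem exists_data : Nonempty (Data k (T X)) := by
  haveI := finite_hom k (X := X)
  haveI := linear_coyoneda k (X := X)
  haveI := homological_coyoneda k (X := X)
  choose K e he using fun A : T X => exists_rep k hreg ((linearCoyoneda k (T X)).obj (op A)) fun E =>
    ⟨fun n => finite_hom k A ((shiftFunctor (T X) n).obj E), finite_set_hom k A E⟩
  exact ⟨⟨K, fun A => e A (K A) (𝟙 _), fun A => exists_isRep (e A) (he A)⟩⟩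

theorem exists_shift_iso (d : Data k (T X)) (A : T X) (n : ℤ) :
    Nonempty (d.S.obj (A⟦n⟧) ≅ (d.S.obj A)⟦n⟧) := by
  haveI := finite_hom k (X := X)
  have step : ∀ (B : T X) (m : ℤ), Nonempty (d.S.obj (B⟦m + 1⟧) ≅ (d.S.obj (B⟦m⟧))⟦(1 : ℤ)⟧) := fun B m => by
    haveI := isIso_dApp d (B⟦m⟧)
    exact ⟨d.S.mapIso ((shiftFunctorAdd (T X) m 1).app B) ≪≫ (asIso (dApp d (B⟦m⟧))).symm⟩
  induction n using Int.induction_on with
  | zero => exact ⟨d.S.mapIso ((shiftFunctorZero (T X) ℤ).app A) ≪≫ ((shiftFunctorZero (T X) ℤ).app _).symm⟩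
  | succ i ih =>
    obtain ⟨e₁⟩ := step A i
    obtain ⟨e₀⟩ := ih
    exact ⟨e₁ ≪≫ (shiftFunctor (T X) (1 : ℤ)).mapIso e₀ ≪≫ ((shiftFunctorAdd (T X) (i : ℤ) 1).app _).symm⟩
  | pred i ih =>
    obtain ⟨e₁⟩ := step A (-(i : ℤ) - 1)
    obtain ⟨e₀⟩ := ih
    rw [show (-(i : ℤ) - 1) + 1 = -(i : ℤ) by omega] at e₁
    exact ⟨((shiftFunctorCompIsoId (T X) (1 : ℤ) (-1) (by omega)).app _).symm ≪≫
      (shiftFunctor (T X) (-1 : ℤ)).mapIso (e₁.symm ≪≫ e₀) ≪≫
      ((shiftFunctorAdd' (T X) (-(i : ℤ)) (-1) (-(i : ℤ) - 1) (by omega)).app _).symm⟩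

include hreg in
/-- Universal maps from the image of the Serre functor. -/
theorem exists_universal (d : Data k (T X)) (K : T X) :
    ∃ (L : T X) (ε : d.S.obj L ⟶ K), ∀ A, Function.Bijective fun a : A ⟶ L => d.S.map a ≫ ε := by
  haveI := finite_hom k (X := X)
  let H : (T X)ᵒᵖ ⥤ ModuleCat.{u + 1} k := d.S.op ⋙ (linearYoneda k (T X)).obj K
  obtain ⟨L, hL, ⟨e⟩⟩ := Groth.Agent.S6746.result k X hreg H
    (fun A B r f => by
      refine ModuleCat.hom_ext (LinearMap.ext fun x => ?_)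
      show d.S.map (r • f) ≫ x = r • (d.S.map f ≫ x)
      rw [Functor.map_smul, Linear.smul_comp])
    (fun T₀ hT h₁ h₂ h₃ y hy => by
      obtain ⟨m₃, hm⟩ := exists_lift_triangle T₀ hT h₁ h₂ h₃
      obtain ⟨z, hz⟩ := Triangle.yoneda_exact₂ _ (distinguished d _ hm) y hy
      exact ⟨z, hz.symm⟩)
    (fun E => ⟨fun n => finite_hom k (d.S.obj ((shiftFunctor (T X) n).obj E)) K, by
      refine ((finite_set_hom k (d.S.obj E) K).image Neg.neg).subset fun n hn => ⟨-n, ?_, neg_neg n⟩
      replace hn : Nontrivial (d.S.obj (E⟦n⟧) ⟶ K) := hn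
      obtain ⟨es⟩ := exists_shift_iso k d E n
      let sh := (shiftEquiv (T X) n).toAdjunction.homEquiv (d.S.obj E) K
      exact (((Linear.homCongr k es (Iso.refl K)).toEquiv.trans sh).symm).nontrivial⟩)
  let L' : T X := ⟨L, hL⟩
  refine ⟨L', e.inv.app (op L') (𝟙 L), fun A => ?_⟩
  have key : (fun a : A ⟶ L' => d.S.map a ≫ (e.inv.app (op L') (𝟙 L) : d.S.obj L' ⟶ K)) =
      fun a => ((homLin k A L').trans (e.app (op A)).toLinearEquiv.symm) a := by
    funext a
    have h := LinearMap.congr_fun (congrArg ModuleCat.Hom.hom (e.inv.naturality a.op)) (𝟙 L : L ⟶ L)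
    refine Eq.trans h.symm ?_
    show e.inv.app (op A) (a.hom ≫ 𝟙 L) = e.inv.app (op A) a.hom
    rw [Category.comp_id]
  rw [key]
  exact ((homLin k A L').trans (e.app (op A)).toLinearEquiv.symm).bijective

include hreg in
/-- Corepresentability, given that the Serre functor has no orthogonal. -/
theorem exists_corep (d : Data k (T X))
    (horth : ∀ C : T X, (∀ (A : T X) (f : d.S.obj A ⟶ C), f = 0) → IsZero C)
    (G : T X ⥤ ModuleCat.{u + 1} k) [G.Additive] [G.Linear k] [G.IsHomological]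
    (hfin : ∀ E : T X, (∀ n : ℤ, Module.Finite k (G.obj ((shiftFunctor (T X) n).obj E))) ∧
      Set.Finite {n : ℤ | Nontrivial (G.obj ((shiftFunctor (T X) n).obj E))}) :
    ∃ A : T X, Nonempty (G ≅ (linearCoyoneda k (T X)).obj (op A)) := by
  haveI := finite_hom k (X := X)
  obtain ⟨K, e, he⟩ := exists_rep k hreg G hfin
  obtain ⟨A, ε, hε⟩ := exists_universal k hreg d K
  haveI := isIso_of_universal d ε hε horth
  haveI : ∀ E, Module.Finite k (G.obj E) := fun E => by
    haveI := (hfin E).1 0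
    exact Module.Finite.equiv (G.mapIso ((shiftFunctorZero (T X) ℤ).app E)).toLinearEquiv
  let c : ∀ E : T X, Module.Dual k (G.obj E) ≃ₗ[k] Module.Dual k (A ⟶ E) := fun E =>
    ((e E).symm.trans (Linear.homCongr k (Iso.refl E) (asIso ε).symm)).trans (rep d A E)
  let θ : ∀ E : T X, (A ⟶ E) ≃ₗ[k] G.obj E := fun E =>
    ((Module.evalEquiv k (A ⟶ E)).trans (c E).dualMap).trans (Module.evalEquiv k (G.obj E)).symm
  have hθ : ∀ (E : T X) (a : A ⟶ E) (φ : Module.Dual k (G.obj E)), φ (θ E a) = c E φ a := fun E a φ => by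
    show φ ((Module.evalEquiv k (G.obj E)).symm ((c E).dualMap (Module.evalEquiv k (A ⟶ E) a))) = _
    rw [Module.apply_evalEquiv_symm_apply]
    rfl
  refine ⟨A, ⟨(NatIso.ofComponents (fun E => (θ E).toModuleIso) fun {E E'} g => ?_).symm⟩⟩
  refine ModuleCat.hom_ext (LinearMap.ext fun a => ?_)
  show θ E' (a ≫ g) = G.map g (θ E a)
  refine (Module.evalEquiv k (G.obj E')).injective (LinearMap.ext fun φ => ?_)
  show φ (θ E' (a ≫ g)) = (φ ∘ₗ (G.map g).hom) (θ E a)
  rw [hθ, hθ]
  obtain ⟨f, rfl⟩ := (e E').surjective φ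
  have h1 : (e E).symm ((e E' f) ∘ₗ (G.map g).hom) = g ≫ f := by
    rw [LinearEquiv.symm_apply_eq]; exact (he E' E g f).symm
  show rep d A E' (Linear.homCongr k (Iso.refl E') (asIso ε).symm ((e E').symm (e E' f))) (a ≫ g) =
    rep d A E (Linear.homCongr k (Iso.refl E) (asIso ε).symm ((e E).symm ((e E' f) ∘ₗ (G.map g).hom))) a
  rw [h1, LinearEquiv.symm_apply_apply, rep_apply, rep_apply]
  simp [Linear.homCongr_apply]

end Groth.Agent.H9Misc.PerfSerre
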