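import Groth.Agent.H9Misc.DiagPhi
import Groth.Agent.H9Misc.PerfSerre
import Groth.Agent.KFlatLib.Scheme.RpushBound
import Groth.Agent.AmpleVan.Vanish
import Groth.Agent.H28.PushLocFree

/-!
# Uniform vanishing of homological functors on coherent sheaves
-/

set_option autoImplicit false
set_option linter.style.haveILetI false
set_option backward.isDefEq.respectTransparency false
set_option backward.isDefEq.respectTransparency.types false
set_option maxHeartbeats 1000000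

universe v' u' u

open CategoryTheory CategoryTheory.Limits AlgebraicGeometry Pretriangulated ZeroObject

attribute [local instance] HasDerivedCategory.standard

noncomputable section

namespace Groth.Agent.H9Misc.HomBound

open KFlatLib

variable {X : Scheme.{u}} [(SGA6.perfP X).IsTriangulated] {A : Type u'} [Category.{v'} A] [Abelian A]
  (H : (SGA6.perfP X).FullSubcategory ⥤ A) [H.IsHomological]

/-- A perfect object all whose shifts outside `[-m, m]` are killed by `H`. -/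
def Bd (m : ℕ) : ObjectProperty (DCoh.D X) := fun Y => ∃ h : DCoh.IsPerfect Y,
  ∀ i : ℤ, (i < -(m : ℤ) ∨ (m : ℤ) < i) →
    IsZero (H.obj ((shiftFunctor (SGA6.perfP X).FullSubcategory i).obj ⟨Y, h⟩))

omit [H.IsHomological] in
theorem bd_mono {m m' : ℕ} (h : m ≤ m') {Y : DCoh.D X} : Bd H m Y → Bd H m' Y :=
  fun ⟨hY, hz⟩ => ⟨hY, fun i hi => hz i (by omega)⟩

instance (m : ℕ) : (Bd H m).IsClosedUnderIsomorphisms where
  of_iso e := fun ⟨h, hz⟩ => ⟨(SGA6.perfP X).prop_of_iso e h, fun i hi =>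
    (hz i hi).of_iso (H.mapIso ((shiftFunctor (SGA6.perfP X).FullSubcategory i).mapIso
      (ObjectProperty.isoMk (SGA6.perfP X) e))).symm⟩

instance (m : ℕ) : (Bd H m).IsStableUnderRetracts where
  of_retract {Y Z} r := fun ⟨h, hz⟩ => by
    refine ⟨(SGA6.perfP X).prop_of_retract r h, fun i hi => ?_⟩
    let r' : Retract (⟨Y, (SGA6.perfP X).prop_of_retract r h⟩ : (SGA6.perfP X).FullSubcategory) ⟨Z, h⟩ :=
      ⟨ObjectProperty.homMk r.i, ObjectProperty.homMk r.r, ObjectProperty.hom_ext _ r.retract⟩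
    let r'' := (r'.map (shiftFunctor (SGA6.perfP X).FullSubcategory i)).map H
    rw [IsZero.iff_id_eq_zero, ← r''.retract]
    exact (congrArg (· ≫ r''.r) ((hz i hi).eq_of_tgt r''.i 0)).trans zero_comp

theorem bd_ext {m : ℕ} (T₀ : Triangle (DCoh.D X)) (hT : T₀ ∈ distTriang (DCoh.D X))
    (h₁ : Bd H m T₀.obj₁) (h₃ : Bd H m T₀.obj₃) : Bd H m T₀.obj₂ := by
  obtain ⟨p₁, z₁⟩ := h₁
  obtain ⟨p₃, z₃⟩ := h₃
  have p₂ : DCoh.IsPerfect T₀.obj₂ := (SGA6.perfP X).ext_of_isTriangulatedClosed₂ _ hT p₁ p₃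
  obtain ⟨c, hc⟩ := PerfSerre.exists_lift_triangle T₀ hT p₁ p₂ p₃
  exact ⟨p₂, fun i hi => (H.map_distinguished_exact _ (Triangle.shift_distinguished _ hc i)).isZero_of_both_zeros
    ((z₁ i hi).eq_of_src _ _) ((z₃ i hi).eq_of_tgt _ _)⟩

instance (m : ℕ) : (Bd H m).ContainsZero :=
  ⟨⟨_, isZero_zero _, (SGA6.perfP X).prop_zero, fun i _ => (shiftFunctor _ i ⋙ H).map_isZero
    (IsZero.of_full_of_faithful_of_isZero (SGA6.perfP X).ι _ (isZero_zero _))⟩⟩

instance (m : ℕ) : (Bd H m).IsClosedUnderBinaryProducts where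
  limitsOfShape_le := by
    rintro Y ⟨p⟩
    haveI := HasBinaryBiproducts.of_hasBinaryProducts (C := DCoh.D X)
    let e : Y ≅ p.diag.obj ⟨WalkingPair.left⟩ ⊞ p.diag.obj ⟨WalkingPair.right⟩ :=
      p.isLimit.conePointUniqueUpToIso (limit.isLimit p.diag) ≪≫
        HasLimit.isoOfNatIso (diagramIsoPair p.diag) ≪≫ (biprod.isoProd _ _).symm
    exact (Bd H m).prop_of_iso e.symm (bd_ext H _ (binaryBiproductTriangle_distinguished _ _)
      (p.prop_diag_obj _) (p.prop_diag_obj _))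

omit [H.IsHomological] in
theorem bd_shift {m : ℕ} {Y : DCoh.D X} (hY : Bd H m Y) (n : ℤ) : Bd H (m + n.natAbs) (Y⟦n⟧) := by
  obtain ⟨h, hz⟩ := hY
  refine ⟨(SGA6.perfP X).le_shift n _ h, fun i hi => ?_⟩
  let e : (⟨Y⟦n⟧, (SGA6.perfP X).le_shift n _ h⟩ : (SGA6.perfP X).FullSubcategory) ≅
      (shiftFunctor (SGA6.perfP X).FullSubcategory n).obj ⟨Y, h⟩ :=
    ObjectProperty.isoMk _ (((SGA6.perfP X).ι.commShiftIso n).app ⟨Y, h⟩).symm
  exact (hz (n + i) (by omega)).of_iso (H.mapIso ((shiftFunctor _ i).mapIso e ≪≫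
    ((shiftFunctorAdd (SGA6.perfP X).FullSubcategory n i).app _).symm))

omit [H.IsHomological] in
theorem exists_bd (hfin : ∀ K : (SGA6.perfP X).FullSubcategory,
      Set.Finite {i : ℤ | ¬ IsZero (H.obj ((shiftFunctor (SGA6.perfP X).FullSubcategory i).obj K))})
    {Y : DCoh.D X} (hY : DCoh.IsPerfect Y) : ∃ m : ℕ, Bd H m Y := by
  obtain ⟨b, hb⟩ := ((hfin ⟨Y, hY⟩).image Int.natAbs).bddAbove
  refine ⟨b, hY, fun i hi => ?_⟩
  by_contra h
  have := hb ⟨i, h, rfl⟩
  omega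

variable (k : Type u) [Field k] (a : X ⟶ Spec (.of k)) [IsProper a] [Flat a]

/-- The functor attached to a coherent sheaf. -/
theorem exists_uniform (hfin : ∀ K : (SGA6.perfP X).FullSubcategory,
      Set.Finite {i : ℤ | ¬ IsZero (H.obj ((shiftFunctor (SGA6.perfP X).FullSubcategory i).obj K))})
    (E G : X.Modules) (hE : FlatMod.IsFinLocFree E) (hG : FlatMod.IsFinLocFree G)
    (hΔ : ObjectProperty.triangEnvelope
      (ObjectProperty.ofObj (fun _ : PUnit.{u + 1} => DCoh.inD (pullback a a) (CohB1.tensorMod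
        ((Scheme.Modules.pullback (pullback.fst a a)).obj E) ((Scheme.Modules.pullback (pullback.snd a a)).obj G))))
      (DCoh.inD (pullback a a) ((Coh.push (pullback.diagonal a)).obj (Coh.structureModule X)))) :
    ∃ m : ℕ, ∀ F : X.Modules, Coh.IsCoh F → DCoh.IsPerfect (DCoh.inD X F) → Bd H m (DCoh.inD X F) := by
  let p₁ := pullback.fst a a
  let p₂ := pullback.snd a a
  haveI := hasLpull a
  haveI := hasRpush_scheme a
  haveI := hasLpull p₁
  haveI := hasRpush_scheme p₂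
  haveI : IsLocallyNoetherian X := LocallyOfFiniteType.isLocallyNoetherian a
  haveI : HasInjectiveResolutions X.Modules := hasInjectiveResolutions_modules
  haveI := hasLTensorCx (DiagPhi.sg E)
  haveI := hasLTensorCx (DiagPhi.sg G)
  let A := fun F : X.Modules => repK ((DCoh.Lpull p₁).obj (DCoh.inD X F))
  haveI : ∀ F, DCoh.HasLTensorCx (A F) := fun F => hasLTensorCx _
  let Ψ := fun F : X.Modules => DCoh.LTensorCx (A F) ⋙ DCoh.Rpush p₂
  have hΨ : ∀ F, TriNat.PresTri (Ψ F) := fun F =>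
    TriNat.presTri_comp (TensorTri.presTri_ltensorCx _) (TriNat.presTri_rpush p₂)
  let Good : ObjectProperty (DCoh.D (pullback a a)) := fun T => ∃ m : ℕ,
    ∀ F : X.Modules, Coh.IsCoh F → DCoh.IsPerfect (DCoh.inD X F) → Bd H m ((Ψ F).obj T)
  haveI : Good.IsStableUnderRetracts :=
    ⟨fun r ⟨m, hm⟩ => ⟨m, fun F hF hp => (Bd H m).prop_of_retract (r.map (Ψ F)) (hm F hF hp)⟩⟩
  haveI : Good.IsClosedUnderIsomorphisms :=
    ⟨fun e ⟨m, hm⟩ => ⟨m, fun F hF hp => (Bd H m).prop_of_iso ((Ψ F).mapIso e) (hm F hF hp)⟩⟩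
  haveI : Good.IsTriangulated :=
    { exists_zero := ⟨0, isZero_zero _, 0, fun F _ _ =>
        (Bd H 0).prop_of_isZero ((hΨ F).isZero_obj (isZero_zero _))⟩
      isStableUnderShiftBy := fun n => ⟨fun T ⟨m, hm⟩ => ⟨m + n.natAbs, fun F hF hp => by
        obtain ⟨f⟩ := (hΨ F).nonempty_shift T n
        exact (Bd H _).prop_of_iso f.symm (bd_shift H (hm F hF hp) n)⟩⟩
      ext₂' := fun T hT h₁ h₃ => ObjectProperty.le_isoClosure _ _ (by
        obtain ⟨m, hm⟩ := h₁
        obtain ⟨m', hm'⟩ := h₃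
        refine ⟨max m m', fun F hF hp => ?_⟩
        obtain ⟨c, hc⟩ := hΨ F T hT
        exact bd_ext H _ hc (bd_mono H (le_max_left _ _) (hm F hF hp)) (bd_mono H (le_max_right _ _) (hm' F hF hp))) }
  -- the box product
  obtain ⟨d, hd⟩ := exists_Rpush_bound a
  obtain ⟨m₀, hm₀⟩ := exists_bd H hfin ((KFlatLib.isPerfect_iff _).2 (((KFlatLib.isPerfect_iff _).1
    (DiagPhi.isPerfect_sg hG)).of_iso ((DerivedCategory.singleFunctorIsoCompQ X.Modules 0).app G).symm))
  have hbox : Good (DCoh.inD (pullback a a) (CohB1.tensorMod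
      ((Scheme.Modules.pullback p₁).obj E) ((Scheme.Modules.pullback p₂).obj G))) := by
    refine ⟨m₀ + d, fun F hF hp => ?_⟩
    obtain ⟨e⟩ := DiagPhi.nonempty_box k a (DCoh.inD X F) hp E G hE hG (A F) (isKFlat_repK _) (repKIso _)
    refine (Bd H _).prop_of_iso e.symm ?_
    let M := (DCoh.tensorBi.obj E).obj F
    haveI := hasLTensorCx (DiagPhi.sg F)
    obtain ⟨sy⟩ := KFlatLib.nonempty_ltensor_symm (DiagPhi.sg E) (DiagPhi.sg F)
      (isKFlat_single_of_isFlat (isFlat_of_isFinLocFree hE))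
    obtain ⟨t⟩ := KFlatLib.nonempty_ltensor_inD (isFlat_of_isFinLocFree hE) F
    let eM : (DCoh.LTensorCx (DiagPhi.sg E)).obj (DCoh.inD X F) ≅ DCoh.inD X M :=
      (DCoh.LTensorCx _).mapIso ((DerivedCategory.singleFunctorIsoCompQ X.Modules 0).app F) ≪≫ sy ≪≫
        (DCoh.LTensorCx _).mapIso ((DerivedCategory.singleFunctorIsoCompQ X.Modules 0).app E).symm ≪≫ t
    have hM : Coh.IsCoh M := AmpleVan.isCoh_tensor (H28.PushLocFree.isCoh_of_isFinLocFree hE) hF
    let W := (DCoh.Rpush a).obj (DCoh.inD X M)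
    haveI : W.IsGE 0 := (DerivedCategory.isGE_iff _ _).2 fun i hi => isZero_hd_rpush_of_lt a _ 0 i hi
    haveI : W.IsLE d := (DerivedCategory.isLE_iff _ _).2 fun i hi => by
      obtain ⟨n, rfl⟩ := Int.eq_ofNat_of_zero_le (show 0 ≤ i by omega)
      exact (hd M hM.1 n (by omega)).of_iso (nonempty_hd_rpush_single a M n).some
    have hW : ∀ i, Coh.IsCoh (DCoh.HD W i) := fun i => by
      rcases lt_or_ge i 0 with h | h
      · exact KFlatLib.isCoh_of_isZero (DerivedCategory.isZero_of_isGE W 0 i h)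
      · obtain ⟨n, rfl⟩ := Int.eq_ofNat_of_zero_le h
        exact KFlatLib.isCoh_of_iso (nonempty_hd_rpush_single a M n).some.symm
          (QCoh.isCoh_Rpush_of_properSupport a hM
            (isProperOver_of_isProper a (QCoh.isClosed_support_of_isFT hM.1 hM.2)) n)
    let Fn := DCoh.Lpull a ⋙ DCoh.LTensorCx (DiagPhi.sg G)
    have hFn : TriNat.PresTri Fn := TriNat.presTri_comp (TriNat.presTri_lpull a) (TensorTri.presTri_ltensorCx _)
    let Q : ObjectProperty (DCoh.D (Spec (.of k))) := fun W => Bd H (m₀ + d) (Fn.obj W)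
    haveI := EnvMap.closedUnderBinaryProducts_comap (Bd H (m₀ + d)) hFn
    haveI : Q.IsClosedUnderIsomorphisms := ⟨fun e h => (Bd H _).prop_of_iso (Fn.mapIso e) h⟩
    haveI : Q.IsStableUnderRetracts := ⟨fun r h => (Bd H _).prop_of_retract (r.map Fn) h⟩
    haveI : Q.ContainsZero := ⟨⟨_, isZero_zero _, (Bd H _).prop_of_isZero (hFn.isZero_obj (isZero_zero _))⟩⟩
    refine (Bd H _).prop_of_iso (Fn.mapIso ((DCoh.Rpush a).mapIso eM)).symm ?_
    refine EnvPoint.mem_of_shifts k W 0 d hW Q fun j hj => ?_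
    obtain ⟨u⟩ := KExact.SmoothShriek.nonempty_lpull_inD a
    obtain ⟨t'⟩ := KFlatLib.nonempty_ltensor_inD
      (isFlat_of_isFinLocFree (H23.PullPush.isFinLocFree_of_isInvertible (InvX.isInvertible_structureModule (X := X)))) G
    obtain ⟨f⟩ := hFn.nonempty_shift (DCoh.inD (Spec (.of k)) (Coh.structureModule _)) (-j)
    refine (Bd H _).prop_of_iso (f ≪≫ (shiftFunctor (DCoh.D X) (-j)).mapIso
      ((DCoh.LTensorCx _).mapIso u.symm ≪≫ t' ≪≫ (DerivedCategory.singleFunctor X.Modules 0).mapIso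
        ((((tensorBiFlipIso X).app (Coh.structureModule X)).app G).symm ≪≫ (tensorStructureIso X).app G))).symm ?_
    exact bd_mono H (by omega) (bd_shift H hm₀ (-j))
  obtain ⟨m, hm⟩ := (ObjectProperty.triangEnvelope_le_iff (Q := Good) _).2
    (fun Y hY => by obtain ⟨_⟩ := hY; exact hbox) _ hΔ
  refine ⟨m, fun F hF hp => ?_⟩
  let O := DiagPhi.sg ((Coh.push (pullback.diagonal a)).obj (Coh.structureModule X))
  haveI := hasLTensorCx O
  let eO : DCoh.toD _ O ≅ DCoh.inD _ ((Coh.push (pullback.diagonal a)).obj (Coh.structureModule X)) :=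
    ((DerivedCategory.singleFunctorIsoCompQ _ 0).app _).symm
  obtain ⟨φ⟩ := S13565.result a O ⟨eO⟩
  obtain ⟨sy⟩ := KFlatLib.nonempty_ltensor_symm (A F) O (isKFlat_repK _)
  exact (Bd H m).prop_of_iso ((DCoh.Rpush p₂).mapIso ((DCoh.LTensorCx (A F)).mapIso eO.symm ≪≫ sy ≪≫
    (DCoh.LTensorCx O).mapIso (repKIso _)) ≪≫ φ.app (DCoh.inD X F)) (hm F hF hp)

end Groth.Agent.H9Misc.HomBound
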