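import Groth.Agent.SheafHomX.Coherent
import Mathlib.Algebra.Category.ModuleCat.Monoidal.Basic

/-! Evaluation of internal homs under a lax monoidal functor to modules. -/

set_option linter.style.haveILetI false
set_option linter.unusedSectionVars false
set_option backward.isDefEq.respectTransparency false
set_option backward.isDefEq.respectTransparency.types false

universe u

open CategoryTheory CategoryTheory.Limits AlgebraicGeometry MonoidalCategory
open scoped TensorProduct

noncomputable section

namespace Groth.Agent.H9Misc.HomEval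

open Groth.Agent.SheafHomX

/-- A functor to modules with a natural pairing. -/
structure Pairing (X : Scheme.{u}) (R : Type u) [CommRing R] where
  T : X.Modules ⥤ ModuleCat.{u} R
  additive : T.Additive
  τ : ∀ M N : X.Modules, T.obj M ⊗ T.obj N ⟶ T.obj ((DCoh.tensorBi.obj M).obj N)
  natl : ∀ {M M' : X.Modules} (f : M ⟶ M') (N : X.Modules) (a : T.obj M) (b : T.obj N),
    (τ M' N).hom ((T.map f).hom a ⊗ₜ[R] b) = (T.map ((DCoh.tensorBi.map f).app N)).hom ((τ M N).hom (a ⊗ₜ[R] b))
  natr : ∀ (M : X.Modules) {N N' : X.Modules} (g : N ⟶ N') (a : T.obj M) (b : T.obj N),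
    (τ M N').hom (a ⊗ₜ[R] (T.map g).hom b) = (T.map ((DCoh.tensorBi.obj M).map g)).hom ((τ M N).hom (a ⊗ₜ[R] b))

variable {X : Scheme.{u}} {R : Type u} [CommRing R] (P : Pairing X R) (G : X.Modules)

/-- The evaluation. -/
def ev (M : X.Modules) : P.T.obj ((hom M).obj G) ⟶ ModuleCat.of R (P.T.obj M ⟶ P.T.obj G) :=
  let b : P.T.obj ((hom M).obj G) →ₗ[R] P.T.obj M →ₗ[R] P.T.obj G :=
    (TensorProduct.mk R (P.T.obj ((hom M).obj G)) (P.T.obj M)).compr₂
      (P.τ ((hom M).obj G) M ≫ P.T.map ((adj M).counit.app G)).hom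
  ModuleCat.ofHom
    { toFun := fun h => ModuleCat.ofHom (b h)
      map_add' := fun h h' => by rw [map_add]; rfl
      map_smul' := fun r h => by rw [map_smul]; rfl }

theorem ev_apply (M : X.Modules) (h : P.T.obj ((hom M).obj G)) (t : P.T.obj M) :
    ((ev P G M).hom h).hom t =
      (P.T.map ((adj M).counit.app G)).hom ((P.τ ((hom M).obj G) M).hom (h ⊗ₜ[R] t)) := rfl

/-- Precomposition. -/
def pre {M M' : X.Modules} (g : M ⟶ M') :
    ModuleCat.of R (P.T.obj M' ⟶ P.T.obj G) ⟶ ModuleCat.of R (P.T.obj M ⟶ P.T.obj G) :=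
  ModuleCat.ofHom (Linear.leftComp R (P.T.obj G) (P.T.map g))

theorem ev_naturality {M M' : X.Modules} (g : M ⟶ M') :
    P.T.map ((homMap g).app G) ≫ ev P G M = ev P G M' ≫ pre P G g := by
  ext h : 2
  refine ModuleCat.hom_ext (LinearMap.ext fun t => ?_)
  show ((ev P G M).hom ((P.T.map ((homMap g).app G)).hom h)).hom t =
    ((ev P G M').hom h).hom ((P.T.map g).hom t)
  rw [ev_apply, ev_apply, P.natl, P.natr]
  have h2 : (ten M).map ((homMap g).app G) ≫ (adj M).counit.app G =
      ((DCoh.tensorBi (X := X)).flip.map g).app ((hom M').obj G) ≫ (adj M').counit.app G :=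
    conjugateEquiv_counit _ _ _ _
  have h3 := congrArg (fun k => (P.T.map k).hom ((P.τ ((hom M').obj G) M).hom (h ⊗ₜ[R] t))) h2
  simp only [Functor.map_comp, ModuleCat.hom_comp, LinearMap.comp_apply] at h3
  exact h3

/-- The evaluation on the structure sheaf. -/
theorem isIso_ev_unit (t₀ : P.T.obj (Coh.structureModule X))
    (hgen : ∀ N : ModuleCat.{u} R, Function.Bijective fun φ : P.T.obj (Coh.structureModule X) ⟶ N => φ.hom t₀)
    (hτ : Function.Bijective fun z : P.T.obj ((hom (Coh.structureModule X)).obj G) =>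
      (P.τ ((hom (Coh.structureModule X)).obj G) (Coh.structureModule X)).hom (z ⊗ₜ[R] t₀)) :
    IsIso (ev P G (Coh.structureModule X)) := by
  rw [ConcreteCategory.isIso_iff_bijective]
  let O := Coh.structureModule X
  haveI : (hom O).Full := Functor.Full.of_iso (SheafHomX.unitIso X).symm
  haveI : (hom O).Faithful := Functor.Faithful.of_iso (SheafHomX.unitIso X).symm
  haveI : ∀ L, IsIso ((adj O).counit.app L) := fun L => inferInstance
  have h1 := (ConcreteCategory.bijective_of_isIso (P.T.map ((adj O).counit.app G))).comp hτ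
  exact (Function.Bijective.of_comp_iff' (hgen (P.T.obj G)) _).1 h1

/-- The evaluation is an isomorphism when the identity factors through finitely many good modules. -/
theorem isIso_ev_of_decomp {E F : X.Modules} [IsIso (ev P G F)] {n : ℕ} (ι : Fin n → (F ⟶ E))
    (π : Fin n → (E ⟶ F)) (h : ∑ i, π i ≫ ι i = 𝟙 E) : IsIso (ev P G E) := by
  haveI := P.additive
  refine ⟨∑ i, pre P G (ι i) ≫ inv (ev P G F) ≫ P.T.map ((homMap (π i)).app G), ?_, ?_⟩
  · rw [Preadditive.comp_sum]
    calc _ = ∑ i, P.T.map ((homMap (π i ≫ ι i)).app G) :=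
          Finset.sum_congr rfl fun i _ => by
            rw [← Category.assoc, ← ev_naturality, Category.assoc, IsIso.hom_inv_id_assoc, ← Functor.map_comp, homMap_comp]
      _ = 𝟙 _ := by
        have hs : ∑ i, (homMap (π i ≫ ι i)).app G = (homMap (∑ i, π i ≫ ι i)).app G :=
          (map_sum (homMapHom E E G) (fun i => π i ≫ ι i) Finset.univ).symm
        rw [← Functor.map_sum, hs, h]
        show P.T.map ((homMap (𝟙 E)).app G) = _
        rw [homMap_id, CategoryTheory.Functor.map_id]
  · rw [Preadditive.sum_comp]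
    calc _ = ∑ i, pre P G (π i ≫ ι i) :=
          Finset.sum_congr rfl fun i _ => by
            rw [Category.assoc, Category.assoc, ev_naturality, IsIso.inv_hom_id_assoc]
            ext φ : 2
            exact (congrArg (· ≫ (φ : P.T.obj E ⟶ P.T.obj G)) (P.T.map_comp (π i) (ι i))).trans (Category.assoc _ _ _) |>.symm
      _ = 𝟙 _ := by
        ext φ : 2
        show (∑ i, pre P G (π i ≫ ι i)).hom φ = φ
        rw [ModuleCat.hom_sum, LinearMap.sum_apply]
        show ∑ i, P.T.map (π i ≫ ι i) ≫ (φ : P.T.obj E ⟶ P.T.obj G) = φ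
        rw [← Preadditive.sum_comp, ← Functor.map_sum, h, CategoryTheory.Functor.map_id, Category.id_comp]

theorem isIso_ev_freeMod [IsIso (ev P G (Coh.structureModule X))] (n : ℕ) :
    IsIso (ev P G (FlatMod.freeMod X n)) := by
  classical
  refine isIso_ev_of_decomp P G (F := Coh.structureModule X)
    (fun i => Sigma.ι (fun _ : Fin n => Coh.structureModule X) i)
    (fun i => Sigma.desc fun k => if k = i then 𝟙 _ else 0) (Sigma.hom_ext _ _ fun k => ?_)
  rw [Preadditive.comp_sum, Category.comp_id, Finset.sum_eq_single k]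
  · rw [Sigma.ι_desc_assoc, if_pos rfl, Category.id_comp]
  · intro i _ hi
    rw [Sigma.ι_desc_assoc, if_neg (Ne.symm hi), zero_comp]
  · exact fun hk => absurd (Finset.mem_univ k) hk

theorem isIso_ev_of_isIso {M M' : X.Modules} (g : M ⟶ M') [IsIso (P.T.map g)]
    [IsIso (P.T.map ((homMap g).app G))] (h : IsIso (ev P G M)) : IsIso (ev P G M') := by
  haveI := h
  haveI : IsIso (pre P G g) := by
    rw [ConcreteCategory.isIso_iff_bijective]
    exact ((Iso.homCongr (asIso (P.T.map g)).symm (Iso.refl (P.T.obj G))).bijective) |> fun hb => by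
      convert hb using 1
      ext φ : 1
      simp [pre, Iso.homCongr]
  haveI : IsIso (ev P G M' ≫ pre P G g) := by rw [← ev_naturality]; infer_instance
  exact IsIso.of_isIso_comp_right _ (pre P G g)

end Groth.Agent.H9Misc.HomEval
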