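import Groth.Agent.SheafHomX.Coherent
import Groth.Agent.KFlatLib.Scheme.MayerVietoris
import Groth.Agent.InvX.GenEpi
import Groth.Agent.QCoh.RpushGod

/-! The internal hom into an injective module is flasque. -/

set_option linter.style.haveILetI false
set_option linter.unusedSectionVars false
set_option backward.isDefEq.respectTransparency false
set_option backward.isDefEq.respectTransparency.types false

universe u

open CategoryTheory CategoryTheory.Limits AlgebraicGeometry TopologicalSpace Opposite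

noncomputable section

namespace Groth.Agent.H9Misc.HomFlasque

open Groth.Agent SheafHomX KFlatLib

variable {X : Scheme.{u}}

/-- The restriction of the unit section. -/
def κ (V : X.Opens) : Coh.structureModule (V : Scheme.{u}) ⟶
    (Scheme.Modules.restrictFunctor V.ι).obj (Coh.structureModule X) :=
  InvX.ofSect (show Γ(X, V.ι ''ᵁ ⊤) from 1)

theorem isIso_κ (V : X.Opens) : IsIso (κ V) := by
  refine Scheme.Modules.Hom.isIso_iff_isIso_app.2 fun W => ?_
  refine (ConcreteCategory.isIso_iff_bijective _).2 ?_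
  have h : ∀ r : Γ((V : Scheme.{u}), W), (κ V).app W r = (V.ι.appIso W).inv r := fun r => by
    refine Eq.trans (b := r • AModX.res ((Scheme.Modules.restrictFunctor V.ι).obj (Coh.structureModule X))
      (le_top : W ≤ ⊤) (show Γ(X, V.ι ''ᵁ ⊤) from 1)) rfl ?_
    refine (congrArg (fun z : Γ(X, V.ι ''ᵁ W) => ((V.ι.appIso W).inv r : Γ(X, V.ι ''ᵁ W)) * z)
      (map_one (X.presheaf.map (homOfLE (V.ι.image_mono (le_top : W ≤ ⊤))).op).hom)).trans ?_
    exact mul_one _
  rw [show ⇑((κ V).app W) = fun r => (V.ι.appIso W).inv r from funext h]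
  exact ConcreteCategory.bijective_of_isIso (V.ι.appIso W).inv

/-- The extension by zero of the restriction stays a submodule after tensoring. -/
theorem mono_ten_counit (V : X.Opens) (M : X.Modules) :
    Mono ((ten M).map ((lshAdj V.ι).counit.app (Coh.structureModule X))) := by
  let m := (lshAdj V.ι).counit.app (Coh.structureModule X)
  let R := Scheme.Modules.restrictFunctor V.ι
  refine (ShortComplex.exact_iff_mono
    (ShortComplex.mk (0 : (ten M).obj ((lsh V.ι).obj (R.obj (Coh.structureModule X))) ⟶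
      (ten M).obj ((lsh V.ι).obj (R.obj (Coh.structureModule X)))) ((ten M).map m) zero_comp) rfl).1 ?_
  refine (exact_iff_stalk _).2 fun x => (ShortComplex.exact_iff_mono _
    ((DerSch.stalkFunctor X x).map_zero _ _)).2 ?_
  by_cases hx : x ∈ Set.range V.ι.base
  · obtain ⟨v, rfl⟩ := hx
    refine (ModuleCat.mono_iff_injective _).2 (injective_stalk_of_restrict V.ι _ v ?_)
    haveI : IsIso (R.map m) := IsIso.of_isIso_fac_left ((lshAdj V.ι).right_triangle_components _)
    haveI : IsIso ((DCoh.tensorBi.map (R.map m)).app (R.obj M)) := inferInstance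
    have hn := NatTrans.congr_app ((restrictTensorBiIso V.ι).hom.naturality m) M
    haveI : IsIso (R.map ((ten M).map m)) := by
      have h2 : R.map ((DCoh.tensorBi.map m).app M) ≫ ((restrictTensorBiIso V.ι).hom.app _).app M =
          ((restrictTensorBiIso V.ι).hom.app _).app M ≫ (DCoh.tensorBi.map (R.map m)).app (R.obj M) := hn
      exact IsIso.of_isIso_fac_right h2
    exact (ConcreteCategory.bijective_of_isIso ((DerSch.stalkFunctor _ v).map (R.map ((ten M).map m)))).1
  · exact ⟨fun _ _ _ => (isZero_stalk_tensor_left x _ M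
      (isZero_stalk_lsh V.ι x hx _)).eq_of_tgt _ _⟩

theorem surjective_res_top (M I : X.Modules) [Injective I] (V : X.Opens) (s : Γ((hom M).obj I, V.ι ''ᵁ ⊤)) :
    ∃ c : Γ((hom M).obj I, ⊤), AModX.res ((hom M).obj I) (le_top : V.ι ''ᵁ ⊤ ≤ ⊤) c = s := by
  let R := Scheme.Modules.restrictFunctor V.ι
  let A := (hom M).obj I
  haveI := isIso_κ V
  let a' : R.obj (Coh.structureModule X) ⟶ R.obj A :=
    inv (κ V) ≫ InvX.ofSect (M := R.obj A) (show Γ(A, V.ι ''ᵁ ⊤) from s)
  let a := ((lshAdj V.ι).homEquiv _ _).symm a'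
  haveI := mono_ten_counit V M
  let ψ := Injective.factorThru (((adj M).homEquiv _ _).symm a)
    ((ten M).map ((lshAdj V.ι).counit.app (Coh.structureModule X)))
  let b := (adj M).homEquiv (Coh.structureModule X) I ψ
  have hb : (lshAdj V.ι).counit.app (Coh.structureModule X) ≫ b = a := by
    show _ ≫ (adj M).homEquiv _ _ ψ = a
    rw [← Adjunction.homEquiv_naturality_left, Injective.comp_factorThru, Equiv.apply_symm_apply]
  have hRb : R.map b = a' := by
    have h1 := congrArg ((lshAdj V.ι).homEquiv _ _) hb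
    rw [Adjunction.homEquiv_naturality_right, Equiv.apply_symm_apply, Adjunction.homEquiv_unit] at h1
    refine Eq.trans ?_ h1
    exact ((congrArg (· ≫ R.map b) ((lshAdj V.ι).right_triangle_components _)).trans (Category.id_comp _)).symm
  refine ⟨InvX.one b, ?_⟩
  have h2 : (R.map b).app ⊤ ((κ V).app ⊤ (1 : Γ((V : Scheme.{u}), ⊤))) = s := by
    rw [hRb]
    have h3 := congr(($(IsIso.hom_inv_id_assoc (κ V) (InvX.ofSect (M := R.obj A) (show Γ(A, V.ι ''ᵁ ⊤) from s)))).app ⊤
      (1 : Γ((V : Scheme.{u}), ⊤)))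
    exact h3.trans (InvX.one_ofSect _)
  refine Eq.trans ?_ h2
  have h4 : (κ V).app ⊤ (1 : Γ((V : Scheme.{u}), ⊤)) = (1 : Γ(X, V.ι ''ᵁ ⊤)) := InvX.one_ofSect _
  rw [h4]
  refine Eq.trans (b := b.app (V.ι ''ᵁ ⊤) ((Coh.structureModule X).presheaf.map
    (homOfLE (le_top : V.ι ''ᵁ ⊤ ≤ ⊤)).op (1 : Γ(X, ⊤)))) (QCoh.map_app_comm b _ _).symm ?_
  exact congrArg (b.app (V.ι ''ᵁ ⊤)) (map_one (X.presheaf.map (homOfLE (le_top : V.ι ''ᵁ ⊤ ≤ ⊤)).op).hom)

/-- The internal hom into an injective module is flasque. -/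
theorem isFlasqueMod_hom (M I : X.Modules) [Injective I] : QCoh.IsFlasqueMod ((hom M).obj I) where
  epi {U V} i := by
    refine (AddCommGrpCat.epi_iff_surjective _).2 fun t => ?_
    let V' : X.Opens := V.unop
    have key : ∀ (O : X.Opens), V'.ι ''ᵁ ⊤ = O → ∀ (h : O ≤ U.unop) (t : Γ((hom M).obj I, O)),
        ∃ a, AModX.res ((hom M).obj I) h a = t := by
      rintro O rfl h t
      obtain ⟨c, hc⟩ := surjective_res_top M I V' t
      exact ⟨AModX.res _ (le_top : U.unop ≤ ⊤) c, (AModX.res_res _ _ _).trans hc⟩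
    obtain ⟨a, ha⟩ := key V' (Scheme.Opens.ι_image_top _) i.unop.le t
    exact ⟨a, ha⟩

end Groth.Agent.H9Misc.HomFlasque
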