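import Mathlib.Algebra.Homology.ShortComplex.Limits
import Mathlib.Algebra.Homology.ShortComplex.PreservesHomology
import Mathlib.Algebra.Homology.ShortComplex.ExactFunctor
import Mathlib.Algebra.Homology.HomologicalComplexLimits
import Mathlib.Algebra.Homology.HomologicalComplexAbelian
import Mathlib.Algebra.Homology.ShortComplex.HomologicalComplex
import Mathlib.CategoryTheory.Abelian.GrothendieckAxioms.Basic
import Mathlib.CategoryTheory.Abelian.FunctorCategory
import Mathlib.Algebra.Category.ModuleCat.Monoidal.Closed
import Mathlib.LinearAlgebra.Contraction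

/-! Homology commutes with exact limits; tensoring with finite free modules commutes with limits. -/

universe t t' v u

open CategoryTheory Limits

namespace Groth.Agent.H9Misc.HomologyProd

section

variable {C : Type u} [Category.{v} C] [Abelian C] {J : Type t} [Category.{t'} J]
  [HasLimitsOfShape J C] [HasExactLimitsOfShape J C]

/-- The short complex of functors of a diagram of short complexes. -/
noncomputable def diagSC (K : J ⥤ ShortComplex C) : ShortComplex (J ⥤ C) :=
  ShortComplex.mk (Functor.whiskerLeft K ShortComplex.π₁Toπ₂) (Functor.whiskerLeft K ShortComplex.π₂Toπ₃)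
    (by ext j; exact (K.obj j).zero)

variable (K : J ⥤ ShortComplex C) {c : Cone K} (hc : IsLimit c)

/-- The limit, computed termwise. -/
noncomputable def limDiagIso :
    c.pt ≅ (lim (J := J) (C := C)).mapShortComplex.obj (diagSC K) :=
  ShortComplex.isoMk
    ((isLimitOfPreserves ShortComplex.π₁ hc).conePointUniqueUpToIso (limit.isLimit _))
    ((isLimitOfPreserves ShortComplex.π₂ hc).conePointUniqueUpToIso (limit.isLimit _))
    ((isLimitOfPreserves ShortComplex.π₃ hc).conePointUniqueUpToIso (limit.isLimit _))
    (limit.hom_ext fun j => by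
      dsimp [diagSC]
      erw [Category.assoc, Category.assoc, limMap_π, IsLimit.conePointUniqueUpToIso_hom_comp_assoc,
        IsLimit.conePointUniqueUpToIso_hom_comp]
      exact (c.π.app j).comm₁₂)
    (limit.hom_ext fun j => by
      dsimp [diagSC]
      erw [Category.assoc, Category.assoc, limMap_π, IsLimit.conePointUniqueUpToIso_hom_comp_assoc,
        IsLimit.conePointUniqueUpToIso_hom_comp]
      exact (c.π.app j).comm₂₃)

/-- `j ↦ H(K j)` as a natural isomorphism. -/
noncomputable def homologyDiagIso :
    K ⋙ ShortComplex.homologyFunctor C ≅ (diagSC K).homology :=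
  NatIso.ofComponents (fun j => (diagSC K).mapHomologyIso ((evaluation J C).obj j))
    (fun {j j'} a => by
      have e := NatTrans.app_homology ((evaluation J C).map a) (diagSC K)
      refine Eq.trans ?_ (congrArg (((diagSC K).mapHomologyIso _).hom ≫ ·) e.symm)
      erw [Iso.hom_inv_id_assoc]
      rfl)

lemma preservesLimit_homology : PreservesLimit K (ShortComplex.homologyFunctor C) := by
  obtain ⟨hc⟩ : Nonempty (IsLimit (limit.cone K)) := ⟨limit.isLimit K⟩
  refine preservesLimit_of_preserves_limit_cone hc ?_
  let e : (limit K).homology ≅ limit (diagSC K).homology :=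
    (ShortComplex.homologyFunctor C).mapIso (limDiagIso K hc) ≪≫
      (diagSC K).mapHomologyIso (lim (J := J) (C := C))
  refine (IsLimit.postcomposeHomEquiv (homologyDiagIso K) _).1
    (IsLimit.ofIsoLimit (limit.isLimit _) (Cone.ext e.symm fun j => ?_))
  let τ : lim (J := J) (C := C) ⟶ (evaluation J C).obj j :=
    { app := fun F => limit.π F j, naturality := fun F G f => limMap_π f j }
  have h := NatTrans.app_homology τ (diagSC K)
  show τ.app (diagSC K).homology = e.inv ≫ ShortComplex.homologyMap (limit.π K j) ≫ (homologyDiagIso K).hom.app j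
  rw [h]
  dsimp only [e, Iso.trans_inv, Functor.mapIso_inv]
  rw [Category.assoc]
  refine congrArg (((diagSC K).mapHomologyIso (lim (J := J) (C := C))).inv ≫ ·) ?_
  let a : (lim (J := J) (C := C)).mapShortComplex.obj (diagSC K) ⟶ K.obj j := (limDiagIso K hc).inv ≫ limit.π K j
  suffices h5 : ((diagSC K).mapNatTrans τ : _) = a by
    show ShortComplex.homologyMap ((diagSC K).mapNatTrans τ) ≫ ((diagSC K).mapHomologyIso ((evaluation J C).obj j)).hom =
      ShortComplex.homologyMap (limDiagIso K hc).inv ≫ ShortComplex.homologyMap (limit.π K j) ≫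
        ((diagSC K).mapHomologyIso ((evaluation J C).obj j)).hom
    refine (congrArg (fun f : (lim (J := J) (C := C)).mapShortComplex.obj (diagSC K) ⟶ K.obj j =>
      ShortComplex.homologyMap f ≫ ((diagSC K).mapHomologyIso ((evaluation J C).obj j)).hom) h5).trans ?_
    exact (congrArg (· ≫ ((diagSC K).mapHomologyIso ((evaluation J C).obj j)).hom)
      (ShortComplex.homologyMap_comp (limDiagIso K hc).inv (limit.π K j))).trans (Category.assoc _ _ _)
  ext1
  · exact (IsLimit.conePointUniqueUpToIso_inv_comp (isLimitOfPreserves ShortComplex.π₁ hc) (limit.isLimit _) j).symm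
  · exact (IsLimit.conePointUniqueUpToIso_inv_comp (isLimitOfPreserves ShortComplex.π₂ hc) (limit.isLimit _) j).symm
  · exact (IsLimit.conePointUniqueUpToIso_inv_comp (isLimitOfPreserves ShortComplex.π₃ hc) (limit.isLimit _) j).symm

variable {ι : Type*} (c : ComplexShape ι)

lemma preservesLimitsOfShape_complexHomology (i : ι) :
    PreservesLimitsOfShape J (HomologicalComplex.homologyFunctor C c i) := by
  have : PreservesLimitsOfShape J (HomologicalComplex.shortComplexFunctor C c i) :=
    ⟨fun {K} => preservesLimit_of_preserves_limit_cone (limit.isLimit K)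
      (ShortComplex.isLimitOfIsLimitπ _
        (isLimitOfPreserves (HomologicalComplex.eval C c (c.prev i)) (limit.isLimit K))
        (isLimitOfPreserves (HomologicalComplex.eval C c i) (limit.isLimit K))
        (isLimitOfPreserves (HomologicalComplex.eval C c (c.next i)) (limit.isLimit K)))⟩
  have : PreservesLimitsOfShape J (ShortComplex.homologyFunctor C) := ⟨fun {K} => preservesLimit_homology K⟩
  exact preservesLimitsOfShape_of_natIso
    (HomologicalComplex.homologyFunctorIso C c i).symm

end

open MonoidalCategory TensorProduct in
/-- Tensoring with a finite projective module has a left adjoint. -/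
theorem preservesLimits_tensorLeft {A : Type u} [CommRing A] (P : ModuleCat.{u} A) [Module.Finite A P]
    [Module.Projective A P] {J : Type u} [Category.{u} J] :
    PreservesLimitsOfShape J (tensorLeft P) := by
  let D : ModuleCat.{u} A := ModuleCat.of A (Module.Dual A P)
  let e : tensorLeft P ≅ ihom D := NatIso.ofComponents
    (fun M => (TensorProduct.congr (Module.evalEquiv A P) (LinearEquiv.refl A M) ≪≫ₗ
      dualTensorHomEquiv A (Module.Dual A P) M ≪≫ₗ (ModuleCat.homLinearEquiv (S := A) (M := D) (N := M)).symm).toModuleIso)
    (fun {M N} g => by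
      refine ModuleCat.hom_ext (TensorProduct.ext' fun x m => ?_)
      refine ModuleCat.hom_ext (LinearMap.ext fun φ => ?_)
      change φ x • g m = g (φ x • m)
      exact (map_smul g.hom (φ x) m).symm)
  haveI : PreservesLimitsOfShape J (ihom D) := inferInstance
  exact preservesLimitsOfShape_of_natIso e.symm

end Groth.Agent.H9Misc.HomologyProd
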