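import Groth.Agent.H9Misc.AbHull

/-! Decomposition of injective objects into indecomposable ones. -/

set_option linter.style.haveILetI false
set_option linter.unusedSectionVars false
set_option backward.isDefEq.respectTransparency false
set_option backward.isDefEq.respectTransparency.types false

universe v u

open CategoryTheory CategoryTheory.Limits

namespace Groth.Agent.H9Misc.Indec

open AbHull

variable {C : Type u} [Category.{v} C] [Abelian C]

/-- Indecomposable, nonzero and injective. -/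
def IsIndecInj (J : C) : Prop :=
  Injective J ∧ ¬ IsZero J ∧ ∀ (A B : C), Nonempty (J ≅ A ⊞ B) → IsZero A ∨ IsZero B

/-- A nonzero object in which any two nonzero subobjects meet. -/
def IsUniform (U : C) : Prop :=
  ¬ IsZero U ∧ ∀ ⦃P Q : C⦄ (p : P ⟶ U) (q : Q ⟶ U), Mono p → Mono q → ¬ IsZero P → ¬ IsZero Q →
    ¬ Mono (p ≫ cokernel.π q)

theorem mono_desc_of_disjoint {A B M : C} (a : A ⟶ M) (b : B ⟶ M) [Mono b]
    (h : Mono (a ≫ cokernel.π b)) : Mono (biprod.desc a b) := by
  refine mono_of_cancel_zero' _ fun P z hz => ?_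
  rw [biprod.desc_eq, Preadditive.comp_add] at hz
  have h1 : z ≫ biprod.fst = 0 := zero_of_comp_mono (a ≫ cokernel.π b) (by
    have := congrArg (fun w => w ≫ cokernel.π b) hz
    simpa [Preadditive.add_comp] using this)
  have h2 : z ≫ biprod.snd = 0 := zero_of_comp_mono b (by
    rw [reassoc_of% h1, zero_comp, zero_add] at hz
    simpa using hz)
  exact biprod.hom_ext _ _ (h1.trans zero_comp.symm) (h2.trans zero_comp.symm)

/-- A nonzero noetherian object contains a uniform subobject. -/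
theorem exists_uniform (M : C) [WellFoundedGT (Subobject M)] (hM : ¬ IsZero M) :
    ∃ (U : C) (m : U ⟶ M), Mono m ∧ IsUniform U := by
  let S : Set (Subobject M) :=
    {A | ∃ (B : C) (b : B ⟶ M), Mono b ∧ ¬ IsZero B ∧ Mono (A.arrow ≫ cokernel.π b)}
  have hS : S.Nonempty := ⟨⊥, M, 𝟙 M, inferInstance, hM, mono_of_cancel_zero' _ fun P z _ =>
    zero_of_comp_mono (⊥ : Subobject M).arrow (by simp [Subobject.bot_arrow])⟩
  obtain ⟨A, ⟨B, b, hb, hB, hAB⟩, hmax⟩ := wellFounded_gt.has_min S hS
  refine ⟨B, b, hb, hB, fun P Q p q hp hq hP hQ hpq => ?_⟩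
  have hsym := mono_comp_cokernel_symm A.arrow b hAB
  haveI : Mono (A.arrow ≫ cokernel.π (p ≫ b)) := by
    refine mono_of_cancel_zero' _ fun T z hz => ?_
    rw [← Category.assoc] at hz
    have hl := Abelian.monoLift_comp (p ≫ b) (z ≫ A.arrow) hz
    refine zero_of_comp_mono (A.arrow ≫ cokernel.π b) ?_
    rw [← Category.assoc, ← hl, Category.assoc, Category.assoc, cokernel.condition, comp_zero, comp_zero]
  let d : (A : C) ⊞ P ⟶ M := biprod.desc A.arrow (p ≫ b)
  haveI : Mono d := mono_desc_of_disjoint _ _ inferInstance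
  have hmem : Mono (d ≫ cokernel.π (q ≫ b)) := by
    refine mono_of_cancel_zero' _ fun T z hz => ?_
    rw [← Category.assoc] at hz
    have hl := Abelian.monoLift_comp (q ≫ b) (z ≫ d) hz
    generalize Abelian.monoLift (q ≫ b) (z ≫ d) hz = w at hl
    simp only [d, biprod.desc_eq, Preadditive.comp_add] at hl
    have h1 : z ≫ biprod.fst = 0 := zero_of_comp_mono (A.arrow ≫ cokernel.π b) (by
      have := congrArg (fun t => t ≫ cokernel.π b) hl
      simp only [Preadditive.add_comp, Category.assoc, cokernel.condition, comp_zero, add_zero] at this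
      simpa using this.symm)
    rw [reassoc_of% h1, zero_comp, zero_add] at hl
    have h2 : z ≫ biprod.snd = 0 := zero_of_comp_mono (p ≫ cokernel.π q) (by
      have h3 : w ≫ q = (z ≫ biprod.snd) ≫ p := (cancel_mono b).1 (by simpa using hl)
      rw [← Category.assoc, ← h3, Category.assoc, cokernel.condition, comp_zero])
    exact biprod.hom_ext _ _ (h1.trans zero_comp.symm) (h2.trans zero_comp.symm)
  have hle : A ≤ Subobject.mk d := Subobject.le_mk_of_comm biprod.inl (biprod.inl_desc _ _)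
  have hT : Subobject.mk d ∈ S := ⟨Q, q ≫ b, mono_comp _ _, hQ, by
    rw [← Subobject.underlyingIso_hom_comp_eq_mk d, Category.assoc]
    exact mono_comp _ _⟩
  have hne : ¬ Subobject.mk d ≤ A := fun h => hP (by
    have h1 := congrArg (fun t => biprod.inr ≫ t) (Subobject.ofMkLE_arrow h)
    simp only [d, biprod.inr_desc] at h1
    have h2 : biprod.inr ≫ Subobject.ofMkLE d A h = 0 := zero_of_comp_mono (A.arrow ≫ cokernel.π b) (by
      rw [← Category.assoc, show (biprod.inr ≫ Subobject.ofMkLE d A h) ≫ A.arrow = p ≫ b from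
        (Category.assoc _ _ _).trans h1, Category.assoc, cokernel.condition, comp_zero])
    refine IsZero.of_mono_eq_zero (p ≫ b) ?_
    rw [← h1, reassoc_of% h2, zero_comp])
  exact hmax _ hT (lt_of_le_not_ge hle hne)

theorem wellFoundedGT_of_epi {G M : C} (p : G ⟶ M) [Epi p] [WellFoundedGT (Subobject G)] :
    WellFoundedGT (Subobject M) :=
  StrictMono.wellFoundedGT (f := (Subobject.pullback p).obj)
    (Monotone.strictMono_of_injective (fun a b hab => leOfHom ((Subobject.pullback p).map (homOfLE hab)))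
      (fun a b hab => by
        have key : ∀ a b : Subobject M, (Subobject.pullback p).obj a ≤ (Subobject.pullback p).obj b → a ≤ b := by
          intro a b h
          have hsq := Subobject.isPullback p a
          haveI : Epi (Subobject.pullbackπ p a) :=
            Abelian.epi_fst_of_isLimit _ _ hsq.isLimit
          have h0 : a.arrow ≫ cokernel.π b.arrow = 0 := by
            rw [← cancel_epi (Subobject.pullbackπ p a), comp_zero, reassoc_of% hsq.w]
            rw [← Subobject.ofLE_arrow h]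
            rw [Category.assoc, ← reassoc_of% (Subobject.isPullback p b).w, cokernel.condition, comp_zero,
              comp_zero]
          exact Subobject.le_of_comm (Abelian.monoLift b.arrow a.arrow h0) (Abelian.monoLift_comp _ _ _)
        exact le_antisymm (key a b hab.le) (key b a hab.ge)))

section

variable [IsGrothendieckAbelian.{v} C]

/-- A map from a noetherian object detects an indecomposable injective subobject. -/
theorem exists_indec {G I : C} [WellFoundedGT (Subobject G)] [Injective I] (h : G ⟶ I) (hh : h ≠ 0) :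
    ∃ (E : C) (e : E ⟶ I), Mono e ∧ IsIndecInj E := by
  haveI := wellFoundedGT_of_epi (Abelian.factorThruImage h)
  have hM : ¬ IsZero (Abelian.image h) := fun hz => hh (by
    rw [← Abelian.image.fac h, hz.eq_of_tgt (Abelian.factorThruImage h) 0, zero_comp])
  obtain ⟨U, m, hm, hU, huni⟩ := exists_uniform _ hM
  haveI := hm
  obtain ⟨E, b, e, -, he, hb, hess, hE⟩ := exists_hull (m ≫ Abelian.image.ι h)
  haveI := hb
  refine ⟨E, e, he, hE, fun hz => hU (IsZero.of_mono b hz), fun A B hAB => ?_⟩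
  obtain ⟨φ⟩ := hAB
  by_contra hcon
  rw [not_or] at hcon
  let f₁ := φ.hom ≫ biprod.fst
  let f₂ := φ.hom ≫ biprod.snd
  have hk₁ : ¬ IsZero (kernel (b ≫ f₂)) := fun hz => hcon.1 (by
    haveI : Mono (b ≫ f₂) := Preadditive.mono_of_kernel_zero (hz.eq_of_src _ _)
    haveI := hess f₂ inferInstance
    refine IsZero.of_mono_eq_zero (biprod.inl ≫ φ.inv) (zero_of_comp_mono f₂ ?_)
    simp [f₂])
  have hk₂ : ¬ IsZero (kernel (b ≫ f₁)) := fun hz => hcon.2 (by
    haveI : Mono (b ≫ f₁) := Preadditive.mono_of_kernel_zero (hz.eq_of_src _ _)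
    haveI := hess f₁ inferInstance
    refine IsZero.of_mono_eq_zero (biprod.inr ≫ φ.inv) (zero_of_comp_mono f₁ ?_)
    simp [f₁])
  refine huni (kernel.ι (b ≫ f₂)) (kernel.ι (b ≫ f₁)) inferInstance inferInstance hk₁ hk₂ ?_
  refine mono_of_cancel_zero' _ fun T z hz => ?_
  have hl := Abelian.monoLift_comp _ (z ≫ kernel.ι (b ≫ f₂)) ((Category.assoc _ _ _).trans hz)
  refine zero_of_comp_mono (kernel.ι (b ≫ f₂) ≫ b ≫ φ.hom) (biprod.hom_ext _ _ ?_ ?_)
  · have h1 := congrArg (fun t => t ≫ b ≫ f₁) hl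
    simp only [Category.assoc, kernel.condition, comp_zero] at h1
    simpa [f₁] using h1.symm
  · simpa only [f₂, Category.assoc, zero_comp, comp_zero] using congrArg (z ≫ ·) (kernel.condition (b ≫ f₂))

theorem eq_top_of_ι {ι : Type v} {Z : ι → C} (T : Subobject (∐ Z))
    (h : ∀ i, ∃ l, l ≫ T.arrow = Sigma.ι Z i) : IsIso T.arrow := by
  choose l hl using h
  haveI : IsSplitEpi T.arrow := IsSplitEpi.mk' ⟨Sigma.desc l, Sigma.hom_ext _ _ fun i => by simp [hl]⟩
  exact isIso_of_mono_of_isSplitEpi _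

/-- Decomposition of injective objects, if coproducts of injectives are injective and noetherian objects detect
zero objects. -/
theorem exists_decomposition (I : C) [Injective I]
    (hcop : ∀ {ι : Type v} (Z : ι → C), (∀ i, Injective (Z i)) → Injective (∐ Z))
    (hgen : ∀ M : C, ¬ IsZero M → ∃ (G : C) (h : G ⟶ M), WellFoundedGT (Subobject G) ∧ h ≠ 0) :
    ∃ (ι : Type v) (J : ι → C), (∀ i, IsIndecInj (J i)) ∧ Nonempty (I ≅ ∐ J) := by
  classical
  let K := Shrink.{v} (Subobject I)
  let S : K → Subobject I := (equivShrink (Subobject I)).symm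
  let Z : ∀ s : Set K, s → C := fun s k => (S k.1 : C)
  let f : ∀ s : Set K, (∐ Z s) ⟶ I := fun s => Sigma.desc fun k => (S k.1).arrow
  let incl : ∀ {s t : Set K}, s ⊆ t → ((∐ Z s) ⟶ ∐ Z t) := fun {s t} h =>
    Sigma.desc fun k => Sigma.ι (Z t) ⟨k.1, h k.2⟩
  have hincl : ∀ {s t : Set K} (h : s ⊆ t), incl h ≫ f t = f s := fun h => Sigma.hom_ext _ _ fun k => by
    simp [incl, f]
  let proj : ∀ s t : Set K, (∐ Z t) ⟶ ∐ Z s := fun s t =>
    Sigma.desc fun k => if hk : k.1 ∈ s then Sigma.ι (Z s) ⟨k.1, hk⟩ else 0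
  have hproj : ∀ {s t : Set K} (h : s ⊆ t), incl h ≫ proj s t = 𝟙 _ := fun h => Sigma.hom_ext _ _ fun k => by
    simp [incl, proj]
  haveI : ∀ {s t : Set K} (h : s ⊆ t), IsSplitMono (incl h) := fun h => IsSplitMono.mk' ⟨_, hproj h⟩
  let P : Set (Set K) := {s | (∀ k ∈ s, IsIndecInj (S k : C)) ∧ Mono (f s)}
  have h0 : (∅ : Set K) ∈ P := ⟨fun k hk => hk.elim, mono_of_cancel_zero' _ fun T z _ => by
    have : IsZero (∐ Z (∅ : Set K)) :=
      (IsZero.iff_id_eq_zero _).2 (Sigma.hom_ext _ _ fun k => k.2.elim)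
    exact this.eq_of_tgt _ _⟩
  obtain ⟨s, -, hs⟩ := zorn_subset_nonempty P (fun c hcP hc hne => by
    refine ⟨⋃₀ c, ⟨fun k hk => ?_, ?_⟩, fun t ht => Set.subset_sUnion_of_mem ht⟩
    · obtain ⟨t, ht, hkt⟩ := hk
      exact (hcP ht).1 k hkt
    · obtain ⟨t₀, ht₀⟩ := hne
      let U : c → Subobject (∐ Z (⋃₀ c)) := fun t => Subobject.mk (incl (Set.subset_sUnion_of_mem t.2))
      have hmono : ∀ t t' : c, t.1 ⊆ t'.1 → U t ≤ U t' := fun t t' h =>
        Subobject.mk_le_mk_of_comm (incl h) (Sigma.hom_ext _ _ fun k => by simp [incl])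
      have hchain : IsChain (· ≤ ·) (Set.range U) := by
        rintro _ ⟨t, rfl⟩ _ ⟨t', rfl⟩ _
        rcases hc.total t.2 t'.2 with h | h
        · exact Or.inl (hmono t t' h)
        · exact Or.inr (hmono t' t h)
      obtain ⟨T, hT, hTm⟩ := exists_chain_sup (Set.range U) hchain (U ⟨t₀, ht₀⟩) ⟨_, rfl⟩
      haveI : IsIso T.arrow := eq_top_of_ι T fun k => by
        obtain ⟨t, ht, hkt⟩ := k.2
        refine ⟨Sigma.ι (Z t) ⟨k.1, hkt⟩ ≫ Subobject.ofMkLE _ T (hT _ ⟨⟨t, ht⟩, rfl⟩), ?_⟩
        simp [incl]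
      have hm : Mono (T.arrow ≫ f (⋃₀ c)) := hTm _ fun S' hS' h => by
        obtain ⟨t, rfl⟩ := hS'
        haveI := (hcP t.2).2
        rw [Subobject.ofLE_arrow_assoc, ← Subobject.underlyingIso_hom_comp_eq_mk, Category.assoc, hincl]
        exact mono_comp _ _
      rw [show f (⋃₀ c) = inv T.arrow ≫ T.arrow ≫ f (⋃₀ c) from (IsIso.inv_hom_id_assoc _ _).symm]
      exact mono_comp _ _) ∅ h0
  obtain ⟨hsind, hsm⟩ := hs.prop
  haveI := hsm
  haveI : Injective (∐ Z s) := hcop _ fun k => (hsind k.1 k.2).1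
  let r : I ⟶ ∐ Z s := Injective.factorThru (𝟙 _) (f s)
  have hr : f s ≫ r = 𝟙 _ := Injective.comp_factorThru _ _
  refine ⟨s, Z s, fun k => hsind k.1 k.2, ?_⟩
  suffices hk : IsZero (kernel r) by
    haveI : Mono r := Preadditive.mono_of_kernel_zero (hk.eq_of_src _ _)
    haveI : IsSplitEpi r := IsSplitEpi.mk' ⟨f s, hr⟩
    haveI := isIso_of_mono_of_isSplitEpi r
    exact ⟨asIso r⟩
  by_contra hne
  let ret : Retract (kernel r) I :=
    { i := kernel.ι r
      r := kernel.lift r (𝟙 I - r ≫ f s) (by simp [Preadditive.sub_comp, hr])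
      retract := by rw [← cancel_mono (kernel.ι r)]; simp [Preadditive.comp_sub] }
  haveI := ret.injective
  obtain ⟨G, h, hG, hh⟩ := hgen _ hne
  obtain ⟨E, e, he, hE⟩ := exists_indec h hh
  let e' := e ≫ kernel.ι r
  haveI : Mono e' := mono_comp _ _
  let k₀ : K := equivShrink _ (Subobject.mk e')
  have hk₀ : S k₀ = Subobject.mk e' := Equiv.symm_apply_apply _ _
  have hr0 : (S k₀).arrow ≫ r = 0 := by
    rw [hk₀, ← cancel_epi (Subobject.underlyingIso e').inv, Subobject.underlyingIso_arrow_assoc]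
    simp [e']
  have hind : IsIndecInj (S k₀ : C) := by
    rw [hk₀]
    obtain ⟨h1, h2, h3⟩ := hE
    exact ⟨Injective.of_iso (Subobject.underlyingIso e').symm h1,
      fun hz => h2 (hz.of_iso (Subobject.underlyingIso e').symm),
      fun A B hAB => h3 A B ⟨(Subobject.underlyingIso e').symm ≪≫ hAB.some⟩⟩
  have hnot : k₀ ∉ s := fun hmem => hind.2.1 (by
    refine (IsZero.iff_id_eq_zero _).2 ?_
    rw [← cancel_mono (S k₀).arrow, Category.id_comp, zero_comp]
    have h1 : Sigma.ι (Z s) ⟨k₀, hmem⟩ ≫ f s = (S k₀).arrow := by simp [f]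
    rw [← h1] at hr0
    rw [Category.assoc, hr, Category.comp_id] at hr0
    rw [← h1, hr0, zero_comp])
  have hsub : s ⊆ insert k₀ s := Set.subset_insert _ _
  let p : (∐ Z (insert k₀ s)) ⟶ (S k₀ : C) :=
    Sigma.desc fun k => if hk : k.1 = k₀ then eqToHom (by show (S k.1 : C) = _; rw [hk]) else 0
  have htot : proj s (insert k₀ s) ≫ incl hsub + p ≫ Sigma.ι (Z (insert k₀ s)) ⟨k₀, Set.mem_insert _ _⟩ = 𝟙 _ := by
    refine Sigma.hom_ext _ _ fun k => ?_
    obtain ⟨k, hk⟩ := k
    by_cases hk' : k = k₀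
    · subst hk'
      simp [proj, p, hnot, Preadditive.comp_add]
    · have hks : k ∈ s := hk.resolve_left hk'
      simp [proj, p, hk', hks, incl, Preadditive.comp_add]
  have hmem : insert k₀ s ∈ P := by
    refine ⟨fun k hk => hk.elim (fun h => h ▸ hind) (hsind k), mono_of_cancel_zero' _ fun T z hz => ?_⟩
    have hz' : z ≫ proj s _ ≫ f s + z ≫ p ≫ (S k₀).arrow = 0 := by
      rw [← hz]
      conv_rhs => rw [← Category.id_comp (f (insert k₀ s)), ← htot]
      simp [Preadditive.add_comp, Preadditive.comp_add, hincl, f]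
    have h1 : z ≫ proj s _ = 0 := by
      have := congrArg (fun t => t ≫ r) hz'
      simpa [Preadditive.add_comp, hr, hr0] using this
    rw [reassoc_of% h1, zero_comp, zero_add] at hz'
    have h2 : z ≫ p = 0 := zero_of_comp_mono (S k₀).arrow (by rw [Category.assoc]; exact hz')
    rw [← Category.comp_id z, ← htot, Preadditive.comp_add, reassoc_of% h1, reassoc_of% h2]
    simp
  exact hnot (hs.2 hmem hsub (Set.mem_insert _ _))

end

end Groth.Agent.H9Misc.Indec
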