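import Groth.Agent.H9Misc.InjectiveQCoh
import Groth.Agent.QCoh.ExtendFT
import Groth.Agent.SiteBase.Rpush

/-! Injectivity of quasi-coherent modules is tested by local Ext of coherent modules. -/

set_option linter.style.haveILetI false
set_option linter.unusedSectionVars false
set_option backward.isDefEq.respectTransparency false
set_option backward.isDefEq.respectTransparency.types false

universe u

open CategoryTheory CategoryTheory.Limits AlgebraicGeometry

noncomputable section

namespace Groth.Agent.H9Misc.InjectiveExtTest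

open Groth.Agent KFlatLib

theorem exists_semilinear_trans {U X : Scheme.{u}} (j : U ⟶ X) [IsOpenImmersion j] (p : U)
    (G : X.Modules) (J : Ideal (X.presheaf.stalk (j.base p)))
    (a : (DerSch.stalkFunctor U p).obj (G.restrict j) ≅ ModuleCat.of (U.presheaf.stalk p)
      (U.presheaf.stalk p ⧸ J.map (j.stalkMap p).hom)) :
    Nonempty ((DerSch.stalkFunctor X (j.base p)).obj G ≅
      ModuleCat.of (X.presheaf.stalk (j.base p)) (X.presheaf.stalk (j.base p) ⧸ J)) := by
  obtain ⟨e, he⟩ := AssLib.exists_semilinear_restrict j G p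
  let σ : X.presheaf.stalk (j.base p) ≃+* U.presheaf.stalk p :=
    (asIso (j.stalkMap p)).commRingCatIsoToRingEquiv
  let q : (X.presheaf.stalk (j.base p) ⧸ J) ≃+* (U.presheaf.stalk p ⧸ J.map (j.stalkMap p).hom) :=
    Ideal.quotientEquiv J _ σ rfl
  let l := a.toLinearEquiv
  refine ⟨LinearEquiv.toModuleIso (X₁ := G.presheaf.stalk (j.base p))
    { toFun := fun m => q.symm (l (e.symm m))
      map_add' := fun m n => by
        rw [map_add, map_add, map_add]
      map_smul' := fun r m => ?_
      invFun := fun y => e (l.symm (q y))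
      left_inv := fun m => by
        show e (l.symm (q (q.symm (l (e.symm m))))) = m
        rw [RingEquiv.apply_symm_apply, LinearEquiv.symm_apply_apply, AddEquiv.apply_symm_apply]
      right_inv := fun y => by
        show q.symm (l (e.symm (e (l.symm (q y))))) = y
        rw [AddEquiv.symm_apply_apply, LinearEquiv.apply_symm_apply, RingEquiv.symm_apply_apply] }⟩
  have h1 : e.symm (r • m) = σ r • e.symm m := e.injective (by
    rw [AddEquiv.apply_symm_apply]
    exact ((he r _).trans (by rw [AddEquiv.apply_symm_apply])).symm)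
  rw [h1, map_smul, RingHom.id_apply]
  obtain ⟨z, hz⟩ := Ideal.Quotient.mk_surjective (q.symm (l (e.symm m)))
  have h2 : l (e.symm m) = q (Ideal.Quotient.mk J z) := by rw [hz, RingEquiv.apply_symm_apply]
  rw [h2, RingEquiv.symm_apply_apply]
  show q.symm (Ideal.Quotient.mk _ (σ r * σ z)) = Ideal.Quotient.mk J (r * z)
  rw [← map_mul σ, RingEquiv.symm_apply_eq]
  rfl

theorem injective_stalk_of_ext {X : Scheme.{u}} [IsLocallyNoetherian X] [HasInjectiveResolutions X.Modules]
    (F : X.Modules) (h : ∀ G : X.Modules, Coh.IsCoh G → IsZero (((SheafHomX.hom G).rightDerived 1).obj F))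
    (x : X) : Module.Injective (X.presheaf.stalk x) (F.presheaf.stalk x) := by
  obtain ⟨V, hV, hxV, -⟩ := exists_isAffineOpen_mem_and_subset (x := x) (U := ⊤) trivial
  haveI : IsNoetherianRing Γ(X, V) := QCoh.noetherian_sections ⟨V, hV⟩
  haveI : IsLocallyNoetherian (Spec Γ(X, V)) := isLocallyNoetherian_Spec.2 ‹_›
  obtain ⟨p, rfl⟩ : x ∈ Set.range hV.fromSpec := hV.range_fromSpec.ge hxV
  have hX : ∀ y : X, ∃ U : X.Opens, y ∈ U ∧ TopologicalSpace.NoetherianSpace (U : Set X) := fun y => by
    obtain ⟨W, hW, hyW, -⟩ := exists_isAffineOpen_mem_and_subset (x := y) (U := ⊤) trivial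
    haveI : IsNoetherianRing Γ(X, W) := QCoh.noetherian_sections ⟨W, hW⟩
    exact ⟨W, hyW, noetherianSpace_of_isAffineOpen W hW⟩
  haveI := QCoh.quasiCompact_ι_of_noetherian hX V
  refine (CAlgGlobalDim.baer_of_ext_one ((DerSch.stalkFunctor X (hV.fromSpec.base p)).obj F) fun J => ?_).injective
  let J' := J.map (hV.fromSpec.stalkMap p).hom
  let M : (Spec Γ(X, V)).Modules := tilde (ModuleCat.of Γ(X, V) (Γ(X, V) ⧸ J'.comap (toStalkHom p)))
  have hM : Coh.IsCoh M := (isCoh_tilde_iff _).2 inferInstance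
  let G₀ : (V : Scheme.{u}).Modules := M.restrict hV.isoSpec.hom
  have hG₀ : Coh.IsCoh G₀ := SheafHomX.isCoh_restrict hV.isoSpec.hom hM
  obtain ⟨G, hGq, hGf, ⟨eG⟩⟩ := QCoh.exists_extension_abs (QCoh.extStep_noetherian hX V) G₀ hG₀.1 hG₀.2
  have eM : G.restrict hV.fromSpec ≅ M :=
    ((Scheme.Modules.restrictFunctorCongr hV.isoSpec_inv_ι).app G).symm ≪≫
      (Scheme.Modules.restrictFunctorComp hV.isoSpec.inv V.ι).app G ≪≫
      (Scheme.Modules.restrictFunctor hV.isoSpec.inv).mapIso eG ≪≫
      ((Scheme.Modules.restrictFunctorComp hV.isoSpec.inv hV.isoSpec.hom).app M).symm ≪≫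
      (Scheme.Modules.restrictFunctorCongr hV.isoSpec.inv_hom_id).app M ≪≫
      Scheme.Modules.restrictFunctorId.app M
  obtain ⟨a⟩ := StalkInjective.nonempty_stalk_quot p J'
  obtain ⟨b⟩ := exists_semilinear_trans hV.fromSpec p G J
    ((DerSch.stalkFunctor (Spec Γ(X, V)) p).mapIso eM ≪≫ a)
  let res : InjectiveResolution F := InjectiveResolution.of F
  obtain ⟨e⟩ := StalkHomExt.nonempty_ext res (hV.fromSpec.base p) G ⟨hGq, hGf⟩ 1
  haveI hs : Subsingleton (Abelian.Ext.{u} ((DerSch.stalkFunctor X (hV.fromSpec.base p)).obj G)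
      ((DerSch.stalkFunctor X (hV.fromSpec.base p)).obj F) 1) := ModuleCat.subsingleton_of_isZero
    (((DerSch.stalkFunctor X (hV.fromSpec.base p)).map_isZero
      ((h G ⟨hGq, hGf⟩).of_iso (res.isoRightDerivedObj (SheafHomX.hom G) 1).symm)).of_iso e.symm)
  exact @Equiv.subsingleton _ (Abelian.Ext.{u} ((DerSch.stalkFunctor X (hV.fromSpec.base p)).obj G)
    ((DerSch.stalkFunctor X (hV.fromSpec.base p)).obj F) 1)
    (((Abelian.extFunctor 1).mapIso b.op).app _).addCommGroupIsoToAddEquiv.toEquiv hs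

end Groth.Agent.H9Misc.InjectiveExtTest
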