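import Groth.Agent.H9Misc.TildeInjective
import Groth.Agent.QCoh.Support

/-! Quasi-coherent modules with injective stalks are injective. -/

set_option linter.style.haveILetI false
set_option linter.unusedSectionVars false
set_option backward.isDefEq.respectTransparency false
set_option backward.isDefEq.respectTransparency.types false

universe u

open CategoryTheory CategoryTheory.Limits AlgebraicGeometry

noncomputable section

namespace Groth.Agent.H9Misc.InjectiveQCoh

open Groth.Agent

/-- Baer's criterion locally at maximal ideals. -/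
theorem injective_of_local {R : Type u} [CommRing R] [IsNoetherianRing R] (N : Type u) [AddCommGroup N] [Module R N]
    (h : ∀ (p : Ideal R), p.IsMaximal → ∀ (a : Ideal R) (g : a →ₗ[R] N), ∃ (n : N) (s : R), s ∉ p ∧
      ∀ x : a, ∃ t : R, t ∉ p ∧ t • (s • g x - (x : R) • n) = 0) : Module.Injective R N := by
  refine Module.Baer.injective fun a g => ?_
  let I : Ideal R :=
    { carrier := {r | ∃ n : N, ∀ x : a, r • g x = (x : R) • n}
      add_mem' := fun {r s} ⟨n, hn⟩ ⟨m, hm⟩ => ⟨n + m, fun x => by rw [add_smul, smul_add, hn, hm]⟩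
      zero_mem' := ⟨0, fun x => by simp⟩
      smul_mem' := fun c r ⟨n, hn⟩ => ⟨c • n, fun x => by
        rw [smul_eq_mul, mul_smul, hn, smul_comm]⟩ }
  have hI : I = ⊤ := by
    by_contra hne
    obtain ⟨p, hp, hIp⟩ := Ideal.exists_le_maximal I hne
    obtain ⟨n, s, hs, hx⟩ := h p hp a g
    haveI := hp.isPrime
    classical
    obtain ⟨T, hT⟩ := IsNoetherian.noetherian (⊤ : Submodule R a)
    choose t ht ht0 using hx
    let u := ∏ x ∈ T, t x
    have hu : u ∉ p := fun hu => by
      obtain ⟨x, -, hx⟩ := Ideal.IsPrime.prod_mem_iff.1 hu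
      exact ht x hx
    have key : ∀ x : a, u • (s • g x - (x : R) • n) = 0 := by
      let F : a →ₗ[R] N := u • (s • g - (LinearMap.toSpanSingleton R N n).comp a.subtype)
      have hF : ∀ x : a, F x = u • (s • g x - (x : R) • n) := fun x => rfl
      have h0 : F = 0 := LinearMap.ext_on hT fun x hx => by
        show F x = 0
        rw [hF, show u = (∏ y ∈ T.erase x, t y) * t x from
          (Finset.prod_erase_mul T t hx).symm, mul_smul, ht0, smul_zero]
      exact fun x => (hF x).symm.trans (LinearMap.congr_fun h0 x)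
    have hmem : u * s ∈ I := ⟨u • n, fun x => by
      rw [mul_smul, smul_comm (x : R) u n, ← sub_eq_zero, ← smul_sub]
      exact key x⟩
    exact (hp.isPrime.mem_or_mem (hIp hmem)).elim hu hs
  obtain ⟨n, hn⟩ : (1 : R) ∈ I := by rw [hI]; trivial
  exact ⟨LinearMap.toSpanSingleton R N n, fun x hx => ((one_smul R _).symm.trans (hn ⟨x, hx⟩)).symm⟩

theorem localized_facts {A : CommRingCat.{u}} (N : ModuleCat.{u} A) (q : Spec A) :
    (∀ y : (tilde N).presheaf.stalk q, ∃ (m : N) (s : A), s ∉ q.asIdeal ∧
      (Spec A).presheaf.germ ⊤ q trivial ((Scheme.ΓSpecIso A).inv s) • y = (tilde.toStalk N q).hom m) ∧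
    ∀ m : N, (tilde.toStalk N q).hom m = 0 → ∃ t : A, t ∉ q.asIdeal ∧ t • m = 0 := by
  refine ⟨fun y => ?_, fun m hm => ?_⟩
  · obtain ⟨⟨m, s⟩, hm⟩ := IsLocalizedModule.surj q.asIdeal.primeCompl (tilde.toStalk N q).hom y
    exact ⟨m, s, s.2, (TildeSky.smul_eq q (s : A) y).trans hm⟩
  · obtain ⟨t, ht⟩ := IsLocalizedModule.exists_of_eq (S := q.asIdeal.primeCompl)
      (f := (tilde.toStalk N q).hom) (hm.trans (map_zero _).symm)
    exact ⟨t, t.2, ht.trans (smul_zero _)⟩

theorem injective_module {A : CommRingCat.{u}} [IsNoetherianRing A] (N : ModuleCat.{u} A)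
    (h : ∀ q : Spec A, Module.Injective ((Spec A).presheaf.stalk q) ((tilde N).presheaf.stalk q)) :
    Module.Injective A N := by
  refine injective_of_local N fun p hp a g => ?_
  let q : Spec A := (⟨p, hp.isPrime⟩ : PrimeSpectrum A)
  let φ : A →+* (Spec A).presheaf.stalk q := (StructureSheaf.toStalk A q).hom
  letI alg : Algebra A ((Spec A).presheaf.stalk q) := φ.toAlgebra
  haveI : IsLocalization.AtPrime ((Spec A).presheaf.stalk q) q.asIdeal := StructureSheaf.IsLocalization.to_stalk A q
  haveI : Module.Flat A ((Spec A).presheaf.stalk q) := IsLocalization.flat _ q.asIdeal.primeCompl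
  let L₀ := (tilde.toStalk N q).hom
  haveI := h q
  obtain ⟨hsurj, hker⟩ := localized_facts N q
  letI modA : Module A ((tilde N).presheaf.stalk q) := Module.compHom ((tilde N).presheaf.stalk q) φ
  haveI : IsScalarTower A ((Spec A).presheaf.stalk q) ((tilde N).presheaf.stalk q) :=
    IsScalarTower.of_algebraMap_smul fun _ _ => rfl
  let L : N →ₗ[A] (tilde N).presheaf.stalk q :=
    { toFun := fun x => (tilde.toStalk N q).hom x
      map_add' := fun a b => map_add _ a b
      map_smul' := fun r x => by
        refine (congrArg ((tilde N).presheaf.germ ⊤ q trivial) ((tilde.toOpen N ⊤).hom.map_smul r x)).trans ?_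
        refine (QCoh.germ_smul' (tilde N) (U := ⊤) (x := q) trivial _ _).trans ?_
        rfl }
  haveI := LC.injective_restrict_of_flat A (S := (Spec A).presheaf.stalk q) ((tilde N).presheaf.stalk q)
  obtain ⟨H, hH⟩ := LC.exists_extension a.subtype (Submodule.injective_subtype a) (L ∘ₗ g)
  obtain ⟨n, s, hs, hn⟩ := hsurj (H 1)
  refine ⟨n, s, hs, fun x => hker _ ?_⟩
  show L (s • g x - (x : A) • n) = 0
  have hx : H (x : A) = L (g x) := LinearMap.congr_fun hH x
  have hx1 : H (x : A) = (x : A) • H 1 := by rw [← map_smul, smul_eq_mul, mul_one]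
  rw [map_sub, map_smul, map_smul, ← hx, hx1, show L n = s • H 1 from hn.symm, smul_comm, sub_self]

/-- A quasi-coherent module with injective stalks is injective. -/
theorem injective_of_stalks {X : Scheme.{u}} [IsLocallyNoetherian X] (F : X.Modules) (hF : Coh.IsQCoh F)
    (h : ∀ x : X, Module.Injective (X.presheaf.stalk x) (F.presheaf.stalk x)) : Injective F := by
  refine InjLocal.injective_of_local F fun x => ?_
  obtain ⟨V, hV, hxV, -⟩ := exists_isAffineOpen_mem_and_subset (x := x) (U := ⊤) trivial
  refine ⟨V, hxV, ?_⟩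
  let j : Spec Γ(X, V) ⟶ X := hV.fromSpec
  haveI : IsNoetherianRing Γ(X, V) := QCoh.noetherian_sections ⟨V, hV⟩
  let G := F.restrict j
  haveI : G.IsQuasicoherent := by
    have := hF
    infer_instance
  haveI := Scheme.Modules.isIso_fromTildeΓ_of_isQuasicoherent G
  let e : tilde (moduleSpecΓFunctor.obj G) ≅ G := asIso G.fromTildeΓ
  haveI : Injective G := by
    refine Injective.of_iso e (TildeInjective.injective_tilde _ (injective_module _ fun q => ?_))
    have hG : Module.Injective ((Spec Γ(X, V)).presheaf.stalk q) (G.presheaf.stalk q) :=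
      StalkInjective.injective_stalk_transfer j F q (h (j.base q))
    haveI : Module.Injective ((Spec Γ(X, V)).presheaf.stalk q)
        ((DerSch.stalkFunctor (Spec Γ(X, V)) q).obj G) := hG
    exact LC.injective_of_linearEquiv (((DerSch.stalkFunctor _ q).mapIso e.symm).toLinearEquiv)
  haveI := StalkInjective.injective_restrict hV.isoSpec.hom G
  exact Injective.of_iso (((Scheme.Modules.restrictFunctorComp hV.isoSpec.hom j).app F).symm ≪≫
    (Scheme.Modules.restrictFunctorCongr hV.isoSpec_hom_fromSpec).app F) this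

end Groth.Agent.H9Misc.InjectiveQCoh
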