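import Groth.Agent.H9Misc.KFlatRows
import Mathlib

/-! Factorisation through a K-flat complex up to homotopy. -/

set_option linter.style.haveILetI false

universe u

open CategoryTheory CategoryTheory.Limits MonoidalCategory
open CategoryTheory.Pretriangulated

attribute [local instance] HasDerivedCategory.standard

namespace Groth.Agent.H9Misc.KFlatRows

open Groth.Agent.KFlatLib

variable {R : Type u} [CommRing R]

theorem exists_factorization {K L : DRing.Cx R} (a : K ⟶ L) (hK : KF K) :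
    ∃ (N : DRing.Cx R) (b : K ⟶ N) (c : N ⟶ L), KF N ∧ (DRing.TermwiseFlat K → DRing.TermwiseFlat N) ∧
      QuasiIso c ∧ Nonempty (Homotopy a (b ≫ c)) := by
  let Qo := HomotopyCategory.quotient (ModuleCat.{u} R) (ComplexShape.up ℤ)
  let C := CochainComplex.mappingCone a
  let P := (ringCover R).P.obj C
  let q : P ⟶ C := (ringCover R).ψ.app C
  haveI : QuasiIso q := (ringCover R).quasiIso_ψ C
  let T₀ := (CochainComplex.mappingCone.triangleh a).invRotate
  have hT₀ : T₀ ∈ distTriang (HomotopyCategory (ModuleCat.{u} R) (ComplexShape.up ℤ)) :=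
    inv_rot_of_distTriang _ (HomotopyCategory.mappingCone_triangleh_distinguished a)
  let α : Qo.obj (P⟦(-1 : ℤ)⟧) ⟶ T₀.obj₁ := (Qo.commShiftIso (-1 : ℤ)).hom.app P ≫ (Qo.map q)⟦(-1 : ℤ)⟧'
  obtain ⟨φ, hφ⟩ := Qo.map_surjective (α ≫ T₀.mor₁ : Qo.obj (P⟦(-1 : ℤ)⟧) ⟶ Qo.obj K)
  obtain ⟨γ, hγ, hγ'⟩ := complete_distinguished_triangle_morphism _ T₀
    (HomotopyCategory.mappingCone_triangleh_distinguished φ) hT₀ α (𝟙 (Qo.obj K))
    ((Category.comp_id _).trans hφ)
  obtain ⟨c, hc⟩ := Qo.map_surjective (γ : Qo.obj (CochainComplex.mappingCone φ) ⟶ Qo.obj L)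
  refine ⟨CochainComplex.mappingCone φ, CochainComplex.mappingCone.inr φ, c,
    kFlat_cone φ (KFlat.shift (kFlat_ringRes C) (-1)) hK, fun hf n => ?_, ?_, ?_⟩
  · refine (ringCover R).of_iso (mappingConeXBiprod φ n).symm ((ringCover R).biprod _ _ ?_ (hf n))
    exact (ringCover R).flat_P C (n + 1 + -1)
  · let F : HomotopyCategory (ModuleCat.{u} R) (ComplexShape.up ℤ) ⥤ DerivedCategory (ModuleCat.{u} R) :=
      DerivedCategory.Qh
    let f : CochainComplex.mappingCone.triangleh φ ⟶ T₀ :=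
      { hom₁ := α
        hom₂ := 𝟙 _
        hom₃ := γ
        comm₁ := (Category.comp_id _).trans hφ
        comm₂ := hγ
        comm₃ := hγ' }
    haveI hq : IsIso (F.map (Qo.map q)) :=
      (NatIso.isIso_map_iff (DerivedCategory.quotientCompQhIso (ModuleCat.{u} R)) q).2
        ((DerivedCategory.isIso_Q_map_iff_quasiIso _ _).2 inferInstance)
    haveI : IsIso (F.map ((Qo.map q)⟦(-1 : ℤ)⟧')) :=
      (NatIso.isIso_map_iff (F.commShiftIso (-1 : ℤ)) (Qo.map q)).2
        (inferInstanceAs (IsIso ((F.map (Qo.map q))⟦(-1 : ℤ)⟧')))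
    haveI : IsIso (F.map α) := by
      rw [F.map_comp]
      exact IsIso.comp_isIso' inferInstance (by assumption)
    haveI h₁ : IsIso (F.mapTriangle.map f).hom₁ := by assumption
    haveI h₂ : IsIso (F.mapTriangle.map f).hom₂ := inferInstanceAs (IsIso (F.map (𝟙 (Qo.obj K))))
    have h₃ : IsIso (F.mapTriangle.map f).hom₃ :=
      isIso₃_of_isIso₁₂ (F.mapTriangle.map f) (F.map_distinguished _
        (HomotopyCategory.mappingCone_triangleh_distinguished φ)) (F.map_distinguished _ hT₀) h₁ h₂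
    rw [← DerivedCategory.isIso_Q_map_iff_quasiIso]
    refine (NatIso.isIso_map_iff (DerivedCategory.quotientCompQhIso (ModuleCat.{u} R)) c).1 ?_
    show IsIso (F.map (Qo.map c))
    rw [hc]
    exact h₃
  · refine ⟨HomotopyCategory.homotopyOfEq _ _ ?_⟩
    rw [Functor.map_comp]
    exact ((congrArg (Qo.map (CochainComplex.mappingCone.inr φ) ≫ ·) hc).trans (hγ.trans (Category.id_comp _))).symm

end Groth.Agent.H9Misc.KFlatRows
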