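import Mathlib
import Groth.Agent.TriCat.Resolve

/-! Inverse systems of right resolutions in a class of objects. -/

set_option linter.style.haveILetI false
set_option backward.defeqAttrib.useBackward true

universe v u

open CategoryTheory CategoryTheory.Limits HomologicalComplex

noncomputable section

namespace Groth.Agent.H9Misc.RightResSystem

variable {A : Type u} [Category.{v} A] [Abelian A]

section Deg

variable {T : ShortComplex A} (hT : T.Exact) [Mono T.f] {U V W' : A}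
  {inlU : U ⟶ T.X₂} {fstU : T.X₂ ⟶ U} {inrV : V ⟶ T.X₂} {sndV : T.X₂ ⟶ V}
  {k : W' ⟶ V} {r : V ⟶ W'} {s : T.X₃ ⟶ V}

include hT in
/-- The kernel of `desc φ p` is `U ⊞ W'` when `W' → V → X₃` is split. -/
lemma exists_kerIso (hid : fstU ≫ inlU + sndV ≫ inrV = 𝟙 _)
    (h1 : inlU ≫ fstU = 𝟙 _) (h2 : inlU ≫ sndV = 0) (h3 : inrV ≫ fstU = 0) (h4 : inrV ≫ sndV = 𝟙 _)
    (hkr : k ≫ r = 𝟙 _) (hkp : k ≫ inrV ≫ T.g = 0) (hsp : s ≫ inrV ≫ T.g = 𝟙 _) (hsr : s ≫ r = 0)
    (hV : r ≫ k + (inrV ≫ T.g) ≫ s = 𝟙 _) :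
    ∃ e : T.X₁ ≅ U ⊞ W', T.f ≫ fstU = e.hom ≫ biprod.fst := by
  let h : U ⊞ W' ⟶ T.X₂ := biprod.desc (inlU - (inlU ≫ T.g ≫ s) ≫ inrV) (k ≫ inrV)
  have hh : h ≫ T.g = 0 := by
    apply biprod.hom_ext'
    · simp [h, Preadditive.sub_comp, hsp]
    · simp [h, hkp]
  let l : U ⊞ W' ⟶ T.X₁ := hT.lift h hh
  have hl : l ≫ T.f = h := hT.lift_f _ _
  refine ⟨⟨T.f ≫ biprod.lift fstU (sndV ≫ r), l, ?_, ?_⟩, (by simp)⟩
  · rw [← cancel_mono T.f, Category.assoc, hl, Category.id_comp]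
    have e1 : sndV ≫ r ≫ k ≫ inrV = sndV ≫ inrV - sndV ≫ inrV ≫ T.g ≫ s ≫ inrV := by
      have := congrArg (fun z => sndV ≫ z ≫ inrV) hV
      simp only [Preadditive.add_comp, Preadditive.comp_add, Category.assoc, Category.id_comp] at this
      exact eq_sub_of_add_eq this
    have e2 : fstU ≫ inlU ≫ T.g + sndV ≫ inrV ≫ T.g = T.g := by
      simpa only [Preadditive.add_comp, Category.assoc, Category.id_comp] using congrArg (· ≫ T.g) hid
    have e3 : T.f ≫ (fstU ≫ inlU ≫ T.g + sndV ≫ inrV ≫ T.g) ≫ s ≫ inrV = 0 := by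
      rw [e2, T.zero_assoc, zero_comp]
    have e4 : T.f ≫ (fstU ≫ inlU + sndV ≫ inrV) = T.f := by rw [hid, Category.comp_id]
    simp only [h, biprod.lift_desc, Category.assoc, Preadditive.comp_sub, Preadditive.comp_add,
      Preadditive.add_comp] at e3 e4 ⊢
    rw [e1]
    simp only [Preadditive.comp_sub, Category.assoc] at *
    rw [show ∀ a b c d : T.X₁ ⟶ T.X₂, a - b + (c - d) = a + c - (b + d) by intros; abel, e3, sub_zero, e4]
  · rw [← Category.assoc, hl]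
    apply biprod.hom_ext' <;> apply biprod.hom_ext <;>
      simp [h, Preadditive.sub_comp, h1, h2, reassoc_of% h2, h3, reassoc_of% h3, h4, reassoc_of% h4, hkr, hsr]

end Deg

lemma isIso_homologyMap_τ₁ {S₁ S₂ : ShortComplex (CochainComplex A ℤ)} (φ : S₁ ⟶ S₂) (hS₁ : S₁.ShortExact)
    (hS₂ : S₂.ShortExact) (h₂ : QuasiIso φ.τ₂) (h₃ : QuasiIso φ.τ₃) : QuasiIso φ.τ₁ := by
  rw [quasiIso_iff]
  intro j
  rw [quasiIsoAt_iff_isIso_homologyMap]
  have hij : (ComplexShape.up ℤ).Rel (j - 1) j := by simp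
  exact Abelian.isIso_of_epi_of_isIso_of_isIso_of_mono
    (HomologySequence.composableArrows₅_exact hS₁ (j - 1) j hij).δ₀
    (HomologySequence.composableArrows₅_exact hS₂ (j - 1) j hij).δ₀
    ((ComposableArrows.δ₀Functor).map (HomologySequence.mapComposableArrows₅ φ hS₁ hS₂ (j - 1) j hij))
    (by exact inferInstanceAs (Epi (homologyMap φ.τ₂ (j - 1))))
    (by exact inferInstanceAs (IsIso (homologyMap φ.τ₃ (j - 1))))
    (by exact inferInstanceAs (IsIso (homologyMap φ.τ₂ j))) (by exact inferInstanceAs (Mono (homologyMap φ.τ₃ j)))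

lemma exactAt_cocone_id (W : CochainComplex A ℤ) (i : ℤ) :
    (CochainComplex.mappingCocone (𝟙 W)).ExactAt i := by
  rw [exactAt_iff_isZero_homology]
  have hz : IsZero ((CochainComplex.mappingCone (𝟙 W)).homology (i - 1)) := by
    rw [IsZero.iff_id_eq_zero, ← homologyMap_id,
      (CochainComplex.mappingCone.homotopyToZeroOfId W).homologyMap_eq, homologyMap_zero]
  exact hz.of_iso ((CochainComplex.ShiftSequence.shiftIso A (-1) i (i - 1) (by omega)).app _)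

variable (I : ObjectProperty A) [I.IsClosedUnderIsomorphisms]
  (hI0 : ∃ Z : A, IsZero Z ∧ I Z) (hIprod : ∀ X Y : A, I X → I Y → I (X ⊞ Y))
  (hI : ∀ X : A, ∃ (Y : A) (ι : X ⟶ Y), I Y ∧ Mono ι)

include hI0 hIprod hI

/-- One step of the system. -/
theorem exists_step {T Q : CochainComplex A ℤ} (f : T ⟶ Q) (a : ℤ) [T.IsStrictlyGE a]
    (ha : ∃ b : ℤ, Q.IsStrictlyGE b) (hQ : ∀ i, I (Q.X i)) :
    ∃ (Q' : CochainComplex A ℤ) (π : T ⟶ Q') (p : Q' ⟶ Q), π ≫ p = f ∧ QuasiIso π ∧ (∀ i, Mono (π.f i)) ∧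
      (∃ b : ℤ, Q'.IsStrictlyGE b) ∧ (∀ i, I (Q'.X i)) ∧
      ∀ i, (∃ s : Q.X i ⟶ Q'.X i, s ≫ p.f i = 𝟙 _) ∧ I (kernel (p.f i)) := by
  obtain ⟨b, hb⟩ := ha
  obtain ⟨R, ι, hR, hIR, hιm, -⟩ := TriCat.exists_quasiIso_resolution I hI0 hI T a
  haveI : ∀ i, Mono (ι.f i) := hιm
  let U : CochainComplex A ℤ := Q ⊞ R
  let μ : T ⟶ U := biprod.lift f ι
  haveI hμm : ∀ i, Mono (μ.f i) := fun i => by
    have : μ.f i ≫ (biprod.snd : U ⟶ R).f i = ι.f i := by
      rw [← HomologicalComplex.comp_f]; simp [μ]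
    exact mono_of_mono_fac this
  haveI : Mono μ := mono_of_mono_f μ hμm
  let Cok : CochainComplex A ℤ := cokernel μ
  let m : ℤ := min a b
  have hUz : ∀ i, i < m → IsZero (U.X i) := fun i hi => by
    have hq : IsZero (Q.X i) := Q.isZero_of_isStrictlyGE b i (by omega)
    have hr : IsZero (R.X i) := R.isZero_of_isStrictlyGE a i (by omega)
    have hid := HomologicalComplex.congr_hom (biprod.total (X := Q) (Y := R)) i
    simp only [HomologicalComplex.add_f_apply, HomologicalComplex.comp_f, HomologicalComplex.id_f] at hid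
    rw [IsZero.iff_id_eq_zero, ← hid, hq.eq_of_src ((biprod.inl : Q ⟶ U).f i) 0,
      hr.eq_of_src ((biprod.inr : R ⟶ U).f i) 0]
    simp
  haveI : Cok.IsStrictlyGE m := by
    rw [CochainComplex.isStrictlyGE_iff]
    intro i hi
    have : Epi ((cokernel.π μ).f i) := inferInstance
    exact IsZero.of_epi ((cokernel.π μ).f i) (hUz i hi)
  obtain ⟨W, w, hW, hIW, -, hwq⟩ := TriCat.exists_quasiIso_resolution I hI0 hI Cok m
  let V : CochainComplex A ℤ := CochainComplex.mappingCocone (𝟙 W)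
  let φ : U ⟶ W := cokernel.π μ ≫ w
  let P : CochainComplex A ℤ := U ⊞ V
  let g : P ⟶ W := biprod.desc φ (CochainComplex.mappingCocone.fst (𝟙 W))
  let s : ∀ i, W.X i ⟶ V.X i := fun i => (CochainComplex.mappingCocone.inl (𝟙 W)).v i i (add_zero i)
  have hinr : ∀ i, (biprod.inr : V ⟶ P).f i ≫ g.f i = (CochainComplex.mappingCocone.fst (𝟙 W)).f i := fun i => by
    rw [← HomologicalComplex.comp_f]; simp [g]
  have hsp : ∀ i, s i ≫ (biprod.inr : V ⟶ P).f i ≫ g.f i = 𝟙 _ := fun i => by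
    rw [hinr]; exact CochainComplex.mappingCocone.inl_v_fst_f _ i
  have hepi : ∀ i, Epi (g.f i) := fun i => by
    have := hsp i
    rw [← Category.assoc] at this
    exact epi_of_epi_fac this
  haveI : Epi g := epi_of_epi_f g hepi
  let S₂ : ShortComplex (CochainComplex A ℤ) := ShortComplex.mk (kernel.ι g) g (kernel.condition g)
  have hS₂ : S₂.ShortExact :=
    ShortComplex.ShortExact.mk' (ShortComplex.exact_of_f_is_kernel _ (kernelIsKernel g)) inferInstance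
      inferInstance
  let S₁ : ShortComplex (CochainComplex A ℤ) := ShortComplex.mk μ (cokernel.π μ) (cokernel.condition μ)
  have hS₁ : S₁.ShortExact :=
    ShortComplex.ShortExact.mk' (ShortComplex.exact_of_g_is_cokernel _ (cokernelIsCokernel μ)) inferInstance
      inferInstance
  have hμg : (μ ≫ biprod.inl) ≫ g = 0 := by simp [g, φ]
  let π : T ⟶ kernel g := kernel.lift g (μ ≫ biprod.inl) hμg
  let ψ : S₁ ⟶ S₂ :=
    { τ₁ := π, τ₂ := biprod.inl, τ₃ := w
      comm₁₂ := kernel.lift_ι _ _ _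
      comm₂₃ := biprod.inl_desc _ _ }
  have hinl : QuasiIso (biprod.inl : U ⟶ P) := by
    rw [quasiIso_iff]
    intro i
    rw [quasiIsoAt_iff_isIso_homologyMap]
    refine ⟨homologyMap (biprod.fst : P ⟶ U) i, ?_, ?_⟩
    · rw [← homologyMap_comp, biprod.inl_fst, homologyMap_id]
    · have hz : IsZero (V.homology i) := (exactAt_cocone_id W i).isZero_homology
      rw [← homologyMap_comp, ← homologyMap_id P i]
      conv_rhs => rw [← biprod.total (X := U) (Y := V), homologyMap_add, homologyMap_comp biprod.snd,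
        hz.eq_of_src (homologyMap (biprod.inr : V ⟶ P) i) 0, comp_zero, add_zero]
  have hπq : QuasiIso π := isIso_homologyMap_τ₁ ψ hS₁ hS₂ hinl hwq
  let p : kernel g ⟶ Q := kernel.ι g ≫ biprod.fst ≫ biprod.fst
  have hdeg : ∀ i, ∃ e : (kernel g).X i ≅ U.X i ⊞ W.X (i - 1),
      (kernel.ι g).f i ≫ (biprod.fst : P ⟶ U).f i = e.hom ≫ biprod.fst := fun i => by
    have hse := hS₂.map_of_exact (HomologicalComplex.eval A (ComplexShape.up ℤ) i)
    haveI : Mono (S₂.map (HomologicalComplex.eval A (ComplexShape.up ℤ) i)).f := hse.mono_f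
    refine exists_kerIso (T := S₂.map (HomologicalComplex.eval A (ComplexShape.up ℤ) i)) hse.exact
      (inlU := (biprod.inl : U ⟶ P).f i) (fstU := (biprod.fst : P ⟶ U).f i)
      (inrV := (biprod.inr : V ⟶ P).f i) (sndV := (biprod.snd : P ⟶ V).f i)
      (k := (CochainComplex.mappingCocone.inr (𝟙 W)).1.v (i - 1) i (by omega))
      (r := (CochainComplex.mappingCocone.snd (𝟙 W)).v i (i - 1) (by omega)) (s := s i)
      ?_ ?_ ?_ ?_ ?_ ?_ ?_ (hsp i) ?_ ?_
    · exact HomologicalComplex.congr_hom (biprod.total (X := U) (Y := V)) i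
    · exact HomologicalComplex.congr_hom (biprod.inl_fst (X := U) (Y := V)) i
    · exact HomologicalComplex.congr_hom (biprod.inl_snd (X := U) (Y := V)) i
    · exact HomologicalComplex.congr_hom (biprod.inr_fst (X := U) (Y := V)) i
    · exact HomologicalComplex.congr_hom (biprod.inr_snd (X := U) (Y := V)) i
    · exact CochainComplex.mappingCocone.inr_v_snd_v _ _ _ _
    · show _ ≫ (biprod.inr : V ⟶ P).f i ≫ g.f i = 0
      rw [hinr]; exact CochainComplex.mappingCocone.inr_v_fst_f _ _ _ _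
    · exact CochainComplex.mappingCocone.inl_v_snd_v _ _ _ _
    · show _ + ((biprod.inr : V ⟶ P).f i ≫ g.f i) ≫ s i = _
      rw [hinr, add_comm]; exact CochainComplex.mappingCocone.id_X _ _ _ _
  choose e he using hdeg
  let ε : ∀ i, U.X i ≅ Q.X i ⊞ R.X i := fun i =>
    { hom := biprod.lift ((biprod.fst : U ⟶ Q).f i) ((biprod.snd : U ⟶ R).f i)
      inv := biprod.desc ((biprod.inl : Q ⟶ U).f i) ((biprod.inr : R ⟶ U).f i)
      hom_inv_id := by
        rw [biprod.lift_desc]; exact HomologicalComplex.congr_hom (biprod.total (X := Q) (Y := R)) i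
      inv_hom_id := by
        apply biprod.hom_ext' <;> apply biprod.hom_ext <;> simp [← HomologicalComplex.comp_f] }
  have hIU : ∀ i, I (U.X i) := fun i => I.prop_of_iso (ε i).symm (hIprod _ _ (hQ i) (hIR i))
  have hp : ∀ i, p.f i = (e i).hom ≫ biprod.fst ≫ (ε i).hom ≫ biprod.fst := fun i => by
    rw [← reassoc_of% (he i)]; simp [p, ε]
  refine ⟨kernel g, π, p, ?_, hπq, fun i => ?_, ⟨min m (m + 1), ?_⟩, fun i => ?_, fun i => ⟨?_, ?_⟩⟩
  · simp [π, p, μ]
  · have h' : π.f i ≫ (kernel.ι g).f i ≫ (biprod.fst : P ⟶ U).f i = μ.f i := by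
      simp only [← HomologicalComplex.comp_f]; simp [π]
    exact mono_of_mono_fac h'
  · rw [CochainComplex.isStrictlyGE_iff]
    intro i hi
    exact ((biprod_isZero_iff _ _).2 ⟨hUz i (by omega), W.isZero_of_isStrictlyGE m (i - 1) (by omega)⟩).of_iso (e i)
  · exact I.prop_of_iso (e i).symm (hIprod _ _ (hIU i) (hIW _))
  · exact ⟨biprod.inl ≫ (ε i).inv ≫ biprod.inl ≫ (e i).inv, by simp [hp]⟩
  · let S : ShortComplex A := ShortComplex.mk
      (biprod.map (biprod.inr ≫ (ε i).inv) (𝟙 (W.X (i - 1))) ≫ (e i).inv) (p.f i) (by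
        rw [hp]; apply biprod.hom_ext' <;> simp)
    have σ : S.Splitting :=
      { r := (e i).hom ≫ biprod.map ((ε i).hom ≫ biprod.snd) (𝟙 _)
        s := biprod.inl ≫ (ε i).inv ≫ biprod.inl ≫ (e i).inv
        f_r := by
          show (biprod.map _ _ ≫ (e i).inv) ≫ _ = 𝟙 (R.X i ⊞ W.X (i - 1))
          apply biprod.hom_ext' <;> apply biprod.hom_ext <;> simp
        s_g := by show _ ≫ p.f i = 𝟙 (Q.X i); simp [hp]; exact biprod.inl_fst
        id := by
          show ((e i).hom ≫ _) ≫ _ ≫ (e i).inv + p.f i ≫ _ = _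
          rw [hp, ← cancel_mono (e i).hom, ← cancel_epi (e i).inv]
          apply biprod.hom_ext' <;> apply biprod.hom_ext <;> simp
          rw [add_comm, ← Preadditive.comp_add, ← Category.assoc biprod.fst, ← Category.assoc biprod.snd,
            ← Preadditive.add_comp, biprod.total, Category.id_comp, Iso.hom_inv_id] }
    exact I.prop_of_iso ((limit.isLimit _).conePointUniqueUpToIso σ.fIsKernel).symm
      (hIprod _ _ (hIR i) (hIW _))

theorem exists_system (K : CochainComplex A ℤ) :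
    ∃ (Q : ℕ → CochainComplex A ℤ) (p : ∀ n, Q (n + 1) ⟶ Q n) (π : ∀ n : ℕ, K.truncGE (-(n : ℤ)) ⟶ Q n),
      (∀ n, QuasiIso (π n) ∧ ∀ i, Mono ((π n).f i)) ∧
      (∀ n, ∃ a : ℤ, (Q n).IsStrictlyGE a) ∧ (∀ n i, I ((Q n).X i)) ∧
      (∀ n i, (∃ s : (Q n).X i ⟶ (Q (n + 1)).X i, s ≫ (p n).f i = 𝟙 _) ∧ I (kernel ((p n).f i))) ∧
      (∀ n : ℕ, K.πTruncGE (-((n + 1 : ℕ) : ℤ)) ≫ π (n + 1) ≫ p n = K.πTruncGE (-(n : ℤ)) ≫ π n) := by
  let St : ℕ → Type (max u v) := fun n =>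
    { x : Σ Q : CochainComplex A ℤ, K.truncGE (-(n : ℤ)) ⟶ Q //
      QuasiIso x.2 ∧ (∀ i, Mono (x.2.f i)) ∧ (∃ a : ℤ, x.1.IsStrictlyGE a) ∧ ∀ i, I (x.1.X i) }
  have t : ∀ n : ℕ, ∃ t : K.truncGE (-((n + 1 : ℕ) : ℤ)) ⟶ K.truncGE (-(n : ℤ)),
      K.πTruncGE (-((n + 1 : ℕ) : ℤ)) ≫ t = K.πTruncGE (-(n : ℤ)) := fun n => by
    haveI : (K.truncGE (-(n : ℤ))).IsStrictlyGE (-((n + 1 : ℕ) : ℤ)) :=
      CochainComplex.isStrictlyGE_of_ge _ _ (-(n : ℤ)) (by omega)
    exact ⟨CochainComplex.truncGEMap (K.πTruncGE (-(n : ℤ))) _ ≫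
      inv ((K.truncGE (-(n : ℤ))).πTruncGE (-((n + 1 : ℕ) : ℤ))), by
      rw [← Category.assoc, CochainComplex.πTruncGE_naturality, Category.assoc, IsIso.hom_inv_id,
        Category.comp_id]⟩
  choose t ht using t
  obtain ⟨Q₀, π₀, h₀a, h₀I, h₀m, h₀q⟩ :=
    TriCat.exists_quasiIso_resolution I hI0 hI (K.truncGE (-((0 : ℕ) : ℤ))) (-((0 : ℕ) : ℤ))
  have step : ∀ (n : ℕ) (x : St n), ∃ (y : St (n + 1)) (p : y.1.1 ⟶ x.1.1), y.1.2 ≫ p = t n ≫ x.1.2 ∧
      ∀ i, (∃ s : x.1.1.X i ⟶ y.1.1.X i, s ≫ p.f i = 𝟙 _) ∧ I (kernel (p.f i)) := fun n x => by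
    obtain ⟨Q', π, p, h1, h2, h3, h4, h5, h6⟩ :=
      exists_step I hI0 hIprod hI (t n ≫ x.1.2) (-((n + 1 : ℕ) : ℤ)) x.2.2.2.1 x.2.2.2.2
    exact ⟨⟨⟨Q', π⟩, h2, h3, h4, h5⟩, p, h1, h6⟩
  choose y p hp hk using step
  let X : ∀ n, St n := fun n => Nat.rec ⟨⟨Q₀, π₀⟩, h₀q, h₀m, ⟨_, h₀a⟩, h₀I⟩ (fun k x => y k x) n
  refine ⟨fun n => (X n).1.1, fun n => p n (X n), fun n => (X n).1.2,
    fun n => ⟨(X n).2.1, (X n).2.2.1⟩, fun n => (X n).2.2.2.1, fun n => (X n).2.2.2.2,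
    fun n => hk n (X n), fun n => ?_⟩
  exact (congrArg (K.πTruncGE _ ≫ ·) (hp n (X n))).trans
    ((Category.assoc _ _ _).symm.trans (congrArg (· ≫ (X n).1.2) (ht n)))

end Groth.Agent.H9Misc.RightResSystem
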