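import Mathlib
import Groth.Agent.H9Misc.RightResSystem
import Mathlib.Algebra.Homology.HomotopyCategory.MappingCone

/-! K-injective resolutions when countable products are exact. -/

set_option linter.style.haveILetI false
set_option backward.defeqAttrib.useBackward true

universe v u

open CategoryTheory CategoryTheory.Limits HomologicalComplex CochainComplex.HomComplex

namespace Groth.Agent.H9Misc.KInjAB4Star

variable {A : Type u} [Category.{v} A] [Abelian A]

section Seq

/-- Solving `x n - x (n + 1) ≫ q n = g n` along an eventually split tower. -/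
lemma exists_solve {h : ℕ → A} (q : ∀ n, h (n + 1) ⟶ h n) :
    ∀ (N : ℕ), (∀ n, N ≤ n → IsSplitEpi (q n)) →
      ∀ {T : A} (g : ∀ n, T ⟶ h n), ∃ x : ∀ n, T ⟶ h n, ∀ n, x n - x (n + 1) ≫ q n = g n := by
  intro N
  induction N generalizing h with
  | zero =>
    intro hq T g
    haveI := fun n => hq n (Nat.zero_le n)
    let x : ∀ n, T ⟶ h n := fun n => Nat.rec (0 : T ⟶ h 0) (fun k y => (y - g k) ≫ section_ (q k)) n
    refine ⟨x, fun n => ?_⟩
    show x n - ((x n - g n) ≫ section_ (q n)) ≫ q n = g n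
    rw [Category.assoc, IsSplitEpi.id, Category.comp_id, sub_sub_cancel]
  | succ N ih =>
    intro hq T g
    obtain ⟨x, hx⟩ := ih (h := fun n => h (n + 1)) (fun n => q (n + 1))
      (fun n hn => hq (n + 1) (by omega)) (fun n => g (n + 1))
    refine ⟨fun n => match n with | 0 => g 0 + x 0 ≫ q 0 | k + 1 => x k, fun n => ?_⟩
    cases n with
    | zero => show g 0 + x 0 ≫ q 0 - x 0 ≫ q 0 = g 0; rw [add_sub_cancel_right]
    | succ k => exact hx k

/-- Compatible families are determined in the stable range. -/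
lemma exists_kernel_fac {h : ℕ → A} (q : ∀ n, h (n + 1) ⟶ h n) {H : A} (ψ : ∀ n, H ⟶ h n)
    (hψ : ∀ n, ψ (n + 1) ≫ q n = ψ n) (N : ℕ) (hN : ∀ n, N ≤ n → IsIso (ψ n))
    {T : A} (w : ∀ n, T ⟶ h n) (hw : ∀ n, w (n + 1) ≫ q n = w n) (n : ℕ) :
    (w N ≫ @inv _ _ _ _ (ψ N) (hN N le_rfl)) ≫ ψ n = w n := by
  haveI := hN N le_rfl
  have hb : ∀ m, N ≤ m → (w N ≫ inv (ψ N)) ≫ ψ m = w m := by
    intro m hm
    induction m, hm using Nat.le_induction with
    | base => simp
    | succ m hm ih =>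
      haveI := hN m hm
      haveI := hN (m + 1) (by omega)
      haveI : IsIso (ψ (m + 1) ≫ q m) := by rw [hψ]; infer_instance
      haveI : IsIso (q m) := IsIso.of_isIso_comp_left (ψ (m + 1)) (q m)
      rw [← cancel_mono (q m), Category.assoc, hψ, ih, hw]
  rcases le_or_gt N n with hn | hn
  · exact hb n hn
  · have : ∀ k m, m + k = N → (w N ≫ inv (ψ N)) ≫ ψ m = w m := by
      intro k
      induction k with
      | zero => intro m hm; exact hb m (by omega)
      | succ k ih =>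
        intro m hm
        have h1 := ih (m + 1) (by omega)
        calc (w N ≫ inv (ψ N)) ≫ ψ m = ((w N ≫ inv (ψ N)) ≫ ψ (m + 1)) ≫ q m := by
              rw [Category.assoc (w N ≫ inv (ψ N)), hψ m]
          _ = w (m + 1) ≫ q m := by rw [h1]
          _ = w m := hw m
    exact this (N - n) n (by omega)

end Seq

variable [HasLimitsOfShape (Discrete ℕ) A]

section Products

variable [HasExactLimitsOfShape (Discrete ℕ) A]

/-- Countable products of exact sequences are exact. -/
lemma exact_map {X Y Z : ℕ → A} (f : ∀ n, X n ⟶ Y n) (g : ∀ n, Y n ⟶ Z n) (w : ∀ n, f n ≫ g n = 0)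
    (h : ∀ n, (ShortComplex.mk (f n) (g n) (w n)).Exact) :
    (ShortComplex.mk (Limits.Pi.map f) (Limits.Pi.map g)
      (Limits.Pi.hom_ext _ _ fun n => by simp [w])).Exact := by
  let S : ShortComplex (Discrete ℕ ⥤ A) :=
    ShortComplex.mk (Discrete.natTrans fun n => f n.as : Discrete.functor X ⟶ Discrete.functor Y)
      (Discrete.natTrans fun n => g n.as : Discrete.functor Y ⟶ Discrete.functor Z)
      (by ext ⟨n⟩; exact w n)
  have hS : S.Exact := by
    rw [ShortComplex.exact_iff_isZero_homology]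
    refine Functor.isZero _ fun n => ?_
    exact ((ShortComplex.exact_iff_isZero_homology _).1 (h n.as)).of_iso
      (S.mapHomologyIso ((evaluation (Discrete ℕ) A).obj n)).symm
  haveI : PreservesFiniteColimits (lim : (Discrete ℕ ⥤ A) ⥤ A) :=
    HasExactLimitsOfShape.preservesFiniteColimits
  exact hS.map lim

variable (Q : ℕ → CochainComplex A ℤ)

/-- Degreewise, a product of complexes is the product. -/
noncomputable def piX (i : ℤ) : (∏ᶜ Q).X i ≅ ∏ᶜ fun n => (Q n).X i :=
  PreservesProduct.iso (HomologicalComplex.eval A (ComplexShape.up ℤ) i) Q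

omit [HasExactLimitsOfShape (Discrete ℕ) A] in
@[reassoc]
lemma piX_π (i : ℤ) (n : ℕ) : (piX Q i).hom ≫ Limits.Pi.π (fun n => (Q n).X i) n = (Limits.Pi.π Q n).f i :=
  piComparison_comp_π (HomologicalComplex.eval A (ComplexShape.up ℤ) i) Q n

omit [HasExactLimitsOfShape (Discrete ℕ) A] in
lemma hom_ext_X {T : A} {i : ℤ} {a b : T ⟶ (∏ᶜ Q).X i}
    (h : ∀ n, a ≫ (Limits.Pi.π Q n).f i = b ≫ (Limits.Pi.π Q n).f i) : a = b := by
  rw [← cancel_mono (piX Q i).hom]
  exact Limits.Pi.hom_ext _ _ fun n => by simpa [piX_π] using h n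

/-- Cycles of a product. -/
noncomputable def cyc (i : ℤ) : (∏ᶜ Q).cycles i ⟶ ∏ᶜ fun n => (Q n).cycles i :=
  Limits.Pi.lift fun n => cyclesMap (Limits.Pi.π Q n) i

omit [HasExactLimitsOfShape (Discrete ℕ) A] in
lemma isIso_cyc (i : ℤ) : IsIso (cyc Q i) := by
  let k : (∏ᶜ fun n => (Q n).cycles i) ⟶ (∏ᶜ Q).X i :=
    Limits.Pi.map (fun n => (Q n).iCycles i) ≫ (piX Q i).inv
  have hk : ∀ n, k ≫ (Limits.Pi.π Q n).f i = Limits.Pi.π _ n ≫ (Q n).iCycles i := fun n => by
    simp [k, ← piX_π]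
  refine ⟨(∏ᶜ Q).liftCycles k (i + 1) (by simp) (hom_ext_X Q fun n => ?_), ?_, ?_⟩
  · rw [Category.assoc, ← Hom.comm, reassoc_of% hk]
    simp
  · rw [← cancel_mono ((∏ᶜ Q).iCycles i), Category.assoc, liftCycles_i, Category.id_comp]
    refine hom_ext_X Q fun n => ?_
    rw [Category.assoc, hk]
    simp [cyc]
  · refine Limits.Pi.hom_ext _ _ fun n => ?_
    rw [Category.assoc, cyc, Limits.Pi.lift_π, ← cancel_mono ((Q n).iCycles i), Category.assoc, cyclesMap_i,
      liftCycles_i_assoc, hk, Category.id_comp]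

/-- Homology of a product. -/
noncomputable def hom (i : ℤ) : (∏ᶜ Q).homology i ⟶ ∏ᶜ fun n => (Q n).homology i :=
  Limits.Pi.lift fun n => homologyMap (Limits.Pi.π Q n) i

lemma isIso_hom (i : ℤ) : IsIso (hom Q i) := by
  have hex : ∀ n, (ShortComplex.mk _ _ ((Q n).toCycles_comp_homologyπ (i - 1) i)).Exact := fun n =>
    ShortComplex.exact_of_g_is_cokernel _ ((Q n).homologyIsCokernel (i - 1) i (by simp))
  have hzero : ∀ n, (Q n).homologyπ i ≫ (0 : (Q n).homology i ⟶ (Q n).homology i) = 0 := fun n => comp_zero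
  have hepi₀ : ∀ n, (ShortComplex.mk _ _ (hzero n)).Exact := fun n =>
    (ShortComplex.exact_iff_epi _ rfl).2 (inferInstanceAs (Epi ((Q n).homologyπ i)))
  haveI : Epi (Limits.Pi.map fun n => (Q n).homologyπ i) := by
    have h := exact_map _ _ hzero hepi₀
    exact (ShortComplex.exact_iff_epi _ (Limits.Pi.hom_ext _ _ fun n => by simp)).1 h
  haveI := isIso_cyc Q i
  have hfac : (∏ᶜ Q).homologyπ i ≫ hom Q i = cyc Q i ≫ Limits.Pi.map fun n => (Q n).homologyπ i := by
    refine Limits.Pi.hom_ext _ _ fun n => ?_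
    simp [hom, cyc]
  haveI : Epi (hom Q i) := by
    have : Epi ((∏ᶜ Q).homologyπ i ≫ hom Q i) := by rw [hfac]; infer_instance
    exact epi_of_epi ((∏ᶜ Q).homologyπ i) _
  have hto : (∏ᶜ Q).toCycles (i - 1) i ≫ cyc Q i =
      (piX Q (i - 1)).hom ≫ Limits.Pi.map fun n => (Q n).toCycles (i - 1) i := by
    refine Limits.Pi.hom_ext _ _ fun n => ?_
    rw [← cancel_mono ((Q n).iCycles i)]
    simp [cyc, piX_π_assoc]
  haveI : Mono (hom Q i) := by
    refine Preadditive.mono_of_cancel_zero _ fun {T} t ht => ?_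
    obtain ⟨T', π, hπ, z, hz⟩ := surjective_up_to_refinements_of_epi ((∏ᶜ Q).homologyπ i) t
    have h0 : (z ≫ cyc Q i) ≫ Limits.Pi.map (fun n => (Q n).homologyπ i) = 0 := by
      rw [Category.assoc, ← hfac, ← reassoc_of% hz, ht, comp_zero]
    obtain ⟨T'', π', hπ', y, hy⟩ := (exact_map _ _ _ hex).exact_up_to_refinements (z ≫ cyc Q i) h0
    have hy' : π' ≫ z = (y ≫ (piX Q (i - 1)).inv) ≫ (∏ᶜ Q).toCycles (i - 1) i := by
      rw [← cancel_mono (cyc Q i), Category.assoc, hy, Category.assoc, Category.assoc, hto,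
        Iso.inv_hom_id_assoc]
    rw [← cancel_epi π, comp_zero, ← cancel_epi π', comp_zero, hz, ← Category.assoc, hy', Category.assoc,
      toCycles_comp_homologyπ, comp_zero]
  exact isIso_of_mono_of_epi _

end Products

/-- The kernel of a degreewise split epimorphism of K-injective complexes is K-injective. -/
lemma isKInjective_kernel {S : ShortComplex (CochainComplex A ℤ)} (hS : S.ShortExact)
    (σ : ∀ i, S.X₃.X i ⟶ S.X₂.X i) (hσ : ∀ i, σ i ≫ S.g.f i = 𝟙 _)
    [S.X₂.IsKInjective] [S.X₃.IsKInjective] : S.X₁.IsKInjective := by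
  refine ⟨fun {K} f hK => ?_⟩
  obtain ⟨h, hh⟩ : ∃ h : Cochain K S.X₂ (-1), δ (-1) 0 h = Cochain.ofHom (f ≫ S.f) :=
    ⟨Cochain.ofHomotopy (CochainComplex.IsKInjective.homotopyZero (f ≫ S.f) hK), by simp⟩
  have hg : δ (-1) 0 (h.comp (Cochain.ofHom S.g) (add_zero _)) = 0 := by
    rw [δ_comp_ofHom, hh, ← Cochain.ofHom_comp, Category.assoc, S.zero, comp_zero, Cochain.ofHom_zero]
  obtain ⟨β, hβ⟩ := CochainComplex.IsKInjective.eq_δ_of_cocycle
    (Cocycle.mk (h.comp (Cochain.ofHom S.g) (add_zero _)) 0 (by simp) hg) hK (-2) (by simp)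
  let β' : Cochain K S.X₂ (-2) := Cochain.mk fun a b hab => β.v a b hab ≫ σ b
  have hβ' : β'.comp (Cochain.ofHom S.g) (add_zero _) = β := by
    ext a b hab
    simp [β', hσ]
  let h' := h - δ (-2) (-1) β'
  have h1 : δ (-1) 0 h' = Cochain.ofHom (f ≫ S.f) := by rw [δ_sub, δ_δ, sub_zero, hh]
  have h2 : h'.comp (Cochain.ofHom S.g) (add_zero _) = 0 := by
    rw [Cochain.sub_comp, ← δ_comp_ofHom, hβ']
    exact sub_eq_zero.2 hβ.symm
  haveI := fun b => (hS.map_of_exact (HomologicalComplex.eval A (ComplexShape.up ℤ) b)).mono_f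
  have hv : ∀ a b (hab : a + (-1) = b), h'.v a b hab ≫ S.g.f b = 0 := fun a b hab => by
    have := Cochain.congr_v h2 a b hab
    simpa using this
  let H : Cochain K S.X₁ (-1) := Cochain.mk fun a b hab =>
    (hS.map_of_exact (HomologicalComplex.eval A (ComplexShape.up ℤ) b)).exact.lift (h'.v a b hab) (hv a b hab)
  have hH : H.comp (Cochain.ofHom S.f) (add_zero _) = h' := by
    ext a b hab
    simp only [H, Cochain.comp_zero_cochain_v, Cochain.ofHom_v, Cochain.mk_v]
    exact (hS.map_of_exact (HomologicalComplex.eval A (ComplexShape.up ℤ) b)).exact.lift_f _ _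
  refine ⟨(Cochain.equivHomotopy f 0).symm ⟨H, ?_⟩⟩
  rw [Cochain.ofHom_zero, add_zero]
  ext a
  have e : (δ (-1) 0 H).comp (Cochain.ofHom S.f) (add_zero _) = Cochain.ofHom (f ≫ S.f) := by
    rw [← δ_comp_ofHom, hH, h1]
  have h3 := Cochain.congr_v e a a (add_zero a)
  haveI : Mono (S.f.f a) := (hS.map_of_exact (HomologicalComplex.eval A (ComplexShape.up ℤ) a)).mono_f
  rw [← cancel_mono (S.f.f a)]
  simpa using h3.symm

omit [HasLimitsOfShape (Discrete ℕ) A] in
/-- A product of K-injective complexes is K-injective. -/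
lemma isKInjective_pi {T : Type} (I : T → CochainComplex A ℤ) [HasProduct I] (h : ∀ t, (I t).IsKInjective) :
    (∏ᶜ I).IsKInjective := by
  refine ⟨fun {K} f hK => ?_⟩
  haveI := h
  open CochainComplex HomComplex in
  have hδ : ∀ t, δ (-1) 0 (Cochain.ofHomotopy (IsKInjective.homotopyZero (f ≫ Pi.π I t) hK)) =
      Cochain.ofHom (𝟙 K ≫ f ≫ Pi.π I t) := by
    intro t; rw [δ_ofHomotopy]; simp
  let D : CochainComplex.mappingCone (𝟙 K) ⟶ ∏ᶜ I := Pi.lift fun t =>
    CochainComplex.mappingCone.desc (𝟙 K) _ _ (hδ t)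
  have e : CochainComplex.mappingCone.inr (𝟙 K) ≫ D = f := by
    apply Limits.Pi.hom_ext; intro t; simp [D]
  have z : IsZero ((HomotopyCategory.quotient A (ComplexShape.up ℤ)).obj
      (CochainComplex.mappingCone (𝟙 K))) :=
    Pretriangulated.Triangle.isZero₃_of_isIso₁ _
      (HomotopyCategory.mappingCone_triangleh_distinguished (𝟙 K))
      (inferInstanceAs (IsIso ((HomotopyCategory.quotient A (ComplexShape.up ℤ)).map (𝟙 K))))
  refine ⟨HomotopyCategory.homotopyOfEq _ _ ?_⟩
  rw [← e, Functor.map_comp, z.eq_zero_of_src ((HomotopyCategory.quotient A _).map D),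
    comp_zero, Functor.map_zero]

theorem exists_resolution [EnoughInjectives A] [HasExactLimitsOfShape (Discrete ℕ) A]
    (K : CochainComplex A ℤ) :
    ∃ (I : CochainComplex A ℤ) (f : K ⟶ I), I.IsKInjective ∧ QuasiIso f := by
  let P : ObjectProperty A := fun X => Injective X
  haveI : P.IsClosedUnderIsomorphisms := ⟨fun e h => Injective.of_iso e h⟩
  obtain ⟨Q, p, π, hπ, hge, hQ, hp, hcomp⟩ :=
    RightResSystem.exists_system P ⟨_, isZero_zero A, (isZero_zero A).injective⟩
      (fun X Y hX hY => by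
        haveI : Injective X := hX
        haveI : Injective Y := hY
        exact inferInstanceAs (Injective (X ⊞ Y)))
      (fun X => ⟨Injective.under X, Injective.ι X, inferInstanceAs (Injective (Injective.under X)), inferInstance⟩)
      K
  have hK : ∀ n, (Q n).IsKInjective := fun n => by
    obtain ⟨a, _⟩ := hge n
    haveI : ∀ i, Injective ((Q n).X i) := fun i => hQ n i
    exact CochainComplex.isKInjective_of_injective (Q n) a
  haveI hP : (∏ᶜ Q).IsKInjective := isKInjective_pi Q hK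
  let ν : (∏ᶜ Q) ⟶ ∏ᶜ Q := Limits.Pi.lift fun n => Limits.Pi.π Q n - Limits.Pi.π Q (n + 1) ≫ p n
  have hσ' : ∀ i, ∃ σ : (∏ᶜ Q).X i ⟶ (∏ᶜ Q).X i, σ ≫ ν.f i = 𝟙 _ := fun i => by
    obtain ⟨x, hx⟩ := exists_solve (h := fun n => (Q n).X i) (fun n => (p n).f i) 0
      (fun n _ => ⟨⟨⟨_, (hp n i).1.choose_spec⟩⟩⟩) (fun n => (Limits.Pi.π Q n).f i)
    refine ⟨Limits.Pi.lift x ≫ (piX Q i).inv, hom_ext_X Q fun n => ?_⟩
    have hn : ν.f i ≫ (Limits.Pi.π Q n).f i =
        (Limits.Pi.π Q n).f i - (Limits.Pi.π Q (n + 1)).f i ≫ (p n).f i := by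
      rw [← HomologicalComplex.comp_f, Limits.Pi.lift_π]
      simp
    have hx' : ∀ m, (Limits.Pi.lift x ≫ (piX Q i).inv) ≫ (Limits.Pi.π Q m).f i = x m := fun m => by
      rw [← piX_π, Category.assoc, Iso.inv_hom_id_assoc, Limits.Pi.lift_π]
    rw [Category.assoc, hn, Preadditive.comp_sub, hx', ← Category.assoc (Limits.Pi.lift x ≫ _), hx', hx, Category.id_comp]
  choose σ hσ using hσ'
  haveI : ∀ i, Epi (ν.f i) := fun i => epi_of_epi_fac (hσ i)
  haveI : Epi ν := epi_of_epi_f ν inferInstance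
  let S : ShortComplex (CochainComplex A ℤ) := ShortComplex.mk (kernel.ι ν) ν (kernel.condition ν)
  have hS : S.ShortExact :=
    ShortComplex.ShortExact.mk' (ShortComplex.exact_of_f_is_kernel _ (kernelIsKernel ν)) inferInstance inferInstance
  let c₀ : K ⟶ ∏ᶜ Q := Limits.Pi.lift fun n => K.πTruncGE (-(n : ℤ)) ≫ π n
  have hc₀ : c₀ ≫ ν = 0 := Limits.Pi.hom_ext _ _ fun n => by
    simp only [c₀, ν, Category.assoc, Limits.Pi.lift_π, Preadditive.comp_sub, zero_comp]
    rw [Limits.Pi.lift_π_assoc, Category.assoc]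
    exact sub_eq_zero.2 (hcomp n).symm
  haveI : S.X₂.IsKInjective := hP
  haveI : S.X₃.IsKInjective := hP
  refine ⟨kernel ν, kernel.lift ν c₀ hc₀, isKInjective_kernel hS σ hσ, ?_⟩
  have hmain : ∀ i : ℤ, Epi (homologyMap ν i) ∧
      ∃ (N : ℕ) (hN : ∀ n, N ≤ n → IsIso (homologyMap (K.πTruncGE (-(n : ℤ)) ≫ π n) i)),
        ∀ {T : A} (w : T ⟶ (∏ᶜ Q).homology i), w ≫ homologyMap ν i = 0 → ∀ n : ℕ,
          (w ≫ homologyMap (Limits.Pi.π Q N) i ≫
            @inv _ _ _ _ (homologyMap (K.πTruncGE (-(N : ℤ)) ≫ π N) i) (hN N le_rfl)) ≫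
              homologyMap (K.πTruncGE (-(n : ℤ)) ≫ π n) i = w ≫ homologyMap (Limits.Pi.π Q n) i := fun i => by
    let N : ℕ := (-i).toNat
    have hN : ∀ n, N ≤ n → IsIso (homologyMap (K.πTruncGE (-(n : ℤ)) ≫ π n) i) := fun n hn => by
      haveI := (hπ n).1
      haveI : QuasiIsoAt (K.πTruncGE (-(n : ℤ))) i := K.quasiIsoAt_πTruncGE _ _ (by omega)
      rw [homologyMap_comp]
      infer_instance
    have hq : ∀ n, homologyMap (K.πTruncGE (-((n + 1 : ℕ) : ℤ)) ≫ π (n + 1)) i ≫ homologyMap (p n) i =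
        homologyMap (K.πTruncGE (-(n : ℤ)) ≫ π n) i := fun n => by
      rw [← homologyMap_comp, Category.assoc, hcomp]
    have hqs : ∀ n, N ≤ n → IsSplitEpi (homologyMap (p n) i) := fun n hn => by
      haveI := hN n hn
      exact ⟨⟨⟨inv (homologyMap (K.πTruncGE (-(n : ℤ)) ≫ π n) i) ≫
        homologyMap (K.πTruncGE (-((n + 1 : ℕ) : ℤ)) ≫ π (n + 1)) i, by
          rw [Category.assoc, hq, IsIso.inv_hom_id]⟩⟩⟩
    have hν : ∀ n, homologyMap ν i ≫ homologyMap (Limits.Pi.π Q n) i =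
        homologyMap (Limits.Pi.π Q n) i - homologyMap (Limits.Pi.π Q (n + 1)) i ≫ homologyMap (p n) i := fun n => by
      rw [← homologyMap_comp, Limits.Pi.lift_π, homologyMap_sub, homologyMap_comp]
    haveI := isIso_hom Q i
    have hext : ∀ {T : A} (a b : T ⟶ (∏ᶜ Q).homology i),
        (∀ n, a ≫ homologyMap (Limits.Pi.π Q n) i = b ≫ homologyMap (Limits.Pi.π Q n) i) → a = b := by
      intro T a b h
      rw [← cancel_mono (hom Q i)]
      exact Limits.Pi.hom_ext _ _ fun n => by simpa [hom] using h n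
    refine ⟨?_, N, hN, fun {T} w hw n => ?_⟩
    · obtain ⟨x, hx⟩ := exists_solve (h := fun n => (Q n).homology i) (fun n => homologyMap (p n) i) N hqs
        (fun n => homologyMap (Limits.Pi.π Q n) i)
      have hx' : ∀ m, (Limits.Pi.lift x ≫ inv (hom Q i)) ≫ homologyMap (Limits.Pi.π Q m) i = x m := fun m => by
        have := congrArg (fun z => z ≫ Limits.Pi.π (fun n => (Q n).homology i) m) (IsIso.inv_hom_id (hom Q i))
        simp only [hom, Category.assoc, Limits.Pi.lift_π, Category.id_comp] at this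
        rw [Category.assoc, show inv (hom Q i) ≫ homologyMap (Limits.Pi.π Q m) i = Limits.Pi.π _ m from this,
          Limits.Pi.lift_π]
      refine epi_of_epi_fac (f := Limits.Pi.lift x ≫ inv (hom Q i)) (h := 𝟙 _) (hext _ _ fun m => ?_)
      rw [Category.assoc, hν, Preadditive.comp_sub, hx', ← Category.assoc (Limits.Pi.lift x ≫ _), hx', hx, Category.id_comp]
    · have hw' : ∀ m, (w ≫ homologyMap (Limits.Pi.π Q (m + 1)) i) ≫ homologyMap (p m) i =
          w ≫ homologyMap (Limits.Pi.π Q m) i := fun m => by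
        have h0 := congrArg (fun z => z ≫ homologyMap (Limits.Pi.π Q m) i) hw
        simp only [Category.assoc, hν, zero_comp, Preadditive.comp_sub, sub_eq_zero] at h0
        rw [Category.assoc, h0]
      simpa only [Category.assoc] using exists_kernel_fac (fun n => homologyMap (p n) i)
        (fun n => homologyMap (K.πTruncGE (-(n : ℤ)) ≫ π n) i) hq N hN
        (fun m => w ≫ homologyMap (Limits.Pi.π Q m) i) hw' n
  rw [quasiIso_iff]
  intro i
  rw [quasiIsoAt_iff_isIso_homologyMap]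
  obtain ⟨-, N, hN, hker⟩ := hmain i
  haveI : Mono (homologyMap S.f i) := by
    haveI : Epi (homologyMap S.g (i - 1)) := (hmain (i - 1)).1
    have hδ : hS.δ (i - 1) i (by simp) = 0 := by
      rw [← cancel_epi (homologyMap S.g (i - 1)), comp_zero, hS.comp_δ]
    exact (hS.homology_exact₁ (i - 1) i (by simp)).mono_g hδ
  haveI := hN N le_rfl
  let e : (kernel ν).homology i ⟶ K.homology i := homologyMap (kernel.ι ν) i ≫
    homologyMap (Limits.Pi.π Q N) i ≫ inv (homologyMap (K.πTruncGE (-(N : ℤ)) ≫ π N) i)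
  have hψ : ∀ n, homologyMap (kernel.lift ν c₀ hc₀) i ≫ homologyMap (kernel.ι ν) i ≫
      homologyMap (Limits.Pi.π Q n) i = homologyMap (K.πTruncGE (-(n : ℤ)) ≫ π n) i := fun n => by
    rw [← homologyMap_comp, ← homologyMap_comp, kernel.lift_ι_assoc, Limits.Pi.lift_π]
  refine ⟨e, ?_, ?_⟩
  · simp only [e]
    rw [reassoc_of% (hψ N), IsIso.hom_inv_id]
  · rw [← cancel_mono (homologyMap S.f i)]
    haveI := isIso_hom Q i
    rw [← cancel_mono (hom Q i)]
    refine Limits.Pi.hom_ext _ _ fun n => ?_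
    simp only [hom, Category.assoc, Limits.Pi.lift_π, Category.id_comp, S]
    rw [hψ n]
    simp only [e, Category.assoc]
    simpa only [Category.assoc] using hker (homologyMap (kernel.ι ν) i)
      (by rw [← homologyMap_comp, kernel.condition, homologyMap_zero]) n

end Groth.Agent.H9Misc.KInjAB4Star
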