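import Groth.Agent.H9Misc.KernelComp

/-!
# Base change of Fourier–Mukai functors
-/

set_option autoImplicit false
set_option linter.style.haveILetI false
set_option maxHeartbeats 1000000

universe u

open CategoryTheory CategoryTheory.Limits AlgebraicGeometry

attribute [local instance] HasDerivedCategory.standard

namespace Groth.Agent.H9Misc

open KFlatLib Lib.DerivedBC Lib.DerivedNat

local notation "qc" Z:max => ObjectProperty.ι (DCoh.IsQCohD (X := Z))

/-- The map between fibre products after base change. -/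
noncomputable abbrev bcProd {S S' X Y : Scheme.{u}} (a : X ⟶ S) (b : Y ⟶ S) (g : S' ⟶ S) :
    pullback (pullback.snd a g) (pullback.snd b g) ⟶ pullback a b :=
  pullback.map (pullback.snd a g) (pullback.snd b g) a b (pullback.fst a g) (pullback.fst b g) g
    pullback.condition.symm pullback.condition.symm

theorem bcProd_fst {S S' X Y : Scheme.{u}} (a : X ⟶ S) (b : Y ⟶ S) (g : S' ⟶ S) :
    bcProd a b g ≫ pullback.fst a b = pullback.fst (pullback.snd a g) (pullback.snd b g) ≫ pullback.fst a g :=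
  pullback.lift_fst _ _ _

theorem bcProd_snd {S S' X Y : Scheme.{u}} (a : X ⟶ S) (b : Y ⟶ S) (g : S' ⟶ S) :
    bcProd a b g ≫ pullback.snd a b = pullback.snd (pullback.snd a g) (pullback.snd b g) ≫ pullback.fst b g :=
  pullback.lift_snd _ _ _

/-- The base changed product is the base change of the product along `Y ×_S S' ⟶ Y`. -/
theorem isPullback_bcProd {S S' X Y : Scheme.{u}} (a : X ⟶ S) (b : Y ⟶ S) (g : S' ⟶ S) :
    IsPullback (bcProd a b g) (pullback.snd (pullback.snd a g) (pullback.snd b g)) (pullback.snd a b)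
      (pullback.fst b g) := by
  have h := (IsPullback.of_hasPullback (pullback.snd a g) (pullback.snd b g)).paste_horiz
    (IsPullback.of_hasPullback a g)
  have e : pullback.fst b g ≫ b = pullback.snd b g ≫ g := pullback.condition
  rw [← e, ← bcProd_fst a b g] at h
  exact IsPullback.of_right h (bcProd_snd a b g) (IsPullback.of_hasPullback a b)

/-- Pullback of a Fourier–Mukai functor. -/
theorem nonempty_pull_phi {S S' X Y : Scheme.{u}} (a : X ⟶ S) (b : Y ⟶ S) (g : S' ⟶ S)
    [QuasiCompact a] [QuasiSeparated a] (hflat : Flat g ∨ Flat a)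
    (K : CochainComplex (pullback a b).Modules ℤ) (hK : DCoh.IsQCohD (DCoh.toD _ K))
    [DCoh.HasLpull (pullback.fst a b)] [DCoh.HasLTensorCx K] [DCoh.HasRpush (pullback.snd a b)]
    [DCoh.HasLpull (pullback.fst a g)] [DCoh.HasLpull (pullback.fst b g)] [DCoh.HasLpull (bcProd a b g)]
    (K' : CochainComplex (pullback (pullback.snd a g) (pullback.snd b g)).Modules ℤ)
    (e : DCoh.toD _ K' ≅ (DCoh.Lpull (bcProd a b g)).obj (DCoh.toD _ K))
    [DCoh.HasLpull (pullback.fst (pullback.snd a g) (pullback.snd b g))] [DCoh.HasLTensorCx K']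
    [DCoh.HasRpush (pullback.snd (pullback.snd a g) (pullback.snd b g))] :
    Nonempty (qc X ⋙ DCoh.Lpull (pullback.fst a g) ⋙ FMK.phi (pullback.snd a g) (pullback.snd b g) K' ≅
      qc X ⋙ FMK.phi a b K ⋙ DCoh.Lpull (pullback.fst b g)) := by
  obtain ⟨bc⟩ : Nonempty (qc (pullback a b) ⋙ DCoh.Rpush (pullback.snd a b) ⋙ DCoh.Lpull (pullback.fst b g) ≅
      qc (pullback a b) ⋙ DCoh.Lpull (bcProd a b g) ⋙ DCoh.Rpush (pullback.snd (pullback.snd a g) (pullback.snd b g))) := by
    rcases hflat with h | h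
    · haveI := h; exact nonempty_baseChange_of_flat_right (isPullback_bcProd a b g)
    · haveI := h; exact nonempty_baseChange_of_flat (isPullback_bcProd a b g)
  haveI := hasLpull (bcProd a b g ≫ pullback.fst a b)
  obtain ⟨l⟩ := nonempty_lpull_ltensorCx (bcProd a b g) K K' e
  obtain ⟨c⟩ := KExact.A1Shriek.nonempty_lpull_comp' (bcProd a b g) (pullback.fst a b) _ rfl
  obtain ⟨c'⟩ := KExact.A1Shriek.nonempty_lpull_comp' (pullback.fst (pullback.snd a g) (pullback.snd b g))
    (pullback.fst a g) (bcProd a b g ≫ pullback.fst a b) (bcProd_fst a b g).symm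
  have hF : ∀ E, DCoh.IsQCohD E → DCoh.IsQCohD ((DCoh.Lpull (pullback.fst a b) ⋙ DCoh.LTensorCx K).obj E) :=
    fun E hE => isQCohD_ltensor K hK (isQCohD_lpull _ hE)
  let i := whiskerQ (DCoh.Lpull (pullback.fst a b) ⋙ DCoh.LTensorCx K) hF
    (H := DCoh.Rpush (pullback.snd a b) ⋙ DCoh.Lpull (pullback.fst b g)) bc
  exact ⟨(i ≪≫ Iso.refl _ ≪≫
    Functor.isoWhiskerLeft _ (Functor.isoWhiskerRight (Functor.associator _ _ _ ≪≫ Functor.isoWhiskerLeft _ l)
      (DCoh.Rpush (pullback.snd (pullback.snd a g) (pullback.snd b g)))) ≪≫ Iso.refl _ ≪≫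
    Functor.isoWhiskerLeft _ (Functor.isoWhiskerRight (c ≪≫ c'.symm)
      (DCoh.LTensorCx K' ⋙ DCoh.Rpush (pullback.snd (pullback.snd a g) (pullback.snd b g))))).symm⟩

end Groth.Agent.H9Misc
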