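import Groth.Agent.KFlatLib.PsiC
import Mathlib.Algebra.Homology.DerivedCategory.TStructure
import Mathlib.Algebra.Homology.DerivedCategory.HomologySequence
import Mathlib.Algebra.Homology.DerivedCategory.Linear
import Mathlib.Algebra.Category.ModuleCat.Abelian
import Mathlib.RingTheory.Nakayama
import Mathlib.RingTheory.Noetherian.Basic
import Mathlib.RingTheory.Localization.AtPrime.Basic
import Mathlib.RingTheory.LocalRing.Module
import Mathlib.Algebra.Homology.ShortComplex.ModuleCat
import Mathlib.Algebra.Homology.ShortComplex.Linear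
import Mathlib.Data.Int.LeastGreatest
import Mathlib.LinearAlgebra.Dual.Lemmas

/-! Objects of the derived category orthogonal to a residue field. -/

set_option linter.style.haveILetI false
set_option linter.unusedSectionVars false
set_option backward.isDefEq.respectTransparency false
set_option backward.isDefEq.respectTransparency.types false
set_option maxHeartbeats 800000

universe u

open CategoryTheory CategoryTheory.Limits CategoryTheory.Pretriangulated

attribute [local instance] HasDerivedCategory.standard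

noncomputable section

namespace Groth.Agent.H9Misc.KillDer

open Groth.Agent

variable {R : Type u} [CommRing R]

/-- The homology of an object. -/
abbrev H (i : ℤ) (M : DerivedCategory (ModuleCat.{u} R)) : ModuleCat.{u} R :=
  (DerivedCategory.homologyFunctor (ModuleCat.{u} R) i).obj M

/-- The multiplication by a scalar. -/
abbrev mul (a : R) (M : DerivedCategory (ModuleCat.{u} R)) : M ⟶ M := a • 𝟙 M

theorem linear_homologyFunctor (i : ℤ) :
    Functor.Linear R (DerivedCategory.homologyFunctor (ModuleCat.{u} R) i) := by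
  let F := HomologicalComplex.homologyFunctor (ModuleCat.{u} R) (ComplexShape.up ℤ) i
  haveI : F.Linear R := ⟨fun {K L} f r => ShortComplex.homologyMap_smul ((HomologicalComplex.shortComplexFunctor (ModuleCat.{u} R) (ComplexShape.up ℤ) i).map f) r⟩
  haveI : Localization.Lifting DerivedCategory.Q (HomologicalComplex.quasiIso (ModuleCat.{u} R) (ComplexShape.up ℤ))
      F (DerivedCategory.homologyFunctor (ModuleCat.{u} R) i) :=
    ⟨DerivedCategory.homologyFunctorFactors (ModuleCat.{u} R) i⟩
  exact (Localization.functor_linear_iff DerivedCategory.Q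
    (HomologicalComplex.quasiIso (ModuleCat.{u} R) (ComplexShape.up ℤ)) R F _).1 ‹_›

theorem H_mul (a : R) (M : DerivedCategory (ModuleCat.{u} R)) (i : ℤ) (h : H i M) :
    (DerivedCategory.homologyFunctor (ModuleCat.{u} R) i).map (mul a M) h = a • h := by
  have : (DerivedCategory.homologyFunctor (ModuleCat.{u} R) i).map (mul a M) = a • 𝟙 _ := by
    haveI := linear_homologyFunctor (R := R) i
    rw [Functor.map_smul, CategoryTheory.Functor.map_id]
  rw [this]; rfl

theorem exists_nonzero_from (M : DerivedCategory (ModuleCat.{u} R)) (j : ℤ) [M.IsGE j] {N : ModuleCat.{u} R}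
    (φ : N ⟶ H j M) (hφ : φ ≠ 0) :
    ∃ f : (DerivedCategory.singleFunctor (ModuleCat.{u} R) 0).obj N ⟶ M⟦j⟧, f ≠ 0 := by
  obtain ⟨L, hL, ⟨e⟩⟩ := DerivedCategory.exists_iso_Q_obj_of_isGE M j
  haveI := hL
  let ψ : N ⟶ L.homology j := φ ≫ (DerivedCategory.homologyFunctor (ModuleCat.{u} R) j).map e.hom ≫
    (DerivedCategory.homologyFunctorFactors (ModuleCat.{u} R) j).hom.app L
  haveI := L.isIso_homologyπ (j - 1) j (by simp) ((L.isZero_of_isStrictlyGE j (j - 1) (by omega)).eq_of_src _ _)
  obtain ⟨g, hg⟩ := KFlatLib.exists_single_map j (ψ ≫ inv (L.homologyπ j))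
  rw [Category.assoc, IsIso.inv_hom_id, Category.comp_id] at hg
  have hne : DerivedCategory.Q.map g ≠ 0 := fun h0 => hφ (by
    have h2 := (DerivedCategory.homologyFunctorFactors (ModuleCat.{u} R) j).hom.naturality g
    dsimp at h2
    rw [h0, Functor.map_zero, zero_comp] at h2
    have h3 : HomologicalComplex.homologyMap g j = 0 :=
      (cancel_epi ((DerivedCategory.homologyFunctorFactors (ModuleCat.{u} R) j).hom.app _)).1
        (h2.symm.trans comp_zero.symm)
    rw [h3, comp_zero] at hg
    exact zero_of_comp_mono _ hg.symm)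
  let e₁ : ((DerivedCategory.singleFunctor (ModuleCat.{u} R) j).obj N)⟦j⟧ ≅
      (DerivedCategory.singleFunctor (ModuleCat.{u} R) 0).obj N :=
    ((DerivedCategory.singleFunctors (ModuleCat.{u} R)).shiftIso j 0 j (by omega)).app N
  let g' : (DerivedCategory.singleFunctor (ModuleCat.{u} R) j).obj N ⟶ M :=
    (DerivedCategory.singleFunctorIsoCompQ (ModuleCat.{u} R) j).hom.app N ≫ DerivedCategory.Q.map g ≫ e.inv
  refine ⟨e₁.inv ≫ g'⟦j⟧', fun h => hne ?_⟩
  have h1 : g' = 0 := by
    rw [← (shiftFunctor (DerivedCategory (ModuleCat.{u} R)) j).map_eq_zero_iff]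
    exact zero_of_epi_comp _ h
  exact zero_of_comp_mono e.inv (zero_of_epi_comp _ h1)

/-- Every element of `N` is killed by a power of `a`. -/
def Tors (a : R) (N : Type u) [AddCommGroup N] [Module R N] : Prop := ∀ h : N, ∃ k : ℕ, a ^ k • h = 0

variable [IsNoetherianRing R] (p : Ideal R) (N : ModuleCat.{u} R)

theorem subsingleton_of_torsion [p.IsMaximal] [Nontrivial N] (hN : ∀ a ∈ p, ∀ n : N, a • n = 0)
    (M : DerivedCategory (ModuleCat.{u} R)) (c : ℤ) [M.IsGE c]
    (hhom : ∀ (i : ℤ) (f : (DerivedCategory.singleFunctor (ModuleCat.{u} R) 0).obj N ⟶ M⟦i⟧), f = 0)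
    (ht : ∀ a ∈ p, ∀ i, Tors a (H i M)) : ∀ i, Subsingleton (H i M) := by
  by_contra hne
  push_neg at hne
  have hbd : ∀ j, ¬ Subsingleton (H j M) → c ≤ j := fun j hj => le_of_not_gt fun hlt =>
    hj (ModuleCat.subsingleton_of_isZero (DerivedCategory.isZero_of_isGE M c j hlt))
  obtain ⟨j, hj, hmin⟩ := Int.exists_least_of_bdd (P := fun j => ¬ Subsingleton (H j M)) ⟨c, hbd⟩
    (hne.imp fun i hi => not_subsingleton_iff_nontrivial.2 hi)
  haveI : M.IsGE j := (DerivedCategory.isGE_iff M j).2 fun i hi => ModuleCat.isZero_of_iff_subsingleton.2 (by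
    by_contra hi'
    exact absurd (hmin i hi') (not_le.2 hi))
  haveI : Nontrivial (H j M) := not_subsingleton_iff_nontrivial.1 hj
  obtain ⟨h₀, hh₀⟩ := exists_ne (0 : H j M)
  let S : Set (Ideal R) :=
    Set.range fun h : {h : H j M // h ≠ 0} => LinearMap.ker (LinearMap.toSpanSingleton R (H j M) h.1)
  obtain ⟨_, ⟨⟨h, hh⟩, rfl⟩, hmax⟩ := set_has_maximal_iff_noetherian.2 (inferInstance : IsNoetherianRing R) S
    ⟨_, ⟨h₀, hh₀⟩, rfl⟩
  have hkill : ∀ a ∈ p, a • h = 0 := by
    intro a ha
    obtain ⟨k, hk⟩ := ht a ha j h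
    induction k with
    | zero => exact absurd (by simpa using hk) hh
    | succ k ih =>
      by_contra hne'
      refine hmax _ ⟨⟨a • h, hne'⟩, rfl⟩ (lt_of_le_of_ne (fun r hr => ?_) fun heq => ?_)
      · simp only [LinearMap.mem_ker, LinearMap.toSpanSingleton_apply] at hr ⊢
        rw [smul_comm, hr, smul_zero]
      · by_cases hk' : a ^ k • h = 0
        · exact hne' (ih hk')
        · have h1 : a ^ k ∈ LinearMap.ker (LinearMap.toSpanSingleton R (H j M) (a • h)) := by
            simp only [LinearMap.mem_ker, LinearMap.toSpanSingleton_apply, smul_smul, ← pow_succ]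
            exact hk
          exact hk' (LinearMap.mem_ker.1 (heq.ge h1) : _)
  letI : Module (R ⧸ p) N := Module.IsTorsionBySet.module fun n a => hN a a.2 n
  letI : Field (R ⧸ p) := Ideal.Quotient.field p
  haveI : IsScalarTower R (R ⧸ p) N := Module.IsTorsionBySet.isScalarTower _
  obtain ⟨n, hn⟩ := exists_ne (0 : N)
  obtain ⟨l, hl⟩ := Module.Projective.exists_dual_ne_zero (R ⧸ p) hn
  let μ : (R ⧸ p) →ₗ[R] H j M := Submodule.liftQ p (LinearMap.toSpanSingleton R (H j M) h) fun a ha => hkill a ha
  obtain ⟨f, hf⟩ := exists_nonzero_from M j (ModuleCat.ofHom (μ.comp (l.restrictScalars R))) fun h0 => hh (by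
    have h2 : μ (l ((l n)⁻¹ • n)) = 0 := LinearMap.congr_fun (congrArg ModuleCat.Hom.hom h0) ((l n)⁻¹ • n)
    rw [map_smul, smul_eq_mul, inv_mul_cancel₀ hl] at h2
    have h3 : (LinearMap.toSpanSingleton R (H j M) h) 1 = 0 := h2
    simpa using h3)
  exact hf (hhom j f)

theorem exists_smul_eq_zero [p.IsMaximal] {V : Type u} [AddCommGroup V] [Module R V] [Module.Finite R V] {b : R}
    (hb : b ∈ p) (hV : ∀ h : V, ∃ r ∉ p, ∃ w : V, r • h = b • w) (h : V) : ∃ r ∉ p, r • h = 0 := by
  let A := Localization.AtPrime p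
  let L := LocalizedModule p.primeCompl V
  have hbA : algebraMap R A b ∈ IsLocalRing.maximalIdeal A := by
    rw [← Localization.AtPrime.map_eq_maximalIdeal]
    exact Ideal.mem_map_of_mem _ hb
  have htop : (⊤ : Submodule A L) ≤ IsLocalRing.maximalIdeal A • ⊤ := fun z _ => by
    induction z using LocalizedModule.induction_on with
    | h v s =>
      obtain ⟨r, hr, w, hw⟩ := hV v
      have : LocalizedModule.mk v s =
          algebraMap R A b • LocalizedModule.mk w (⟨r, hr⟩ * s : p.primeCompl) := by
        rw [algebraMap_smul, LocalizedModule.smul'_mk, ← hw, ← LocalizedModule.mk_cancel_common_left (⟨r, hr⟩ : p.primeCompl) s v]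
        rfl
      rw [this]
      exact Submodule.smul_mem_smul hbA Submodule.mem_top
  have hbot : (⊤ : Submodule A L) = ⊥ := Submodule.eq_bot_of_le_smul_of_le_jacobson_bot _ _
    (Module.Finite.fg_top) htop (IsLocalRing.maximalIdeal_le_jacobson _)
  have h0 : (LocalizedModule.mk h 1 : L) = 0 := (Submodule.eq_bot_iff _).1 hbot _ Submodule.mem_top
  obtain ⟨u, hu⟩ := LocalizedModule.mk_eq.1 (h0.trans (LocalizedModule.zero_mk (1 : p.primeCompl)).symm)
  refine ⟨u, u.2, ?_⟩
  simpa [Submonoid.smul_def] using hu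

theorem locally_zero [p.IsMaximal] [Nontrivial N] (hN : ∀ a ∈ p, ∀ n : N, a • n = 0) (gens : List R)
    (hgens : p = Ideal.span {b | b ∈ gens}) :
    ∀ (l : List R) (M : DerivedCategory (ModuleCat.{u} R)), (∀ b ∈ l, b ∈ p) →
      (∀ i, Module.Finite R (H i M)) → (∃ c, M.IsGE c) →
      (∀ (i : ℤ) (f : (DerivedCategory.singleFunctor (ModuleCat.{u} R) 0).obj N ⟶ M⟦i⟧), f = 0) →
      (∀ a ∈ gens, a ∈ l ∨ ∀ i, Tors a (H i M)) →
      ∀ (i : ℤ) (h : H i M), ∃ r ∉ p, r • h = 0 := by
  intro l
  induction l with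
  | nil =>
    intro M _ _ hb hhom ht i h
    obtain ⟨c, hc⟩ := hb
    haveI := hc
    have htp : ∀ a ∈ p, ∀ i, Tors a (H i M) := fun a ha i z => by
      have hle : p ≤ Ideal.radical (LinearMap.ker (LinearMap.toSpanSingleton R (H i M) z)) := by
        rw [hgens, Ideal.span_le]
        intro b hb'
        obtain ⟨k, hk⟩ := (ht b hb').resolve_left List.not_mem_nil i z
        exact ⟨k, hk⟩
      obtain ⟨k, hk⟩ := hle ha
      exact ⟨k, hk⟩
    haveI := subsingleton_of_torsion p N hN M c hhom htp i
    exact ⟨1, (Ideal.ne_top_iff_one p).1 (Ideal.IsMaximal.ne_top ‹_›), Subsingleton.elim _ _⟩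
  | cons b l ih =>
    intro M hl hfg hbd hhom ht i h
    obtain ⟨C, g, d, hT⟩ := distinguished_cocone_triangle (mul b M)
    let T := Triangle.mk (mul b M) g d
    let α (j : ℤ) : H j M →ₗ[R] H j C := ((DerivedCategory.homologyFunctor (ModuleCat.{u} R) j).map g).hom
    let β (j : ℤ) : H j C →ₗ[R] H (j + 1) M := (DerivedCategory.HomologySequence.δ T j (j + 1) rfl).hom
    have ex2 : ∀ j (z : H j M), α j z = 0 → ∃ w, b • w = z := fun j z hz => by
      obtain ⟨w, hw⟩ := (ShortComplex.moduleCat_exact_iff _).1 (DerivedCategory.HomologySequence.exact₂ _ hT j) z hz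
      exact ⟨w, (H_mul b M j w).symm.trans hw⟩
    have ex3 : ∀ j (z : H j C), β j z = 0 → ∃ w, α j w = z := fun j z hz =>
      (ShortComplex.moduleCat_exact_iff _).1 (DerivedCategory.HomologySequence.exact₃ _ hT j (j + 1) rfl) z hz
    have hbβ : ∀ j (z : H j C), b • β j z = 0 := fun j z =>
      (H_mul b M (j + 1) (β j z)).symm.trans
        (ConcreteCategory.congr_hom (DerivedCategory.HomologySequence.δ_comp _ hT j (j + 1) rfl) z)
    have hbα : ∀ j (y : H j M), b • α j y = 0 := fun j y => by
      have h1 := ConcreteCategory.congr_hom (((DerivedCategory.homologyFunctor (ModuleCat.{u} R) j).map_comp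
        (mul b M) g).symm.trans ((congrArg _ (comp_distTriang_mor_zero₁₂ _ hT)).trans (Functor.map_zero _ _ _))) y
      rw [← map_smul, ← H_mul b M j y]
      exact h1
    have hfg' : ∀ j, Module.Finite R (H j C) := fun j => by
      haveI := hfg j
      haveI := hfg (j + 1)
      refine Module.Finite.of_exact (f := α j) (g := (β j).rangeRestrict) (fun z => ?_) (β j).surjective_rangeRestrict
      rw [show (β j).rangeRestrict z = 0 ↔ β j z = 0 from Subtype.ext_iff]
      exact ⟨ex3 j z, by
        rintro ⟨w, rfl⟩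
        exact ConcreteCategory.congr_hom (DerivedCategory.HomologySequence.comp_δ _ hT j (j + 1) rfl) w⟩
    have hC : ∀ j (z : H j C), ∃ r ∉ p, r • z = 0 := by
      refine ih C (fun c hc => hl c (List.mem_cons_of_mem _ hc)) hfg' ?_ (fun j f => ?_) fun a ha => ?_
      · obtain ⟨c, hc⟩ := hbd
        haveI := hc
        refine ⟨c - 1, (DerivedCategory.isGE_iff C _).2 fun j hj => ModuleCat.isZero_of_iff_subsingleton.2
          (subsingleton_of_forall_eq 0 fun z => ?_)⟩
        haveI := ModuleCat.subsingleton_of_isZero (DerivedCategory.isZero_of_isGE M c j (by omega))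
        haveI := ModuleCat.subsingleton_of_isZero (DerivedCategory.isZero_of_isGE M c (j + 1) (by omega))
        obtain ⟨w, rfl⟩ := ex3 j z (Subsingleton.elim _ _)
        rw [Subsingleton.elim w 0, map_zero]
      · let T' := (Triangle.shiftFunctor (DerivedCategory (ModuleCat.{u} R)) j).obj T
        have hT' : T' ∈ distTriang _ := Triangle.shift_distinguished T hT j
        have h3 : f ≫ T'.mor₃ = 0 := by
          rw [← cancel_mono ((shiftFunctorAdd' (DerivedCategory (ModuleCat.{u} R)) j 1 (j + 1) rfl).inv.app M)]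
          rw [zero_comp]
          exact hhom _ _
        obtain ⟨u', hu'⟩ := Triangle.coyoneda_exact₃ T' hT' f h3
        rw [hu', show u' = 0 from hhom j u']
        exact zero_comp
      · by_cases hab : a = b
        · subst hab
          refine Or.inr fun j z => ⟨2, ?_⟩
          obtain ⟨w, hw⟩ := ex3 j (a • z) ((map_smul (β j) a z).trans (hbβ j z))
          rw [pow_two, mul_smul, ← hw, hbα]
        · rcases ht a ha with h1 | h1
          · exact Or.inl ((List.mem_cons.1 h1).resolve_left hab)
          · refine Or.inr fun j z => ?_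
            obtain ⟨k, hk⟩ := h1 (j + 1) (β j z)
            obtain ⟨w, hw⟩ := ex3 j (a ^ k • z) ((map_smul (β j) _ z).trans hk)
            obtain ⟨m, hm⟩ := h1 j w
            exact ⟨m + k, by rw [pow_add, mul_smul, ← hw, ← map_smul, hm, map_zero]⟩
    haveI := hfg i
    refine exists_smul_eq_zero p (hl b List.mem_cons_self) (fun z => ?_) h
    obtain ⟨r, hr, hrz⟩ := hC i (α i z)
    obtain ⟨w, hw⟩ := ex2 i (r • z) ((map_smul (α i) r z).trans hrz)
    exact ⟨r, hr, w, hw.symm⟩

end Groth.Agent.H9Misc.KillDer
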