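import Groth.Prelude.Def_DerComp
import Groth.Agent.ModPull.TensorSec
import Groth.Agent.ModTensor.ProjSheaf
import Mathlib.Algebra.Homology.ShortComplex.ShortExact
import Mathlib.CategoryTheory.Abelian.Refinements

/-!
# Modules killed by scalars and tensoring with an algebra-like module
-/

set_option linter.style.haveILetI false
set_option maxHeartbeats 1000000

universe u

open CategoryTheory CategoryTheory.Category CategoryTheory.Limits Opposite
open Groth.Agent.ModTensor Groth.Agent.ModPull

namespace Groth.Agent.H9Misc.KillUnit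

variable {C : Type u} [SmallCategory C] {J : GrothendieckTopology C} {O : Sheaf J CommRingCat.{u}}

/-- A global section of a sheaf of modules. -/
structure Sec (A : ModSite.Mod O) where
  /-- The sections. -/
  val : ∀ X : Cᵒᵖ, ((fg O).obj A).obj X
  map : ∀ {X Y : Cᵒᵖ} (g : X ⟶ Y), rs ((fg O).obj A) g (val X) = val Y

variable {A : ModSite.Mod O}

/-- The map `m ↦ m ⊗ e`. -/
noncomputable def unitApp (e : Sec A) (M : ModSite.Mod O) : M ⟶ ten M A :=
  (fg O).preimage
    { app := fun X => ModuleCat.ofHom (R := O.obj.obj X) (X := ((fg O).obj M).obj X)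
          (Y := ((fg O).obj (ten M A)).obj X)
        { toFun := fun x => shT M A x (e.val X)
          map_add' := fun x y => shT_add_left x y _
          map_smul' := fun r x => shT_smul_left r x _ }
      naturality := fun {X Y} g => by
        ext x
        show shT M A (rs ((fg O).obj M) g x) (e.val Y) = rs ((fg O).obj (ten M A)) g (shT M A x (e.val X))
        rw [rs_shT, e.map] }

lemma unitApp_app (e : Sec A) (M : ModSite.Mod O) (X : Cᵒᵖ) (x : ((fg O).obj M).obj X) :
    ((fg O).map (unitApp e M)).app X x = shT M A x (e.val X) := by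
  rw [unitApp, Functor.map_preimage]
  rfl

lemma hom_ext_app {M N : ModSite.Mod O} {f g : M ⟶ N}
    (h : ∀ (X : Cᵒᵖ) (x : ((fg O).obj M).obj X), ((fg O).map f).app X x = ((fg O).map g).app X x) : f = g :=
  (fg O).map_injective (PresheafOfModules.hom_ext fun X => ModuleCat.hom_ext (LinearMap.ext (h X)))

/-- The natural map `M → M ⊗ A`. -/
noncomputable def unitT (e : Sec A) : 𝟭 (ModSite.Mod O) ⟶ (ModSite.tensorBi O).flip.obj A where
  app := unitApp e
  naturality M N φ := hom_ext_app fun X x => by
    show ((fg O).map (φ ≫ unitApp e N)).app X x =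
      ((fg O).map (unitApp e M ≫ ((ModSite.tensorBi O).map φ).app A)).app X x
    rw [Functor.map_comp, Functor.map_comp]
    show ((fg O).map (unitApp e N)).app X (((fg O).map φ).app X x) =
      ((fg O).map (((ModSite.tensorBi O).map φ).app A)).app X (((fg O).map (unitApp e M)).app X x)
    rw [unitApp_app, unitApp_app, shT_map_left]

variable (O) in
/-- The unit section of the structure sheaf. -/
noncomputable def oneSec : Sec (ModSite.unit O) where
  val X := (1 : O.obj.obj X)
  map g := map_one (O.obj.map g).hom

/-- The map `r ↦ r • e`. -/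
noncomputable def secHom (e : Sec A) : ModSite.unit O ⟶ A :=
  (fg O).preimage
    { app := fun X => ModuleCat.ofHom (R := O.obj.obj X) (X := ((fg O).obj (ModSite.unit O)).obj X)
          (Y := ((fg O).obj A).obj X)
        { toFun := fun (r : O.obj.obj X) => r • e.val X
          map_add' := fun (r s : O.obj.obj X) => add_smul r s (e.val X)
          map_smul' := fun (r : O.obj.obj X) (s : O.obj.obj X) => mul_smul r s (e.val X) }
      naturality := fun {X Y} g => by
        refine ModuleCat.hom_ext (LinearMap.ext fun (r : O.obj.obj X) => ?_)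
        show (O.obj.map g).hom r • e.val Y = rs ((fg O).obj A) g (r • e.val X)
        rw [rs_smul, e.map] }

lemma secHom_app (e : Sec A) (X : Cᵒᵖ) (r : O.obj.obj X) :
    ((fg O).map (secHom e)).app X r = r • e.val X := by
  rw [secHom, Functor.map_preimage]
  rfl

lemma unitApp_eq (e : Sec A) (M : ModSite.Mod O) :
    unitApp e M = unitApp (oneSec O) M ≫ ((ModSite.tensorBi O).obj M).map (secHom e) := hom_ext_app fun X x => by
  rw [Functor.map_comp]
  show _ = ((fg O).map (((ModSite.tensorBi O).obj M).map (secHom e))).app X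
    (((fg O).map (unitApp (oneSec O) M)).app X x)
  rw [unitApp_app, unitApp_app, shT_map_right, secHom_app]
  exact congrArg (shT M A x) (one_smul (O.obj.obj X) (e.val X)).symm

theorem isIso_unitApp_one (M : ModSite.Mod O) : IsIso (unitApp (oneSec O) M) := by
  let inv' : ten M (ModSite.unit O) ⟶ M :=
    ((shAdj O).homEquiv _ _).symm (MonoidalCategory.rightUnitor (C := P₀ O) ((fg O).obj M)).hom
  have h : ∀ (X : Cᵒᵖ) (x : ((fg O).obj M).obj X) (r : ((fg O).obj (ModSite.unit O)).obj X),
      ((fg O).map inv').app X (shT M (ModSite.unit O) x r) = (show O.obj.obj X from r) • x := fun X x r => by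
    refine (shu_desc inv' (tm (R := O.obj) x r)).trans ?_
    rw [Equiv.apply_symm_apply]
    rfl
  refine ⟨inv', hom_ext_app fun X x => ?_, shT_hom_ext fun X x r => ?_⟩
  · rw [Functor.map_comp, CategoryTheory.Functor.map_id]
    show ((fg O).map inv').app X (((fg O).map (unitApp (oneSec O) M)).app X x) = x
    rw [unitApp_app, h]
    exact one_smul _ x
  · rw [Functor.map_comp, CategoryTheory.Functor.map_id]
    show ((fg O).map (unitApp (oneSec O) M)).app X (((fg O).map inv').app X (shT M (ModSite.unit O) x r)) = _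
    rw [h, unitApp_app]
    refine (shT_smul_left _ x _).trans ((shT_smul_right _ x _).symm.trans ?_)
    exact congrArg (shT M (ModSite.unit O) x) (mul_one (show O.obj.obj X from r))

/-- A component of a global section of the structure sheaf. -/
abbrev gv (a : DerComp.GSec O) (W : Cᵒᵖ) : O.obj.obj W := a.1 W.unop

section Quot

/-- The quotient by a list of scalars. -/
noncomputable def quotObj : List (DerComp.GSec O) → ModSite.Mod O → ModSite.Mod O
  | [], X => X
  | a :: l, X => cokernel (a • 𝟙 (quotObj l X))

/-- The projection to the quotient. -/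
noncomputable def quotπ : (l : List (DerComp.GSec O)) → (X : ModSite.Mod O) → (X ⟶ quotObj l X)
  | [], X => 𝟙 X
  | a :: l, X => quotπ l X ≫ cokernel.π (a • 𝟙 (quotObj l X))

/-- The functoriality of the quotient. -/
noncomputable def quotMap : (l : List (DerComp.GSec O)) → {X Y : ModSite.Mod O} → (X ⟶ Y) →
    (quotObj l X ⟶ quotObj l Y)
  | [], _, _, f => f
  | a :: l, _, _, f => cokernel.map _ _ (quotMap l f) (quotMap l f) (by simp)

lemma quotπ_map (l : List (DerComp.GSec O)) {X Y : ModSite.Mod O} (f : X ⟶ Y) :
    quotπ l X ≫ quotMap l f = f ≫ quotπ l Y := by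
  induction l with
  | nil => exact (id_comp f).trans (comp_id f).symm
  | cons a l ih =>
    show (quotπ l X ≫ cokernel.π _) ≫ cokernel.map (a • 𝟙 (quotObj l X)) (a • 𝟙 (quotObj l Y)) (quotMap l f)
      (quotMap l f) (by simp) = f ≫ quotπ l Y ≫ cokernel.π _
    rw [assoc, cokernel.π_desc, ← assoc, ih, assoc]

instance epi_quotπ : ∀ (l : List (DerComp.GSec O)) (X : ModSite.Mod O), Epi (quotπ l X)
  | [], X => inferInstanceAs (Epi (𝟙 X))
  | a :: l, X =>
    haveI := epi_quotπ l X
    inferInstanceAs (Epi (quotπ l X ≫ cokernel.π _))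

theorem isIso_map_quotπ (F : ModSite.Mod O ⥤ ModSite.Mod O) [PreservesFiniteColimits F] [F.PreservesZeroMorphisms]
    (l : List (DerComp.GSec O)) (hF : ∀ a ∈ l, ∀ X, F.map (a • 𝟙 X) = 0) (X : ModSite.Mod O) :
    IsIso (F.map (quotπ l X)) := by
  induction l with
  | nil =>
    show IsIso (F.map (𝟙 X))
    infer_instance
  | cons a l ih =>
    have := ih fun b hb => hF b (List.mem_cons_of_mem _ hb)
    have h0 := hF a (by simp) (quotObj l X)
    have : IsIso (F.map (cokernel.π (a • 𝟙 (quotObj l X)))) := by
      have hc := isColimitCoforkMapOfIsColimit' F (cokernel.condition (a • 𝟙 (quotObj l X)))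
        (cokernelIsCokernel (a • 𝟙 (quotObj l X)))
      exact CokernelCofork.IsColimit.isIso_π _ hc h0
    show IsIso (F.map (quotπ l X ≫ cokernel.π _))
    rw [F.map_comp]
    infer_instance

/-- The subgroup spanned by the scalars, on sections. -/
def InSpan (X : ModSite.Mod O) (W : Cᵒᵖ) : List (DerComp.GSec O) → ((fg O).obj X).obj W → Prop
  | [], x => x = 0
  | a :: l, x => ∃ y, InSpan X W l (x - gv a W • y)

lemma InSpan.rs {X : ModSite.Mod O} {W W' : Cᵒᵖ} (g : W ⟶ W') :
    ∀ {l : List (DerComp.GSec O)} {x : ((fg O).obj X).obj W}, InSpan X W l x →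
      InSpan X W' l (Groth.Agent.ModTensor.rs ((fg O).obj X) g x)
  | [], x, h => by
    show _ = 0
    rw [show x = 0 from h]
    exact map_zero (((fg O).obj X).map g).hom
  | a :: l, x, ⟨y, h⟩ => by
    refine ⟨Groth.Agent.ModTensor.rs ((fg O).obj X) g y, ?_⟩
    have h' := InSpan.rs g h
    rw [show Groth.Agent.ModTensor.rs ((fg O).obj X) g (x - gv a W • y) =
      Groth.Agent.ModTensor.rs ((fg O).obj X) g x - Groth.Agent.ModTensor.rs ((fg O).obj X) g (gv a W • y)
      from map_sub (((fg O).obj X).map g).hom _ _, rs_smul, show (O.obj.map g).hom (gv a W) = gv a W' from a.2 g.unop] at h'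
    exact h'

lemma quotπ_eq_zero {X : ModSite.Mod O} {W : Cᵒᵖ} :
    ∀ {l : List (DerComp.GSec O)} {x : ((fg O).obj X).obj W}, InSpan X W l x →
      ((fg O).map (quotπ l X)).app W x = 0
  | [], x, h => by
    rw [show x = 0 from h]
    exact map_zero (((fg O).map (quotπ [] X)).app W).hom
  | a :: l, x, ⟨y, h⟩ => by
    have h' := quotπ_eq_zero h
    rw [map_sub, sub_eq_zero, map_smul] at h'
    show ((fg O).map (quotπ l X ≫ cokernel.π _)).app W x = 0
    rw [Functor.map_comp]
    show ((fg O).map (cokernel.π _)).app W (((fg O).map (quotπ l X)).app W x) = 0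
    rw [h']
    have hc := congrArg (fun t => ((fg O).map t).app W (((fg O).map (quotπ l X)).app W y))
      (cokernel.condition (a • 𝟙 (quotObj l X)))
    simp only [Functor.map_comp, Functor.map_zero] at hc
    refine Eq.trans ?_ hc
    show _ = ((fg O).map (cokernel.π _)).app W (((fg O).map (DerComp.smulEnd a (quotObj l X) ≫ 𝟙 _)).app W _)
    rw [comp_id]
    rfl

lemma locally_of_exact (S : ShortComplex (ModSite.Mod O)) (hS : S.Exact) {W : C}
    (x : ((fg O).obj S.X₂).obj (op W)) (h : ((fg O).map S.g).app (op W) x = 0) :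
    Locally J W (fun V g => ∃ y : ((fg O).obj S.X₁).obj (op V),
      ((fg O).map S.f).app (op V) y = rs ((fg O).obj S.X₂) g.op x) := by
  let ψ : ModSite.freeOn O W ⟶ S.X₂ := (freeOnCorepr O W).homEquiv.symm x
  have hψ : ψ ≫ S.g = 0 := by
    show (freeOnCorepr O W).homEquiv.symm x ≫ S.g = 0
    rw [freeOnCorepr_symm_comp, h]
    refine (freeOnCorepr O W).homEquiv.injective (((freeOnCorepr O W).homEquiv.apply_symm_apply _).trans ?_)
    have e := (freeOnCorepr O W).homEquiv_comp (0 : S.X₂ ⟶ S.X₃) ψ
    rw [comp_zero] at e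
    exact e.symm
  obtain ⟨T, π, hπ, y, hy⟩ := hS.exact_up_to_refinements ψ hψ
  refine (locally_exists_app_eq π ((freeOnCorepr O W).homEquiv (𝟙 (ModSite.freeOn O W)))).mono ?_
  rintro V g ⟨m, hm⟩
  refine ⟨((fg O).map y).app (op V) m, ?_⟩
  have e := congrArg (fun t => ((fg O).map t).app (op V) m) hy
  simp only [Functor.map_comp] at e
  refine Eq.trans ?_ (Eq.trans e.symm ?_)
  · rfl
  show ((fg O).map ψ).app (op V) (((fg O).map π).app (op V) m) = _
  rw [hm, app_rs]
  refine congrArg (fun z => rs ((fg O).obj S.X₂) g.op z) ?_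
  refine ((freeOnCorepr O W).homEquiv_comp ψ (𝟙 _)).symm.trans ?_
  rw [id_comp]
  exact (freeOnCorepr O W).homEquiv.apply_symm_apply x

lemma locally_inSpan {X : ModSite.Mod O} :
    ∀ {l : List (DerComp.GSec O)} {W : C} {x : ((fg O).obj X).obj (op W)},
      ((fg O).map (quotπ l X)).app (op W) x = 0 →
        Locally J W (fun V g => InSpan X (op V) l (rs ((fg O).obj X) g.op x))
  | [], W, x, h => Locally.of_id fun V g => by
    have h' : x = 0 := h
    show _ = 0
    rw [h']
    exact map_zero (((fg O).obj X).map g.op).hom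
  | a :: l, W, x, h => by
    have hz := locally_of_exact _ (ShortComplex.exact_cokernel (a • 𝟙 (quotObj l X)))
      (((fg O).map (quotπ l X)).app (op W) x) h
    refine hz.bind fun V g ⟨z, hz⟩ => (locally_exists_app_eq (quotπ l X) z).bind fun V' g' ⟨y, hy⟩ => ?_
    have h0 : ((fg O).map (quotπ l X)).app (op V')
        (rs ((fg O).obj X) (g' ≫ g).op x - gv a (op V') • y) = 0 := by
      rw [map_sub, map_smul, sub_eq_zero, app_rs, hy, op_comp, rs_comp, ← hz]
      show rs ((fg O).obj (quotObj l X)) g'.op
        (((fg O).map (DerComp.smulEnd a (quotObj l X) ≫ 𝟙 _)).app (op V) z) = _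
      rw [comp_id]
      refine (rs_smul g'.op _ _).trans ?_
      exact congrArg (· • rs ((fg O).obj (quotObj l X)) g'.op z) (a.2 g')
    refine (locally_inSpan h0).mono fun V'' g'' hs => ⟨rs ((fg O).obj X) g''.op y, ?_⟩
    rw [show rs ((fg O).obj X) g''.op (rs ((fg O).obj X) (g' ≫ g).op x - gv a (op V') • y) =
      rs ((fg O).obj X) g''.op (rs ((fg O).obj X) (g' ≫ g).op x) -
        rs ((fg O).obj X) g''.op (gv a (op V') • y) from map_sub (((fg O).obj X).map g''.op).hom _ _,
      rs_smul, show (O.obj.map g''.op).hom (gv a (op V')) = gv a (op V'') from a.2 g'', ← rs_comp, ← op_comp,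
      ← Category.assoc] at hs
    exact hs

end Quot

/-- The hypothesis that `O → A` is an isomorphism modulo the scalars. -/
structure IsQuotEquiv (e : Sec A) (r : List (DerComp.GSec O)) : Prop where
  inj : ∀ (W : C) (x : O.obj.obj (op W)), InSpan A (op W) r (x • e.val (op W)) →
    Locally J W (fun V g => InSpan (ModSite.unit O) (op V) r (rs ((fg O).obj (ModSite.unit O)) g.op x))
  surj : ∀ (W : C) (y : ((fg O).obj A).obj (op W)),
    Locally J W (fun V g => ∃ x : O.obj.obj (op V),
      InSpan A (op V) r (rs ((fg O).obj A) g.op y - x • e.val (op V)))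

variable {e : Sec A} {r : List (DerComp.GSec O)}

theorem IsQuotEquiv.isIso_quotMap (he : IsQuotEquiv e r) : IsIso (quotMap r (secHom e)) := by
  have hc : ∀ (W : Cᵒᵖ) (x : O.obj.obj W), ((fg O).map (quotMap r (secHom e))).app W
      (((fg O).map (quotπ r (ModSite.unit O))).app W x) = ((fg O).map (quotπ r A)).app W (x • e.val W) := fun W x => by
    have h := congrArg (fun t => ((fg O).map t).app W (show ((fg O).obj (ModSite.unit O)).obj W from x))
      (quotπ_map r (secHom e))
    simp only [Functor.map_comp] at h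
    exact h.trans (congrArg (((fg O).map (quotπ r A)).app W).hom (secHom_app e W x))
  have : Mono (quotMap r (secHom e)) := mono_of_app_eq_zero _ fun W z hz => by
    refine eq_of_locally' _ ((locally_exists_app_eq (quotπ r (ModSite.unit O)) z).bind fun V g ⟨x, hx⟩ => ?_)
    have h0 : ((fg O).map (quotπ r A)).app (op V) ((show O.obj.obj (op V) from x) • e.val (op V)) = 0 := by
      rw [← hc, hx, app_rs, hz]
      exact map_zero (((fg O).obj (quotObj r A)).map g.op).hom
    refine (locally_inSpan h0).bind fun V' g' hs => ?_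
    rw [rs_smul, e.map] at hs
    refine (he.inj V' _ hs).mono fun V'' g'' hs' => ?_
    have h1 := quotπ_eq_zero hs'
    rw [app_rs] at h1
    refine Eq.trans ?_ (map_zero (((fg O).obj (quotObj r (ModSite.unit O))).map ((g'' ≫ g') ≫ g).op).hom).symm
    rw [op_comp, rs_comp, op_comp, rs_comp, ← hx]
    refine Eq.trans ?_ h1
    exact congrArg (rs _ g''.op) (app_rs ((fg O).map (quotπ r (ModSite.unit O))) g'.op x).symm
  have : Epi (quotMap r (secHom e)) := by
    refine Preadditive.epi_of_cancel_zero _ fun {Z} k hk => ?_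
    have : quotπ r A ≫ k = 0 := hom_ext_app fun X y => by
      refine eq_of_locally' _ ((he.surj X.unop y).mono fun V g ⟨x, hs⟩ => ?_)
      have h1 := quotπ_eq_zero hs
      rw [map_sub, sub_eq_zero, ← hc, app_rs] at h1
      rw [Functor.map_comp, Functor.map_zero]
      refine Eq.trans ?_ (map_zero (((fg O).obj Z).map g.op).hom).symm
      show rs ((fg O).obj Z) g.op (((fg O).map k).app (op X.unop) (((fg O).map (quotπ r A)).app (op X.unop) y)) = 0
      rw [← app_rs, h1]
      have h2 := congrArg (fun t => ((fg O).map t).app (op V) (((fg O).map (quotπ r (ModSite.unit O))).app (op V) x)) hk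
      simp only [Functor.map_comp, Functor.map_zero] at h2
      exact h2
    rw [← cancel_epi (quotπ r A), this, comp_zero]
  exact isIso_of_mono_of_epi _

/-- A module killed by the scalars is unchanged. -/
theorem IsQuotEquiv.isIso_unitApp_of_killed (he : IsQuotEquiv e r) (M : ModSite.Mod O)
    (hM : ∀ a ∈ r, a • 𝟙 M = 0) : IsIso (unitApp e M) := by
  let F := (ModSite.tensorBi O).obj M
  haveI : F.PreservesZeroMorphisms := by
    have : PreservesFiniteColimits F := inferInstance
    haveI : PreservesFiniteCoproducts F := inferInstance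
    haveI : F.Additive := Functor.additive_of_preserves_binary_products F
    infer_instance
  have hF : ∀ a ∈ r, ∀ X, F.map (a • 𝟙 X) = 0 := fun a ha X => shT_hom_ext fun W x y => by
    rw [Functor.map_zero]
    refine (shT_map_right _ x y).trans ?_
    show shT M X x (((fg O).map (DerComp.smulEnd a X ≫ 𝟙 X)).app W y) = 0
    rw [comp_id]
    have h0 : gv a W • x = 0 := by
      have := congrArg (fun t => ((fg O).map t).app W x) (hM a ha)
      simp only [Functor.map_zero] at this
      refine Eq.trans ?_ this
      show _ = ((fg O).map (DerComp.smulEnd a M ≫ 𝟙 M)).app W x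
      rw [comp_id]
      rfl
    refine (shT_smul_right _ x y).trans ((shT_smul_left _ x y).symm.trans ?_)
    rw [h0]
    exact shT_zero_left y
  have := isIso_map_quotπ F r hF A
  have := isIso_map_quotπ F r hF (ModSite.unit O)
  have := he.isIso_quotMap
  have := congrArg F.map (quotπ_map r (secHom e))
  rw [F.map_comp, F.map_comp] at this
  have : IsIso (F.map (secHom e)) := by
    have h : IsIso (F.map (secHom e) ≫ F.map (quotπ r A)) := by rw [← this]; infer_instance
    exact IsIso.of_isIso_comp_right _ (F.map (quotπ r A))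
  have := isIso_unitApp_one M
  rw [unitApp_eq]
  infer_instance

end Groth.Agent.H9Misc.KillUnit
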