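import Groth.Agent.H9Misc.KosTri
import Mathlib.Algebra.Homology.DerivedCategory.Linear
import Mathlib.Algebra.Homology.HomotopyCategory.Pretriangulated
import Mathlib.Algebra.Homology.Embedding.CochainComplex
import Mathlib.CategoryTheory.Linear.LinearFunctor

/-!
# Koszul complexes as iterated mapping cones
-/

universe w' w v v' u u'

open CategoryTheory CategoryTheory.Category CategoryTheory.Limits CategoryTheory.Pretriangulated CochainComplex

namespace Groth.Agent.H9Misc.KosCx

variable {A : Type u} [Category.{v} A] [Abelian A] {R : Type w} [CommRing R] [Linear R A]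

/-- Iterated mapping cones of scalars. -/
noncomputable def Kc : List R → CochainComplex A ℤ → CochainComplex A ℤ
  | [], X => X
  | a :: l, X => Kc l (mappingCone (a • 𝟙 X))

@[simp] lemma Kc_nil (X : CochainComplex A ℤ) : Kc ([] : List R) X = X := rfl

lemma Kc_cons (a : R) (l : List R) (X : CochainComplex A ℤ) : Kc (a :: l) X = Kc l (mappingCone (a • 𝟙 X)) := rfl

/-- The Koszul complex is an iterated cone in the derived category. -/
theorem chain_Q [HasDerivedCategory.{w'} A] (l : List R) (X : CochainComplex A ℤ) :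
    KosTri.Chain l (DerivedCategory.Q.obj X) (DerivedCategory.Q.obj (Kc l X)) := by
  induction l generalizing X with
  | nil => exact .nil (Iso.refl _)
  | cons a l ih =>
    refine .cons (DerivedCategory.Q.map (mappingCone.inr (a • 𝟙 X)))
      (DerivedCategory.Q.mapTriangle.obj (mappingCone.triangle (a • 𝟙 X))).mor₃ ?_ (ih _)
    refine isomorphic_distinguished _ (DerivedCategory.mappingCone_triangle_distinguished (a • 𝟙 X)) _ ?_
    refine Triangle.isoMk _ _ (Iso.refl _) (Iso.refl _) (Iso.refl _) ?_ ?_ ?_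
    · show (a • 𝟙 _) ≫ 𝟙 _ = 𝟙 _ ≫ DerivedCategory.Q.map (a • 𝟙 X)
      rw [Functor.map_smul, CategoryTheory.Functor.map_id, comp_id, id_comp]
    · exact (comp_id _).trans (id_comp _).symm
    · show _ ≫ (𝟙 _)⟦(1 : ℤ)⟧' = _
      rw [CategoryTheory.Functor.map_id]
      exact (comp_id _).trans (id_comp _).symm

/-- The Koszul complex is an iterated cone in the homotopy category. -/
theorem chain_quotient (l : List R) (X : CochainComplex A ℤ) :
    KosTri.Chain l ((HomotopyCategory.quotient A (ComplexShape.up ℤ)).obj X)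
      ((HomotopyCategory.quotient A (ComplexShape.up ℤ)).obj (Kc l X)) := by
  induction l generalizing X with
  | nil => exact .nil (Iso.refl _)
  | cons a l ih =>
    refine .cons ((HomotopyCategory.quotient A _).map (mappingCone.inr (a • 𝟙 X)))
      (mappingCone.triangleh (a • 𝟙 X)).mor₃ ?_ (ih _)
    refine isomorphic_distinguished _ (HomotopyCategory.mappingCone_triangleh_distinguished (a • 𝟙 X)) _ ?_
    refine Triangle.isoMk _ _ (Iso.refl _) (Iso.refl _) (Iso.refl _) ?_ ?_ ?_
    · show (a • 𝟙 _) ≫ 𝟙 _ = 𝟙 _ ≫ (HomotopyCategory.quotient A _).map (a • 𝟙 X)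
      rw [Functor.map_smul, CategoryTheory.Functor.map_id, comp_id, id_comp]
    · exact (comp_id _).trans (id_comp _).symm
    · show _ ≫ (𝟙 _)⟦(1 : ℤ)⟧' = _
      rw [CategoryTheory.Functor.map_id]
      exact (comp_id _).trans (id_comp _).symm

/-- The scalars are nilpotent up to homotopy on the Koszul complex. -/
theorem exists_null (l : List R) (X : CochainComplex A ℤ) {a : R} (ha : a ∈ l) :
    ∃ k : ℕ, Nonempty (Homotopy (a ^ k • 𝟙 (Kc l X)) 0) := by
  obtain ⟨k, hk⟩ := (chain_quotient l X).nil_mem a ha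
  refine ⟨k, ⟨HomotopyCategory.homotopyOfEq _ _ ?_⟩⟩
  rw [Functor.map_smul, CategoryTheory.Functor.map_id, hk, Functor.map_zero]

/-- The scalars are nilpotent on the Koszul complex in the derived category. -/
theorem nil_Q [HasDerivedCategory.{w'} A] (l : List R) (X : CochainComplex A ℤ) :
    ∀ a ∈ l, KosTri.Nil a (DerivedCategory.Q.obj (Kc l X)) :=
  (chain_Q l X).nil_mem

/-- Terms of the Koszul complex inherit properties stable under binary sums. -/
theorem Kc_terms (P : A → Prop) (hiso : ∀ {M N : A}, (M ≅ N) → P M → P N)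
    (hsum : ∀ M N : A, P M → P N → P (M ⊞ N)) (l : List R) (X : CochainComplex A ℤ)
    (hX : ∀ n, P (X.X n)) : ∀ n, P ((Kc l X).X n) := by
  induction l generalizing X with
  | nil => exact hX
  | cons a l ih =>
    exact ih _ fun n => hiso (HomologicalComplex.homotopyCofiber.XIsoBiprod (a • 𝟙 X) n (n + 1) rfl).symm
      (hsum _ _ (hX _) (hX _))

/-- The Koszul complex has the same upper bound. -/
theorem Kc_isStrictlyLE (l : List R) (X : CochainComplex A ℤ) (b : ℤ) [CochainComplex.IsStrictlyLE X b] :
    CochainComplex.IsStrictlyLE (Kc l X) b := by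
  induction l generalizing X with
  | nil => assumption
  | cons a l ih =>
    have : (mappingCone (a • 𝟙 X)).IsStrictlyLE b := by
      rw [CochainComplex.isStrictlyLE_iff]
      intro i hi
      rw [IsZero.iff_id_eq_zero]
      refine mappingCone.ext_from _ (i + 1) i rfl ?_ ?_
      · exact (X.isZero_of_isStrictlyLE b (i + 1) (by omega)).eq_of_src _ _
      · exact (X.isZero_of_isStrictlyLE b i hi).eq_of_src _ _
    exact ih _

section Functors

variable {B : Type u'} [Category.{v'} B] [Abelian B]

set_option backward.defeqAttrib.useBackward true in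
set_option backward.isDefEq.respectTransparency false in
lemma map_cone_naturality (F : A ⥤ B) [F.Additive] {X : CochainComplex A ℤ} (φ : X ⟶ X) (r : X ⟶ X)
    (comm : φ ≫ r = r ≫ φ) :
    (F.mapHomologicalComplex (ComplexShape.up ℤ)).map (mappingCone.map φ φ r r comm) ≫
        (mappingCone.mapHomologicalComplexIso φ F).hom =
      (mappingCone.mapHomologicalComplexIso φ F).hom ≫
        mappingCone.map _ _ ((F.mapHomologicalComplex _).map r) ((F.mapHomologicalComplex _).map r)
          (by rw [← Functor.map_comp, ← Functor.map_comp, comm]) := by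
  rw [← Iso.inv_comp_eq]
  ext n
  apply (mappingCone.ext_from_iff _ (n + 1) n rfl _ _).2
  dsimp [mappingCone.mapHomologicalComplexIso, mappingCone.map]
  simp only [mappingCone.mapHomologicalComplexXIso_eq φ F n (n + 1) rfl]
  dsimp [mappingCone.mapHomologicalComplexXIso']
  simp only [Functor.mapHomologicalComplex_obj_X, Preadditive.comp_add, Preadditive.add_comp, assoc,
    mappingCone.inl_v_fst_v_assoc, mappingCone.inr_f_fst_v_assoc, mappingCone.inl_v_snd_v_assoc,
    mappingCone.inr_f_snd_v_assoc, zero_comp, comp_zero, add_zero, zero_add, ← F.map_comp_assoc]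
  constructor <;> simp [← F.map_comp]

lemma smul_id_cone {X : CochainComplex A ℤ} (a r : R) :
    r • 𝟙 (mappingCone (a • 𝟙 X)) = mappingCone.map (a • 𝟙 X) (a • 𝟙 X) (r • 𝟙 X) (r • 𝟙 X)
      (by rw [Linear.smul_comp, id_comp, Linear.smul_comp, id_comp, smul_comm]) := by
  ext n
  simp [mappingCone.map, mappingCone.ext_from_iff _ (n + 1) n rfl]

variable {A' : Type u'} [Category.{v'} A'] [Abelian A'] {R' : Type*} [CommRing R'] [Linear R' A']
  {B' : Type u'} [Category.{v'} B'] [Abelian B']
  {ι : Type*} (r : ι → R) (r' : ι → R') (F : A ⥤ B') [F.Additive] (G : A' ⥤ B') [G.Additive]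

/-- An isomorphism of images intertwining two families of scalars. -/
def Inter (X : CochainComplex A ℤ) (X' : CochainComplex A' ℤ) : Prop :=
  ∃ e : (F.mapHomologicalComplex (ComplexShape.up ℤ)).obj X ≅ (G.mapHomologicalComplex (ComplexShape.up ℤ)).obj X',
    ∀ b, (F.mapHomologicalComplex _).map (r b • 𝟙 X) ≫ e.hom = e.hom ≫ (G.mapHomologicalComplex _).map (r' b • 𝟙 X')

lemma inter_cone {X : CochainComplex A ℤ} {X' : CochainComplex A' ℤ} (h : Inter r r' F G X X') (a : ι) :
    Inter r r' F G (mappingCone (r a • 𝟙 X)) (mappingCone (r' a • 𝟙 X')) := by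
  obtain ⟨e, he⟩ := h
  let F' := F.mapHomologicalComplex (ComplexShape.up ℤ)
  let G' := G.mapHomologicalComplex (ComplexShape.up ℤ)
  let iF := mappingCone.mapHomologicalComplexIso (r a • 𝟙 X) F
  let iG := mappingCone.mapHomologicalComplexIso (r' a • 𝟙 X') G
  have he' : ∀ b, e.inv ≫ F'.map (r b • 𝟙 X) = G'.map (r' b • 𝟙 X') ≫ e.inv := fun b => by
    rw [Iso.inv_comp_eq, ← assoc, Iso.eq_comp_inv]; exact he b
  let m : mappingCone (F'.map (r a • 𝟙 X)) ≅ mappingCone (G'.map (r' a • 𝟙 X')) :=
    { hom := mappingCone.map _ _ e.hom e.hom (he a)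
      inv := mappingCone.map _ _ e.inv e.inv (he' a).symm
      hom_inv_id := by
        rw [← mappingCone.map_comp]
        simp only [e.hom_inv_id]
        exact mappingCone.map_id _
      inv_hom_id := by
        rw [← mappingCone.map_comp]
        simp only [e.inv_hom_id]
        exact mappingCone.map_id _ }
  refine ⟨iF ≪≫ m ≪≫ iG.symm, fun b => ?_⟩
  have cF : (r a • 𝟙 X) ≫ (r b • 𝟙 X) = (r b • 𝟙 X) ≫ (r a • 𝟙 X) := by
    rw [Linear.smul_comp, id_comp, Linear.smul_comp, id_comp, smul_comm]
  have cG : (r' a • 𝟙 X') ≫ (r' b • 𝟙 X') = (r' b • 𝟙 X') ≫ (r' a • 𝟙 X') := by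
    rw [Linear.smul_comp, id_comp, Linear.smul_comp, id_comp, smul_comm]
  rw [smul_id_cone (r a) (r b), smul_id_cone (r' a) (r' b)]
  simp only [Iso.trans_hom, Iso.symm_hom, assoc]
  rw [← assoc, map_cone_naturality F _ _ cF, assoc]
  congr 1
  have hn : G'.map (mappingCone.map (r' a • 𝟙 X') (r' a • 𝟙 X') (r' b • 𝟙 X') (r' b • 𝟙 X') cG) =
      iG.hom ≫ mappingCone.map _ _ (G'.map (r' b • 𝟙 X')) (G'.map (r' b • 𝟙 X'))
        (show G'.map (r' a • 𝟙 X') ≫ G'.map (r' b • 𝟙 X') = G'.map (r' b • 𝟙 X') ≫ G'.map (r' a • 𝟙 X') by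
          rw [← Functor.map_comp, ← Functor.map_comp, cG]) ≫ iG.inv := by
    rw [← assoc, Iso.eq_comp_inv]
    exact map_cone_naturality G _ _ cG
  rw [hn, iG.inv_hom_id_assoc, ← mappingCone.map_comp_assoc, ← mappingCone.map_comp_assoc]
  congr 2 <;> exact he b

/-- Intertwining isomorphisms pass to Koszul complexes. -/
theorem inter_Kc (l : List ι) {X : CochainComplex A ℤ} {X' : CochainComplex A' ℤ} (h : Inter r r' F G X X') :
    Inter r r' F G (Kc (l.map r) X) (Kc (l.map r') X') := by
  induction l generalizing X X' with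
  | nil => exact h
  | cons a l ih => exact ih (inter_cone r r' F G h a)

end Functors

end Groth.Agent.H9Misc.KosCx
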