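import Groth.Agent.H9Misc.KosCx
import Mathlib.CategoryTheory.Triangulated.Yoneda

/-!
# Morphisms which become invertible on iterated cones of scalars
-/

universe w' w v u

open CategoryTheory CategoryTheory.Category CategoryTheory.Limits CategoryTheory.Pretriangulated

namespace Groth.Agent.H9Misc.KosTri

variable {T : Type u} [Category.{v} T] [Preadditive T] [HasZeroObject T] [HasShift T ℤ]
  [∀ n : ℤ, (shiftFunctor T n).Additive] [Pretriangulated T]
  {R : Type w} [CommRing R] [Linear R T] [∀ n : ℤ, Functor.Linear R (shiftFunctor T n)]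

/-- A map which is bijective on maps into the cones of a scalar from objects on which it is nilpotent is already
bijective on maps into the objects themselves. -/
theorem bijective_of_cone {a : R} (S S' : Triangle T) (hS : S ∈ distTriang T) (hS' : S' ∈ distTriang T)
    (φ : S ⟶ S') (g : S.obj₁ ⟶ S'.obj₁) (e₁ : φ.hom₁ = g)
    (i : S.obj₁ ≅ S.obj₂) (i' : S'.obj₁ ≅ S'.obj₂) (hi : S.mor₁ = a • i.hom) (hi' : S'.mor₁ = a • i'.hom)
    (hφ : g ≫ i'.hom = i.hom ≫ φ.hom₂)
    (P : T → Prop) (hP : ∀ V, P V → Nil a V) (hPs : ∀ V (n : ℤ), P V → P (V⟦n⟧))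
    (h₃ : ∀ V : T, P V → Function.Bijective fun x : V ⟶ S.obj₃ => x ≫ φ.hom₃) :
    ∀ V : T, P V → Function.Bijective fun x : V ⟶ S.obj₁ => x ≫ g := by
  have hinj : ∀ V : T, P V → ∀ x : V ⟶ S.obj₁, x ≫ g = 0 → x = 0 := by
    intro V hV
    have step : ∀ x : V ⟶ S.obj₁, x ≫ g = 0 → ∃ x' : V ⟶ S.obj₁, x' ≫ g = 0 ∧ x = a • x' := by
      intro x hx
      have h1 : (x ≫ i.hom ≫ S.mor₂) ≫ φ.hom₃ = 0 := by
        rw [assoc, assoc, φ.comm₂, ← assoc i.hom, ← hφ, assoc, ← assoc x, hx, zero_comp]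
      obtain ⟨x', hx'⟩ := Triangle.coyoneda_exact₂ S hS (x ≫ i.hom) (by
        have := (h₃ V hV).1 (a₁ := x ≫ i.hom ≫ S.mor₂) (a₂ := 0) (h1.trans zero_comp.symm)
        rw [assoc]; exact this)
      rw [hi, Linear.comp_smul, ← Linear.smul_comp, cancel_mono] at hx'
      obtain ⟨z', hz'⟩ := Triangle.coyoneda_exact₁ S' hS' ((x' ≫ g)⟦(1 : ℤ)⟧') (by
        rw [← Functor.map_comp, show (x' ≫ g) ≫ S'.mor₁ = (x ≫ g) ≫ i'.hom by rw [hx', hi']; simp,
          hx, zero_comp, Functor.map_zero])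
      obtain ⟨z, hz⟩ := (h₃ _ (hPs _ 1 hV)).2 z'
      obtain ⟨x'', hx''⟩ := (shiftFunctor T (1 : ℤ)).map_surjective (z ≫ S.mor₃)
      refine ⟨x' - x'', (shiftFunctor T (1 : ℤ)).map_injective ?_, ?_⟩
      · change z ≫ φ.hom₃ = z' at hz
        rw [Preadditive.sub_comp, Functor.map_sub, Functor.map_zero, sub_eq_zero, hz', ← hz,
          (shiftFunctor T (1 : ℤ)).map_comp x'' g, hx'',
          assoc, assoc, ← e₁, φ.comm₃]
      · suffices a • x'' = 0 by rw [smul_sub, this, sub_zero, hx']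
        refine (shiftFunctor T (1 : ℤ)).map_injective ?_
        rw [← cancel_mono ((shiftFunctor T (1 : ℤ)).map i.hom), Functor.map_smul, hx'', Functor.map_zero, zero_comp,
          Linear.smul_comp, ← Linear.comp_smul, ← Functor.map_smul, ← hi, assoc]
        exact (congrArg (z ≫ ·) (comp_distTriang_mor_zero₃₁ S hS)).trans comp_zero
    intro x hx
    obtain ⟨k, hk, -⟩ := (hP V hV).smul_eq_zero
    obtain ⟨k', -, hk'⟩ := (hP V hV).smul_eq_zero
    have : ∀ n : ℕ, ∀ x : V ⟶ S.obj₁, x ≫ g = 0 → ∃ y : V ⟶ S.obj₁, x = a ^ n • y := fun n => by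
      induction n with
      | zero => exact fun x _ => ⟨x, by simp⟩
      | succ n ih =>
        intro x hx
        obtain ⟨x', hx', rfl⟩ := step x hx
        obtain ⟨y, rfl⟩ := ih x' hx'
        exact ⟨y, by rw [pow_succ', mul_smul]⟩
    obtain ⟨y, rfl⟩ := this k' x hx
    exact hk' _ y
  intro V hV
  refine ⟨fun x y hxy => sub_eq_zero.1 (hinj V hV _ (by rw [Preadditive.sub_comp, sub_eq_zero]; exact hxy)), ?_⟩
  have step : ∀ x' : V ⟶ S'.obj₁, ∃ x : V ⟶ S.obj₁, ∃ x'' : V ⟶ S'.obj₁, x' = x ≫ g + a • x'' := by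
    intro x'
    obtain ⟨y, hy⟩ := (h₃ V hV).2 (x' ≫ i'.hom ≫ S'.mor₂)
    change y ≫ φ.hom₃ = _ at hy
    obtain ⟨w, hw⟩ := (shiftFunctor T (1 : ℤ)).map_surjective
      (X := V⟦(-1 : ℤ)⟧) ((shiftFunctorCompIsoId T (-1 : ℤ) 1 (by omega)).hom.app V ≫ y ≫ S.mor₃)
    have hw0 : w = 0 := hinj _ (hPs _ _ hV) w ((shiftFunctor T (1 : ℤ)).map_injective (by
      rw [Functor.map_comp, hw, assoc, assoc, ← e₁, φ.comm₃, reassoc_of% hy, comp_distTriang_mor_zero₂₃ S' hS',
        comp_zero, comp_zero, comp_zero, Functor.map_zero]))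
    rw [hw0, Functor.map_zero] at hw
    have hy0 : y ≫ S.mor₃ = 0 := (cancel_epi _).1 (hw.symm.trans comp_zero.symm)
    obtain ⟨x, hx⟩ := Triangle.coyoneda_exact₃ S hS y hy0
    obtain ⟨x'', hx''⟩ := Triangle.coyoneda_exact₂ S' hS' ((x' - (x ≫ i.inv) ≫ g) ≫ i'.hom) (by
      rw [Preadditive.sub_comp, Preadditive.sub_comp, sub_eq_zero, assoc, assoc, assoc, assoc, reassoc_of% hφ,
        i.inv_hom_id_assoc, ← φ.comm₂, ← assoc x, ← hx, hy])
    rw [hi', Linear.comp_smul, ← Linear.smul_comp, cancel_mono] at hx''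
    exact ⟨x ≫ i.inv, x'', by rw [← hx'']; abel⟩
  intro x'
  obtain ⟨k, -, hk⟩ := (hP V hV).smul_eq_zero
  have : ∀ n : ℕ, ∀ x' : V ⟶ S'.obj₁, ∃ x : V ⟶ S.obj₁, ∃ z : V ⟶ S'.obj₁, x' = x ≫ g + a ^ n • z := fun n => by
    induction n with
    | zero => exact fun x' => ⟨0, x', by simp⟩
    | succ n ih =>
      intro x'
      obtain ⟨x, z, rfl⟩ := step x'
      obtain ⟨y, z', rfl⟩ := ih z
      exact ⟨x + a • y, z', by rw [Preadditive.add_comp, smul_add, Linear.smul_comp, pow_succ', mul_smul, add_assoc]⟩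
  obtain ⟨x, z, rfl⟩ := this k x'
  exact ⟨x, by rw [hk, add_zero]⟩

end Groth.Agent.H9Misc.KosTri

namespace Groth.Agent.H9Misc.KosCx

open CochainComplex

variable {A : Type u} [Category.{v} A] [Abelian A] {R : Type w} [CommRing R] [Linear R A]

/-- Iterated cones of scalars are functorial. -/
noncomputable def KcMap : (l : List R) → {X Y : CochainComplex A ℤ} → (X ⟶ Y) → (Kc l X ⟶ Kc l Y)
  | [], _, _, g => g
  | a :: l, X, Y, g => KcMap l (mappingCone.map (a • 𝟙 X) (a • 𝟙 Y) g g (by simp))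

/-- A map which is a quasi-isomorphism after taking iterated cones is bijective on maps from objects on which
the scalars are nilpotent. -/
theorem bijective_of_KcMap [HasDerivedCategory.{w'} A] (l : List R) {X Y : CochainComplex A ℤ} (g : X ⟶ Y)
    (h : IsIso (DerivedCategory.Q.map (KcMap l g))) :
    ∀ V : DerivedCategory A, (∀ a ∈ l, KosTri.Nil a V) →
      Function.Bijective fun x : V ⟶ DerivedCategory.Q.obj X => x ≫ DerivedCategory.Q.map g := by
  induction l generalizing X Y with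
  | nil =>
    intro V _
    have : IsIso (DerivedCategory.Q.map g) := h
    exact (asIso (DerivedCategory.Q.map g)).homToEquiv.bijective
  | cons a l ih =>
    intro V hV
    have hc := ih _ h
    let φ : DerivedCategory.Q.mapTriangle.obj (mappingCone.triangle (a • 𝟙 X)) ⟶
        DerivedCategory.Q.mapTriangle.obj (mappingCone.triangle (a • 𝟙 Y)) :=
      DerivedCategory.Q.mapTriangle.map (mappingCone.triangleMap (a • 𝟙 X) (a • 𝟙 Y) g g (by simp))
    refine KosTri.bijective_of_cone (a := a) _ _ (DerivedCategory.mappingCone_triangle_distinguished (a • 𝟙 X))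
      (DerivedCategory.mappingCone_triangle_distinguished (a • 𝟙 Y)) φ (DerivedCategory.Q.map g) rfl
      (Iso.refl _) (Iso.refl _) ?_ ?_ ((comp_id _).trans (id_comp _).symm) (fun W => ∀ b ∈ a :: l, KosTri.Nil b W) (fun W hW => hW a (by simp)) (fun W n hW b hb => (hW b hb).shift n)
      (fun W hW => ?_) V hV
    · exact (DerivedCategory.Q.map_smul _ _).trans (congrArg (a • ·) (DerivedCategory.Q.map_id _))
    · exact (DerivedCategory.Q.map_smul _ _).trans (congrArg (a • ·) (DerivedCategory.Q.map_id _))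
    · exact hc W fun b hb => hW b (List.mem_cons_of_mem _ hb)

end Groth.Agent.H9Misc.KosCx
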