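import Groth.Prelude.Def_DerComp
import Groth.Agent.ModTensor.RestrKFlat
import Groth.Agent.ModTensor.KFlat
import Groth.Agent.KFlatLib.Derived
import Groth.Agent.KFlatLib.TotalMap

/-! Linearity and naturality of tensor products of complexes of modules on ringed sites. -/

set_option linter.style.haveILetI false

universe u

open CategoryTheory CategoryTheory.Category CategoryTheory.Limits Opposite MonoidalCategory

attribute [local instance] HasDerivedCategory.standard

namespace Groth.Agent.H9Misc.TensorLinear

variable {C : Type u} [SmallCategory C] {J : GrothendieckTopology C} {O : Sheaf J CommRingCat.{u}}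

/-- Scalars on the first factor are scalars on the tensor product. -/
lemma tensorBi_map_smulEnd (s : DerComp.GSec O) (F G : ModSite.Mod O) :
    ((ModSite.tensorBi O).map (DerComp.smulEnd s F)).app G =
      DerComp.smulEnd s (((ModSite.tensorBi O).obj F).obj G) := by
  let f := (ModTensor.fg O).obj F
  let g := (ModTensor.fg O).obj G
  let a := (ModTensor.fg O).map (DerComp.smulEnd s F) ▷ g
  show (ModTensor.sh O).map a = DerComp.smulEnd s ((ModTensor.sh O).obj (f ⊗ g))
  refine ((ModTensor.shAdj O).homEquiv _ _).injective ?_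
  rw [Adjunction.homEquiv_unit, Adjunction.homEquiv_unit]
  refine ((ModTensor.shAdj O).unit.naturality a).symm.trans ?_
  ext X : 1
  apply ModuleCat.hom_ext
  apply TensorProduct.ext'
  intro x y
  let r : (O.obj ⋙ forget₂ CommRingCat.{u} RingCat.{u}).obj X := s.1 X.unop
  show ((ModTensor.shAdj O).unit.app (f ⊗ g)).app X ((r • x) ⊗ₜ y) =
    r • ((ModTensor.shAdj O).unit.app (f ⊗ g)).app X (x ⊗ₜ y)
  refine Eq.trans ?_ ((((ModTensor.shAdj O).unit.app (f ⊗ g)).app X).hom.map_smul r (x ⊗ₜ y))
  rfl

/-- Scalars on the first factor are scalars on the total complex. -/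
lemma tensorCx_map_smul (s : DerComp.GSec O) (L K : CochainComplex (ModSite.Mod O) ℤ) :
    ((ModSite.tensorCx O).map (s • 𝟙 L)).app K = s • 𝟙 (((ModSite.tensorCx O).obj L).obj K) := by
  ext n : 1
  refine HomologicalComplex.mapBifunctor.hom_ext (fun p q h => ?_)
  refine (HomologicalComplex.ι_mapBifunctorMap (s • 𝟙 L) (𝟙 K) (ModSite.tensorBi O) (ComplexShape.up ℤ) p q n h).trans ?_
  rw [HomologicalComplex.id_f, CategoryTheory.Functor.map_id, id_comp, HomologicalComplex.smul_f_apply,
    HomologicalComplex.smul_f_apply, HomologicalComplex.id_f, HomologicalComplex.id_f]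
  show ((ModSite.tensorBi O).map (DerComp.smulEnd s (L.X p) ≫ 𝟙 _)).app (K.X q) ≫ _ =
    _ ≫ DerComp.smulEnd s _ ≫ 𝟙 _
  rw [comp_id, comp_id, tensorBi_map_smulEnd]
  exact DerComp.smulEnd_comm s _

/-- K-flat complexes compute the derived tensor product. -/
noncomputable def resolution (E : CochainComplex (ModSite.Mod O) ℤ) :
    KFlatLib.Resolution (HomologicalComplex.quasiIso (ModSite.Mod O) (ComplexShape.up ℤ))
      (ModSite.tensorCxQ E) where
  Good := ModSite.IsKFlat
  P := (ModTensor.flatCover O).P
  ψ := (ModTensor.flatCover O).ψ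
  good K := ModTensor.kFlat_iff_isKFlat.1 ((ModTensor.flatCover O).kFlat_P ModTensor.flatObj_flatCover K)
  weq K := (ModTensor.flatCover O).quasiIso_ψ K
  inverts P Q α hP hQ hα := by
    have : QuasiIso α := hα
    have h := ModTensor.quasiIso_tensor α hP hQ E
    have h' : QuasiIso (((ModSite.tensorCx O).flip.obj E).map α) :=
      (quasiIso_iff_of_arrow_mk_iso _ (((ModSite.tensorCx O).obj E).map α)
        (((Functor.mapArrowFunctor _ _).mapIso (KFlatLib.symmIso (ModTensor.tensorFlipIso O) E)).app (Arrow.mk α))).2 h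
    exact (DerivedCategory.isIso_Q_map_iff_quasiIso (C := ModSite.Mod O) _).2 h'

/-- The counit is invertible on K-flat complexes. -/
lemma isIso_counit (E : CochainComplex (ModSite.Mod O) ℤ) [ModSite.HasLTensorCx E]
    {K : CochainComplex (ModSite.Mod O) ℤ} (hK : ModSite.IsKFlat K) :
    IsIso (((ModSite.tensorCxQ E).totalLeftDerivedCounit DerivedCategory.Q
      (HomologicalComplex.quasiIso (ModSite.Mod O) (ComplexShape.up ℤ))).app K) :=
  (resolution E).isIso_totalLeftDerivedCounit DerivedCategory.Q hK

end Groth.Agent.H9Misc.TensorLinear
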