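import Groth.Agent.H9Misc.KillUnit
import Groth.Agent.H9Misc.TensorLinear
import Groth.Agent.H9Misc.KosMap
import Mathlib.Algebra.Homology.ShortComplex.Linear
import Mathlib.Algebra.Homology.Linear

/-!
# Koszul complexes do not see the tensor product with a module equivalent to the structure sheaf modulo the scalars
-/

set_option linter.style.haveILetI false
set_option maxHeartbeats 1000000

universe u

open CategoryTheory CategoryTheory.Category CategoryTheory.Limits Opposite
open Groth.Agent.ModTensor Groth.Agent.ModPull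

attribute [local instance] HasDerivedCategory.standard

namespace Groth.Agent.H9Misc.KillUnit

/-- The five lemma for a natural transformation from the identity to an exact functor. -/
lemma isIso_app_of_shortExact {D : Type*} [Category D] [Abelian D] {F : D ⥤ D} (τ : 𝟭 D ⟶ F) [F.Additive]
    [PreservesFiniteLimits F] [PreservesFiniteColimits F] (S : ShortComplex D) (hS : S.ShortExact)
    (h₁ : IsIso (τ.app S.X₁)) (h₃ : IsIso (τ.app S.X₃)) : IsIso (τ.app S.X₂) :=
  ShortComplex.isIso₂_of_shortExact_of_isIso₁₃' (S₁ := S) (S₂ := S.map F)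
    { τ₁ := τ.app S.X₁
      τ₂ := τ.app S.X₂
      τ₃ := τ.app S.X₃
      comm₁₂ := (τ.naturality S.f).symm
      comm₂₃ := (τ.naturality S.g).symm } hS (hS.map_of_exact F) h₁ h₃

section Generic

variable {D : Type*} [Category D] [Abelian D]

theorem isIso_app_aux {R : Type*} [CommRing R] [Linear R D] {F : D ⥤ D} (τ : 𝟭 D ⟶ F) [F.Additive]
    [PreservesFiniteLimits F] [PreservesFiniteColimits F] (r : List R)
    (he : ∀ M : D, (∀ b ∈ r, b • 𝟙 M = 0) → IsIso (τ.app M)) : ∀ (l : List R) (M : D),
    (∀ b ∈ r, b ∈ l ∨ b • 𝟙 M = 0) → (∀ b ∈ l, ∃ k : ℕ, b ^ k • 𝟙 M = 0) → IsIso (τ.app M) := by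
  intro l
  induction l with
  | nil =>
    intro M h _
    exact he M fun b hb => (h b hb).resolve_left (by simp)
  | cons a l ihl =>
    suffices H : ∀ (k : ℕ) (M : D), (∀ b ∈ r, b ∈ a :: l ∨ b • 𝟙 M = 0) → a ^ k • 𝟙 M = 0 →
        (∀ b ∈ l, ∃ j : ℕ, b ^ j • 𝟙 M = 0) → IsIso (τ.app M) from fun M h hp => by
      obtain ⟨k, hk⟩ := hp a (by simp)
      exact H k M h hk fun b hb => hp b (List.mem_cons_of_mem _ hb)
    intro k
    induction k with
    | zero =>
      intro M _ h0 _
      rw [pow_zero, one_smul] at h0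
      have hz : IsZero M := (IsZero.iff_id_eq_zero _).2 h0
      exact ⟨0, hz.eq_of_src _ _, (F.map_isZero hz).eq_of_src _ _⟩
    | succ k ihk =>
      intro M h h0 hp
      let π := cokernel.π (a • 𝟙 M)
      let p : M ⟶ kernel π := Abelian.factorThruImage (a • 𝟙 M)
      have hpι : p ≫ kernel.ι π = a • 𝟙 M := Abelian.image.fac (a • 𝟙 M)
      have : Epi p := inferInstanceAs (Epi (Abelian.factorThruImage (a • 𝟙 M)))
      have hsub : ∀ s : R, s • 𝟙 M = 0 → s • 𝟙 (kernel π) = 0 := fun s hs => by
        rw [← cancel_mono (kernel.ι π), zero_comp, Linear.smul_comp, id_comp, ← comp_id (kernel.ι π),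
          ← Linear.comp_smul, hs, comp_zero]
      have hquot : ∀ s : R, s • 𝟙 M = 0 → s • 𝟙 (cokernel (a • 𝟙 M)) = 0 := fun s hs => by
        rw [← cancel_epi π, comp_zero, Linear.comp_smul, comp_id, ← id_comp π, ← Linear.smul_comp, hs, zero_comp]
      refine isIso_app_of_shortExact (F := F) τ (ShortComplex.mk (kernel.ι π) π (kernel.condition π))
        { exact := ShortComplex.exact_of_f_is_kernel _ (kernelIsKernel π) } (ihk _ ?_ ?_ ?_) (ihl _ ?_ ?_)
      · exact fun b hb => (h b hb).imp id (hsub b)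
      · rw [← cancel_mono (kernel.ι π), zero_comp, ← cancel_epi p, comp_zero, Linear.smul_comp, id_comp,
          Linear.comp_smul, hpι, smul_smul, ← pow_succ, h0]
      · exact fun b hb => (hp b hb).imp fun j hj => hsub _ hj
      · intro b hb
        rcases h b hb with hb' | hb'
        · rcases List.mem_cons.1 hb' with rfl | hb''
          · refine Or.inr ?_
            show b • 𝟙 (cokernel (b • 𝟙 M)) = 0
            rw [← cancel_epi (cokernel.π (b • 𝟙 M)), comp_zero, Linear.comp_smul, comp_id]
            have := cokernel.condition (b • 𝟙 M)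
            rwa [Linear.smul_comp, id_comp] at this
          · exact Or.inl hb''
        · exact Or.inr (hquot b hb')
      · exact fun b hb => (hp b hb).imp fun j hj => hquot _ hj

set_option backward.defeqAttrib.useBackward true in
set_option backward.isDefEq.respectTransparency false in
/-- A natural transformation from the identity commutes with mapping cones. -/
lemma app_cone {F : D ⥤ D} (τ : 𝟭 D ⟶ F) [F.Additive] {K : CochainComplex D ℤ} (φ : K ⟶ K)
    (u : K ⟶ (F.mapHomologicalComplex (ComplexShape.up ℤ)).obj K) (hu : ∀ n, u.f n = τ.app (K.X n))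
    (u' : CochainComplex.mappingCone φ ⟶ (F.mapHomologicalComplex (ComplexShape.up ℤ)).obj (CochainComplex.mappingCone φ))
    (hu' : ∀ n, u'.f n = τ.app ((CochainComplex.mappingCone φ).X n))
    (comm : φ ≫ u = u ≫ (F.mapHomologicalComplex (ComplexShape.up ℤ)).map φ) :
    u' ≫ (CochainComplex.mappingCone.mapHomologicalComplexIso φ F).hom =
      CochainComplex.mappingCone.map φ _ u u comm := by
  ext n
  apply (CochainComplex.mappingCone.ext_from_iff _ (n + 1) n rfl _ _).2
  have hn : ∀ {M N Z : D} (f : M ⟶ N) (g : F.obj N ⟶ Z), τ.app M ≫ F.map f ≫ g = f ≫ τ.app N ≫ g :=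
    fun f g => by rw [← reassoc_of% (τ.naturality f)]; try rfl
  dsimp [CochainComplex.mappingCone.mapHomologicalComplexIso, CochainComplex.mappingCone.map]
  simp only [CochainComplex.mappingCone.mapHomologicalComplexXIso_eq φ F n (n + 1) rfl]
  dsimp [CochainComplex.mappingCone.mapHomologicalComplexXIso']
  simp only [hu, hu', Functor.mapHomologicalComplex_obj_X, Preadditive.comp_add, Preadditive.add_comp, assoc,
    CochainComplex.mappingCone.inl_v_fst_v_assoc, CochainComplex.mappingCone.inr_f_fst_v_assoc,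
    CochainComplex.mappingCone.inl_v_snd_v_assoc, CochainComplex.mappingCone.inr_f_snd_v_assoc,
    zero_comp, comp_zero, add_zero, zero_add, hn]
  constructor <;> simp [hn, hu]

end Generic

variable {C : Type u} [SmallCategory C] {J : GrothendieckTopology C} {O : Sheaf J CommRingCat.{u}}
  {A : ModSite.Mod O}

/-- `- ⊗ A`. -/
noncomputable abbrev tenT (A : ModSite.Mod O) : ModSite.Mod O ⥤ ModSite.Mod O := (ModSite.tensorBi O).flip.obj A


lemma tenT_map_smul (a : DerComp.GSec O) (M : ModSite.Mod O) :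
    (tenT A).map (a • 𝟙 M) = a • 𝟙 ((tenT A).obj M) := by
  show ((ModSite.tensorBi O).map (DerComp.smulEnd a M ≫ 𝟙 M)).app A = DerComp.smulEnd a _ ≫ 𝟙 _
  rw [comp_id, comp_id, TensorLinear.tensorBi_map_smulEnd]

variable {e : Sec A} {r : List (DerComp.GSec O)}

section Dev

variable [PreservesFiniteLimits (tenT A)]

theorem isIso_unitApp_of_pow (he : IsQuotEquiv e r) (M : ModSite.Mod O)
    (h : ∀ b ∈ r, ∃ k : ℕ, b ^ k • 𝟙 M = 0) : IsIso (unitApp e M) :=
  isIso_app_aux (unitT e) r he.isIso_unitApp_of_killed r M (fun _ hb => Or.inl hb) h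

end Dev

/-- `K → K ⊗ A` on complexes. -/
noncomputable def unitCx (e : Sec A) (K : CochainComplex (ModSite.Mod O) ℤ) :
    K ⟶ ((tenT A).mapHomologicalComplex (ComplexShape.up ℤ)).obj K where
  f n := unitApp e (K.X n)
  comm' i j _ := ((unitT e).naturality (K.d i j)).symm

theorem quasiIso_unitCx [PreservesFiniteLimits (tenT A)] (he : IsQuotEquiv e r)
    (K : CochainComplex (ModSite.Mod O) ℤ) (h : ∀ b ∈ r, ∃ k : ℕ, Nonempty (Homotopy (b ^ k • 𝟙 K) 0)) :
    QuasiIso (unitCx e K) := by
  refine ⟨fun n => (quasiIsoAt_iff_isIso_homologyMap _ n).2 ?_⟩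
  have h1 : IsIso (unitApp e (K.homology n)) := isIso_unitApp_of_pow he _ fun b hb => by
    obtain ⟨k, ⟨H⟩⟩ := h b hb
    refine ⟨k, ?_⟩
    have h2 := H.homologyMap_eq n
    rw [HomologicalComplex.homologyMap_zero] at h2
    refine Eq.trans ?_ h2
    have h3 : (HomologicalComplex.shortComplexFunctor (ModSite.Mod O) (ComplexShape.up ℤ) n).map (b ^ k • 𝟙 K) =
        b ^ k • 𝟙 (K.sc n) := rfl
    rw [HomologicalComplex.homologyMap, h3, ShortComplex.homologyMap_smul, ShortComplex.homologyMap_id]
    rfl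
  have h4 := NatTrans.app_homology (unitT e) (K.sc n)
  have h5 : IsIso (((K.sc n).mapHomologyIso (𝟭 _)).inv ≫ ShortComplex.homologyMap ((K.sc n).mapNatTrans (unitT e)) ≫
      ((K.sc n).mapHomologyIso (tenT A)).hom) := by rw [← h4]; exact h1
  have h6 := IsIso.of_isIso_comp_left ((K.sc n).mapHomologyIso (𝟭 _)).inv
    (ShortComplex.homologyMap ((K.sc n).mapNatTrans (unitT e)) ≫ ((K.sc n).mapHomologyIso (tenT A)).hom)
  exact IsIso.of_isIso_comp_right (ShortComplex.homologyMap ((K.sc n).mapNatTrans (unitT e)))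
    ((K.sc n).mapHomologyIso (tenT A)).hom

lemma unitCx_cone (e : Sec A) {K : CochainComplex (ModSite.Mod O) ℤ} (φ : K ⟶ K)
    (comm : φ ≫ unitCx e K = unitCx e K ≫ ((tenT A).mapHomologicalComplex (ComplexShape.up ℤ)).map φ) :
    unitCx e (CochainComplex.mappingCone φ) ≫ (CochainComplex.mappingCone.mapHomologicalComplexIso φ (tenT A)).hom =
      CochainComplex.mappingCone.map φ _ (unitCx e K) (unitCx e K) comm :=
  app_cone (unitT e) φ (unitCx e K) (fun _ => rfl) (unitCx e _) (fun _ => rfl) comm

lemma smul_comm_unitCx (e : Sec A) (a : DerComp.GSec O) (K : CochainComplex (ModSite.Mod O) ℤ) :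
    (a • 𝟙 K) ≫ unitCx e K = unitCx e K ≫ ((tenT A).mapHomologicalComplex (ComplexShape.up ℤ)).map (a • 𝟙 K) := by
  refine HomologicalComplex.hom_ext _ _ fun n => ?_
  exact (unitT e).naturality ((a • 𝟙 K).f n)

lemma mapCx_smul (a : DerComp.GSec O) (K : CochainComplex (ModSite.Mod O) ℤ) :
    ((tenT A).mapHomologicalComplex (ComplexShape.up ℤ)).map (a • 𝟙 K) = a • 𝟙 _ := by
  refine HomologicalComplex.hom_ext _ _ fun n => ?_
  exact tenT_map_smul a (K.X n)

theorem KcMap_unitCx (e : Sec A) : ∀ (l : List (DerComp.GSec O)) (K K' : CochainComplex (ModSite.Mod O) ℤ)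
    (i : ((tenT A).mapHomologicalComplex (ComplexShape.up ℤ)).obj K ≅ K') (g : K ⟶ K'),
    unitCx e K ≫ i.hom = g →
      ∃ i' : ((tenT A).mapHomologicalComplex (ComplexShape.up ℤ)).obj (KosCx.Kc l K) ≅ KosCx.Kc l K',
        unitCx e (KosCx.Kc l K) ≫ i'.hom = KosCx.KcMap l g := by
  intro l
  induction l with
  | nil => exact fun K K' i g h => ⟨i, h⟩
  | cons a l ih =>
    intro K K' i g h
    let T' := (tenT A).mapHomologicalComplex (ComplexShape.up ℤ)
    have hc : T'.map (a • 𝟙 K) ≫ i.hom = i.hom ≫ (a • 𝟙 K') := by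
      rw [mapCx_smul, Linear.smul_comp, id_comp, Linear.comp_smul, comp_id]
    have hc' : (a • 𝟙 K') ≫ i.inv = i.inv ≫ T'.map (a • 𝟙 K) := by
      rw [mapCx_smul, Linear.smul_comp, id_comp, Linear.comp_smul, comp_id]
    let m : CochainComplex.mappingCone (T'.map (a • 𝟙 K)) ≅ CochainComplex.mappingCone (a • 𝟙 K') :=
      { hom := CochainComplex.mappingCone.map _ _ i.hom i.hom hc
        inv := CochainComplex.mappingCone.map _ _ i.inv i.inv hc'
        hom_inv_id := by
          rw [← CochainComplex.mappingCone.map_comp]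
          simp only [i.hom_inv_id]
          exact CochainComplex.mappingCone.map_id _
        inv_hom_id := by
          rw [← CochainComplex.mappingCone.map_comp]
          simp only [i.inv_hom_id]
          exact CochainComplex.mappingCone.map_id _ }
    refine ih _ _ (CochainComplex.mappingCone.mapHomologicalComplexIso (a • 𝟙 K) (tenT A) ≪≫ m) _ ?_
    rw [Iso.trans_hom, ← assoc, unitCx_cone e _ (smul_comm_unitCx e a K)]
    show _ ≫ CochainComplex.mappingCone.map _ _ i.hom i.hom hc = _
    rw [← CochainComplex.mappingCone.map_comp]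
    congr 1 <;> exact h

/-- The unit is bijective on maps from objects with nilpotent scalars. -/
theorem bijective_unitCx [PreservesFiniteLimits (tenT A)] (he : IsQuotEquiv e r)
    (K K' : CochainComplex (ModSite.Mod O) ℤ)
    (i : ((tenT A).mapHomologicalComplex (ComplexShape.up ℤ)).obj K ≅ K') (g : K ⟶ K')
    (hg : unitCx e K ≫ i.hom = g) (V : DerivedCategory (ModSite.Mod O)) (hV : ∀ b ∈ r, KosTri.Nil b V) :
    Function.Bijective fun x : V ⟶ DerivedCategory.Q.obj K => x ≫ DerivedCategory.Q.map g := by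
  refine KosCx.bijective_of_KcMap r g ?_ V hV
  obtain ⟨i', hi'⟩ := KcMap_unitCx e r K K' i g hg
  rw [← hi', Functor.map_comp]
  have : IsIso (DerivedCategory.Q.map (unitCx e (KosCx.Kc r K))) :=
    (DerivedCategory.isIso_Q_map_iff_quasiIso (C := ModSite.Mod O) _).2 (quasiIso_unitCx he _ fun b hb => KosCx.exists_null r K hb)
  infer_instance

end Groth.Agent.H9Misc.KillUnit
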