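import Groth.Agent.H9Misc.KosCx
import Groth.Agent.ModTensor.Basic
import Groth.Prelude.Def_DerComp
import Mathlib.Algebra.Category.ModuleCat.Presheaf.Limits
import Mathlib.Algebra.Category.ModuleCat.Presheaf.Colimits

/-!
# Scalars on presheaves of modules
-/

universe w' w v v' u u'

open CategoryTheory CategoryTheory.Category CategoryTheory.Limits Opposite
open Groth.Agent.ModTensor

namespace Groth.Agent.H9Misc.KosLin

variable {C : Type u} [SmallCategory C] {J : GrothendieckTopology C} {O : Sheaf J CommRingCat.{u}}

/-- The component of a global section, as a scalar for presheaves of modules. -/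
abbrev valP (s : DerComp.GSec O) (X : Cᵒᵖ) : (O.obj ⋙ forget₂ CommRingCat.{u} RingCat.{u}).obj X := s.1 X.unop

lemma valP_comm (s : DerComp.GSec O) (X : Cᵒᵖ) (r : (O.obj ⋙ forget₂ CommRingCat.{u} RingCat.{u}).obj X) :
    valP s X * r = r * valP s X := mul_comm (s.1 X.unop) (show O.obj.obj X from r)

/-- Multiplication by a global section on a presheaf of modules. -/
noncomputable def smulP (s : DerComp.GSec O) (P : P₀ O) : P ⟶ P where
  app X := ModuleCat.ofHom
    { toFun := fun x => valP s X • x
      map_add' := fun x y => smul_add _ x y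
      map_smul' := fun r x => by
        rw [RingHom.id_apply, smul_smul, smul_smul]
        exact congrArg (fun t => t • x) (valP_comm s X r) }
  naturality {X Y} g := by
    ext x
    dsimp
    rw [PresheafOfModules.map_smul]
    congr 1
    exact (s.2 g.unop).symm

lemma smulP_app (s : DerComp.GSec O) (P : P₀ O) (X : Cᵒᵖ) (x : P.obj X) :
    ((smulP s P).app X).hom x = valP s X • x := rfl

lemma smulP_comm (s : DerComp.GSec O) {P Q : P₀ O} (φ : P ⟶ Q) : smulP s P ≫ φ = φ ≫ smulP s Q := by
  ext X x
  show (φ.app X).hom (valP s X • x) = valP s X • (φ.app X).hom x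
  exact (φ.app X).hom.map_smul _ _

lemma fg_smulEnd (s : DerComp.GSec O) (M : ModSite.Mod O) :
    (fg O).map (DerComp.smulEnd s M) = smulP s ((fg O).obj M) := by
  ext X x
  rfl

lemma sh_smulP (s : DerComp.GSec O) (P : P₀ O) :
    (sh O).map (smulP s P) = DerComp.smulEnd s ((sh O).obj P) := by
  refine ((shAdj O).homEquiv _ _).injective ?_
  rw [Adjunction.homEquiv_unit, Adjunction.homEquiv_unit, fg_smulEnd]
  exact ((shAdj O).unit.naturality (smulP s P)).symm.trans (smulP_comm s _)

/-- Presheaves of modules are linear over global sections. -/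
@[reducible]
noncomputable def linP : Linear (DerComp.GSec O) (P₀ O) where
  homModule P Q :=
    { smul := fun s φ => smulP s P ≫ φ
      one_smul := fun φ => by
        ext X x
        show (φ.app X).hom (valP (1 : DerComp.GSec O) X • x) = _
        exact congrArg (φ.app X).hom (one_smul ((O.obj ⋙ forget₂ CommRingCat.{u} RingCat.{u}).obj X) x)
      mul_smul := fun s t φ => by
        ext X x
        show (φ.app X).hom (valP (s * t) X • x) = (φ.app X).hom (valP t X • (valP s X • x))
        rw [smul_smul]
        exact congrArg (fun r => (φ.app X).hom (r • x)) (valP_comm s X (valP t X))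
      smul_zero := fun s => show smulP s P ≫ (0 : P ⟶ Q) = 0 from Limits.comp_zero
      smul_add := fun s φ ψ => Preadditive.comp_add _ _ _ _ _ _
      add_smul := fun s t φ => by
        ext X x
        show (φ.app X).hom ((valP s X + valP t X) • x) = (φ.app X).hom (valP s X • x) + (φ.app X).hom (valP t X • x)
        rw [add_smul, map_add]
      zero_smul := fun φ => by
        ext X x
        show (φ.app X).hom ((0 : (O.obj ⋙ forget₂ CommRingCat.{u} RingCat.{u}).obj X) • x) = 0
        rw [zero_smul, map_zero] }
  smul_comp X Y Z r f g := Category.assoc _ _ _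
  comp_smul X Y Z f r g := show f ≫ (smulP r Y ≫ g) = smulP r X ≫ (f ≫ g) by
    rw [← Category.assoc, ← smulP_comm, Category.assoc]

attribute [local instance] linP

lemma smul_id_eq (s : DerComp.GSec O) (P : P₀ O) : s • 𝟙 P = smulP s P := comp_id _

lemma smulEnd_id_eq (s : DerComp.GSec O) (M : ModSite.Mod O) : s • 𝟙 M = DerComp.smulEnd s M := comp_id _

/-- A complex of presheaves of modules is acyclic if its values are. -/
theorem acyclic_of_eval (K : CochainComplex (P₀ O) ℤ)
    (h : ∀ X : Cᵒᵖ, (((PresheafOfModules.evaluation _ X).mapHomologicalComplex (ComplexShape.up ℤ)).obj K).Acyclic) :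
    K.Acyclic := fun n => by
  rw [HomologicalComplex.exactAt_iff_isZero_homology]
  refine (IsZero.iff_id_eq_zero _).2 (PresheafOfModules.hom_ext fun X => ?_)
  have h' := h X n
  rw [HomologicalComplex.exactAt_iff_isZero_homology] at h'
  exact (h'.of_iso ((K.sc n).mapHomologyIso (PresheafOfModules.evaluation _ X)).symm).eq_of_src _ _

instance additive_sh : (sh O).Additive := by
  have : PreservesColimitsOfSize.{0, 0} (sh O) := (shAdj O).leftAdjoint_preservesColimits
  have := Functor.preservesZeroMorphisms_of_preserves_initial_object (F := sh O)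
  have : PreservesBinaryBiproducts (sh O) := preservesBinaryBiproducts_of_preservesBinaryCoproducts _
  exact Functor.additive_of_preservesBinaryBiproducts _

/-- Sheafification preserves acyclicity. -/
theorem acyclic_sh (K : CochainComplex (P₀ O) ℤ) (hK : K.Acyclic) :
    (((sh O).mapHomologicalComplex (ComplexShape.up ℤ)).obj K).Acyclic := fun n => by
  have hl : PreservesFiniteLimits (sh O) :=
    inferInstanceAs (PreservesFiniteLimits (PresheafOfModules.sheafification (𝟙 (ModSite.ringSh O).obj)))
  have hc : PreservesColimitsOfSize.{0, 0} (sh O) := (shAdj O).leftAdjoint_preservesColimits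
  have : PreservesFiniteColimits (sh O) := ⟨fun _ => inferInstance⟩
  have : (sh O).PreservesHomology := inferInstance
  have h := hK n
  rw [HomologicalComplex.exactAt_iff_isZero_homology] at h ⊢
  exact ((sh O).map_isZero h).of_iso ((K.sc n).mapHomologyIso (sh O))

section Single

variable {A : Type u} [Category.{v} A] [Abelian A] {R : Type w} [CommRing R] [Linear R A]
  {A' : Type u'} [Category.{v'} A'] [Abelian A'] {R' : Type*} [CommRing R'] [Linear R' A']
  {B' : Type u'} [Category.{v'} B'] [Abelian B']
  {ι : Type*} (r : ι → R) (r' : ι → R') (F : A ⥤ B') [F.Additive] (G : A' ⥤ B') [G.Additive]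

lemma single_map_smul_id (n : ℤ) (a : R) (M : A) :
    (HomologicalComplex.single A (ComplexShape.up ℤ) n).map (a • 𝟙 M) =
      a • 𝟙 ((HomologicalComplex.single A (ComplexShape.up ℤ) n).obj M) := by
  refine HomologicalComplex.from_single_hom_ext ?_
  rw [HomologicalComplex.single_map_f_self, HomologicalComplex.smul_f_apply, HomologicalComplex.id_f]
  simp

/-- Intertwining isomorphisms of objects give ones of single complexes. -/
theorem inter_single (n : ℤ) {M : A} {M' : A'} (e : F.obj M ≅ G.obj M')
    (he : ∀ b, F.map (r b • 𝟙 M) ≫ e.hom = e.hom ≫ G.map (r' b • 𝟙 M')) :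
    KosCx.Inter r r' F G ((HomologicalComplex.single A (ComplexShape.up ℤ) n).obj M)
      ((HomologicalComplex.single A' (ComplexShape.up ℤ) n).obj M') := by
  let S := HomologicalComplex.single B' (ComplexShape.up ℤ) n
  let iF := HomologicalComplex.singleMapHomologicalComplex F (ComplexShape.up ℤ) n
  let iG := HomologicalComplex.singleMapHomologicalComplex G (ComplexShape.up ℤ) n
  refine ⟨iF.app M ≪≫ S.mapIso e ≪≫ (iG.app M').symm, fun b => ?_⟩
  have hF := iF.hom.naturality (r b • 𝟙 M)
  have hG := iG.inv.naturality (r' b • 𝟙 M')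
  simp only [Functor.comp_map, single_map_smul_id] at hF hG
  simp only [Iso.trans_hom, Iso.symm_hom, Iso.app_hom, Iso.app_inv, Functor.mapIso_hom, assoc]
  rw [← assoc, hF, assoc, ← hG, ← S.map_comp_assoc, he, S.map_comp_assoc]

end Single

end Groth.Agent.H9Misc.KosLin
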