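import Groth.Agent.H9Misc.TelBij
import Mathlib.CategoryTheory.Linear.LinearFunctor
import Mathlib.CategoryTheory.Triangulated.Pretriangulated
import Mathlib.CategoryTheory.Endomorphism
import Mathlib.RingTheory.Ideal.Span
import Mathlib.RingTheory.Nilpotent.Basic
import Mathlib.Algebra.BigOperators.GroupWithZero.Action

/-!
# Iterated cones of scalars in linear pretriangulated categories

`Chain l X Z` says that `Z` is obtained from `X` by taking successively the cones of the scalars in `l`: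
`Z` is "`X` tensored with the Koszul complex of `l`".
-/

universe w v u

open CategoryTheory CategoryTheory.Category CategoryTheory.Limits CategoryTheory.Pretriangulated

namespace Groth.Agent.H9Misc.KosTri

variable {T : Type u} [Category.{v} T] [Preadditive T] [HasZeroObject T] [HasShift T ℤ]
  [∀ n : ℤ, (shiftFunctor T n).Additive] [Pretriangulated T]
  {R : Type w} [CommRing R] [Linear R T]

/-- Multiplication by a scalar on morphisms. -/
def smulHom (r : R) (X Y : T) : (X ⟶ Y) →+ (X ⟶ Y) :=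
  AddMonoidHom.mk' (fun x => r • x) (smul_add r)

/-- A power of the scalar kills the object. -/
def Nil (r : R) (X : T) : Prop := ∃ k : ℕ, r ^ k • 𝟙 X = 0

/-- Iterated cones of scalars. -/
inductive Chain : List R → T → T → Prop
  | nil {X Z : T} (e : X ≅ Z) : Chain [] X Z
  | cons {a : R} {l : List R} {X Y Z : T} (g : X ⟶ Y) (h : Y ⟶ X⟦(1 : ℤ)⟧)
      (hT : Triangle.mk (a • 𝟙 X) g h ∈ distTriang T) (hc : Chain l Y Z) : Chain (a :: l) X Z

omit [HasZeroObject T] [HasShift T ℤ] [∀ n : ℤ, (shiftFunctor T n).Additive] [Pretriangulated T] in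
lemma smulHom_iterate (r : R) {X Y : T} (k : ℕ) (x : X ⟶ Y) : (smulHom r X Y)^[k] x = r ^ k • x := by
  induction k with
  | zero => simp
  | succ k ih => rw [Function.iterate_succ_apply', ih, pow_succ', mul_smul]; rfl

omit [HasZeroObject T] [HasShift T ℤ] [∀ n : ℤ, (shiftFunctor T n).Additive] [Pretriangulated T] in
lemma Nil.smul_eq_zero {r : R} {X : T} (h : Nil r X) :
    ∃ k : ℕ, (∀ (Y : T) (x : Y ⟶ X), r ^ k • x = 0) ∧ ∀ (Y : T) (x : X ⟶ Y), r ^ k • x = 0 := by
  obtain ⟨k, hk⟩ := h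
  exact ⟨k, fun Y x => by rw [← comp_id x, ← Linear.comp_smul, hk, comp_zero],
    fun Y x => by rw [← id_comp x, ← Linear.smul_comp, hk, zero_comp]⟩

omit [HasZeroObject T] [HasShift T ℤ] [∀ n : ℤ, (shiftFunctor T n).Additive] [Pretriangulated T] in
/-- A nilpotent scalar has bijective telescopes. -/
theorem tb_of_pow_smul_eq_zero (r : R) {X Y : T} (k : ℕ) (hk : ∀ x : X ⟶ Y, r ^ k • x = 0) :
    TelBij.TB (smulHom r X Y) := by
  constructor
  · refine (injective_iff_map_eq_zero _).2 fun x hx => funext fun n => ?_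
    have hstep : ∀ i, x i = r • x (i + 1) := fun i => sub_eq_zero.1 (congrFun hx i)
    have h : ∀ i n, x n = r ^ i • x (n + i) := fun i => by
      induction i with
      | zero => intro n; simp
      | succ i ih => intro n; rw [ih n, hstep (n + i), smul_smul, ← pow_succ]; rfl
    rw [h k n, hk]
    rfl
  · intro y
    refine ⟨fun n => ∑ i ∈ Finset.range k, r ^ i • y (n + i), funext fun n => ?_⟩
    show (∑ i ∈ Finset.range k, r ^ i • y (n + i)) - r • (∑ i ∈ Finset.range k, r ^ i • y (n + 1 + i)) = y n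
    have h := Finset.sum_range_sub (fun i => r ^ i • y (n + i)) k
    rw [Finset.smul_sum, ← Finset.sum_sub_distrib, ← neg_inj, ← Finset.sum_neg_distrib]
    refine Eq.trans (Finset.sum_congr rfl fun i _ => ?_) (h.trans ?_)
    · rw [neg_sub, smul_smul, ← pow_succ', show n + 1 + i = n + (i + 1) by omega]
    · rw [hk]; simp

omit [HasZeroObject T] [HasShift T ℤ] [∀ n : ℤ, (shiftFunctor T n).Additive] [Pretriangulated T] in
lemma smul_comm_comp (r : R) {X Y : T} (f : X ⟶ Y) : (r • 𝟙 X) ≫ f = f ≫ (r • 𝟙 Y) := by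
  rw [Linear.smul_comp, id_comp, Linear.comp_smul, comp_id]

/-- Nilpotence passes to the third vertex. -/
theorem Nil.of_triangle {r : R} (S : Triangle T) (hS : S ∈ distTriang T) (h₁ : Nil r (S.obj₁⟦(1 : ℤ)⟧))
    (h₂ : Nil r S.obj₂) : Nil r S.obj₃ := by
  obtain ⟨i, hi, -⟩ := h₁.smul_eq_zero
  obtain ⟨j, -, hj⟩ := h₂.smul_eq_zero
  obtain ⟨c, hc⟩ := Triangle.coyoneda_exact₃ S hS (r ^ i • 𝟙 S.obj₃) (by
    rw [Linear.smul_comp, id_comp]; exact hi _ _)
  refine ⟨j + i, ?_⟩
  rw [pow_add, mul_smul, hc, ← Linear.comp_smul, hj, comp_zero]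

variable [∀ n : ℤ, Functor.Linear R (shiftFunctor T n)]

lemma Nil.shift {r : R} {X : T} (h : Nil r X) (n : ℤ) : Nil r (X⟦n⟧) := by
  obtain ⟨k, hk⟩ := h
  exact ⟨k, by rw [← (shiftFunctor T n).map_id, ← Functor.map_smul, hk, Functor.map_zero]⟩

/-- A scalar is nilpotent on its own cone. -/
theorem nil_cone (a : R) {X Y : T} (g : X ⟶ Y) (h : Y ⟶ X⟦(1 : ℤ)⟧)
    (hT : Triangle.mk (a • 𝟙 X) g h ∈ distTriang T) : Nil a Y := by
  have h1 : (h ≫ (a • 𝟙 X)⟦(1 : ℤ)⟧' : Y ⟶ X⟦(1 : ℤ)⟧) = 0 := comp_distTriang_mor_zero₃₁ _ hT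
  rw [Functor.map_smul, CategoryTheory.Functor.map_id, Linear.comp_smul, comp_id] at h1
  have h2 : ((a • 𝟙 X) ≫ g : X ⟶ Y) = 0 := comp_distTriang_mor_zero₁₂ _ hT
  rw [Linear.smul_comp, id_comp] at h2
  obtain ⟨c, hc⟩ := Triangle.coyoneda_exact₃ _ hT (a • 𝟙 Y) (by
    show (a • 𝟙 Y) ≫ h = 0
    rw [Linear.smul_comp, id_comp, h1])
  refine ⟨2, ?_⟩
  have hc' : a • 𝟙 Y = (show Y ⟶ X from c) ≫ g := hc
  rw [pow_two, mul_smul, hc', ← Linear.comp_smul, h2, comp_zero]

omit [∀ n : ℤ, Functor.Linear R (shiftFunctor T n)] in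
lemma Chain.of_iso {l : List R} {X Z Z' : T} (hc : Chain l X Z) (e : Z ≅ Z') : Chain l X Z' := by
  induction hc with
  | nil e₀ => exact .nil (e₀ ≪≫ e)
  | cons g h hT _ ih => exact .cons g h hT (ih e)

theorem Chain.nil_of_nil {l : List R} {X Z : T} (hc : Chain l X Z) {r : R} (hr : Nil r X) : Nil r Z := by
  induction hc with
  | @nil X Z e =>
    obtain ⟨k, hk⟩ := hr
    exact ⟨k, by rw [← e.inv_hom_id, ← id_comp e.hom, ← Linear.comp_smul, ← Linear.smul_comp, hk, zero_comp, comp_zero]⟩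
  | cons g h hT _ ih => exact ih (Nil.of_triangle _ hT (hr.shift 1) hr)

/-- All scalars of the list are nilpotent on the iterated cone. -/
theorem Chain.nil_mem {l : List R} {X Z : T} (hc : Chain l X Z) : ∀ a ∈ l, Nil a Z := by
  induction hc with
  | nil e => simp
  | @cons a l X Y Z g h hT hc ih =>
    intro b hb
    rcases List.mem_cons.1 hb with rfl | hb
    · exact hc.nil_of_nil (nil_cone _ g h hT)
    · exact ih b hb

/-- Orthogonality passes to iterated cones. -/
theorem Chain.orth {l : List R} {X Z : T} (hc : Chain l X Z) {W : T}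
    (hX : ∀ n : ℤ, Subsingleton (X ⟶ W⟦n⟧)) : ∀ n : ℤ, Subsingleton (Z ⟶ W⟦n⟧) := by
  induction hc with
  | nil e => exact fun n => have := hX n; e.homFromEquiv.symm.subsingleton
  | @cons a l X Y Z g h hT hc ih =>
    refine ih fun n => subsingleton_of_forall_eq 0 fun f => ?_
    obtain ⟨k, rfl⟩ := Triangle.yoneda_exact₃ _ hT f ((hX n).elim _ _)
    have : Subsingleton (X⟦(1 : ℤ)⟧ ⟶ W⟦n⟧) := by
      have := hX (n - 1)
      let e : W⟦n - 1⟧⟦(1 : ℤ)⟧ ≅ W⟦n⟧ := ((shiftFunctorAdd' T (n - 1) 1 n (by omega)).app W).symm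
      refine subsingleton_of_forall_eq 0 fun k => ?_
      obtain ⟨k', hk'⟩ := (shiftFunctor T (1 : ℤ)).map_surjective (k ≫ e.inv)
      rw [← cancel_mono e.inv, ← hk', Subsingleton.elim k' 0, Functor.map_zero, zero_comp]
    exact (congrArg (h ≫ ·) (Subsingleton.elim (show X⟦(1 : ℤ)⟧ ⟶ W⟦n⟧ from k) 0)).trans comp_zero

omit [∀ n : ℤ, Functor.Linear R (shiftFunctor T n)] in
lemma eq_zero_of_bijective {a : R} {X Y : T} (ht : TelBij.TB (smulHom a X Y))
    (hb : Function.Bijective fun x : X ⟶ Y => a • x) : Subsingleton (X ⟶ Y) := by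
  refine subsingleton_of_forall_eq 0 fun x => ?_
  exact ht.eq_zero (fun i => (Function.surjInv hb.2)^[i] x) (fun i => by
    show _ = a • (Function.surjInv hb.2)^[i + 1] x
    rw [Function.iterate_succ_apply']
    exact (Function.surjInv_eq hb.2 _).symm) 0

/-- If the iterated cone is left orthogonal to a complete object then so is the object. -/
theorem Chain.vanish_left {l : List R} {X Z : T} (hc : Chain l X Z) {W : T}
    (hW : ∀ a ∈ l, ∀ (Y : T) (n : ℤ), TelBij.TB (smulHom a Y (W⟦n⟧)))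
    (hZ : ∀ n : ℤ, Subsingleton (Z ⟶ W⟦n⟧)) : ∀ n : ℤ, Subsingleton (X ⟶ W⟦n⟧) := by
  induction hc with
  | nil e => exact fun n => have := hZ n; e.homFromEquiv.subsingleton
  | @cons a l X Y Z g h hT hc ih =>
    have hY := ih (fun b hb => hW b (List.mem_cons_of_mem _ hb)) hZ
    intro n
    refine eq_zero_of_bijective (hW a (by simp) X n) ⟨fun x x' hx => ?_, fun x => ?_⟩
    · rw [← sub_eq_zero]
      obtain ⟨k, hk⟩ := Triangle.yoneda_exact₂ _ hT (x - x') (by
        show (a • 𝟙 X) ≫ (x - x') = 0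
        rw [Linear.smul_comp, id_comp, smul_sub]
        exact sub_eq_zero.2 hx)
      rw [hk, (hY n).elim k 0]
      exact comp_zero
    · let e : W⟦n⟧⟦(1 : ℤ)⟧ ≅ W⟦n + 1⟧ := ((shiftFunctorAdd' T n 1 (n + 1) rfl).app W).symm
      have h0 : h ≫ x⟦(1 : ℤ)⟧' = 0 := by
        rw [← cancel_mono e.hom]; exact (hY (n + 1)).elim _ _
      obtain ⟨k, hk⟩ := Triangle.yoneda_exact₃ _ (rot_of_distTriang _ hT) (x⟦(1 : ℤ)⟧') h0
      obtain ⟨y, rfl⟩ := (shiftFunctor T (1 : ℤ)).map_surjective k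
      let y' : X ⟶ W⟦n⟧ := y
      have hk' : x⟦(1 : ℤ)⟧' = (-(a • 𝟙 X)⟦(1 : ℤ)⟧') ≫ y'⟦(1 : ℤ)⟧' := hk
      refine ⟨-y', (shiftFunctor T (1 : ℤ)).map_injective ?_⟩
      rw [hk']
      show (a • (-y'))⟦(1 : ℤ)⟧' = _
      rw [Functor.map_smul, Functor.map_smul, Functor.map_neg, CategoryTheory.Functor.map_id, smul_neg,
        Preadditive.neg_comp, Linear.smul_comp, id_comp]

/-- Objects on which the scalars are nilpotent see no more than the iterated cone. -/
theorem Chain.vanish_right {l : List R} {X Z : T} (hc : Chain l X Z) {V : T}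
    (hV : ∀ a ∈ l, Nil a V) (hZ : ∀ n : ℤ, Subsingleton (V ⟶ Z⟦n⟧)) :
    ∀ n : ℤ, Subsingleton (V ⟶ X⟦n⟧) := by
  induction hc with
  | nil e => exact fun n => have := hZ n; ((shiftFunctor T n).mapIso e).homToEquiv.subsingleton
  | @cons a l X Y Z g h hT hc ih =>
    have hY := ih (fun b hb => hV b (List.mem_cons_of_mem _ hb)) hZ
    intro n
    obtain ⟨k, -, hk⟩ := (hV a (by simp)).smul_eq_zero
    refine eq_zero_of_bijective (tb_of_pow_smul_eq_zero a k fun x => hk _ x) ?_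
    have hS := Triangle.shift_distinguished _ hT n
    have hu : ((Triangle.shiftFunctor T n).obj (Triangle.mk (a • 𝟙 X) g h)).mor₁ =
        n.negOnePow • (a • 𝟙 (X⟦n⟧)) := by
      show n.negOnePow • (a • 𝟙 X)⟦n⟧' = _
      rw [Functor.map_smul, CategoryTheory.Functor.map_id]
    refine ⟨fun x x' hx => ?_, fun x => ?_⟩
    · rw [← sub_eq_zero]
      have hS' := inv_rot_of_distTriang _ hS
      obtain ⟨q, hq⟩ := Triangle.coyoneda_exact₂ _ hS' (x - x') (by
        refine (congrArg ((x - x') ≫ ·) hu).trans ?_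
        show (x - x') ≫ (n.negOnePow • (a • 𝟙 (X⟦n⟧))) = 0
        rw [Linear.comp_units_smul, Linear.comp_smul, comp_id, smul_sub]
        exact (congrArg (n.negOnePow • ·) (sub_eq_zero.2 hx)).trans (smul_zero _))
      have : Subsingleton (V ⟶ Y⟦n⟧⟦(-1 : ℤ)⟧) := by
        have := hY (n - 1)
        exact ((shiftFunctorAdd' T n (-1) (n - 1) (by omega)).app Y).homToEquiv.symm.subsingleton
      rw [hq, show q = 0 from this.elim (α := V ⟶ Y⟦n⟧⟦(-1 : ℤ)⟧) q 0]
      exact zero_comp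
    · obtain ⟨q, hq⟩ := Triangle.coyoneda_exact₂ _ hS x ((hY n).elim _ _)
      let q' : V ⟶ X⟦n⟧ := q
      have hq' : x = q' ≫ (n.negOnePow • (a • 𝟙 (X⟦n⟧))) := hq.trans (congrArg (q' ≫ ·) hu)
      refine ⟨n.negOnePow • q', ?_⟩
      rw [hq', Linear.comp_units_smul, Linear.comp_smul, comp_id]
      exact smul_comm _ _ _

/-- If the scalars generate the unit ideal on an object, its iterated cone vanishes. -/
theorem Chain.isZero_of_span {l : List R} {X Z : T} (hc : Chain l X Z) {b : R}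
    (hb : b ∈ Ideal.span {x | x ∈ l}) (hX : IsIso (b • 𝟙 X)) : IsZero Z := by
  induction hc generalizing b with
  | @nil X Z e =>
    obtain rfl : b = 0 := by simpa using hb
    rw [zero_smul] at hX
    have : IsZero X := by
      rw [IsZero.iff_id_eq_zero, ← IsIso.hom_inv_id (0 : X ⟶ X), zero_comp]
    exact this.of_iso e.symm
  | @cons a l X Y Z g h hT hc ih =>
    have hspan : {x | x ∈ a :: l} = insert a {x | x ∈ l} := by ext; simp
    rw [hspan, Ideal.mem_span_insert] at hb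
    obtain ⟨c, b', hb', rfl⟩ := hb
    refine ih hb' ?_
    let φ : Triangle.mk (a • 𝟙 X) g h ⟶ Triangle.mk (a • 𝟙 X) g h :=
      { hom₁ := (c * a + b') • 𝟙 X
        hom₂ := (c * a + b') • 𝟙 X
        hom₃ := (c * a + b') • 𝟙 Y
        comm₁ := (smul_comm_comp _ _).symm
        comm₂ := (smul_comm_comp _ _).symm
        comm₃ := by
          show h ≫ ((c * a + b') • 𝟙 X)⟦(1 : ℤ)⟧' = ((c * a + b') • 𝟙 Y) ≫ h
          rw [Functor.map_smul, CategoryTheory.Functor.map_id, smul_comm_comp] }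
    have hY : IsIso ((c * a + b') • 𝟙 Y) := Pretriangulated.isIso₃_of_isIso₁₂ φ hT hT hX hX
    obtain ⟨k, hk⟩ := nil_cone a g h hT
    let ε : R →+* End Y := RingHom.mk' (⟨⟨fun r => r • 𝟙 Y, one_smul _ _⟩, fun r s => by
      show (r * s) • 𝟙 Y = (s • 𝟙 Y) ≫ (r • 𝟙 Y)
      rw [Linear.smul_comp, id_comp, smul_smul, mul_comm]⟩) fun r s => add_smul r s _
    have hnil : IsNilpotent (ε (-(c * a))) := ⟨k, by
      rw [← map_pow, neg_pow, mul_pow, ← mul_assoc]
      show ((-1) ^ k * c ^ k * a ^ k) • 𝟙 Y = 0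
      rw [mul_smul, hk, smul_zero]⟩
    have hu := hnil.isUnit_add_left_of_commute ((isUnit_iff_isIso (ε (c * a + b'))).2 hY)
      ((Commute.all _ _).map ε)
    rw [← map_add, add_neg_cancel_comm] at hu
    exact (isUnit_iff_isIso (ε b')).1 hu

end Groth.Agent.H9Misc.KosTri
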