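import Mathlib.Algebra.Category.ModuleCat.FilteredColimits
import Mathlib.Algebra.Category.ModuleCat.Basic
import Mathlib.Algebra.Module.LocalizedModule.Basic
import Mathlib.CategoryTheory.Linear.LinearFunctor
import Mathlib.CategoryTheory.Limits.Types.Filtered
import Mathlib.CategoryTheory.Limits.ConcreteCategory.Basic

/-! Linear functors preserving filtered colimits commute with localization of modules. -/

universe u

open CategoryTheory CategoryTheory.Limits

namespace Groth.Agent.H9Misc.LinLocal

variable {A : Type u} [CommRing A]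

/-- The denominators, as the objects of a filtered category. -/
structure Den (S : Submonoid A) : Type u where
  /-- the denominator -/
  val : S

variable {S : Submonoid A}

instance : SmallCategory (Den S) where
  Hom s t := {a : S // s.val * a = t.val}
  id s := ⟨1, mul_one _⟩
  comp f g := ⟨f.1 * g.1, by rw [← mul_assoc, f.2, g.2]⟩
  id_comp f := Subtype.ext (one_mul _)
  comp_id f := Subtype.ext (mul_one _)
  assoc f g h := Subtype.ext (mul_assoc _ _ _)

instance : IsFiltered (Den S) where
  cocone_objs s t := ⟨⟨s.val * t.val⟩, ⟨t.val, rfl⟩, ⟨s.val, mul_comm _ _⟩, trivial⟩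
  cocone_maps := fun {s t} f g => ⟨⟨t.val * s.val⟩, ⟨s.val, rfl⟩, Subtype.ext (by
    change f.1 * s.val = g.1 * s.val
    rw [mul_comm f.1, mul_comm g.1, f.2, g.2])⟩
  nonempty := ⟨⟨1⟩⟩

variable (S) (M : ModuleCat.{u} A)

/-- The diagram of copies of `M`. -/
noncomputable def diag : Den S ⥤ ModuleCat.{u} A where
  obj _ := M
  map f := (f.1 : A) • 𝟙 M
  map_id s := by show ((1 : S) : A) • 𝟙 M = 𝟙 M; simp
  map_comp f g := by
    show ((f.1 * g.1 : S) : A) • 𝟙 M = _
    rw [Linear.comp_smul, Category.comp_id, smul_smul, Submonoid.coe_mul, mul_comm]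

/-- The cocone to the localization. -/
noncomputable def cocone : Cocone (diag S M) where
  pt := ModuleCat.of A (LocalizedModule S M)
  ι :=
    { app := fun s => ModuleCat.ofHom
        { toFun := fun m => LocalizedModule.mk m s.val
          map_add' := fun m m' => by rw [LocalizedModule.mk_add_mk, ← smul_add, LocalizedModule.mk_cancel_common_left]
          map_smul' := fun a m => by rw [LocalizedModule.smul'_mk]; rfl }
      naturality := fun s t f => by
        ext m
        show LocalizedModule.mk ((f.1 : A) • m) t.val = LocalizedModule.mk m s.val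
        rw [LocalizedModule.mk_eq]
        refine ⟨1, ?_⟩
        rw [one_smul, one_smul, Submonoid.smul_def, smul_smul, Submonoid.smul_def, ← Submonoid.coe_mul, f.2] }

/-- The localization is the filtered colimit. -/
noncomputable def isColimit : IsColimit (cocone S M) := by
  refine isColimitOfReflects (forget (ModuleCat.{u} A)) ?_
  refine Types.FilteredColimit.isColimitOf.{u, u} _ _ (fun x => ?_) (fun i j (m m' : M) h => ?_)
  · change LocalizedModule S M at x
    induction x using LocalizedModule.induction_on with
    | h m s => exact ⟨⟨s⟩, m, rfl⟩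
  · change LocalizedModule.mk m i.val = LocalizedModule.mk m' j.val at h
    obtain ⟨u, hu⟩ := LocalizedModule.mk_eq.1 h
    refine ⟨⟨i.val * j.val * u⟩, ⟨j.val * u, by rw [mul_assoc]⟩, ⟨i.val * u, by rw [← mul_assoc, mul_comm j.val]⟩, ?_⟩
    show ((j.val * u : S) : A) • m = ((i.val * u : S) : A) • m'
    simp only [Submonoid.smul_def, smul_smul] at hu
    rw [Submonoid.coe_mul, Submonoid.coe_mul, mul_comm (j.val : A), mul_comm (i.val : A)]
    exact hu

theorem main (T : ModuleCat.{u} A ⥤ ModuleCat.{u} A) [T.Additive] [T.Linear A]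
    (hT : ∀ (J : Type u) [SmallCategory J] [IsFiltered J], PreservesColimitsOfShape J T) :
    IsLocalizedModule S (T.map (ModuleCat.ofHom (LocalizedModule.mkLinearMap S M) :
      M ⟶ ModuleCat.of A (LocalizedModule S M))).hom := by
  haveI := hT (Den S)
  have hc : IsColimit (T.mapCocone (cocone S M)) := isColimitOfPreserves T (isColimit S M)
  set L : ModuleCat.{u} A := ModuleCat.of A (LocalizedModule S M)
  set mk : M ⟶ L := ModuleCat.ofHom (LocalizedModule.mkLinearMap S M)
  have hs : ∀ s : Den S, (s.val : A) • (cocone S M).ι.app s = mk := fun s => by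
    ext m
    show (s.val : A) • LocalizedModule.mk m s.val = LocalizedModule.mk m 1
    rw [LocalizedModule.smul'_mk, LocalizedModule.mk_eq]
    exact ⟨1, by simp [Submonoid.smul_def]⟩
  have hu : ∀ s : S, IsUnit (algebraMap A (Module.End A (T.obj L)) s) := fun s => by
    obtain ⟨v, hv⟩ := IsLocalizedModule.map_units (S := S) (LocalizedModule.mkLinearMap S M) s
    let e : L ⟶ L := ModuleCat.ofHom (↑v⁻¹ : Module.End A (LocalizedModule S M))
    have h1 : ((s : A) • 𝟙 L) ≫ e = 𝟙 L := by
      ext x
      show ((↑v⁻¹ : Module.End A (LocalizedModule S M)) ((s : A) • x)) = x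
      rw [show (s : A) • x = (v : Module.End A (LocalizedModule S M)) x by rw [hv]; rfl, ← Module.End.mul_apply,
        Units.inv_mul, Module.End.one_apply]
    have h2 : e ≫ ((s : A) • 𝟙 L) = 𝟙 L := by
      rw [Linear.comp_smul, Category.comp_id, ← h1, Linear.smul_comp, Category.id_comp]
    refine (Module.End.isUnit_iff _).2 ⟨fun x y hxy => ?_, fun x => ⟨(T.map e).hom x, ?_⟩⟩
    · have := congrArg T.map h1
      rw [T.map_comp, T.map_smul, T.map_id] at this
      have hx := congr($(this).hom x)
      have hy := congr($(this).hom y)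
      simp only [ModuleCat.hom_comp, LinearMap.comp_apply, ModuleCat.hom_smul, ModuleCat.hom_id, LinearMap.smul_apply,
        LinearMap.id_apply] at hx hy
      simp only [Module.algebraMap_end_apply] at hxy
      rw [← hx, hxy, hy]
    · have := congr($(congrArg T.map h2).hom x)
      rw [T.map_comp, T.map_smul, T.map_id] at this
      simpa using this
  refine ⟨hu, fun y => ?_, fun {x₁ x₂} h => ?_⟩
  · obtain ⟨s, x, hx⟩ := Concrete.isColimit_exists_rep _ hc y
    refine ⟨(x, s.val), ?_⟩
    rw [← hx, ← hs s]
    erw [T.map_smul]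
    rfl
  · have e1 : (cocone S M).ι.app ⟨1⟩ = mk := by rw [← hs ⟨1⟩]; simp
    have h' : (T.mapCocone (cocone S M)).ι.app ⟨1⟩ x₁ = (T.mapCocone (cocone S M)).ι.app ⟨1⟩ x₂ := by
      simp only [Functor.mapCocone_ι_app, e1]
      exact h
    obtain ⟨k, f, g, hfg⟩ := Concrete.isColimit_exists_of_rep_eq _ hc _ _ h'
    refine ⟨k.val, ?_⟩
    have hf : f.1 = k.val := by simpa using f.2
    have hg : g.1 = k.val := by simpa using g.2
    simp only [Functor.comp_map, diag, T.map_smul, T.map_id, hf, hg] at hfg
    simp only [Submonoid.smul_def]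
    exact hfg

end Groth.Agent.H9Misc.LinLocal
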