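import Groth.Agent.H9Misc.LinLocal
import Mathlib.RingTheory.LocalProperties.Exactness
import Mathlib.Algebra.Module.LocalizedModule.Exact
import Mathlib.Algebra.Category.ModuleCat.ChangeOfRings
import Mathlib.Algebra.Homology.ShortComplex.ModuleCat
import Mathlib.Algebra.Homology.ShortComplex.ExactFunctor

/-! Left and right exactness of linear functors can be tested at maximal ideals. -/

universe u

open CategoryTheory CategoryTheory.Limits

namespace Groth.Agent.H9Misc.LinLocalExact

variable {A : Type u} [CommRing A] (T : ModuleCat.{u} A ⥤ ModuleCat.{u} A) [T.Additive] [T.Linear A]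

/-- The localization of a module. -/
noncomputable abbrev loc (m : Ideal A) [m.IsMaximal] (X : ModuleCat.{u} A) : ModuleCat.{u} A :=
  ModuleCat.of A (LocalizedModule m.primeCompl X)

/-- The localization map of a module. -/
noncomputable abbrev mk' (m : Ideal A) [m.IsMaximal] (X : ModuleCat.{u} A) : X ⟶ loc m X :=
  ModuleCat.ofHom (LocalizedModule.mkLinearMap m.primeCompl X)

/-- The localization of a morphism. -/
noncomputable abbrev locMap (m : Ideal A) [m.IsMaximal] {X Y : ModuleCat.{u} A} (f : X ⟶ Y) : loc m X ⟶ loc m Y :=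
  ModuleCat.ofHom (IsLocalizedModule.map m.primeCompl (LocalizedModule.mkLinearMap m.primeCompl X)
    (LocalizedModule.mkLinearMap m.primeCompl Y) f.hom)

lemma mk'_locMap (m : Ideal A) [m.IsMaximal] {X Y : ModuleCat.{u} A} (f : X ⟶ Y) :
    mk' m X ≫ locMap m f = f ≫ mk' m Y := by
  ext x
  exact IsLocalizedModule.map_apply m.primeCompl _ _ f.hom x

/-- The localization as a module over the local ring. -/
noncomputable abbrev loc' (m : Ideal A) [m.IsMaximal] (X : ModuleCat.{u} A) : ModuleCat.{u} (Localization.AtPrime m) :=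
  ModuleCat.of (Localization.AtPrime m) (LocalizedModule m.primeCompl X)

/-- The localization comes from the local ring. -/
noncomputable def resIso (m : Ideal A) [m.IsMaximal] (X : ModuleCat.{u} A) :
    loc m X ≅ (ModuleCat.restrictScalars (algebraMap A (Localization.AtPrime m))).obj (loc' m X) :=
  let e : (loc m X) ≃ₗ[A] ((ModuleCat.restrictScalars (algebraMap A (Localization.AtPrime m))).obj (loc' m X)) :=
    { toFun := fun x => x
      invFun := fun x => x
      map_add' := fun _ _ => rfl
      map_smul' := fun a x => (algebraMap_smul (Localization.AtPrime m) a (x : LocalizedModule m.primeCompl X)).symm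
      left_inv := fun _ => rfl
      right_inv := fun _ => rfl }
  { hom := ModuleCat.ofHom (Y := (ModuleCat.restrictScalars (algebraMap A (Localization.AtPrime m))).obj (loc' m X)) e.toLinearMap
    inv := ModuleCat.ofHom (X := (ModuleCat.restrictScalars (algebraMap A (Localization.AtPrime m))).obj (loc' m X)) e.symm.toLinearMap
    hom_inv_id := rfl
    inv_hom_id := rfl }

/-- The localization of a short complex over the local ring. -/
noncomputable def locS (m : Ideal A) [m.IsMaximal] (S : ShortComplex (ModuleCat.{u} A)) :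
    ShortComplex (ModuleCat.{u} (Localization.AtPrime m)) :=
  ShortComplex.mk (X₁ := loc' m S.X₁) (X₂ := loc' m S.X₂) (X₃ := loc' m S.X₃)
    (ModuleCat.ofHom ((IsLocalizedModule.map m.primeCompl (LocalizedModule.mkLinearMap m.primeCompl S.X₁)
      (LocalizedModule.mkLinearMap m.primeCompl S.X₂) S.f.hom).extendScalarsOfIsLocalization m.primeCompl
        (Localization.AtPrime m)))
    (ModuleCat.ofHom ((IsLocalizedModule.map m.primeCompl (LocalizedModule.mkLinearMap m.primeCompl S.X₂)
      (LocalizedModule.mkLinearMap m.primeCompl S.X₃) S.g.hom).extendScalarsOfIsLocalization m.primeCompl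
        (Localization.AtPrime m)))
    (by
      ext x
      induction x using LocalizedModule.induction_on with
      | h y s =>
        show IsLocalizedModule.map m.primeCompl _ (LocalizedModule.mkLinearMap m.primeCompl S.X₃) S.g.hom
          (IsLocalizedModule.map m.primeCompl _ (LocalizedModule.mkLinearMap m.primeCompl S.X₂) S.f.hom (LocalizedModule.mk y s)) = 0
        rw [IsLocalizedModule.mk_eq_mk']
        simp only [← ModuleCat.comp_apply, IsLocalizedModule.map_mk', S.zero]
        simp)

lemma locS_shortExact (m : Ideal A) [m.IsMaximal] (S : ShortComplex (ModuleCat.{u} A)) (hS : S.ShortExact) :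
    (locS m S).ShortExact :=
  haveI := hS.mono_f
  haveI := hS.epi_g
  have h1 := IsLocalizedModule.map_exact m.primeCompl (LocalizedModule.mkLinearMap m.primeCompl S.X₁)
    (LocalizedModule.mkLinearMap m.primeCompl S.X₂) (LocalizedModule.mkLinearMap m.primeCompl S.X₃) S.f.hom S.g.hom
    ((ShortComplex.ShortExact.moduleCat_exact_iff_function_exact S).1 hS.exact)
  have h2 := IsLocalizedModule.map_injective m.primeCompl (LocalizedModule.mkLinearMap m.primeCompl S.X₁)
    (LocalizedModule.mkLinearMap m.primeCompl S.X₂) S.f.hom ((ModuleCat.mono_iff_injective _).1 inferInstance)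
  have h3 := IsLocalizedModule.map_surjective m.primeCompl (LocalizedModule.mkLinearMap m.primeCompl S.X₂)
    (LocalizedModule.mkLinearMap m.primeCompl S.X₃) S.g.hom ((ModuleCat.epi_iff_surjective _).1 inferInstance)
  { exact := (ShortComplex.ShortExact.moduleCat_exact_iff_function_exact _).2 h1
    mono_f := (ModuleCat.mono_iff_injective _).2 h2
    epi_g := (ModuleCat.epi_iff_surjective _).2 h3 }

variable (hT : ∀ (J : Type u) [SmallCategory J] [IsFiltered J], PreservesColimitsOfShape J T)

include hT in
lemma map_eq (m : Ideal A) [m.IsMaximal] {X Y : ModuleCat.{u} A} (f : X ⟶ Y) :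
    haveI := LinLocal.main m.primeCompl X T hT
    haveI := LinLocal.main m.primeCompl Y T hT
    IsLocalizedModule.map m.primeCompl (T.map (mk' m X)).hom (T.map (mk' m Y)).hom (T.map f).hom =
      (T.map (locMap m f)).hom := by
  haveI := LinLocal.main m.primeCompl X T hT
  haveI := LinLocal.main m.primeCompl Y T hT
  refine IsLocalizedModule.ext m.primeCompl (T.map (mk' m X)).hom
    (IsLocalizedModule.map_units (T.map (mk' m Y)).hom) ?_
  rw [IsLocalizedModule.map_comp, ← ModuleCat.hom_comp, ← T.map_comp, ← mk'_locMap, T.map_comp]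
  rfl

/-- Images of short exact sequences localize to images of short exact sequences of the local ring. -/
noncomputable def compIso (m : Ideal A) [m.IsMaximal] (S : ShortComplex (ModuleCat.{u} A)) :
    (locS m S).map (ModuleCat.restrictScalars (algebraMap A (Localization.AtPrime m)) ⋙ T) ≅
      ShortComplex.mk (T.map (locMap m S.f)) (T.map (locMap m S.g)) (by
        rw [← T.map_comp]
        have : locMap m S.f ≫ locMap m S.g = 0 := by
          ext x
          exact congr($((locS m S).zero).hom x)
        rw [this, T.map_zero]) :=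
  ShortComplex.isoMk (T.mapIso (resIso m S.X₁).symm) (T.mapIso (resIso m S.X₂).symm) (T.mapIso (resIso m S.X₃).symm)
    (by
      show T.map _ ≫ T.map _ = T.map _ ≫ T.map _
      rw [← T.map_comp, ← T.map_comp]; rfl)
    (by
      show T.map _ ≫ T.map _ = T.map _ ≫ T.map _
      rw [← T.map_comp, ← T.map_comp]; rfl)

include hT in
theorem left
    (h : ∀ (m : Ideal A) [m.IsMaximal],
      PreservesFiniteLimits (ModuleCat.restrictScalars (algebraMap A (Localization.AtPrime m)) ⋙ T)) :
    PreservesFiniteLimits T := by
  rw [Functor.preservesFiniteLimits_iff_forall_exact_map_and_mono]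
  intro S hS
  haveI i1 : ∀ (P : Ideal A) [P.IsMaximal], IsLocalizedModule.AtPrime P (T.map (mk' P S.X₁)).hom := fun P _ => LinLocal.main P.primeCompl S.X₁ T hT
  haveI i2 : ∀ (P : Ideal A) [P.IsMaximal], IsLocalizedModule.AtPrime P (T.map (mk' P S.X₂)).hom := fun P _ => LinLocal.main P.primeCompl S.X₂ T hT
  haveI i3 : ∀ (P : Ideal A) [P.IsMaximal], IsLocalizedModule.AtPrime P (T.map (mk' P S.X₃)).hom := fun P _ => LinLocal.main P.primeCompl S.X₃ T hT
  have key : ∀ (m : Ideal A) [m.IsMaximal],
      Function.Exact (T.map (locMap m S.f)).hom (T.map (locMap m S.g)).hom ∧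
        Function.Injective (T.map (locMap m S.f)).hom := fun m _ => by
    haveI := h m
    have h1 := (Functor.preservesFiniteLimits_iff_forall_exact_map_and_mono _).1 this (locS m S) (locS_shortExact m S hS)
    let e := compIso T m S
    refine ⟨(ShortComplex.ShortExact.moduleCat_exact_iff_function_exact _).1 ((ShortComplex.exact_iff_of_iso e).1 h1.1), ?_⟩
    haveI : Mono ((locS m S).map (ModuleCat.restrictScalars (algebraMap A (Localization.AtPrime m)) ⋙ T)).f := h1.2
    haveI : IsIso e.inv.τ₁ := inferInstanceAs (IsIso (ShortComplex.π₁.mapIso e).inv)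
    have hm : Mono (T.map (locMap m S.f)) := mono_of_mono_fac e.inv.comm₁₂.symm
    exact (ModuleCat.mono_iff_injective _).1 hm
  refine ⟨(ShortComplex.ShortExact.moduleCat_exact_iff_function_exact _).2 ?_, (ModuleCat.mono_iff_injective _).2 ?_⟩
  · refine exact_of_isLocalized_maximal _ (fun m _ => (T.map (mk' m S.X₁)).hom) _ (fun m _ => (T.map (mk' m S.X₂)).hom)
      _ (fun m _ => (T.map (mk' m S.X₃)).hom) _ _ fun m _ => ?_
    show Function.Exact (IsLocalizedModule.map m.primeCompl _ _ (T.map S.f).hom) (IsLocalizedModule.map m.primeCompl _ _ (T.map S.g).hom)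
    rw [map_eq T hT m S.f, map_eq T hT m S.g]
    exact (key m).1
  · refine injective_of_isLocalized_maximal _ (fun m _ => (T.map (mk' m S.X₁)).hom) _ (fun m _ => (T.map (mk' m S.X₂)).hom)
      _ fun m _ => ?_
    rw [map_eq T hT m S.f]
    exact (key m).2

include hT in
theorem right
    (h : ∀ (m : Ideal A) [m.IsMaximal],
      PreservesFiniteColimits (ModuleCat.restrictScalars (algebraMap A (Localization.AtPrime m)) ⋙ T)) :
    PreservesFiniteColimits T := by
  rw [Functor.preservesFiniteColimits_iff_forall_exact_map_and_epi]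
  intro S hS
  haveI i1 : ∀ (P : Ideal A) [P.IsMaximal], IsLocalizedModule.AtPrime P (T.map (mk' P S.X₁)).hom := fun P _ => LinLocal.main P.primeCompl S.X₁ T hT
  haveI i2 : ∀ (P : Ideal A) [P.IsMaximal], IsLocalizedModule.AtPrime P (T.map (mk' P S.X₂)).hom := fun P _ => LinLocal.main P.primeCompl S.X₂ T hT
  haveI i3 : ∀ (P : Ideal A) [P.IsMaximal], IsLocalizedModule.AtPrime P (T.map (mk' P S.X₃)).hom := fun P _ => LinLocal.main P.primeCompl S.X₃ T hT
  have key : ∀ (m : Ideal A) [m.IsMaximal],
      Function.Exact (T.map (locMap m S.f)).hom (T.map (locMap m S.g)).hom ∧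
        Function.Surjective (T.map (locMap m S.g)).hom := fun m _ => by
    haveI := h m
    have h1 := (Functor.preservesFiniteColimits_iff_forall_exact_map_and_epi _).1 this (locS m S) (locS_shortExact m S hS)
    let e := compIso T m S
    refine ⟨(ShortComplex.ShortExact.moduleCat_exact_iff_function_exact _).1 ((ShortComplex.exact_iff_of_iso e).1 h1.1), ?_⟩
    haveI : Epi ((locS m S).map (ModuleCat.restrictScalars (algebraMap A (Localization.AtPrime m)) ⋙ T)).g := h1.2
    haveI : IsIso e.hom.τ₃ := inferInstanceAs (IsIso (ShortComplex.π₃.mapIso e).hom)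
    have hm : Epi (T.map (locMap m S.g)) := epi_of_epi_fac e.hom.comm₂₃
    exact (ModuleCat.epi_iff_surjective _).1 hm
  refine ⟨(ShortComplex.ShortExact.moduleCat_exact_iff_function_exact _).2 ?_, (ModuleCat.epi_iff_surjective _).2 ?_⟩
  · refine exact_of_isLocalized_maximal _ (fun m _ => (T.map (mk' m S.X₁)).hom) _ (fun m _ => (T.map (mk' m S.X₂)).hom)
      _ (fun m _ => (T.map (mk' m S.X₃)).hom) _ _ fun m _ => ?_
    show Function.Exact (IsLocalizedModule.map m.primeCompl _ _ (T.map S.f).hom) (IsLocalizedModule.map m.primeCompl _ _ (T.map S.g).hom)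
    rw [map_eq T hT m S.f, map_eq T hT m S.g]
    exact (key m).1
  · refine surjective_of_isLocalized_maximal _ (fun m _ => (T.map (mk' m S.X₂)).hom) _ (fun m _ => (T.map (mk' m S.X₃)).hom)
      _ fun m _ => ?_
    rw [map_eq T hT m S.g]
    exact (key m).2

end Groth.Agent.H9Misc.LinLocalExact
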