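import Groth.Agent.SheafHomY.Ext
import Groth.Agent.KFlatLib.Scheme.ProjModule

/-! Natural transformations which are invertible at `O` are invertible at finite locally free modules. -/

set_option linter.style.haveILetI false
set_option linter.unusedSectionVars false
set_option backward.isDefEq.respectTransparency false
set_option backward.isDefEq.respectTransparency.types false

universe u

open CategoryTheory CategoryTheory.Limits AlgebraicGeometry

noncomputable section

namespace Groth.Agent.H9Misc.LocFreeNat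

open Groth.Agent Groth.Agent.SheafHomX Groth.Agent.SheafHomY

variable {X Y : Scheme.{u}}

/-- Maps inverted over an open of the source give maps inverted over an open of the target. -/
def LocalIso (f : X ⟶ Y) (A : Y.Modules ⥤ X.Modules) : Prop :=
  ∀ (U : Y.Opens) {P Q : Y.Modules} (h : P ⟶ Q), IsIso ((Scheme.Modules.restrictFunctor U.ι).map h) →
    IsIso ((Scheme.Modules.restrictFunctor (f ⁻¹ᵁ U).ι).map (A.map h))

theorem isIso_freeMod {A B : Y.Modules ⥤ X.Modules} [A.Additive] [B.Additive] (η : A ⟶ B)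
    [IsIso (η.app (Coh.structureModule Y))] (n : ℕ) : IsIso (η.app (FlatMod.freeMod Y n)) := by
  classical
  let ι : Fin n → (Coh.structureModule Y ⟶ FlatMod.freeMod Y n) :=
    fun i => Sigma.ι (fun _ : Fin n => Coh.structureModule Y) i
  let π : Fin n → (FlatMod.freeMod Y n ⟶ Coh.structureModule Y) :=
    fun i => Sigma.desc fun k => if k = i then 𝟙 _ else 0
  have h : ∑ i, π i ≫ ι i = 𝟙 _ := by
    refine Sigma.hom_ext _ _ fun k => ?_
    rw [Preadditive.comp_sum, Category.comp_id, Finset.sum_eq_single k]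
    · show Sigma.ι _ k ≫ Sigma.desc _ ≫ Sigma.ι _ k = _
      rw [Sigma.ι_desc_assoc, if_pos rfl, Category.id_comp]
    · intro i _ hi
      show Sigma.ι _ k ≫ Sigma.desc _ ≫ Sigma.ι _ i = _
      rw [Sigma.ι_desc_assoc, if_neg (Ne.symm hi), zero_comp]
    · exact fun hk => absurd (Finset.mem_univ k) hk
  refine ⟨∑ i, B.map (π i) ≫ inv (η.app (Coh.structureModule Y)) ≫ A.map (ι i), ?_, ?_⟩
  · rw [Preadditive.comp_sum]
    calc _ = ∑ i, A.map (π i ≫ ι i) :=
          Finset.sum_congr rfl fun i _ => by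
            rw [← Category.assoc, ← η.naturality, Category.assoc, IsIso.hom_inv_id_assoc, ← Functor.map_comp]
      _ = 𝟙 _ := by rw [← Functor.map_sum, h, A.map_id]
  · rw [Preadditive.sum_comp]
    calc _ = ∑ i, B.map (π i ≫ ι i) :=
          Finset.sum_congr rfl fun i _ => by
            rw [Category.assoc, Category.assoc, η.naturality, IsIso.inv_hom_id_assoc, ← Functor.map_comp]
      _ = 𝟙 _ := by rw [← Functor.map_sum, h, B.map_id]

theorem isIso_stalk_of_restrict (V : X.Opens) {P Q : X.Modules} (g : P ⟶ Q)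
    (hg : IsIso ((Scheme.Modules.restrictFunctor V.ι).map g)) (x : V) :
    IsIso ((DerSch.stalkFunctor X x.1).map g) := by
  haveI := hg
  have hb := ConcreteCategory.bijective_of_isIso
    ((DerSch.stalkFunctor (V : Scheme.{u}) x).map ((Scheme.Modules.restrictFunctor V.ι).map g))
  exact (ConcreteCategory.isIso_iff_bijective _).2 ⟨KFlatLib.injective_stalk_of_restrict V.ι _ _ hb.1,
    KFlatLib.surjective_stalk_of_restrict V.ι _ _ hb.2⟩

set_option maxHeartbeats 600000 in
theorem isIso_of_structure (f : X ⟶ Y) {A B : Y.Modules ⥤ X.Modules} [A.Additive] [B.Additive]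
    (hA : LocalIso f A) (hB : LocalIso f B) (η : A ⟶ B) [IsIso (η.app (Coh.structureModule Y))]
    {E : Y.Modules} (hE : FlatMod.IsFinLocFree E) : IsIso (η.app E) := by
  have hfree : ∀ n, IsIso (η.app (FlatMod.freeMod Y n)) := fun n => isIso_freeMod η n
  refine KFlatLib.isIso_of_stalk _ fun x => ?_
  obtain ⟨U, n, hx, ⟨e⟩⟩ := hE (f x)
  let V := f ⁻¹ᵁ U
  let R := Scheme.Modules.restrictFunctor V.ι
  have key : ∀ {P Q : Y.Modules} (h : P ⟶ Q), IsIso ((Scheme.Modules.restrictFunctor U.ι).map h) →
      (IsIso (R.map (η.app P)) ↔ IsIso (R.map (η.app Q))) := by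
    intro P Q h hh
    haveI := hA U h hh
    haveI := hB U h hh
    have w := congrArg (fun t => R.map t) (η.naturality h)
    simp only [Functor.map_comp] at w
    constructor
    · intro hP
      haveI : IsIso (R.map (A.map h) ≫ R.map (η.app Q)) := by rw [w]; infer_instance
      exact IsIso.of_isIso_comp_left (R.map (A.map h)) _
    · intro hQ
      haveI : IsIso (R.map (η.app P) ≫ R.map (B.map h)) := by rw [← w]; infer_instance
      exact IsIso.of_isIso_comp_right _ (R.map (B.map h))
  haveI := hfree n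
  have hF : IsIso (R.map (η.app (FlatMod.freeMod Y n))) := Functor.map_isIso R _
  let M : (U : Scheme.{u}).Modules := FlatMod.freeMod (U : Scheme.{u}) n
  let a : (KFlatLib.lsh U.ι).obj M ⟶ E := ((KFlatLib.lshAdj U.ι).homEquiv M E).symm e.symm.hom
  let b : (KFlatLib.lsh U.ι).obj M ⟶ FlatMod.freeMod Y n :=
    ((KFlatLib.lshAdj U.ι).homEquiv M (FlatMod.freeMod Y n)).symm (QCoh.freeModRestrict U.ι n).symm.hom
  have ha : IsIso ((Scheme.Modules.restrictFunctor U.ι).map a) :=
    isIso_restrict_lsh_desc U.ι (A := E) (M := M) e.symm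
  have hb' : IsIso ((Scheme.Modules.restrictFunctor U.ι).map b) :=
    isIso_restrict_lsh_desc U.ι (A := FlatMod.freeMod Y n) (M := M) (QCoh.freeModRestrict U.ι n).symm
  have hU : IsIso (R.map (η.app E)) := (key a ha).1 ((key b hb').2 hF)
  exact isIso_stalk_of_restrict V (η.app E) hU ⟨x, hx⟩

theorem localIso_tensorObj (f : X ⟶ Y) {A : Y.Modules ⥤ X.Modules} (hA : LocalIso f A) (M : X.Modules) :
    LocalIso f (A ⋙ (DCoh.tensorBi (X := X)).obj M) := fun U _ _ h hh => by
  haveI := hA U h hh
  exact isIso_restrict_tensor _ (A.map h) M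

theorem localIso_hom (f : X ⟶ Y) {A : Y.Modules ⥤ X.Modules} (hA : LocalIso f A) (F : X.Modules) :
    LocalIso f (A ⋙ hom F) := fun U _ _ h hh => by
  haveI := hA U h hh
  exact (NatIso.isIso_map_iff (restrictIso (f ⁻¹ᵁ U).ι F) (A.map h)).2
    (inferInstanceAs (IsIso ((hom _).map ((Scheme.Modules.restrictFunctor (f ⁻¹ᵁ U).ι).map (A.map h)))))

theorem localIso_id (X : Scheme.{u}) : LocalIso (𝟙 X) (𝟭 X.Modules) := fun _ _ _ _ hh => hh

end Groth.Agent.H9Misc.LocFreeNat
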