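import Mathlib
import Groth.Prelude.Def_W4c3perfectstacksMV
import Groth.Prelude.Def_CohDer
import Groth.Agent.TriCat.Compact

/-! Mayer–Vietoris squares of triangulated categories: killed / local objects, glueing. -/

universe v u

open CategoryTheory CategoryTheory.Limits CategoryTheory.Pretriangulated

namespace Groth.Agent.H9Misc.MVSqLib

lemma isIso_of_comp_id {C : Type u} [Category.{v} C] {X Y Z : C} (f : X ⟶ Y) (g : Y ⟶ Z)
    [IsIso g] {h : X ⟶ Z} (w : f ≫ g = h) [IsIso h] : IsIso f :=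
  IsIso.of_isIso_fac_right w

section General

variable {C D : Type u} [Category.{v} C] [Category.{v} D]
  [Preadditive C] [Preadditive D]

/-- `Y` receives only zero maps from the objects killed by `F`. -/
def LocalTo (F : C ⥤ D) (Y : C) : Prop :=
  ∀ ⦃A : C⦄, IsZero (F.obj A) → ∀ φ : A ⟶ Y, φ = 0

lemma localTo_rightAdjoint {F : C ⥤ D} {G : D ⥤ C} [F.Additive] (adj : F ⊣ G) (P : D) :
    LocalTo F (G.obj P) := fun A hA φ =>
  (adj.homEquiv A P).symm.injective (hA.eq_of_src _ _)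

lemma LocalTo.of_iso {F : C ⥤ D} {Y Y' : C} (h : LocalTo F Y) (i : Y ≅ Y') : LocalTo F Y' :=
  fun A hA φ => by
    rw [← cancel_mono i.inv, zero_comp]
    exact h hA _

variable [HasShift C ℤ] [HasShift D ℤ]
  [∀ n : ℤ, (shiftFunctor C n).Additive] [∀ n : ℤ, (shiftFunctor D n).Additive]

lemma isZero_map_shift {F : C ⥤ D} [F.CommShift ℤ] {A : C} (hA : IsZero (F.obj A)) (n : ℤ) :
    IsZero (F.obj (A⟦n⟧)) :=
  ((shiftFunctor D n).map_isZero hA).of_iso ((F.commShiftIso n).app A)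

lemma LocalTo.shift {F : C ⥤ D} [F.CommShift ℤ] {Y : C} (h : LocalTo F Y) (n : ℤ) :
    LocalTo F (Y⟦n⟧) := fun A hA φ => by
  apply (shiftFunctor C (-n)).map_injective
  rw [Functor.map_zero, ← cancel_mono ((shiftFunctorCompIsoId C n (-n) (by simp)).hom.app Y),
    zero_comp]
  exact h (isZero_map_shift hA (-n)) _

variable [HasZeroObject C] [HasZeroObject D] [Pretriangulated C] [Pretriangulated D]

/-- Composition with the first morphism of a triangle with local third object is bijective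
on maps out of killed objects. -/
lemma comp_mor₁_bijective {F : C ⥤ D} [F.CommShift ℤ] (T : Triangle C) (hT : T ∈ distTriang C)
    (h₃ : LocalTo F T.obj₃) {A : C} (hA : IsZero (F.obj A)) :
    Function.Bijective (fun φ : A ⟶ T.obj₁ => φ ≫ T.mor₁) := by
  refine ⟨fun φ φ' h => ?_, fun ψ => ?_⟩
  · have h0 : (φ - φ') ≫ T.mor₁ = 0 := by
      simp only at h
      rw [Preadditive.sub_comp, h, sub_self]
    obtain ⟨k, hk⟩ := T.invRotate.coyoneda_exact₂ (inv_rot_of_distTriang _ hT) (φ - φ') h0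
    have hk0 : k = 0 := (h₃.shift (-1)) hA k
    subst hk0
    exact sub_eq_zero.1 (hk.trans zero_comp)
  · obtain ⟨φ, hφ⟩ := T.coyoneda_exact₂ hT ψ (h₃ hA _)
    exact ⟨φ, hφ.symm⟩

lemma zero₁₂ {Z Y W : C} {z : Z ⟶ Y} {b : Y ⟶ W} {w : W ⟶ Z⟦(1 : ℤ)⟧}
    (hT : Triangle.mk z b w ∈ distTriang C) : z ≫ b = 0 := comp_distTriang_mor_zero₁₂ _ hT

lemma zero₃₁ {Z Y W : C} {z : Z ⟶ Y} {b : Y ⟶ W} {w : W ⟶ Z⟦(1 : ℤ)⟧}
    (hT : Triangle.mk z b w ∈ distTriang C) : w ≫ z⟦(1 : ℤ)⟧' = 0 :=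
  comp_distTriang_mor_zero₃₁ _ hT

lemma lift₂ {Z Y W : C} {z : Z ⟶ Y} {b : Y ⟶ W} {w : W ⟶ Z⟦(1 : ℤ)⟧}
    (hT : Triangle.mk z b w ∈ distTriang C) {P : C} (p : P ⟶ Y) (hp : p ≫ b = 0) :
    ∃ s : P ⟶ Z, p = s ≫ z :=
  Triangle.coyoneda_exact₂ _ hT p hp

lemma lift₁ {Z Y W : C} {z : Z ⟶ Y} {b : Y ⟶ W} {w : W ⟶ Z⟦(1 : ℤ)⟧}
    (hT : Triangle.mk z b w ∈ distTriang C) {P : C} (p : P ⟶ Z⟦(1 : ℤ)⟧)
    (hp : p ≫ z⟦(1 : ℤ)⟧' = 0) : ∃ s : P ⟶ W, p = s ≫ w :=
  Triangle.coyoneda_exact₁ _ hT p hp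

lemma isIso_neg {E : Type u} [Category.{v} E] [Preadditive E] {X Y : E} (f : X ⟶ Y) [IsIso f] :
    IsIso (-f) :=
  ⟨⟨-inv f, by simp, by simp⟩⟩

lemma comp_bijective {Z Y W : C} {F : C ⥤ D} [F.CommShift ℤ] {z : Z ⟶ Y} {b : Y ⟶ W}
    {w : W ⟶ Z⟦(1 : ℤ)⟧} (hT : Triangle.mk z b w ∈ distTriang C) (h₃ : LocalTo F W) {A : C}
    (hA : IsZero (F.obj A)) : Function.Bijective (fun φ : A ⟶ Z => φ ≫ z) :=
  comp_mor₁_bijective _ hT h₃ hA

/-- If the second component of the middle map becomes an isomorphism, the first component of the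
first map becomes an isomorphism. -/
lemma isIso_map_fst (F : C ⥤ D) [F.CommShift ℤ] [F.IsTriangulated] {Z X Y W : C}
    (z : Z ⟶ X ⊞ Y) (b : X ⊞ Y ⟶ W) (w : W ⟶ Z⟦(1 : ℤ)⟧)
    (hT : Triangle.mk z b w ∈ distTriang C) (hy : IsIso (F.map (biprod.inr ≫ b))) :
    IsIso (F.map (z ≫ biprod.fst)) := by
  have hT' := F.map_distinguished _ hT
  set T' := F.mapTriangle.obj (Triangle.mk z b w) with hT'def
  have hbsec : (inv (F.map (biprod.inr ≫ b)) ≫ F.map biprod.inr) ≫ T'.mor₂ = 𝟙 _ := by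
    change (inv (F.map (biprod.inr ≫ b)) ≫ F.map biprod.inr) ≫ F.map b = 𝟙 _
    rw [Category.assoc, ← F.map_comp, IsIso.inv_hom_id]
  haveI : IsSplitEpi T'.mor₂ := IsSplitEpi.mk' ⟨_, hbsec⟩
  haveI hmono : Mono T'.mor₁ := T'.mono₁ hT' (T'.mor₃_eq_zero_of_epi₂ hT' inferInstance)
  haveI hmono' : Mono (F.map z) := hmono
  have htot : F.map (biprod.fst : X ⊞ Y ⟶ X) ≫ F.map biprod.inl +
      F.map (biprod.snd : X ⊞ Y ⟶ Y) ≫ F.map biprod.inr = 𝟙 (F.obj (X ⊞ Y)) := by
    rw [← F.map_comp, ← F.map_comp, ← F.map_add, biprod.total, F.map_id]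
  refine isIso_of_yoneda_map_bijective _ (fun P => ⟨fun s s' h => ?_, fun x => ?_⟩)
  · simp only [Functor.map_comp] at h
    have hzb : ∀ t : P ⟶ F.obj Z, (t ≫ F.map z) ≫ F.map b = 0 := fun t => by
      rw [Category.assoc, ← F.map_comp, zero₁₂ hT, F.map_zero, comp_zero]
    have h1 : (s - s') ≫ F.map z ≫ F.map biprod.fst = 0 := by
      rw [Preadditive.sub_comp, sub_eq_zero]; exact h
    have h2 : ((s - s') ≫ F.map z ≫ F.map biprod.snd) ≫ F.map (biprod.inr ≫ b) = 0 := by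
      have := hzb (s - s')
      rw [← Category.comp_id ((s - s') ≫ F.map z), ← htot] at this
      simpa only [Preadditive.comp_add, Category.assoc, reassoc_of% h1, zero_comp, zero_add,
        Functor.map_comp] using this
    have h3 : (s - s') ≫ F.map z ≫ F.map biprod.snd = 0 := by
      rw [← cancel_mono (F.map (biprod.inr ≫ b)), h2, zero_comp]
    have h4 : (s - s') ≫ F.map z = 0 := by
      rw [← Category.comp_id (F.map z), ← htot]
      simp [Preadditive.comp_add, reassoc_of% h1, reassoc_of% h3]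
    rw [← sub_eq_zero, ← cancel_mono (F.map z), h4, zero_comp]
  · let y : P ⟶ F.obj Y := -(x ≫ F.map (biprod.inl ≫ b) ≫ inv (F.map (biprod.inr ≫ b)))
    have hp : (x ≫ F.map biprod.inl + y ≫ F.map biprod.inr) ≫ T'.mor₂ = 0 := by
      change (x ≫ F.map biprod.inl + y ≫ F.map biprod.inr) ≫ F.map b = 0
      simp only [Preadditive.add_comp, Category.assoc, ← F.map_comp, y, Preadditive.neg_comp,
        IsIso.inv_hom_id, Category.comp_id, add_neg_cancel]
    obtain ⟨s, hs⟩ := T'.coyoneda_exact₂ hT' _ hp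
    refine ⟨s, ?_⟩
    change s ≫ F.map (z ≫ biprod.fst) = x
    have hs' : x ≫ F.map biprod.inl + y ≫ F.map biprod.inr = s ≫ F.map z := hs
    rw [F.map_comp]
    refine (Category.assoc s (F.map z) (F.map biprod.fst)).symm.trans ?_
    rw [← hs', Preadditive.add_comp, Category.assoc, Category.assoc,
      ← F.map_comp, ← F.map_comp, biprod.inl_fst, biprod.inr_fst, F.map_zero, comp_zero, add_zero,
      F.map_id, Category.comp_id]

/-- A map inverted by `F` and inducing bijections on maps out of killed objects is an iso. -/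
lemma isIso_of (F : C ⥤ D) [F.CommShift ℤ] [F.IsTriangulated] {M N : C} (u : M ⟶ N)
    (h₁ : IsIso (F.map u))
    (h₂ : ∀ A : C, IsZero (F.obj A) → Function.Bijective (fun φ : A ⟶ M => φ ≫ u)) : IsIso u := by
  obtain ⟨Q, v, w, hT⟩ := distinguished_cocone_triangle u
  set T := Triangle.mk u v w with hTdef
  have hQ : IsZero (F.obj Q) :=
    (F.mapTriangle.obj T).isZero₃_of_isIso₁ (F.map_distinguished _ hT) h₁
  have hw : w = 0 := by
    have key : ∀ φ : Q⟦(-1 : ℤ)⟧ ⟶ M, φ ≫ u = 0 → φ = 0 := fun φ h =>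
      (h₂ _ (isZero_map_shift hQ (-1))).1 (by simpa using h)
    have hwu : w ≫ u⟦(1 : ℤ)⟧' = 0 := comp_distTriang_mor_zero₃₁ _ hT
    let ec := shiftFunctorCompIsoId C (1 : ℤ) (-1) (by simp)
    have := key ((shiftFunctor C (-1 : ℤ)).map w ≫ ec.hom.app M) (by
      rw [Category.assoc]
      erw [← ec.hom.naturality u]
      rw [Functor.comp_map, ← Category.assoc, ← Functor.map_comp, hwu, Functor.map_zero, zero_comp])
    rw [← cancel_mono (ec.inv.app M), zero_comp, Category.assoc, Iso.hom_inv_id_app] at this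
    apply (shiftFunctor C (-1 : ℤ)).map_injective
    rw [Functor.map_zero]
    simpa using this
  obtain ⟨s, hs⟩ : ∃ s : Q ⟶ N, 𝟙 Q = s ≫ v :=
    Triangle.coyoneda_exact₃ _ hT (𝟙 Q) ((Category.id_comp w).trans hw)
  obtain ⟨t, ht⟩ := (h₂ Q hQ).2 s
  have hQ0 : IsZero Q := by
    rw [IsZero.iff_id_eq_zero]
    have huv : u ≫ v = 0 := zero₁₂ hT
    have ht' : t ≫ u = s := ht
    refine hs.trans ?_
    change s ≫ v = 0
    rw [← ht', Category.assoc, huv, comp_zero]
  exact (T.isZero₃_iff_isIso₁ hT).1 hQ0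

variable [HasCoproducts.{v} C]

open TriCat

/-- Maps out of `K` into `Φ (∐ X)` are finite sums of maps into the `Φ (X i)`. -/
def HomFin {E : Type u} [Category.{v} E] [Preadditive E] (K : E) (Φ : C ⥤ E) : Prop :=
  ∀ (ι : Type v) (X : ι → C) (f : K ⟶ Φ.obj (∐ X)),
    ∃ (s : Finset ι) (a : ∀ i, K ⟶ Φ.obj (X i)), f = ∑ i ∈ s, a i ≫ Φ.map (Sigma.ι X i)

end General

section HomFinLemmas

variable {C : Type u} [Category.{v} C] [Preadditive C] [HasCoproducts.{v} C]
variable {E E' : Type u} [Category.{v} E] [Category.{v} E'] [Preadditive E] [Preadditive E']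

lemma HomFin.of_compact [HasCoproducts.{v} E] {K : E} (hK : CohDer.IsCompactObject K)
    (Φ : C ⥤ E) [∀ J : Type v, PreservesColimitsOfShape (Discrete J) Φ] : HomFin K Φ := by
  intro ι X f
  let e := PreservesCoproduct.iso Φ X
  obtain ⟨s, a, ha⟩ := TriCat.IsCompactObject.finFactor hK (f ≫ e.hom)
  refine ⟨s, a, ?_⟩
  rw [← cancel_mono e.hom, ha, Preadditive.sum_comp]
  refine Finset.sum_congr rfl fun i _ => ?_
  have : Sigma.ι _ i ≫ e.inv = Φ.map (Sigma.ι X i) := by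
    simp [e, PreservesCoproduct.inv_hom, ι_comp_sigmaComparison]
  rw [← this, Category.assoc, Category.assoc, Iso.inv_hom_id, Category.comp_id]

lemma HomFin.of_iso {K K' : E} {Φ : C ⥤ E} (h : HomFin K Φ) (e : K ≅ K') : HomFin K' Φ := by
  intro ι X f
  obtain ⟨s, a, ha⟩ := h ι X (e.hom ≫ f)
  refine ⟨s, fun i => e.inv ≫ a i, ?_⟩
  simp only [Category.assoc, ← Preadditive.comp_sum, ← ha, Iso.inv_hom_id_assoc]

lemma HomFin.of_natIso {K : E} {Φ Φ' : C ⥤ E} (h : HomFin K Φ) (e : Φ ≅ Φ') : HomFin K Φ' := by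
  intro ι X f
  obtain ⟨s, a, ha⟩ := h ι X (f ≫ e.inv.app _)
  refine ⟨s, fun i => a i ≫ e.hom.app _, ?_⟩
  rw [← cancel_mono (e.inv.app _), ha, Preadditive.sum_comp]
  refine Finset.sum_congr rfl fun i _ => ?_
  simp

lemma HomFin.comp_rightAdjoint {F : E' ⥤ E} {G : E ⥤ E'} [F.Additive] (adj : F ⊣ G) {K : E'}
    {Φ : C ⥤ E} (h : HomFin (F.obj K) Φ) : HomFin K (Φ ⋙ G) := by
  haveI : G.Additive := adj.right_adjoint_additive
  intro ι X f
  obtain ⟨s, a, ha⟩ := h ι X ((adj.homEquiv _ _).symm f)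
  refine ⟨s, fun i => adj.homEquiv _ _ (a i), ?_⟩
  apply (adj.homEquiv _ _).symm.injective
  rw [ha]
  simp [Adjunction.homEquiv_counit, Functor.map_sum, Preadditive.sum_comp,
    Adjunction.homEquiv_unit]

end HomFinLemmas

section MV

variable {S S' R R' : Type u} [Category.{v} S] [Category.{v} S'] [Category.{v} R] [Category.{v} R']
    [Preadditive S] [Preadditive S'] [Preadditive R] [Preadditive R']
    [HasZeroObject S] [HasZeroObject S'] [HasZeroObject R] [HasZeroObject R']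
    [HasShift S ℤ] [HasShift S' ℤ] [HasShift R ℤ] [HasShift R' ℤ]
    [∀ n : ℤ, (shiftFunctor S n).Additive] [∀ n : ℤ, (shiftFunctor S' n).Additive]
    [∀ n : ℤ, (shiftFunctor R n).Additive] [∀ n : ℤ, (shiftFunctor R' n).Additive]
    [Pretriangulated S] [Pretriangulated S'] [Pretriangulated R] [Pretriangulated R']
    (q : W4c3perfectstacks.MVSq S S' R R')
    [q.jst.CommShift ℤ] [q.fst.CommShift ℤ] [q.jpst.CommShift ℤ] [q.gst.CommShift ℤ]
    [q.jst.IsTriangulated] [q.fst.IsTriangulated] [q.jpst.IsTriangulated] [q.gst.IsTriangulated]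

@[reassoc]
lemma bcApp_natural {M₁ M₂ : S'} (ψ : M₁ ⟶ M₂) :
    q.jst.map (q.fls.map ψ) ≫ q.bcApp M₂ = q.bcApp M₁ ≫ q.gls.map (q.jpst.map ψ) := by
  simp only [W4c3perfectstacks.MVSq.bcApp, Category.assoc, ← Functor.map_comp,
    Adjunction.counit_naturality, Adjunction.unit_naturality_assoc]
  rw [← Category.assoc (q.jst.map _)]
  erw [q.adjG.unit.naturality (q.jst.map (q.fls.map ψ))]
  rw [Functor.comp_map, Category.assoc, ← Functor.map_comp]
  congr 2
  rw [← Functor.comp_map q.jst q.gst, NatTrans.naturality_assoc, Functor.comp_map,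
    ← Functor.map_comp, Adjunction.counit_naturality]

lemma bc2App_eq (P : R) : q.bc2App P =
    q.adjJp.homEquiv _ _ (q.e.inv.app (q.jls.obj P) ≫ q.gst.map (q.adjJ.counit.app P)) := by
  simp [W4c3perfectstacks.MVSq.bc2App, Adjunction.homEquiv_unit]

@[reassoc]
lemma bc2App_natural {P₁ P₂ : R} (ψ : P₁ ⟶ P₂) :
    q.fst.map (q.jls.map ψ) ≫ q.bc2App P₂ = q.bc2App P₁ ≫ q.jpls.map (q.gst.map ψ) := by
  rw [bc2App_eq, bc2App_eq, ← Adjunction.homEquiv_naturality_left,
    ← Adjunction.homEquiv_naturality_right]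
  congr 1
  rw [← Functor.comp_map q.fst q.jpst, NatTrans.naturality_assoc, Functor.comp_map,
    Category.assoc, ← Functor.map_comp, ← Functor.map_comp]
  congr 2
  exact q.adjJ.counit.naturality ψ

lemma isZero_fst_of_killed {A : S} (hA : IsZero (q.jst.obj A)) :
    IsZero (q.jpst.obj (q.fst.obj A)) :=
  (q.gst.map_isZero hA).of_iso (q.e.app A).symm

lemma isZero_fls_of_killed (hbc : ∀ M : S', IsIso (q.bcApp M)) {M : S'}
    (hM : IsZero (q.jpst.obj M)) : IsZero (q.jst.obj (q.fls.obj M)) := by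
  haveI := q.adjG.right_adjoint_additive
  haveI := hbc M
  exact (q.gls.map_isZero hM).of_iso (asIso (q.bcApp M))

variable {q}

section
variable (hq : q.IsMV)
include hq

lemma isIso_jst_unit (N : S) : IsIso (q.jst.map (q.adjJ.unit.app N)) := by
  haveI := hq.isIso_counitJ
  exact @isIso_of_comp_id _ _ _ _ _ _ _ _ _ (q.adjJ.left_triangle_components N) (IsIso.id _)

lemma localTo_fls_jpls (X : R') : LocalTo q.jst (q.fls.obj (q.jpls.obj X)) := fun A hA φ =>
  (q.adjF.homEquiv _ _).symm.injective <| by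
    rw [localTo_rightAdjoint q.adjJp X (isZero_fst_of_killed q hA)
      ((q.adjF.homEquiv _ _).symm φ),
      localTo_rightAdjoint q.adjJp X (isZero_fst_of_killed q hA)
      ((q.adjF.homEquiv _ _).symm 0)]

/-- The natural form of the exchange map. -/
noncomputable def bc2Iso : q.jls ⋙ q.fst ≅ q.gst ⋙ q.jpls :=
  NatIso.ofComponents (fun P => haveI := hq.isIso_bc2App P; asIso (q.bc2App P))
    (fun {_ _} ψ => bc2App_natural q ψ)

lemma localTo_FJ (P : R) : LocalTo q.jst (q.fls.obj (q.fst.obj (q.jls.obj P))) :=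
  (localTo_fls_jpls hq (q.gst.obj P)).of_iso (q.fls.mapIso ((bc2Iso hq).app P).symm)

lemma localTo_fst_jls (P : R) : LocalTo q.jpst (q.fst.obj (q.jls.obj P)) :=
  (localTo_rightAdjoint q.adjJp (q.gst.obj P)).of_iso ((bc2Iso hq).app P).symm

lemma fst_map_bijective {A : S} (hA : IsZero (q.jst.obj A)) (N : S) :
    Function.Bijective (fun φ : A ⟶ N => q.fst.map φ) := by
  obtain ⟨K, k, δ, hT⟩ := distinguished_cocone_triangle₁ (q.adjJ.unit.app N)
  have hK : IsZero (q.jst.obj K) :=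
    (q.jst.mapTriangle.obj _).isZero₁_of_isIso₂ (q.jst.map_distinguished _ hT)
      (isIso_jst_unit hq N)
  have hb : Function.Bijective (fun φ : A ⟶ K => φ ≫ k) :=
    comp_mor₁_bijective _ hT (localTo_rightAdjoint q.adjJ (q.jst.obj N)) hA
  have hb' : Function.Bijective (fun φ : q.fst.obj A ⟶ q.fst.obj K => φ ≫ q.fst.map k) :=
    comp_mor₁_bijective _ (q.fst.map_distinguished _ hT) (localTo_fst_jls hq (q.jst.obj N))
      (isZero_fst_of_killed q hA)
  haveI := hq.isIso_unitF K hK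
  have hmap : Function.Bijective (fun φ : A ⟶ K => q.fst.map φ) := by
    have : (fun φ : A ⟶ K => q.fst.map φ) = fun φ => (q.adjF.homEquiv _ _).symm
        (φ ≫ q.adjF.unit.app K) := by
      funext φ
      simp [Adjunction.homEquiv_counit]
    rw [this]
    exact (q.adjF.homEquiv _ _).symm.bijective.comp
      ((Iso.homCongr (Iso.refl A) (asIso (q.adjF.unit.app K))).bijective.of_comp_iff' _ |>.2
        Function.bijective_id |> fun h => by
          refine ⟨fun a b hab => ?_, fun c => ⟨c ≫ inv (q.adjF.unit.app K), by simp⟩⟩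
          exact (cancel_mono (q.adjF.unit.app K)).1 hab)
  have heq : (fun φ : A ⟶ N => q.fst.map φ) ∘ (fun φ : A ⟶ K => φ ≫ k) =
      (fun φ : q.fst.obj A ⟶ q.fst.obj K => φ ≫ q.fst.map k) ∘ (fun φ => q.fst.map φ) := by
    funext φ
    simp
  rw [← Function.Bijective.of_comp_iff _ hb, heq]
  exact hb'.comp hmap

lemma map_fls_bijective (M : S') (hM : IsZero (q.jpst.obj M)) (N : S) :
    Function.Bijective (fun g : q.fls.obj M ⟶ N => q.fst.map g) :=
  fst_map_bijective hq (isZero_fls_of_killed q hq.isIso_bcApp hM) N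

lemma unitF_comp_bijective {A : S} (hA : IsZero (q.jst.obj A)) (N : S) :
    Function.Bijective (fun φ : A ⟶ N => φ ≫ q.adjF.unit.app N) := by
  have : (fun φ : A ⟶ N => φ ≫ q.adjF.unit.app N) =
      q.adjF.homEquiv _ _ ∘ fun φ => q.fst.map φ := by
    funext φ
    simp [Adjunction.homEquiv_unit]
  rw [this]
  exact (q.adjF.homEquiv _ _).bijective.comp (fst_map_bijective hq hA N)

lemma isIso_jst_fls {M₁ M₂ : S'} (ψ : M₁ ⟶ M₂) (h : IsIso (q.jpst.map ψ)) :
    IsIso (q.jst.map (q.fls.map ψ)) := by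
  haveI := hq.isIso_bcApp M₁
  haveI := hq.isIso_bcApp M₂
  have := bcApp_natural q ψ
  exact IsIso.of_isIso_fac_right this

lemma isIso_jst_Fmap {N₁ N₂ : S} (φ : N₁ ⟶ N₂) (h : IsIso (q.jst.map φ)) :
    IsIso (q.jst.map (q.fls.map (q.fst.map φ))) := by
  refine isIso_jst_fls hq _ ?_
  exact (NatIso.isIso_map_iff q.e φ).1 (inferInstanceAs (IsIso (q.gst.map (q.jst.map φ))))

lemma eq_zero_of_jst_map_zero {Y X : S} (hY : LocalTo q.jst Y) (t : X ⟶ Y)
    (ht : q.jst.map t = 0) : t = 0 := by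
  obtain ⟨K, k, δ, hT⟩ := distinguished_cocone_triangle₁ (q.adjJ.unit.app Y)
  have hK : IsZero (q.jst.obj K) :=
    (q.jst.mapTriangle.obj _).isZero₁_of_isIso₂ (q.jst.map_distinguished _ hT)
      (isIso_jst_unit hq Y)
  haveI : Mono (q.adjJ.unit.app Y) := Triangle.mono₂ _ hT (hY hK k)
  rw [← cancel_mono (q.adjJ.unit.app Y), zero_comp]
  refine (q.adjJ.unit.naturality t).trans ?_
  haveI := q.adjJ.right_adjoint_additive
  rw [Functor.comp_map, ht, Functor.map_zero, comp_zero]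

/-- The first map of the Mayer–Vietoris triangle. -/
noncomputable abbrev aMor (q : W4c3perfectstacks.MVSq S S' R R') (N : S) :
    N ⟶ q.jls.obj (q.jst.obj N) ⊞ q.fls.obj (q.fst.obj N) :=
  biprod.lift (q.adjJ.unit.app N) (q.adjF.unit.app N)

/-- The middle map of the Mayer–Vietoris triangle. -/
noncomputable abbrev bMor (q : W4c3perfectstacks.MVSq S S' R R') (N : S) :
    q.jls.obj (q.jst.obj N) ⊞ q.fls.obj (q.fst.obj N) ⟶
      q.fls.obj (q.fst.obj (q.jls.obj (q.jst.obj N))) :=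
  biprod.desc (q.adjF.unit.app (q.jls.obj (q.jst.obj N)))
    (-(q.fls.map (q.fst.map (q.adjJ.unit.app N))))

lemma exists_triangle (N : S) :
    ∃ d, Triangle.mk (aMor q N) (bMor q N) d ∈ distTriang S := by
  haveI := q.adjF.right_adjoint_additive
  obtain ⟨Z, z, w, hT⟩ := distinguished_cocone_triangle₁ (bMor q N)
  have hab : aMor q N ≫ bMor q N = 0 := by
    simp [biprod.lift_desc]
  obtain ⟨v, hv⟩ := lift₂ hT (aMor q N) hab
  have hv' : v ≫ z = aMor q N := hv.symm
  have hy : IsIso (q.jst.map (biprod.inr ≫ bMor q N)) := by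
    rw [biprod.inr_desc, Functor.map_neg]
    haveI := isIso_jst_Fmap hq _ (isIso_jst_unit hq N)
    exact isIso_neg _
  haveI hzfst := isIso_map_fst q.jst z _ w hT hy
  have hj : IsIso (q.jst.map v) := by
    have : q.jst.map v ≫ q.jst.map (z ≫ biprod.fst) = q.jst.map (q.adjJ.unit.app N) := by
      rw [← Functor.map_comp, ← Category.assoc, hv']
      exact congrArg q.jst.map (biprod.lift_fst _ _)
    exact @IsIso.of_isIso_fac_right _ _ _ _ _ _ _ _ ‹_› (isIso_jst_unit hq N) this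
  have hbij : ∀ A : S, IsZero (q.jst.obj A) →
      Function.Bijective (fun φ : A ⟶ N => φ ≫ v) := by
    intro A hA
    have h1 : Function.Bijective (fun φ : A ⟶ Z => φ ≫ z) :=
      comp_bijective hT (localTo_FJ hq (q.jst.obj N)) hA
    have h2 : Function.Bijective
        (fun ψ : A ⟶ q.jls.obj (q.jst.obj N) ⊞ q.fls.obj (q.fst.obj N) => ψ ≫ biprod.snd) := by
      refine ⟨fun a b hab => biprod.hom_ext _ _ ?_ hab, fun c => ⟨c ≫ biprod.inr, by simp⟩⟩
      rw [localTo_rightAdjoint q.adjJ _ hA (a ≫ biprod.fst),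
        localTo_rightAdjoint q.adjJ _ hA (b ≫ biprod.fst)]
    refine (Function.Bijective.of_comp_iff' (h2.comp h1) (fun φ : A ⟶ N => φ ≫ v)).1 ?_
    have he : ((fun ψ : A ⟶ q.jls.obj (q.jst.obj N) ⊞ q.fls.obj (q.fst.obj N) => ψ ≫ biprod.snd) ∘
        fun φ : A ⟶ Z => φ ≫ z) ∘ (fun φ : A ⟶ N => φ ≫ v) =
        fun φ : A ⟶ N => φ ≫ q.adjF.unit.app N := by
      funext φ
      simp only [Function.comp_apply, Category.assoc]
      rw [← Category.assoc v z, hv']
      exact congrArg (φ ≫ ·) (biprod.lift_snd _ _)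
    exact he ▸ unitF_comp_bijective hq hA N
  haveI := isIso_of q.jst v hj hbij
  refine ⟨w ≫ (inv v)⟦(1 : ℤ)⟧', isomorphic_distinguished _ hT _ ?_⟩
  refine Triangle.isoMk _ _ (@asIso _ _ _ _ v ‹_›) (Iso.refl _) (Iso.refl _) ?_ ?_ ?_
  · change aMor q N ≫ 𝟙 _ = v ≫ z
    rw [Category.comp_id, hv']
  · exact (Category.comp_id _).trans (Category.id_comp _).symm
  · change (w ≫ (shiftFunctor S (1 : ℤ)).map (inv v)) ≫ (shiftFunctor S (1 : ℤ)).map v = 𝟙 _ ≫ w
    rw [Category.id_comp, Category.assoc, ← Functor.map_comp, IsIso.inv_hom_id, CategoryTheory.Functor.map_id,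
      Category.comp_id]

lemma triangle_natural {N₁ N₂ : S} (φ : N₁ ⟶ N₂) (d₁ d₂)
    (h₁ : Triangle.mk (aMor q N₁) (bMor q N₁) d₁ ∈ distTriang S)
    (h₂ : Triangle.mk (aMor q N₂) (bMor q N₂) d₂ ∈ distTriang S) :
    d₁ ≫ (shiftFunctor S (1 : ℤ)).map φ =
      q.fls.map (q.fst.map (q.jls.map (q.jst.map φ))) ≫ d₂ := by
  haveI := q.adjF.right_adjoint_additive
  let Jφ := q.jls.map (q.jst.map φ)
  let Fφ := q.fls.map (q.fst.map φ)
  have hsq : aMor q N₁ ≫ biprod.map Jφ Fφ = φ ≫ aMor q N₂ := by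
    ext <;> simp [Jφ, Fφ]
  obtain ⟨c, hc₁, hc₂⟩ : ∃ c : q.fls.obj (q.fst.obj (q.jls.obj (q.jst.obj N₁))) ⟶
      q.fls.obj (q.fst.obj (q.jls.obj (q.jst.obj N₂))),
      bMor q N₁ ≫ c = biprod.map Jφ Fφ ≫ bMor q N₂ ∧
        d₁ ≫ (shiftFunctor S (1 : ℤ)).map φ = c ≫ d₂ :=
    complete_distinguished_triangle_morphism _ _ h₁ h₂ φ (biprod.map Jφ Fφ) hsq
  have hnat : bMor q N₁ ≫ q.fls.map (q.fst.map Jφ) = biprod.map Jφ Fφ ≫ bMor q N₂ := by
    ext
    · simp [Jφ]
    · simp [Jφ, Fφ, ← Functor.map_comp]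
  have hy : q.fls.map (q.fst.map (q.adjJ.unit.app N₁)) ≫
      (c - q.fls.map (q.fst.map Jφ)) = 0 := by
    have : bMor q N₁ ≫ (c - q.fls.map (q.fst.map Jφ)) = 0 := by
      rw [Preadditive.comp_sub, hc₁, hnat, sub_self]
    have h' := congrArg (fun r => biprod.inr ≫ r) this
    simp only [← Category.assoc, biprod.inr_desc, Preadditive.neg_comp, comp_zero,
      neg_eq_zero] at h'
    exact h'
  have hj : q.jst.map (c - q.fls.map (q.fst.map Jφ)) = 0 := by
    have := congrArg q.jst.map hy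
    rw [Functor.map_comp, Functor.map_zero] at this
    haveI := isIso_jst_Fmap hq _ (isIso_jst_unit hq N₁)
    rwa [← cancel_epi (q.jst.map (q.fls.map (q.fst.map (q.adjJ.unit.app N₁)))), comp_zero]
  have := eq_zero_of_jst_map_zero hq (localTo_FJ hq (q.jst.obj N₂)) _ hj
  rw [sub_eq_zero] at this
  rw [hc₂, this]

lemma existsUnique_triangle (N : S) :
    ∃! d, Triangle.mk (aMor q N) (bMor q N) d ∈ distTriang S := by
  obtain ⟨d, hd⟩ := exists_triangle hq N
  exact ⟨d, hd, fun d' hd' => by simpa using triangle_natural hq (𝟙 N) d' d hd' hd⟩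

lemma isIso_glueing (NU : R) (N' : S') (δ : q.jpst.obj N' ≅ q.gst.obj NU) (N : S)
    (a : N ⟶ q.jls.obj NU ⊞ q.fls.obj N')
    (d : q.fls.obj (q.jpls.obj (q.gst.obj NU)) ⟶ N⟦(1 : ℤ)⟧)
    (hT : Triangle.mk a
      (biprod.desc (q.adjF.unit.app (q.jls.obj NU) ≫ q.fls.map (q.bc2App NU))
        (-(q.fls.map (q.adjJp.unit.app N' ≫ q.jpls.map δ.hom)))) d ∈ distTriang S) :
    IsIso ((q.adjJ.homEquiv N NU).symm (a ≫ biprod.fst)) ∧
      IsIso ((q.adjF.homEquiv N N').symm (a ≫ biprod.snd)) := by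
  haveI := q.adjF.right_adjoint_additive
  haveI := hq.isIso_counitJp
  haveI := hq.isIso_counitJ
  have hy : IsIso (q.jst.map (biprod.inr ≫ (biprod.desc
      (q.adjF.unit.app (q.jls.obj NU) ≫ q.fls.map (q.bc2App NU))
      (-(q.fls.map (q.adjJp.unit.app N' ≫ q.jpls.map δ.hom)))))) := by
    rw [biprod.inr_desc, Functor.map_neg]
    have hjp : IsIso (q.jpst.map (q.adjJp.unit.app N' ≫ q.jpls.map δ.hom)) := by
      rw [Functor.map_comp]
      haveI : IsIso (q.jpst.map (q.adjJp.unit.app N')) :=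
        @isIso_of_comp_id _ _ _ _ _ _ _ _ _ (q.adjJp.left_triangle_components N') (IsIso.id _)
      infer_instance
    haveI := isIso_jst_fls hq _ hjp
    exact isIso_neg _
  haveI := isIso_map_fst q.jst a _ d hT hy
  haveI hα : IsIso ((q.adjJ.homEquiv N NU).symm (a ≫ biprod.fst)) := by
    rw [Adjunction.homEquiv_counit]
    infer_instance
  refine ⟨hα, ?_⟩
  generalize hβ : (q.adjF.homEquiv N N').symm (a ≫ biprod.snd) = β
  have hβ' : a ≫ biprod.snd = q.adjF.homEquiv _ _ β := by rw [← hβ, Equiv.apply_symm_apply]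
  have hjp : q.jpst.map β ≫ δ.hom =
      q.e.inv.app N ≫ q.gst.map ((q.adjJ.homEquiv N NU).symm (a ≫ biprod.fst)) := by
    have h0 : a ≫ (biprod.desc (q.adjF.unit.app (q.jls.obj NU) ≫ q.fls.map (q.bc2App NU))
        (-(q.fls.map (q.adjJp.unit.app N' ≫ q.jpls.map δ.hom)))) = 0 :=
      comp_distTriang_mor_zero₁₂ _ hT
    rw [biprod.desc_eq, Preadditive.comp_add, Preadditive.comp_neg, Preadditive.comp_neg,
      add_neg_eq_zero] at h0
    have h1 : q.fst.map (a ≫ biprod.fst) ≫ q.bc2App NU =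
        β ≫ q.adjJp.unit.app N' ≫ q.jpls.map δ.hom := by
      apply (q.adjF.homEquiv _ _).injective
      rw [Adjunction.homEquiv_naturality_right, Adjunction.homEquiv_naturality_right, ← hβ',
        Adjunction.homEquiv_unit]
      rw [← Category.assoc a, ← Category.assoc a] at h0
      rw [← h0, ← Adjunction.unit_naturality_assoc, Category.assoc]
    have h2 := congrArg (q.adjJp.homEquiv _ _).symm h1
    rw [bc2App_eq, ← Adjunction.homEquiv_naturality_left] at h2
    erw [Equiv.symm_apply_apply] at h2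
    rw [
      ← Adjunction.homEquiv_unit, Adjunction.homEquiv_naturality_left_symm,
      Equiv.symm_apply_apply, ← Functor.comp_map q.fst q.jpst, NatTrans.naturality_assoc,
      Functor.comp_map, ← Functor.map_comp] at h2
    rw [Adjunction.homEquiv_counit]
    exact h2.symm
  haveI hiso : IsIso (q.jpst.map β) := by
    haveI : IsIso (q.jpst.map β ≫ δ.hom) := by rw [hjp]; infer_instance
    exact IsIso.of_isIso_comp_right _ δ.hom
  refine isIso_of q.jpst β hiso (fun A hA => ?_)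
  haveI := hq.isIso_counitF A hA
  have hA₀ := isZero_fls_of_killed q hq.isIso_bcApp hA
  have h1 : Function.Bijective (fun φ : q.fls.obj A ⟶ N => φ ≫ a) :=
    comp_mor₁_bijective _ hT (localTo_fls_jpls hq _) hA₀
  have h2 : Function.Bijective
      (fun ψ : q.fls.obj A ⟶ q.jls.obj NU ⊞ q.fls.obj N' => ψ ≫ biprod.snd) := by
    refine ⟨fun a b hab => biprod.hom_ext _ _ ?_ hab, fun c => ⟨c ≫ biprod.inr, by simp⟩⟩
    rw [localTo_rightAdjoint q.adjJ _ hA₀ (a ≫ biprod.fst),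
      localTo_rightAdjoint q.adjJ _ hA₀ (b ≫ biprod.fst)]
  have h3 : Function.Bijective
      (fun ψ : q.fst.obj (q.fls.obj A) ⟶ q.fst.obj N => ψ ≫ β) := by
    rw [← Function.Bijective.of_comp_iff _ (fst_map_bijective hq hA₀ N)]
    convert (q.adjF.homEquiv _ _).symm.bijective.comp (h2.comp h1) using 1
    funext φ
    simp only [Function.comp_apply, Category.assoc, hβ',
      ← Adjunction.homEquiv_naturality_left, Equiv.symm_apply_apply]
  refine ⟨fun x y h => ?_, fun z => ?_⟩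
  · rw [← cancel_epi (q.adjF.counit.app A)]
    apply h3.1
    simp only [Category.assoc]
    exact congrArg _ h
  · obtain ⟨w, hw⟩ := h3.2 (q.adjF.counit.app A ≫ z)
    refine ⟨inv (q.adjF.counit.app A) ≫ w, ?_⟩
    simp only [Category.assoc] at hw ⊢
    rw [hw, IsIso.inv_hom_id_assoc]

lemma isCompactObject_of_pullbacks
    [HasCoproducts.{v} S] [HasCoproducts.{v} S'] [HasCoproducts.{v} R] [HasCoproducts.{v} R']
    (N : S) (hU : CohDer.IsCompactObject (q.jst.obj N)) (hX' : CohDer.IsCompactObject (q.fst.obj N))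
    (hU' : CohDer.IsCompactObject (q.gst.obj (q.jst.obj N))) :
    CohDer.IsCompactObject N := by
  classical
  haveI := q.adjJ.leftAdjoint_preservesColimits
  haveI := q.adjF.leftAdjoint_preservesColimits
  haveI := q.adjG.leftAdjoint_preservesColimits
  rw [TriCat.isCompactObject_iff]
  intro ι X f
  obtain ⟨s₁, a₁, ha₁⟩ := (HomFin.of_compact hU q.jst) ι X (q.jst.map f)
  obtain ⟨s₂, a₂, ha₂⟩ := (HomFin.of_compact hX' q.fst) ι X (q.fst.map f)
  let t := s₁ ∪ s₂
  let g := ∑ i ∈ t, f ≫ TriCat.coprodProj X i ≫ Sigma.ι X i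
  have key : ∀ {E : Type u} [Category.{v} E] [Preadditive E] (Φ : S ⥤ E) [Φ.Additive]
      (s : Finset ι) (a : ∀ i, Φ.obj N ⟶ Φ.obj (X i)),
      Φ.map f = ∑ i ∈ s, a i ≫ Φ.map (Sigma.ι X i) → s ⊆ t → Φ.map (f - g) = 0 := by
    intro E _ _ Φ _ s a ha hst
    rw [Φ.map_sub, sub_eq_zero, Φ.map_sum]
    have hp : ∀ i, Φ.map (f ≫ TriCat.coprodProj X i) = if i ∈ s then a i else 0 := by
      intro i
      rw [Φ.map_comp, ha, Preadditive.sum_comp]
      split_ifs with hi
      · rw [Finset.sum_eq_single i]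
        · rw [Category.assoc, ← Φ.map_comp, TriCat.ι_coprodProj_self, Φ.map_id, Category.comp_id]
        · intro j _ hj
          rw [Category.assoc, ← Φ.map_comp, TriCat.ι_coprodProj_ne hj, Φ.map_zero, comp_zero]
        · simp [hi]
      · refine Finset.sum_eq_zero fun j hj => ?_
        rw [Category.assoc, ← Φ.map_comp,
          TriCat.ι_coprodProj_ne (fun e : j = i => hi (e ▸ hj)), Φ.map_zero, comp_zero]
    rw [ha, ← Finset.sum_subset hst (f := fun i => Φ.map (f ≫ TriCat.coprodProj X i ≫ Sigma.ι X i))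
      (fun i _ hi => by
        rw [← Category.assoc, Φ.map_comp, hp, if_neg hi, zero_comp])]
    refine Finset.sum_congr rfl fun i hi => ?_
    rw [← Category.assoc, Φ.map_comp, hp, if_pos hi]
  have hg : TriCat.FinFactor g := ⟨t, fun i => f ≫ TriCat.coprodProj X i, by simp [g]⟩
  have hj : q.jst.map (f - g) = 0 := key q.jst s₁ a₁ ha₁ Finset.subset_union_left
  have hf : q.fst.map (f - g) = 0 := key q.fst s₂ a₂ ha₂ Finset.subset_union_right
  suffices TriCat.FinFactor (f - g) by simpa using this.add hg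
  obtain ⟨d, hd⟩ := exists_triangle hq (∐ X)
  haveI := q.adjJ.right_adjoint_additive
  haveI := q.adjF.right_adjoint_additive
  have h0 : (f - g) ≫ aMor q (∐ X) = 0 := by
    ext
    · rw [Category.assoc, biprod.lift_fst, zero_comp, ← Adjunction.unit_naturality, hj,
        Functor.map_zero, comp_zero]
    · rw [Category.assoc, biprod.lift_snd, zero_comp, ← Adjunction.unit_naturality, hf,
        Functor.map_zero, comp_zero]
  obtain ⟨k, hk⟩ := lift₁ hd ((f - g)⟦(1 : ℤ)⟧') (by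
    rw [← Functor.map_comp, h0, Functor.map_zero])
  haveI : ∀ J : Type v, PreservesColimitsOfShape (Discrete J) (q.jst ⋙ q.gst) :=
    fun J => inferInstance
  have hfin : HomFin (N⟦(1 : ℤ)⟧) (q.jst ⋙ q.jls ⋙ q.fst ⋙ q.fls) := by
    have e1 : q.gst.obj (q.jst.obj (N⟦(1 : ℤ)⟧)) ≅ q.jpst.obj (q.fst.obj (N⟦(1 : ℤ)⟧)) :=
      q.e.app _
    have e2 : (q.gst.obj (q.jst.obj N))⟦(1 : ℤ)⟧ ≅ q.gst.obj (q.jst.obj (N⟦(1 : ℤ)⟧)) :=
      ((q.gst.commShiftIso (1 : ℤ)).app _).symm ≪≫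
        q.gst.mapIso ((q.jst.commShiftIso (1 : ℤ)).app N).symm
    have h1 : HomFin (q.jpst.obj (q.fst.obj (N⟦(1 : ℤ)⟧))) (q.jst ⋙ q.gst) :=
      (HomFin.of_compact (TriCat.isCompactObject_shift hU' 1) _).of_iso (e2 ≪≫ e1)
    have h2 : HomFin (q.fst.obj (N⟦(1 : ℤ)⟧)) (q.jst ⋙ q.jls ⋙ q.fst) :=
      (h1.comp_rightAdjoint q.adjJp).of_natIso
        (Functor.associator _ _ _ ≪≫ Functor.isoWhiskerLeft q.jst (bc2Iso hq).symm)
    exact (h2.comp_rightAdjoint q.adjF).of_natIso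
      (Functor.associator _ _ _ ≪≫ Functor.isoWhiskerLeft q.jst (Functor.associator _ _ _))
  obtain ⟨s, a, ha⟩ := hfin ι X k
  choose dd hdd using fun i => exists_triangle hq (X i)
  choose p hp using fun i => (shiftFunctor S (1 : ℤ)).map_surjective (a i ≫ dd i)
  refine ⟨s, p, (shiftFunctor S (1 : ℤ)).map_injective ?_⟩
  rw [Functor.map_sum]
  refine hk.trans ?_
  have ha' : k = ∑ i ∈ s,
      a i ≫ q.fls.map (q.fst.map (q.jls.map (q.jst.map (Sigma.ι X i)))) := ha
  rw [ha', Preadditive.sum_comp]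
  refine Finset.sum_congr rfl fun i _ => ?_
  rw [Functor.map_comp, hp, Category.assoc, Category.assoc]
  congr 1
  exact (triangle_natural hq (Sigma.ι X i) (dd i) d (hdd i) hd).symm

end

lemma generates_kernel (hbc : ∀ M : S', IsIso (q.bcApp M))
    (fuc : S ⥤ S') (adjX : q.fls ⊣ fuc)
    (hX : ∀ N : S, IsZero (q.jst.obj N) → IsZero (q.jpst.obj (fuc.obj N)))
    (hcons : ∀ N : S, IsZero (fuc.obj N) → IsZero N)
    {ι : Type v} (B' : ι → S') (hB'ker : ∀ b, IsZero (q.jpst.obj (B' b)))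
    (hB'gen : ∀ M : S', IsZero (q.jpst.obj M) →
      (∀ (b : ι) (n : ℤ) (g : (B' b)⟦n⟧ ⟶ M), g = 0) → IsZero M) :
    (∀ b, IsZero (q.jst.obj (q.fls.obj (B' b)))) ∧
      ∀ N : S, IsZero (q.jst.obj N) →
        (∀ (b : ι) (n : ℤ) (g : (q.fls.obj (B' b))⟦n⟧ ⟶ N), g = 0) → IsZero N := by
  refine ⟨fun b => isZero_fls_of_killed q hbc (hB'ker b), fun N hN h => hcons N ?_⟩
  refine hB'gen _ (hX N hN) (fun b n g => ?_)
  letI := q.adjF.rightAdjointCommShift ℤ
  apply (adjX.homEquiv _ _).symm.injective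
  rw [← cancel_epi ((q.fls.commShiftIso n).inv.app (B' b))]
  exact (h b n _).trans (h b n _).symm

end MV

end Groth.Agent.H9Misc.MVSqLib
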