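import Mathlib.CategoryTheory.Shift.CommShift
import Mathlib.CategoryTheory.Preadditive.AdditiveFunctor

/-! Bijectivity of a functor on Hom sets: isomorphisms and shifts. -/

universe v v' u u'

open CategoryTheory

namespace Groth.Agent.H9Misc.MapBij

variable {C : Type u} [Category.{v} C] {D : Type u'} [Category.{v'} D] (F : C ⥤ D)

/-- `F` is bijective on `Hom(A, B)`. -/
def MB (A B : C) : Prop := Function.Bijective (F.map : (A ⟶ B) → _)

variable {F}

lemma MB.of_iso {A A' B B' : C} (h : MB F A B) (eA : A ≅ A') (eB : B ≅ B') : MB F A' B' := by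
  refine ⟨fun f g hfg => ?_, fun f => ?_⟩
  · have := h.1 (a₁ := eA.hom ≫ f ≫ eB.inv) (a₂ := eA.hom ≫ g ≫ eB.inv) (by
      rw [F.map_comp, F.map_comp, F.map_comp, F.map_comp, hfg])
    exact (cancel_mono eB.inv).1 ((cancel_epi eA.hom).1 this)
  · obtain ⟨x, hx⟩ := h.2 (F.map eA.hom ≫ f ≫ F.map eB.inv)
    refine ⟨eA.inv ≫ x ≫ eB.hom, ?_⟩
    rw [F.map_comp, F.map_comp, hx]
    simp only [← F.map_comp, Category.assoc, Iso.inv_hom_id, ← F.map_comp_assoc, F.map_id, Category.id_comp,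
      Category.comp_id]

variable [HasShift C ℤ] [HasShift D ℤ] [F.CommShift ℤ]

lemma MB.shift {A B : C} (h : MB F A B) (n : ℤ) : MB F (A⟦n⟧) (B⟦n⟧) := by
  refine ⟨fun f g hfg => ?_, fun f => ?_⟩
  · obtain ⟨f, rfl⟩ := (shiftFunctor C n).map_surjective f
    obtain ⟨g, rfl⟩ := (shiftFunctor C n).map_surjective g
    refine congrArg _ (h.1 ((shiftFunctor D n).map_injective ?_))
    have e1 := (F.commShiftIso n).hom.naturality f
    have e2 := (F.commShiftIso n).hom.naturality g
    dsimp at e1 e2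
    rw [hfg, e2] at e1
    exact (cancel_epi ((F.commShiftIso n).hom.app A)).1 e1.symm
  · obtain ⟨f₀, hf₀⟩ := (shiftFunctor D n).map_surjective
      ((F.commShiftIso n).inv.app A ≫ f ≫ (F.commShiftIso n).hom.app B)
    obtain ⟨x, hx⟩ := h.2 f₀
    refine ⟨x⟦n⟧', ?_⟩
    have e := (F.commShiftIso n).hom.naturality x
    dsimp at e
    rw [hx, hf₀, Iso.hom_inv_id_app_assoc] at e
    exact (cancel_mono ((F.commShiftIso n).hom.app B)).1 e

end Groth.Agent.H9Misc.MapBij
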