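import Mathlib

/-! Dimension of a quotient by two monomials. -/

universe u

open MvPolynomial

namespace Groth.Agent.H9Misc.MonomialQuot

variable {k : Type u} [Field k]

/-- The exponent of `x^i y^j`. -/
noncomputable def expo (i j : ℕ) : Fin 2 →₀ ℕ := Finsupp.single 0 i + Finsupp.single 1 j

theorem finrank_quot (a b : ℕ) :
    Module.finrank k (MvPolynomial (Fin 2) k ⧸ Ideal.span ({X 0 ^ a, X 1 ^ b} : Set (MvPolynomial (Fin 2) k))) =
      a * b := by
  let I := Ideal.span ({X 0 ^ a, X 1 ^ b} : Set (MvPolynomial (Fin 2) k))
  let φ : MvPolynomial (Fin 2) k →ₗ[k] (Fin a × Fin b → k) :=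
    LinearMap.pi fun p => lcoeff k (expo p.1 p.2)
  have h0 : ∀ i j : ℕ, expo i j 0 = i := fun i j => by simp [expo]
  have h1 : ∀ i j : ℕ, expo i j 1 = j := fun i j => by simp [expo]
  have hsurj : Function.Surjective φ := fun c => ⟨∑ p, monomial (expo p.1 p.2) (c p), funext fun q => by
    simp only [φ, LinearMap.pi_apply, lcoeff_apply, coeff_sum, coeff_monomial]
    rw [Finset.sum_eq_single q, if_pos rfl]
    · intro p _ hp
      refine if_neg fun h => hp ?_
      ext
      · simpa [h0] using DFunLike.congr_fun h 0
      · simpa [h1] using DFunLike.congr_fun h 1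
    · simp⟩
  have hI : I = Ideal.span ((fun e => monomial e (1 : k)) '' {Finsupp.single 0 a, Finsupp.single 1 b}) := by
    simp [I, Set.image_insert_eq, X_pow_eq_monomial]
  have hker : LinearMap.ker φ = I.restrictScalars k := by
    ext f
    rw [LinearMap.mem_ker, Submodule.restrictScalars_mem, hI, mem_ideal_span_monomial_image]
    simp only [Set.mem_insert_iff, Set.mem_singleton_iff, exists_eq_or_imp, exists_eq_left,
      Finsupp.single_le_iff, mem_support_iff]
    constructor
    · intro h m hm
      by_contra hc
      push_neg at hc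
      have := congrFun h (⟨m 0, hc.1⟩, ⟨m 1, hc.2⟩)
      refine hm ?_
      have hme : expo (m 0) (m 1) = m := by
        ext i
        fin_cases i <;> simp [h0, h1]
      simpa [φ, hme] using this
    · intro h
      funext p
      by_contra hc
      rcases h (expo p.1 p.2) hc with h' | h'
      · rw [h0] at h'; omega
      · rw [h1] at h'; omega
  change Module.finrank k (MvPolynomial (Fin 2) k ⧸ I.restrictScalars k) = _
  rw [((Submodule.quotEquivOfEq _ _ hker).symm.trans (φ.quotKerEquivOfSurjective hsurj)).finrank_eq,
    Module.finrank_pi, Fintype.card_prod, Fintype.card_fin, Fintype.card_fin]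

end Groth.Agent.H9Misc.MonomialQuot
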