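import Groth.Prelude.Def_OneMot
import Groth.Agent.MultSchFac.Local
import Groth.Agent.GrpSchLib.ExtSmooth
import Groth.Agent.GrpSchLib.SemiabExt
import Groth.Agent.SolvGrp.TorusPts
import Groth.Agent.S7982

/-! A semi-abelian scheme presented by a short exact sequence of sheaves is a semi-abelian variety. -/

set_option autoImplicit false
set_option linter.style.haveILetI false
set_option backward.isDefEq.respectTransparency false
set_option backward.isDefEq.respectTransparency.types false
set_option maxHeartbeats 1000000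

universe u

open CategoryTheory CategoryTheory.Limits MonoidalCategory CartesianMonoidalCategory MonObj AlgebraicGeometry Opposite

namespace Groth.Agent.H9Misc.SemiAbBridge

section Base

variable {S : Scheme.{u}} {T G A : Over S} [GrpObj T] [IsCommMonObj T] [GrpObj G] [IsCommMonObj G]
  [GrpObj A] [IsCommMonObj A] {inc : T ⟶ G} {prj : G ⟶ A} [IsMonHom inc] [IsMonHom prj] {w : inc ≫ prj = 1}

theorem inj_of_shortExact (hex : (CGrpSh.seq Scheme.fppfPrecoverage inc prj w).ShortExact) {W : Over S}
    {a b : W ⟶ T} (h : a ≫ inc = b ≫ inc) : a = b := by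
  haveI : Mono (CGrpSh.ptsMap Scheme.fppfPrecoverage inc) := hex.mono_f
  have := SiteBase.sheaf_app_injective (CGrpSh.ptsMap Scheme.fppfPrecoverage inc) W
    (a₁ := ULift.up (Additive.ofMul a)) (a₂ := ULift.up (Additive.ofMul b))
    (ULift.ext _ _ (congrArg Additive.ofMul h))
  exact congrArg (fun z => Additive.toMul (ULift.down z)) this

theorem exists_lift (hex : (CGrpSh.seq Scheme.fppfPrecoverage inc prj w).ShortExact) {W : Over S}
    (x : W ⟶ G) (hx : x ≫ prj = 1) : ∃ z : W ⟶ T, z ≫ inc = x := by
  obtain ⟨R, hR, hl⟩ := MultSchFac.lift_of_exact inc prj w hex.exact x hx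
  choose z hz using hl
  let fam : Presieve.FamilyOfElements (yoneda.obj T) R.arrows := fun V f hf => z f hf
  have hfam : fam.Compatible := by
    intro V₁ V₂ V g₁ g₂ f₁ f₂ h₁ h₂ e
    refine inj_of_shortExact hex ?_
    show (g₁ ≫ z f₁ h₁) ≫ inc = (g₂ ≫ z f₂ h₂) ≫ inc
    rw [Category.assoc, Category.assoc, hz, hz, ← Category.assoc, e, Category.assoc]
  obtain ⟨t, ht, -⟩ := (GrothendieckTopology.Subcanonical.isSheaf_of_isRepresentable
    (J := QuotSh.J Scheme.fppfPrecoverage S) (yoneda.obj T)) R hR fam hfam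
  refine ⟨t, MultSchFac.hom_ext_cover _ hR fun V f hf => ?_⟩
  rw [← Category.assoc, show f ≫ t = z f hf from ht f hf, hz]

theorem isExactSeq (hex : (CGrpSh.seq Scheme.fppfPrecoverage inc prj w).ShortExact) :
    NonAbH1.IsExactSeq Scheme.fppfPrecoverage inc prj := by
  have h3 : (G ◁ inc) ≫ μ[G] = fst G T * (snd G T ≫ inc) := by
    rw [Hom.mul_def]
    congr 1
  refine ⟨inferInstance, inferInstance, w, ?_, ?_⟩
  · have key : ∀ s : PullbackCone prj prj, ∃ z : s.pt ⟶ T, z ≫ inc = s.fst⁻¹ * s.snd := fun s =>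
      exists_lift hex _ (by rw [MonObj.mul_comp, GrpObj.inv_comp, s.condition, inv_mul_cancel])
    choose z hz using key
    refine IsPullback.mk ⟨?_⟩ ⟨PullbackCone.IsLimit.mk _ (fun s => lift s.fst (z s))
      (fun s => lift_fst _ _) (fun s => ?_) (fun s m h₁ h₂ => ?_)⟩
    · rw [h3, MonObj.mul_comp, Category.assoc, w, MonObj.comp_one, _root_.mul_one]
    · rw [h3, MonObj.comp_mul, lift_fst, ← Category.assoc, lift_snd, hz, mul_inv_cancel_left]
    · refine CartesianMonoidalCategory.hom_ext _ _ (by rw [h₁, lift_fst]) ?_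
      rw [lift_snd]
      refine inj_of_shortExact hex ?_
      rw [h3, MonObj.comp_mul, h₁] at h₂
      rw [hz, Category.assoc, eq_inv_mul_iff_mul_eq, h₂]
  · obtain ⟨R, hR, hl⟩ := MultSchFac.locSurj_of_epi (K := Scheme.fppfPrecoverage) prj hex.epi_g A (𝟙 A)
    rw [GrothendieckTopology.mem_over_iff] at hR
    obtain ⟨P, hP, hPR⟩ := Precoverage.mem_toGrothendieck_iff_of_isStableUnderComposition.1 hR
    refine ⟨P, hP, fun S' f hf => ?_⟩
    obtain ⟨x, hx⟩ := hl _ ((Sieve.overEquiv_iff R f).1 (hPR _ _ hf))
    refine ⟨x.left, ?_⟩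
    have := congrArg CommaMorphism.left hx
    simpa using this

end Base

section Field

variable {k : Type u} [Field k] [IsAlgClosed k]
variable {T G A : Over (Spec (CommRingCat.of k))} [GrpObj T] [IsCommMonObj T] [GrpObj G] [IsCommMonObj G]
  [GrpObj A] [IsCommMonObj A] {inc : T ⟶ G} {prj : G ⟶ A} [IsMonHom inc] [IsMonHom prj] {w : inc ≫ prj = 1}

/-- Descent to the quotient of a property of the group. -/
theorem property_proj {S : Scheme.{u}} {Z E Q : Over S} [GrpObj Z] [GrpObj E] [GrpObj Q] {u : Z ⟶ E} {v : E ⟶ Q}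
    (hex : NonAbH1.IsExactSeq Scheme.fppfPrecoverage u v) (P : MorphismProperty Scheme.{u})
    [P.IsStableUnderBaseChange] [IsZariskiLocalAtTarget P]
    [P.DescendsAlong (@Surjective ⊓ @Flat ⊓ @QuasiCompact : MorphismProperty Scheme.{u})] (hZ : P Z.hom) : P v.left := by
  refine IsZariskiLocalAtTarget.of_openCover Q.left.affineCover fun i => ?_
  let c := Q.left.affineCover.f i
  obtain ⟨R, hR, hsec⟩ := hex.2.2.2.2
  obtain ⟨W, p, hp₁, hp₂, hp₃, s, hs⟩ := SchTorsor.exists_single (X := (Over.mk v.left : Over Q.left))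
    ⟨R, Scheme.fppfPrecoverage_le_fpqcPrecoverage _ hR, hsec⟩ c
  have hs' : s ≫ v.left = p ≫ c := hs
  have h1 : IsPullback (fst E Z).left ((E ◁ u) ≫ μ[E]).left v.left v.left := hex.2.2.2.1.map (Over.forget S)
  have h2 : IsPullback (pullback.fst (fst E Z).left s ≫ ((E ◁ u) ≫ μ[E]).left)
      (pullback.snd (fst E Z).left s) v.left (s ≫ v.left) :=
    (IsPullback.of_hasPullback (fst E Z).left s).paste_horiz h1.flip
  have hfst : P (fst E Z).left := MorphismProperty.pullback_fst E.hom Z.hom hZ
  have h4 : P (pullback.snd (fst E Z).left s) := MorphismProperty.pullback_snd _ _ hfst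
  rw [hs'] at h2
  have h5 : P (pullback.snd v.left (p ≫ c)) := by
    rw [← h2.isoPullback_inv_snd]
    exact (MorphismProperty.cancel_left_of_respectsIso P h2.isoPullback.inv _).mpr h4
  show P (pullback.snd v.left c)
  refine MorphismProperty.of_pullback_snd_of_descendsAlong (Q := @Surjective ⊓ @Flat ⊓ @QuasiCompact)
    (g := p) ⟨⟨hp₁, hp₂⟩, hp₃⟩ ?_
  rw [← pullbackLeftPullbackSndIso_hom_snd v.left c p]
  exact (MorphismProperty.cancel_left_of_respectsIso P _ _).mpr h5

/-- The scheme-level semi-abelian presentation. -/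
theorem semiab (h : OneMot.IsSemiAbWith T G A inc prj) :
    Smooth G.hom ∧ QuasiCompact G.hom ∧ ConnectedSpace G.left ∧ IsClosedImmersion inc.left ∧ Surjective prj.left ∧
      AlgGrp.IsKernel inc prj ∧ GrpSchLib.SemiabExt.IsSemiab G := by
  have hex := isExactSeq h.shortExact
  have hk : AlgGrp.IsKernel inc prj := GrpSchLib.ExtSmooth.isKernel hex
  haveI hAp : IsProper A.hom := h.abelian.proper
  haveI hAs : Smooth A.hom := h.abelian.smooth
  haveI hAc : ConnectedSpace A.left := by
    haveI := h.abelian.connectedFibres (IsLocalRing.closedPoint k)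
    have hr : Set.range (A.hom.fiberι (IsLocalRing.closedPoint k)) = Set.univ := by
      rw [Scheme.Hom.range_fiberι]
      exact Set.eq_univ_of_forall fun x => @Subsingleton.elim (Spec (CommRingCat.of k)) inferInstance _ _
    rw [connectedSpace_iff_univ, ← hr]
    exact isConnected_range (A.hom.fiberι _).continuous
  obtain ⟨hTa, hTs, hTc, -⟩ := SolvGrp.torus_props h.torus
  haveI := hTa; haveI := hTs; haveI := hTc
  haveI : Smooth prj.left := property_proj hex @Smooth hTs
  haveI : Surjective T.hom := ⟨fun x => ⟨η[T].left x, by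
    show (η[T].left ≫ T.hom) x = x
    rw [Over.w η[T]]; rfl⟩⟩
  haveI : Surjective prj.left := property_proj hex @Surjective inferInstance
  haveI : IsAffineHom prj.left := by
    haveI := EtFound.fpqc_isAffineHom.{u}
    exact property_proj hex @IsAffineHom (inferInstance : IsAffineHom T.hom)
  haveI : IsClosedImmersion inc.left := by
    haveI := GrpSchLib.AntiAffine.isSeparated_grp A
    haveI : IsClosedImmersion η[A].left := by
      haveI : IsClosedImmersion (η[A].left ≫ A.hom) := by
        rw [Over.w η[A]]; exact inferInstanceAs (IsClosedImmersion (𝟙 _))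
      exact IsClosedImmersion.of_comp η[A].left A.hom
    exact MorphismProperty.of_isPullback (P := @IsClosedImmersion) (hk.map (Over.forget _)).flip ‹IsClosedImmersion η[A].left›
  haveI : LocallyOfFiniteType G.hom := by rw [← Over.w prj]; infer_instance
  haveI : QuasiCompact G.hom := by rw [← Over.w prj]; infer_instance
  haveI : QuasiCompact T.hom := by rw [← Over.w inc]; infer_instance
  haveI : LocallyOfFiniteType T.hom := inferInstance
  obtain ⟨-, hsm, hcn⟩ := S7982.result k T G A inc prj hk
  exact ⟨hsm hTs hAs, inferInstance, hcn hTc hAc, inferInstance, inferInstance, hk, T, inferInstance, inc, A,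
    inferInstance, prj, inferInstance, inferInstance, h.torus, inferInstance, inferInstance, inferInstance, hk, hAp, hAs,
    hAc⟩

end Field

end Groth.Agent.H9Misc.SemiAbBridge
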