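import Groth.Prelude.Def_OneMot
import Groth.Agent.H9Misc.SemiAbBridge
import Groth.Agent.AGF20Lib.TorsDense
import Groth.Agent.DSPtsLib.Basic
import Groth.Agent.GrpSchLib.Cartier
import Groth.Agent.GrpSchLib.KernelGrp
import Groth.Agent.GrpSchLib.ImageFactor

/-! Rational points of lattices and semi-abelian varieties over an algebraically closed field. -/

set_option autoImplicit false
set_option linter.style.haveILetI false
set_option backward.isDefEq.respectTransparency false
set_option backward.isDefEq.respectTransparency.types false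
set_option maxHeartbeats 1000000

universe u

open CategoryTheory CategoryTheory.Limits MonoidalCategory CartesianMonoidalCategory MonObj AlgebraicGeometry Opposite

namespace Groth.Agent.H9Misc.MotivePts

open GrpSchLib SolvGrp AGFLib.Gen

variable {k : Type u} [Field k] [IsAlgClosed k]

local notation "PT" => 𝟙_ (Over (Spec (CommRingCat.of k)))

/-- The rational points of a lattice. -/
theorem lattice_pts {L : Over (Spec (CommRingCat.of k))} [GrpObj L] (hL : OneMot.IsLattice L) :
    Etale L.hom ∧ ∃ r : ℕ, Nonempty (Multiplicative (Fin r → ℤ) ≃* (PT ⟶ L)) := by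
  obtain ⟨S', f, hf, ⟨z, -⟩, r, e, he⟩ := hL (IsLocalRing.closedPoint k)
  haveI := hf
  let M := Multiplicative (Fin r → ℤ)
  let Z : Over (Spec (CommRingCat.of k)) := Over.mk f
  haveI : LocallyOfFiniteType Z.hom := (inferInstance : LocallyOfFiniteType f)
  haveI : JacobsonSpace Z.left := LocallyOfFiniteType.jacobsonSpace Z.hom
  obtain ⟨x₀, -, hx₀⟩ := nonempty_inter_closedPoints (Z := (Set.univ : Set Z.left)) ⟨z, trivial⟩
    isOpen_univ.isLocallyClosed
  obtain ⟨σ, -⟩ := exists_cp (Z := Z) hx₀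
  let s : Spec (CommRingCat.of k) ⟶ S' := σ.left
  have hs : s ≫ f = 𝟙 _ := Over.w σ
  let W : Over S' := 𝟙_ (Over S')
  let τ : PT ⟶ (Over.map f).obj W := Over.homMk s (by
    show s ≫ 𝟙 S' ≫ f = 𝟙 _
    rw [Category.id_comp, hs])
  let φ : M → (PT ⟶ L) := fun m => τ ≫ DSPtsLib.theta f (TwC.pt S' M m ≫ e.inv)
  have hφl : ∀ m, (φ m).left = s ≫ Sigma.ι (fun _ : M => S') m ≫ e.inv.left ≫ pullback.fst L.hom f := fun m => by
    show τ.left ≫ (DSPtsLib.theta f _).left = _
    rw [DSPtsLib.theta_left, Over.comp_left, Category.assoc]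
    rfl
  have hhom : ∀ m n, φ (m * n) = φ m * φ n := fun m n => by
    show τ ≫ DSPtsLib.theta f _ = _
    rw [← he m n, DSPtsLib.theta_mul, MonObj.comp_mul]
  let E : (TwC.const S' M).left ⟶ pullback L.hom f := e.inv.left
  have hE : E ≫ pullback.snd L.hom f = Sigma.desc fun _ : M => 𝟙 S' := Over.w e.inv
  haveI : IsIso E := (Over.forget S').map_isIso e.inv
  have hEt : Etale (Sigma.desc fun _ : M => 𝟙 S') := IsZariskiLocalAtSource.sigmaDesc fun _ => inferInstance
  have het : Etale (pullback.snd L.hom f) := by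
    rw [← MorphismProperty.cancel_left_of_respectsIso (P := @Etale) E, hE]
    exact hEt
  refine ⟨?_, r, ⟨MulEquiv.ofBijective (MonoidHom.mk' φ hhom) ⟨fun m n hmn => ?_, fun x => ?_⟩⟩⟩
  · have h1 : Etale (pullback.snd (pullback.snd L.hom f) s) := MorphismProperty.pullback_snd _ _ het
    have h2 : Etale (pullback.snd L.hom (s ≫ f)) := by
      rw [← pullbackLeftPullbackSndIso_hom_snd L.hom f s,
        MorphismProperty.cancel_left_of_respectsIso (P := @Etale)] at h1
      exact h1
    rw [hs] at h2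
    have h4 : pullback.snd L.hom (𝟙 _) = pullback.fst L.hom (𝟙 _) ≫ L.hom := by
      rw [pullback.condition, Category.comp_id]
    rw [h4, MorphismProperty.cancel_left_of_respectsIso (P := @Etale)] at h2
    exact h2
  · have h : (φ m).left = (φ n).left := congrArg CommaMorphism.left hmn
    rw [hφl, hφl] at h
    have h2 : s ≫ Sigma.ι (fun _ : M => S') m ≫ E = s ≫ Sigma.ι (fun _ : M => S') n ≫ E := by
      refine pullback.hom_ext (by simpa [E] using h) ?_
      simp [hE]
    rw [← Category.assoc, ← Category.assoc, cancel_mono] at h2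
    by_contra hne
    have hd := congrArg (fun q => q (IsLocalRing.closedPoint k)) h2
    have hdis := Set.disjoint_left.1 (TopologicalSpace.Opens.coe_disjoint.2
      (disjoint_opensRange_sigmaι (fun _ : M => S') m n hne))
    exact hdis (show (s ≫ Sigma.ι (fun _ : M => S') m) (IsLocalRing.closedPoint k) ∈ _ from
      ⟨s (IsLocalRing.closedPoint k), rfl⟩) ⟨s (IsLocalRing.closedPoint k), hd.symm⟩
  · let y : Spec (CommRingCat.of k) ⟶ pullback L.hom f := pullback.lift x.left s ((Over.w x).trans hs.symm)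
    let z' := y ≫ inv E
    obtain ⟨m, hm⟩ : ∃ m, z' (IsLocalRing.closedPoint k) ∈ (Sigma.ι (fun _ : M => S') m).opensRange := by
      obtain ⟨m, w, hw⟩ := (sigmaOpenCover (fun _ : M => S')).exists_eq (z' (IsLocalRing.closedPoint k))
      exact ⟨m, w, hw⟩
    have hr : Set.range z' ⊆ Set.range (Sigma.ι (fun _ : M => S') m) := by
      rintro _ ⟨p, rfl⟩
      rw [show p = IsLocalRing.closedPoint k from @Subsingleton.elim (Spec (CommRingCat.of k)) inferInstance _ _]
      exact hm
    let v := IsOpenImmersion.lift (Sigma.ι (fun _ : M => S') m) z' hr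
    have hv : v ≫ Sigma.ι (fun _ : M => S') m = z' := IsOpenImmersion.lift_fac _ _ _
    have hy : v ≫ Sigma.ι (fun _ : M => S') m ≫ E = y := by
      rw [reassoc_of% hv]
      simp [z']
    have hvs : v = s := by
      have := congrArg (· ≫ pullback.snd L.hom f) hy
      simpa [Category.assoc, hE, y] using this
    refine ⟨m, Over.OverMorphism.ext ?_⟩
    show (φ m).left = _
    rw [hφl, ← hvs]
    have := congrArg (· ≫ pullback.fst L.hom f) hy
    simpa [Category.assoc, y, E] using this

/-- A point of a lattice which is a power of every order is trivial. -/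
theorem eq_one_of_forall_pow {L : Over (Spec (CommRingCat.of k))} [GrpObj L] (hL : OneMot.IsLattice L) (x : PT ⟶ L)
    (h : ∀ m : ℕ, 1 ≤ m → ∃ y : PT ⟶ L, x = y ^ m) : x = 1 := by
  obtain ⟨-, r, ⟨φ⟩⟩ := lattice_pts hL
  obtain ⟨a, rfl⟩ := φ.surjective x
  suffices a = 1 by rw [this, map_one]
  refine Multiplicative.toAdd.injective (funext fun i => ?_)
  show a.toAdd i = 0
  obtain ⟨y, hy⟩ := h ((a.toAdd i).natAbs + 1) (by omega)
  obtain ⟨b, rfl⟩ := φ.surjective y
  rw [← map_pow, φ.injective.eq_iff] at hy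
  have hd : (((a.toAdd i).natAbs + 1 : ℕ) : ℤ) ∣ a.toAdd i := ⟨b.toAdd i, by
    conv_lhs => rw [hy]
    simp⟩
  exact Int.eq_zero_of_dvd_of_natAbs_lt_natAbs hd (by omega)

theorem eq_one_of_pow {L : Over (Spec (CommRingCat.of k))} [GrpObj L] (hL : OneMot.IsLattice L) (x : PT ⟶ L) {m : ℕ}
    (hm : 1 ≤ m) (h : x ^ m = 1) : x = 1 := by
  obtain ⟨-, r, ⟨φ⟩⟩ := lattice_pts hL
  obtain ⟨a, rfl⟩ := φ.surjective x
  rw [← map_pow, ← map_one φ, φ.injective.eq_iff] at h
  suffices a = 1 by rw [this, map_one]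
  refine Multiplicative.toAdd.injective (funext fun i => ?_)
  have hi : (m : ℤ) * a.toAdd i = 0 := by
    have := congrArg (fun q : Multiplicative (Fin r → ℤ) => q.toAdd i) h
    simpa using this
  show a.toAdd i = 0
  exact (mul_eq_zero.1 hi).resolve_left (by omega)

/-- A subgroup of the points of a lattice which is full modulo every order is everything. -/
theorem eq_top_of_forall_mod {L : Over (Spec (CommRingCat.of k))} [GrpObj L] [IsCommMonObj L] (hL : OneMot.IsLattice L)
    (H : Subgroup (PT ⟶ L)) (h : ∀ m : ℕ, 1 ≤ m → ∀ y : PT ⟶ L, ∃ a ∈ H, ∃ b : PT ⟶ L, y = a * b ^ m) : H = ⊤ := by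
  obtain ⟨-, r, ⟨φ⟩⟩ := lattice_pts hL
  let V := Fin r → ℤ
  let K : AddSubgroup V :=
    { carrier := {v | φ (Multiplicative.ofAdd v) ∈ H}
      zero_mem' := by show φ 1 ∈ H; rw [map_one]; exact one_mem H
      add_mem' := fun {a b} ha hb => by show φ (Multiplicative.ofAdd a * Multiplicative.ofAdd b) ∈ H; rw [map_mul]; exact mul_mem ha hb
      neg_mem' := fun {a} ha => by show φ (Multiplicative.ofAdd a)⁻¹ ∈ H; rw [map_inv]; exact inv_mem ha }
  let P := AddSubgroup.toIntSubmodule K
  have hV : ∀ m : ℕ, 1 ≤ m → ∀ v : V, ∃ a ∈ K, ∃ b : V, v = a + (m : ℤ) • b := fun m hm v => by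
    obtain ⟨a, ha, b, hb⟩ := h m hm (φ (Multiplicative.ofAdd v))
    refine ⟨(φ.symm a).toAdd, by show φ (φ.symm a) ∈ H; rwa [φ.apply_symm_apply], (φ.symm b).toAdd, ?_⟩
    have := congrArg (fun q => (φ.symm q).toAdd) hb
    simpa using this
  suffices ∀ v : V, v ∈ K by
    refine Subgroup.ext fun x => ⟨fun _ => trivial, fun _ => ?_⟩
    have : φ (φ.symm x) ∈ H := this (φ.symm x).toAdd
    rwa [φ.apply_symm_apply] at this
  have hQ : ∀ m : ℕ, 1 ≤ m → ∀ q : V ⧸ P, ∃ q', q = (m : ℤ) • q' := fun m hm q => by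
    obtain ⟨v, rfl⟩ := Submodule.Quotient.mk_surjective P q
    obtain ⟨a, ha, b, hb⟩ := hV m hm v
    refine ⟨Submodule.Quotient.mk b, ?_⟩
    rw [← Submodule.Quotient.mk_smul, Submodule.Quotient.eq]
    show v - (m : ℤ) • b ∈ P
    rw [hb, add_sub_cancel_right]
    exact ha
  obtain ⟨c, hc, hc0⟩ := Submodule.exists_sub_one_mem_and_smul_eq_zero_of_fg_of_le_smul (Ideal.span {(2 : ℤ)})
    (⊤ : Submodule ℤ (V ⧸ P)) Module.Finite.fg_top (fun q _ => by
      obtain ⟨q', rfl⟩ := hQ 2 (by norm_num) q
      exact Submodule.smul_mem_smul (Ideal.mem_span_singleton_self _) trivial)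
  have hcne : c ≠ 0 := fun h0 => by
    rw [h0, Ideal.mem_span_singleton] at hc
    omega
  intro v
  obtain ⟨q', hq'⟩ := hQ c.natAbs (by omega) (Submodule.Quotient.mk v)
  refine (Submodule.Quotient.mk_eq_zero P).1 ?_
  rw [hq']
  rcases Int.natAbs_eq c with hh | hh
  · rw [← hh]; exact hc0 q' trivial
  · rw [show (c.natAbs : ℤ) = -c by omega, neg_smul, hc0 q' trivial, neg_zero]

variable [CharZero k]

/-- A flat homomorphism which is bijective on rational points is an isomorphism. -/
theorem isIso_of_bijective {G H : Over (Spec (CommRingCat.of k))} [GrpObj G] [IsCommMonObj G] [GrpObj H]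
    [LocallyOfFiniteType G.hom] [LocallyOfFiniteType H.hom] (f : G ⟶ H) [IsMonHom f] [Flat f.left]
    (hb : Function.Bijective (fun x : PT ⟶ G => x ≫ f)) : IsIso f := by
  haveI := AntiAffine.isSeparated_grp H
  haveI := AntiAffine.isSeparated_grp G
  obtain ⟨N, _, κ, hκm, hκc, -, hκ⟩ := GrpSchLib.exists_kernel f
  haveI := hκm; haveI := hκc
  haveI : Mono κ := AGFLib.BorelExist.mono_of_closedImmersion κ
  haveI : LocallyOfFiniteType N.hom := by rw [← Over.w κ]; infer_instance
  haveI : Smooth N.hom := GrpSchLib.smooth_of_charZero N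
  haveI : IsReduced N.left := isReduced_of_smooth_field N.hom
  have hN : IsIso N.hom := isTrivialGrp_of_pts fun t => by
    rw [← cancel_mono κ, MonObj.one_comp]
    refine hb.1 ?_
    show (t ≫ κ) ≫ f = 1 ≫ f
    rw [MonObj.one_comp, Category.assoc, hκ.w, ← Category.assoc, comp_toUnit, Hom.one_def]
  haveI : Mono f := ⟨fun {Y} a b hab => by
    have h1 : (a * b⁻¹) ≫ f = toUnit Y ≫ η[H] := by
      rw [MonObj.mul_comp, GrpObj.inv_comp, hab, mul_inv_cancel, Hom.one_def]
    have h2 := hκ.lift_fst (a * b⁻¹) (toUnit Y) h1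
    have h3 : hκ.lift (a * b⁻¹) (toUnit Y) h1 = 1 := Over.OverMorphism.ext (by
      rw [← cancel_mono N.hom, Over.w, Over.w])
    rw [h3, MonObj.one_comp] at h2
    exact mul_inv_eq_one.1 h2.symm⟩
  haveI : Mono f.left := inferInstanceAs (Mono ((Over.forget _).map f))
  haveI : LocallyOfFinitePresentation f.left := by
    haveI := LocallyOfFiniteType.isLocallyNoetherian H.hom
    haveI : LocallyOfFiniteType (f.left ≫ H.hom) := by rw [Over.w]; infer_instance
    haveI := locallyOfFiniteType_of_comp f.left H.hom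
    infer_instance
  haveI : IsOpenImmersion f.left := IsOpenImmersion.of_flat_of_mono _
  haveI : IsIso f.left := by
    refine isIso_of_isOpenImmersion_of_opensRange_eq_top _ (TopologicalSpace.Opens.ext ?_)
    by_contra hne
    haveI : JacobsonSpace H.left := LocallyOfFiniteType.jacobsonSpace H.hom
    obtain ⟨y, hy, hyc⟩ := nonempty_inter_closedPoints (Z := (Set.range f.left)ᶜ)
      (Set.nonempty_compl.2 hne) f.left.opensRange.2.isClosed_compl.isLocallyClosed
    obtain ⟨g, rfl⟩ := exists_cp hyc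
    obtain ⟨x, hx⟩ := hb.2 g
    exact hy ⟨cp x, by rw [← hx]; rfl⟩
  haveI : IsIso ((Over.forget _).map f) := ‹IsIso f.left›
  exact isIso_of_reflects_iso f (Over.forget _)

/-- A homomorphism of algebraic groups surjective on rational points is flat. -/
theorem flat_of_surjective {G H : Over (Spec (CommRingCat.of k))} [GrpObj G] [GrpObj H]
    [LocallyOfFiniteType G.hom] [QuasiCompact G.hom] [LocallyOfFiniteType H.hom] [QuasiCompact H.hom]
    (f : G ⟶ H) [IsMonHom f] (hs : ∀ y : PT ⟶ H, cp y ∈ Set.range f.left) : Flat f.left := by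
  obtain ⟨I, _, p, i, hp, hi, hpi, hic, hpf, hps, hIl, hIq⟩ := ImageFactor.exists_image f
  haveI := hic; haveI := hpf
  haveI : Smooth H.hom := GrpSchLib.smooth_of_charZero H
  haveI : IsReduced H.left := isReduced_of_smooth_field H.hom
  haveI : Surjective i.left := ⟨fun y => by
    have hu : Set.range i.left = Set.univ :=
      eq_univ_of_forall_cp i.left.isClosedEmbedding.isClosed_range fun g => by
        obtain ⟨w, hw⟩ := hs g
        refine ⟨p.left w, ?_⟩
        rw [← hw, ← hpi]
        rfl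
    exact hu.ge trivial⟩
  haveI : IsIso i.left := isIso_of_isClosedImmersion_of_surjective i.left
  rw [← hpi, Over.comp_left]
  infer_instance

end Groth.Agent.H9Misc.MotivePts
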