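import Groth.Agent.H9Misc.MotivePts

/-! The torsion realisations of a morphism of one-motives determine it. -/

set_option autoImplicit false
set_option linter.style.haveILetI false
set_option backward.isDefEq.respectTransparency false
set_option backward.isDefEq.respectTransparency.types false
set_option maxHeartbeats 1000000

universe u

open CategoryTheory CategoryTheory.Limits MonoidalCategory CartesianMonoidalCategory MonObj AlgebraicGeometry Opposite
open OneMot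

namespace Groth.Agent.H9Misc.MotiveTz

open GrpSchLib SolvGrp AGFLib.Gen MotivePts

section Classes

variable {S : Scheme.{u}} (M : Motive S) (m : ℕ) (T : Over S)

theorem adm {x : T ⟶ M.L} {g : T ⟶ M.G} (h : x ≫ M.u = (g ^ m)⁻¹) :
    ((Additive.ofMul x, Additive.ofMul g) : Additive (T ⟶ M.L) × Additive (T ⟶ M.G)) ∈ tzPairs M m T := by
  show Additive.ofMul (x ≫ M.u) = -(m • Additive.ofMul g)
  rw [h, ofMul_inv, ofMul_pow]

/-- The class of a pair. -/
noncomputable def cls (x : T ⟶ M.L) (g : T ⟶ M.G) (h : x ≫ M.u = (g ^ m)⁻¹) : tzPairs M m T ⧸ tzRel M m T :=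
  QuotientAddGroup.mk ⟨_, adm M m T h⟩

theorem cls_eq_iff {x x' : T ⟶ M.L} {g g' : T ⟶ M.G} (h : x ≫ M.u = (g ^ m)⁻¹) (h' : x' ≫ M.u = (g' ^ m)⁻¹) :
    cls M m T x g h = cls M m T x' g' h' ↔ ∃ y : T ⟶ M.L, x / x' = y ^ m ∧ g / g' = (y ≫ M.u)⁻¹ := by
  show QuotientAddGroup.mk _ = QuotientAddGroup.mk _ ↔ _
  rw [QuotientAddGroup.eq_iff_sub_mem, tzRel, AddSubgroup.mem_comap, AddMonoidHom.mem_range]
  constructor
  · rintro ⟨y, hy⟩
    exact ⟨y.toMul, (congrArg (fun p => Additive.toMul (Prod.fst p)) hy).symm,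
      (congrArg (fun p => Additive.toMul (Prod.snd p)) hy).symm⟩
  · rintro ⟨y, h1, h2⟩
    refine ⟨Additive.ofMul y, Prod.ext ?_ ?_⟩
    · show m • Additive.ofMul y = Additive.ofMul x - Additive.ofMul x'
      rw [← ofMul_pow, ← ofMul_div, h1]
    · show -Additive.ofMul (y ≫ M.u) = Additive.ofMul g - Additive.ofMul g'
      rw [← ofMul_inv, ← ofMul_div, h2]

theorem exists_cls (q : tzPairs M m T ⧸ tzRel M m T) : ∃ x g h, q = cls M m T x g h := by
  obtain ⟨⟨⟨x, g⟩, hp⟩, rfl⟩ := QuotientAddGroup.mk_surjective q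
  change Additive.ofMul (x.toMul ≫ M.u) = -(m • g) at hp
  exact ⟨x.toMul, g.toMul, congrArg Additive.toMul hp, rfl⟩

variable {M} in
theorem tzMap_cls {N : Motive S} (f : Motive.Hom M N) {x : T ⟶ M.L} {g : T ⟶ M.G} (h : x ≫ M.u = (g ^ m)⁻¹) :
    tzMap m T f (cls M m T x g h) = cls N m T (x ≫ f.fL) (g ≫ f.fG) (by
      rw [Category.assoc, ← f.comm, ← Category.assoc, h, GrpObj.inv_comp, TorusQI.npow_comp]) :=
  rfl

end Classes

variable {k : Type u} [Field k] [IsAlgClosed k] [CharZero k]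

local notation "PT" => 𝟙_ (Over (Spec (CommRingCat.of k)))

variable {M N : Motive (Spec (CommRingCat.of k))}

/-- A homomorphism killing the torsion of a semi-abelian variety is trivial. -/
theorem eq_one_of_torsion (d : M.G ⟶ N.G) [IsMonHom d] (h : ∀ (m : ℕ) (g : PT ⟶ M.G), 1 ≤ m → g ^ m = 1 → g ≫ d = 1) :
    d = 1 := by
  obtain ⟨hGs, hGq, hGc, -, -, -, hG⟩ := SemiAbBridge.semiab M.semiAb
  obtain ⟨hNs, hNq, -⟩ := SemiAbBridge.semiab N.semiAb
  haveI := hGs; haveI := hGq; haveI := hGc; haveI := hNs; haveI := hNq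
  haveI := AntiAffine.isSeparated_grp N.G
  haveI : IsReduced M.G.left := isReduced_of_smooth_field M.G.hom
  obtain ⟨K, _, κ, hκm, hκc, -, hκ⟩ := GrpSchLib.exists_kernel d
  haveI := hκm; haveI := hκc
  haveI : LocallyOfFiniteType K.hom := by rw [← Over.w κ]; infer_instance
  haveI := AntiAffine.isSeparated_grp M.G
  have hu : Set.range κ.left = Set.univ := AGF20Lib.TorsDense.eq_univ_of_torsion hG Nat.prime_two (by norm_num)
    κ.left.isClosedEmbedding.isClosed_range fun x j hx => by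
      have h1 : x ≫ d = toUnit _ ≫ η[N.G] := (h _ x Nat.one_le_two_pow hx).trans Hom.one_def
      rw [← hκ.lift_fst x (toUnit _) h1, cp_comp]
      exact Set.mem_range_self _
  refine AGFLib.BorelFixed.hom_ext_pts fun t => ?_
  obtain ⟨w, hw⟩ := exists_of_mem_range κ t (hu.symm ▸ Set.mem_univ _)
  rw [← hw, Category.assoc, hκ.w, ← Category.assoc, comp_toUnit, Category.assoc, MonObj.comp_one, MonObj.comp_one,
    Hom.one_def]

/-- Faithfulness of the torsion realisations. -/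
theorem hom_eq (f g : Motive.Hom M N) (h : ∀ m : ℕ, 1 ≤ m → tzMap m PT f = tzMap m PT g) : f = g := by
  obtain ⟨hGs, hGq, hGc, -, -, -, hG⟩ := SemiAbBridge.semiab M.semiAb
  haveI := hGs; haveI := hGq; haveI := hGc
  have key : ∀ (m : ℕ) (_ : 1 ≤ m) (x : PT ⟶ M.L) (a : PT ⟶ M.G) (_ : x ≫ M.u = (a ^ m)⁻¹),
      ∃ y : PT ⟶ N.L, (x ≫ f.fL) / (x ≫ g.fL) = y ^ m ∧ (a ≫ f.fG) / (a ≫ g.fG) = (y ≫ N.u)⁻¹ := fun m hm x a hxa => by
    have := DFunLike.congr_fun (h m hm) (cls M m PT x a hxa)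
    rw [tzMap_cls, tzMap_cls, cls_eq_iff] at this
    exact this
  have hGeq : f.fG = g.fG := by
    haveI : IsMonHom g.fG⁻¹ := TorusQI.isMonHom_of_pts _ fun Z a b => by
      simp only [GrpObj.comp_inv, MonObj.mul_comp, mul_inv]
    haveI : IsMonHom (f.fG * g.fG⁻¹) := TorusQI.isMonHom_of_pts _ fun Z a b => by
      simp only [MonObj.comp_mul, GrpObj.comp_inv, MonObj.mul_comp, mul_inv]
      exact _root_.mul_mul_mul_comm _ _ _ _
    refine mul_inv_eq_one.1 (eq_one_of_torsion (f.fG * g.fG⁻¹) fun m a hm ha => ?_)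
    obtain ⟨y, h1, h2⟩ := key m hm 1 a (by rw [MonObj.one_comp, ha, inv_one])
    have hy : y = 1 := eq_one_of_pow N.lattice y hm (by rw [← h1]; simp)
    rw [hy, MonObj.one_comp, inv_one, div_eq_mul_inv] at h2
    rw [MonObj.comp_mul, GrpObj.comp_inv, h2]
  refine Motive.Hom.ext' ?_ hGeq
  obtain ⟨hLe, -⟩ := lattice_pts M.lattice
  obtain ⟨hNe, -⟩ := lattice_pts N.lattice
  haveI := hLe; haveI := hNe
  haveI := AntiAffine.isSeparated_grp N.L
  haveI : IsReduced M.L.left := isReduced_of_smooth_field M.L.hom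
  refine AGFLib.BorelFixed.hom_ext_pts fun x => div_eq_one.1 (eq_one_of_forall_pow N.lattice _ fun m hm => ?_)
  obtain ⟨a, ha⟩ := AGF20Lib.SemiabExp.exists_pt_root hG hm (x ≫ M.u)⁻¹
  obtain ⟨y, h1, -⟩ := key m hm x a (by rw [ha, inv_inv])
  exact ⟨y, h1⟩

/-- A morphism bijective on all torsion realisations is an isomorphism. -/
theorem hom_isIso (f : Motive.Hom M N) (h : ∀ m : ℕ, 1 ≤ m → Function.Bijective (tzMap m PT f)) : f.IsIso := by
  obtain ⟨hGs, hGq, hGc, -, -, -, hG⟩ := SemiAbBridge.semiab M.semiAb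
  obtain ⟨hNs, hNq, hNc, -, -, -, hNG⟩ := SemiAbBridge.semiab N.semiAb
  haveI := hGs; haveI := hGq; haveI := hGc; haveI := hNs; haveI := hNq; haveI := hNc
  haveI := AntiAffine.isSeparated_grp M.G
  haveI := AntiAffine.isSeparated_grp N.G
  have hinj : ∀ m : ℕ, 1 ≤ m → ∀ g : PT ⟶ M.G, g ^ m = 1 → g ≫ f.fG = 1 → g = 1 := fun m hm g hg hf => by
    have hx : (1 : PT ⟶ M.L) ≫ M.u = (g ^ m)⁻¹ := by rw [MonObj.one_comp, hg, inv_one]
    have hx1 : (1 : PT ⟶ M.L) ≫ M.u = ((1 : PT ⟶ M.G) ^ m)⁻¹ := by rw [MonObj.one_comp, one_pow, inv_one]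
    have he : cls M m PT 1 g hx = cls M m PT 1 1 hx1 := (h m hm).1 (by
      rw [tzMap_cls, tzMap_cls, cls_eq_iff]
      exact ⟨1, by simp, by simp [hf, MonObj.one_comp]⟩)
    obtain ⟨y, h1, h2⟩ := (cls_eq_iff M m PT hx hx1).1 he
    rw [eq_one_of_pow M.lattice y hm (by rw [← h1]; simp), MonObj.one_comp, inv_one, div_one] at h2
    exact h2
  -- injectivity on points
  have hGinj : ∀ g : PT ⟶ M.G, g ≫ f.fG = 1 → g = 1 := by
    obtain ⟨K, _, κ, hκm, hκc, -, hκ⟩ := GrpSchLib.exists_kernel f.fG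
    haveI := hκm; haveI := hκc
    haveI : Mono κ := AGFLib.BorelExist.mono_of_closedImmersion κ
    haveI : LocallyOfFiniteType K.hom := by rw [← Over.w κ]; infer_instance
    haveI : QuasiCompact K.hom := by rw [← Over.w κ]; infer_instance
    haveI : IsCommMonObj K := SemiabIsog.isCommMonObj_of_mono κ
    have hK1 : ∀ b : PT ⟶ K, (b ≫ κ) ≫ f.fG = 1 := fun b => by
      rw [Category.assoc, hκ.w, ← Category.assoc, comp_toUnit, Hom.one_def]
    have htor : ∀ m : ℕ, 1 ≤ m → ∀ b : PT ⟶ K, b ^ m = 1 → b = 1 := fun m hm b hb => by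
      rw [← cancel_mono κ, MonObj.one_comp]
      exact hinj m hm _ (by rw [← TorusQI.npow_comp, hb, MonObj.one_comp]) (hK1 b)
    haveI : IsFinite K.hom := AGF20Lib.SemiabTors.isFinite_of_torsionFree hG κ Nat.prime_two fun Y x hx =>
      AGF20Lib.TorsDense.trivial_of_pts (by norm_num) (fun b hb => htor 2 (by norm_num) b hb) x hx
    haveI : Finite (PT ⟶ K) := IsogTorus.finite_pts K
    intro g hg
    have h1 : g ≫ f.fG = toUnit _ ≫ η[N.G] := hg.trans Hom.one_def
    rw [← hκ.lift_fst g (toUnit _) h1, htor _ (Nat.card_pos (α := PT ⟶ K)) (hκ.lift g (toUnit _) h1) pow_card_eq_one',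
      MonObj.one_comp]
  have hLinj : ∀ x : PT ⟶ M.L, x ≫ f.fL = 1 → x = 1 := fun x hx => by
    have hxu : x ≫ M.u = 1 := hGinj _ (by
      rw [Category.assoc, f.comm, ← Category.assoc, hx, MonObj.one_comp])
    refine eq_one_of_forall_pow M.lattice x fun m hm => ?_
    have ha : x ≫ M.u = ((1 : PT ⟶ M.G) ^ m)⁻¹ := by rw [hxu, one_pow, inv_one]
    have ha1 : (1 : PT ⟶ M.L) ≫ M.u = ((1 : PT ⟶ M.G) ^ m)⁻¹ := by rw [MonObj.one_comp, one_pow, inv_one]
    obtain ⟨y, h1, -⟩ := (cls_eq_iff M m PT ha ha1).1 ((h m hm).1 (by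
      rw [tzMap_cls, tzMap_cls, cls_eq_iff]
      exact ⟨1, by simp [hx, MonObj.one_comp], by simp [MonObj.one_comp]⟩))
    exact ⟨y, by simpa using h1⟩
  let φ : (PT ⟶ M.L) →* (PT ⟶ N.L) := MonoidHom.mk' (fun x => x ≫ f.fL) fun a b => MonObj.mul_comp a b f.fL
  have hLsurj : ∀ y : PT ⟶ N.L, ∃ x : PT ⟶ M.L, x ≫ f.fL = y := by
    have htop : φ.range = ⊤ := eq_top_of_forall_mod N.lattice φ.range fun m hm y => by
      obtain ⟨g', hg'⟩ := AGF20Lib.SemiabExp.exists_pt_root hNG hm (y ≫ N.u)⁻¹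
      have hy : y ≫ N.u = (g' ^ m)⁻¹ := by rw [hg', inv_inv]
      obtain ⟨q, hq⟩ := (h m hm).2 (cls N m PT y g' hy)
      obtain ⟨x, g, hxg, rfl⟩ := exists_cls M m PT q
      rw [tzMap_cls, cls_eq_iff] at hq
      obtain ⟨z, h1, -⟩ := hq
      refine ⟨x ≫ f.fL, ⟨x, rfl⟩, z⁻¹, ?_⟩
      rw [inv_pow, ← h1, inv_div, mul_div_cancel]
    exact fun y => MonoidHom.mem_range.1 (htop.symm ▸ Subgroup.mem_top y)
  have hGtor : ∀ m : ℕ, 1 ≤ m → ∀ g' : PT ⟶ N.G, g' ^ m = 1 → ∃ g : PT ⟶ M.G, g ≫ f.fG = g' := fun m hm g' hg' => by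
    have hy : (1 : PT ⟶ N.L) ≫ N.u = (g' ^ m)⁻¹ := by rw [MonObj.one_comp, hg', inv_one]
    obtain ⟨q, hq⟩ := (h m hm).2 (cls N m PT 1 g' hy)
    obtain ⟨x, g, hxg, rfl⟩ := exists_cls M m PT q
    rw [tzMap_cls, cls_eq_iff] at hq
    obtain ⟨y, h1, h2⟩ := hq
    obtain ⟨z, rfl⟩ := hLsurj y
    refine ⟨g * (z ≫ M.u), ?_⟩
    rw [div_eq_iff_eq_mul] at h2
    rw [MonObj.mul_comp, Category.assoc z M.u f.fG, f.comm, ← Category.assoc, h2]
    simp [mul_comm]
  obtain ⟨hLe, -⟩ := lattice_pts M.lattice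
  obtain ⟨hNe, -⟩ := lattice_pts N.lattice
  haveI := hLe; haveI := hNe
  constructor
  · haveI : Etale f.fL.left := by
      haveI : Etale (f.fL.left ≫ N.L.hom) := by rw [Over.w]; exact hLe
      exact Etale.of_comp f.fL.left N.L.hom
    exact isIso_of_bijective f.fL ⟨fun a b hab => div_eq_one.1 (hLinj _ (by
      show φ (a / b) = 1
      rw [map_div, div_eq_one]
      exact hab)), hLsurj⟩
  · obtain ⟨I, _, p, i, hp, hi, hpi, hic, hpf, hps, hIl, hIq⟩ := ImageFactor.exists_image f.fG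
    haveI := hic; haveI := hps
    have hrange : ∀ g' : PT ⟶ N.G, cp g' ∈ Set.range f.fG.left := by
      have he : Set.range f.fG.left = Set.range i.left := by
        rw [← hpi, Over.comp_left]
        show Set.range (i.left ∘ p.left) = _
        exact p.left.surjective.range_comp _
      have hu : Set.range i.left = Set.univ := AGF20Lib.TorsDense.eq_univ_of_torsion hNG Nat.prime_two (by norm_num)
        i.left.isClosedEmbedding.isClosed_range fun x j hx => by
          obtain ⟨g, rfl⟩ := hGtor _ Nat.one_le_two_pow x hx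
          rw [← he, cp_comp]
          exact Set.mem_range_self _
      exact fun g' => (he.trans hu).symm ▸ Set.mem_univ _
    haveI : Flat f.fG.left := flat_of_surjective f.fG hrange
    let ψ : (PT ⟶ M.G) →* (PT ⟶ N.G) := MonoidHom.mk' (fun x => x ≫ f.fG) fun a b => MonObj.mul_comp a b f.fG
    refine isIso_of_bijective f.fG ⟨fun a b hab => div_eq_one.1 (hGinj _ (by
      show ψ (a / b) = 1
      rw [map_div, div_eq_one]
      exact hab)), fun g' => exists_of_mem_range f.fG g' (hrange g')⟩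

end Groth.Agent.H9Misc.MotiveTz
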