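import Groth.Agent.H9Misc.BoundedDev

/-!
# Comparison isomorphisms of two exact functors along shifts
-/

set_option linter.style.haveILetI false
set_option maxHeartbeats 800000

universe v v' u u'

open CategoryTheory CategoryTheory.Category CategoryTheory.Limits CategoryTheory.Pretriangulated
open scoped ZeroObject

namespace Groth.Agent.H9Misc.SibIso

variable {C : Type u} [Category.{v} C] [HasShift C ℤ] {D : Type u'} [Category.{v'} D] [HasShift D ℤ]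
  {F F' : C ⥤ D} [F.CommShift ℤ] [F'.CommShift ℤ]

/-- Shift of a comparison isomorphism. -/
noncomputable def sh {K : C} (Φ : F.obj K ≅ F'.obj K) (n : ℤ) : F.obj (K⟦n⟧) ≅ F'.obj (K⟦n⟧) :=
  (F.commShiftIso n).app K ≪≫ (shiftFunctor D n).mapIso Φ ≪≫ ((F'.commShiftIso n).app K).symm

/-- A morphism compatible with comparison isomorphisms. -/
def Compat {K L : C} (Φ : F.obj K ≅ F'.obj K) (Ψ : F.obj L ≅ F'.obj L) (f : K ⟶ L) : Prop :=
  F.map f ≫ Ψ.hom = Φ.hom ≫ F'.map f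

omit [HasShift C ℤ] [HasShift D ℤ] [F.CommShift ℤ] [F'.CommShift ℤ] in
lemma Compat.comp {K L M : C} {Φ : F.obj K ≅ F'.obj K} {Ψ : F.obj L ≅ F'.obj L} {Θ : F.obj M ≅ F'.obj M}
    {f : K ⟶ L} {g : L ⟶ M} (hf : Compat Φ Ψ f) (hg : Compat Ψ Θ g) : Compat Φ Θ (f ≫ g) := by
  unfold Compat at *
  rw [F.map_comp, F'.map_comp, assoc, hg, ← assoc, hf, assoc]

omit [HasShift C ℤ] [HasShift D ℤ] [F.CommShift ℤ] [F'.CommShift ℤ] in
lemma compat_conj {K L : C} (Ψ : F.obj L ≅ F'.obj L) (i : K ≅ L) :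
    Compat (F.mapIso i ≪≫ Ψ ≪≫ F'.mapIso i.symm) Ψ i.hom ∧ Compat Ψ (F.mapIso i ≪≫ Ψ ≪≫ F'.mapIso i.symm) i.inv := by
  simp [Compat, ← Functor.map_comp, ← Functor.map_comp_assoc]

lemma Compat.shift {K L : C} {Φ : F.obj K ≅ F'.obj K} {Ψ : F.obj L ≅ F'.obj L} {f : K ⟶ L} (hf : Compat Φ Ψ f)
    (n : ℤ) : Compat (sh Φ n) (sh Ψ n) (f⟦n⟧') := by
  have h1 : F.map (f⟦n⟧') ≫ (F.commShiftIso n).hom.app L = (F.commShiftIso n).hom.app K ≫ (F.map f)⟦n⟧' :=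
    (F.commShiftIso n).hom.naturality f
  have h2 : (F.map f)⟦n⟧' ≫ Ψ.hom⟦n⟧' = Φ.hom⟦n⟧' ≫ (F'.map f)⟦n⟧' := by
    rw [← Functor.map_comp, ← Functor.map_comp, hf]
  have h3 : (F'.map f)⟦n⟧' ≫ (F'.commShiftIso n).inv.app L = (F'.commShiftIso n).inv.app K ≫ F'.map (f⟦n⟧') :=
    (F'.commShiftIso n).inv.naturality f
  simp only [Compat, sh, Iso.trans_hom, Iso.app_hom, Functor.mapIso_hom, Iso.symm_hom, Iso.app_inv, assoc]
  rw [← assoc, h1, assoc]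
  refine congrArg (_ ≫ ·) ?_
  rw [← h3, ← assoc, h2, assoc]

lemma compat_add {K : C} (Φ : F.obj K ≅ F'.obj K) (a b c : ℤ) (h : a + b = c) :
    Compat (sh Φ c) (sh (sh Φ a) b) ((shiftFunctorAdd' C a b c h).hom.app K) := by
  simp only [Compat, sh, Iso.trans_hom, Iso.app_hom, Functor.mapIso_hom, Iso.symm_hom, Iso.app_inv, assoc,
    F.commShiftIso_add' h, F'.commShiftIso_add' h, Functor.CommShift.isoAdd'_hom_app,
    Functor.CommShift.isoAdd'_inv_app, Functor.map_comp]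
  have hnat : (shiftFunctorAdd' D a b c h).inv.app (F.obj K) ≫ Φ.hom⟦c⟧' =
      Φ.hom⟦a⟧'⟦b⟧' ≫ (shiftFunctorAdd' D a b c h).inv.app (F'.obj K) :=
    ((shiftFunctorAdd' D a b c h).inv.naturality Φ.hom).symm
  rw [reassoc_of% hnat]
  simp [← Functor.map_comp]

end Groth.Agent.H9Misc.SibIso
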