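import Groth.Agent.H9Misc.BoundedDev
import Groth.Agent.H9Misc.SibIso
import Groth.Agent.S6707

/-!
# Siblings are isomorphic in the presence of enough negative objects
-/

set_option linter.style.haveILetI false
set_option maxHeartbeats 1000000

universe w v v' u u'

open CategoryTheory CategoryTheory.Category CategoryTheory.Limits CategoryTheory.Pretriangulated
open Groth.Agent.H9Misc.BoundedDev
open scoped ZeroObject

namespace Groth.Agent.H9Misc.NegIso

variable {A : Type u} [Category.{v} A] [Abelian A] [HasDerivedCategory.{w} A]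

local notation "𝒟ᵇ" => DerivedCategory.Bounded A

/-- Objects in an interval. -/
def InI (a b : ℤ) (X : DerivedCategory.Bounded A) : Prop := X.obj.IsGE a ∧ X.obj.IsLE b

lemma InI.mono {a b a' b' : ℤ} {X : 𝒟ᵇ} (h : InI a b X) (ha : a' ≤ a) (hb : b ≤ b') : InI a' b' X :=
  ⟨haveI := h.1; DerivedCategory.TStructure.t.isGE_of_ge X.obj a' a ha,
    haveI := h.2; DerivedCategory.TStructure.t.isLE_of_le X.obj b b' hb⟩

lemma inI_S (b : ℤ) (M : A) : InI b b (S b M) := ⟨isGE_single b M, isLE_single b M⟩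

lemma InI.hom_zero {a b a' b' : ℤ} {X Y : 𝒟ᵇ} (hX : InI a b X) (hY : InI a' b' Y) (h : b < a') (f : X ⟶ Y) : f = 0 := by
  apply (DerivedCategory.Bounded.ι (C := A)).map_injective
  rw [Functor.map_zero]
  exact DerivedCategory.TStructure.t.zero_of_isLE_of_isGE _ b a' h hX.2 hY.1

/-- An object lies in a window of width `n`. -/
def InN (n : ℕ) (X : DerivedCategory.Bounded A) : Prop := ∃ b, InI (b - n) b X

lemma InI.inN {a b : ℤ} {n : ℕ} {X : 𝒟ᵇ} (h : InI a b X) (hn : b - n ≤ a) : InN n X := ⟨b, h.mono hn le_rfl⟩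

lemma InN.le {n m : ℕ} {X : 𝒟ᵇ} (h : InN n X) (hnm : n ≤ m) : InN m X := by
  obtain ⟨b, hb⟩ := h
  exact hb.inN (by omega)

lemma inN_S (n : ℕ) (b : ℤ) (M : A) : InN n (S b M) := (inI_S b M).inN (by omega)

/-- The functor placing an object in degree `b`. -/
noncomputable abbrev SF (b : ℤ) : A ⥤ DerivedCategory.Bounded A :=
  DEquiv.singleB A ⋙ shiftFunctor (DerivedCategory.Bounded A) (-b)

instance additive_singleB : (DEquiv.singleB A).Additive := by
  unfold DEquiv.singleB; infer_instance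

/-- A map to a single object in the top degree is determined on top homology. -/
lemma hom_top_eq_zero {b : ℤ} {W : 𝒟ᵇ} (hW : W.obj.IsLE b) (N : A)
    (h : ∀ φ : (DerivedCategory.homologyFunctor A b).obj W.obj ⟶ N, φ = 0) (f : W ⟶ S b N) : f = 0 := by
  let H := DerivedCategory.homologyFunctor A b
  apply (DerivedCategory.Bounded.ι (C := A)).map_injective
  rw [Functor.map_zero]
  let g : W.obj ⟶ (DerivedCategory.singleFunctor A b).obj N := f.hom ≫ (Siso b N).hom
  suffices hg : g = 0 from (cancel_mono (Siso b N).hom).1 (hg.trans zero_comp.symm)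
  obtain ⟨X₁, X₂, h1, h2, i, π, δ, hT⟩ := DerivedCategory.TStructure.t.exists_triangle W.obj (b - 1) b (by omega)
  haveI : X₁.IsLE (b - 1) := ⟨h1⟩
  haveI : X₂.IsGE b := ⟨h2⟩
  haveI := hW
  have hX₂ : X₂.IsLE b := by
    rw [DerivedCategory.isLE_iff]
    intro k hk
    exact (DerivedCategory.HomologySequence.exact₃ _ hT k (k + 1) rfl).isZero_of_both_zeros
      ((W.obj.isZero_of_isLE b k hk).eq_of_src _ _) ((X₁.isZero_of_isLE (b - 1) (k + 1) (by omega)).eq_of_tgt _ _)
  obtain ⟨M, ⟨e⟩⟩ := X₂.exists_iso_singleFunctor_obj_of_isGE_of_isLE b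
  obtain ⟨k, hk⟩ : ∃ k, g = π ≫ k := Triangle.yoneda_exact₂ _ hT g
    (DerivedCategory.TStructure.t.zero_of_isLE_of_isGE _ (b - 1) b (by omega) ‹_› inferInstance)
  haveI : Epi (H.map π) := (DerivedCategory.HomologySequence.exact₃ _ hT b (b + 1) rfl).epi_f
    ((X₁.isZero_of_isLE (b - 1) (b + 1) (by omega)).eq_of_tgt _ _)
  obtain ⟨u, hu⟩ := (DerivedCategory.singleFunctor A b).map_surjective (e.inv ≫ k)
  have hu0 : u = 0 := by
    let η := (Functor.isoWhiskerRight (DerivedCategory.singleFunctorIsoCompQ A b) H) ≪≫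
      (Functor.associator _ _ _) ≪≫ Functor.isoWhiskerLeft _ (DerivedCategory.homologyFunctorFactors A b) ≪≫
      HomologicalComplex.homologyFunctorSingleIso A (ComplexShape.up ℤ) b
    have h0 : H.map g = 0 := by
      rw [← cancel_mono (η.app N).hom, zero_comp]
      exact h _
    rw [hk, Functor.map_comp, ← comp_zero (f := H.map π), cancel_epi] at h0
    have h1 : H.map ((DerivedCategory.singleFunctor A b).map u) = 0 := by
      rw [hu, Functor.map_comp, h0, comp_zero]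
    have h2 : H.map ((DerivedCategory.singleFunctor A b).map u) ≫ η.hom.app N = η.hom.app M ≫ u := η.hom.naturality u
    rw [h1, zero_comp] at h2
    exact (cancel_epi (η.hom.app M)).1 (h2.symm.trans comp_zero.symm)
  rw [hu0, Functor.map_zero] at hu
  rw [hk, show k = 0 from (cancel_epi e.inv).1 (hu.symm.trans comp_zero.symm), comp_zero]

/-- A presentation of `X` by a single object in degree `b`. -/
structure Pres (b : ℤ) (X : DerivedCategory.Bounded A) where
  /-- The object of `A`. -/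
  N : A
  /-- The remainder. -/
  Y : DerivedCategory.Bounded A
  /-- The map. -/
  g : S b N ⟶ X
  /-- The projection. -/
  p : X ⟶ Y
  /-- The connecting map. -/
  r : Y ⟶ (S b N)⟦(1 : ℤ)⟧
  dist : Triangle.mk g p r ∈ distTriang (DerivedCategory.Bounded A)
  epi : Epi ((DerivedCategory.homologyFunctor A b).map g.hom)
  vanish : ∀ f : X ⟶ S b N, f = 0

lemma Pres.inI {a b : ℤ} {X : 𝒟ᵇ} (P : Pres b X) (hX : InI a b X) : InI (min a (b - 1)) (b - 1) P.Y := by
  haveI := hX.1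
  haveI := hX.2
  haveI := isGE_single b P.N
  haveI := isLE_single b P.N
  have hT := (DerivedCategory.Bounded.ι (C := A)).map_distinguished _ P.dist
  refine ⟨?_, ?_⟩
  · rw [DerivedCategory.isGE_iff]
    intro i hi
    exact (DerivedCategory.HomologySequence.exact₃ _ hT i (i + 1) rfl).isZero_of_both_zeros
      ((X.obj.isZero_of_isGE a i (by omega)).eq_of_src _ _)
      (((S b P.N).obj.isZero_of_isGE b (i + 1) (by omega)).eq_of_tgt _ _)
  · rw [DerivedCategory.isLE_iff]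
    intro i hi
    refine (DerivedCategory.HomologySequence.exact₃ _ hT i (i + 1) rfl).isZero_of_both_zeros ?_
      (((S b P.N).obj.isZero_of_isLE b (i + 1) (by omega)).eq_of_tgt _ _)
    rcases (show b < i ∨ b = i by omega) with h | rfl
    · exact (X.obj.isZero_of_isLE b i h).eq_of_src _ _
    · haveI := P.epi
      refine (cancel_epi ((DerivedCategory.homologyFunctor A b).map P.g.hom)).1 (Eq.trans ?_ comp_zero.symm)
      exact (Functor.map_comp _ _ _).symm.trans
        ((congrArg _ (comp_distTriang_mor_zero₁₂ _ hT)).trans (Functor.map_zero _ _ _))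

variable (hneg : ∀ X : A, ∃ (N : A) (p : N ⟶ X), Epi p ∧ ∀ f : X ⟶ N, f = 0)

include hneg in
/-- Presentations adapted to an auxiliary object and to a map. -/
lemma exists_pres {a b : ℤ} {X W X' : 𝒟ᵇ} (hX : InI a b X) (hW : W.obj.IsLE b) (f : X ⟶ X') {a' : ℤ}
    (hX' : InI a' (b - 1) X') :
    ∃ P : Pres b X, P.g ≫ f = 0 ∧ ∀ k : W ⟶ S b P.N, k = 0 := by
  obtain ⟨Z, i₁, i₂, p₁, p₂, h1, h2, hZ⟩ : ∃ (Z : 𝒟ᵇ) (i₁ : X ⟶ Z) (i₂ : W ⟶ Z) (p₁ : Z ⟶ X) (p₂ : Z ⟶ W),
      i₁ ≫ p₁ = 𝟙 X ∧ i₂ ≫ p₂ = 𝟙 W ∧ ∃ a₀, InI a₀ b Z := by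
    refine ⟨X ⊞ W, biprod.inl, biprod.inr, biprod.fst, biprod.snd, biprod.inl_fst, biprod.inr_snd, ?_⟩
    have hT := (DerivedCategory.Bounded.ι (C := A)).map_distinguished _ (binaryBiproductTriangle_distinguished X W)
    obtain ⟨a₁, -, ha₁, -⟩ := exists_interval (X ⊞ W)
    refine ⟨a₁, ha₁, ?_⟩
    rw [DerivedCategory.isLE_iff]
    intro i hi
    haveI := hX.2
    haveI := hW
    exact (DerivedCategory.HomologySequence.exact₂ _ hT i).isZero_of_both_zeros
      ((X.obj.isZero_of_isLE b i hi).eq_of_src _ _) ((W.obj.isZero_of_isLE b i hi).eq_of_tgt _ _)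
  obtain ⟨a₀, hZ⟩ := hZ
  haveI := hZ.1
  haveI := hZ.2
  haveI := hX'.1
  haveI : X'.obj.IsLE (b - 1) := hX'.2
  obtain ⟨N, g₀, hg₀, hv, hgf⟩ := Groth.Agent.S6707.result hneg Z.obj X'.obj (p₁.hom ≫ f.hom) a₀ b a'
  let g : S b N ⟶ X := ObjectProperty.homMk ((Siso b N).hom ≫ g₀ ≫ p₁.hom)
  obtain ⟨Y, p, r, hT⟩ := Pretriangulated.distinguished_cocone_triangle g
  have hvan : ∀ (V : 𝒟ᵇ) (i : V ⟶ Z) (q : Z ⟶ V), i ≫ q = 𝟙 V → V.obj.IsLE b → ∀ k : V ⟶ S b N, k = 0 :=
    fun V i q hiq hV k => by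
    have hk : q ≫ k = 0 := hom_top_eq_zero hZ.2 N hv (q ≫ k)
    rw [← id_comp k, ← hiq, assoc, hk, comp_zero]
  refine ⟨⟨N, Y, g, p, r, hT, ?_, hvan X i₁ p₁ h1 hX.2⟩, ?_, hvan W i₂ p₂ h2 hW⟩
  · show Epi ((DerivedCategory.homologyFunctor A b).map ((Siso b N).hom ≫ g₀ ≫ p₁.hom))
    simp only [Functor.map_comp]
    haveI := hg₀
    haveI : IsSplitEpi p₁.hom := ⟨⟨⟨i₁.hom, congrArg (fun t => t.hom) h1⟩⟩⟩
    infer_instance
  · refine ObjectProperty.hom_ext _ ?_
    show ((Siso b N).hom ≫ g₀ ≫ p₁.hom) ≫ f.hom = 0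
    rw [assoc, assoc, hgf, comp_zero]

include hneg in
lemma exists_pres' {a b : ℤ} {X : 𝒟ᵇ} (hX : InI a b X) : Nonempty (Pres b X) := by
  obtain ⟨P, -⟩ := exists_pres hneg hX hX.2 (0 : X ⟶ (0 : 𝒟ᵇ)) (a' := b - 1)
    ⟨DerivedCategory.TStructure.t.isGE_of_isZero ((DerivedCategory.Bounded.ι (C := A)).map_isZero (isZero_zero _)) _,
      DerivedCategory.TStructure.t.isLE_of_isZero ((DerivedCategory.Bounded.ι (C := A)).map_isZero (isZero_zero _)) _⟩
  exact ⟨P⟩

/-- Two presentations are dominated by a third. -/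
lemma exists_sum {b : ℤ} {X : 𝒟ᵇ} (P Q : Pres b X) : ∃ R : Pres b X,
    (∃ u : P.Y ⟶ R.Y, R.p = P.p ≫ u) ∧ ∃ u : Q.Y ⟶ R.Y, R.p = Q.p ≫ u := by
  let N := P.N ⊞ Q.N
  let g : S b N ⟶ X := (SF b).map (biprod.fst : N ⟶ P.N) ≫ P.g + (SF b).map (biprod.snd : N ⟶ Q.N) ≫ Q.g
  have hP : (SF b).map (biprod.inl : P.N ⟶ N) ≫ g = P.g := by
    show (SF b).map biprod.inl ≫ ((SF b).map biprod.fst ≫ P.g + (SF b).map biprod.snd ≫ Q.g) = P.g
    rw [Preadditive.comp_add, ← assoc, ← assoc, ← Functor.map_comp, ← Functor.map_comp, biprod.inl_fst,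
      biprod.inl_snd, CategoryTheory.Functor.map_id, Functor.map_zero, zero_comp, add_zero]
    exact id_comp _
  have hQ : (SF b).map (biprod.inr : Q.N ⟶ N) ≫ g = Q.g := by
    show (SF b).map biprod.inr ≫ ((SF b).map biprod.fst ≫ P.g + (SF b).map biprod.snd ≫ Q.g) = Q.g
    rw [Preadditive.comp_add, ← assoc, ← assoc, ← Functor.map_comp, ← Functor.map_comp, biprod.inr_fst,
      biprod.inr_snd, CategoryTheory.Functor.map_id, Functor.map_zero, zero_comp, zero_add]
    exact id_comp _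
  obtain ⟨Y, p, r, hT⟩ := Pretriangulated.distinguished_cocone_triangle g
  have hgp : g ≫ p = 0 := comp_distTriang_mor_zero₁₂ _ hT
  refine ⟨⟨N, Y, g, p, r, hT, ?_, fun f => ?_⟩, ?_, ?_⟩
  · haveI := P.epi
    refine @epi_of_epi _ _ _ _ _ ((DerivedCategory.homologyFunctor A b).map ((SF b).map (biprod.inl : P.N ⟶ N)).hom) _ ?_
    rw [← Functor.map_comp, show ((SF b).map (biprod.inl : P.N ⟶ N)).hom ≫ g.hom = P.g.hom from congrArg (fun t => t.hom) hP]
    exact P.epi
  · have h : (SF b).map (𝟙 N) = (SF b).map (biprod.fst : N ⟶ P.N) ≫ (SF b).map biprod.inl +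
        (SF b).map (biprod.snd : N ⟶ Q.N) ≫ (SF b).map biprod.inr := by
      rw [← Functor.map_comp, ← Functor.map_comp, ← Functor.map_add, biprod.total]
    calc f = f ≫ (SF b).map (𝟙 N) := by rw [CategoryTheory.Functor.map_id]; exact (comp_id f).symm
      _ = 0 := by
        rw [h, Preadditive.comp_add, ← assoc, ← assoc, P.vanish (f ≫ (SF b).map biprod.fst),
          Q.vanish (f ≫ (SF b).map biprod.snd), zero_comp, zero_comp, add_zero]
  · exact Triangle.yoneda_exact₂ _ P.dist p (by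
      show P.g ≫ p = 0
      rw [← hP, assoc, hgp, comp_zero])
  · exact Triangle.yoneda_exact₂ _ Q.dist p (by
      show Q.g ≫ p = 0
      rw [← hQ, assoc, hgp, comp_zero])

variable {D : Type u'} [Category.{v'} D] [Preadditive D] [HasZeroObject D] [HasShift D ℤ]
    [∀ n : ℤ, (shiftFunctor D n).Additive] [Pretriangulated D]
    {F F' : DerivedCategory.Bounded A ⥤ D} [F.CommShift ℤ] [F.IsTriangulated]
    [F'.CommShift ℤ] [F'.IsTriangulated] [F.Full] [F.Faithful]
    (e2 : ∀ K, Nonempty (F.obj K ≅ F'.obj K))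
    (e0 : ∀ M : A, F.obj ((DEquiv.singleB A).obj M) ≅ F'.obj ((DEquiv.singleB A).obj M))
    (he0 : ∀ {M M' : A} (u : M ⟶ M'), SibIso.Compat (e0 M) (e0 M') ((DEquiv.singleB A).map u))

include e2 in
omit [F'.CommShift ℤ] [F'.IsTriangulated] in
/-- Maps between the images vanish when there are none between the sources. -/
lemma cross_zero {X Y : 𝒟ᵇ} (h : ∀ f : X ⟶ Y, f = 0) (d : F.obj X ⟶ F'.obj Y) : d = 0 := by
  obtain ⟨e⟩ := e2 Y
  obtain ⟨f, hf⟩ := F.map_surjective (d ≫ e.inv)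
  rw [h f, Functor.map_zero] at hf
  exact (cancel_mono e.inv).1 (hf.symm.trans zero_comp.symm)

/-- The comparison on single objects. -/
noncomputable def ΦS (b : ℤ) (M : A) : F.obj (S b M) ≅ F'.obj (S b M) := SibIso.sh (e0 M) (-b)

include he0 in
lemma single_deg {b : ℤ} {M M' : A} (f : S b M ⟶ S b M') :
    SibIso.Compat (ΦS e0 b M) (ΦS e0 b M') f := by
  obtain ⟨f', rfl⟩ := (shiftFunctor (DerivedCategory.Bounded A) (-b)).map_surjective f
  obtain ⟨u, rfl⟩ := (DEquiv.singleB A).map_surjective f'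
  exact (he0 u).shift (-b)

/-- A single object shifted once. -/
noncomputable def ψ (b : ℤ) (N : A) : S (b - 1) N ≅ (S b N)⟦(1 : ℤ)⟧ :=
  (shiftFunctorAdd' (DerivedCategory.Bounded A) (-b) 1 (-(b - 1)) (by omega)).app ((DEquiv.singleB A).obj N)

omit [F.IsTriangulated] [F'.IsTriangulated] [F.Full] [F.Faithful] in
lemma compat_ψ (b : ℤ) (N : A) : SibIso.Compat (ΦS e0 (b - 1) N) (SibIso.sh (ΦS e0 b N) 1) (ψ b N).hom :=
  SibIso.compat_add (e0 N) (-b) 1 (-(b - 1)) (by omega)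

include e2 he0 hneg in
/-- Compatibility with all maps between single objects. -/
theorem single_nat : ∀ (k : ℕ) {b b' : ℤ}, (b - b').toNat ≤ k → ∀ {M M' : A} (f : S b M ⟶ S b' M'),
    SibIso.Compat (ΦS e0 b M) (ΦS e0 b' M') f := by
  intro k
  induction k with
  | zero =>
    intro b b' hk M M' f
    rcases (show b = b' ∨ b < b' by omega) with rfl | h
    · exact single_deg e0 he0 f
    · rw [InI.hom_zero (inI_S b M) (inI_S b' M') h f]
      simp [SibIso.Compat]
  | succ k ih =>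
    intro b b' hk M M' f
    by_cases hle : b - b' ≤ k
    · exact ih (by omega) f
    obtain ⟨P, hgf, -⟩ := exists_pres hneg (inI_S b M) (isLE_single b M) f (a' := b')
      ((inI_S b' M').mono le_rfl (by omega))
    obtain ⟨f', hf'⟩ : ∃ f' : P.Y ⟶ S b' M', f = P.p ≫ f' := Triangle.yoneda_exact₂ _ P.dist f hgf
    have hY := (P.inI (inI_S b M)).mono (a' := b - 1) (by omega) le_rfl
    haveI := hY.1
    haveI := hY.2
    obtain ⟨K, ⟨i⟩⟩ := exists_iso_single P.Y (b - 1)
    let cY := F.mapIso i ≪≫ ΦS e0 (b - 1) K ≪≫ F'.mapIso i.symm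
    have hr : SibIso.Compat cY (SibIso.sh (ΦS e0 b P.N) 1) P.r := by
      have := ((SibIso.compat_conj (ΦS e0 (b - 1) K) i).1.comp (single_deg e0 he0 (i.inv ≫ P.r ≫ (ψ b P.N).inv))).comp
        (compat_ψ e0 b P.N)
      simpa [cY] using this
    obtain ⟨c, hc₁, hc₂⟩ : ∃ c : F.obj P.Y ⟶ F'.obj P.Y, F.map P.p ≫ c = (ΦS e0 b M).hom ≫ F'.map P.p ∧
        (F.map P.r ≫ (F.commShiftIso (1 : ℤ)).hom.app (S b P.N)) ≫ (ΦS e0 b P.N).hom⟦(1 : ℤ)⟧' =
          c ≫ F'.map P.r ≫ (F'.commShiftIso (1 : ℤ)).hom.app (S b P.N) :=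
      complete_distinguished_triangle_morphism _ _ (F.map_distinguished _ P.dist) (F'.map_distinguished _ P.dist)
        (ΦS e0 b P.N).hom (ΦS e0 b M).hom (single_deg e0 he0 P.g)
    have hcY : c = cY.hom := by
      have h' : (c - cY.hom) ≫ F'.map P.r = 0 := by
        rw [Preadditive.sub_comp, sub_eq_zero, ← hr, ← cancel_mono ((F'.commShiftIso (1 : ℤ)).hom.app (S b P.N)),
          assoc, ← hc₂]
        simp [SibIso.sh]
      have hm : (c - cY.hom) ≫ (F'.mapTriangle.obj (Triangle.mk P.g P.p P.r)).mor₃ = 0 := by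
        show (c - cY.hom) ≫ F'.map P.r ≫ _ = 0
        rw [← assoc, h', zero_comp]
      obtain ⟨z, hz⟩ := Triangle.coyoneda_exact₃ _ (F'.map_distinguished _ P.dist) (c - cY.hom) hm
      rw [cross_zero e2 (fun t => hY.hom_zero (inI_S b M) (by omega) t) z] at hz
      exact sub_eq_zero.1 (hz.trans zero_comp)
    have hp : SibIso.Compat (ΦS e0 b M) cY P.p := by
      show F.map P.p ≫ cY.hom = _
      rw [← hcY, hc₁]
    rw [hf']
    refine hp.comp ?_
    have := (SibIso.compat_conj (ΦS e0 (b - 1) K) i).1.comp (ih (b := b - 1) (b' := b') (by omega) (i.inv ≫ f'))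
    simpa [cY] using this

variable (F F') in
/-- Natural comparison isomorphisms on the objects of width at most `n`. -/
structure Data (n : ℕ) where
  /-- The isomorphisms. -/
  c : ∀ X : DerivedCategory.Bounded A, InN n X → (F.obj X ≅ F'.obj X)
  nat : ∀ {X X' : DerivedCategory.Bounded A} (hX : InN n X) (hX' : InN n X') (f : X ⟶ X'),
    SibIso.Compat (c X hX) (c X' hX') f
  single : ∀ (b : ℤ) (M : A) (h : InN n (S b M)), c (S b M) h = ΦS e0 b M

/-- Restriction of data. -/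
def Data.restrict {n m : ℕ} (d : Data F F' e0 m) (h : n ≤ m) : Data F F' e0 n where
  c X hX := d.c X (hX.le h)
  nat hX hX' f := d.nat _ _ f
  single b M hb := d.single b M _

include e2 hneg in
/-- Uniqueness of the data. -/
lemma Data.eq : ∀ (n : ℕ) (d d' : Data F F' e0 n) (X : 𝒟ᵇ) (hX : InN n X), d.c X hX = d'.c X hX := by
  intro n
  induction n with
  | zero =>
    intro d d' X hX
    obtain ⟨b, hb⟩ := id hX
    haveI := hb.2
    haveI : X.obj.IsGE b := by simpa using hb.1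
    obtain ⟨M, ⟨i⟩⟩ := exists_iso_single X b
    have h1 := d.nat hX (inN_S 0 b M) i.hom
    have h2 := d'.nat hX (inN_S 0 b M) i.hom
    simp only [SibIso.Compat, d.single, d'.single] at h1 h2
    exact Iso.ext ((cancel_mono (F'.map i.hom)).1 (h1.symm.trans h2))
  | succ n ih =>
    intro d d' X hX
    obtain ⟨b, hb⟩ := id hX
    obtain ⟨P⟩ := exists_pres' hneg hb
    have hY : InN n P.Y := (P.inI hb).inN (by omega)
    have h1 : F.map P.p ≫ (d.c P.Y (hY.le (by omega))).hom = (d.c X hX).hom ≫ F'.map P.p := d.nat hX _ P.p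
    have h2 : F.map P.p ≫ (d'.c P.Y (hY.le (by omega))).hom = (d'.c X hX).hom ≫ F'.map P.p := d'.nat hX _ P.p
    have he : d.c P.Y (hY.le (by omega)) = d'.c P.Y (hY.le (by omega)) :=
      ih (d.restrict e0 (by omega)) (d'.restrict e0 (by omega)) P.Y hY
    obtain ⟨z, hz⟩ := Triangle.coyoneda_exact₂ _ (F'.map_distinguished _ P.dist) ((d.c X hX).hom - (d'.c X hX).hom) (by
      show ((d.c X hX).hom - (d'.c X hX).hom) ≫ F'.map P.p = 0
      rw [Preadditive.sub_comp, sub_eq_zero, ← h1, ← h2, he])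
    rw [cross_zero e2 P.vanish z] at hz
    exact Iso.ext (sub_eq_zero.1 (hz.trans zero_comp))

include e2 he0 hneg in
lemma nonempty_data_zero : Nonempty (Data F F' e0 0) := by
  have h : ∀ X : 𝒟ᵇ, InN 0 X → ∃ (b : ℤ) (M : A), Nonempty (X ≅ S b M) := fun X hX => by
    obtain ⟨b, hb⟩ := hX
    haveI := hb.2
    haveI : X.obj.IsGE b := by simpa using hb.1
    exact ⟨b, exists_iso_single X b⟩
  choose bX MX iX using h
  let i := fun X hX => (iX X hX).some
  let c : ∀ X : 𝒟ᵇ, InN 0 X → (F.obj X ≅ F'.obj X) := fun X hX =>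
    F.mapIso (i X hX) ≪≫ ΦS e0 (bX X hX) (MX X hX) ≪≫ F'.mapIso (i X hX).symm
  refine ⟨⟨c, fun {X X'} hX hX' f => ?_, fun b M hb => ?_⟩⟩
  · have := ((SibIso.compat_conj (ΦS e0 _ _) (i X hX)).1.comp
      (single_nat hneg e2 e0 he0 _ le_rfl ((i X hX).inv ≫ f ≫ (i X' hX').hom))).comp
      (SibIso.compat_conj (ΦS e0 _ _) (i X' hX')).2
    simpa [c] using this
  · have := single_nat hneg e2 e0 he0 _ le_rfl (i (S b M) hb).hom
    refine Iso.ext ?_
    show F.map _ ≫ _ ≫ F'.map _ = _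
    rw [← assoc, show F.map (i (S b M) hb).hom ≫ _ = _ from this, assoc, Iso.symm_hom, ← Functor.map_comp,
      Iso.hom_inv_id, CategoryTheory.Functor.map_id, comp_id]

include e2 hneg in
/-- Extension of the data to one further width. -/
lemma nonempty_data_succ (n : ℕ) (d : Data F F' e0 n) : Nonempty (Data F F' e0 (n + 1)) := by
  -- the value attached to a presentation
  have hex : ∀ (b : ℤ) (X : 𝒟ᵇ) (hX : InI (b - (n + 1 : ℕ)) b X) (P : Pres b X),
      ∃ c : F.obj X ≅ F'.obj X, SibIso.Compat c (d.c P.Y ((P.inI hX).inN (by omega))) P.p ∧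
        SibIso.Compat (ΦS e0 b P.N) c P.g := fun b X hX P => by
    let hY : InN n P.Y := (P.inI hX).inN (by omega)
    have hr : SibIso.Compat (d.c P.Y hY) (SibIso.sh (ΦS e0 b P.N) 1) P.r := by
      have h1 := d.nat hY (inN_S n (b - 1) P.N) (P.r ≫ (ψ b P.N).inv)
      rw [d.single] at h1
      simpa using h1.comp (compat_ψ e0 b P.N)
    have comm : (F.map P.r ≫ (F.commShiftIso (1 : ℤ)).hom.app (S b P.N)) ≫ (ΦS e0 b P.N).hom⟦(1 : ℤ)⟧' =
        (d.c P.Y hY).hom ≫ F'.map P.r ≫ (F'.commShiftIso (1 : ℤ)).hom.app (S b P.N) := by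
      rw [← assoc (d.c P.Y hY).hom, ← hr]
      simp [SibIso.sh]
    obtain ⟨c, hc₁, hc₂⟩ := complete_distinguished_triangle_morphism₂ _ _ (F.map_distinguished _ P.dist)
      (F'.map_distinguished _ P.dist) (ΦS e0 b P.N).hom (d.c P.Y hY).hom comm
    let φ : F.mapTriangle.obj (Triangle.mk P.g P.p P.r) ⟶ F'.mapTriangle.obj (Triangle.mk P.g P.p P.r) :=
      { hom₁ := (ΦS e0 b P.N).hom, hom₂ := c, hom₃ := (d.c P.Y hY).hom, comm₁ := hc₁, comm₂ := hc₂, comm₃ := comm }
    haveI : IsIso φ.hom₂ := isIso₂_of_isIso₁₃ φ (F.map_distinguished _ P.dist) (F'.map_distinguished _ P.dist)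
      (inferInstanceAs (IsIso (ΦS e0 b P.N).hom)) (inferInstanceAs (IsIso (d.c P.Y hY).hom))
    let c' : F.obj X ⟶ F'.obj X := c
    exact ⟨@asIso _ _ _ _ c' ‹_›, hc₂, hc₁⟩
  have huniq : ∀ {b : ℤ} {X : 𝒟ᵇ} (P : Pres b X) (c c' : F.obj X ≅ F'.obj X) (cY : F.obj P.Y ≅ F'.obj P.Y),
      SibIso.Compat c cY P.p → SibIso.Compat c' cY P.p → c = c' := fun {b X} P c c' cY h h' => by
    obtain ⟨z, hz⟩ := Triangle.coyoneda_exact₂ _ (F'.map_distinguished _ P.dist) (c.hom - c'.hom) (by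
      show (c.hom - c'.hom) ≫ F'.map P.p = 0
      rw [Preadditive.sub_comp, sub_eq_zero, ← h, ← h'])
    rw [cross_zero e2 P.vanish z] at hz
    exact Iso.ext (sub_eq_zero.1 (hz.trans zero_comp))
  have hold : ∀ (X : 𝒟ᵇ) (hX : InN n X) (b : ℤ) (hb : InI (b - (n + 1 : ℕ)) b X) (P : Pres b X)
      (c : F.obj X ≅ F'.obj X), SibIso.Compat c (d.c P.Y ((P.inI hb).inN (by omega))) P.p → c = d.c X hX :=
    fun X hX b hb P c hc => huniq P c _ _ hc (d.nat hX _ P.p)
  -- chosen values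
  have hsel : ∀ (X : 𝒟ᵇ), InN (n + 1) X → ∃ c : F.obj X ≅ F'.obj X,
      ∀ (b : ℤ) (hb : InI (b - (n + 1 : ℕ)) b X) (P : Pres b X),
        SibIso.Compat c (d.c P.Y ((P.inI hb).inN (by omega))) P.p ∧ SibIso.Compat (ΦS e0 b P.N) c P.g := by
    intro X hX
    obtain ⟨b₀, hb₀⟩ := hX
    obtain ⟨P₀⟩ := exists_pres' hneg hb₀
    obtain ⟨c₀, hc₀, -⟩ := hex b₀ X hb₀ P₀
    refine ⟨c₀, fun b hb P => ?_⟩
    obtain ⟨c, hc, hc'⟩ := hex b X hb P
    suffices h : c₀ = c by rw [h]; exact ⟨hc, hc'⟩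
    rcases (show b = b₀ ∨ b ≠ b₀ from eq_or_ne b b₀) with rfl | hne
    · obtain ⟨R, ⟨u, hu⟩, ⟨u', hu'⟩⟩ := exists_sum P P₀
      have hRY : InN n R.Y := (R.inI hb).inN (by omega)
      have h1 : SibIso.Compat c (d.c R.Y hRY) R.p := hu ▸ hc.comp (d.nat _ hRY u)
      have h2 : SibIso.Compat c₀ (d.c R.Y hRY) R.p := hu' ▸ hc₀.comp (d.nat _ hRY u')
      exact huniq R c₀ c _ h2 h1
    · have hXn : InN n X := by
        rcases lt_or_gt_of_ne hne with h | h
        · exact InI.inN (a := b₀ - (n + 1 : ℕ)) (b := b) ⟨hb₀.1, hb.2⟩ (by omega)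
        · exact InI.inN (a := b - (n + 1 : ℕ)) (b := b₀) ⟨hb.1, hb₀.2⟩ (by omega)
      rw [hold X hXn b₀ hb₀ P₀ c₀ hc₀, hold X hXn b hb P c hc]
  choose c hc using hsel
  have hcold : ∀ (X : 𝒟ᵇ) (hX : InN (n + 1) X) (hX' : InN n X), c X hX = d.c X hX' := fun X hX hX' => by
    obtain ⟨b, hb⟩ := id hX
    obtain ⟨P⟩ := exists_pres' hneg hb
    exact hold X hX' b hb P _ (hc X hX b hb P).1
  have main : ∀ (m : ℕ), m ≤ n + 1 → ∀ (k : ℕ) {b b' : ℤ} {X X' : 𝒟ᵇ} (hX : InI (b - (n + 1 : ℕ)) b X)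
      (hX' : InI (b' - m) b' X'), (b - b').toNat ≤ k → ∀ (h : InN (n + 1) X) (h' : InN (n + 1) X') (f : X ⟶ X'),
      SibIso.Compat (c X h) (c X' h') f := by
    intro m
    induction m with
    | zero =>
      intro hm k
      induction k with
      | zero =>
        intro b b' X X' hX hX' hk h h' f
        obtain ⟨P⟩ := exists_pres' hneg hX
        have hX'n : InN n X' := hX'.inN (by omega)
        have hg := (hc X h b hX P).2
        have hgf : SibIso.Compat (ΦS e0 b P.N) (c X' h') (P.g ≫ f) := by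
          rw [hcold X' h' hX'n, ← d.single b P.N (inN_S n b P.N)]
          exact d.nat _ _ _
        obtain ⟨z, hz⟩ := Triangle.yoneda_exact₂ _ (F.map_distinguished _ P.dist)
          (F.map f ≫ (c X' h').hom - (c X h).hom ≫ F'.map f) (by
            show F.map P.g ≫ (F.map f ≫ (c X' h').hom - (c X h).hom ≫ F'.map f) = 0
            rw [Preadditive.comp_sub, sub_eq_zero, ← assoc, ← Functor.map_comp, hgf, Functor.map_comp, ← assoc,
              ← assoc, hg])
        rw [cross_zero e2 (fun t => (P.inI hX).hom_zero hX' (by omega) t) z] at hz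
        exact sub_eq_zero.1 (hz.trans comp_zero)
      | succ k ihk =>
        intro b b' X X' hX hX' hk h h' f
        by_cases hle : b - b' ≤ k
        · exact ihk hX hX' (by omega) h h' f
        obtain ⟨P, hgf, -⟩ := exists_pres hneg hX hX.2 f (hX'.mono le_rfl (by omega))
        obtain ⟨f', rfl⟩ : ∃ f' : P.Y ⟶ X', f = P.p ≫ f' := Triangle.yoneda_exact₂ _ P.dist f hgf
        have hY := (P.inI hX).mono (a' := b - 1 - (n + 1 : ℕ)) (by omega) le_rfl
        have hYn : InN (n + 1) P.Y := hY.inN le_rfl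
        refine SibIso.Compat.comp (Ψ := c P.Y hYn) ?_ (ihk hY hX' (by omega) hYn h' f')
        rw [hcold P.Y hYn ((P.inI hX).inN (by omega))]
        exact (hc X h b hX P).1
    | succ m ihm =>
      intro hm k
      induction k with
      | zero =>
        intro b b' X X' hX hX' hk h h' f
        obtain ⟨P, -, hv⟩ := exists_pres hneg hX' (W := X) (haveI := hX.2;
          DerivedCategory.TStructure.t.isLE_of_le X.obj b b' (by omega)) (0 : X' ⟶ (0 : 𝒟ᵇ)) (a' := b' - 1)
          ⟨DerivedCategory.TStructure.t.isGE_of_isZero ((DerivedCategory.Bounded.ι (C := A)).map_isZero (isZero_zero _)) _,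
            DerivedCategory.TStructure.t.isLE_of_isZero ((DerivedCategory.Bounded.ι (C := A)).map_isZero (isZero_zero _)) _⟩
        have hb' : InI (b' - (n + 1 : ℕ)) b' X' := hX'.mono (by omega) le_rfl
        have hY : InI (b' - 1 - m) (b' - 1) P.Y := (P.inI hX').mono (by omega) le_rfl
        have hYn : InN n P.Y := hY.inN (by omega)
        have hp : SibIso.Compat (c X' h') (c P.Y (hYn.le (by omega))) P.p := by
          rw [hcold P.Y _ hYn]
          exact (hc X' h' b' hb' P).1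
        have hfp := ihm (by omega) ((b - (b' - 1)).toNat) hX hY le_rfl h (hYn.le (by omega)) (f ≫ P.p)
        obtain ⟨z, hz⟩ := Triangle.coyoneda_exact₂ _ (F'.map_distinguished _ P.dist)
          (F.map f ≫ (c X' h').hom - (c X h).hom ≫ F'.map f) (by
            show (F.map f ≫ (c X' h').hom - (c X h).hom ≫ F'.map f) ≫ F'.map P.p = 0
            rw [Preadditive.sub_comp, sub_eq_zero, assoc, ← hp, assoc, ← F'.map_comp, ← hfp, F.map_comp, assoc])
        rw [cross_zero e2 hv z] at hz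
        exact sub_eq_zero.1 (hz.trans zero_comp)
      | succ k ihk =>
        intro b b' X X' hX hX' hk h h' f
        by_cases hle : b - b' ≤ k
        · exact ihk hX hX' (by omega) h h' f
        obtain ⟨P, hgf, -⟩ := exists_pres hneg hX hX.2 f (hX'.mono le_rfl (by omega))
        obtain ⟨f', rfl⟩ : ∃ f' : P.Y ⟶ X', f = P.p ≫ f' := Triangle.yoneda_exact₂ _ P.dist f hgf
        have hY := (P.inI hX).mono (a' := b - 1 - (n + 1 : ℕ)) (by omega) le_rfl
        have hYn : InN (n + 1) P.Y := hY.inN le_rfl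
        refine SibIso.Compat.comp (Ψ := c P.Y hYn) ?_ (ihk hY hX' (by omega) hYn h' f')
        rw [hcold P.Y hYn ((P.inI hX).inN (by omega))]
        exact (hc X h b hX P).1
  refine ⟨⟨c, fun {X X'} hX hX' f => ?_, fun b M hb => ?_⟩⟩
  · obtain ⟨b, hb⟩ := id hX
    obtain ⟨b', hb'⟩ := id hX'
    exact main (n + 1) le_rfl _ hb hb' le_rfl hX hX' f
  · rw [hcold _ hb (inN_S n b M), d.single]

include e2 he0 hneg in
/-- Siblings are isomorphic. -/
theorem nonempty_iso : Nonempty (F ≅ F') := by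
  have h : ∀ n, Nonempty (Data F F' e0 n) := fun n => by
    induction n with
    | zero => exact nonempty_data_zero hneg e2 e0 he0
    | succ n ih => exact ih.elim (nonempty_data_succ hneg e2 e0 n)
  let d := fun n => (h n).some
  have hI : ∀ X : 𝒟ᵇ, ∃ n, InN n X := fun X => by
    obtain ⟨a, n, h1, h2⟩ := exists_interval X
    exact ⟨n, a + n, by rwa [add_sub_cancel_right], h2⟩
  choose ν hν using hI
  refine ⟨NatIso.ofComponents (fun X => (d (ν X)).c X (hν X)) fun {X Y} f => ?_⟩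
  have hX : (d (max (ν X) (ν Y))).c X ((hν X).le (le_max_left _ _)) = (d (ν X)).c X (hν X) :=
    Data.eq hneg e2 e0 _ ((d (max (ν X) (ν Y))).restrict e0 (le_max_left _ _)) _ X (hν X)
  have hY : (d (max (ν X) (ν Y))).c Y ((hν Y).le (le_max_right _ _)) = (d (ν Y)).c Y (hν Y) :=
    Data.eq hneg e2 e0 _ ((d (max (ν X) (ν Y))).restrict e0 (le_max_right _ _)) _ Y (hν Y)
  rw [← hX, ← hY]
  exact (d (max (ν X) (ν Y))).nat _ _ f

end Groth.Agent.H9Misc.NegIso
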