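import Groth.Agent.H9Misc.PerfSerre
import Mathlib.CategoryTheory.Adjunction.Basic

/-!
# Adjoints of exact functors between categories of perfect complexes
-/

set_option autoImplicit false
set_option linter.style.haveILetI false
set_option linter.unusedSectionVars false
set_option backward.isDefEq.respectTransparency false
set_option backward.isDefEq.respectTransparency.types false
set_option maxHeartbeats 1000000

universe u

open CategoryTheory CategoryTheory.Limits CategoryTheory.Pretriangulated AlgebraicGeometry Opposite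

attribute [local instance] HasDerivedCategory.standard

noncomputable section

namespace Groth.Agent.H9Misc.PerfAdjoints

open Groth.Agent PerfSerre

variable (k : Type u) [Field k] {X Y : Scheme.{u}} [X.Over (Spec (CommRingCat.of k))] [Y.Over (Spec (CommRingCat.of k))]
  [IsProper (X ↘ Spec (CommRingCat.of k))] [IsProper (Y ↘ Spec (CommRingCat.of k))]
  [(SGA6.perfP X).IsTriangulated] [(SGA6.perfP Y).IsTriangulated]
  (F : T X ⥤ T Y) [F.Additive] [F.Linear k] [F.CommShift ℤ] [F.IsTriangulated]

include k in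
theorem isLeftAdjoint (hreg : Models.IsRegularScheme X) : F.IsLeftAdjoint := by
  haveI := finite_hom k (X := Y)
  have h : ∀ L : T Y, ∃ (K : T X) (e : ∀ E : T X, (F.obj E ⟶ L) ≃ (E ⟶ K)),
      ∀ (E' E : T X) (f : E' ⟶ E) (g : F.obj E ⟶ L), e E' (F.map f ≫ g) = f ≫ e E g := fun L => by
    let H : (T X)ᵒᵖ ⥤ ModuleCat.{u + 1} k := F.op ⋙ (linearYoneda k (T Y)).obj L
    obtain ⟨K, hK, ⟨e⟩⟩ := Groth.Agent.S6746.result k X hreg H
      (fun A B r f => by
        refine ModuleCat.hom_ext (LinearMap.ext fun x => ?_)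
        show F.map (r • f) ≫ x = r • (F.map f ≫ x)
        rw [Functor.map_smul, Linear.smul_comp])
      (fun T₀ hT h₁ h₂ h₃ y hy => by
        obtain ⟨m₃, hm⟩ := exists_lift_triangle T₀ hT h₁ h₂ h₃
        obtain ⟨z, hz⟩ := Triangle.yoneda_exact₂ _ (F.map_distinguished _ hm) y hy
        exact ⟨z, hz.symm⟩)
      (fun E => ⟨fun n => finite_hom k (F.obj ((shiftFunctor (T X) n).obj E)) L, by
        refine ((finite_set_hom k (F.obj E) L).image Neg.neg).subset fun n hn => ⟨-n, ?_, neg_neg n⟩
        replace hn : Nontrivial (F.obj (E⟦n⟧) ⟶ L) := hn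
        let sh := (shiftEquiv (T Y) n).toAdjunction.homEquiv (F.obj E) L
        exact @Equiv.nontrivial _ _ (((Linear.homCongr k ((F.commShiftIso n).app E) (Iso.refl L)).toEquiv.trans sh).symm) hn⟩)
    refine ⟨⟨K, hK⟩, fun E => ((e.app (op E)).toLinearEquiv.trans (homLin k E ⟨K, hK⟩).symm).toEquiv,
      fun E' E f g => ?_⟩
    apply ObjectProperty.hom_ext
    show ((homLin k E' ⟨K, hK⟩).symm (e.hom.app (op E') (F.map f ≫ g))).hom =
      f.hom ≫ ((homLin k E ⟨K, hK⟩).symm (e.hom.app (op E) g)).hom
    have h1 := LinearMap.congr_fun (congrArg ModuleCat.Hom.hom (e.hom.naturality f.op)) g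
    rw [show ∀ (A B : T X) (a : A.obj ⟶ B.obj), ((homLin k A B).symm a).hom = a from
      fun A B a => (homLin k A B).apply_symm_apply a]
    rw [show ∀ (A B : T X) (a : A.obj ⟶ B.obj), ((homLin k A B).symm a).hom = a from
      fun A B a => (homLin k A B).apply_symm_apply a]
    exact h1
  choose K e he using h
  exact (Adjunction.adjunctionOfEquivRight (F := F) (G_obj := K) (fun E L => e L E)
    (fun E' E L f g => he L E' E f g)).isLeftAdjoint

theorem isRightAdjoint
    (hco : ∀ (G : T X ⥤ ModuleCat.{u + 1} k) [G.Additive] [G.Linear k] [G.IsHomological],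
      (∀ E : T X, (∀ n : ℤ, Module.Finite k (G.obj ((shiftFunctor (T X) n).obj E))) ∧
        Set.Finite {n : ℤ | Nontrivial (G.obj ((shiftFunctor (T X) n).obj E))}) →
      ∃ A : T X, Nonempty (G ≅ (linearCoyoneda k (T X)).obj (op A))) : F.IsRightAdjoint := by
  haveI := finite_hom k (X := Y)
  have h : ∀ L : T Y, ∃ (A : T X) (e : ∀ E : T X, (A ⟶ E) ≃ (L ⟶ F.obj E)),
      ∀ (E E' : T X) (f : E ⟶ E') (g : A ⟶ E), e E' (g ≫ f) = e E g ≫ F.map f := fun L => by
    let G : T X ⥤ ModuleCat.{u + 1} k := F ⋙ (linearCoyoneda k (T Y)).obj (op L)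
    haveI : G.Additive := ⟨fun {E E'} {f g} => by
      refine ModuleCat.hom_ext (LinearMap.ext fun x => ?_)
      show x ≫ F.map (f + g) = x ≫ F.map f + x ≫ F.map g
      rw [Functor.map_add, Preadditive.comp_add]⟩
    haveI : G.Linear k := ⟨fun {E E'} f r => by
      refine ModuleCat.hom_ext (LinearMap.ext fun x => ?_)
      show x ≫ F.map (r • f) = r • (x ≫ F.map f)
      rw [Functor.map_smul, Linear.comp_smul]⟩
    haveI : G.IsHomological :=
      { exact := fun T' hT => (ShortComplex.moduleCat_exact_iff _).2 fun x hx => by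
          obtain ⟨y, hy⟩ := Triangle.coyoneda_exact₂ _ (F.map_distinguished T' hT) x hx
          exact ⟨y, hy.symm⟩ }
    obtain ⟨A, ⟨e⟩⟩ := hco G fun E => ⟨fun n => finite_hom k L (F.obj ((shiftFunctor (T X) n).obj E)),
      (finite_set_hom k L (F.obj E)).subset fun n hn => by
        replace hn : Nontrivial (L ⟶ F.obj (E⟦n⟧)) := hn
        exact @Equiv.nontrivial _ _ (Linear.homCongr k (Iso.refl L) ((F.commShiftIso n).app E)).toEquiv.symm hn⟩
    exact ⟨A, fun E => (e.app E).toLinearEquiv.toEquiv.symm, fun E E' f g =>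
      LinearMap.congr_fun (congrArg ModuleCat.Hom.hom (e.inv.naturality f)) g⟩
  choose A e he using h
  exact (Adjunction.adjunctionOfEquivLeft (G := F) (F_obj := A) (fun L E => e L E)
    (fun L E E' f g => he L E E' f g)).isRightAdjoint

end Groth.Agent.H9Misc.PerfAdjoints
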