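import Mathlib
import Groth.Prelude.Def_Frob
import Groth.Agent.FrobSchLib.Basic
import Groth.Agent.MorLib.UnivHomeo
import Groth.Agent.S2151

/-! Perfections of schemes. -/

set_option linter.style.haveILetI false

universe u

open CategoryTheory CategoryTheory.Limits AlgebraicGeometry Opposite

namespace Groth.Agent.H9Misc.PerfSchLib

open Groth.Agent.MorLib

variable (p : ℕ) [Fact p.Prime]

/-- A stand-in test property used below: the p-th power map is bijective on sections. -/
lemma isPerfect_spec {S : CommRingCat.{u}} [FrobSch.IsCharP (Spec S) p]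
    (h : Function.Bijective fun s : S => s ^ p) : FrobSch.IsPerfect (Spec S) p := by
  have happ : IsIso (FrobSch.frob (Spec S) p).appTop := by
    rw [ConcreteCategory.isIso_iff_bijective]
    let e := (Scheme.ΓSpecIso S).commRingCatIsoToRingEquiv
    have he : (fun x : Γ(Spec S, ⊤) => (FrobSch.frob (Spec S) p).appTop x) = e.symm ∘ (fun s => s ^ p) ∘ e := by
      funext x
      show (FrobSch.frob (Spec S) p).appTop x = e.symm (e x ^ p)
      rw [FrobSch.frob_appTop, map_pow, e.symm_apply_apply]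
    show Function.Bijective (fun x : Γ(Spec S, ⊤) => (FrobSch.frob (Spec S) p).appTop x)
    rw [he]
    exact e.symm.bijective.comp (h.comp e.bijective)
  show IsIso (FrobSch.frob (Spec S) p)
  rw [show FrobSch.frob (Spec S) p = (Spec S).isoSpec.hom ≫ Spec.map (FrobSch.frob (Spec S) p).appTop ≫ (Spec S).isoSpec.inv by
    rw [Scheme.isoSpec_hom_naturality_assoc, Iso.hom_inv_id, Category.comp_id]]
  infer_instance

lemma bijective_pow_of_isPerfect {X : Scheme.{u}} [FrobSch.IsCharP X p] (h : FrobSch.IsPerfect X p) (U : X.Opens) :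
    Function.Bijective fun s : Γ(X, U) => s ^ p := by
  haveI : IsIso ((FrobSch.frob X p).app U) := inferInstance
  exact (ConcreteCategory.isIso_iff_bijective ((FrobSch.frob X p).app U)).1 inferInstance

section Unique

variable {X XP XP' : Scheme.{u}} [FrobSch.IsCharP XP p] [FrobSch.IsCharP XP' p]

/-- Perfections are unique. -/
theorem exists_iso {π : XP ⟶ X} {π' : XP' ⟶ X} (h : FrobSch.IsPerfection π p) (h' : FrobSch.IsPerfection π' p) :
    ∃ e : XP ≅ XP', e.hom ≫ π' = π := by
  obtain ⟨a, ha⟩ := (h'.2 XP h.1).2 π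
  obtain ⟨b, hb⟩ := (h.2 XP' h'.1).2 π'
  replace ha : a ≫ π' = π := ha
  replace hb : b ≫ π = π' := hb
  refine ⟨⟨a, b, (h.2 XP h.1).1 ?_, (h'.2 XP' h'.1).1 ?_⟩, ha⟩
  · show (a ≫ b) ≫ π = 𝟙 _ ≫ π
    rw [Category.assoc, hb, ha, Category.id_comp]
  · show (b ≫ a) ≫ π' = 𝟙 _ ≫ π'
    rw [Category.assoc, ha, hb, Category.id_comp]

end Unique

section Exists

variable (X : Scheme.{u}) [FrobSch.IsCharP X p]

/-- The Frobenius tower. -/
noncomputable def towerℕ : ℕᵒᵖ ⥤ Scheme.{u} :=
  Functor.ofOpSequence (X := fun _ : ℕ => X) fun _ => FrobSch.frob X p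

lemma towerℕ_succ (n : ℕ) : (towerℕ p X).map (homOfLE (Nat.le_add_right n 1)).op = FrobSch.frob X p :=
  Functor.ofOpSequence_map_homOfLE_succ _ n

lemma isAffineHom_towerℕ {i j : ℕ} (h : i ≤ j) : IsAffineHom ((towerℕ p X).map (homOfLE h).op) := by
  induction h with
  | refl =>
    rw [show (homOfLE (le_refl i)).op = 𝟙 (op i) from rfl, CategoryTheory.Functor.map_id]
    infer_instance
  | @step m h ih =>
    haveI := ih
    haveI : IsAffineHom ((towerℕ p X).map (homOfLE (Nat.le_add_right m 1)).op) := by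
      rw [towerℕ_succ]; exact ⟨fun U hU => hU⟩
    rw [show (homOfLE (Nat.le.step h)).op = (homOfLE (Nat.le_add_right m 1)).op ≫ (homOfLE h).op from rfl,
      Functor.map_comp]
    infer_instance

lemma downMono : Monotone (ULift.down : ULift.{u} ℕ → ℕ) := fun _ _ h => h

/-- The Frobenius tower on a small category. -/
noncomputable def tower : (ULift.{u} ℕ)ᵒᵖ ⥤ Scheme.{u} := downMono.functor.op ⋙ towerℕ p X

instance (i j : (ULift.{u} ℕ)ᵒᵖ) (f : i ⟶ j) : IsAffineHom ((tower p X).map f) :=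
  have h : j.unop ≤ i.unop := leOfHom f.unop
  isAffineHom_towerℕ p X (i := j.unop.down) (j := i.unop.down) h

lemma tower_succ (n : ℕ) :
    (tower p X).map (homOfLE (show (ULift.up n : ULift.{u} ℕ) ≤ ULift.up (n + 1) from Nat.le_succ n)).op =
      FrobSch.frob X p :=
  towerℕ_succ p X n

/-- A cone over the tower from a compatible sequence. -/
noncomputable def mkCone {T : Scheme.{u}} (g : ℕ → (T ⟶ X)) (h : ∀ n, g (n + 1) ≫ FrobSch.frob X p = g n) :
    Cone (tower p X) where
  pt := T
  π :=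
    { app := fun i => (NatTrans.ofOpSequence (F := (Functor.const ℕᵒᵖ).obj T) (G := towerℕ p X) g fun n =>
        ((Category.id_comp (g n)).trans ((congrArg (g (n + 1) ≫ ·) (towerℕ_succ p X n)).trans (h n)).symm)).app (op i.unop.down)
      naturality := fun i j f => (NatTrans.ofOpSequence (F := (Functor.const ℕᵒᵖ).obj T) (G := towerℕ p X) g fun n =>
        ((Category.id_comp (g n)).trans ((congrArg (g (n + 1) ≫ ·) (towerℕ_succ p X n)).trans (h n)).symm)).naturality (downMono.functor.op.map f) }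

/-- Perfections exist and are affine over the base. -/
theorem exists_perfection : ∃ (XP : Scheme.{u}) (_ : FrobSch.IsCharP XP p) (π : XP ⟶ X),
    FrobSch.IsPerfection π p ∧ IsAffineHom π ∧
      ∃ (c : Cone (tower p X)) (_ : IsLimit c), Nonempty (c.pt ≅ XP) := by
  obtain ⟨c, hc, haff⟩ := Groth.Agent.S2151.result (tower p X)
  let π : ∀ n : ℕ, c.pt ⟶ X := fun n => c.π.app (op (ULift.up n))
  have hπ : ∀ n, π (n + 1) ≫ FrobSch.frob X p = π n := fun n => by
    have := c.w (homOfLE (show (ULift.up n : ULift.{u} ℕ) ≤ ULift.up (n + 1) from Nat.le_succ n)).op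
    rwa [tower_succ] at this
  haveI : FrobSch.IsCharP c.pt p := FrobSch.IsCharP.of_hom (π 0) p
  have hext : ∀ {T : Scheme.{u}} {a b : T ⟶ c.pt}, (∀ n, a ≫ π n = b ≫ π n) → a = b :=
    fun h => hc.hom_ext fun i => h i.unop.down
  refine ⟨c.pt, inferInstance, π 0, ⟨?_, fun Y _ hY => ⟨fun a b e => hext fun n => ?_, fun g => ?_⟩⟩,
    haff (op (ULift.up 0)), c, hc, ⟨Iso.refl _⟩⟩
  · -- perfect
    let s : c.pt ⟶ c.pt := hc.lift (mkCone p X (fun n => π (n + 1)) fun n => hπ (n + 1))
    have hs : ∀ n, s ≫ π n = π (n + 1) := fun n => hc.fac _ (op (ULift.up n))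
    refine ⟨s, hext fun n => ?_, hext fun n => ?_⟩
    · rw [Category.assoc, hs, FrobSch.frob_comp, hπ, Category.id_comp]
    · rw [Category.assoc, FrobSch.frob_comp, ← Category.assoc, hs, hπ, Category.id_comp]
  · induction n with
    | zero => exact e
    | succ n ih =>
      haveI : IsIso (FrobSch.frob Y p) := hY
      rw [← cancel_epi (FrobSch.frob Y p), FrobSch.frob_comp, FrobSch.frob_comp, Category.assoc, Category.assoc,
        hπ, ih]
  · haveI : IsIso (FrobSch.frob Y p) := hY
    let gn : ℕ → (Y ⟶ X) := fun n => Nat.rec g (fun _ h => inv (FrobSch.frob Y p) ≫ h) n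
    have hg : ∀ n, gn (n + 1) ≫ FrobSch.frob X p = gn n := fun n => by
      show (inv (FrobSch.frob Y p) ≫ gn n) ≫ _ = _
      rw [Category.assoc, ← FrobSch.frob_comp, IsIso.inv_hom_id_assoc]
    exact ⟨hc.lift (mkCone p X gn hg), hc.fac _ (op (ULift.up 0))⟩

end Exists

section Structure

variable {X XP : Scheme.{u}} [FrobSch.IsCharP XP p]

theorem isAffineHom [FrobSch.IsCharP X p] {π : XP ⟶ X} (h : FrobSch.IsPerfection π p) : IsAffineHom π := by
  obtain ⟨XP', _, π', h', ha, -⟩ := exists_perfection p X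
  obtain ⟨e, rfl⟩ := exists_iso p h h'
  infer_instance

/-- The preimage of an open is perfect. -/
theorem isPerfect_open (hP : FrobSch.IsPerfect XP p) (V : XP.Opens) [FrobSch.IsCharP V p] :
    FrobSch.IsPerfect V p := by
  haveI : IsIso (FrobSch.frob XP p) := hP
  haveI : IsOpenImmersion (FrobSch.frob V p ≫ V.ι) := by
    rw [FrobSch.frob_comp]; infer_instance
  haveI : IsOpenImmersion (FrobSch.frob V p) := IsOpenImmersion.of_comp _ V.ι
  haveI : Epi (FrobSch.frob V p).base := by
    rw [FrobSch.frob_base]; infer_instance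
  exact IsOpenImmersion.isIso _

/-- Perfections restrict to opens. -/
theorem restrict {π : XP ⟶ X} (h : FrobSch.IsPerfection π p) (U : X.Opens)
    [FrobSch.IsCharP (π ⁻¹ᵁ U) p] : FrobSch.IsPerfection (π ∣_ U) p := by
  refine ⟨isPerfect_open p h.1 _, fun Y _ hY => ⟨fun a b e => ?_, fun g => ?_⟩⟩
  · rw [← cancel_mono (π ⁻¹ᵁ U).ι]
    refine (h.2 Y hY).1 ?_
    show (a ≫ (π ⁻¹ᵁ U).ι) ≫ π = (b ≫ (π ⁻¹ᵁ U).ι) ≫ π
    rw [Category.assoc, Category.assoc, ← morphismRestrict_ι, ← Category.assoc, ← Category.assoc]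
    exact congrArg (· ≫ U.ι) e
  · obtain ⟨k, hk⟩ := (h.2 Y hY).2 (g ≫ U.ι)
    replace hk : k ≫ π = g ≫ U.ι := hk
    have hr : Set.range k ⊆ Set.range (π ⁻¹ᵁ U).ι := by
      rw [Scheme.Opens.range_ι]
      rintro _ ⟨y, rfl⟩
      show π (k y) ∈ U
      rw [← Scheme.Hom.comp_apply, hk, Scheme.Hom.comp_apply]
      exact (g y).2
    refine ⟨IsOpenImmersion.lift (π ⁻¹ᵁ U).ι k hr, ?_⟩
    show _ ≫ π ∣_ U = g
    rw [← cancel_mono U.ι, Category.assoc, morphismRestrict_ι, ← Category.assoc, IsOpenImmersion.lift_fac, hk]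

lemma surjective (π : XP ⟶ X) [FrobSch.IsCharP X p] (h : FrobSch.IsPerfection π p) : Surjective π := by
  refine ⟨fun x => ?_⟩
  let K : Type u := AlgebraicClosure (X.residueField x)
  let g : Spec (CommRingCat.of K) ⟶ X :=
    Spec.map (CommRingCat.ofHom (algebraMap (X.residueField x) K)) ≫ X.fromSpecResidueField x
  haveI : FrobSch.IsCharP (Spec (CommRingCat.of K)) p := FrobSch.IsCharP.of_hom g p
  haveI := FrobSchLib.expChar_residueField p x
  haveI : ExpChar K p := expChar_of_injective_ringHom (algebraMap (X.residueField x) K).injective p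
  obtain ⟨k, hk⟩ := (h.2 _ (isPerfect_spec p (PerfectRing.bijective_frobenius (R := K) (p := p)))).2 g
  replace hk : k ≫ π = g := hk
  let pt : Spec (CommRingCat.of K) := IsLocalRing.closedPoint K
  refine ⟨k pt, ?_⟩
  rw [← Scheme.Hom.comp_apply, hk, Scheme.Hom.comp_apply, Scheme.fromSpecResidueField_apply]

lemma universallyInjective (π : XP ⟶ X) [FrobSch.IsCharP X p] (h : FrobSch.IsPerfection π p) :
    UniversallyInjective π := by
  refine ((tfae_universallyInjective π).out 0 1 rfl rfl).mpr fun K _ a b e => ?_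
  let L : Type u := AlgebraicClosure K
  let j : Spec (CommRingCat.of L) ⟶ Spec (CommRingCat.of K) := Spec.map (CommRingCat.ofHom (algebraMap K L))
  haveI : Flat j := (HasRingHomProperty.Spec_iff (P := @Flat)).2 (RingHom.flat_algebraMap_iff.2 inferInstance)
  haveI : Surjective j := ⟨fun y => ⟨IsLocalRing.closedPoint L, Subsingleton.elim _ _⟩⟩
  haveI : Epi j := inferInstance
  haveI : FrobSch.IsCharP (Spec (CommRingCat.of L)) p := FrobSch.IsCharP.of_hom (j ≫ a ≫ π) p
  haveI hL : CharP L p := by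
    refine (CharP.charP_iff_prime_eq_zero Fact.out).2 ?_
    have h0 := congrArg (Scheme.ΓSpecIso (CommRingCat.of L)).hom
      (FrobSch.IsCharP.natCast_eq_zero (X := Spec (CommRingCat.of L)) (p := p))
    rwa [map_natCast, map_zero] at h0
  haveI : ExpChar L p := ExpChar.prime Fact.out
  rw [← cancel_epi j]
  refine (h.2 _ (isPerfect_spec p (PerfectRing.bijective_frobenius (R := L) (p := p)))).1 ?_
  show (j ≫ a) ≫ π = (j ≫ b) ≫ π
  rw [Category.assoc, Category.assoc]
  exact congrArg (j ≫ ·) e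

end Structure

end Groth.Agent.H9Misc.PerfSchLib
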