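import Mathlib
import Groth.Prelude.Def_Frob
import Groth.Prelude.Def_Pic
import Groth.Agent.PerfModel7.Factor
import Groth.Agent.H9Misc.PerfSchLib
import Groth.Agent.AmpleDesc5.RelStage
import Groth.Agent.AmpleX.Extend
import Groth.Agent.AmpleX.Pow
import Groth.Agent.InvX.GenLocusPull

/-! Invertible sheaves on perfections. -/

set_option autoImplicit false
set_option maxHeartbeats 1000000
set_option linter.style.haveILetI false

universe u

open CategoryTheory CategoryTheory.Limits AlgebraicGeometry Opposite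
open Groth.Agent.H23.PicMul

namespace Groth.Agent.H9Misc.PerfPic

open Groth.Agent.InvX

section Frames

variable {X : Scheme.{u}} {ι : Type u} {U : ι → X.Opens} {M N : X.Modules}

/-- Modules with frames on the same cover and the same transition functions are isomorphic. -/
theorem nonempty_iso_of_frames (hcov : ∀ x, ∃ a, x ∈ U a) (e : ∀ a, Γ(M, U a)) (n : ∀ a, Γ(N, U a))
    (he : ∀ a, IsFrame (e a)) (hn : ∀ a, IsFrame (n a))
    (h : ∀ (a b : ι) (W : X.Opens) (ha : W ≤ U a) (hb : W ≤ U b), ∃ g : Γ(X, W),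
      AModX.res M hb (e b) = g • AModX.res M ha (e a) ∧ AModX.res N hb (n b) = g • AModX.res N ha (n a)) :
    Nonempty (M ≅ N) := by
  have hc : ∀ (a b : ι) (W : X.Opens) (ha : W ≤ U a) (hb : W ≤ U b) (g : Γ(X, W)),
      AModX.res M hb (e b) = g • AModX.res M ha (e a) →
        AModX.res N hb (n b) = g • AModX.res N ha (n a) := fun a b W ha hb g hg => by
    obtain ⟨g', h1, h2⟩ := h a b W ha hb
    rwa [(he a).coord_unique ha (hg.symm.trans h1)]
  have hc' : ∀ (a b : ι) (W : X.Opens) (ha : W ≤ U a) (hb : W ≤ U b) (g : Γ(X, W)),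
      AModX.res N hb (n b) = g • AModX.res N ha (n a) →
        AModX.res M hb (e b) = g • AModX.res M ha (e a) := fun a b W ha hb g hg => by
    obtain ⟨g', h1, h2⟩ := h a b W ha hb
    rwa [(hn a).coord_unique ha (hg.symm.trans h2)]
  let φ := ofFrames hcov he hc
  let ψ := ofFrames hcov hn hc'
  have h1 : φ ≫ ψ = 𝟙 M := hom_ext_of_frames U hcov e he fun a => by
    show ψ.app (U a) (φ.app (U a) (e a)) = e a
    rw [ofFrames_app, ofFrames_app]
  have h2 : ψ ≫ φ = 𝟙 N := hom_ext_of_frames U hcov n hn fun a => by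
    show φ.app (U a) (ψ.app (U a) (n a)) = n a
    rw [ofFrames_app, ofFrames_app]
  exact ⟨⟨φ, ψ, h1, h2⟩⟩

end Frames

section Frob

variable (p : ℕ) [Fact p.Prime] {X : Scheme.{u}} [FrobSch.IsCharP X p]

/-- The inverse image of a section under Frobenius, over the same open. -/
noncomputable def frobElt {L : X.Modules} {U : X.Opens} (e : Γ(L, U)) :
    Γ((Scheme.Modules.pullback (FrobSch.frob X p)).obj L, U) :=
  pullElt (FrobSch.frob X p) e

lemma isFrame_frobElt {L : X.Modules} {U : X.Opens} {e : Γ(L, U)} (he : IsFrame e) :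
    IsFrame (frobElt p e) :=
  isFrame_pullElt (FrobSch.frob X p) he

lemma res_frobElt {L : X.Modules} {U V : X.Opens} (h : V ≤ U) (e : Γ(L, U)) :
    AModX.res _ h (frobElt p e) = frobElt p (AModX.res L h e) :=
  res_pullElt (FrobSch.frob X p) h e

lemma frobElt_smul {L : X.Modules} {U : X.Opens} (g : Γ(X, U)) (e : Γ(L, U)) :
    frobElt p (g • e) = (g ^ p) • frobElt p e :=
  pullElt_smul (FrobSch.frob X p) g e

/-- Frobenius pulls an invertible sheaf back to its p-th power. -/
theorem nonempty_pullback_frob {L : X.Modules} (hL : PicF.IsInvertible L) :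
    Nonempty ((Scheme.Modules.pullback (FrobSch.frob X p)).obj L ≅ CohB1.tensorPow L p) := by
  choose U hx e he using fun x : X => exists_frame hL x
  refine nonempty_iso_of_frames (ι := X) (U := U) (fun x => ⟨x, hx x⟩)
    (fun a => frobElt p (e a)) (fun a => AmpleX.powElt (e a) p) (fun a => isFrame_frobElt p (he a))
    (fun a => AmpleX.isFrame_powElt (he a) p) fun a b W ha hb => ?_
  obtain ⟨k, hk⟩ := (he a).exists_coord ha (AModX.res L hb (e b))
  refine ⟨k ^ p, ?_, ?_⟩
  · rw [res_frobElt, res_frobElt, hk, frobElt_smul]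
  · rw [AmpleX.res_powElt, AmpleX.res_powElt, hk, AmpleX.powElt_smul]

theorem pullCl_fi {L : X.Modules} (hL : PicF.IsInvertible L) (n : ℕ) :
    PicF.pullCl (PerfModel7.fi p X n) (PicF.cl L) = PicF.cl L ^ (p ^ n) := by
  induction n with
  | zero => rw [pow_zero, pow_one]; exact PicClLib.pullCl_id _
  | succ n ih =>
    have hf : PicF.pullCl (FrobSch.frob X p) (PicF.cl L) = PicF.cl L ^ p := by
      rw [← cl_tensorPow]
      exact cl_eq_iff.2 (nonempty_pullback_frob p hL)
    show PicF.pullCl (PerfModel7.fi p X n ≫ FrobSch.frob X p) (PicF.cl L) = _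
    rw [← PicClLib.pullCl_comp, hf, pullCl_pow, ih, ← pow_mul, pow_succ]

open H9Misc.PerfSchLib in
theorem map_towerℕ_zero (n : ℕ) :
    (towerℕ p X).map (homOfLE (Nat.zero_le n)).op = PerfModel7.fi p X n := by
  induction n with
  | zero => exact (towerℕ p X).map_id _
  | succ n ih =>
    rw [show (homOfLE (Nat.zero_le (n + 1))).op = (homOfLE (Nat.le_add_right n 1)).op ≫ (homOfLE (Nat.zero_le n)).op
      from rfl, Functor.map_comp, towerℕ_succ, ih]
    exact (PerfModel7.fi_comm p (FrobSch.frob X p) n).symm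

end Frob

section Perfection

open H9Misc.PerfSchLib

variable (p : ℕ) [Fact p.Prime] {X XP : Scheme.{u}} [FrobSch.IsCharP X p] [FrobSch.IsCharP XP p]
  [CompactSpace X] [QuasiSeparatedSpace X] (πX : XP ⟶ X) (hX : FrobSch.IsPerfection πX p)

omit [CompactSpace X] [QuasiSeparatedSpace X] in
theorem map_tower_zero (j : (ULift.{u} ℕ)ᵒᵖ) (φ : j ⟶ op (ULift.up 0)) :
    ((tower p X).map φ : X ⟶ X) = PerfModel7.fi p X j.unop.down :=
  map_towerℕ_zero p j.unop.down

include hX in
/-- Invertible sheaves on the perfection come from the scheme, up to a power of p. -/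
theorem exists_pow_eq_pullCl {M : XP.Modules} (hM : PicF.IsInvertible M) :
    ∃ (n : ℕ) (N : X.Modules), PicF.IsInvertible N ∧
      PicF.cl M ^ (p ^ n) = PicF.pullCl πX (PicF.cl N) := by
  obtain ⟨c, hc, e, hce⟩ := PerfModel7.exists_tower_cone p πX hX
  haveI : ∀ i, CompactSpace ((tower p X).obj i) := fun _ => ‹CompactSpace X›
  haveI : ∀ i, QuasiSeparatedSpace ((tower p X).obj i) := fun _ => ‹QuasiSeparatedSpace X›
  obtain ⟨j, N, hN, hi⟩ := AmpleDesc5.exists_invertible_stage (tower p X) hc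
    (PicClLib.isInvertible_pullback e.inv hM)
  let N' : X.Modules := N
  have hN' : PicF.IsInvertible N' := hN
  refine ⟨j.unop.down, N', hN', ?_⟩
  let π : c.pt ⟶ X := c.π.app j
  have h1 : (e.hom ≫ π) ≫ PerfModel7.fi p X j.unop.down = πX := (hce j.unop.down).2
  have h2 : PicF.pullCl π (PicF.cl N') = PicF.pullCl e.inv (PicF.cl M) := cl_eq_iff.2 hi
  have h3 : PicF.pullCl (e.hom ≫ π) (PicF.cl N') = PicF.cl M := by
    rw [← PicClLib.pullCl_comp, h2, PicClLib.pullCl_comp, e.hom_inv_id, PicClLib.pullCl_id]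
  rw [← h1, ← PicClLib.pullCl_comp (e.hom ≫ π), pullCl_fi p hN', pullCl_pow]
  exact congrArg (· ^ _) h3.symm

omit [CompactSpace X] [QuasiSeparatedSpace X] in
include hX in
theorem pullCl_eq_pow {L : X.Modules} (hL : PicF.IsInvertible L) (n : ℕ) :
    ∃ g : XP ⟶ X, PicF.pullCl πX (PicF.cl L) = PicF.pullCl g (PicF.cl L ^ (p ^ n)) := by
  obtain ⟨c, hc, e, hce⟩ := PerfModel7.exists_tower_cone p πX hX
  let π : c.pt ⟶ X := c.π.app (op (ULift.up n))
  have h1 : (e.hom ≫ π) ≫ PerfModel7.fi p X n = πX := (hce n).2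
  exact ⟨e.hom ≫ π, by rw [← h1, ← PicClLib.pullCl_comp, pullCl_fi p hL]⟩

include hX in
/-- An invertible sheaf is trivial on the perfection iff a power of p kills it. -/
theorem pullCl_eq_one_iff {L : X.Modules} (hL : PicF.IsInvertible L) :
    PicF.pullCl πX (PicF.cl L) = 1 ↔ ∃ n : ℕ, PicF.cl L ^ (p ^ n) = 1 := by
  refine ⟨fun h => ?_, fun ⟨n, hn⟩ => ?_⟩
  · obtain ⟨c, hc, e, hce⟩ := PerfModel7.exists_tower_cone p πX hX
    let i₀ : (ULift.{u} ℕ)ᵒᵖ := op (ULift.up 0)
    haveI : ∀ (a b : (ULift.{u} ℕ)ᵒᵖ) (f : a ⟶ b), IsAffineHom ((tower p X).map f) := fun a b f => inferInstance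
    haveI : CompactSpace ((tower p X).obj i₀) := ‹CompactSpace X›
    haveI : QuasiSeparatedSpace ((tower p X).obj i₀) := ‹QuasiSeparatedSpace X›
    let π : c.pt ⟶ X := c.π.app i₀
    have h1 : (e.hom ≫ π) ≫ 𝟙 X = πX := (hce 0).2
    rw [Category.comp_id] at h1
    have h2 : PicF.pullCl π (PicF.cl L) = PicF.pullCl π 1 := by
      have h' := congrArg (PicF.pullCl e.inv) h
      rw [← h1, PicClLib.pullCl_comp, Iso.inv_hom_id_assoc, pullCl_one] at h'
      rw [h', pullCl_one]
    let L₀ : ((tower p X).obj i₀).Modules := L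
    let O₀ : ((tower p X).obj i₀).Modules := Coh.structureModule X
    haveI : Coh.IsQCoh L₀ := AmpleDesc5.isQCoh_of_isInvertible hL
    haveI : Coh.IsQCoh O₀ := AmpleDesc5.isQCoh_of_isInvertible (PicLoc.isInvertible_structureModule X)
    obtain ⟨j, φ, hj⟩ := (S4790.result (tower p X) c hc i₀ L₀ O₀
      (AmpleDesc5.isFP_of_isInvertible hL)
      (AmpleDesc5.isFP_of_isInvertible (PicLoc.isInvertible_structureModule X))).1 (cl_eq_iff.1 h2)
    refine ⟨j.unop.down, ?_⟩
    have h3 : PicF.pullCl ((tower p X).map φ : X ⟶ X) (PicF.cl L) =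
        PicF.pullCl ((tower p X).map φ : X ⟶ X) 1 := cl_eq_iff.2 hj
    rw [map_tower_zero p j φ] at h3
    have h4 : PicF.pullCl (PerfModel7.fi p X j.unop.down) (PicF.cl L) =
        PicF.pullCl (PerfModel7.fi p X j.unop.down) (1 : PicF.Cl X) := h3
    exact ((pullCl_fi p hL _).symm.trans h4).trans (pullCl_one _)
  · obtain ⟨g, hg⟩ := pullCl_eq_pow p πX hX hL n
    rw [hg, hn, pullCl_one]

include hX in
/-- Ampleness can be checked on the perfection. -/
theorem isAmple_iff_perfection {L : X.Modules} (hL : PicF.IsInvertible L) :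
    CohB1.IsAmple L ↔ CohB1.IsAmple ((Scheme.Modules.pullback πX).obj L) := by
  refine ⟨fun h => ?_, fun h => ?_⟩
  · haveI : IsAffineHom πX := PerfSchLib.isAffineHom p hX
    haveI : CompactSpace XP := QuasiCompact.compactSpace_of_compactSpace πX
    exact AmpleVan.FiniteSurj.isAmple_pullback_of_isAffineHom πX h
  · obtain ⟨c, hc, e, hce⟩ := PerfModel7.exists_tower_cone p πX hX
    let i₀ : (ULift.{u} ℕ)ᵒᵖ := op (ULift.up 0)
    haveI : ∀ i, CompactSpace ((tower p X).obj i) := fun _ => ‹CompactSpace X›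
    haveI : ∀ i, QuasiSeparatedSpace ((tower p X).obj i) := fun _ => ‹QuasiSeparatedSpace X›
    let π : c.pt ⟶ X := c.π.app i₀
    have h1 : (e.hom ≫ π) ≫ 𝟙 X = πX := (hce 0).2
    rw [Category.comp_id] at h1
    have hπ : e.inv ≫ πX = π := by rw [← h1, Iso.inv_hom_id_assoc]
    haveI : CompactSpace XP := h.2.1
    haveI : CompactSpace c.pt := QuasiCompact.compactSpace_of_compactSpace e.inv
    have h2 : CohB1.IsAmple ((Scheme.Modules.pullback π).obj L) :=
      AmpleX.isAmple_of_iso ((Scheme.Modules.pullbackComp e.inv πX).app L ≪≫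
        (Scheme.Modules.pullbackCongr hπ).app L)
        (AmpleVan.FiniteSurj.isAmple_pullback_of_isAffineHom e.inv h)
    let L₀ : ((tower p X).obj i₀).Modules := L
    obtain ⟨j, φ, hj⟩ := AmpleDesc5.exists_isAmple_pullback_stage (tower p X) hc (i := i₀) (M := L₀) hL h2
    have h3 : CohB1.IsAmple ((Scheme.Modules.pullback ((tower p X).map φ : X ⟶ X)).obj L) := hj
    rw [map_tower_zero p j φ] at h3
    obtain ⟨i⟩ := cl_eq_iff.1 ((pullCl_fi p hL j.unop.down).trans (cl_tensorPow L _).symm)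
    exact AmpleX.isAmple_of_tensorPow hL (pow_pos (Fact.out : p.Prime).pos _) (AmpleX.isAmple_of_iso i h3)

end Perfection

end Groth.Agent.H9Misc.PerfPic
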