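import Mathlib
import Groth.Agent.H9Misc.PerfSchLib

/-! Perfections over affine opens. -/

set_option linter.style.haveILetI false

universe u

open CategoryTheory CategoryTheory.Limits AlgebraicGeometry Opposite

namespace Groth.Agent.H9Misc.PerfSchLib

variable {p : ℕ} [Fact p.Prime] {X XP : Scheme.{u}} [FrobSch.IsCharP XP p] [FrobSch.IsCharP X p]
  {π : XP ⟶ X}

lemma powHom_iterate {S : Type u} [CommRing S] (hS : (p : S) = 0) (n : ℕ) (x y : S) :
    (x + y) ^ p ^ n = x ^ p ^ n + y ^ p ^ n := by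
  induction n with
  | zero => simp
  | succ n ih =>
    rw [pow_succ, pow_mul, pow_mul, pow_mul, ih]
    exact (FrobSch.powHom p S hS).map_add _ _

lemma bijective_pow_pow {S : Type u} [CommRing S] (h : Function.Bijective fun s : S => s ^ p) (n : ℕ) :
    Function.Bijective fun s : S => s ^ p ^ n := by
  induction n with
  | zero => simp only [pow_zero, pow_one]; exact Function.bijective_id
  | succ n ih =>
    have : (fun s : S => s ^ p ^ (n + 1)) = (fun s => s ^ p) ∘ fun s => s ^ p ^ n := by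
      funext s; simp [pow_succ, pow_mul]
    rw [this]
    exact h.comp ih

lemma charP_zero_of_isCharP (S : CommRingCat.{u}) [FrobSch.IsCharP (Spec S) p] : (p : S) = 0 := by
  have h0 := congrArg (Scheme.ΓSpecIso S).hom (FrobSch.IsCharP.natCast_eq_zero (X := Spec S) (p := p))
  rwa [map_natCast, map_zero] at h0

/-- On affine opens, every section of the perfection has a `p^n`-th power coming from the base. -/
theorem exists_pow_eq (h : FrobSch.IsPerfection π p) {U : X.Opens} (hU : IsAffineOpen U)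
    (s : Γ(XP, π ⁻¹ᵁ U)) : ∃ (n : ℕ) (r : Γ(X, U)), (π.app U).hom r = s ^ p ^ n := by
  haveI := isAffineHom p h
  let V := π ⁻¹ᵁ U
  have hV : IsAffineOpen V := hU.preimage π
  let S := Γ(XP, V)
  let i : Γ(X, U) ⟶ S := π.appLE U V le_rfl
  have hi : ∀ r, i r = (π.app U).hom r := fun r => by
    show π.appLE U (π ⁻¹ᵁ U) le_rfl r = _
    rw [Scheme.Hom.app_eq_appLE]
  have hp : (p : S) = 0 := FrobSch.natCast_eq_zero_app XP p V
  have hbij : Function.Bijective fun t : S => t ^ p := bijective_pow_of_isPerfect p h.1 V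
  let R' : Subring S :=
    { carrier := {t | ∃ (n : ℕ) (r : Γ(X, U)), i r = t ^ p ^ n}
      mul_mem' := by
        rintro a b ⟨n, r, hr⟩ ⟨m, r', hr'⟩
        refine ⟨n + m, r ^ p ^ m * r' ^ p ^ n, ?_⟩
        rw [map_mul, map_pow, map_pow, hr, hr', mul_pow, ← pow_mul, ← pow_mul, ← pow_add, ← pow_add,
          Nat.add_comm m n]
      one_mem' := ⟨0, 1, by simp⟩
      add_mem' := by
        rintro a b ⟨n, r, hr⟩ ⟨m, r', hr'⟩
        refine ⟨n + m, r ^ p ^ m + r' ^ p ^ n, ?_⟩
        rw [map_add, map_pow, map_pow, hr, hr', powHom_iterate hp, ← pow_mul, ← pow_mul, ← pow_add, ← pow_add,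
          Nat.add_comm m n]
      zero_mem' := ⟨0, 0, by simp⟩
      neg_mem' := by
        rintro a ⟨n, r, hr⟩
        refine ⟨n, -r, ?_⟩
        have h2 := powHom_iterate hp n a (-a)
        rw [add_neg_cancel, zero_pow (pow_ne_zero _ (Fact.out : p.Prime).ne_zero), eq_comm, ← hr] at h2
        rw [map_neg]
        exact neg_eq_of_add_eq_zero_right h2 }
  let incl : CommRingCat.of R' ⟶ S := CommRingCat.ofHom R'.subtype
  let i' : Γ(X, U) ⟶ CommRingCat.of R' :=
    CommRingCat.ofHom (i.hom.codRestrict R' fun r => ⟨0, r, by simp⟩)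
  let g : Spec (CommRingCat.of R') ⟶ X := Spec.map i' ≫ hU.fromSpec
  haveI : FrobSch.IsCharP (Spec (CommRingCat.of R')) p := FrobSch.IsCharP.of_hom g p
  haveI : FrobSch.IsCharP (Spec S) p := FrobSch.IsCharP.of_hom hV.fromSpec p
  have hR' : Function.Bijective fun t : R' => t ^ p := by
    refine ⟨fun a b e => Subtype.ext (hbij.1 (congrArg Subtype.val e)), fun a => ?_⟩
    obtain ⟨t, ht⟩ := hbij.2 a.1
    replace ht : t ^ p = a.1 := ht
    obtain ⟨n, r, hr⟩ := a.2
    refine ⟨⟨t, n + 1, r, ?_⟩, Subtype.ext ht⟩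
    rw [pow_succ', pow_mul, ht, hr]
  obtain ⟨k, hk⟩ := (h.2 _ (isPerfect_spec p hR')).2 g
  replace hk : k ≫ π = g := hk
  have hr : Set.range k ⊆ Set.range hV.fromSpec := by
    rw [hV.range_fromSpec]
    rintro _ ⟨y, rfl⟩
    show π (k y) ∈ U
    rw [← Scheme.Hom.comp_apply, hk, Scheme.Hom.comp_apply]
    have : hU.fromSpec (Spec.map i' y) ∈ Set.range hU.fromSpec := ⟨_, rfl⟩
    rwa [hU.range_fromSpec] at this
  let k' := IsOpenImmersion.lift hV.fromSpec k hr
  have hq : Spec.map incl ≫ k = hV.fromSpec := by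
    refine (h.2 _ (isPerfect_spec p hbij)).1 ?_
    show (Spec.map incl ≫ k) ≫ π = hV.fromSpec ≫ π
    rw [Category.assoc, hk, ← Category.assoc, ← Spec.map_comp,
      ← IsAffineOpen.SpecMap_appLE_fromSpec π hU hV le_rfl]
    rfl
  have hq' : Spec.map incl ≫ k' = 𝟙 _ := by
    rw [← cancel_mono hV.fromSpec, Category.assoc, IsOpenImmersion.lift_fac, Category.id_comp, hq]
  obtain ⟨φ, hφ⟩ := Spec.map_surjective k'
  rw [← hφ, ← Spec.map_comp, ← Spec.map_id] at hq'
  have hφ' := Spec.map_injective hq'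
  obtain ⟨n, r, hn⟩ := (φ s).2
  refine ⟨n, r, ?_⟩
  rw [← hi, hn]
  exact congrArg (· ^ p ^ n) (ConcreteCategory.congr_hom hφ' s)

/-- On affine opens, the kernel consists of nilpotents. -/
theorem isNilpotent_of_app_eq_zero (h : FrobSch.IsPerfection π p) {U : X.Opens} (hU : IsAffineOpen U)
    (r : Γ(X, U)) (hr : π.app U r = 0) : IsNilpotent r := by
  rw [Scheme.isNilpotent_iff_basicOpen_eq_bot_of_isCompact hU.isCompact]
  ext x
  refine ⟨fun hx => ?_, False.elim⟩
  obtain ⟨y, rfl⟩ := (surjective p π h).surj x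
  have hy : y ∈ π ⁻¹ᵁ X.basicOpen r := hx
  rw [Scheme.preimage_basicOpen, hr, Scheme.basicOpen_zero] at hy
  exact hy

theorem isIntegralHom (h : FrobSch.IsPerfection π p) : IsIntegralHom π := by
  haveI := isAffineHom p h
  refine ⟨fun U hU s => ?_⟩
  obtain ⟨n, r, hr⟩ := exists_pow_eq h hU s
  refine ⟨Polynomial.X ^ p ^ n - Polynomial.C r,
    Polynomial.monic_X_pow_sub_C _ (pow_ne_zero _ (Fact.out : p.Prime).ne_zero), ?_⟩
  rw [Polynomial.eval₂_sub, Polynomial.eval₂_X_pow, Polynomial.eval₂_C]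
  exact sub_eq_zero.2 hr.symm

theorem isUnivHomeo (h : FrobSch.IsPerfection π p) : FlatMor.IsUnivHomeo π := by
  haveI := isIntegralHom h
  haveI := universallyInjective p π h
  haveI := surjective p π h
  exact MorLib.isUnivHomeo_of_universallyClosed π

end Groth.Agent.H9Misc.PerfSchLib
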