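import Mathlib
import Groth.Agent.H9Misc.PerfSchAffine
import Groth.Agent.Pi1X.FEtFull
import Groth.Agent.PerfLib.Flat

/-! Properties of the perfection of a morphism. -/

set_option linter.style.haveILetI false

universe u

open CategoryTheory CategoryTheory.Limits AlgebraicGeometry Opposite

namespace Groth.Agent.H9Misc.PerfSchLib

open Groth.Agent.MorLib

variable {p : ℕ} [Fact p.Prime] {X Y XP YP : Scheme.{u}}
  [FrobSch.IsCharP X p] [FrobSch.IsCharP Y p] [FrobSch.IsCharP XP p] [FrobSch.IsCharP YP p]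
  {πX : XP ⟶ X} {πY : YP ⟶ Y} (hX : FrobSch.IsPerfection πX p) (hY : FrobSch.IsPerfection πY p)
  {f : X ⟶ Y} {fP : XP ⟶ YP} (w : fP ≫ πY = πX ≫ f)

lemma quasiCompact_of_comp_surjective {A B C : Scheme.{u}} (a : A ⟶ B) (b : B ⟶ C) [Surjective a]
    [QuasiCompact (a ≫ b)] : QuasiCompact b := by
  refine ⟨fun U hU hc => ?_⟩
  have := ((a ≫ b).isCompact_preimage (U := ⟨U, hU⟩) hc).image a.continuous
  rw [← Set.image_preimage_eq (b ⁻¹' U) a.surjective]
  exact this

lemma diagonal_map {A B C : Scheme.{u}} (a : A ⟶ B) (b : B ⟶ C) :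
    pullback.diagonal (a ≫ b) ≫ pullback.map (a ≫ b) (a ≫ b) b b a a (𝟙 C) (Category.comp_id _) (Category.comp_id _) =
      a ≫ pullback.diagonal b := by
  apply pullback.hom_ext
  · rw [Category.assoc, Category.assoc, pullback.diagonal_fst, Category.comp_id, pullback.lift_fst,
      pullback.diagonal_fst_assoc]
  · rw [Category.assoc, Category.assoc, pullback.diagonal_snd, Category.comp_id, pullback.lift_snd,
      pullback.diagonal_snd_assoc]

include hX hY w

theorem quasiCompact_iff : QuasiCompact f ↔ QuasiCompact fP := by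
  haveI := isAffineHom p hX
  haveI := isAffineHom p hY
  haveI := surjective p πX hX
  constructor <;> intro h
  · haveI : QuasiCompact (fP ≫ πY) := by rw [w]; infer_instance
    exact QuasiCompact.of_comp fP πY
  · haveI : QuasiCompact (πX ≫ f) := by rw [← w]; infer_instance
    exact quasiCompact_of_comp_surjective πX f

theorem quasiSeparated_iff : QuasiSeparated f ↔ QuasiSeparated fP := by
  haveI := isAffineHom p hX
  haveI := isAffineHom p hY
  haveI := surjective p πX hX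
  constructor <;> intro h
  · haveI : QuasiSeparated (fP ≫ πY) := by rw [w]; infer_instance
    exact QuasiSeparated.of_comp fP πY
  · haveI : QuasiSeparated (πX ≫ f) := by rw [← w]; infer_instance
    let m : pullback (πX ≫ f) (πX ≫ f) ⟶ pullback f f :=
      pullback.map (πX ≫ f) (πX ≫ f) f f πX πX (𝟙 Y) (by simp) (by simp)
    haveI : QuasiCompact m :=
      MorphismProperty.pullbackMap (P := @QuasiCompact) (inferInstanceAs (QuasiCompact πX))
        (inferInstanceAs (QuasiCompact πX)) rfl rfl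
    have e : pullback.diagonal (πX ≫ f) ≫ m = πX ≫ pullback.diagonal f := diagonal_map πX f
    haveI : QuasiCompact (pullback.diagonal (πX ≫ f)) := QuasiSeparated.quasiCompact_diagonal
    haveI : QuasiCompact (πX ≫ pullback.diagonal f) := by rw [← e]; infer_instance
    exact ⟨quasiCompact_of_comp_surjective πX _⟩

theorem isSeparated_iff : IsSeparated f ↔ IsSeparated fP := by
  haveI := isIntegralHom hX
  haveI := isAffineHom p hY
  haveI := surjective p πX hX
  constructor <;> intro h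
  · haveI : IsSeparated (fP ≫ πY) := by rw [w]; infer_instance
    exact IsSeparated.of_comp fP πY
  · haveI : IsSeparated (πX ≫ f) := by rw [← w]; infer_instance
    let m : pullback (πX ≫ f) (πX ≫ f) ⟶ pullback f f :=
      pullback.map (πX ≫ f) (πX ≫ f) f f πX πX (𝟙 Y) (by simp) (by simp)
    haveI : UniversallyClosed m :=
      MorphismProperty.pullbackMap (P := @UniversallyClosed) (inferInstanceAs (UniversallyClosed πX))
        (inferInstanceAs (UniversallyClosed πX)) rfl rfl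
    have e : pullback.diagonal (πX ≫ f) ≫ m = πX ≫ pullback.diagonal f := diagonal_map πX f
    haveI : IsClosedImmersion (pullback.diagonal (πX ≫ f)) := IsSeparated.isClosedImmersion_diagonal
    haveI : UniversallyClosed (πX ≫ pullback.diagonal f) := by rw [← e]; infer_instance
    haveI : UniversallyClosed (pullback.diagonal f) := UniversallyClosed.of_comp_surjective πX _
    exact ⟨IsClosedImmersion.of_isPreimmersion _ (pullback.diagonal f).isClosedMap.isClosed_range⟩

theorem universallyClosed_iff : UniversallyClosed f ↔ UniversallyClosed fP := by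
  haveI := isIntegralHom hX
  haveI := isIntegralHom hY
  haveI := surjective p πX hX
  constructor <;> intro h
  · haveI : UniversallyClosed (fP ≫ πY) := by rw [w]; infer_instance
    exact UniversallyClosed.of_comp_of_isSeparated fP πY
  · haveI : UniversallyClosed (πX ≫ f) := by rw [← w]; infer_instance
    exact UniversallyClosed.of_comp_surjective πX f

omit hX hY w in
lemma isUnivHomeo_comp {A B C : Scheme.{u}} {a : A ⟶ B} {b : B ⟶ C} (ha : FlatMor.IsUnivHomeo a)
    (hb : FlatMor.IsUnivHomeo b) : FlatMor.IsUnivHomeo (a ≫ b) := by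
  obtain ⟨_, _, _⟩ := isUnivHomeo_iff.1 ha
  obtain ⟨_, _, _⟩ := isUnivHomeo_iff.1 hb
  haveI : UniversallyInjective (a ≫ b) := MorphismProperty.comp_mem @UniversallyInjective a b ‹_› ‹_›
  exact isUnivHomeo_of_universallyClosed _

theorem isUnivHomeo_iff' : FlatMor.IsUnivHomeo f ↔ FlatMor.IsUnivHomeo fP :=
  ⟨fun h => isUnivHomeo_two_out_of_three_left fP πY (w ▸ isUnivHomeo_comp (isUnivHomeo hX) h) (isUnivHomeo hY),
    fun h => isUnivHomeo_two_out_of_three_right πX f (w ▸ isUnivHomeo_comp h (isUnivHomeo hY)) (isUnivHomeo hX)⟩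

omit hY in
theorem fP_unique (hY : FrobSch.IsPerfection πY p) (k : XP ⟶ YP) (hk : k ≫ πY = πX ≫ f) : fP = k :=
  (hY.2 XP hX.1).1 (w.trans hk.symm)

omit hY w in
theorem comp_isIso {Z : Scheme.{u}} (g : X ⟶ Z) [IsIso g] : FrobSch.IsPerfection (πX ≫ g) p := by
  refine ⟨hX.1, fun T _ hT => ?_⟩
  have : (fun k : T ⟶ XP => k ≫ πX ≫ g) = (fun k => k ≫ g) ∘ fun k => k ≫ πX := by
    funext k; simp
  rw [this]
  have hg : Function.Bijective fun k : T ⟶ X => k ≫ g :=
    ⟨fun a b e => (cancel_mono g).1 e, fun k => ⟨k ≫ inv g, by simp⟩⟩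
  exact hg.comp ((hX.2 T) hT)

theorem isAffineHom_iff : IsAffineHom f ↔ IsAffineHom fP := by
  haveI := isAffineHom p hX
  haveI := isAffineHom p hY
  constructor <;> intro h
  · haveI : IsAffineHom (fP ≫ πY) := by rw [w]; infer_instance
    exact MorphismProperty.of_postcomp (W := @IsAffineHom) (W' := @IsSeparated) fP πY inferInstance ‹_›
  · haveI : QuasiCompact f := (quasiCompact_iff hX hY w).2 inferInstance
    haveI : QuasiSeparated f := (quasiSeparated_iff hX hY w).2 inferInstance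
    refine ⟨fun V hV => ?_⟩
    let U : X.Opens := f ⁻¹ᵁ V
    haveI : FrobSch.IsCharP (U : Scheme.{u}) p := FrobSch.IsCharP.of_hom U.ι p
    haveI : FrobSch.IsCharP ↑(πX ⁻¹ᵁ U) p := FrobSch.IsCharP.of_hom (πX ⁻¹ᵁ U).ι p
    have hU : IsAffineOpen (πX ⁻¹ᵁ U) := by
      have e : πX ⁻¹ᵁ U = fP ⁻¹ᵁ (πY ⁻¹ᵁ V) := by
        rw [← Scheme.Hom.comp_preimage, ← Scheme.Hom.comp_preimage, w]
      rw [e]
      exact (hV.preimage πY).preimage fP
    obtain ⟨UP, _, π', hπ', -, c, hc, ⟨e⟩⟩ := exists_perfection p (U : Scheme.{u})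
    obtain ⟨e', -⟩ := exists_iso p hπ' (restrict p hX U)
    haveI : IsAffine ↑(πX ⁻¹ᵁ U) := hU
    haveI : IsAffine c.pt := IsAffine.of_isIso (e ≪≫ e').hom
    haveI : CompactSpace U := isCompact_iff_compactSpace.1 (f.isCompact_preimage hV.isCompact)
    haveI : QuasiSeparatedSpace U :=
      (isQuasiSeparated_iff_quasiSeparatedSpace _ U.2).1 (f.isQuasiSeparated_preimage hV.isQuasiSeparated)
    haveI : ∀ i, CompactSpace ((tower p (U : Scheme.{u})).obj i) := fun _ => ‹CompactSpace U›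
    haveI : ∀ i, QuasiSeparatedSpace ((tower p (U : Scheme.{u})).obj i) := fun _ => ‹QuasiSeparatedSpace U›
    obtain ⟨_, hi⟩ := Scheme.exists_isAffine_of_isLimit (tower p (U : Scheme.{u})) c hc
    exact hi

theorem isOpenImmersion [IsOpenImmersion f] : IsOpenImmersion fP := by
  let U : Y.Opens := f.opensRange
  haveI : FrobSch.IsCharP ↑(πY ⁻¹ᵁ U) p := FrobSch.IsCharP.of_hom (πY ⁻¹ᵁ U).ι p
  obtain ⟨e, he⟩ := exists_iso p (comp_isIso hX f.isoOpensRange.hom) (restrict p hY U)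
  rw [fP_unique hX w hY (e.hom ≫ (πY ⁻¹ᵁ U).ι)]
  · infer_instance
  · rw [Category.assoc, ← morphismRestrict_ι, reassoc_of% he, Scheme.Hom.isoOpensRange_hom_ι]

theorem isClosedImmersion [IsClosedImmersion f] : IsClosedImmersion fP := by
  haveI := isAffineHom p hX
  haveI := isAffineHom p hY
  haveI : IsAffineHom fP := (isAffineHom_iff hX hY w).1 inferInstance
  refine (IsZariskiLocalAtTarget.iff_of_iSup_eq_top (P := @IsClosedImmersion)
    (fun V : Y.affineOpens => πY ⁻¹ᵁ V.1) ?_).2 fun ⟨V, hV⟩ => ?_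
  · rw [← Scheme.Hom.preimage_iSup, iSup_affineOpens_eq_top, Scheme.Hom.preimage_top]
  haveI : IsAffine ↑(πY ⁻¹ᵁ V) := hV.preimage πY
  haveI : IsAffine ↑(fP ⁻¹ᵁ (πY ⁻¹ᵁ V)) := (hV.preimage πY).preimage fP
  refine IsClosedImmersion.of_surjective_of_isAffine _ ?_
  have key : Function.Surjective (fP.app (πY ⁻¹ᵁ V)) := by
    intro s
    have he : πX ⁻¹ᵁ (f ⁻¹ᵁ V) = fP ⁻¹ᵁ (πY ⁻¹ᵁ V) := by
      rw [← Scheme.Hom.comp_preimage, ← Scheme.Hom.comp_preimage, w]
    let s' : Γ(XP, πX ⁻¹ᵁ (f ⁻¹ᵁ V)) := XP.presheaf.map (eqToHom he).op s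
    obtain ⟨n, r, hr⟩ := exists_pow_eq hX (hV.preimage f) s'
    obtain ⟨t, rfl⟩ := f.app_surjective V hV r
    obtain ⟨q, hq⟩ := (bijective_pow_pow (bijective_pow_of_isPerfect p hY.1 (πY ⁻¹ᵁ V)) n).2 (πY.app V t)
    replace hq : q ^ p ^ n = πY.app V t := hq
    refine ⟨q, (bijective_pow_pow (bijective_pow_of_isPerfect p hX.1 _) n).1 ?_⟩
    show fP.app _ q ^ p ^ n = s ^ p ^ n
    rw [← map_pow, hq]
    have h1 : (f.app V ≫ πX.app (f ⁻¹ᵁ V)) ≫ XP.presheaf.map (eqToHom he.symm).op =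
        πY.app V ≫ fP.app (πY ⁻¹ᵁ V) := by
      have := Scheme.Hom.congr_app w V
      rw [Scheme.Hom.comp_app, Scheme.Hom.comp_app] at this
      exact this.symm
    refine (ConcreteCategory.congr_hom h1 t).symm.trans ?_
    show XP.presheaf.map _ ((πX.app (f ⁻¹ᵁ V)) (f.app V t)) = _
    rw [hr, map_pow]
    congr 1
    show XP.presheaf.map _ (XP.presheaf.map _ s) = s
    rw [← CategoryTheory.comp_apply, ← Functor.map_comp]
    simp
  rw [morphismRestrict_appTop]
  have e : (πY ⁻¹ᵁ V).ι ''ᵁ ⊤ = πY ⁻¹ᵁ V := Scheme.Opens.ι_image_top _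
  have gen : ∀ W : YP.Opens, W = πY ⁻¹ᵁ V → Function.Surjective (fP.app W) := fun W hW => hW ▸ key
  exact (ConcreteCategory.bijective_of_isIso (C := CommRingCat) (XP.presheaf.map _)).surjective.comp (gen _ e)

theorem isImmersion [IsImmersion f] : IsImmersion fP := by
  let W : Y.Opens := f.coborderRange
  haveI : FrobSch.IsCharP (W : Scheme.{u}) p := FrobSch.IsCharP.of_hom W.ι p
  haveI : FrobSch.IsCharP ↑(πY ⁻¹ᵁ W) p := FrobSch.IsCharP.of_hom (πY ⁻¹ᵁ W).ι p
  obtain ⟨k, hk⟩ := ((restrict p hY W).2 XP hX.1).2 (πX ≫ f.liftCoborder)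
  replace hk : k ≫ πY ∣_ W = πX ≫ f.liftCoborder := hk
  haveI := isClosedImmersion hX (restrict p hY W) hk
  rw [fP_unique hX w hY (k ≫ (πY ⁻¹ᵁ W).ι)]
  · infer_instance
  · rw [Category.assoc, ← morphismRestrict_ι, reassoc_of% hk, Scheme.Hom.liftCoborder_ι]

theorem isPullback [Etale f] : IsPullback fP πX πY f := by
  let P := pullback f πY
  haveI : FrobSch.IsCharP P p := FrobSch.IsCharP.of_hom (pullback.snd f πY) p
  have hP : FrobSch.IsPerfect P p := by
    haveI : IsIso (FrobSch.frob YP p) := hY.1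
    haveI : Etale (FrobSch.frob P p ≫ pullback.snd f πY) := by
      rw [FrobSch.frob_comp]; infer_instance
    haveI : Etale (FrobSch.frob P p) := Etale.of_comp _ (pullback.snd f πY)
    haveI := FrobSchLib.universallyInjective_frob p P
    haveI := Pi1X.isOpenImmersion_of_etale_universallyInjective (FrobSch.frob P p)
    haveI : Epi (FrobSch.frob P p).base := by
      rw [FrobSch.frob_base]; infer_instance
    exact IsOpenImmersion.isIso _
  obtain ⟨l, hl⟩ := (hX.2 P hP).2 (pullback.fst f πY)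
  replace hl : l ≫ πX = pullback.fst f πY := hl
  have hl' : l ≫ fP = pullback.snd f πY := by
    refine (hY.2 P hP).1 ?_
    show (l ≫ fP) ≫ πY = pullback.snd f πY ≫ πY
    rw [Category.assoc, w, reassoc_of% hl, pullback.condition]
  let k : XP ⟶ P := pullback.lift πX fP w.symm
  have hk : k ≫ l = 𝟙 XP := by
    refine (hX.2 XP hX.1).1 ?_
    show (k ≫ l) ≫ πX = 𝟙 XP ≫ πX
    rw [Category.assoc, hl, pullback.lift_fst, Category.id_comp]
  have hk' : l ≫ k = 𝟙 P := by
    apply pullback.hom_ext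
    · rw [Category.assoc, pullback.lift_fst, hl, Category.id_comp]
    · rw [Category.assoc, pullback.lift_snd, hl', Category.id_comp]
  exact (IsPullback.of_iso_pullback ⟨w.symm⟩ ⟨k, l, hk, hk'⟩ (pullback.lift_fst _ _ _) (pullback.lift_snd _ _ _)).flip

omit hX hY w in
lemma isPerfectClosure_app {Z ZP : Scheme.{u}} [FrobSch.IsCharP Z p] [FrobSch.IsCharP ZP p] {π : ZP ⟶ Z}
    (h : FrobSch.IsPerfection π p) {U : Z.Opens} (hU : IsAffineOpen U) :
    IsPRadical (π.app U).hom p where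
  pow_mem' x := exists_pow_eq h hU x
  ker_le' x hx := by
    rw [pNilradical_eq_nilradical (Fact.out : p.Prime).one_lt, mem_nilradical]
    exact isNilpotent_of_app_eq_zero h hU x hx

theorem flat [Flat f] : Flat fP := by
  haveI := isAffineHom p hX
  haveI := isAffineHom p hY
  rw [HasRingHomProperty.iff_exists_appLE (P := @Flat)
    (RingHom.Flat.stableUnderComposition.stableUnderCompositionWithLocalizationAway
      RingHom.Flat.holdsForLocalizationAway).1]
  intro x
  obtain ⟨_, ⟨V, hV, rfl⟩, hxV, -⟩ :=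
    Y.isBasis_affineOpens.exists_subset_of_mem_open (Set.mem_univ (f (πX x))) isOpen_univ
  obtain ⟨_, ⟨U, hU, rfl⟩, hxU, hUV⟩ :=
    X.isBasis_affineOpens.exists_subset_of_mem_open (show πX x ∈ f ⁻¹ᵁ V from hxV) (f ⁻¹ᵁ V).2
  have e : πX ⁻¹ᵁ U ≤ fP ⁻¹ᵁ (πY ⁻¹ᵁ V) := by
    rw [← Scheme.Hom.comp_preimage, w, Scheme.Hom.comp_preimage]
    exact πX.preimage_mono hUV
  refine ⟨⟨_, hV.preimage πY⟩, ⟨_, hU.preimage πX⟩, hxU, e, ?_⟩
  have hy : f (πX x) ∈ V := hUV hxU
  haveI : Nonempty U := ⟨⟨_, hxU⟩⟩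
  haveI : Nonempty V := ⟨⟨_, hy⟩⟩
  haveI : Nonempty ↑(πX ⁻¹ᵁ U) := ⟨⟨x, hxU⟩⟩
  haveI : Nonempty ↑(πY ⁻¹ᵁ V) := ⟨⟨fP x, e hxU⟩⟩
  have hc : ∀ (Z : Scheme.{u}) [FrobSch.IsCharP Z p] (W : Z.Opens) [Nonempty W], CharP Γ(Z, W) p :=
    fun Z _ W _ => (CharP.charP_iff_prime_eq_zero Fact.out).2 (FrobSch.natCast_eq_zero_app Z p W)
  haveI := hc X U
  haveI := hc Y V
  haveI := hc XP (πX ⁻¹ᵁ U)
  haveI := hc YP (πY ⁻¹ᵁ V)
  haveI : PerfectRing Γ(XP, πX ⁻¹ᵁ U) p := ⟨bijective_pow_of_isPerfect p hX.1 _⟩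
  haveI : PerfectRing Γ(YP, πY ⁻¹ᵁ V) p := ⟨bijective_pow_of_isPerfect p hY.1 _⟩
  haveI : IsPerfectClosure (πX.app U).hom p := isPerfectClosure_app hX hU
  haveI : IsPerfectClosure (πY.app V).hom p := isPerfectClosure_app hY hV
  refine PerfLib.flat_perfection (φ := (f.appLE V U hUV).hom) (i := (πY.app V).hom) (j := (πX.app U).hom) p
    (f.flat_appLE hV hU hUV) ?_
  rw [← CommRingCat.hom_comp, ← CommRingCat.hom_comp, Scheme.Hom.app_eq_appLE, Scheme.Hom.app_eq_appLE,
    Scheme.Hom.appLE_comp_appLE, Scheme.Hom.appLE_comp_appLE]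
  simp only [w]

theorem surjective_fP [Surjective f] : Surjective fP := by
  haveI := surjective p πX hX
  haveI := universallyInjective p πY hY
  refine ⟨fun y => ?_⟩
  obtain ⟨x, hx⟩ := (πX ≫ f).surjective (πY y)
  refine ⟨x, πY.injective ?_⟩
  rw [← Scheme.Hom.comp_apply, w, hx]

end Groth.Agent.H9Misc.PerfSchLib
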