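import Groth.Agent.H9Misc.PlusRB
import Groth.Agent.TriCat.AcyclicObj
import Groth.Agent.TriCat.RPlusSingle

/-! Composition of bounded below derived functors. -/

universe w v u

open CategoryTheory Category Limits

namespace Groth.Agent.H9Misc.PlusComp

variable {A B C : Type u} [Category.{v} A] [Category.{v} B] [Category.{v} C] [Abelian A] [Abelian B]
  [Abelian C] [HasDerivedCategory.{w} A] [HasDerivedCategory.{w} B] [HasDerivedCategory.{w} C]
  [EnoughInjectives A] [EnoughInjectives B]
  (F : A ⥤ B) [F.Additive] (G : B ⥤ C) [G.Additive] [PreservesFiniteLimits G]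
  (hFG : ∀ I : A, Injective I →
      IsIso (G.rightDerivedFunctorPlusUnit.app ((HomotopyCategory.Plus.singleFunctor B 0).obj (F.obj I))))

include hFG

lemma isIso_unit_mapPlus (X : HomotopyCategory.Plus A) [∀ n, Injective (X.obj.as.X n)] :
    IsIso (G.rightDerivedFunctorPlusUnit.app (F.mapHomotopyCategoryPlus.obj X)) := by
  obtain ⟨K, rfl⟩ := HomotopyCategory.Plus.quotient_obj_surjective X
  exact TriCat.isIso_unit_of_adapted G TriCat.isAdapted_isRightAcyclic
    (fun X => ⟨Injective.under X, Injective.ι X, TriCat.isRightAcyclic_of_injective _, inferInstance⟩)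
    (F.mapCochainComplexPlus.obj K) (fun n => ((TriCat.isIso_unit_single_iff G _).1
      (hFG (K.obj.X n) (inferInstanceAs (Injective (((HomotopyCategory.Plus.quotient A).obj K).obj.as.X n))))).2)

/-- The composite transformation is universal. -/
theorem isRightDerived {H : A ⥤ C} [H.Additive]
    (c : H.mapHomotopyCategoryPlus ≅ F.mapHomotopyCategoryPlus ⋙ G.mapHomotopyCategoryPlus) :
    (F.rightDerivedFunctorPlus ⋙ G.rightDerivedFunctorPlus).IsRightDerivedFunctor
      (Functor.whiskerRight c.hom DerivedCategory.Plus.Qh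
        ≫ (Functor.associator _ _ _).hom
        ≫ Functor.whiskerLeft F.mapHomotopyCategoryPlus G.rightDerivedFunctorPlusUnit
        ≫ (Functor.associator _ _ _).inv
        ≫ Functor.whiskerRight F.rightDerivedFunctorPlusUnit G.rightDerivedFunctorPlus
        ≫ (Functor.associator _ _ _).hom)
      (HomotopyCategory.Plus.quasiIso A) := by
  set γ : H.mapHomotopyCategoryPlus ⋙ DerivedCategory.Plus.Qh ⟶
      DerivedCategory.Plus.Qh ⋙ F.rightDerivedFunctorPlus ⋙ G.rightDerivedFunctorPlus :=
      Functor.whiskerRight c.hom DerivedCategory.Plus.Qh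
        ≫ (Functor.associator _ _ _).hom
        ≫ Functor.whiskerLeft F.mapHomotopyCategoryPlus G.rightDerivedFunctorPlusUnit
        ≫ (Functor.associator _ _ _).inv
        ≫ Functor.whiskerRight F.rightDerivedFunctorPlusUnit G.rightDerivedFunctorPlus
        ≫ (Functor.associator _ _ _).hom with hγ
  let W := HomotopyCategory.Plus.quasiIso A
  let α := H.rightDerivedFunctorPlusUnit
  rw [Functor.isRightDerivedFunctor_iff_isIso_rightDerivedDesc H.rightDerivedFunctorPlus α W]
  have hY : ∀ Y, IsIso ((H.rightDerivedFunctorPlus.rightDerivedDesc α W _ γ).app Y) := fun Y => by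
    obtain ⟨X, hX, hX', ⟨e⟩⟩ := PlusRB.exists_rep Y
    refine (NatTrans.isIso_app_iff_of_iso _ e).1 ?_
    have h := H.rightDerivedFunctorPlus.rightDerived_fac_app α W _ γ X
    have := hX'
    have : IsIso (γ.app X) := by
      have := isIso_unit_mapPlus F G hFG X
      rw [hγ]
      simp only [NatTrans.comp_app, Functor.whiskerLeft_app, Functor.whiskerRight_app,
        Functor.associator_hom_app, Functor.associator_inv_app]
      infer_instance
    have : IsIso (α.app X ≫ (H.rightDerivedFunctorPlus.rightDerivedDesc α W _ γ).app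
      (DerivedCategory.Plus.Qh.obj X)) := by rw [h]; infer_instance
    exact IsIso.of_isIso_comp_left (α.app X) _
  exact NatIso.isIso_of_isIso_app _

end Groth.Agent.H9Misc.PlusComp
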