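import Groth.Agent.H9Misc.FinHom
import Groth.Agent.KExact.ProjPC
import Groth.Agent.H28.PerfGen
import Groth.Agent.KFlatLib.Perfect.Corollaries
import Groth.Agent.S1020
import Groth.Agent.S1067
import Groth.Agent.S1070
import Groth.Agent.S1039
import Mathlib.CategoryTheory.Triangulated.Pretriangulated

/-! Coherent bounded objects on projective space over a field. -/

set_option autoImplicit false
set_option linter.style.haveILetI false
set_option backward.isDefEq.respectTransparency false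
set_option backward.isDefEq.respectTransparency.types false
set_option maxHeartbeats 800000

universe u

open CategoryTheory CategoryTheory.Limits AlgebraicGeometry Pretriangulated

attribute [local instance] HasDerivedCategory.standard

noncomputable section

namespace Groth.Agent.H9Misc.PnCrit

open Groth.Agent KFlatLib

variable (n : ℕ) (k : Type u) [Field k]

/-- `P^n_k` over `Spec k`. -/
@[reducible] def overPn : (CohB1.ProjSpace n k).Over (Spec (CommRingCat.of k)) :=
  ⟨CohB1.ProjSpace.toSpec n k⟩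

attribute [local instance] overPn

/-- `O(a)` in the derived category. -/
abbrev O (a : ℤ) : DCoh.D (CohB1.ProjSpace n k) :=
  DCoh.inD (CohB1.ProjSpace n k) (Twist.twistProjSpace n k a)

theorem nonempty_twist_inverse (d : ℤ) :
    Nonempty (CohB1.tensorMod (Twist.twistProjSpace n k (-d)) (Twist.twistProjSpace n k d) ≅
      Coh.structureModule (CohB1.ProjSpace n k)) := by
  obtain ⟨eN⟩ := PnCoh.Finite.twist_tensor_iso (𝒜 := CohB1.polyGrading n k)
    (g := fun i : Fin (n + 1) => (MvPolynomial.X i : MvPolynomial (Fin (n + 1)) k)) (fun i => ProjPt.X_mem i)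
    (top_le_iff.1 fun y _ => TopologicalSpace.Opens.mem_iSup.2 (ProjUPX.cov_X y)) (-d) d
  obtain ⟨e0⟩ := H23.PicMul.cl_eq_iff.1 (Synt29.PnEuler.tw_zero n k)
  exact ⟨eN ≪≫ eqToIso (congrArg (Twist.twistProjSpace n k) (neg_add_cancel d)) ≪≫ e0⟩

/-- A perfect object containing the twists `O, …, O(-j)`. -/
theorem exists_gen (j : ℕ) : ∃ G : DCoh.D (CohB1.ProjSpace n k), DCoh.IsPerfect G ∧
    (∀ (E : DCoh.D (CohB1.ProjSpace n k)), (∀ (m : ℤ) (φ : G⟦m⟧ ⟶ E), φ = 0) →
      ∀ d : ℕ, d ≤ j → ∀ (m : ℤ) (φ : (O n k (-(d : ℤ)))⟦m⟧ ⟶ E), φ = 0) ∧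
    (∀ (E : DCoh.D (CohB1.ProjSpace n k)),
      (∀ d : ℕ, d ≤ j → ∀ φ : O n k (-(d : ℤ)) ⟶ E, φ = 0) → ∀ φ : G ⟶ E, φ = 0) := by
  have hp : ∀ a : ℤ, DCoh.IsPerfect (O n k a) := fun a =>
    H28.PerfGen.locSP_lf (H23.PullPush.isFinLocFree_of_isInvertible (Synt29.PnEuler.isInvertible_O n k a))
  induction j with
  | zero =>
    refine ⟨O n k (-((0 : ℕ) : ℤ)), hp _, fun E h d hd => ?_, fun E h => h 0 le_rfl⟩
    obtain rfl : d = 0 := by omega
    exact h
  | succ j ih =>
    obtain ⟨G, hG, h1, h2⟩ := ih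
    let L := O n k (-((j + 1 : ℕ) : ℤ))
    haveI : HasBinaryBiproducts (DCoh.D (CohB1.ProjSpace n k)) := HasBinaryBiproducts.of_hasBinaryProducts
    refine ⟨G ⊞ L, (KFlatLib.isPerfect_iff _).2 (locSP_obj₂ _ (binaryBiproductTriangle_distinguished G L)
      ((KFlatLib.isPerfect_iff _).1 hG) ((KFlatLib.isPerfect_iff _).1 (hp _))), fun E h d hd m φ => ?_,
      fun E h φ => biprod.hom_ext' _ _ ?_ ?_⟩
    · rcases Nat.lt_or_ge d (j + 1) with hlt | hge
      · refine h1 E (fun m' ψ => ?_) d (by omega) m φ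
        have := h m' ((shiftFunctor _ m').map biprod.fst ≫ ψ)
        calc ψ = (shiftFunctor _ m').map (biprod.inl : G ⟶ G ⊞ L) ≫ (shiftFunctor _ m').map biprod.fst ≫ ψ := by
              rw [← Category.assoc, ← Functor.map_comp, biprod.inl_fst, CategoryTheory.Functor.map_id, Category.id_comp]
          _ = 0 := by rw [this, comp_zero]
      · obtain rfl : d = j + 1 := by omega
        have := h m ((shiftFunctor _ m).map biprod.snd ≫ φ)
        calc φ = (shiftFunctor _ m).map (biprod.inr : L ⟶ G ⊞ L) ≫ (shiftFunctor _ m).map biprod.snd ≫ φ := by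
              rw [← Category.assoc, ← Functor.map_comp, biprod.inr_snd, CategoryTheory.Functor.map_id, Category.id_comp]
          _ = 0 := by rw [this, comp_zero]
    · rw [comp_zero]
      exact h2 E (fun d hd => h d (by omega)) _
    · rw [comp_zero]
      exact h (j + 1) le_rfl _

variable {n k}

/-- The criterion: finite dimensional maps out of `O, …, O(-n)`. -/
theorem cohbP_of_finite (M : DCoh.D (CohB1.ProjSpace n k)) (hM : DCoh.IsQCohD M)
    (h : ∀ d : ℕ, d ≤ n →
      (∀ i : ℤ, Module.Finite k (O n k (-(d : ℤ)) ⟶ (shiftFunctor (DCoh.D (CohB1.ProjSpace n k)) i).obj M)) ∧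
      Set.Finite {i : ℤ | Nontrivial (O n k (-(d : ℤ)) ⟶ (shiftFunctor (DCoh.D (CohB1.ProjSpace n k)) i).obj M)}) :
    SGA6.cohbP (CohB1.ProjSpace n k) M := by
  let P := CohB1.ProjSpace n k
  haveI : IsProper (CohB1.ProjSpace.toSpec n k) := PnCoh.Chow.isProper_toSpec n k
  haveI : IsProper (P ↘ Spec (CommRingCat.of k)) := ‹IsProper (CohB1.ProjSpace.toSpec n k)›
  haveI : IsNoetherian P := KExact.BCNat.isNoetherian_of_ft (P ↘ Spec (CommRingCat.of k))
  haveI := hasRpush_scheme (CohB1.ProjSpace.toSpec n k)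
  haveI : DCoh.HasRpush (P ↘ Spec (CommRingCat.of k)) := hasRpush_scheme _
  haveI : ∀ d : ℤ, DCoh.HasLTensorMod (Twist.twistProjSpace n k d) := fun d => hasLTensorMod _
  have hpc : ∀ m, DCoh.IsPseudoCoherentD m M := (Groth.Agent.S1070.result n k M hM).2 fun d hd m => by
    obtain ⟨eN⟩ := nonempty_twist_inverse n k (d : ℤ)
    have hiff := fun i => TwistFF.finite_twist_iff (k := k) (Synt29.PnEuler.isInvertible_O n k (d : ℤ)) eN M i
    refine (isPseudoCoherentD_iff _ _).2 (FinHom.locPC_rpush (k := k) (X := P) _ ?_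
      (fun i => (hiff i).1.2 ((h d hd).1 i)) ((h d hd).2.subset fun i hi => (hiff i).2.1 hi) m)
    exact fun i => isQCoh_of_iso ((DerivedCategory.homologyFunctor _ i).mapIso
      ((KExact.ProjTw.ltensorTwIso (d : ℤ)).app M)).symm (KExact.ProjTw.isQCohD_tw (d : ℤ) hM i)
  obtain ⟨-, b, hb⟩ := (Groth.Agent.S1039.result P M hM 0).1 (hpc 0)
  refine ⟨fun i => ((Groth.Agent.S1039.result P M hM i).1 (hpc i)).1 i le_rfl, ?_⟩
  obtain ⟨G, hG, h1, h2⟩ := exists_gen n k n
  have hgen : ∀ E : DCoh.D P, DCoh.IsQCohD E → (∀ (m : ℤ) (φ : G⟦m⟧ ⟶ E), φ = 0) → IsZero E := fun E hE h0 =>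
    Groth.Agent.S1067.result n k E hE (h1 E h0)
  have hfin : Set.Finite (⋃ d ∈ Finset.range (n + 1),
      {i : ℤ | Nontrivial (O n k (-(d : ℤ)) ⟶ (shiftFunctor (DCoh.D P) i).obj M)}) :=
    Set.Finite.biUnion (Finset.finite_toSet _) fun d hd => (h d (by simpa [Finset.mem_range, Nat.lt_succ_iff] using hd)).2
  obtain ⟨c, hc⟩ := hfin.bddBelow
  obtain ⟨a, ha⟩ := (Groth.Agent.S1020.result P G hG hgen M hM).2 ⟨c - 1, fun i hi φ => by
    let e := (shiftEquiv (DCoh.D P) i).symm.toAdjunction.homEquiv G M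
    have h0 : ∀ ψ : G ⟶ (shiftFunctor (DCoh.D P) i).obj M, ψ = 0 := h2 _ fun d hd ψ => by
      by_contra hψ
      have := hc (Set.mem_biUnion (Finset.mem_coe.2 (Finset.mem_range.2 (Nat.lt_succ_of_le hd)))
        (nontrivial_of_ne ψ 0 hψ))
      omega
    exact e.injective ((h0 _).trans (h0 _).symm)⟩
  exact ⟨a, b, ha, hb⟩

end Groth.Agent.H9Misc.PnCrit
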