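import Groth.Agent.H9Misc.TopHom
import Groth.Agent.H9Misc.TelLocal
import Groth.Agent.SiteBase.RpushD.Devissage
import Groth.Agent.KFlatLib.Scheme.Pullback
import Groth.Agent.QCoh.Stalk
import Groth.Prelude.Def_DCoh2

/-! Maps to skyscrapers in the derived category. -/

set_option linter.style.haveILetI false
set_option linter.unusedSectionVars false
set_option backward.isDefEq.respectTransparency false
set_option backward.isDefEq.respectTransparency.types false
set_option maxHeartbeats 800000

universe u

open CategoryTheory CategoryTheory.Limits AlgebraicGeometry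

attribute [local instance] HasDerivedCategory.standard

noncomputable section

namespace Groth.Agent.H9Misc.SkyHom

open Groth.Agent KFlatLib IsLocalRing

/-- The residue field as a module. -/
abbrev res (R : Type u) [CommRing R] [IsLocalRing R] : ModuleCat.{u} R := ModuleCat.of R (R ⧸ maximalIdeal R)

theorem forall_le_iff {R : Type u} [CommRing R] [IsLocalRing R] (K : DerivedCategory (ModuleCat.{u} R)) (c : ℤ)
    [K.IsLE c] (hfg : ∀ i, Module.Finite R ((DerivedCategory.homologyFunctor (ModuleCat.{u} R) i).obj K)) (b : ℤ) :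
    (∀ i, b < i → IsZero ((DerivedCategory.homologyFunctor (ModuleCat.{u} R) i).obj K)) ↔
      ∀ i, b < i → ∀ φ : K ⟶ ((DerivedCategory.singleFunctor (ModuleCat.{u} R) 0).obj (res R))⟦-i⟧, φ = 0 := by
  constructor
  · intro h i hi φ
    haveI : K.IsLE b := (DerivedCategory.isLE_iff K b).2 fun j hj => h j hj
    haveI := DerivedCategory.TStructure.t.isGE_shift ((DerivedCategory.singleFunctor (ModuleCat.{u} R) 0).obj (res R))
      0 (-i) i (by omega)
    exact DerivedCategory.TStructure.t.zero_of_isLE_of_isGE φ b i hi inferInstance inferInstance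
  · intro h
    by_contra hne
    push_neg at hne
    have hbd : ∀ j, (b < j ∧ ¬ IsZero ((DerivedCategory.homologyFunctor (ModuleCat.{u} R) j).obj K)) → j ≤ c :=
      fun j hj => le_of_not_gt fun hlt => hj.2 (DerivedCategory.isZero_of_isLE K c j hlt)
    obtain ⟨m, ⟨hbm, hm⟩, hmax⟩ := Int.exists_greatest_of_bdd (P := fun j =>
      b < j ∧ ¬ IsZero ((DerivedCategory.homologyFunctor (ModuleCat.{u} R) j).obj K)) ⟨c, hbd⟩ hne
    haveI : K.IsLE m := (DerivedCategory.isLE_iff K m).2 fun j hj => by
      by_contra hj'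
      exact absurd (hmax j ⟨lt_trans hbm hj, hj'⟩) (not_le.2 hj)
    let M := (DerivedCategory.homologyFunctor (ModuleCat.{u} R) m).obj K
    haveI := hfg m
    haveI : Nontrivial M := not_subsingleton_iff_nontrivial.1 fun hs => hm (ModuleCat.isZero_of_iff_subsingleton.2 hs)
    have hne' : maximalIdeal R • (⊤ : Submodule R M) ≠ ⊤ := Submodule.top_ne_ideal_smul_of_le_jacobson_annihilator
      (maximalIdeal_le_jacobson _) |>.symm
    let Q := M ⧸ (maximalIdeal R • ⊤ : Submodule R M)
    haveI : Nontrivial Q := Submodule.Quotient.nontrivial_iff.2 hne'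
    letI : Module (R ⧸ maximalIdeal R) Q := inferInstance
    letI : Field (R ⧸ maximalIdeal R) := Ideal.Quotient.field _
    obtain ⟨q, hq⟩ := exists_ne (0 : Q)
    obtain ⟨l, hl⟩ := (Module.Projective.exists_dual_ne_zero (R ⧸ maximalIdeal R) hq)
    let φ : M ⟶ res R := ModuleCat.ofHom ((l.restrictScalars R).comp (Submodule.mkQ _))
    obtain ⟨f, hf⟩ := TopHom.exists_nonzero K m φ fun h0 => by
      obtain ⟨z, rfl⟩ := Submodule.Quotient.mk_surjective _ q
      exact hl (LinearMap.congr_fun (congrArg ModuleCat.Hom.hom h0) z)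
    exact hf (h m hbm f)

variable {X : Scheme.{u}}

/-- Maps to a shifted skyscraper are maps out of the stalk complex. -/
theorem forall_sky_iff (x : X) (K : DCoh.D X) (hK : DCoh.IsCohD K) (c : ℤ) [DerivedCategory.IsLE K c] (b : ℤ)
    {P : X.Modules} (e : P ≅ (sky x).obj (res (X.presheaf.stalk x))) :
    (∀ i : ℤ, b < i → x ∉ CohB1.support (DCoh.HD K i)) ↔
      ∀ i : ℤ, b < i → ∀ φ : K ⟶ (shiftFunctor (DCoh.D X) (-i)).obj (DCoh.inD X P), φ = 0 := by
  let T : X.Modules ⥤ ModuleCat.{u} (X.presheaf.stalk x) := DerSch.stalkFunctor X x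
  haveI : T.IsLeftAdjoint := (skyAdj x).isLeftAdjoint
  haveI : PreservesFiniteColimits T := inferInstance
  haveI : PreservesFiniteLimits (sky x) :=
    haveI := (skyAdj x).isRightAdjoint
    inferInstance
  haveI : PreservesFiniteColimits (sky x) :=
    by
      have h := ((Functor.exact_tfae (sky x)).out 1 3).1 (exact_map_sky x)
      exact h.2
  let a := TelLocal.derivedAdjunction (skyAdj x)
  let K' := T.mapDerivedCategory.obj K
  have hH : ∀ i, Nonempty ((DerivedCategory.homologyFunctor (ModuleCat.{u} (X.presheaf.stalk x)) i).obj K' ≅ T.obj (DCoh.HD K i)) := fun i =>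
    SiteBase.RpushD.nonempty_homology_mapDerived T K i
  haveI : K'.IsLE c := (DerivedCategory.isLE_iff K' c).2 fun i hi =>
    (T.map_isZero (DerivedCategory.isZero_of_isLE K c i hi)).of_iso (hH i).some
  have hfg : ∀ i, Module.Finite (X.presheaf.stalk x) ((DerivedCategory.homologyFunctor (ModuleCat.{u} (X.presheaf.stalk x)) i).obj K') := fun i => by
    haveI : Module.Finite (X.presheaf.stalk x) (T.obj (DCoh.HD K i)) :=
      QCoh.finite_stalk_of_isFT (M := DCoh.HD K i) (hK i).1 (hK i).2 x
    exact Module.Finite.equiv (hH i).some.toLinearEquiv.symm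
  have hsupp : ∀ i, x ∉ CohB1.support (DCoh.HD K i) ↔ IsZero ((DerivedCategory.homologyFunctor (ModuleCat.{u} (X.presheaf.stalk x)) i).obj K') :=
    fun i => (not_not.trans (ModuleCat.isZero_of_iff_subsingleton (M := T.obj (DCoh.HD K i))).symm).trans
      ⟨fun h => h.of_iso (hH i).some, fun h => h.of_iso (hH i).some.symm⟩
  simp only [hsupp]
  rw [forall_le_iff K' c hfg b]
  refine forall₂_congr fun i _ => ?_
  let N := ((DerivedCategory.singleFunctor (ModuleCat.{u} (X.presheaf.stalk x)) 0).obj (res (X.presheaf.stalk x)))⟦-i⟧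
  let d : (sky x).mapDerivedCategory.obj N ≅ (shiftFunctor (DCoh.D X) (-i)).obj (DCoh.inD X P) :=
    ((sky x).mapDerivedCategory.commShiftIso (-i)).app _ ≪≫ (shiftFunctor (DCoh.D X) (-i)).mapIso
      (((sky x).mapDerivedCategorySingleFunctor 0).app _ ≪≫ (DerivedCategory.singleFunctor X.Modules 0).mapIso e.symm)
  haveI := a.right_adjoint_additive
  haveI := a.left_adjoint_additive
  constructor
  · intro h φ
    have h0 := h ((a.homEquiv K N).symm (φ ≫ d.inv))
    rw [Equiv.symm_apply_eq, Adjunction.homEquiv_unit, Functor.map_zero, comp_zero] at h0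
    exact zero_of_comp_mono d.inv h0
  · intro h φ
    have h0 := zero_of_comp_mono d.hom (h (a.homEquiv K N φ ≫ d.hom))
    rw [← (a.homEquiv K N).symm_apply_apply φ, h0, Adjunction.homEquiv_counit, Functor.map_zero, zero_comp]

end Groth.Agent.H9Misc.SkyHom
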