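import Groth.Agent.H9Misc.PerfSerre
import Groth.Agent.H9Misc.EndsHom
import Groth.Agent.S6720
import Groth.Agent.S4637
import Groth.Agent.QCoh.DevissageP
import Groth.Agent.KZ.RegPerf
import Mathlib.RingTheory.FiniteLength

/-!
# The Serre functor fixes closed points up to shift
-/

set_option autoImplicit false
set_option linter.style.haveILetI false
set_option linter.unusedSectionVars false
set_option backward.isDefEq.respectTransparency false
set_option backward.isDefEq.respectTransparency.types false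
set_option maxHeartbeats 1000000

universe u

open CategoryTheory CategoryTheory.Limits CategoryTheory.Pretriangulated AlgebraicGeometry Opposite IsLocalRing

attribute [local instance] HasDerivedCategory.standard

noncomputable section

namespace Groth.Agent.H9Misc.PointSerre

open Groth.Agent KFlatLib SerreRep SerreRight PerfSerre

variable {X : Scheme.{u}}

/-- The skyscraper at `x`. -/
abbrev pt (x : X) : X.Modules := (Coh.push (X.fromSpecResidueField x)).obj (Coh.structureModule _)

theorem subsingleton_pt {x y : X} (hx : IsClosed ({x} : Set X)) (hy : y ≠ x) :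
    Subsingleton ((pt x).presheaf.stalk y) := by
  haveI : IsClosedImmersion (X.fromSpecResidueField x) := isClosed_singleton_iff_isClosedImmersion.mp hx
  exact H23.ClosedPushLen.subsingleton_stalk (X.fromSpecResidueField x) _ (by
    rintro ⟨z, hz⟩
    exact hy (hz.symm.trans (X.fromSpecResidueField_apply x z)))

theorem stalk_injective {x : X} {M : X.Modules} {N : ModuleCat.{u} (X.presheaf.stalk x)} (v : M ⟶ (sky x).obj N)
    (h : (DerSch.stalkFunctor X x).map v = 0) : v = 0 := by
  haveI := (skyAdj x).left_adjoint_additive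
  haveI := (skyAdj x).right_adjoint_additive
  apply ((skyAdj x).homEquiv M N).symm.injective
  rw [Adjunction.homEquiv_counit, h, zero_comp, Adjunction.homEquiv_counit, Functor.map_zero, zero_comp]

/-- Nonzero endomorphisms of the skyscraper are isomorphisms. -/
theorem isIso_endo_pt {x : X} (hx : IsClosed ({x} : Set X)) (v : pt x ⟶ pt x) (hv : v ≠ 0) : IsIso v := by
  obtain ⟨e⟩ := SkyPush.nonempty_push_iso x hx
  let T := DerSch.stalkFunctor X x
  let eN : T.obj (pt x) ≅ ModuleCat.of (X.presheaf.stalk x)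
      (X.presheaf.stalk x ⧸ maximalIdeal (X.presheaf.stalk x)) :=
    T.mapIso e ≪≫ (skyStalkIso x).app _
  haveI : IsSimpleModule (X.presheaf.stalk x) (X.presheaf.stalk x ⧸ maximalIdeal (X.presheaf.stalk x)) :=
    isSimpleModule_iff_quot_maximal.2 ⟨_, maximalIdeal.isMaximal _, ⟨LinearEquiv.refl _ _⟩⟩
  haveI := (skyAdj x).left_adjoint_additive
  have hw : T.map v ≠ 0 := fun h0 => hv (zero_of_comp_mono e.hom (stalk_injective _ (by
    rw [Functor.map_comp, show (DerSch.stalkFunctor X x).map v = 0 from h0, zero_comp])))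
  have hiso : IsIso (eN.inv ≫ T.map v ≫ eN.hom) := by
    refine (ConcreteCategory.isIso_iff_bijective _).2 ?_
    refine LinearMap.bijective_of_ne_zero (f := (eN.inv ≫ T.map v ≫ eN.hom).hom) fun h0 => hw ?_
    exact zero_of_comp_mono eN.hom (zero_of_epi_comp eN.inv (ModuleCat.hom_ext h0))
  refine isIso_of_stalk _ fun y => ?_
  by_cases hy : y = x
  · subst hy
    haveI := IsIso.of_isIso_comp_left eN.inv (T.map v ≫ eN.hom)
    exact IsIso.of_isIso_comp_right (T.map v) eN.hom
  · haveI := subsingleton_pt hx hy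
    exact (ConcreteCategory.isIso_iff_bijective _).2 ⟨fun a b _ => Subsingleton.elim (α := (pt x).presheaf.stalk y) a b,
      fun b => ⟨0, Subsingleton.elim (α := (pt x).presheaf.stalk y) _ _⟩⟩

/-- Maps to and from the skyscraper. -/
theorem exists_maps [IsLocallyNoetherian X] {x : X} (hx : IsClosed ({x} : Set X)) (M : X.Modules) (hM : Coh.IsCoh M)
    (hne : ¬ IsZero M) (hsupp : ∀ y, y ≠ x → Subsingleton (M.presheaf.stalk y)) :
    (∃ φ : M ⟶ pt x, φ ≠ 0) ∧ ∃ ψ : pt x ⟶ M, Mono ψ := by
  obtain ⟨e⟩ := SkyPush.nonempty_push_iso x hx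
  haveI := SkyPush.isIso_toSky M x hx hsupp
  let T := DerSch.stalkFunctor X x
  let R := X.presheaf.stalk x
  haveI hfin : Module.Finite R (T.obj M) := QCoh.finite_stalk_of_isFT (M := M) hM.1 hM.2 x
  haveI hnt : Nontrivial (T.obj M) := by
    by_contra hc
    rw [not_nontrivial_iff_subsingleton] at hc
    exact hne (((sky x).map_isZero (ModuleCat.isZero_of_iff_subsingleton.2 hc)).of_iso (asIso (TildeSky.toSky M x)))
  refine ⟨?_, ?_⟩
  · have hne' : maximalIdeal R • (⊤ : Submodule R (T.obj M)) ≠ ⊤ :=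
      Submodule.top_ne_ideal_smul_of_le_jacobson_annihilator (maximalIdeal_le_jacobson _) |>.symm
    let Q := (T.obj M) ⧸ (maximalIdeal R • ⊤ : Submodule R (T.obj M))
    haveI : Nontrivial Q := Submodule.Quotient.nontrivial_iff.2 hne'
    letI : Module (R ⧸ maximalIdeal R) Q := inferInstance
    letI : Field (R ⧸ maximalIdeal R) := Ideal.Quotient.field _
    obtain ⟨q, hq⟩ := exists_ne (0 : Q)
    obtain ⟨l, hl⟩ := (Module.Projective.exists_dual_ne_zero (R ⧸ maximalIdeal R) hq)
    let p : T.obj M ⟶ ModuleCat.of R (R ⧸ maximalIdeal R) :=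
      ModuleCat.ofHom ((l.restrictScalars R).comp (Submodule.mkQ _))
    refine ⟨(skyAdj x).homEquiv _ _ p ≫ e.inv, fun h0 => ?_⟩
    haveI := (skyAdj x).left_adjoint_additive
    have h1 := zero_of_comp_mono e.inv h0
    have h2 : p = 0 := by
      rw [← ((skyAdj x).homEquiv _ _).symm_apply_apply p, h1, Adjunction.homEquiv_counit, Functor.map_zero, zero_comp]
    obtain ⟨z, rfl⟩ := Submodule.Quotient.mk_surjective _ q
    exact hl (LinearMap.congr_fun (congrArg ModuleCat.Hom.hom h2) z)
  · haveI : IsFiniteLength R (T.obj M) := by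
      refine ((Groth.Agent.S4637.result M hM x).1 ⟨hnt, fun y hy _ => ?_⟩).2
      by_contra hyx
      exact (not_nontrivial_iff_subsingleton.2 (hsupp y hyx)) hy
    haveI : IsArtinian R (T.obj M) := (isFiniteLength_iff_isNoetherian_isArtinian.1 ‹_›).2
    obtain ⟨S, hS, -⟩ := (eq_bot_or_exists_atom_le (⊤ : Submodule R (T.obj M))).resolve_left top_ne_bot
    haveI : IsSimpleModule R S := isSimpleModule_iff_isAtom.2 hS
    obtain ⟨I, hI, ⟨eS⟩⟩ := isSimpleModule_iff_quot_maximal.1 ‹IsSimpleModule R S›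
    obtain rfl : I = maximalIdeal R := eq_maximalIdeal hI
    let i : ModuleCat.of R (R ⧸ maximalIdeal R) ⟶ T.obj M := ModuleCat.ofHom (S.subtype.comp eS.symm.toLinearMap)
    haveI : Mono i := (ModuleCat.mono_iff_injective _).2 (S.injective_subtype.comp eS.symm.injective)
    haveI := (skyAdj x).isRightAdjoint
    haveI : (sky x).PreservesMonomorphisms := inferInstance
    exact ⟨e.hom ≫ (sky x).map i ≫ inv (TildeSky.toSky M x), inferInstance⟩

variable (k : Type u) [Field k] [X.Over (Spec (CommRingCat.of k))]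
  [IsProper (X ↘ Spec (CommRingCat.of k))] [(SGA6.perfP X).IsTriangulated]

include k in
theorem perfect_pt (hreg : Models.IsRegularScheme X) {x : X} (hx : IsClosed ({x} : Set X)) :
    DCoh.IsPerfect (DCoh.inD X (pt x)) := by
  haveI : IsNoetherian X := Groth.Agent.KExact.BCNat.isNoetherian_of_ft (X ↘ Spec (CommRingCat.of k))
  haveI : IsClosedImmersion (X.fromSpecResidueField x) := isClosed_singleton_iff_isClosedImmersion.mp hx
  exact KZ.isPerfect_of_isCoh hreg _ (QCoh.isCoh_push_structure (X.fromSpecResidueField x))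

/-- The Serre functor sends the skyscraper to a shift of itself. -/
theorem exists_iso_pt (hreg : Models.IsRegularScheme X) (d : Data k (T X)) {x : X} (hx : IsClosed ({x} : Set X))
    (hP : DCoh.IsPerfect (DCoh.inD X (pt x))) :
    ∃ m : ℤ, Nonempty ((d.S.obj (⟨DCoh.inD X (pt x), hP⟩ : T X)).obj ≅
      (DerivedCategory.singleFunctor X.Modules m).obj (pt x)) := by
  haveI : IsNoetherian X := Groth.Agent.KExact.BCNat.isNoetherian_of_ft (X ↘ Spec (CommRingCat.of k))
  haveI := finite_hom k (X := X)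
  haveI : JacobsonSpace X := LocallyOfFiniteType.jacobsonSpace (X ↘ Spec (CommRingCat.of k))
  let P : T X := ⟨DCoh.inD X (pt x), hP⟩
  let Q := d.S.obj P
  let t := DerivedCategory.TStructure.t (C := X.Modules)
  haveI : P.obj.IsGE 0 := inferInstanceAs (((DerivedCategory.singleFunctor X.Modules 0).obj _).IsGE 0)
  haveI : P.obj.IsLE 0 := inferInstanceAs (((DerivedCategory.singleFunctor X.Modules 0).obj _).IsLE 0)
  obtain ⟨hc, lo, hi, hlo, hhi⟩ := (KZ.isPerfect_iff_of_regular hreg Q.obj).1 Q.property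
  have hPc := ((KZ.isPerfect_iff_of_regular hreg P.obj).1 hP).1
  -- endomorphisms
  have hend : ∀ α : Q.obj ⟶ Q.obj, α ≠ 0 → IsIso α := fun α hα => by
    obtain ⟨β, hβ⟩ := (d.map_bijective P P).2 (ObjectProperty.homMk α)
    obtain ⟨v, hv⟩ := (DerivedCategory.singleFunctor X.Modules 0).map_surjective β.hom
    have hv0 : v ≠ 0 := fun h => hα (by
      have : β = 0 := ObjectProperty.hom_ext _ (hv.symm.trans (by rw [h, Functor.map_zero]; rfl))
      rw [this, Functor.map_zero] at hβ
      exact (congrArg InducedCategory.Hom.hom hβ).symm)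
    haveI := isIso_endo_pt hx v hv0
    have hb : IsIso β.hom := by rw [← hv]; infer_instance
    haveI : IsIso ((ObjectProperty.ι (SGA6.perfP X)).map β) := hb
    haveI : IsIso β := isIso_of_fully_faithful (ObjectProperty.ι (SGA6.perfP X)) β
    haveI : IsIso (ObjectProperty.homMk α : Q ⟶ Q) := hβ ▸ inferInstance
    exact inferInstanceAs (IsIso ((ObjectProperty.ι (SGA6.perfP X)).map (ObjectProperty.homMk α : Q ⟶ Q)))
  -- no negative self extensions
  have hneg : ∀ n : ℤ, n < 0 → ∀ α : Q.obj ⟶ Q.obj⟦n⟧, α = 0 := fun n hn α => by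
    obtain ⟨es⟩ := exists_shift_iso k d P n
    let eι := ((SGA6.perfP X).ι.commShiftIso n).app
    obtain ⟨β, hβ⟩ := (d.map_bijective P ((shiftFunctor (T X) n).obj P)).2
      ((ObjectProperty.homMk (α ≫ (eι Q).inv) : Q ⟶ (shiftFunctor (T X) n).obj Q) ≫ es.inv)
    have hβ0 : β = 0 := by
      apply ObjectProperty.hom_ext
      have h0 : β.hom ≫ (eι P).hom = 0 := t.zero_of_isLE_of_isGE _ 0 (-n) (by omega)
        (inferInstanceAs (P.obj.IsLE 0)) (t.isGE_shift P.obj 0 n (-n) (by omega))
      exact zero_of_comp_mono (eι P).hom h0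
    rw [hβ0, Functor.map_zero] at hβ
    have h1 := congrArg InducedCategory.Hom.hom (zero_of_comp_mono es.inv hβ.symm)
    exact zero_of_comp_mono (eι Q).inv h1
  -- support
  have hsupp : ∀ (i : ℤ) (y : X), y ≠ x → y ∉ CohB1.support (DCoh.HD Q.obj i) := by
    intro i y hy hmem
    let S := CohB1.support (DCoh.HD Q.obj i)
    have hS : IsClosed S := QCoh.isClosed_support_of_isFT (hc i).1 (hc i).2
    obtain ⟨z, ⟨hzS, hzx⟩, hz⟩ := nonempty_inter_closedPoints (Z := S ∩ ({x} : Set X)ᶜ) ⟨y, hmem, hy⟩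
      (hS.isLocallyClosed.inter hx.isOpen_compl.isLocallyClosed)
    let P' : T X := ⟨DCoh.inD X (pt z), perfect_pt k hreg hz⟩
    have hvan : ∀ (j : ℤ) (φ : P.obj ⟶ P'.obj⟦j⟧), φ = 0 := fun j φ => by
      obtain ⟨e⟩ := SkyPush.nonempty_push_iso z hz
      have h1 := (SkyHom.forall_sky_iff z P.obj hPc 0 (-j - 1) e).1 (fun i' _ hm => by
        by_cases h0 : i' = 0
        · subst h0
          refine hm ?_
          haveI := subsingleton_pt hx (y := z) hzx
          exact @Equiv.subsingleton _ _ (((DerSch.stalkFunctor X z).mapIso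
            ((DerivedCategory.singleFunctorCompHomologyFunctorIso X.Modules 0).app (pt x))).toLinearEquiv).toEquiv
            (inferInstance : Subsingleton ((pt x).presheaf.stalk z))
        · refine hm (ModuleCat.subsingleton_of_isZero ((DerSch.stalkFunctor X z).map_isZero ?_))
          rcases lt_or_gt_of_ne h0 with h | h
          · exact DerivedCategory.isZero_of_isGE P.obj 0 i' h
          · exact DerivedCategory.isZero_of_isLE P.obj 0 i' h) (-j) (by omega)
      rw [neg_neg] at h1
      exact h1 φ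
    obtain ⟨U, hzU, hU⟩ := (Groth.Agent.S6720.result k X hreg z hz Q.obj Q.property).1 (fun j φ => by
      let A : T X := (shiftFunctor (T X) (-j)).obj P'
      have hA : ∀ g : A ⟶ Q, g = 0 := fun g => (d.isRep P A).1 (LinearMap.ext fun f => by
        have hf : f = 0 := by
          apply ObjectProperty.hom_ext
          let eA := ((SGA6.perfP X).ι.commShiftIso (-j)).app P'
          exact zero_of_comp_mono eA.hom (hvan (-j) (f.hom ≫ eA.hom))
        rw [hf, map_zero, map_zero])
      have key : ∀ ψ : (P'.obj⟦-j⟧ : DCoh.D X) ⟶ Q.obj, ψ = 0 := fun ψ => by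
        let eA := ((SGA6.perfP X).ι.commShiftIso (-j)).app P'
        have := congrArg InducedCategory.Hom.hom (hA (ObjectProperty.homMk (eA.hom ≫ ψ)))
        exact zero_of_epi_comp eA.hom this
      refine ((shiftEquiv (DCoh.D X) j).symm.toAdjunction.homEquiv P'.obj Q.obj).symm.injective ?_
      rw [key (((shiftEquiv (DCoh.D X) j).symm.toAdjunction.homEquiv P'.obj Q.obj).symm φ),
        key (((shiftEquiv (DCoh.D X) j).symm.toAdjunction.homEquiv P'.obj Q.obj).symm 0)])
    exact hU i z hzU hzS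
  have hsub : ∀ (i : ℤ) (y : X), y ≠ x → Subsingleton ((DCoh.HD Q.obj i).presheaf.stalk y) :=
    fun i y hy => not_not.1 (hsupp i y hy)
  -- nonvanishing
  have hQ0 : ∃ i, ¬ IsZero (DCoh.HD Q.obj i) := by
    by_contra h
    push_neg at h
    haveI h1 : Q.obj.IsGE 1 := (DerivedCategory.isGE_iff _ _).2 fun i _ => h i
    haveI h2 : Q.obj.IsLE 0 := (DerivedCategory.isLE_iff _ _).2 fun i _ => h i
    have h3 : (𝟙 Q : Q ⟶ Q) = 0 := ObjectProperty.hom_ext _
      (t.zero_of_isLE_of_isGE (𝟙 Q.obj) 0 1 (by omega) h2 h1)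
    obtain ⟨β, hβ⟩ : ∃ β : P ⟶ P, β = 𝟙 P := ⟨_, rfl⟩
    have h4 : (𝟙 P : P ⟶ P) = 0 := (d.map_bijective P P).1 (by
      rw [CategoryTheory.Functor.map_id, Functor.map_zero]; exact h3)
    have h5 : IsZero (pt x) := by
      rw [IsZero.iff_id_eq_zero]
      apply (DerivedCategory.singleFunctor X.Modules 0).map_injective
      rw [CategoryTheory.Functor.map_id, Functor.map_zero]
      exact congrArg (fun f : P ⟶ P => f.hom) h4
    obtain ⟨e⟩ := SkyPush.nonempty_push_iso x hx
    haveI : Subsingleton (X.presheaf.stalk x ⧸ IsLocalRing.maximalIdeal (X.presheaf.stalk x)) :=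
      ModuleCat.subsingleton_of_isZero (((DerSch.stalkFunctor X x).map_isZero (h5.of_iso e.symm)).of_iso
        ((skyStalkIso x).app _).symm)
    haveI : Nontrivial (X.presheaf.stalk x ⧸ IsLocalRing.maximalIdeal (X.presheaf.stalk x)) :=
      Ideal.Quotient.nontrivial_iff.2 (IsLocalRing.maximalIdeal.isMaximal _).ne_top
    exact false_of_nontrivial_of_subsingleton (X.presheaf.stalk x ⧸ IsLocalRing.maximalIdeal (X.presheaf.stalk x))
  obtain ⟨a, ha, hamin⟩ := Int.exists_least_of_bdd (P := fun i => ¬ IsZero (DCoh.HD Q.obj i))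
    ⟨lo, fun z hz => le_of_not_gt fun h => hz (DerivedCategory.isZero_of_isGE Q.obj lo z h)⟩ hQ0
  obtain ⟨b, hb, hbmax⟩ := Int.exists_greatest_of_bdd (P := fun i => ¬ IsZero (DCoh.HD Q.obj i))
    ⟨hi, fun z hz => le_of_not_gt fun h => hz (DerivedCategory.isZero_of_isLE Q.obj hi z h)⟩ hQ0
  haveI hGE : Q.obj.IsGE a := (DerivedCategory.isGE_iff _ _).2 fun i h => by
    by_contra h'; exact absurd (hamin i h') (not_le.2 h)
  haveI hLE : Q.obj.IsLE b := (DerivedCategory.isLE_iff _ _).2 fun i h => by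
    by_contra h'; exact absurd (hbmax i h') (not_le.2 h)
  obtain ⟨⟨φ, hφ⟩, -⟩ := exists_maps hx _ (hc b) hb (hsub b)
  obtain ⟨-, ψ, hψ⟩ := exists_maps hx _ (hc a) ha (hsub a)
  have hu : φ ≫ ψ ≠ 0 := fun h => hφ (zero_of_comp_mono ψ h)
  have hab : a = b := by
    by_contra hne
    obtain ⟨α, hα⟩ := EndsHom.exists_hom_shift a b (φ ≫ ψ) hu
    exact hα (hneg _ (by have := hbmax a ha; omega) α)
  subst hab
  obtain ⟨M, ⟨eM⟩⟩ := DerivedCategory.exists_iso_singleFunctor_obj_of_isGE_of_isLE Q.obj a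
  let c : DCoh.HD Q.obj a ≅ M := (DerivedCategory.homologyFunctor X.Modules a).mapIso eM ≪≫
    (DerivedCategory.singleFunctorCompHomologyFunctorIso X.Modules a).app M
  have hiso : ∀ v : M ⟶ M, v ≠ 0 → IsIso v := fun v hv => by
    haveI := hend (eM.hom ≫ (DerivedCategory.singleFunctor X.Modules a).map v ≫ eM.inv) fun h => hv
      ((DerivedCategory.singleFunctor X.Modules a).map_injective (by
        rw [Functor.map_zero]; exact zero_of_comp_mono eM.inv (zero_of_epi_comp eM.hom h)))
    haveI : IsIso ((DerivedCategory.singleFunctor X.Modules a).map v) := by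
      haveI := IsIso.of_isIso_comp_left eM.hom ((DerivedCategory.singleFunctor X.Modules a).map v ≫ eM.inv)
      exact IsIso.of_isIso_comp_right _ eM.inv
    exact isIso_of_fully_faithful (DerivedCategory.singleFunctor X.Modules a) v
  haveI := hiso ((c.inv ≫ φ) ≫ (ψ ≫ c.hom)) (fun h => hu (by
    refine zero_of_comp_mono c.hom (zero_of_epi_comp c.inv ?_)
    simpa using h))
  haveI : Epi (ψ ≫ c.hom) := epi_of_epi (c.inv ≫ φ) (ψ ≫ c.hom)
  haveI : IsIso (ψ ≫ c.hom) := isIso_of_mono_of_epi _
  exact ⟨a, ⟨eM ≪≫ (DerivedCategory.singleFunctor X.Modules a).mapIso (asIso (ψ ≫ c.hom)).symm⟩⟩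

/-- Nothing is orthogonal to the image of the Serre functor. -/
theorem isZero_of_orth (hreg : Models.IsRegularScheme X) (d : Data k (T X)) (C : T X)
    (h : ∀ (A : T X) (f : d.S.obj A ⟶ C), f = 0) : IsZero C := by
  haveI : IsNoetherian X := Groth.Agent.KExact.BCNat.isNoetherian_of_ft (X ↘ Spec (CommRingCat.of k))
  haveI := finite_hom k (X := X)
  haveI : JacobsonSpace X := LocallyOfFiniteType.jacobsonSpace (X ↘ Spec (CommRingCat.of k))
  obtain ⟨hc, -⟩ := (KZ.isPerfect_iff_of_regular hreg C.obj).1 C.property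
  have hz : ∀ i, IsZero (DCoh.HD C.obj i) := fun i => by
    have hempty : CohB1.support (DCoh.HD C.obj i) = ∅ := by
      by_contra hne
      obtain ⟨x, hxS, hx⟩ := nonempty_inter_closedPoints (Set.nonempty_iff_ne_empty.2 hne)
        (QCoh.isClosed_support_of_isFT (hc i).1 (hc i).2).isLocallyClosed
      let P : T X := ⟨DCoh.inD X (pt x), perfect_pt k hreg hx⟩
      obtain ⟨m, ⟨em⟩⟩ := exists_iso_pt k hreg d hx P.property
      obtain ⟨U, hxU, hU⟩ := (Groth.Agent.S6720.result k X hreg x hx C.obj C.property).1 (fun j φ => by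
        obtain ⟨es⟩ := exists_shift_iso k d P (m - j)
        let σ : ((d.S.obj P).obj)⟦m - j⟧ ≅ (P.obj⟦-j⟧ : DCoh.D X) :=
          (shiftFunctor (DCoh.D X) (m - j)).mapIso em ≪≫
            (((DerivedCategory.singleFunctors X.Modules).shiftIso (m - j) j m (by omega)).app (pt x)) ≪≫
            (((DerivedCategory.singleFunctors X.Modules).shiftIso (-j) j 0 (by omega)).app (pt x)).symm
        let eS : (d.S.obj ((shiftFunctor (T X) (m - j)).obj P)).obj ≅ (P.obj⟦-j⟧ : DCoh.D X) :=
          (ObjectProperty.ι (SGA6.perfP X)).mapIso es ≪≫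
            ((SGA6.perfP X).ι.commShiftIso (m - j)).app (d.S.obj P) ≪≫ σ
        have key : ∀ ψ : (P.obj⟦-j⟧ : DCoh.D X) ⟶ C.obj, ψ = 0 := fun ψ => by
          have := congrArg InducedCategory.Hom.hom (h ((shiftFunctor (T X) (m - j)).obj P)
            (ObjectProperty.homMk (eS.hom ≫ ψ)))
          exact zero_of_epi_comp eS.hom this
        refine ((shiftEquiv (DCoh.D X) j).symm.toAdjunction.homEquiv P.obj C.obj).symm.injective ?_
        rw [key (((shiftEquiv (DCoh.D X) j).symm.toAdjunction.homEquiv P.obj C.obj).symm φ),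
          key (((shiftEquiv (DCoh.D X) j).symm.toAdjunction.homEquiv P.obj C.obj).symm 0)])
      exact hU i x hxU hxS
    rw [IsZero.iff_id_eq_zero]
    haveI : ∀ y, Subsingleton ((DCoh.HD C.obj i).presheaf.stalk y) := fun y =>
      not_not.1 (Set.eq_empty_iff_forall_notMem.1 hempty y)
    haveI : IsIso (0 : DCoh.HD C.obj i ⟶ DCoh.HD C.obj i) := isIso_of_stalk _ fun y =>
      (ConcreteCategory.isIso_iff_bijective _).2
        ⟨fun a b _ => Subsingleton.elim (α := (DCoh.HD C.obj i).presheaf.stalk y) a b,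
          fun b => ⟨0, Subsingleton.elim (α := (DCoh.HD C.obj i).presheaf.stalk y) _ _⟩⟩
    exact (cancel_epi (0 : DCoh.HD C.obj i ⟶ DCoh.HD C.obj i)).1 (by simp)
  haveI h1 : C.obj.IsGE 1 := (DerivedCategory.isGE_iff _ _).2 fun i _ => hz i
  haveI h2 : C.obj.IsLE 0 := (DerivedCategory.isLE_iff _ _).2 fun i _ => hz i
  rw [IsZero.iff_id_eq_zero]
  exact ObjectProperty.hom_ext _
    (DerivedCategory.TStructure.t.zero_of_isLE_of_isGE (𝟙 C.obj) 0 1 (by omega) h2 h1)

end Groth.Agent.H9Misc.PointSerre
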