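import Groth.Agent.H9Misc.EffaceLocal
import Groth.Agent.H9Misc.PointSerre
import Groth.Agent.KZ.RegPerf
import Groth.Agent.ParShLib.SkySub

/-!
# Effaceability at a closed point
-/

set_option autoImplicit false
set_option linter.style.haveILetI false
set_option linter.unusedSectionVars false
set_option backward.isDefEq.respectTransparency false
set_option backward.isDefEq.respectTransparency.types false
set_option maxHeartbeats 1000000

universe u

open CategoryTheory CategoryTheory.Limits CategoryTheory.Pretriangulated AlgebraicGeometry IsLocalRing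

attribute [local instance] HasDerivedCategory.standard

noncomputable section

namespace Groth.Agent.H9Misc.PointEfface

open Groth.Agent KFlatLib PointSerre

variable {X : Scheme.{u}} [IsNoetherian X]

theorem isCoh_sky {x : X} (hx : IsClosed ({x} : Set X)) (M : Type u) [AddCommGroup M]
    [Module (X.presheaf.stalk x) M] (hM : IsFiniteLength (X.presheaf.stalk x) M) :
    Coh.IsCoh ((sky x).obj (ModuleCat.of (X.presheaf.stalk x) M)) := by
  haveI : IsClosedImmersion (X.fromSpecResidueField x) := isClosed_singleton_iff_isClosedImmersion.mp hx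
  induction hM with
  | @of_subsingleton M _ _ _ =>
    exact KFlatLib.isCoh_of_isZero ((sky x).map_isZero (ModuleCat.isZero_of_iff_subsingleton.2 inferInstance))
  | @of_simple_quotient M _ _ N _ _ ih =>
    let R := X.presheaf.stalk x
    let S : ShortComplex (ModuleCat.{u} R) := ShortComplex.mk (ModuleCat.ofHom N.subtype) (ModuleCat.ofHom N.mkQ)
      (ModuleCat.hom_ext (LinearMap.ext fun z => (Submodule.Quotient.mk_eq_zero N).2 z.2))
    have hS : S.ShortExact :=
      { exact := (ShortComplex.moduleCat_exact_iff _).2 fun z hz => ⟨⟨z, (Submodule.Quotient.mk_eq_zero N).1 hz⟩, rfl⟩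
        mono_f := (ModuleCat.mono_iff_injective _).2 N.injective_subtype
        epi_g := (ModuleCat.epi_iff_surjective _).2 N.mkQ_surjective }
    haveI : PreservesFiniteLimits (sky x) :=
      haveI := (skyAdj x).isRightAdjoint
      inferInstance
    haveI : PreservesFiniteColimits (sky x) := by
      have h := ((Functor.exact_tfae (sky x)).out 1 3).1 (exact_map_sky x)
      exact h.2
    haveI := (skyAdj x).right_adjoint_additive
    refine KZ.isCoh_X₂ (hS.map_of_exact (sky x)) ih ?_
    obtain ⟨I, hI, ⟨eI⟩⟩ := isSimpleModule_iff_quot_maximal.1 (inferInstance : IsSimpleModule R (M ⧸ N))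
    obtain rfl : I = maximalIdeal R := eq_maximalIdeal hI
    obtain ⟨e⟩ := SkyPush.nonempty_push_iso x hx
    exact SheafHomX.isCoh_of_iso (e ≪≫ ((sky x).mapIso eI.toModuleIso).symm)
      (QCoh.isCoh_push_structure (X.fromSpecResidueField x))

/-- Classes of positive degree to the point are killed by epimorphisms from coherent sheaves at the point. -/
theorem exists_epi_kill (hreg : Models.IsRegularScheme X) {x : X} (hx : IsClosed ({x} : Set X)) (N : X.Modules)
    (hN : Coh.IsCoh N) (hsupp : ∀ y, y ≠ x → Subsingleton (N.presheaf.stalk y)) (i : ℤ) (hi : 1 ≤ i)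
    (a : DCoh.inD X N ⟶ (shiftFunctor (DCoh.D X) i).obj (DCoh.inD X (pt x))) :
    ∃ (M : X.Modules) (q : M ⟶ N), Epi q ∧ Coh.IsCoh M ∧ (∀ y, y ≠ x → Subsingleton (M.presheaf.stalk y)) ∧
      (DerivedCategory.singleFunctor X.Modules 0).map q ≫ a = 0 := by
  obtain ⟨e⟩ := SkyPush.nonempty_push_iso x hx
  haveI := SkyPush.isIso_toSky N x hx hsupp
  let T := DerSch.stalkFunctor X x
  let R := X.presheaf.stalk x
  haveI : IsRegularLocalRing R := hreg x
  haveI : T.IsLeftAdjoint := (skyAdj x).isLeftAdjoint
  haveI : PreservesFiniteLimits (sky x) :=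
    haveI := (skyAdj x).isRightAdjoint
    inferInstance
  haveI : PreservesFiniteColimits (sky x) := by
    have h := ((Functor.exact_tfae (sky x)).out 1 3).1 (exact_map_sky x)
    exact h.2
  let A := TelLocal.derivedAdjunction (skyAdj x)
  haveI := A.right_adjoint_additive
  haveI := A.left_adjoint_additive
  let κ := EffaceLocal.kap R
  let d : (sky x).mapDerivedCategory.obj (((EffaceLocal.E₀ R).obj κ)⟦i⟧) ≅
      (shiftFunctor (DCoh.D X) i).obj (DCoh.inD X (pt x)) :=
    ((sky x).mapDerivedCategory.commShiftIso i).app _ ≪≫ (shiftFunctor (DCoh.D X) i).mapIso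
      (((sky x).mapDerivedCategorySingleFunctor 0).app _ ≪≫
        (DerivedCategory.singleFunctor X.Modules 0).mapIso e.symm)
  let eT : ∀ M : X.Modules, T.mapDerivedCategory.obj (DCoh.inD X M) ≅ (EffaceLocal.E₀ R).obj (T.obj M) :=
    fun M => (T.mapDerivedCategorySingleFunctor 0).app M
  let a' : (EffaceLocal.E₀ R).obj (T.obj N) ⟶ ((EffaceLocal.E₀ R).obj κ)⟦i⟧ :=
    (eT N).inv ≫ (A.homEquiv _ _).symm (a ≫ d.inv)
  have hlen : IsFiniteLength R (T.obj N) := by
    by_cases hnt : Nontrivial (T.obj N)
    · exact ((Groth.Agent.S4637.result N hN x).1 ⟨hnt, fun y hy _ => by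
        by_contra hyx
        exact (not_nontrivial_iff_subsingleton.2 (hsupp y hyx)) hy⟩).2
    · haveI := not_nontrivial_iff_subsingleton.1 hnt
      exact IsFiniteLength.of_subsingleton
  obtain ⟨M', q', hM', hq', hkill⟩ := EffaceLocal.exists_surj_kill (T.obj N) hlen i hi a'
  let q : (sky x).obj M' ⟶ N := (sky x).map q' ≫ inv (TildeSky.toSky N x)
  haveI : Epi q' := (ModuleCat.epi_iff_surjective _).2 hq'
  haveI : (sky x).PreservesEpimorphisms := inferInstance
  refine ⟨_, q, inferInstance, isCoh_sky hx M' hM', fun y hy => H23.SkyPoint.subsingleton_stalk_sky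
    (ξ := x) (N := M') (x := y) fun h => hy (Set.mem_singleton_iff.1 (h.mem_closed hx rfl)), ?_⟩
  have hTq : T.map q = (skyStalkIso x).hom.app M' ≫ q' := by
    have hn : T.map ((sky x).map q') ≫ (skyStalkIso x).hom.app (T.obj N) = (skyStalkIso x).hom.app M' ≫ q' :=
      (skyStalkIso x).hom.naturality q'
    have hi' : T.map (inv (TildeSky.toSky N x)) = (skyStalkIso x).hom.app (T.obj N) := by
      rw [Functor.map_inv, IsIso.inv_eq_of_hom_inv_id (SkyPush.stalk_toSky N x)]
    rw [Functor.map_comp, hi', hn]
  refine zero_of_comp_mono d.inv ((A.homEquiv _ _).symm.injective ?_)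
  rw [show (A.homEquiv _ _).symm 0 = 0 by rw [Adjunction.homEquiv_counit, Functor.map_zero, zero_comp],
    Category.assoc, Adjunction.homEquiv_naturality_left_symm]
  have hnat : T.mapDerivedCategory.map ((DerivedCategory.singleFunctor X.Modules 0).map q) =
      (eT _).hom ≫ (EffaceLocal.E₀ R).map (T.map q) ≫ (eT N).inv := by
    have := (T.mapDerivedCategorySingleFunctor 0).hom.naturality q
    rw [← cancel_mono (eT N).hom]
    simp only [Category.assoc, Iso.inv_hom_id, Category.comp_id]
    exact this
  rw [hnat]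
  simp only [Category.assoc]
  refine Eq.trans (congrArg (_ ≫ ·) ?_) comp_zero
  show (EffaceLocal.E₀ R).map (T.map q) ≫ a' = 0
  rw [hTq, Functor.map_comp, Category.assoc, hkill, comp_zero]

end Groth.Agent.H9Misc.PointEfface
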