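import Groth.Agent.H9Misc.MapBij
import Groth.Agent.H9Misc.PointEfface
import Groth.Agent.H9Misc.PerfSerre
import Mathlib.Algebra.Homology.DerivedCategory.SingleTriangle

/-!
# An exact endofunctor fixing zero dimensional sheaves is bijective on Hom spaces between closed points
-/

set_option autoImplicit false
set_option linter.style.haveILetI false
set_option linter.unusedSectionVars false
set_option backward.isDefEq.respectTransparency false
set_option backward.isDefEq.respectTransparency.types false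
set_option maxHeartbeats 1000000

universe u

open CategoryTheory CategoryTheory.Limits CategoryTheory.Pretriangulated AlgebraicGeometry

attribute [local instance] HasDerivedCategory.standard

noncomputable section

namespace Groth.Agent.H9Misc.PointFF

open Groth.Agent KFlatLib PerfSerre PointSerre MapBij

variable (k : Type u) [Field k] {X : Scheme.{u}} [X.Over (Spec (CommRingCat.of k))]
  [IsProper (X ↘ Spec (CommRingCat.of k))] [(SGA6.perfP X).IsTriangulated]

include k in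
theorem perfect_coh (hreg : Models.IsRegularScheme X) {M : X.Modules} (hM : Coh.IsCoh M) :
    DCoh.IsPerfect (DCoh.inD X M) := by
  haveI : IsNoetherian X := Groth.Agent.KExact.BCNat.isNoetherian_of_ft (X ↘ Spec (CommRingCat.of k))
  exact KZ.isPerfect_of_isCoh hreg M hM

variable (hreg : Models.IsRegularScheme X)

/-- Coherent and supported at `x`. -/
def AtPt (x : X) (M : X.Modules) : Prop := Coh.IsCoh M ∧ ∀ y, y ≠ x → Subsingleton (M.presheaf.stalk y)

/-- The object of a coherent sheaf. -/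
abbrev ob (M : X.Modules) (hM : Coh.IsCoh M) : T X := ⟨DCoh.inD X M, perfect_coh k hreg hM⟩

variable (F : T X ⥤ T X) [F.Additive] [F.Linear k] [F.CommShift ℤ] [F.IsTriangulated]
  (hfix : ∀ (M : X.Modules) (hM : Coh.IsCoh M) (x : X), IsClosed ({x} : Set X) → AtPt x M →
    Nonempty (ob k hreg M hM ≅ F.obj (ob k hreg M hM)))

include hfix hreg in
theorem mb_of_injective {x : X} (hx : IsClosed ({x} : Set X)) (M : X.Modules) (hM : AtPt x M) (P : X.Modules)
    (hP : AtPt x P) (i : ℤ)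
    (hinj : Function.Injective (F.map : (ob k hreg M hM.1 ⟶ (ob k hreg P hP.1)⟦i⟧) → _)) :
    MB F (ob k hreg M hM.1) ((ob k hreg P hP.1)⟦i⟧) := by
  haveI := finite_hom k (X := X)
  obtain ⟨θM⟩ := hfix M hM.1 x hx hM
  obtain ⟨θP⟩ := hfix P hP.1 x hx hP
  let e : (ob k hreg M hM.1 ⟶ (ob k hreg P hP.1)⟦i⟧) ≃ₗ[k]
      (F.obj (ob k hreg M hM.1) ⟶ F.obj ((ob k hreg P hP.1)⟦i⟧)) :=
    Linear.homCongr k θM ((shiftFunctor (T X) i).mapIso θP ≪≫ ((F.commShiftIso i).app _).symm)
  exact ⟨hinj, (LinearMap.injective_iff_surjective_of_finrank_eq_finrank (f := F.mapLinearMap k) e.finrank_eq).1 hinj⟩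

include k in
theorem hom_eq_zero_of_neg {M P : X.Modules} (hM : Coh.IsCoh M) (hP : Coh.IsCoh P) (i : ℤ) (hi : i < 0)
    (a : ob k hreg M hM ⟶ (ob k hreg P hP)⟦i⟧) : a = 0 := by
  apply ObjectProperty.hom_ext
  let e := ((SGA6.perfP X).ι.commShiftIso i).app (ob k hreg P hP)
  let t := DerivedCategory.TStructure.t (C := X.Modules)
  haveI : t.IsGE (DCoh.inD X P) 0 :=
    inferInstanceAs (((DerivedCategory.singleFunctor X.Modules 0).obj P).IsGE 0)
  have h0 : a.hom ≫ e.hom = 0 := t.zero_of_isLE_of_isGE _ 0 (-i) (by omega)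
    (inferInstanceAs (((DerivedCategory.singleFunctor X.Modules 0).obj M).IsLE 0))
    (t.isGE_shift (DCoh.inD X P) 0 i (-i) (by omega))
  exact zero_of_comp_mono e.hom h0

/-- The map of objects. -/
abbrev obMap {M N : X.Modules} {hM : Coh.IsCoh M} {hN : Coh.IsCoh N} (q : M ⟶ N) : ob k hreg M hM ⟶ ob k hreg N hN :=
  ObjectProperty.homMk ((DerivedCategory.singleFunctor X.Modules 0).map q)

theorem exists_triangle {x₀ : X} {M N : X.Modules} (hM : AtPt x₀ M) (hN : Coh.IsCoh N) (q : M ⟶ N) [Epi q]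
    (hx : IsClosed ({x₀} : Set X)) :
    ∃ (hK : AtPt x₀ (kernel q)) (δ : ob k hreg N hN ⟶ (ob k hreg (kernel q) hK.1)⟦(1 : ℤ)⟧),
      Triangle.mk (obMap k hreg (hM := hK.1) (hN := hM.1) (kernel.ι q)) (obMap k hreg (hM := hM.1) (hN := hN) q) δ
        ∈ distTriang (T X) := by
  haveI : IsNoetherian X := Groth.Agent.KExact.BCNat.isNoetherian_of_ft (X ↘ Spec (CommRingCat.of k))
  have hsupp : ∀ y ∈ CohB1.support M, y = x₀ := fun y hy => by
    by_contra h; exact hy (hM.2 y h)
  have hK : AtPt x₀ (kernel q) := ⟨ParShLib.isCoh_of_mono_finite_support (kernel.ι q) hM.1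
      (fun y hy => by rw [hsupp y hy]; exact hx) ((Set.finite_singleton x₀).subset hsupp), fun y hy => by
    haveI : (DerSch.stalkFunctor X y).PreservesMonomorphisms := inferInstance
    haveI : Subsingleton ((DerSch.stalkFunctor X y).obj M) := hM.2 y hy
    haveI : Mono ((DerSch.stalkFunctor X y).map (kernel.ι q)) := inferInstance
    exact ((ModuleCat.mono_iff_injective ((DerSch.stalkFunctor X y).map (kernel.ι q))).1 inferInstance).subsingleton⟩
  let S : ShortComplex X.Modules := ShortComplex.mk (kernel.ι q) q (kernel.condition q)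
  have hS : S.ShortExact :=
    { exact := ShortComplex.exact_of_f_is_kernel S (kernelIsKernel q) }
  obtain ⟨δ, hδ⟩ := exists_lift_triangle hS.singleTriangle hS.singleTriangle_distinguished
    (perfect_coh k hreg hK.1) (perfect_coh k hreg hM.1) (perfect_coh k hreg hN)
  exact ⟨hK, δ, hδ⟩

include hfix in
theorem inj_zero {x : X} (hx : IsClosed ({x} : Set X)) (M : X.Modules) (hM : AtPt x M) (hP : AtPt x (pt x))
    (a : ob k hreg M hM.1 ⟶ ob k hreg (pt x) hP.1) (ha : F.map a = 0) : a = 0 := by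
  by_contra hne
  haveI : IsNoetherian X := Groth.Agent.KExact.BCNat.isNoetherian_of_ft (X ↘ Spec (CommRingCat.of k))
  obtain ⟨v, hv⟩ := (DerivedCategory.singleFunctor X.Modules 0).map_surjective a.hom
  have hv0 : v ≠ 0 := fun h => hne (ObjectProperty.hom_ext _ (hv.symm.trans (by rw [h, Functor.map_zero]; rfl)))
  haveI : Epi v := by
    have hsupp : ∀ y, y ≠ x → Subsingleton ((image v).presheaf.stalk y) := fun y hy => by
      haveI : Subsingleton ((DerSch.stalkFunctor X y).obj (pt x)) := hP.2 y hy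
      haveI : Mono ((DerSch.stalkFunctor X y).map (image.ι v)) := inferInstance
      exact ((ModuleCat.mono_iff_injective ((DerSch.stalkFunctor X y).map (image.ι v))).1 inferInstance).subsingleton
    have hs : ∀ y ∈ CohB1.support (pt x), y = x := fun y hy => by
      by_contra h; exact hy (hP.2 y h)
    have hIc : Coh.IsCoh (image v) := ParShLib.isCoh_of_mono_finite_support (image.ι v) hP.1
      (fun y hy => by rw [hs y hy]; exact hx) ((Set.finite_singleton x).subset hs)
    have hI0 : ¬ IsZero (image v) := fun h => hv0 (by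
      rw [← image.fac v, h.eq_of_tgt (factorThruImage v) 0, zero_comp])
    obtain ⟨-, ψ, hψ⟩ := exists_maps hx (image v) hIc hI0 hsupp
    haveI := isIso_endo_pt hx (ψ ≫ image.ι v) (fun h => by
      have hp0 : ψ = 0 := zero_of_comp_mono (image.ι v) h
      subst hp0
      have hz : IsZero (pt x) := IsZero.of_mono_zero (pt x) (image v)
      exact hv0 (hz.eq_of_tgt _ _))
    haveI : Epi (image.ι v) := epi_of_epi ψ (image.ι v)
    rw [← image.fac v]
    exact epi_comp _ _
  obtain ⟨hK, δ, hδ⟩ := exists_triangle k hreg hM hP.1 v hx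
  have hq : obMap k hreg (hM := hM.1) (hN := hP.1) v = a := ObjectProperty.hom_ext _ hv
  have hT := F.map_distinguished _ hδ
  obtain ⟨r, hr⟩ := Triangle.yoneda_exact₃ _ hT (𝟙 (F.obj (ob k hreg (pt x) hP.1))) (by
    show F.map (obMap k hreg (hM := hM.1) (hN := hP.1) v) ≫ 𝟙 _ = 0
    rw [hq, ha, zero_comp])
  obtain ⟨θP⟩ := hfix (pt x) hP.1 x hx hP
  obtain ⟨θK⟩ := hfix (kernel v) hK.1 x hx hK
  have hzero : ∀ g : (F.obj (ob k hreg (kernel v) hK.1))⟦(1 : ℤ)⟧ ⟶ F.obj (ob k hreg (pt x) hP.1), g = 0 := fun g => by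
    obtain ⟨g₀, hg₀⟩ := (shiftFunctor (T X) (1 : ℤ)).map_surjective
      ((shiftFunctor (T X) (1 : ℤ)).map θK.hom ≫ g ≫ θP.inv ≫
        ((shiftFunctorCompIsoId (T X) (-1 : ℤ) 1 (by omega)).app (ob k hreg (pt x) hP.1)).inv)
    rw [hom_eq_zero_of_neg k hreg hK.1 hP.1 (-1) (by omega) g₀, Functor.map_zero] at hg₀
    have h1 := zero_of_epi_comp _ hg₀.symm
    rw [← Category.assoc g] at h1
    exact zero_of_comp_mono θP.inv (zero_of_comp_mono
      ((shiftFunctorCompIsoId (T X) (-1 : ℤ) 1 (by omega)).app (ob k hreg (pt x) hP.1)).inv h1)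
  have hid : (𝟙 (ob k hreg (pt x) hP.1) : _ ⟶ _) = 0 := by
    apply (cancel_mono θP.hom).1
    rw [Category.id_comp, zero_comp, ← Category.comp_id θP.hom]
    refine (congrArg (θP.hom ≫ ·) hr).trans ?_
    show θP.hom ≫ _ ≫ r = 0
    rw [hzero r, comp_zero, comp_zero]
  exact hne (by rw [← Category.comp_id a, hid, comp_zero])

include hfix in
theorem mb_all {x : X} (hx : IsClosed ({x} : Set X)) (hP : AtPt x (pt x)) :
    ∀ (n : ℕ) (M : X.Modules) (hM : AtPt x M), MB F (ob k hreg M hM.1) ((ob k hreg (pt x) hP.1)⟦(n : ℤ)⟧) := by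
  haveI : IsNoetherian X := Groth.Agent.KExact.BCNat.isNoetherian_of_ft (X ↘ Spec (CommRingCat.of k))
  intro n
  induction n with
  | zero =>
    intro M hM
    refine mb_of_injective k hreg F hfix hx M hM (pt x) hP _ ((injective_iff_map_eq_zero (F.mapAddHom)).2 fun a ha => ?_)
    let e₀ := (shiftFunctorZero (T X) ℤ).app (ob k hreg (pt x) hP.1)
    refine zero_of_comp_mono e₀.hom (inj_zero k hreg F hfix hx M hM hP (a ≫ e₀.hom) ?_)
    have ha' : F.map a = 0 := ha
    rw [F.map_comp, ha', zero_comp]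
  | succ n ih =>
    intro M hM
    refine mb_of_injective k hreg F hfix hx M hM (pt x) hP _ ((injective_iff_map_eq_zero (F.mapAddHom)).2 fun a ha => ?_)
    have ha' : F.map a = 0 := ha
    let E := ((SGA6.perfP X).ι.commShiftIso ((n + 1 : ℕ) : ℤ)).app (ob k hreg (pt x) hP.1)
    obtain ⟨M', q, hq, hM', hsupp', hkill⟩ := PointEfface.exists_epi_kill hreg hx M hM.1 hM.2 ((n + 1 : ℕ) : ℤ)
      (by omega) (a.hom ≫ E.hom)
    haveI := hq
    have hM'' : AtPt x M' := ⟨hM', hsupp'⟩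
    obtain ⟨hK, δ, hδ⟩ := exists_triangle k hreg hM'' hM.1 q hx
    have hqa : obMap k hreg (hM := hM') (hN := hM.1) q ≫ a = 0 := ObjectProperty.hom_ext _
      (zero_of_comp_mono E.hom ((Category.assoc _ _ _).trans hkill))
    obtain ⟨e, he⟩ : ∃ e, a = δ ≫ e := Triangle.yoneda_exact₃ _ hδ a hqa
    let m₁ := obMap k hreg (hM := hK.1) (hN := hM') (kernel.ι q)
    let tgt : ((ob k hreg (pt x) hP.1)⟦(n : ℤ)⟧)⟦(1 : ℤ)⟧ ≅ (ob k hreg (pt x) hP.1)⟦((n + 1 : ℕ) : ℤ)⟧ :=
      ((shiftFunctorAdd' (T X) (n : ℤ) 1 ((n + 1 : ℕ) : ℤ) (by omega)).app _).symm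
    have bK := ((ih _ hK).shift (1 : ℤ)).of_iso (Iso.refl _) tgt
    have bM := ((ih _ hM'').shift (1 : ℤ)).of_iso (Iso.refl _) tgt
    have hT := rot_of_distTriang _ (F.map_distinguished _ hδ)
    have h0 : F.map δ ≫ F.map e = 0 := by rw [← F.map_comp, ← he, ha']
    obtain ⟨c, hc⟩ : ∃ c : F.obj ((ob k hreg M' hM')⟦(1 : ℤ)⟧) ⟶ F.obj ((ob k hreg (pt x) hP.1)⟦((n + 1 : ℕ) : ℤ)⟧),
        F.map e = F.map (m₁⟦(1 : ℤ)⟧') ≫ c := by
      let σ := F.commShiftIso (1 : ℤ)
      obtain ⟨c₀, hc₀⟩ := Triangle.yoneda_exact₃ _ hT (σ.inv.app _ ≫ F.map e) (by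
        show (F.map δ ≫ σ.hom.app _) ≫ σ.inv.app _ ≫ F.map e = 0
        rw [Category.assoc, Iso.hom_inv_id_app_assoc, h0])
      refine ⟨σ.hom.app _ ≫ (-c₀), ?_⟩
      refine (cancel_epi (σ.inv.app _)).1 (hc₀.trans ?_)
      show (-((F.map m₁)⟦(1 : ℤ)⟧')) ≫ c₀ = σ.inv.app _ ≫ F.map (m₁⟦(1 : ℤ)⟧') ≫ σ.hom.app _ ≫ (-c₀)
      rw [← Category.assoc (F.map (m₁⟦(1 : ℤ)⟧')), show F.map (m₁⟦(1 : ℤ)⟧') ≫ σ.hom.app _ =
        σ.hom.app _ ≫ (F.map m₁)⟦(1 : ℤ)⟧' from σ.hom.naturality m₁, Category.assoc, Iso.inv_hom_id_app_assoc]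
      simp
    obtain ⟨c', rfl⟩ := bM.2 c
    rw [he, bK.1 (hc.trans (F.map_comp _ _).symm), ← Category.assoc,
      show δ ≫ m₁⟦(1 : ℤ)⟧' = 0 from comp_distTriang_mor_zero₃₁ _ hδ, zero_comp]

include hfix in
theorem bijective_point {x : X} (hx : IsClosed ({x} : Set X)) (hP : AtPt x (pt x)) (i : ℤ) :
    MB F (ob k hreg (pt x) hP.1) ((ob k hreg (pt x) hP.1)⟦i⟧) := by
  rcases lt_or_ge i 0 with hi | hi
  · refine mb_of_injective k hreg F hfix hx _ hP _ hP i fun a b _ => ?_
    rw [hom_eq_zero_of_neg k hreg hP.1 hP.1 i hi a, hom_eq_zero_of_neg k hreg hP.1 hP.1 i hi b]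
  · obtain ⟨n, rfl⟩ := Int.eq_ofNat_of_zero_le hi
    exact mb_all k hreg F hfix hx hP n _ hP

include k in
theorem atPt_pt {x : X} (hx : IsClosed ({x} : Set X)) : AtPt x (pt x) := by
  haveI : IsNoetherian X := Groth.Agent.KExact.BCNat.isNoetherian_of_ft (X ↘ Spec (CommRingCat.of k))
  haveI : IsClosedImmersion (X.fromSpecResidueField x) := isClosed_singleton_iff_isClosedImmersion.mp hx
  exact ⟨QCoh.isCoh_push_structure (X.fromSpecResidueField x), fun y hy => subsingleton_pt hx hy⟩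

include k hreg in
theorem hom_eq_zero_of_ne {x z : X} (hx : IsClosed ({x} : Set X)) (hz : IsClosed ({z} : Set X)) (hne : z ≠ x)
    (hP : DCoh.IsPerfect (DCoh.inD X (pt x))) (j : ℤ)
    (φ : DCoh.inD X (pt x) ⟶ (shiftFunctor (DCoh.D X) j).obj (DCoh.inD X (pt z))) : φ = 0 := by
  haveI : IsNoetherian X := Groth.Agent.KExact.BCNat.isNoetherian_of_ft (X ↘ Spec (CommRingCat.of k))
  have hPc := ((KZ.isPerfect_iff_of_regular hreg _).1 hP).1
  haveI : (DCoh.inD X (pt x)).IsGE 0 := inferInstanceAs (((DerivedCategory.singleFunctor X.Modules 0).obj _).IsGE 0)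
  haveI : (DCoh.inD X (pt x)).IsLE 0 := inferInstanceAs (((DerivedCategory.singleFunctor X.Modules 0).obj _).IsLE 0)
  obtain ⟨e⟩ := SkyPush.nonempty_push_iso z hz
  have h1 := (SkyHom.forall_sky_iff z (DCoh.inD X (pt x)) hPc 0 (-j - 1) e).1 (fun i' _ hm => by
    by_cases h0 : i' = 0
    · subst h0
      refine hm ?_
      haveI := subsingleton_pt hx hne
      exact @Equiv.subsingleton _ _ (((DerSch.stalkFunctor X z).mapIso
        ((DerivedCategory.singleFunctorCompHomologyFunctorIso X.Modules 0).app (pt x))).toLinearEquiv).toEquiv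
        (inferInstance : Subsingleton ((pt x).presheaf.stalk z))
    · refine hm (ModuleCat.subsingleton_of_isZero ((DerSch.stalkFunctor X z).map_isZero ?_))
      rcases lt_or_gt_of_ne h0 with h | h
      · exact DerivedCategory.isZero_of_isGE _ 0 i' h
      · exact DerivedCategory.isZero_of_isLE _ 0 i' h) (-j) (by omega)
  rw [neg_neg] at h1
  exact h1 φ

end Groth.Agent.H9Misc.PointFF
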