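import Groth.Agent.H9Misc.PointSerre

/-!
# Closed points span the perfect complexes of a regular proper scheme
-/

set_option autoImplicit false
set_option linter.style.haveILetI false
set_option linter.unusedSectionVars false
set_option backward.isDefEq.respectTransparency false
set_option backward.isDefEq.respectTransparency.types false
set_option maxHeartbeats 1000000

universe u

open CategoryTheory CategoryTheory.Limits CategoryTheory.Pretriangulated AlgebraicGeometry

attribute [local instance] HasDerivedCategory.standard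

noncomputable section

namespace Groth.Agent.H9Misc.PointSpan

open Groth.Agent PerfSerre PointSerre

variable (k : Type u) [Field k] {X : Scheme.{u}} [X.Over (Spec (CommRingCat.of k))]
  [IsProper (X ↘ Spec (CommRingCat.of k))] [(SGA6.perfP X).IsTriangulated]

include k in
theorem isZero_of_forall_notMem (hreg : Models.IsRegularScheme X) (C : T X)
    (h : ∀ (x : X), IsClosed ({x} : Set X) → ∀ i, x ∉ CohB1.support (DCoh.HD C.obj i)) : IsZero C := by
  haveI : IsNoetherian X := Groth.Agent.KExact.BCNat.isNoetherian_of_ft (X ↘ Spec (CommRingCat.of k))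
  haveI : JacobsonSpace X := LocallyOfFiniteType.jacobsonSpace (X ↘ Spec (CommRingCat.of k))
  obtain ⟨hc, -⟩ := (KZ.isPerfect_iff_of_regular hreg C.obj).1 C.property
  have hz : ∀ i, IsZero (DCoh.HD C.obj i) := fun i => by
    have hempty : ∀ y, y ∉ CohB1.support (DCoh.HD C.obj i) := fun y hy => by
      obtain ⟨x, hxS, hx⟩ := nonempty_inter_closedPoints ⟨y, hy⟩
        (QCoh.isClosed_support_of_isFT (hc i).1 (hc i).2).isLocallyClosed
      exact h x hx i hxS
    haveI : ∀ y, Subsingleton ((DCoh.HD C.obj i).presheaf.stalk y) := fun y => not_not.1 (hempty y)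
    haveI : IsIso (0 : DCoh.HD C.obj i ⟶ DCoh.HD C.obj i) := KFlatLib.isIso_of_stalk _ fun y =>
      (ConcreteCategory.isIso_iff_bijective _).2
        ⟨fun a b _ => Subsingleton.elim (α := (DCoh.HD C.obj i).presheaf.stalk y) a b,
          fun b => ⟨0, Subsingleton.elim (α := (DCoh.HD C.obj i).presheaf.stalk y) _ _⟩⟩
    rw [IsZero.iff_id_eq_zero]
    exact (cancel_epi (0 : DCoh.HD C.obj i ⟶ DCoh.HD C.obj i)).1 (by simp)
  haveI h1 : C.obj.IsGE 1 := (DerivedCategory.isGE_iff _ _).2 fun i _ => hz i
  haveI h2 : C.obj.IsLE 0 := (DerivedCategory.isLE_iff _ _).2 fun i _ => hz i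
  rw [IsZero.iff_id_eq_zero]
  exact ObjectProperty.hom_ext _
    (DerivedCategory.TStructure.t.zero_of_isLE_of_isGE (𝟙 C.obj) 0 1 (by omega) h2 h1)

/-- The point objects. -/
def ptSet (X : Scheme.{u}) : Set (T X) :=
  {P | ∃ x : X, IsClosed ({x} : Set X) ∧ P.obj = DCoh.inD X (pt x)}

include k in
theorem isZero_of_hom_from (hreg : Models.IsRegularScheme X) (K : T X)
    (h : ∀ E ∈ ptSet X, ∀ (i : ℤ) (f : E ⟶ (shiftFunctor (T X) i).obj K), f = 0) : IsZero K :=
  isZero_of_forall_notMem k hreg K fun x hx i hmem => by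
    haveI : IsNoetherian X := Groth.Agent.KExact.BCNat.isNoetherian_of_ft (X ↘ Spec (CommRingCat.of k))
    obtain ⟨U, hxU, hU⟩ := (Groth.Agent.S6720.result k X hreg x hx K.obj K.property).1 (fun j φ => by
      let P : T X := ⟨DCoh.inD X (pt x), perfect_pt k hreg hx⟩
      have h0 := h P ⟨x, hx, rfl⟩ j ((homShift k P K j).symm φ)
      have h1 := congrArg (homShift k P K j) h0
      rwa [LinearEquiv.apply_symm_apply, map_zero] at h1)
    exact hU i x hxU hmem

include k in
theorem isZero_of_hom_to (hreg : Models.IsRegularScheme X) (K : T X)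
    (h : ∀ E ∈ ptSet X, ∀ (i : ℤ) (f : K ⟶ (shiftFunctor (T X) i).obj E), f = 0) : IsZero K :=
  isZero_of_forall_notMem k hreg K fun x hx i hmem => by
    haveI : IsNoetherian X := Groth.Agent.KExact.BCNat.isNoetherian_of_ft (X ↘ Spec (CommRingCat.of k))
    obtain ⟨U, hxU, hU⟩ := (Groth.Agent.S6720.result k X hreg x hx K.obj K.property).2 (fun j φ => by
      let P : T X := ⟨DCoh.inD X (pt x), perfect_pt k hreg hx⟩
      have h0 := h P ⟨x, hx, rfl⟩ j ((homShift k K P j).symm φ)
      have h1 := congrArg (homShift k K P j) h0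
      rwa [LinearEquiv.apply_symm_apply, map_zero] at h1)
    exact hU i x hxU hmem

end Groth.Agent.H9Misc.PointSpan
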