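import Groth.Prelude.Def_ModSite2
import Groth.Prelude.Def_DerSch
import Groth.Agent.QCoh.Stalk
import Mathlib.Topology.Sheaves.Points

/-! The fibre at the point of the site of opens given by `x` is the stalk at `x`. -/

set_option linter.style.haveILetI false
set_option backward.isDefEq.respectTransparency false
set_option backward.isDefEq.respectTransparency.types false

universe u

open CategoryTheory CategoryTheory.Limits Opposite TopologicalSpace AlgebraicGeometry

noncomputable section

namespace Groth.Agent.H9Misc.PointStalk

section Ab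

variable {X : TopCat.{u}} (x : X) (P : X.Presheaf AddCommGrpCat.{u})

/-- From the fibre to the stalk. -/
def abHom : (Opens.pointGrothendieckTopology x).presheafFiber.obj P ⟶ P.stalk x :=
  (Opens.pointGrothendieckTopology x).presheafFiberDesc (fun U h => P.germ U x h.down.down)
    (fun U V f h => P.germ_res f x h.down.down)

theorem abHom_germ (U : Opens X) (h : (Opens.pointGrothendieckTopology x).fiber.obj U) (s : P.obj (op U)) :
    abHom x P ((Opens.pointGrothendieckTopology x).toPresheafFiber U h P s) = P.germ U x h.down.down s :=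
  ConcreteCategory.congr_hom (GrothendieckTopology.Point.toPresheafFiber_presheafFiberDesc _ _ _ U h) s

theorem abHom_bijective : Function.Bijective (abHom x P) := by
  constructor
  · intro a b hab
    obtain ⟨U, h, s, t, rfl, rfl⟩ := (Opens.pointGrothendieckTopology x).toPresheafFiber_jointly_surjective₂ a b
    rw [abHom_germ, abHom_germ] at hab
    obtain ⟨W, hW, i, i', hi⟩ := P.germ_eq x h.down.down h.down.down s t hab
    obtain rfl : i' = i := Subsingleton.elim _ _
    exact ((Opens.pointGrothendieckTopology x).toPresheafFiber_eq_iff' U h s t).2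
      ⟨W, i', ⟨⟨hW⟩⟩, rfl, hi⟩
  · intro a
    obtain ⟨U, hU, s, rfl⟩ := P.germ_exist a
    exact ⟨(Opens.pointGrothendieckTopology x).toPresheafFiber U ⟨⟨hU⟩⟩ P s, abHom_germ x P U ⟨⟨hU⟩⟩ s⟩

end Ab

section Ring

variable {X : TopCat.{u}} (x : X) (P : X.Presheaf CommRingCat.{u})

/-- From the fibre to the stalk. -/
def ringHom : (Opens.pointGrothendieckTopology x).presheafFiber.obj P ⟶ P.stalk x :=
  (Opens.pointGrothendieckTopology x).presheafFiberDesc (fun U h => P.germ U x h.down.down)
    (fun U V f h => P.germ_res f x h.down.down)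

theorem ringHom_germ (U : Opens X) (h : (Opens.pointGrothendieckTopology x).fiber.obj U) (s : P.obj (op U)) :
    ringHom x P ((Opens.pointGrothendieckTopology x).toPresheafFiber U h P s) = P.germ U x h.down.down s :=
  ConcreteCategory.congr_hom (GrothendieckTopology.Point.toPresheafFiber_presheafFiberDesc _ _ _ U h) s

theorem ringHom_bijective : Function.Bijective (ringHom x P) := by
  constructor
  · intro a b hab
    obtain ⟨U, h, s, t, rfl, rfl⟩ := (Opens.pointGrothendieckTopology x).toPresheafFiber_jointly_surjective₂ a b
    rw [ringHom_germ, ringHom_germ] at hab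
    obtain ⟨W, hW, i, i', hi⟩ := P.germ_eq x h.down.down h.down.down s t hab
    obtain rfl : i' = i := Subsingleton.elim _ _
    exact ((Opens.pointGrothendieckTopology x).toPresheafFiber_eq_iff' U h s t).2
      ⟨W, i', ⟨⟨hW⟩⟩, rfl, hi⟩
  · intro a
    obtain ⟨U, hU, s, rfl⟩ := P.germ_exist a
    exact ⟨(Opens.pointGrothendieckTopology x).toPresheafFiber U ⟨⟨hU⟩⟩ P s, ringHom_germ x P U ⟨⟨hU⟩⟩ s⟩

end Ring

variable {X : Scheme.{u}} (x : X)

/-- The two stalks of the structure sheaf. -/
def ringEquiv : ModSite.stalkRing (Opens.pointGrothendieckTopology x) X.sheaf ≃+* X.presheaf.stalk x :=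
  RingEquiv.ofBijective (ringHom x X.presheaf).hom (ringHom_bijective x X.presheaf)

/-- The two stalks of a sheaf of modules. -/
def moduleIso (F : X.Modules) :
    ModSite.stalkMod (O := X.sheaf) (Opens.pointGrothendieckTopology x) F ≅
      (ModuleCat.restrictScalars (ringEquiv x).toRingHom).obj ((DerSch.stalkFunctor X x).obj F) :=
  let f : ModSite.stalkAb (O := X.sheaf) (Opens.pointGrothendieckTopology x) F →+ F.presheaf.stalk x :=
    (abHom x F.presheaf).hom
  have hlin : ∀ (r : ModSite.stalkRing (Opens.pointGrothendieckTopology x) X.sheaf)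
      (m : ModSite.stalkAb (O := X.sheaf) (Opens.pointGrothendieckTopology x) F),
      f (r • m) = ringEquiv x r • f m := by
    intro r m
    obtain ⟨U, hU, r, rfl⟩ := (Opens.pointGrothendieckTopology x).toPresheafFiber_jointly_surjective (P := X.presheaf) r
    obtain ⟨V, hV, m, rfl⟩ := (Opens.pointGrothendieckTopology x).toPresheafFiber_jointly_surjective
      (P := (ModSite.toAb (O := X.sheaf) F).obj) m
    let W : X.Opens := U ⊓ V
    have hW : (Opens.pointGrothendieckTopology x).fiber.obj W := ⟨⟨⟨hU.down.down, hV.down.down⟩⟩⟩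
    let iU : W ⟶ U := homOfLE inf_le_left
    let iV : W ⟶ V := homOfLE inf_le_right
    rw [show (Opens.pointGrothendieckTopology x).toPresheafFiber U hU X.presheaf r =
        (Opens.pointGrothendieckTopology x).toPresheafFiber W hW X.presheaf (X.presheaf.map iU.op r) from
          ((Opens.pointGrothendieckTopology x).toPresheafFiber_w_apply iU hW X.presheaf r).symm,
      show (Opens.pointGrothendieckTopology x).toPresheafFiber V hV (ModSite.toAb (O := X.sheaf) F).obj m =
        (Opens.pointGrothendieckTopology x).toPresheafFiber W hW (ModSite.toAb (O := X.sheaf) F).obj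
          ((ModSite.toAb (O := X.sheaf) F).obj.map iV.op m) from
          ((Opens.pointGrothendieckTopology x).toPresheafFiber_w_apply iV hW _ m).symm]
    have h1 := ModSite.germ_smul (O := X.sheaf) (Opens.pointGrothendieckTopology x) F W hW
      (X.presheaf.map iU.op r) ((ModSite.toAb (O := X.sheaf) F).obj.map iV.op m)
    refine (congrArg f h1.symm).trans ?_
    refine (abHom_germ x F.presheaf W hW _).trans ?_
    refine (QCoh.germ_smul' F hW.down.down _ _).trans ?_
    exact congrArg₂ (· • ·) (ringHom_germ x X.presheaf W hW _).symm (abHom_germ x F.presheaf W hW _).symm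
  ({ AddEquiv.ofBijective f (abHom_bijective x F.presheaf) with map_smul' := hlin } :
    ModSite.stalkMod (O := X.sheaf) (Opens.pointGrothendieckTopology x) F ≃ₗ[_]
      ((ModuleCat.restrictScalars (ringEquiv x).toRingHom).obj ((DerSch.stalkFunctor X x).obj F))).toModuleIso

end Groth.Agent.H9Misc.PointStalk
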