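import Mathlib.CategoryTheory.Triangulated.Pretriangulated
import Mathlib.CategoryTheory.Triangulated.Yoneda
import Mathlib.Algebra.Homology.HomologicalComplex

/-! Postnikov systems. -/

universe v u

open CategoryTheory Limits Pretriangulated

namespace Groth.Agent.H9Misc

variable {D : Type u} [Category.{v} D] [Preadditive D] [HasShift D ℤ]

/-- No nonzero morphism `X⟦a⟧ → Y⟦b⟧`. -/
def NoHom (X : D) (a : ℤ) (Y : D) (b : ℤ) : Prop :=
  ∀ f : (shiftFunctor D a).obj X ⟶ (shiftFunctor D b).obj Y, f = 0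

variable [∀ n : ℤ, (shiftFunctor D n).Additive]

lemma NoHom.congr {X : D} {a : ℤ} {Y : D} {b : ℤ} (h : NoHom X a Y b) (a' b' : ℤ)
    (e : a - b = a' - b') : NoHom X a' Y b' := by
  intro f
  apply (shiftFunctor D (a - a')).map_injective
  rw [Functor.map_zero]
  let eX := (shiftFunctorAdd' D a' (a - a') a (by lia)).app X
  let eY := (shiftFunctorAdd' D b' (a - a') b (by lia)).app Y
  have h1 := h (eX.hom ≫ (shiftFunctor D (a - a')).map f ≫ eY.inv)
  rw [← cancel_epi eX.hom, ← cancel_mono eY.inv, Category.assoc, comp_zero, zero_comp]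
  exact h1

lemma NoHom.zero_plain {X : D} {Y : D} (h : NoHom X 0 Y 0) (f : X ⟶ Y) : f = 0 := by
  have h1 := h ((shiftFunctorZero D ℤ).hom.app X ≫ f ≫ (shiftFunctorZero D ℤ).inv.app Y)
  rw [← cancel_epi ((shiftFunctorZero D ℤ).hom.app X),
    ← cancel_mono ((shiftFunctorZero D ℤ).inv.app Y), Category.assoc, comp_zero, zero_comp]
  exact h1

lemma NoHom.of_plain {X Y : D} (h : ∀ f : X ⟶ Y, f = 0) : NoHom X 0 Y 0 := by
  intro f
  have h1 := h ((shiftFunctorZero D ℤ).inv.app X ≫ f ≫ (shiftFunctorZero D ℤ).hom.app Y)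
  rw [← cancel_epi ((shiftFunctorZero D ℤ).inv.app X),
    ← cancel_mono ((shiftFunctorZero D ℤ).hom.app Y), Category.assoc, comp_zero, zero_comp]
  exact h1

lemma NoHom.of_right {X Y : D} {a : ℤ} (h : ∀ f : (shiftFunctor D a).obj X ⟶ Y, f = 0) :
    NoHom X a Y 0 := by
  intro f
  rw [← cancel_mono ((shiftFunctorZero D ℤ).hom.app Y), zero_comp]
  exact h _

lemma NoHom.of_left {X Y : D} {b : ℤ} (h : ∀ f : X ⟶ (shiftFunctor D b).obj Y, f = 0) :
    NoHom X 0 Y b := by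
  intro f
  rw [← cancel_epi ((shiftFunctorZero D ℤ).inv.app X), comp_zero]
  exact h _

lemma NoHom.shift_plain {X Y : D} {b : ℤ} (h : NoHom X 0 Y b)
    (f : X ⟶ (shiftFunctor D b).obj Y) : f = 0 := by
  have h1 := h ((shiftFunctorZero D ℤ).hom.app X ≫ f)
  rw [← cancel_epi ((shiftFunctorZero D ℤ).hom.app X), comp_zero]
  exact h1

lemma NoHom.plain_shift {X Y : D} {a : ℤ} (h : NoHom X a Y 0)
    (f : (shiftFunctor D a).obj X ⟶ Y) : f = 0 := by
  have h1 := h (f ≫ (shiftFunctorZero D ℤ).inv.app Y)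
  rw [← cancel_mono ((shiftFunctorZero D ℤ).inv.app Y), zero_comp]
  exact h1

lemma NoHom.of_isIso_right {X Y Y' : D} (e : Y' ⟶ Y) [IsIso e] (h : ∀ f : X ⟶ Y, f = 0)
    (f : X ⟶ Y') : f = 0 := by
  rw [← cancel_mono e, zero_comp]; exact h _

variable [HasZeroObject D] [Pretriangulated D]

/-- Vanishing into a term of a triangle. -/
lemma hom_to_step {T : Triangle D} (hT : T ∈ distTriang D) {W : D}
    (h2 : ∀ f : W ⟶ T.obj₂, f = 0) (h3 : ∀ f : W ⟶ (shiftFunctor D (-1 : ℤ)).obj T.obj₃, f = 0)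
    (f : W ⟶ T.obj₁) : f = 0 := by
  obtain ⟨g, rfl⟩ := Triangle.coyoneda_exact₂ _ (inv_rot_of_distTriang _ hT) f (h2 _)
  rw [show g = 0 from h3 g]
  exact zero_comp

/-- Vanishing out of a term of a triangle. -/
lemma hom_from_step {T : Triangle D} (hT : T ∈ distTriang D) {V : D}
    (h2 : ∀ f : T.obj₂ ⟶ V, f = 0) (h3 : ∀ f : (shiftFunctor D (-1 : ℤ)).obj T.obj₃ ⟶ V, f = 0)
    (f : T.obj₁ ⟶ V) : f = 0 := by
  obtain ⟨g, rfl⟩ := Triangle.yoneda_exact₂ _ (inv_rot_of_distTriang _ hT) f (h3 _)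
  rw [show g = 0 from h2 g]
  exact comp_zero

lemma eq_zero_of_comp_mor₁ {T : Triangle D} (hT : T ∈ distTriang D) {W : D}
    (h : ∀ f : (shiftFunctor D (1 : ℤ)).obj W ⟶ T.obj₃, f = 0)
    (f : W ⟶ T.obj₁) (hf : f ≫ T.mor₁ = 0) : f = 0 := by
  obtain ⟨g, rfl⟩ := Triangle.coyoneda_exact₂ _ (inv_rot_of_distTriang _ hT) f hf
  rw [show g = 0 from (((NoHom.of_right h).congr 0 (-1) (by lia)).shift_plain g)]
  exact zero_comp

variable {X : ChainComplex D ℕ} {Y : ℕ → D} {a : ∀ k, Y k ⟶ X.X k} {b : ∀ k, X.X (k + 1) ⟶ Y k}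
  {c : ∀ k, Y k ⟶ (shiftFunctor D (1 : ℤ)).obj (Y (k + 1))}

lemma noHom_to_Y (h0 : IsIso (a 0)) {N : ℕ}
    (hP : ∀ k, k < N → Triangle.mk (a (k + 1)) (b k) (c k) ∈ distTriang D) :
    ∀ j, j ≤ N → ∀ (W : D), (∀ l, l ≤ j → NoHom W ((j : ℤ) - l) (X.X l) 0) →
      ∀ f : W ⟶ Y j, f = 0 := by
  intro j
  induction j with
  | zero =>
    intro _ W h f
    exact NoHom.of_isIso_right (a 0) ((h 0 le_rfl).congr 0 0 (by simp)).zero_plain f
  | succ j ih =>
    intro hj W h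
    refine hom_to_step (hP j hj) ((h (j + 1) le_rfl).congr 0 0 (by push_cast; ring)).zero_plain ?_
    refine fun f => NoHom.shift_plain ?_ f
    refine (NoHom.of_right (a := (1 : ℤ)) ?_).congr 0 (-1) (by lia)
    refine ih (Nat.le_of_succ_le hj) _ fun l hl => NoHom.of_right fun f => ?_
    have h1 := ((h l (hl.trans j.le_succ)).congr ((j : ℤ) - l + 1) 0 (by push_cast; ring)).plain_shift
    rw [← cancel_epi ((shiftFunctorAdd' D (1 : ℤ) ((j : ℤ) - l) ((j : ℤ) - l + 1) (by ring)).hom.app W),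
      comp_zero]
    exact h1 _

lemma noHom_from_Y (h0 : IsIso (a 0)) {N : ℕ}
    (hP : ∀ k, k < N → Triangle.mk (a (k + 1)) (b k) (c k) ∈ distTriang D) :
    ∀ j, j ≤ N → ∀ (V : D), (∀ l, l ≤ j → NoHom (X.X l) ((l : ℤ) - j) V 0) →
      ∀ f : Y j ⟶ V, f = 0 := by
  intro j
  induction j with
  | zero =>
    intro _ V h f
    rw [← cancel_epi (inv (a 0)), comp_zero]
    exact ((h 0 le_rfl).congr 0 0 (by simp)).zero_plain _
  | succ j ih =>
    intro hj V h
    refine hom_from_step (hP j hj) ((h (j + 1) le_rfl).congr 0 0 (by push_cast; ring)).zero_plain ?_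
    refine fun f => NoHom.plain_shift ?_ f
    refine (NoHom.of_left (b := (1 : ℤ)) ?_).congr (-1) 0 (by lia)
    refine ih (Nat.le_of_succ_le hj) _ fun l hl => NoHom.of_right fun f => ?_
    exact ((h l (hl.trans j.le_succ)).congr ((l : ℤ) - j) 1 (by push_cast; ring)) f

/-! ### Existence -/

variable (X) in
/-- A choice of lift. -/
noncomputable def stageLift {k : ℕ} (Z : D) (α : Z ⟶ X.X k) : X.X (k + 1) ⟶ Z :=
  open Classical in
  if h : ∃ β : X.X (k + 1) ⟶ Z, β ≫ α = X.d (k + 1) k then h.choose else 0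

lemma stageLift_comp {k : ℕ} {Z : D} {α : Z ⟶ X.X k}
    (h : ∃ β : X.X (k + 1) ⟶ Z, β ≫ α = X.d (k + 1) k) : stageLift X Z α ≫ α = X.d (k + 1) k := by
  rw [stageLift, dif_pos h]; exact h.choose_spec

variable (X) in
/-- The objects of a Postnikov system. -/
noncomputable def stage : (k : ℕ) → Σ Z : D, (Z ⟶ X.X k)
  | 0 => ⟨X.X 0, 𝟙 _⟩
  | k + 1 => ⟨(distinguished_cocone_triangle₁ (stageLift X (stage k).1 (stage k).2)).choose,
      (distinguished_cocone_triangle₁ (stageLift X (stage k).1 (stage k).2)).choose_spec.choose⟩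

lemma exists_postnikov (X : ChainComplex D ℕ) (n : ℕ)
    (hX : ∀ i j : ℕ, j + 2 < i → i ≤ n →
      ∀ φ : (shiftFunctor D ((i : ℤ) - j - 2)).obj (X.X i) ⟶ X.X j, φ = 0) :
    ∃ (Y : ℕ → D) (a : ∀ k, Y k ⟶ X.X k) (b : ∀ k, X.X (k + 1) ⟶ Y k)
      (c : ∀ k, Y k ⟶ (shiftFunctor D (1 : ℤ)).obj (Y (k + 1))),
      IsIso (a 0) ∧ ∀ k, k < n →
        Triangle.mk (a (k + 1)) (b k) (c k) ∈ distTriang D ∧ b k ≫ a k = X.d (k + 1) k := by
  let Y : ℕ → D := fun k => (stage X k).1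
  let a : ∀ k, Y k ⟶ X.X k := fun k => (stage X k).2
  let b : ∀ k, X.X (k + 1) ⟶ Y k := fun k => stageLift X (stage X k).1 (stage X k).2
  have hc : ∀ k, ∃ c : Y k ⟶ (shiftFunctor D (1 : ℤ)).obj (Y (k + 1)),
      Triangle.mk (a (k + 1)) (b k) c ∈ distTriang D := fun k =>
    (distinguished_cocone_triangle₁ (b k)).choose_spec.choose_spec
  choose c hc using hc
  have h0 : IsIso (a 0) := inferInstanceAs (IsIso (𝟙 (X.X 0)))
  refine ⟨Y, a, b, c, h0, fun k hk => ⟨hc k, ?_⟩⟩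
  induction k with
  | zero => exact stageLift_comp ⟨X.d 1 0, Category.comp_id _⟩
  | succ k ih =>
    refine stageLift_comp ?_
    have hb : X.d (k + 2) (k + 1) ≫ b k = 0 := by
      have hcomp : (X.d (k + 2) (k + 1) ≫ b k) ≫ a k = 0 := by
        rw [Category.assoc, ih (Nat.lt_of_succ_lt hk), X.d_comp_d]
      rcases k with _ | k
      · rw [← cancel_mono (a 0), zero_comp]; exact hcomp
      · refine eq_zero_of_comp_mor₁ (hc k) ?_ _ hcomp
        refine noHom_to_Y h0 (N := k) (fun l _ => hc l) k le_rfl _ fun l hl => NoHom.of_right fun f => ?_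
        have h1 := (NoHom.of_right (hX (k + 3) l (by lia) hk)).congr ((k : ℤ) - l + 1) 0
          (by push_cast; ring)
        rw [← cancel_epi ((shiftFunctorAdd' D (1 : ℤ) ((k : ℤ) - l) ((k : ℤ) - l + 1)
          (by ring)).hom.app _), comp_zero]
        exact h1.plain_shift _
    obtain ⟨β, hβ⟩ := Triangle.coyoneda_exact₂ _ (hc k) (X.d (k + 2) (k + 1)) hb
    exact ⟨β, hβ.symm⟩

/-! ### Morphisms -/

variable {X' : ChainComplex D ℕ} {φ : X ⟶ X'} {qY : ℕ → D} {qa : ∀ k, qY k ⟶ X'.X k}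
  {qb : ∀ k, X'.X (k + 1) ⟶ qY k}
  {qc : ∀ k, qY k ⟶ (shiftFunctor D (1 : ℤ)).obj (qY (k + 1))}

variable (φ a b c qb qa qc) in
/-- The components of a morphism of Postnikov systems. -/
noncomputable def stageMap [IsIso (qa 0)] : (k : ℕ) → (Y k ⟶ qY k)
  | 0 => a 0 ≫ φ.f 0 ≫ inv (qa 0)
  | k + 1 =>
    open Classical in
    if h : ∃ y : Y (k + 1) ⟶ qY (k + 1), y ≫ qa (k + 1) = a (k + 1) ≫ φ.f (k + 1) ∧
        c k ≫ (shiftFunctor D (1 : ℤ)).map y = stageMap k ≫ qc k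
    then h.choose else 0

lemma exists_morphism (h0 : IsIso (a 0)) (n : ℕ)
    (hP : ∀ k, k < n → Triangle.mk (a (k + 1)) (b k) (c k) ∈ distTriang D ∧
      b k ≫ a k = X.d (k + 1) k)
    (qh0 : IsIso (qa 0))
    (qhP : ∀ k, k < n → Triangle.mk (qa (k + 1)) (qb k) (qc k) ∈ distTriang D ∧
      qb k ≫ qa k = X'.d (k + 1) k)
    (hX : ∀ i j : ℕ, j + 1 < i → i ≤ n →
      ∀ ψ : (shiftFunctor D ((i : ℤ) - j - 1)).obj (X.X i) ⟶ X'.X j, ψ = 0) :
    ∃ y : ∀ k, Y k ⟶ qY k, (∀ k, k ≤ n → y k ≫ qa k = a k ≫ φ.f k) ∧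
      (∀ k, k < n → b k ≫ y k = φ.f (k + 1) ≫ qb k ∧
        c k ≫ (shiftFunctor D (1 : ℤ)).map (y (k + 1)) = y k ≫ qc k) := by
  let y := stageMap a c φ qa qc
  have hb : ∀ k, k < n → y k ≫ qa k = a k ≫ φ.f k → b k ≫ y k = φ.f (k + 1) ≫ qb k := by
    intro k hk hy
    rw [← sub_eq_zero]
    have hcomp : (b k ≫ y k - φ.f (k + 1) ≫ qb k) ≫ qa k = 0 := by
      rw [Preadditive.sub_comp, Category.assoc, Category.assoc, hy, (qhP k hk).2,
        ← Category.assoc, (hP k hk).2, φ.comm, sub_self]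
    rcases k with _ | k
    · rw [← cancel_mono (qa 0), zero_comp]; exact hcomp
    · refine eq_zero_of_comp_mor₁ (qhP k (Nat.lt_of_succ_lt hk)).1 ?_ _ hcomp
      refine noHom_to_Y qh0 (fun l hl => (qhP l hl).1) k (by lia) _ fun l hl => NoHom.of_right fun f => ?_
      have h1 := (NoHom.of_right (hX (k + 2) l (by lia) hk)).congr ((k : ℤ) - l + 1) 0
        (by push_cast; ring)
      rw [← cancel_epi ((shiftFunctorAdd' D (1 : ℤ) ((k : ℤ) - l) ((k : ℤ) - l + 1)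
        (by ring)).hom.app _), comp_zero]
      exact h1.plain_shift _
  have hstep : ∀ k, k < n → y k ≫ qa k = a k ≫ φ.f k →
      y (k + 1) ≫ qa (k + 1) = a (k + 1) ≫ φ.f (k + 1) ∧
        c k ≫ (shiftFunctor D (1 : ℤ)).map (y (k + 1)) = y k ≫ qc k := by
    intro k hk hy
    have hex : ∃ z : Y (k + 1) ⟶ qY (k + 1), z ≫ qa (k + 1) = a (k + 1) ≫ φ.f (k + 1) ∧
        c k ≫ (shiftFunctor D (1 : ℤ)).map z = y k ≫ qc k := by
      obtain ⟨z, hz1, hz2⟩ := complete_distinguished_triangle_morphism₁ _ _ (hP k hk).1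
        (qhP k hk).1 (φ.f (k + 1)) (y k) (hb k hk hy)
      exact ⟨z, hz1.symm, hz2⟩
    have : y (k + 1) = hex.choose := by
      show stageMap a c φ qa qc (k + 1) = _
      rw [stageMap, dif_pos hex]
    rw [this]
    exact hex.choose_spec
  have hall : ∀ k, k ≤ n → y k ≫ qa k = a k ≫ φ.f k := by
    intro k
    induction k with
    | zero =>
      intro _
      show (a 0 ≫ φ.f 0 ≫ inv (qa 0)) ≫ qa 0 = _
      rw [Category.assoc, Category.assoc, IsIso.inv_hom_id, Category.comp_id]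
    | succ k ih => exact fun hk => (hstep k hk (ih (Nat.le_of_succ_le hk))).1
  exact ⟨y, hall, fun k hk => ⟨hb k hk (hall k hk.le), (hstep k hk (hall k hk.le)).2⟩⟩

lemma unique_top (qh0 : IsIso (qa 0)) (n : ℕ)
    (hP : ∀ k, k < n → Triangle.mk (a (k + 1)) (b k) (c k) ∈ distTriang D)
    (hv : ∀ i : ℕ, 1 ≤ i → i ≤ n →
      ∀ ψ : (shiftFunctor D (i : ℤ)).obj (X.X i) ⟶ (shiftFunctor D (n : ℤ)).obj (qY n), ψ = 0)
    (y z : ∀ k, Y k ⟶ qY k) (hy0 : y 0 ≫ qa 0 = a 0 ≫ φ.f 0) (hz0 : z 0 ≫ qa 0 = a 0 ≫ φ.f 0)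
    (hy : ∀ k, k < n → c k ≫ (shiftFunctor D (1 : ℤ)).map (y (k + 1)) = y k ≫ qc k)
    (hz : ∀ k, k < n → c k ≫ (shiftFunctor D (1 : ℤ)).map (z (k + 1)) = z k ≫ qc k) :
    y n = z n := by
  suffices key : ∀ k m : ℕ, k + m = n →
      ∀ g : qY k ⟶ (shiftFunctor D (m : ℤ)).obj (qY n), y k ≫ g = z k ≫ g by
    have e := key n 0 (add_zero n) ((shiftFunctorZero' D ((0 : ℕ) : ℤ) Nat.cast_zero).inv.app (qY n))
    exact (cancel_mono _).1 e
  intro k
  induction k with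
  | zero =>
    intro m _ g
    rw [show y 0 = z 0 from (cancel_mono (qa 0)).1 (hy0.trans hz0.symm)]
  | succ k ih =>
    intro m hm g
    apply (shiftFunctor D (1 : ℤ)).map_injective
    rw [← sub_eq_zero, ← Functor.map_sub, ← Preadditive.sub_comp]
    let δ := (y (k + 1) - z (k + 1)) ≫ g
    let e := (shiftFunctorAdd' D (m : ℤ) 1 ((m + 1 : ℕ) : ℤ) (by push_cast; ring)).app (qY n)
    have h0 : c k ≫ (shiftFunctor D (1 : ℤ)).map δ = 0 := by
      simp only [δ, Functor.map_comp, Functor.map_sub, Preadditive.comp_sub, Preadditive.sub_comp]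
      rw [sub_eq_zero, reassoc_of% (hy k (by lia)), reassoc_of% (hz k (by lia))]
      have := ih (m + 1) (by lia) (qc k ≫ (shiftFunctor D (1 : ℤ)).map g ≫ e.inv)
      rw [← cancel_mono e.inv]
      simpa only [Category.assoc] using this
    obtain ⟨w, hw⟩ := Triangle.yoneda_exact₃ _ (rot_of_distTriang _ (hP k (by lia)))
      ((shiftFunctor D (1 : ℤ)).map δ) h0
    have hw0 : w = 0 := by
      have h1 := ((show NoHom (X.X (k + 1)) ((k + 1 : ℕ) : ℤ) (qY n) (n : ℤ) from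
        hv (k + 1) (by lia) (by lia)).congr 1 ((m + 1 : ℕ) : ℤ) (by omega))
      rw [← cancel_mono e.inv, zero_comp]
      exact h1 _
    exact hw.trans ((congrArg (_ ≫ ·) hw0).trans comp_zero)

lemma unique (qh0 : IsIso (qa 0)) (h0 : IsIso (a 0)) (n : ℕ)
    (hP : ∀ k, k < n → Triangle.mk (a (k + 1)) (b k) (c k) ∈ distTriang D)
    (qhP : ∀ k, k < n → Triangle.mk (qa (k + 1)) (qb k) (qc k) ∈ distTriang D)
    (hv : ∀ i j : ℕ, 0 < i → i ≤ j → j ≤ n →
      (∀ ψ : (shiftFunctor D (1 - (i : ℤ))).obj (X.X (j - i)) ⟶ X'.X j, ψ = 0) ∧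
      (∀ ψ : X.X j ⟶ (shiftFunctor D (-(i : ℤ))).obj (X'.X (j - i)), ψ = 0))
    (y z : ∀ k, Y k ⟶ qY k)
    (hy : ∀ k, k ≤ n → y k ≫ qa k = a k ≫ φ.f k) (hz : ∀ k, k ≤ n → z k ≫ qa k = a k ≫ φ.f k)
    (hyc : ∀ k, k < n → c k ≫ (shiftFunctor D (1 : ℤ)).map (y (k + 1)) = y k ≫ qc k)
    (hzc : ∀ k, k < n → c k ≫ (shiftFunctor D (1 : ℤ)).map (z (k + 1)) = z k ≫ qc k) :
    ∀ k, k ≤ n → y k = z k := by
  intro k
  induction k with
  | zero => exact fun hk => (cancel_mono (qa 0)).1 ((hy 0 hk).trans (hz 0 hk).symm)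
  | succ k ih =>
    intro hk
    rw [← sub_eq_zero]
    have h1 : c k ≫ (shiftFunctor D (1 : ℤ)).map (y (k + 1) - z (k + 1)) = 0 := by
      rw [Functor.map_sub, Preadditive.comp_sub, hyc k hk, hzc k hk, ih (Nat.le_of_succ_le hk),
        sub_self]
    obtain ⟨w, hw⟩ := Triangle.yoneda_exact₃ _ (rot_of_distTriang _ (hP k hk))
      ((shiftFunctor D (1 : ℤ)).map (y (k + 1) - z (k + 1))) h1
    suffices key : ∀ h : X.X (k + 1) ⟶ qY (k + 1),
        (shiftFunctor D (1 : ℤ)).map (y (k + 1) - z (k + 1)) =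
          (-(shiftFunctor D (1 : ℤ)).map (a (k + 1))) ≫ (shiftFunctor D (1 : ℤ)).map h →
        y (k + 1) - z (k + 1) = 0 by
      obtain ⟨h, rfl⟩ := (shiftFunctor D (1 : ℤ)).map_surjective w
      exact key h hw
    intro h hw
    have hh : y (k + 1) - z (k + 1) = a (k + 1) ≫ (-h) := by
      apply (shiftFunctor D (1 : ℤ)).map_injective
      refine hw.trans ?_
      rw [Functor.map_comp, Functor.map_neg, Preadditive.comp_neg, ← Preadditive.neg_comp]
    have h2 : (a (k + 1) ≫ (-h)) ≫ qa (k + 1) = 0 := by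
      rw [← hh, Preadditive.sub_comp, hy _ hk, hz _ hk, sub_self]
    rw [Category.assoc] at h2
    obtain ⟨u, hu⟩ := Triangle.yoneda_exact₂ _ (hP k hk) ((-h) ≫ qa (k + 1)) h2
    have hu0 : u = 0 := noHom_from_Y h0 (fun l hl => hP l hl) k (by lia) _ (fun l hl => by
      have := (hv (k + 1 - l) (k + 1) (by lia) (by lia) hk).1
      rw [show k + 1 - (k + 1 - l) = l by lia] at this
      exact (NoHom.of_right this).congr _ _ (by omega)) u
    have hh0 : (-h) = 0 := eq_zero_of_comp_mor₁ (qhP k hk)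
      (noHom_to_Y qh0 (fun l hl => qhP l hl) k (by lia) _ fun l hl => NoHom.of_right fun f => by
        have := (hv (k + 1 - l) (k + 1) (by lia) (by lia) hk).2
        rw [show k + 1 - (k + 1 - l) = l by lia] at this
        have h3 := (NoHom.of_left this).congr ((k : ℤ) - l + 1) 0 (by omega)
        rw [← cancel_epi ((shiftFunctorAdd' D (1 : ℤ) ((k : ℤ) - l) ((k : ℤ) - l + 1)
          (by ring)).hom.app _), comp_zero]
        exact h3.plain_shift _)
      (-h) (hu.trans (by rw [hu0]; exact comp_zero))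
    rw [hh, hh0, comp_zero]

end Groth.Agent.H9Misc
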