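import Groth.Agent.H9Misc.FreeTilde
import Groth.Agent.GrModX.MapProps
import Groth.Agent.GrModX.QCohTilde
import Groth.Agent.QCoh.Localize
import Groth.Agent.AModX.Res
import Groth.Agent.ProjGamma.Frac
import Groth.Prelude.Def_GrQuotMod

/-!
# A quasi-coherent quotient of `M~` is the sheaf of a quotient of `M`
-/

set_option autoImplicit false
set_option backward.isDefEq.respectTransparency false
set_option backward.isDefEq.respectTransparency.types false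
set_option linter.style.haveILetI false
set_option linter.unusedSectionVars false
set_option maxHeartbeats 1600000
set_option synthInstance.maxHeartbeats 200000

universe u

open CategoryTheory CategoryTheory.Limits AlgebraicGeometry TopologicalSpace Opposite DirectSum
  HomogeneousLocalization

noncomputable section

namespace Groth.Agent.H9Misc.ProjCoh

open Groth.Agent

variable {R A : Type u} [CommRing R] [CommRing A] [Algebra R A] (𝒜 : ℕ → Submodule R A) [GradedAlgebra 𝒜]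
variable {M : Type u} [AddCommGroup M] [Module R M] [Module A M] [IsScalarTower R A M]
  (ℳ : ℕ → Submodule R M) [DirectSum.Decomposition ℳ] [SetLike.GradedSMul 𝒜 ℳ]

section Quot

variable (K : Submodule A M)

/-- The pieces of the quotient. -/
def qM (d : ℕ) : Submodule R (M ⧸ K) := (ℳ d).map (K.mkQ.restrictScalars R)

theorem mk_mem_qM {d : ℕ} {m : M} (hm : m ∈ ℳ d) : K.mkQ m ∈ qM ℳ K d := ⟨m, hm, rfl⟩

instance gradedSMul_qM : SetLike.GradedSMul 𝒜 (qM ℳ K) where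
  smul_mem := by
    rintro i j a _ ha ⟨m, hm, rfl⟩
    exact ⟨a • m, SetLike.GradedSMul.smul_mem ha hm, map_smul K.mkQ a m⟩

variable [GrQuot.IsHomogSub ℳ K]

/-- The inclusion of the pieces. -/
def toQ (d : ℕ) : GrQuot.quotM ℳ K d →+ qM ℳ K d :=
  AddMonoidHom.mk' (fun x => ⟨x.1, by obtain ⟨m, hm, e⟩ := x.2; exact ⟨m, hm, e⟩⟩) fun _ _ => rfl

instance decomposition_qM : DirectSum.Decomposition (qM ℳ K) where
  decompose' := fun x => DirectSum.map (toQ ℳ K) (decompose (GrQuot.quotM ℳ K) x)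
  left_inv x := by
    induction x using Decomposition.inductionOn (GrQuot.quotM ℳ K) with
    | zero => simp
    | @homogeneous i m =>
      dsimp only
      rw [decompose_coe, DirectSum.map_of, DirectSum.coeAddMonoidHom_of]
      rfl
    | add a b ha hb => dsimp only at ha hb ⊢; rw [decompose_add, map_add, map_add, ha, hb]
  right_inv w := by
    induction w using DirectSum.induction_on with
    | zero => simp
    | of d v =>
      obtain ⟨m, hm, e⟩ := v.2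
      have hv : (v : M ⧸ K) ∈ GrQuot.quotM ℳ K d := e ▸ GrQuot.mk_mem_quotM ℳ K hm
      show DirectSum.map (toQ ℳ K) (decompose (GrQuot.quotM ℳ K) (DirectSum.coeAddMonoidHom (qM ℳ K) _)) = _
      rw [DirectSum.coeAddMonoidHom_of, decompose_of_mem _ hv, DirectSum.map_of]
      rfl
    | add a b ha hb => simp only [map_add, decompose_add] at ha hb ⊢; rw [ha, hb]

end Quot

variable {ι : Type u} [Finite ι] {q : ℕ} {h : ι → A} (hh : ∀ t, h t ∈ 𝒜 q)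
variable {F : (Proj 𝒜).Modules} (p : GrMod.tilde 𝒜 ℳ 0 ⟶ F)

theorem pow_deg {s : A} {d : ℕ} (hs : s ∈ 𝒜 d) (k : ℕ) : s ^ k ∈ 𝒜 (k * d) := GrModX.pow_mem_deg 𝒜 hs k

/-- The section `m / h_t ^ k`. -/
def fr (t : ι) (k : ℕ) (m : M) (hm : GrModX.Deg ℳ ((k * q : ℕ) : ℤ) m) :
    Γ(GrMod.tilde 𝒜 ℳ 0, Proj.basicOpen 𝒜 (h t)) :=
  GrModX.fracSect 𝒜 ℳ 0 _ (j := k * q) (s := h t ^ k) (m := m) (pow_deg 𝒜 (hh t) k)
    (fun y => GrModX.pow_notMem y.1.isPrime y.2 k) (hm.congr (add_zero _).symm)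

/-- Its image. -/
def pf (t : ι) (k : ℕ) (m : M) (hm : GrModX.Deg ℳ ((k * q : ℕ) : ℤ) m) :
    Γ(F, Proj.basicOpen 𝒜 (h t)) :=
  p.app _ (fr 𝒜 ℳ hh t k m hm)

theorem pf_congr (t : ι) {k k' : ℕ} {m m' : M} (hk : k = k') (hm : m = m')
    (h₁ : GrModX.Deg ℳ ((k * q : ℕ) : ℤ) m) (h₂ : GrModX.Deg ℳ ((k' * q : ℕ) : ℤ) m') :
    pf 𝒜 ℳ hh p t k m h₁ = pf 𝒜 ℳ hh p t k' m' h₂ := by
  subst hk hm
  rfl

theorem pf_zero (t : ι) (k : ℕ) : pf 𝒜 ℳ hh p t k 0 (GrModX.Deg.zero _) = 0 := by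
  rw [pf, show fr 𝒜 ℳ hh t k 0 (GrModX.Deg.zero _) = 0 from GrModX.ext_val 𝒜 ℳ fun y =>
    LocalizedModule.zero_mk _, map_zero]

theorem pf_add (t : ι) (k : ℕ) {m m' : M} (hm : GrModX.Deg ℳ ((k * q : ℕ) : ℤ) m)
    (hm' : GrModX.Deg ℳ ((k * q : ℕ) : ℤ) m') :
    pf 𝒜 ℳ hh p t k (m + m') (hm.add hm') = pf 𝒜 ℳ hh p t k m hm + pf 𝒜 ℳ hh p t k m' hm' := by
  rw [pf, pf, pf, ← map_add]
  refine congrArg _ (GrModX.ext_val 𝒜 ℳ fun y => ?_)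
  refine Eq.trans ?_ (show GrMod.val (fr 𝒜 ℳ hh t k m hm) y + GrMod.val (fr 𝒜 ℳ hh t k m' hm') y = _ from rfl)
  rw [fr, fr, fr, GrModX.val_fracSect, GrModX.val_fracSect, GrModX.val_fracSect, LocalizedModule.mk_add_mk,
    LocalizedModule.mk_eq]
  refine ⟨1, ?_⟩
  simp only [one_smul, Submonoid.smul_def, Submonoid.coe_mul, smul_add, smul_smul]

/-- The function `a / h_t ^ l`. -/
def fn (t : ι) (l : ℕ) (a : A) (ha : a ∈ 𝒜 (l * q)) : Γ(Proj 𝒜, Proj.basicOpen 𝒜 (h t)) :=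
  Proj.awayToSection 𝒜 (h t) (Away.mk 𝒜 (hh t) l a (by rwa [smul_eq_mul]))

theorem basicOpen_fn (t : ι) (l : ℕ) (a : A) (ha : a ∈ 𝒜 (l * q)) :
    (Proj 𝒜).basicOpen (fn 𝒜 hh t l a ha) = Proj.basicOpen 𝒜 (h t * a) :=
  GrModX.basicOpen_awayToSection 𝒜 (hh t) l _

theorem pf_smul (t : ι) (l k : ℕ) {a : A} (ha : a ∈ 𝒜 (l * q)) {m : M}
    (hm : GrModX.Deg ℳ ((k * q : ℕ) : ℤ) m) :
    pf 𝒜 ℳ hh p t (l + k) (a • m) ((hm.smul 𝒜 ha).congr (by push_cast; ring)) =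
      fn 𝒜 hh t l a ha • pf 𝒜 ℳ hh p t k m hm := by
  rw [pf, pf, ← Scheme.Modules.Hom.app_smul]
  refine congrArg _ (GrModX.ext_val 𝒜 ℳ fun y => ?_)
  rw [GrModX.val_smul, fr, fr, GrModX.val_fracSect, GrModX.val_fracSect, fn, GrModX.oval_awayToSection,
    LocalizedModule.mk_smul_mk, LocalizedModule.mk_eq]
  refine ⟨1, ?_⟩
  simp only [one_smul, Submonoid.smul_def, Submonoid.coe_mul, smul_smul]
  congr 1
  ring

/-- `m` is sent to zero with every denominator. -/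
def InK (d : ℕ) (m : M) : Prop :=
  ∃ hm : m ∈ ℳ d, ∀ (t : ι) (k i : ℕ) (a : A) (ha : a ∈ 𝒜 i) (e : i + d = k * q),
    pf 𝒜 ℳ hh p t k (a • m) (((GrModX.deg_of_mem hm).smul 𝒜 ha).congr (by rw [← e]; push_cast; rfl)) = 0

theorem inK_zero (d : ℕ) : InK 𝒜 ℳ hh p d 0 :=
  ⟨zero_mem _, fun t k i a ha e => (pf_congr 𝒜 ℳ hh p t rfl (smul_zero a) _ (GrModX.Deg.zero _)).trans
    (pf_zero 𝒜 ℳ hh p t k)⟩

theorem inK_add {d : ℕ} {m m' : M} (h₁ : InK 𝒜 ℳ hh p d m) (h₂ : InK 𝒜 ℳ hh p d m') :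
    InK 𝒜 ℳ hh p d (m + m') := by
  obtain ⟨hm, h₁⟩ := h₁
  obtain ⟨hm', h₂⟩ := h₂
  refine ⟨add_mem hm hm', fun t k i a ha e => ?_⟩
  have d₁ : GrModX.Deg ℳ ((k * q : ℕ) : ℤ) (a • m) :=
    ((GrModX.deg_of_mem hm).smul 𝒜 ha).congr (by rw [← e]; push_cast; rfl)
  have d₂ : GrModX.Deg ℳ ((k * q : ℕ) : ℤ) (a • m') :=
    ((GrModX.deg_of_mem hm').smul 𝒜 ha).congr (by rw [← e]; push_cast; rfl)
  rw [pf_congr 𝒜 ℳ hh p t rfl (smul_add a m m') _ (d₁.add d₂), pf_add 𝒜 ℳ hh p t k d₁ d₂,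
    h₁ t k i a ha e, h₂ t k i a ha e, add_zero]

theorem inK_smul {d : ℕ} {m : M} (h₁ : InK 𝒜 ℳ hh p d m) {j : ℕ} {b : A} (hb : b ∈ 𝒜 j) :
    InK 𝒜 ℳ hh p (j + d) (b • m) := by
  obtain ⟨hm, h₁⟩ := h₁
  refine ⟨SetLike.GradedSMul.smul_mem hb hm, fun t k i a ha e => ?_⟩
  have e' : (i + j) + d = k * q := (Nat.add_assoc i j d).trans e
  exact (pf_congr 𝒜 ℳ hh p t rfl (smul_smul a b m) _ _).trans
    (h₁ t k (i + j) (a * b) (SetLike.mul_mem_graded ha hb) e')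

theorem decompose_smul_lt {x : A} {d : ℕ} (hx : x ∈ 𝒜 d) (m : M) (j : ℕ) (hj : j < d) :
    (decompose ℳ (x • m) j : M) = 0 := by
  induction m using Decomposition.inductionOn ℳ with
  | zero => simp
  | @homogeneous i t =>
    have h : x • (t : M) ∈ ℳ (d + i) := SetLike.GradedSMul.smul_mem hx t.2
    rw [decompose_of_mem_ne ℳ h (by omega)]
  | add a b ha hb => rw [smul_add, decompose_add, DFinsupp.add_apply, AddMemClass.coe_add, ha, hb, add_zero]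

/-- The kernel. -/
def ker : Submodule A M where
  carrier := {m | ∀ d, InK 𝒜 ℳ hh p d (decompose ℳ m d : M)}
  zero_mem' d := by
    rw [decompose_zero]
    exact inK_zero 𝒜 ℳ hh p d
  add_mem' {a b} ha hb d := by
    rw [decompose_add, DFinsupp.add_apply, AddMemClass.coe_add]
    exact inK_add 𝒜 ℳ hh p (ha d) (hb d)
  smul_mem' c m hm := by
    induction c using Decomposition.inductionOn 𝒜 with
    | zero =>
      intro d
      rw [zero_smul, decompose_zero]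
      exact inK_zero 𝒜 ℳ hh p d
    | @homogeneous i x =>
      intro d
      rcases lt_or_ge d i with hd | hd
      · rw [decompose_smul_lt 𝒜 ℳ x.2 m d hd]
        exact inK_zero 𝒜 ℳ hh p d
      · obtain ⟨j, rfl⟩ := Nat.exists_eq_add_of_le hd
        rw [GradedTail.decompose_smul_left 𝒜 ℳ x.2 m j]
        exact inK_smul 𝒜 ℳ hh p (hm j) x.2
    | add a b ha hb =>
      intro d
      rw [add_smul, decompose_add, DFinsupp.add_apply, AddMemClass.coe_add]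
      exact inK_add 𝒜 ℳ hh p (ha d) (hb d)

theorem mem_ker_of_inK {d : ℕ} {m : M} (hm : InK 𝒜 ℳ hh p d m) : m ∈ ker 𝒜 ℳ hh p := fun j => by
  rcases eq_or_ne d j with rfl | hne
  · rw [decompose_of_mem_same ℳ hm.1]; exact hm
  · rw [decompose_of_mem_ne ℳ hm.1 hne]; exact inK_zero 𝒜 ℳ hh p j

theorem inK_of_mem_ker {d : ℕ} {m : M} (hd : m ∈ ℳ d) (hm : m ∈ ker 𝒜 ℳ hh p) : InK 𝒜 ℳ hh p d m := by
  have := hm d
  rwa [decompose_of_mem_same ℳ hd] at this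

instance isHomogSub_ker : GrQuot.IsHomogSub ℳ (ker 𝒜 ℳ hh p) :=
  ⟨fun i _ hn => mem_ker_of_inK 𝒜 ℳ hh p (hn i)⟩

/-- The map on the sheaves. -/
def quotMap : GrMod.tilde 𝒜 ℳ 0 ⟶ GrMod.tilde 𝒜 (qM ℳ (ker 𝒜 ℳ hh p)) 0 :=
  GrMod.map 𝒜 (ker 𝒜 ℳ hh p).mkQ (fun _ _ hm => mk_mem_qM ℳ _ hm) 0

instance epi_quotMap : Epi (quotMap 𝒜 ℳ hh p) := by
  refine Preadditive.epi_of_cancel_zero _ fun {T} g hg => ?_
  refine Scheme.Modules.hom_ext _ _ fun U => ?_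
  ext s
  refine AModX.eq_of_locally _ _ fun y hy => ?_
  obtain ⟨f, d, hd, hf, hyf, hle⟩ := GrModX.exists_basicOpen_le 𝒜 (V := U) hy
  refine ⟨_, hle, hyf, ?_⟩
  obtain ⟨s', hs'⟩ := GrModX.map_app_surjective 𝒜 (ker 𝒜 ℳ hh p).mkQ (fun _ _ hm => mk_mem_qM ℳ _ hm) 0
    (fun k _ m' hm' => by obtain ⟨m, hm, e⟩ := hm'; exact ⟨m, hm, e⟩) 0 hd hf
    (AModX.res _ hle s)
  rw [← AModX.app_res g hle s, ← hs']
  have h1 : g.app (Proj.basicOpen 𝒜 f) ((quotMap 𝒜 ℳ hh p).app (Proj.basicOpen 𝒜 f) s') = 0 := by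
    show (quotMap 𝒜 ℳ hh p ≫ g).app (Proj.basicOpen 𝒜 f) s' = 0
    rw [hg]
    rfl
  refine h1.trans ?_
  show 0 = AModX.res T hle ((0 : _ ⟶ T).app U s)
  rw [show ((0 : GrMod.tilde 𝒜 (qM ℳ (ker 𝒜 ℳ hh p)) 0 ⟶ T).app U s) = 0 from rfl, map_zero]

theorem exists_local {U : (Proj 𝒜).Opens} (σ : Γ(GrMod.tilde 𝒜 ℳ 0, U)) (y : U) :
    ∃ (W : (Proj 𝒜).Opens) (_ : y.1 ∈ W) (hWU : W ≤ U) (j : ℕ) (m : M) (s : A) (_ : m ∈ ℳ j) (_ : s ∈ 𝒜 j)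
      (nin : ∀ z : W, s ∉ z.1.asHomogeneousIdeal), ∀ z : W,
        GrMod.val σ ⟨z.1, hWU z.2⟩ = LocalizedModule.mk m ⟨s, nin z⟩ := by
  obtain ⟨V, mV, iV, i, j, m, s, nin, c, w⟩ := (σ : GrMod.sect 𝒜 ℳ 0 (op U)).2 y
  have hm : (m : M) ∈ ℳ j := by
    rcases c with c | c
    · obtain rfl : i = j := by omega
      exact m.2
    · rw [c]; exact zero_mem _
  exact ⟨V, mV, iV.le, j, m, s, hm, s.2, nin, fun z => w z⟩

theorem res_fn_smul {U : (Proj 𝒜).Opens} (σ : Γ(GrMod.tilde 𝒜 ℳ 0, U)) {W : (Proj 𝒜).Opens} (hWU : W ≤ U)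
    {t : ι} (hWt : W ≤ Proj.basicOpen 𝒜 (h t)) {j : ℕ} {m : M} {s : A} (hm : m ∈ ℳ j) (hs : s ∈ 𝒜 j)
    (nin : ∀ z : W, s ∉ z.1.asHomogeneousIdeal)
    (hval : ∀ z : W, GrMod.val σ ⟨z.1, hWU z.2⟩ = LocalizedModule.mk m ⟨s, nin z⟩)
    {n : ℕ} (hn : q = n + 1) :
    AModX.resR hWt (fn 𝒜 hh t j (s ^ q) (by rw [Nat.mul_comm]; exact pow_deg 𝒜 hs q)) •
        AModX.res F hWU (p.app U σ) =
      AModX.res F hWt (pf 𝒜 ℳ hh p t j (s ^ n • m)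
        (((GrModX.deg_of_mem hm).smul 𝒜 (pow_deg 𝒜 hs n)).congr (by subst hn; push_cast; ring))) := by
  have hsq : s ^ q ∈ 𝒜 (j * q) := by rw [Nat.mul_comm]; exact pow_deg 𝒜 hs q
  have hd : GrModX.Deg ℳ ((j * q : ℕ) : ℤ) (s ^ n • m) :=
    ((GrModX.deg_of_mem hm).smul 𝒜 (pow_deg 𝒜 hs n)).congr (by subst hn; push_cast; ring)
  rw [pf, ← AModX.app_res, ← AModX.app_res, ← Scheme.Modules.Hom.app_smul]
  refine congrArg _ (GrModX.ext_val 𝒜 ℳ fun z => ?_)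
  rw [GrModX.val_smul]
  show (GrModX.oval 𝒜 (fn 𝒜 hh t j (s ^ q) hsq) ⟨z.1, hWt z.2⟩).val • GrMod.val σ ⟨z.1, hWU z.2⟩ =
    GrMod.val (fr 𝒜 ℳ hh t j (s ^ n • m) hd) ⟨z.1, hWt z.2⟩
  rw [fn, GrModX.oval_awayToSection, hval, fr, GrModX.val_fracSect, LocalizedModule.mk_smul_mk,
    LocalizedModule.mk_eq]
  refine ⟨1, ?_⟩
  subst hn
  simp only [one_smul, Submonoid.smul_def, Submonoid.coe_mul, smul_smul]
  congr 1
  ring

theorem app_eq_zero_of_quot (hq : 0 < q) (hcov : ∀ y : ProjectiveSpectrum 𝒜, ∃ t, h t ∉ y.asHomogeneousIdeal)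
    {U : (Proj 𝒜).Opens} (σ : Γ(GrMod.tilde 𝒜 ℳ 0, U)) (hσ : (quotMap 𝒜 ℳ hh p).app U σ = 0) :
    p.app U σ = 0 := by
  classical
  refine AModX.eq_of_locally _ _ fun y hy => ?_
  obtain ⟨V, hyV, hVU, j, m, s, hm, hs, nin, hval⟩ := exists_local 𝒜 ℳ σ ⟨y, hy⟩
  have h0 : GrMod.locMap (ker 𝒜 ℳ hh p).mkQ y (LocalizedModule.mk m ⟨s, nin ⟨y, hyV⟩⟩) = 0 := by
    rw [← hval ⟨y, hyV⟩]
    refine (GrMod.map_app_val (ker 𝒜 ℳ hh p).mkQ (fun _ _ hm => mk_mem_qM ℳ _ hm) 0 U σ ⟨y, hy⟩).symm.trans ?_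
    exact (congrArg (fun τ : Γ(GrMod.tilde 𝒜 (qM ℳ (ker 𝒜 ℳ hh p)) 0, U) => GrMod.val τ ⟨y, hy⟩)
      hσ).trans rfl
  rw [GrMod.locMap_mk] at h0
  obtain ⟨c, hc, hcm⟩ := (GrModX.mk_eq_zero_iff 𝒜 y _ _).1 h0
  obtain ⟨l, hl⟩ : ∃ l, (decompose 𝒜 c l : A) ∉ y.asHomogeneousIdeal := by
    by_contra! hall
    exact hc (by rw [← sum_support_decompose 𝒜 c]; exact Ideal.sum_mem _ fun i _ => hall i)
  have hcl := GrModX.proj_smul_eq_zero 𝒜 (mk_mem_qM ℳ (ker 𝒜 ℳ hh p) hm) hcm l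
  rw [GradedRing.proj_apply] at hcl
  obtain ⟨b, hb⟩ : ∃ b : A, b = (decompose 𝒜 c l : A) := ⟨_, rfl⟩
  have hbl : b ∈ 𝒜 l := hb ▸ SetLike.coe_mem _
  rw [← hb] at hcl hl
  have hM : InK 𝒜 ℳ hh p (l + j) (b • m) := inK_of_mem_ker 𝒜 ℳ hh p (SetLike.GradedSMul.smul_mem hbl hm)
    ((Submodule.Quotient.mk_eq_zero _).1 ((Submodule.Quotient.mk_smul _ b m).trans hcl))
  obtain ⟨t, ht⟩ := hcov y
  have hbm : b • m ∈ ℳ (l + j) := SetLike.GradedSMul.smul_mem hbl hm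
  obtain ⟨n, hn⟩ : ∃ n, q = n + 1 := ⟨q - 1, by omega⟩
  let W : (Proj 𝒜).Opens := V ⊓ Proj.basicOpen 𝒜 (h t) ⊓ Proj.basicOpen 𝒜 b
  have hWV : W ≤ V := inf_le_left.trans inf_le_left
  have hWt : W ≤ Proj.basicOpen 𝒜 (h t) := inf_le_left.trans inf_le_right
  have nin' : ∀ z : W, b * s ∉ z.1.asHomogeneousIdeal := fun z hz =>
    (z.1.isPrime.mem_or_mem hz).elim z.2.2 (nin ⟨z.1, hWV z.2⟩)
  refine ⟨W, hWV.trans hVU, ⟨⟨hyV, ht⟩, hl⟩, ?_⟩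
  have key := res_fn_smul 𝒜 ℳ hh p σ (hWV.trans hVU) hWt hbm
    (SetLike.mul_mem_graded hbl hs) nin' (fun z => by
      refine (hval ⟨z.1, hWV z.2⟩).trans (LocalizedModule.mk_eq.2 ⟨1, ?_⟩)
      simp only [one_smul, Submonoid.smul_def, smul_smul, mul_comm b s]) hn
  have hz := hM.2 t (l + j) (n * (l + j)) ((b * s) ^ n) (pow_deg 𝒜 (SetLike.mul_mem_graded hbl hs) n)
    (by subst hn; ring)
  rw [hz, map_zero] at key
  have hu : IsUnit (AModX.resR hWt (fn 𝒜 hh t (l + j) ((b * s) ^ q)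
      (by rw [Nat.mul_comm]; exact pow_deg 𝒜 (SetLike.mul_mem_graded hbl hs) q))) := by
    refine AModX.isUnit_resR hWt _ ?_
    rw [basicOpen_fn]
    exact fun z hz hmem => (z.isPrime.mem_or_mem hmem).elim (hWt hz)
      fun h' => nin' ⟨z, hz⟩ (z.isPrime.mem_of_pow_mem q h')
  rw [map_zero]
  exact hu.smul_eq_zero.1 key

theorem quot_eq_zero_of_app (hF : Coh.IsQCoh F) (hq : 0 < q)
    (hcov : ∀ y : ProjectiveSpectrum 𝒜, ∃ t, h t ∉ y.asHomogeneousIdeal)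
    {U : (Proj 𝒜).Opens} (σ : Γ(GrMod.tilde 𝒜 ℳ 0, U)) (hσ : p.app U σ = 0) :
    (quotMap 𝒜 ℳ hh p).app U σ = 0 := by
  classical
  letI := Fintype.ofFinite ι
  refine GrModX.ext_val 𝒜 _ fun y => ?_
  refine (GrMod.map_app_val (ker 𝒜 ℳ hh p).mkQ (fun _ _ hm => mk_mem_qM ℳ _ hm) 0 U σ y).trans ?_
  obtain ⟨V, hyV, hVU, j, m, s, hm, hs, nin, hval⟩ := exists_local 𝒜 ℳ σ y
  rw [show GrMod.val σ y = _ from hval ⟨y.1, hyV⟩, GrMod.locMap_mk]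
  refine (GrModX.mk_eq_zero_iff 𝒜 y.1 _ _).2 ?_
  obtain ⟨t, ht⟩ := hcov y.1
  obtain ⟨n, hn⟩ : ∃ n, q = n + 1 := ⟨q - 1, by omega⟩
  have haff := Proj.isAffineOpen_basicOpen 𝒜 (h t) (hh t) hq
  obtain ⟨f, hfV, hyf⟩ := haff.exists_basicOpen_le (V := V) ⟨y.1, hyV⟩ ht
  obtain ⟨z₀, rfl⟩ := (Proj.basicOpenIsoAway 𝒜 (h t) (hh t) hq).commRingCatIsoToRingEquiv.surjective f
  obtain ⟨k, b, hb, rfl⟩ := Away.mk_surjective 𝒜 (hh t) z₀
  have hb' : b ∈ 𝒜 (k * q) := by rwa [smul_eq_mul] at hb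
  have hby : b ∉ y.1.asHomogeneousIdeal := by
    change y.1 ∈ (Proj 𝒜).basicOpen (fn 𝒜 hh t k b hb') at hyf
    rw [basicOpen_fn] at hyf
    exact fun h' => hyf (y.1.asHomogeneousIdeal.toIdeal.mul_mem_left _ h')
  let W := (Proj 𝒜).basicOpen (fn 𝒜 hh t k b hb')
  have hWV : W ≤ V := hfV
  have hWt : W ≤ Proj.basicOpen 𝒜 (h t) := (Proj 𝒜).basicOpen_le _
  have hd₁ : GrModX.Deg ℳ ((j * q : ℕ) : ℤ) (s ^ n • m) :=
    ((GrModX.deg_of_mem hm).smul 𝒜 (pow_deg 𝒜 hs n)).congr (by subst hn; push_cast; ring)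
  have h1 := res_fn_smul 𝒜 ℳ hh p σ (hWV.trans hVU) hWt hm hs (fun z => nin ⟨z.1, hWV z.2⟩)
    (fun z => hval ⟨z.1, hWV z.2⟩) hn
  rw [hσ, map_zero, smul_zero] at h1
  obtain ⟨L, hL⟩ := QCoh.exists_pow_smul_eq_zero hF haff (fn 𝒜 hh t k b hb') _ h1.symm
  have hbL : b ^ L ∈ 𝒜 (k * L * q) := by
    have := pow_deg 𝒜 hb' L
    rwa [show L * (k * q) = k * L * q by ring] at this
  have hpow : fn 𝒜 hh t k b hb' ^ L = fn 𝒜 hh t (k * L) (b ^ L) hbL := ProjGamma.sect_ext fun z => by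
    rw [GrModX.oval_pow, val_pow, fn, fn, GrModX.oval_awayToSection, GrModX.oval_awayToSection,
      Localization.mk_pow]
    congr 1
    exact Subtype.ext (pow_mul _ _ _).symm
  rw [hpow, ← pf_smul 𝒜 ℳ hh p t (k * L) j hbL hd₁] at hL
  obtain ⟨E, hE⟩ : ∃ E, E = k * L + j := ⟨_, rfl⟩
  have hd₂ : GrModX.Deg ℳ ((E * q : ℕ) : ℤ) (b ^ L • s ^ n • m) :=
    (hd₁.smul 𝒜 hbL).congr (by subst hE; push_cast; ring)
  have h2 : pf 𝒜 ℳ hh p t E (b ^ L • s ^ n • m) hd₂ = 0 :=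
    (pf_congr 𝒜 ℳ hh p t hE rfl _ _).trans hL
  have hl : ∀ u : ι, ∃ l, fn 𝒜 hh u 1 (h t) (by rw [one_mul]; exact hh t) ^ l •
      pf 𝒜 ℳ hh p u E _ hd₂ = 0 := fun u => by
    refine QCoh.exists_pow_smul_eq_zero hF (Proj.isAffineOpen_basicOpen 𝒜 (h u) (hh u) hq) _ _ ?_
    obtain ⟨B, hB⟩ : ∃ B, B = (Proj 𝒜).basicOpen (fn 𝒜 hh u 1 (h t) (by rw [one_mul]; exact hh t)) := ⟨_, rfl⟩
    have hBu : B ≤ Proj.basicOpen 𝒜 (h u) := hB ▸ (Proj 𝒜).basicOpen_le _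
    have hBt : B ≤ Proj.basicOpen 𝒜 (h t) := by
      rw [hB, basicOpen_fn]
      exact fun z hz hmem => hz (z.asHomogeneousIdeal.toIdeal.mul_mem_left _ hmem)
    have e1 : AModX.res (GrMod.tilde 𝒜 ℳ 0) hBu (fr 𝒜 ℳ hh u E _ hd₂) =
        AModX.resR hBu (fn 𝒜 hh u 1 (h t) (by rw [one_mul]; exact hh t)) ^ E •
          AModX.res (GrMod.tilde 𝒜 ℳ 0) hBt (fr 𝒜 ℳ hh t E _ hd₂) := by
      refine GrModX.ext_val 𝒜 ℳ fun z => ?_
      rw [GrModX.val_pow_smul]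
      show GrMod.val (fr 𝒜 ℳ hh u E _ hd₂) ⟨z.1, hBu z.2⟩ =
        (GrModX.oval 𝒜 (fn 𝒜 hh u 1 (h t) (show h t ∈ 𝒜 (1 * q) by rw [one_mul]; exact hh t)) ⟨z.1, hBu z.2⟩).val ^ E • GrMod.val (fr 𝒜 ℳ hh t E _ hd₂) ⟨z.1, hBt z.2⟩
      rw [fn, GrModX.oval_awayToSection, fr, fr, GrModX.val_fracSect, GrModX.val_fracSect, Localization.mk_pow,
        LocalizedModule.mk_smul_mk, LocalizedModule.mk_eq]
      refine ⟨1, ?_⟩
      simp only [one_smul, Submonoid.smul_def, Submonoid.coe_mul, SubmonoidClass.coe_pow, smul_smul, pow_one]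
      congr 1
      ring
    subst hB
    show AModX.res F hBu (pf 𝒜 ℳ hh p u E _ hd₂) = 0
    rw [pf, ← AModX.app_res, e1, Scheme.Modules.Hom.app_smul, AModX.app_res, ← pf, h2, map_zero, smul_zero]
  choose l hl using hl
  obtain ⟨N, hN⟩ : ∃ N, N = Finset.univ.sup l := ⟨_, rfl⟩
  have hc : h t ^ N * b ^ L * s ^ n ∉ y.1.asHomogeneousIdeal := fun h' =>
    (y.1.isPrime.mem_or_mem h').elim (fun h'' => (y.1.isPrime.mem_or_mem h'').elim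
      (GrModX.pow_notMem y.1.isPrime ht N) (GrModX.pow_notMem y.1.isPrime hby L))
      (GrModX.pow_notMem y.1.isPrime (nin ⟨y.1, hyV⟩) n)
  refine ⟨_, hc, ((Submodule.Quotient.mk_smul _ _ m).symm.trans ((Submodule.Quotient.mk_eq_zero _).2 ?_))⟩
  rw [mul_smul, mul_smul]
  have htN : h t ^ N ∈ 𝒜 (N * q) := pow_deg 𝒜 (hh t) N
  have hd₃ : GrModX.Deg ℳ (((N + E) * q : ℕ) : ℤ) (h t ^ N • b ^ L • s ^ n • m) :=
    (hd₂.smul 𝒜 htN).congr (by push_cast; ring)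
  obtain ⟨D, hD, hmem⟩ := hd₃.exists_mem (Int.natCast_nonneg _)
  obtain rfl : D = (N + E) * q := by exact_mod_cast hD
  refine mem_ker_of_inK 𝒜 ℳ hh p (d := (N + E) * q) ⟨hmem, fun u k' i a ha e => ?_⟩
  obtain ⟨i', rfl⟩ : ∃ i', k' = i' + (N + E) :=
    Nat.exists_eq_add_of_le' (Nat.le_of_mul_le_mul_right ((Nat.le_add_left _ i).trans_eq e) hq)
  have hi : i = i' * q := Nat.add_right_cancel (e.trans (add_mul i' (N + E) q))
  have h3 : pf 𝒜 ℳ hh p u (N + E) _ hd₃ = 0 := by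
    obtain ⟨r, hr⟩ := Nat.exists_eq_add_of_le' (hN ▸ Finset.le_sup (f := l) (Finset.mem_univ u))
    have hp : fn 𝒜 hh u 1 (h t) (by rw [one_mul]; exact hh t) ^ N = fn 𝒜 hh u N (h t ^ N) htN :=
      ProjGamma.sect_ext fun z => by
        rw [GrModX.oval_pow, val_pow, fn, fn, GrModX.oval_awayToSection, GrModX.oval_awayToSection,
          Localization.mk_pow]
        congr 1
        exact Subtype.ext (by simp)
    rw [pf_smul 𝒜 ℳ hh p u N E htN hd₂, ← hp, hr, pow_add, mul_smul, hl u, smul_zero]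
  rw [pf_smul 𝒜 ℳ hh p u i' (N + E) (hi ▸ ha) hd₃, h3, smul_zero]

theorem nonempty_iso [Epi p] (hF : Coh.IsQCoh F) (hq : 0 < q)
    (hcov : ∀ y : ProjectiveSpectrum 𝒜, ∃ t, h t ∉ y.asHomogeneousIdeal) :
    Nonempty (GrMod.tilde 𝒜 (qM ℳ (ker 𝒜 ℳ hh p)) 0 ≅ F) := by
  let v := quotMap 𝒜 ℳ hh p
  have h1 : kernel.ι v ≫ p = 0 := Scheme.Modules.hom_ext _ _ fun U => by
    ext s
    refine app_eq_zero_of_quot 𝒜 ℳ hh p hq hcov ((kernel.ι v).app U s) ?_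
    show (kernel.ι v ≫ v).app U s = 0
    rw [kernel.condition]
    rfl
  have h2 : kernel.ι p ≫ v = 0 := Scheme.Modules.hom_ext _ _ fun U => by
    ext s
    refine quot_eq_zero_of_app 𝒜 ℳ hh p hF hq hcov ((kernel.ι p).app U s) ?_
    show (kernel.ι p ≫ p).app U s = 0
    rw [kernel.condition]
    rfl
  exact ⟨{ hom := Abelian.epiDesc v p h1
           inv := Abelian.epiDesc p v h2
           hom_inv_id := by rw [← cancel_epi v, Abelian.comp_epiDesc_assoc, Abelian.comp_epiDesc, Category.comp_id]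
           inv_hom_id := by rw [← cancel_epi p, Abelian.comp_epiDesc_assoc, Abelian.comp_epiDesc, Category.comp_id] }⟩

end Groth.Agent.H9Misc.ProjCoh
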