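import Groth.Agent.H9Misc.PnCrit
import Groth.Agent.H9Misc.PushReflect
import Groth.Agent.KFlatLib.Scheme.ProjAffineFlat

/-! Coherent bounded objects on closed subschemes of projective space. -/

set_option autoImplicit false
set_option linter.style.haveILetI false
set_option backward.isDefEq.respectTransparency false
set_option backward.isDefEq.respectTransparency.types false
set_option maxHeartbeats 800000

universe u

open CategoryTheory CategoryTheory.Limits AlgebraicGeometry

attribute [local instance] HasDerivedCategory.standard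
attribute [local instance] Groth.Agent.H9Misc.PnCrit.overPn

noncomputable section

namespace Groth.Agent.H9Misc.ProjCrit

open Groth.Agent KFlatLib

variable {k : Type u} [Field k] {n : ℕ}

theorem cohbP_of_finite {Z : Scheme.{u}} [Z.Over (Spec (CommRingCat.of k))]
    (j : Z ⟶ CohB1.ProjSpace n k) [IsClosedImmersion j] (hj : j ≫ CohB1.ProjSpace.toSpec n k = Z ↘ Spec (CommRingCat.of k))
    [DCoh.HasLpull j] (K : DCoh.D Z) (hK : DCoh.IsQCohD K)
    (h : ∀ d : ℕ, d ≤ n →
      (∀ i : ℤ, Module.Finite k ((DCoh.Lpull j).obj (PnCrit.O n k (-(d : ℤ))) ⟶ (shiftFunctor (DCoh.D Z) i).obj K)) ∧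
      Set.Finite {i : ℤ | Nontrivial ((DCoh.Lpull j).obj (PnCrit.O n k (-(d : ℤ))) ⟶ (shiftFunctor (DCoh.D Z) i).obj K)}) :
    SGA6.cohbP Z K := by
  haveI : j.IsOver (Spec (CommRingCat.of k)) := ⟨hj⟩
  haveI := hasRpush_scheme j
  haveI : IsProper (CohB1.ProjSpace.toSpec n k) := PnCoh.Chow.isProper_toSpec n k
  haveI : IsLocallyNoetherian (CohB1.ProjSpace n k) :=
    LocallyOfFiniteType.isLocallyNoetherian (CohB1.ProjSpace.toSpec n k)
  haveI : IsLocallyNoetherian Z := LocallyOfFiniteType.isLocallyNoetherian j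
  refine PushReflect.cohbP_of_rpush j (PnCrit.cohbP_of_finite _ (isQCohD_rpush j hK) fun d hd =>
    ⟨fun i => (FinHom.finite_hom_push (k := k) j _ K i).1.1 ((h d hd).1 i),
      (h d hd).2.subset fun i hi => (FinHom.finite_hom_push (k := k) j _ K i).2.1 hi⟩)

end Groth.Agent.H9Misc.ProjCrit
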