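import Groth.Agent.H9Misc.ProjVan
import Mathlib.RingTheory.Length

/-!
# `H⁰(Proj, M(n)~) = M_n` linearly for large `n`
-/

set_option autoImplicit false
set_option backward.isDefEq.respectTransparency false
set_option backward.isDefEq.respectTransparency.types false
set_option linter.style.haveILetI false
set_option synthInstance.maxHeartbeats 200000
set_option maxHeartbeats 1600000

universe u

open CategoryTheory CategoryTheory.Limits AlgebraicGeometry TopologicalSpace Opposite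

noncomputable section

namespace Groth.Agent.H9Misc.ProjEuler

open Groth.Agent

variable {R A : Type u} [CommRing R] [CommRing A] [Algebra R A] {𝒜 : ℕ → Submodule R A} [GradedAlgebra 𝒜]
  {M : Type u} [AddCommGroup M] [Module R M] [Module A M] [IsScalarTower R A M]
  (ℳ : ℕ → Submodule R M) [DirectSum.Decomposition ℳ] [SetLike.GradedSMul 𝒜 ℳ]

theorem val_smulAb (n : ℤ) (a : R) (s : Γ(GrMod.tilde 𝒜 ℳ n, (⊤ : (Proj 𝒜).Opens)))
    (y : (⊤ : (Proj 𝒜).Opens)) :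
    GrMod.val (show Γ(GrMod.tilde 𝒜 ℳ n, (⊤ : (Proj 𝒜).Opens)) from
      (Coh.smulAb (GrMod.tilde 𝒜 ℳ n) (Coh.toGlobal (Proj 𝒜 ↘ Spec (CommRingCat.of R)) a)).hom.app (op ⊤) s) y =
    (Localization.mk (algebraMap R A a) 1 : GrTwist.Loc 𝒜 y.1) • GrMod.val s y := by
  have h : (GrModX.oval 𝒜 (show Γ(Proj 𝒜, ⊤) from
      Coh.resTop (Proj 𝒜) (op ⊤) (Coh.toGlobal (Proj 𝒜 ↘ Spec (CommRingCat.of R)) a)) y).val =
      Localization.mk (algebraMap R A a) 1 := ProjVan.oval_toGlobal (𝒜 := 𝒜) a y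
  rw [← h]
  rfl

/-- `M_n` is `H⁰` of the twist, linearly over the base, once `α` is bijective. -/
theorem length_HH_zero (n : ℕ) (h : Function.Bijective (GrMod.alpha 𝒜 ℳ n)) :
    Module.length R (Coh.HH (Proj 𝒜) (GrMod.tilde 𝒜 ℳ (n : ℤ)) 0) = Module.length R (ℳ n) := by
  let e : Coh.HH (Proj 𝒜) (GrMod.tilde 𝒜 ℳ (n : ℤ)) 0 ≃+ Γ(GrMod.tilde 𝒜 ℳ (n : ℤ), (⊤ : (Proj 𝒜).Opens)) :=
    Sheaf.H.equiv₀ (Coh.toAb (GrMod.tilde 𝒜 ℳ (n : ℤ))) isTerminalTop
  let ea : ℳ n ≃+ Γ(GrMod.tilde 𝒜 ℳ (n : ℤ), (⊤ : (Proj 𝒜).Opens)) :=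
    AddEquiv.ofBijective (GrMod.alpha 𝒜 ℳ n) h
  let f : ℳ n ≃+ Coh.HH (Proj 𝒜) (GrMod.tilde 𝒜 ℳ (n : ℤ)) 0 := ea.trans e.symm
  have hlin : ∀ (a : R) (m : ℳ n), f (a • m) = a • f m := by
    intro a m
    refine e.injective ?_
    refine (e.apply_symm_apply _).trans ?_
    refine Eq.trans ?_ (Sheaf.H.equiv₀_naturality isTerminalTop
      (Coh.smulAb (GrMod.tilde 𝒜 ℳ (n : ℤ)) (Coh.toGlobal (Proj 𝒜 ↘ Spec (CommRingCat.of R)) a))
      (f m))
    change GrMod.alpha 𝒜 ℳ n (a • m) =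
      (Coh.smulAb (GrMod.tilde 𝒜 ℳ (n : ℤ)) (Coh.toGlobal (Proj 𝒜 ↘ Spec (CommRingCat.of R)) a)).hom.app (op ⊤)
        (e (e.symm (ea m)))
    rw [e.apply_symm_apply]
    refine GrModX.ext_val 𝒜 ℳ fun y => ?_
    refine Eq.trans ?_ (val_smulAb ℳ (n : ℤ) a (ea m) y).symm
    show LocalizedModule.mk ((a • m : ℳ n) : M) 1 = Localization.mk (algebraMap R A a) 1 • LocalizedModule.mk (m : M) 1
    rw [LocalizedModule.mk_smul_mk, one_mul, Submodule.coe_smul, algebraMap_smul]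
  exact (LinearEquiv.length_eq { f with map_smul' := hlin }).symm

variable [IsNoetherianRing A] [Module.Finite A M]

/-- The alternating sum of the lengths of the cohomology is the length of the graded piece. -/
theorem euler_eq (r : ℕ) :
    ∃ N : ℕ, ∀ n : ℕ, N ≤ n →
      ((Finset.range (r + 1)).sum fun j => (-1 : ℤ) ^ j *
          ((Module.length R (Coh.HH (Proj 𝒜) (GrMod.tilde 𝒜 ℳ (n : ℤ)) j)).toNat : ℤ)) =
        ((Module.length R ↥(ℳ n)).toNat : ℤ) := by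
  obtain ⟨N₁, h₁⟩ := GradedTail.alpha_bijective 𝒜 ℳ (GradedTail.fg_tail_zero (A := A) ℳ)
  obtain ⟨N₂, h₂⟩ := ProjVan.exists_vanishing_tilde (𝒜 := 𝒜) ℳ
  refine ⟨N₁ + N₂, fun n hn => ?_⟩
  rw [Finset.sum_eq_single 0]
  · rw [pow_zero, one_mul, length_HH_zero ℳ n (h₁ n (by omega))]
  · intro j _ hj
    obtain ⟨p, rfl⟩ := Nat.exists_eq_add_of_le' (Nat.pos_of_ne_zero hj)
    haveI := h₂ n (by omega) p
    rw [Module.length_eq_zero]
    simp
  · intro h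
    exact absurd (Finset.mem_range.mpr (Nat.succ_pos r)) h

end Groth.Agent.H9Misc.ProjEuler
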