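import Groth.Agent.H9Misc.ProjNatCx
import Groth.Agent.KFlatLib.Scheme.FlatBCDerived

/-!
# The projection formula on `D_QCoh`, naturally in the complex being pushed forward
-/

set_option autoImplicit false
set_option linter.style.haveILetI false

universe u

open CategoryTheory CategoryTheory.Limits AlgebraicGeometry

attribute [local instance] HasDerivedCategory.standard

namespace Groth.Agent.H9Misc

open KFlatLib

variable {X Y : Scheme.{u}} (f : X ⟶ Y) [DCoh.HasRpush f]

section Derived

variable (P : CochainComplex Y.Modules ℤ) [DCoh.HasLTensorCx P] [DCoh.HasLTensorCx ((pullCx f).obj P)]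

/-- The projection map on homotopy categories, before descending. -/
noncomputable def projQuotApp (hP : DCoh.IsKFlat P) (C : CochainComplex X.Modules ℤ) :
    (DCoh.LTensorCx P).obj ((DCoh.pushKh f).obj ((HomotopyCategory.quotient X.Modules (ComplexShape.up ℤ)).obj C)) ⟶
      (DCoh.Rpush f).obj ((DCoh.LTensorCx ((pullCx f).obj P)).obj
        (DerivedCategory.Qh.obj ((HomotopyCategory.quotient X.Modules (ComplexShape.up ℤ)).obj C))) :=
  (DCoh.LTensorCx P).map ((quotientMapIso (Scheme.Modules.pushforward f)).hom.app C) ≫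
    (ltE P hP ((pushCxF f).obj C)).hom ≫ projUnitApp f P C ≫
    (DCoh.Rpush f).map ((ltE ((pullCx f).obj P) (isKFlat_pullback f hP) C).inv ≫
      (DCoh.LTensorCx ((pullCx f).obj P)).map ((DerivedCategory.quotientCompQhIso X.Modules).inv.app C))

theorem projQuotApp_naturality (hP : DCoh.IsKFlat P) {A B : CochainComplex X.Modules ℤ} (g : A ⟶ B) :
    (DCoh.LTensorCx P).map ((DCoh.pushKh f).map ((HomotopyCategory.quotient X.Modules (ComplexShape.up ℤ)).map g)) ≫
        projQuotApp f P hP B =
      projQuotApp f P hP A ≫ (DCoh.Rpush f).map ((DCoh.LTensorCx ((pullCx f).obj P)).map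
        (DerivedCategory.Qh.map ((HomotopyCategory.quotient X.Modules (ComplexShape.up ℤ)).map g))) := by
  have h1 := congrArg (fun t => (DCoh.LTensorCx P).map t)
    ((quotientMapIso (Scheme.Modules.pushforward f)).hom.naturality g)
  have h2 := ltE_naturality P hP ((pushCxF f).map g)
  have h3 := projUnitApp_naturality f P g
  have h4 : DerivedCategory.Q.map ((DCoh.tensorCx.map g).app ((pullCx f).obj P)) ≫
      (ltE ((pullCx f).obj P) (isKFlat_pullback f hP) B).inv =
        (ltE ((pullCx f).obj P) (isKFlat_pullback f hP) A).inv ≫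
          (DCoh.LTensorCx ((pullCx f).obj P)).map (DerivedCategory.Q.map g) := by
    rw [Iso.comp_inv_eq, Category.assoc, Iso.eq_inv_comp]
    exact (ltE_naturality _ _ g).symm
  have h5 := congrArg (fun t => (DCoh.LTensorCx ((pullCx f).obj P)).map t)
    ((DerivedCategory.quotientCompQhIso X.Modules).inv.naturality g)
  simp only [Functor.map_comp, Functor.comp_map] at h1 h5
  simp only [projQuotApp, Category.assoc]
  erw [reassoc_of% h1, reassoc_of% h2, reassoc_of% h3]
  simp only [← Functor.map_comp, Category.assoc]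
  erw [reassoc_of% h4, h5]
  simp only [Functor.map_comp, Category.assoc]

/-- The projection map on homotopy categories. -/
noncomputable def projQuot (hP : DCoh.IsKFlat P) :
    HomotopyCategory.quotient X.Modules (ComplexShape.up ℤ) ⋙ (DCoh.pushKh f ⋙ DCoh.LTensorCx P) ⟶
      HomotopyCategory.quotient X.Modules (ComplexShape.up ℤ) ⋙
        (DerivedCategory.Qh ⋙ (DCoh.LTensorCx ((pullCx f).obj P) ⋙ DCoh.Rpush f)) where
  app C := projQuotApp f P hP C
  naturality _ _ g := projQuotApp_naturality f P hP g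

/-- The projection formula on `D_QCoh`, naturally. -/
theorem nonempty_projection_nat [QuasiCompact f] [QuasiSeparated f] (hP : DCoh.IsKFlat P)
    (hPq : DCoh.IsQCohD (DerivedCategory.Q.obj P)) :
    Nonempty (ObjectProperty.ι (DCoh.IsQCohD (X := X)) ⋙ DCoh.Rpush f ⋙ DCoh.LTensorCx P ≅
      ObjectProperty.ι (DCoh.IsQCohD (X := X)) ⋙ DCoh.LTensorCx ((pullCx f).obj P) ⋙ DCoh.Rpush f) := by
  let q := HomotopyCategory.quotient X.Modules (ComplexShape.up ℤ)
  let W := HomotopyCategory.quasiIso X.Modules (ComplexShape.up ℤ)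
  let G := DCoh.LTensorCx ((pullCx f).obj P) ⋙ DCoh.Rpush f
  let β := (DCoh.pushKh f).totalRightDerivedUnit DerivedCategory.Qh W
  let ν : DCoh.pushKh f ⋙ DCoh.LTensorCx P ⟶ DerivedCategory.Qh ⋙ G :=
    CategoryTheory.Quotient.natTransLift _ (projQuot f P hP)
  have hν : ∀ C, ν.app (q.obj C) = (projQuot f P hP).app C := fun C => rfl
  let α' : DCoh.pushKh f ⋙ DCoh.LTensorCx P ⟶ DerivedCategory.Qh ⋙ (DCoh.Rpush f ⋙ DCoh.LTensorCx P) :=
    Functor.whiskerRight β (DCoh.LTensorCx P) ≫ (Functor.associator _ _ _).hom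
  have hα : ∀ (I : CochainComplex X.Modules ℤ) [I.IsKInjective], IsIso (α'.app (q.obj I)) := fun I _ => by
    haveI : IsIso (β.app (q.obj I)) := isIso_rightDerivedUnit_of_kInjective (DCoh.pushKh f) I
    simp only [α', NatTrans.comp_app, Functor.associator_hom_app, Functor.whiskerRight_app]
    erw [Category.comp_id]
    infer_instance
  haveI := FlatBC.isRightDerived_of_kInjective (DCoh.pushKh f ⋙ DCoh.LTensorCx P) _ α' hα
  let θ := (DCoh.Rpush f ⋙ DCoh.LTensorCx P).rightDerivedDesc α' W G ν
  have key : ∀ E : DCoh.D X, DCoh.IsQCohD E → IsIso (θ.app E) := fun E hE => by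
    obtain ⟨I, hI, -, ⟨e⟩⟩ := FlatBC.exists_injective_rep E
    haveI := hI
    haveI := hα I
    let eI : DerivedCategory.Qh.obj (q.obj I) ≅ DerivedCategory.Q.obj I :=
      (DerivedCategory.quotientCompQhIso X.Modules).app I
    haveI := isIso_projUnitApp f hP hPq I (isQCohD_of_iso (e.symm ≪≫ eI) hE)
    haveI : IsIso ((projQuot f P hP).app I) := by
      change IsIso (projQuotApp f P hP I)
      unfold projQuotApp
      infer_instance
    haveI : IsIso (α'.app (q.obj I) ≫ θ.app (DerivedCategory.Qh.obj (q.obj I))) := by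
      rw [Functor.rightDerived_fac_app, hν]
      infer_instance
    haveI : IsIso (θ.app (DerivedCategory.Qh.obj (q.obj I))) := IsIso.of_isIso_comp_left (α'.app (q.obj I)) _
    exact (NatTrans.isIso_app_iff_of_iso θ e).1 inferInstance
  haveI : ∀ E, IsIso ((Functor.whiskerLeft (ObjectProperty.ι (DCoh.IsQCohD (X := X))) θ).app E) :=
    fun E => key E.obj E.property
  haveI := NatIso.isIso_of_isIso_app (Functor.whiskerLeft (ObjectProperty.ι (DCoh.IsQCohD (X := X))) θ)
  exact ⟨asIso (Functor.whiskerLeft (ObjectProperty.ι (DCoh.IsQCohD (X := X))) θ)⟩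

end Derived

end Groth.Agent.H9Misc
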