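import Groth.Agent.KFlatLib.Scheme.ProjFormula

/-!
# The projection formula on `D_QCoh`, naturally in the complex being pushed forward
-/

set_option autoImplicit false
set_option linter.style.haveILetI false
set_option backward.isDefEq.respectTransparency false

universe u

open CategoryTheory CategoryTheory.Limits AlgebraicGeometry

attribute [local instance] HasDerivedCategory.standard

namespace Groth.Agent.H9Misc

open KFlatLib

variable {X Y : Scheme.{u}} (f : X ⟶ Y)

/-- The projection map is natural in all its data. -/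
theorem projCx_naturality₁ {R R' : CochainComplex Y.Modules ℤ} {I I' : CochainComplex X.Modules ℤ}
    (a : R ⟶ (pushCxF f).obj I) (a' : R' ⟶ (pushCxF f).obj I') (r : R ⟶ R') (i : I ⟶ I')
    (h : r ≫ a' = a ≫ (pushCxF f).map i) (P : CochainComplex Y.Modules ℤ) :
    (DCoh.tensorCx.map r).app P ≫ projCx f R' I' a' P =
      projCx f R I a P ≫ (pushCxF f).map ((DCoh.tensorCx.map i).app ((pullCx f).obj P)) := by
  refine ((pullPushCxAdj f).homEquiv_naturality_left _ _).symm.trans ?_
  refine Eq.trans (congrArg _ ?_) ((pullPushCxAdj f).homEquiv_naturality_right _ _)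
  have w := H9Misc.TotalMapNat.totalMapIso_hom_naturality (pullTensorBiIso f) r P
  have w' : (pullCx f).map ((DCoh.tensorCx.map r).app P) ≫ (pullTensorCxIso f R' P).inv =
      (pullTensorCxIso f R P).inv ≫ (DCoh.tensorCx.map ((pullCx f).map r)).app ((pullCx f).obj P) := by
    rw [Iso.comp_inv_eq, Category.assoc, Iso.eq_inv_comp]
    exact w.symm
  refine ((Category.assoc _ _ _).symm.trans (congrArg (· ≫ _) w')).trans ?_
  refine (Category.assoc _ _ _).trans (Eq.trans ?_ (Category.assoc _ _ _).symm)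
  refine congrArg (_ ≫ ·) ?_
  rw [← NatTrans.comp_app, ← NatTrans.comp_app, ← Functor.map_comp, ← Functor.map_comp]
  refine congrArg (fun t => (DCoh.tensorCx.map t).app ((pullCx f).obj P)) ?_
  rw [← (pullPushCxAdj f).homEquiv_naturality_left_symm, ← (pullPushCxAdj f).homEquiv_naturality_right_symm, h]

variable [DCoh.HasRpush f]

/-- The projection map followed by the unit of `Rf_*`. -/
noncomputable def projUnitApp (P : CochainComplex Y.Modules ℤ) (C : CochainComplex X.Modules ℤ) :
    DerivedCategory.Q.obj ((DCoh.tensorCx.obj ((pushCxF f).obj C)).obj P) ⟶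
      (DCoh.Rpush f).obj (DerivedCategory.Q.obj ((DCoh.tensorCx.obj C).obj ((pullCx f).obj P))) :=
  DerivedCategory.Q.map (projCx f ((pushCxF f).obj C) C (𝟙 _) P) ≫
    (rpushUnit f).app ((DCoh.tensorCx.obj C).obj ((pullCx f).obj P))

theorem projUnitApp_naturality (P : CochainComplex Y.Modules ℤ) {A B : CochainComplex X.Modules ℤ} (g : A ⟶ B) :
    DerivedCategory.Q.map ((DCoh.tensorCx.map ((pushCxF f).map g)).app P) ≫ projUnitApp f P B =
      projUnitApp f P A ≫
        (DCoh.Rpush f).map (DerivedCategory.Q.map ((DCoh.tensorCx.map g).app ((pullCx f).obj P))) := by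
  have h := congrArg (fun t => DerivedCategory.Q.map t)
    (projCx_naturality₁ f (𝟙 ((pushCxF f).obj A)) (𝟙 ((pushCxF f).obj B)) ((pushCxF f).map g) g (by simp) P)
  simp only [Functor.map_comp] at h
  simp only [projUnitApp, Category.assoc]
  rw [reassoc_of% h]
  exact congrArg (_ ≫ ·) ((rpushUnit f).naturality _)

theorem isIso_projUnitApp [QuasiCompact f] [QuasiSeparated f] {P : CochainComplex Y.Modules ℤ}
    (hP : DCoh.IsKFlat P) (hPq : DCoh.IsQCohD (DerivedCategory.Q.obj P)) (I : CochainComplex X.Modules ℤ)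
    [I.IsKInjective] (hI : DCoh.IsQCohD (DerivedCategory.Q.obj I)) : IsIso (projUnitApp f P I) := by
  let R := (kRes Y).obj ((pushCxF f).obj I)
  let a : R ⟶ (pushCxF f).obj I := (flatCover Y).ψ.app _
  haveI : QuasiIso a := (flatCover Y).quasiIso_ψ _
  have hR : DCoh.IsKFlat R := isKFlat_kRes _
  haveI := isIso_projθ f I a hR hI P hPq
  haveI := isIso_kLiftε (kRespects_tensor R) hP
  haveI := isIso_kLiftε (kRespects_pullTensor f I) hP
  haveI : IsIso ((kLiftε (kRespects_tensor R)).app P ≫ (projΘ f I a).app P) := by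
    rw [← projθ_comp_ε f I a P]
    infer_instance
  haveI h1 : IsIso ((projΘ f I a).app P) := IsIso.of_isIso_comp_left ((kLiftε (kRespects_tensor R)).app P) _
  haveI : QuasiIso ((DCoh.tensorCx.map a).app P) := S0949.result P hP _
  haveI h2 : IsIso (DerivedCategory.Q.map ((DCoh.tensorCx.map a).app P)) := isIso_Q_map _ (by assumption)
  have w := projCx_naturality₁ f a (𝟙 ((pushCxF f).obj I)) a (𝟙 I) (by simp) P
  have w' : (DCoh.tensorCx.map a).app P ≫ projCx f ((pushCxF f).obj I) I (𝟙 _) P = projCx f R I a P := by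
    refine w.trans ?_
    have e1 : (DCoh.tensorCx.map (𝟙 I)).app ((pullCx f).obj P) = 𝟙 _ :=
      (congrArg (fun t => NatTrans.app t ((pullCx f).obj P)) (DCoh.tensorCx.map_id I)).trans (NatTrans.id_app _ _)
    rw [e1]
    exact (congrArg (projCx f R I a P ≫ ·) ((pushCxF f).map_id _)).trans (Category.comp_id _)
  have e : (projΘ f I a).app P = DerivedCategory.Q.map ((DCoh.tensorCx.map a).app P) ≫ projUnitApp f P I := by
    change DerivedCategory.Q.map (projCx f R I a P) ≫ _ = _
    rw [← w', Functor.map_comp, Category.assoc]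
    rfl
  rw [e] at h1
  exact IsIso.of_isIso_comp_left (DerivedCategory.Q.map ((DCoh.tensorCx.map a).app P)) _

/-- `Q(C) ⊗^L E ≅ Q(C ⊗ E)` for K-flat `E`. -/
noncomputable def ltE {Z : Scheme.{u}} (E : CochainComplex Z.Modules ℤ) [DCoh.HasLTensorCx E]
    (hE : DCoh.IsKFlat E) (C : CochainComplex Z.Modules ℤ) :
    (DCoh.LTensorCx E).obj (DerivedCategory.Q.obj C) ≅ DerivedCategory.Q.obj ((DCoh.tensorCx.obj C).obj E) :=
  @asIso _ _ _ _ (((DCoh.tensorCxQ E).totalLeftDerivedCounit DerivedCategory.Q (qisX Z)).app C)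
    (isIso_LTensorCx_counit_of_isKFlat_right E hE C)

theorem ltE_naturality {Z : Scheme.{u}} (E : CochainComplex Z.Modules ℤ) [DCoh.HasLTensorCx E]
    (hE : DCoh.IsKFlat E) {C C' : CochainComplex Z.Modules ℤ} (g : C ⟶ C') :
    (DCoh.LTensorCx E).map (DerivedCategory.Q.map g) ≫ (ltE E hE C').hom =
      (ltE E hE C).hom ≫ DerivedCategory.Q.map ((DCoh.tensorCx.map g).app E) :=
  ((DCoh.tensorCxQ E).totalLeftDerivedCounit DerivedCategory.Q (qisX Z)).naturality g

end Groth.Agent.H9Misc
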