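import Groth.Agent.H9Misc.ProjVan
import Groth.Agent.AmpleX.ProjGen

/-!
# Coherent modules on `Proj` are quotients of finite sums of twists
-/

set_option autoImplicit false
set_option backward.isDefEq.respectTransparency false
set_option backward.isDefEq.respectTransparency.types false
set_option linter.style.haveILetI false
set_option maxHeartbeats 1600000

universe u

open CategoryTheory CategoryTheory.Limits AlgebraicGeometry TopologicalSpace
open Groth.Agent.H23.PicMul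

noncomputable section

namespace Groth.Agent.H9Misc.ProjQuot

open Groth.Agent Groth.Agent.H9Misc.TwistPer

variable {R A : Type u} [CommRing R] [CommRing A] [Algebra R A] {𝒜 : ℕ → Submodule R A} [GradedAlgebra 𝒜]
  [IsNoetherianRing A]

theorem exists_epi_twists_neg {F : (Proj 𝒜).Modules} (hF : Coh.IsCoh F) :
    ∃ (r e : ℕ) (φ : (∐ fun _ : Fin r => Twist.twist 𝒜 (-(e : ℤ))) ⟶ F), Epi φ := by
  classical
  obtain ⟨q, hq0, hq⟩ := ProjVan.exists_period 𝒜
  have hamp := ProjVan.isAmple_twist (𝒜 := 𝒜) hq0 hq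
  haveI : CompactSpace (Proj 𝒜) := hamp.2.1
  obtain ⟨n, h⟩ := AmpleX.eventually_generated_finite hamp hF.1 hF.2
  obtain ⟨G, iso, ι, _, t, ht⟩ := h n le_rfl
  haveI := Fintype.ofFinite ι
  have ht' : ProjUP.GeneratedBy G (t ∘ (Fintype.equivFin ι).symm) := fun x => by
    rw [← ht x]
    refine congrArg (Submodule.span _) ?_
    exact (Fintype.equivFin ι).symm.surjective.range_comp (g := fun i => (G.presheaf.germ ⊤ x trivial).hom (t i))
  obtain ⟨p, hp⟩ := InvX.exists_epi_freeMod ht'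
  let N := Twist.twist 𝒜 (-((n * q : ℕ) : ℤ))
  have hinv : PicF.IsInvertible N := isInvertible_twist hq (k := -(n : ℤ)) (by push_cast; ring)
  obtain ⟨w⟩ := ProjVan.nonempty_twist_tensor_iso (𝒜 := 𝒜) hq (a := ((n * q : ℕ) : ℤ))
    (b := -((n * q : ℕ) : ℤ)) (c := ((0 * q : ℕ) : ℤ)) (by push_cast; ring) (k := -(n : ℤ))
    (by push_cast; ring)
  obtain ⟨u⟩ := nonempty_twist_tensorPow hq 0
  obtain ⟨v⟩ := nonempty_twist_tensorPow hq n
  obtain ⟨e⟩ := cl_eq_iff.1 (show PicF.cl ((AmpleVan.tw N).obj G) = PicF.cl F by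
    show PicF.cl (CohB1.tensorMod G N) = _
    rw [cl_tensor, cl_eq_iff.2 ⟨iso⟩]
    show PicF.cl (CohB1.tensorMod F (CohB1.tensorPow (Twist.twist 𝒜 (q : ℤ)) n)) * _ = _
    rw [cl_tensor, ← cl_eq_iff.2 ⟨v⟩, mul_assoc, ← cl_tensor, cl_eq_iff.2 ⟨w⟩, cl_eq_iff.2 ⟨u⟩, cl_tensorPow,
      pow_zero, mul_one])
  obtain ⟨e₁⟩ := cl_eq_iff.1 (show PicF.cl N = PicF.cl ((AmpleVan.tw N).obj (Coh.structureModule (Proj 𝒜))) by
    show _ = PicF.cl (CohB1.tensorMod _ N)
    rw [cl_tensor, show PicF.cl (Coh.structureModule (Proj 𝒜)) = 1 from rfl, one_mul])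
  haveI := AmpleVan.isEquivalence_tw hinv
  refine ⟨_, n * q, Limits.Sigma.map (fun _ => e₁.hom) ≫
    (PreservesCoproduct.iso (AmpleVan.tw N) fun _ : Fin (Fintype.card ι) => Coh.structureModule (Proj 𝒜)).inv ≫
    (AmpleVan.tw N).map p ≫ e.hom, ?_⟩
  infer_instance

theorem exists_epi_twists {F : (Proj 𝒜).Modules} (hF : Coh.IsCoh F) :
    ∃ (r : ℕ) (d : Fin r → ℤ) (φ : (∐ fun j : Fin r => Twist.twist 𝒜 (d j)) ⟶ F), Epi φ :=
  let ⟨r, e, φ, hφ⟩ := exists_epi_twists_neg hF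
  ⟨r, fun _ => -(e : ℤ), φ, hφ⟩

end Groth.Agent.H9Misc.ProjQuot
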