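import Groth.Agent.H9Misc.TwistPer
import Groth.Agent.H9Misc.GradedTail
import Groth.Agent.AmpleX.Pow
import Groth.Agent.AmpleVan.Uniform
import Groth.Agent.ProjUPX.TwistFrame
import Groth.Agent.InvX.GenLocus
import Groth.Prelude.Def_ega3
import Mathlib.AlgebraicGeometry.ProjectiveSpectrum.Proper

/-!
# Serre vanishing on `Proj` of a Noetherian graded ring
-/

set_option autoImplicit false
set_option backward.isDefEq.respectTransparency false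
set_option backward.isDefEq.respectTransparency.types false
set_option linter.style.haveILetI false
set_option synthInstance.maxHeartbeats 200000
set_option maxHeartbeats 1600000

universe u

open CategoryTheory CategoryTheory.Limits AlgebraicGeometry TopologicalSpace Opposite
open Groth.Agent.H23.PicMul

noncomputable section

namespace Groth.Agent.H9Misc.ProjVan

open Groth.Agent Groth.Agent.H9Misc.TwistPer
open Groth.Agent.PnCoh.Finite (D)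

variable {R A : Type u} [CommRing R] [CommRing A] [Algebra R A]
  {𝒜 : ℕ → Submodule R A} [GradedAlgebra 𝒜]

variable (𝒜) in
theorem exists_period [IsNoetherianRing A] : ∃ q : ℕ, 0 < q ∧ IsPeriod 𝒜 q := by
  classical
  obtain ⟨s, hs, hspan⟩ := Proj16.exists_finset_irrelevant_eq_span 𝒜 (IsNoetherian.noetherian _)
  choose d hd hmem using hs
  refine ⟨∏ f : s, d f.1 f.2, Finset.prod_pos fun f _ => hd _ _, fun x => ?_⟩
  obtain ⟨f, hf, hfx⟩ : ∃ f ∈ (s : Set A), f ∉ x.asHomogeneousIdeal := by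
    by_contra! hall
    exact x.not_irrelevant_le (show (HomogeneousIdeal.irrelevant 𝒜).toIdeal ≤ x.asHomogeneousIdeal.toIdeal by
      rw [hspan, Ideal.span_le]; exact hall)
  obtain ⟨k, hk⟩ : d f hf ∣ ∏ f : s, d f.1 f.2 :=
    Finset.dvd_prod_of_mem (fun f : s => d f.1 f.2) (Finset.mem_univ ⟨f, hf⟩)
  refine ⟨f ^ k, ?_, PnCoh.pow_notMem hfx k⟩
  rw [hk, mul_comm]
  exact TwistPer.pow_mem (hmem f hf) k

/-- The global section of `O(q)` given by an element of degree `q`. -/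
def sec {q : ℕ} {h : A} (hh : h ∈ 𝒜 q) : Γ(Twist.twist 𝒜 (q : ℤ), ⊤) := Twist.globalOf 𝒜 ⟨h, hh⟩

theorem res_sec {q : ℕ} {h : A} (hh : h ∈ 𝒜 q) {U : (Proj 𝒜).Opens} (hU : PnCoh.NonVan (𝒜 := 𝒜) h U) :
    AModX.res (Twist.twist 𝒜 (q : ℤ)) (le_top : U ≤ ⊤) (sec hh) =
      powQ hh 1 (q : ℤ) (one_mul _).symm hU := by
  refine Subtype.ext (funext fun x => Subtype.ext ?_)
  show Localization.mk h _ = Localization.mk (h ^ (1 : ℤ).toNat) _
  rw [Localization.mk_eq_mk_iff, Localization.r_iff_exists]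
  exact ⟨1, by simp⟩

theorem isFrame_sec {q : ℕ} {h : A} (hh : h ∈ 𝒜 q) :
    InvX.IsFrame (AModX.res (Twist.twist 𝒜 (q : ℤ)) (le_top : D 𝒜 h ≤ ⊤) (sec hh)) := by
  intro V hV
  have hN : PnCoh.NonVan (𝒜 := 𝒜) h V := fun y => hV y.2
  rw [res_sec hh (fun y => y.2)]
  exact triv_bijective hh (one_mul _).symm hN

theorem sec_eq_smul {q : ℕ} {h h' : A} (hh : h ∈ 𝒜 q) (hh' : h' ∈ 𝒜 q) :
    AModX.res (Twist.twist 𝒜 (q : ℤ)) (le_top : D 𝒜 h' ≤ ⊤) (sec hh) =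
      (Proj.awayToSection 𝒜 h').hom (HomogeneousLocalization.Away.mk 𝒜 hh' 1 h (by rwa [one_smul])) •
        AModX.res (Twist.twist 𝒜 (q : ℤ)) (le_top : D 𝒜 h' ≤ ⊤) (sec hh') := by
  refine Subtype.ext (funext fun x => Subtype.ext ?_)
  show Localization.mk h _ = Localization.mk h ⟨h' ^ 1, _⟩ * Localization.mk h' _
  rw [Localization.mk_mul, Localization.mk_eq_mk_iff, Localization.r_iff_exists]
  refine ⟨1, ?_⟩
  simp only [OneMemClass.coe_one, one_mul, mul_one, Submonoid.coe_mul, pow_one]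
  exact mul_comm _ _

theorem genLocus_sec {q : ℕ} (hq : IsPeriod 𝒜 q) {h : A} (hh : h ∈ 𝒜 q) :
    CohB1.genLocus (Twist.twist 𝒜 (q : ℤ)) (InvX.ofSect (sec hh)) = D 𝒜 h := by
  refine le_antisymm (fun x hx => ?_) (InvX.le_genLocus _ ?_)
  · obtain ⟨h', hh', hx'⟩ := hq x
    let c : Γ(Proj 𝒜, D 𝒜 h') := (Proj.awayToSection 𝒜 h').hom
      (HomogeneousLocalization.Away.mk 𝒜 hh' 1 h (by rwa [one_smul]))
    have h1 : AModX.res (Twist.twist 𝒜 (q : ℤ)) (le_top : D 𝒜 h' ≤ ⊤) (InvX.one (InvX.ofSect (sec hh))) =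
        c • AModX.res (Twist.twist 𝒜 (q : ℤ)) (le_top : D 𝒜 h' ≤ ⊤) (sec hh') := by
      rw [InvX.one_ofSect]
      exact sec_eq_smul hh hh'
    have h2 := InvX.genLocus_inf (InvX.ofSect (sec hh)) (isFrame_sec hh') h1
    have hxc : x ∈ (Proj 𝒜).basicOpen c := h2 ▸ ⟨hx, hx'⟩
    rw [show (Proj 𝒜).basicOpen c = Proj.basicOpen 𝒜 (h' * h) from
      GrModX.basicOpen_awayToSection 𝒜 hh' 1 (by rwa [one_smul])] at hxc
    exact fun hm => hxc (x.asHomogeneousIdeal.toIdeal.mul_mem_left _ hm)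
  · rw [InvX.one_ofSect]
    exact isFrame_sec hh

theorem isAmple_twist [IsNoetherianRing A] {q : ℕ} (hq0 : 0 < q) (hq : IsPeriod 𝒜 q) :
    CohB1.IsAmple (Twist.twist 𝒜 (q : ℤ)) := by
  classical
  have hL : PicF.IsInvertible (Twist.twist 𝒜 (q : ℤ)) := isInvertible_twist hq (k := 1) (one_mul _).symm
  haveI : Algebra.FiniteType (𝒜 0) A := (Proj16.irrelevant_fg_iff 𝒜).mp (IsNoetherian.noetherian _)
  haveI : CompactSpace (Proj 𝒜) := QuasiCompact.compactSpace_of_compactSpace (Proj.toSpecZero 𝒜)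
  refine AmpleX.isAmple_iff.2 ⟨hL, inferInstance, fun x => ?_⟩
  obtain ⟨h, hh, hx⟩ := hq x
  refine ⟨1, one_pos, InvX.powHom (InvX.ofSect (sec hh)) 1, ?_⟩
  rw [InvX.genLocus_powHom hL _ 0, genLocus_sec hq hh]
  exact ⟨hx, Proj.isAffineOpen_basicOpen 𝒜 h hh hq0⟩

theorem isCoh_tilde [IsNoetherianRing A] {M : Type u} [AddCommGroup M] [Module R M] [Module A M]
    [IsScalarTower R A M] [Module.Finite A M] (ℳ : ℕ → Submodule R M) [DirectSum.Decomposition ℳ]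
    [SetLike.GradedSMul 𝒜 ℳ] (n : ℤ) : Coh.IsCoh (GrMod.tilde 𝒜 ℳ n) := by
  obtain ⟨k, hk⟩ := GradedTail.fg_tail_zero (A := A) ℳ
  exact ⟨GrModX.isQCoh_tilde 𝒜 ℳ n,
    GrModX.isFT_tilde_shift 𝒜 ℳ (IsNoetherian.noetherian _) n k hk⟩

theorem tilde_self_eq (n : ℤ) : Twist.twist 𝒜 n = GrMod.tilde 𝒜 𝒜 n := rfl

theorem isQCoh_self (n : ℤ) : Coh.IsQCoh (GrMod.tilde 𝒜 𝒜 n) := GrModX.isQCoh_tilde 𝒜 𝒜 n

theorem fg_self [IsNoetherianRing A] :
    ∃ k : ℕ, (Submodule.span A (⋃ i ∈ Set.Ici k, (𝒜 i : Set A))).FG :=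
  ⟨0, IsNoetherian.noetherian _⟩

theorem isFT_self [IsNoetherianRing A] (n : ℤ) : CohB1.IsFT (GrMod.tilde 𝒜 𝒜 n) := by
  obtain ⟨k, hk⟩ := fg_self (𝒜 := 𝒜)
  exact GrModX.isFT_tilde_shift 𝒜 𝒜 (IsNoetherian.noetherian _) n k hk

theorem isCoh_twist [IsNoetherianRing A] (n : ℤ) : Coh.IsCoh (Twist.twist 𝒜 n) := by
  rw [tilde_self_eq]
  exact ⟨isQCoh_self n, isFT_self n⟩

theorem nonempty_twist_tensor_iso {q : ℕ} (hq : IsPeriod 𝒜 q) {a b c : ℤ} (e : a + b = c) {k : ℤ}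
    (hb : b = k * q) :
    Nonempty (CohB1.tensorMod (Twist.twist 𝒜 a) (Twist.twist 𝒜 b) ≅ Twist.twist 𝒜 c) := by
  have h := nonempty_tilde_tensor_iso (ℳ := 𝒜) hq e hb
  rw [tilde_self_eq a, tilde_self_eq c]
  exact h

variable [IsNoetherianRing A]

/-- Vanishing along one residue class modulo a period. -/
theorem exists_vanishing_progression {q : ℕ} (hq0 : 0 < q) (hq : IsPeriod 𝒜 q)
    {G : (Proj 𝒜).Modules} (hG : Coh.IsCoh G) :
    ∃ m₀ : ℕ, ∀ m, m₀ ≤ m → ∀ p,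
      Subsingleton (Coh.HH (Proj 𝒜) (CohB1.tensorMod G (CohB1.tensorPow (Twist.twist 𝒜 (q : ℤ)) m)) (p + 1)) := by
  haveI : Algebra.FiniteType (𝒜 0) A := (Proj16.irrelevant_fg_iff 𝒜).mp (IsNoetherian.noetherian _)
  haveI : IsNoetherianRing (𝒜 0) := ((Proj16.isNoetherianRing_iff_degZero 𝒜).mp ‹_›).1
  letI : (Proj 𝒜).Over (Spec (CommRingCat.of (𝒜 0))) := ⟨Proj.toSpecZero 𝒜⟩
  haveI : IsProper (Proj 𝒜 ↘ Spec (CommRingCat.of (𝒜 0))) :=
    show IsProper (Proj.toSpecZero 𝒜) from inferInstance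
  exact AmpleVan.exists_vanishing (A := 𝒜 0) (isAmple_twist hq0 hq) hG

/-- Serre vanishing for coherent modules. -/
theorem exists_vanishing_twistBy (F : (Proj 𝒜).Modules) (hF : Coh.IsCoh F) :
    ∃ d₀ : ℤ, ∀ d : ℤ, d₀ ≤ d → ∀ p : ℕ, Subsingleton (Coh.HH (Proj 𝒜) (Twist.twistBy 𝒜 F d) (p + 1)) := by
  classical
  obtain ⟨q, hq0, hq⟩ := exists_period 𝒜
  haveI : Algebra.FiniteType (𝒜 0) A := (Proj16.irrelevant_fg_iff 𝒜).mp (IsNoetherian.noetherian _)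
  haveI : IsNoetherianRing (𝒜 0) := ((Proj16.isNoetherianRing_iff_degZero 𝒜).mp ‹_›).1
  haveI : IsLocallyNoetherian (Proj 𝒜) := LocallyOfFiniteType.isLocallyNoetherian (Proj.toSpecZero 𝒜)
  have hb : ∀ b : Fin q, ∃ m₀ : ℕ, ∀ m, m₀ ≤ m → ∀ p, Subsingleton (Coh.HH (Proj 𝒜)
      (CohB1.tensorMod (CohB1.tensorMod F (Twist.twist 𝒜 ((b : ℕ) : ℤ)))
        (CohB1.tensorPow (Twist.twist 𝒜 (q : ℤ)) m)) (p + 1)) := fun b =>
    exists_vanishing_progression hq0 hq (AmpleVan.isCoh_tensor hF (isCoh_twist ((b : ℕ) : ℤ)))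
  choose m₀ hm₀ using hb
  refine ⟨((q * (∑ b, m₀ b + 1) : ℕ) : ℤ), fun d hd p => ?_⟩
  obtain ⟨n, rfl⟩ := Int.eq_ofNat_of_zero_le ((Int.natCast_nonneg _).trans hd)
  have hn : q * (∑ b, m₀ b + 1) ≤ n := Int.ofNat_le.mp hd
  let b : Fin q := ⟨n % q, Nat.mod_lt _ hq0⟩
  have hm : m₀ b ≤ n / q := by
    refine le_trans ?_ ((Nat.le_div_iff_mul_le hq0).2 (le_of_eq_of_le (mul_comm _ _) hn))
    exact (Finset.single_le_sum (fun _ _ => Nat.zero_le _) (Finset.mem_univ b)).trans (Nat.le_succ _)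
  obtain ⟨w⟩ := nonempty_twist_tensorPow hq (n / q)
  obtain ⟨t⟩ := nonempty_twist_tensor_iso (𝒜 := 𝒜) hq (a := ((b : ℕ) : ℤ)) (b := ((n / q * q : ℕ) : ℤ))
    (c := (n : ℤ)) (by
      rw [← Int.natCast_add, Int.natCast_inj]
      exact (Nat.add_comm _ _).trans (Nat.div_add_mod' n q)) (k := ((n / q : ℕ) : ℤ)) (by push_cast; ring)
  obtain ⟨φ⟩ : Nonempty (CohB1.tensorMod (CohB1.tensorMod F (Twist.twist 𝒜 ((b : ℕ) : ℤ)))
      (CohB1.tensorPow (Twist.twist 𝒜 (q : ℤ)) (n / q)) ≅ Twist.twistBy 𝒜 F (n : ℤ)) := cl_eq_iff.1 (by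
    show _ = PicF.cl (CohB1.tensorMod F (Twist.twist 𝒜 (n : ℤ)))
    rw [cl_tensor, cl_tensor, cl_tensor, ← cl_eq_iff.2 ⟨w⟩, mul_assoc, ← cl_tensor, ← cl_eq_iff.2 ⟨t⟩])
  exact QCoh.subsingleton_HH_of_iso φ _ (hm₀ b (n / q) hm p)

/-- Vanishing for the twists of the sheaf of a finite graded module. -/
theorem exists_vanishing_tilde {M : Type u} [AddCommGroup M] [Module R M] [Module A M]
    [IsScalarTower R A M] [Module.Finite A M] (ℳ : ℕ → Submodule R M) [DirectSum.Decomposition ℳ]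
    [SetLike.GradedSMul 𝒜 ℳ] :
    ∃ N : ℕ, ∀ n : ℕ, N ≤ n → ∀ p : ℕ, Subsingleton (Coh.HH (Proj 𝒜) (GrMod.tilde 𝒜 ℳ (n : ℤ)) (p + 1)) := by
  classical
  obtain ⟨q, hq0, hq⟩ := exists_period 𝒜
  have hb : ∀ b : Fin q, ∃ m₀ : ℕ, ∀ m, m₀ ≤ m → ∀ p, Subsingleton (Coh.HH (Proj 𝒜)
      (CohB1.tensorMod (GrMod.tilde 𝒜 ℳ ((b : ℕ) : ℤ))
        (CohB1.tensorPow (Twist.twist 𝒜 (q : ℤ)) m)) (p + 1)) := fun b =>
    exists_vanishing_progression hq0 hq (isCoh_tilde ℳ _)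
  choose m₀ hm₀ using hb
  refine ⟨q * (∑ b, m₀ b + 1), fun n hn p => ?_⟩
  let b : Fin q := ⟨n % q, Nat.mod_lt _ hq0⟩
  have hm : m₀ b ≤ n / q := by
    refine le_trans ?_ ((Nat.le_div_iff_mul_le hq0).2 (le_of_eq_of_le (mul_comm _ _) hn))
    exact (Finset.single_le_sum (fun _ _ => Nat.zero_le _) (Finset.mem_univ b)).trans (Nat.le_succ _)
  obtain ⟨w⟩ := nonempty_twist_tensorPow hq (n / q)
  obtain ⟨t⟩ := nonempty_tilde_tensor_iso (ℳ := ℳ) hq (a := ((b : ℕ) : ℤ)) (b := ((n / q * q : ℕ) : ℤ))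
    (c := (n : ℤ)) (by
      rw [← Int.natCast_add, Int.natCast_inj]
      exact (Nat.add_comm _ _).trans (Nat.div_add_mod' n q)) (k := ((n / q : ℕ) : ℤ)) (by push_cast; ring)
  obtain ⟨φ⟩ : Nonempty (CohB1.tensorMod (GrMod.tilde 𝒜 ℳ ((b : ℕ) : ℤ))
      (CohB1.tensorPow (Twist.twist 𝒜 (q : ℤ)) (n / q)) ≅ GrMod.tilde 𝒜 ℳ (n : ℤ)) := cl_eq_iff.1 (by
    rw [cl_tensor, ← cl_eq_iff.2 ⟨w⟩, ← cl_tensor, ← cl_eq_iff.2 ⟨t⟩])
  exact QCoh.subsingleton_HH_of_iso φ _ (hm₀ b (n / q) hm p)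

section scalar

omit [IsNoetherianRing A] in
/-- A scalar as a global function: its values are `a / 1`. -/
theorem oval_toGlobal (a : R) (y : (⊤ : (Proj 𝒜).Opens)) :
    (GrModX.oval 𝒜 (show Γ(Proj 𝒜, ⊤) from Coh.toGlobal (Proj 𝒜 ↘ Spec (CommRingCat.of R)) a) y).val =
      Localization.mk (algebraMap R A a) 1 := by
  have e : ((Proj.basicOpen 𝒜 (1 : A)).ι ≫ Proj.toSpecZero 𝒜) =
      (Proj.basicOpen 𝒜 (1 : A)).toSpecΓ ≫
        Spec.map (Proj.awayToSection 𝒜 (1 : A)) ≫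
          Spec.map (CommRingCat.ofHom (HomogeneousLocalization.fromZeroRingHom 𝒜 _)) := by
    have : ∀ (U : (Proj 𝒜).Opens) (e : U = ⊤), U.ι ≫ (Scheme.topIso _).inv ≫ (Scheme.isoOfEq _ e).inv = 𝟙 _ := by
      intro U e
      subst e
      rw [← cancel_mono (⊤ : (Proj 𝒜).Opens).ι]
      simp
    rw [Proj.toSpecZero, reassoc_of% (this _ (Proj.basicOpen_one _))]
    rfl
  let a0 : 𝒜 0 := algebraMap R (𝒜 0) a
  let t : Γ(Proj 𝒜, ⊤) := (Proj.toSpecZero 𝒜).appTop ((Scheme.ΓSpecIso (CommRingCat.of (𝒜 0))).inv a0)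
  have ht : (show Γ(Proj 𝒜, ⊤) from Coh.toGlobal (Proj 𝒜 ↘ Spec (CommRingCat.of R)) a) = t := by
    show ((Proj.toSpecZero 𝒜 ≫ Spec.map (CommRingCat.ofHom (algebraMap R (𝒜 0)))).appTop).hom
      ((Scheme.ΓSpecIso (CommRingCat.of R)).inv.hom a) = t
    rw [Scheme.Hom.comp_appTop]
    show (Proj.toSpecZero 𝒜).appTop ((Spec.map (CommRingCat.ofHom (algebraMap R (𝒜 0)))).appTop
      ((Scheme.ΓSpecIso (CommRingCat.of R)).inv a)) = t
    exact congrArg _ (ConcreteCategory.congr_hom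
      (Scheme.ΓSpecIso_inv_naturality (CommRingCat.ofHom (algebraMap R (𝒜 0)))) a).symm
  rw [ht]
  set U := Proj.basicOpen 𝒜 (1 : A)
  have h := congrArg Scheme.Hom.appTop e
  rw [Scheme.Hom.comp_appTop U.ι, Scheme.Hom.comp_appTop U.toSpecΓ, ← Spec.map_comp,
    Scheme.Opens.toSpecΓ_appTop, ← Category.assoc, Scheme.ΓSpecIso_naturality, Category.assoc] at h
  have h' := congrArg (fun φ => φ ≫ U.topIso.hom) h
  simp only [Category.assoc, Iso.inv_hom_id, Category.comp_id] at h'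
  rw [Scheme.Opens.ι_appTop, Scheme.Opens.topIso_hom] at h'
  have hx := ConcreteCategory.congr_hom h' ((Scheme.ΓSpecIso (CommRingCat.of (𝒜 0))).inv a0)
  simp only [CommRingCat.hom_comp, RingHom.comp_apply] at hx
  have hy : y.1 ∈ U := fun hh => y.1.isPrime.ne_top ((Ideal.eq_top_iff_one _).mpr hh)
  refine Eq.trans ?_ (Eq.trans (congrArg (fun c => (GrModX.oval 𝒜 (U := U) c ⟨y.1, hy⟩).val) (?_ :
    (Proj 𝒜).presheaf.map (homOfLE (le_top : U ≤ ⊤)).op t = (Proj.awayToSection 𝒜 (1 : A)).hom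
      (HomogeneousLocalization.fromZeroRingHom 𝒜 _ a0))) ?_)
  · rfl
  · have hid := ConcreteCategory.congr_hom (Scheme.ΓSpecIso (CommRingCat.of (𝒜 0))).inv_hom_id a0
    simp only [CommRingCat.hom_comp, RingHom.comp_apply, CommRingCat.hom_id, RingHom.id_apply] at hid
    rw [hid] at hx
    refine Eq.trans ?_ hx
    have key : ∀ {A' B' : ((Proj 𝒜).Opens)ᵒᵖ} (f : op ⊤ ⟶ A') (g : A' ⟶ B') (c : op ⊤ ⟶ B'),
        ((Proj 𝒜).presheaf.map c).hom t = ((Proj 𝒜).presheaf.map g).hom (((Proj 𝒜).presheaf.map f).hom t) :=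
      fun f g c => by rw [Subsingleton.elim c (f ≫ g), Functor.map_comp]; rfl
    exact key _ _ _
  · rfl

end scalar

end Groth.Agent.H9Misc.ProjVan
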