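import Mathlib

/-! Maps out of bounded above complexes of projectives. -/

set_option linter.style.haveILetI false

universe w v u

open CategoryTheory CategoryTheory.Limits CategoryTheory.Pretriangulated

namespace Groth.Agent.H9Misc.ProjVanish

variable {A : Type u} [Category.{v} A] [Abelian A]

theorem eq_zero_Kh (P K : CochainComplex A ℤ) (n b : ℤ) [P.IsStrictlyGE n] [P.IsStrictlyLE b]
    (hP : ∀ i : ℤ, Projective (P.X i)) (hK : ∀ i : ℤ, n ≤ i → IsZero (K.homology i))
    (φ : (HomotopyCategory.quotient A (ComplexShape.up ℤ)).obj P ⟶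
      (HomotopyCategory.quotient A (ComplexShape.up ℤ)).obj K) : φ = 0 := by
  letI := HasDerivedCategory.standard A
  haveI := hP
  haveI := CochainComplex.isKProjective_of_projective P b
  haveI : K.IsLE (n - 1) := (CochainComplex.isLE_iff K (n - 1)).2 fun i hi =>
    (HomologicalComplex.exactAt_iff_isZero_homology _ i).2 (hK i (by omega))
  let q := HomotopyCategory.quotient A (ComplexShape.up ℤ)
  haveI : IsIso (DerivedCategory.Q.map (K.ιTruncLE (n - 1))) :=
    (DerivedCategory.isIso_Q_map_iff_quasiIso _ _).2 inferInstance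
  haveI : IsIso (DerivedCategory.Qh.map (q.map (K.ιTruncLE (n - 1)))) :=
    (NatIso.isIso_map_iff (DerivedCategory.quotientCompQhIso A) (K.ιTruncLE (n - 1))).2 inferInstance
  obtain ⟨ψ, hψ⟩ := (CochainComplex.IsKProjective.Qh_map_bijective P (q.obj (K.truncLE (n - 1)))).2
    (DerivedCategory.Qh.map φ ≫ inv (DerivedCategory.Qh.map (q.map (K.ιTruncLE (n - 1)))))
  have h1 : φ = ψ ≫ q.map (K.ιTruncLE (n - 1)) := by
    apply (CochainComplex.IsKProjective.Qh_map_bijective P (q.obj K)).1
    rw [Functor.map_comp, hψ, Category.assoc, IsIso.inv_hom_id, Category.comp_id]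
  obtain ⟨a, rfl⟩ := q.map_surjective ψ
  have ha : a = 0 := by
    ext i
    rcases lt_or_ge i n with h | h
    · exact (P.isZero_of_isStrictlyGE n i h).eq_of_src _ _
    · exact ((K.truncLE (n - 1)).isZero_of_isStrictlyLE (n - 1) i (by omega)).eq_of_tgt _ _
  rw [h1, ha, q.map_zero, zero_comp]

end Groth.Agent.H9Misc.ProjVanish
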