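import Groth.Agent.H9Misc.KFlatRows
import Groth.Agent.KFlatLib.ModuleFlat
import Groth.Agent.KFlatLib.BrutalTrunc
import Mathlib

/-! Complexes whose tensor product with every module is acyclic. -/

set_option linter.style.haveILetI false

universe u

open CategoryTheory CategoryTheory.Limits MonoidalCategory
open scoped TensorProduct

namespace Groth.Agent.H9Misc.PureAcyclic

open Groth.Agent.KFlatLib

variable {R : Type u} [CommRing R]

/-- It is enough to test exactness after tensoring with finitely presented modules. -/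
theorem exact_rTensor {A B C : Type u} [AddCommGroup A] [Module R A] [AddCommGroup B] [Module R B]
    [AddCommGroup C] [Module R C] (f : A →ₗ[R] B) (g : B →ₗ[R] C) (hgf : g ∘ₗ f = 0)
    (h : ∀ (M : Type u) [AddCommGroup M] [Module R M], Module.FinitePresentation R M →
      Function.Exact (f.rTensor M) (g.rTensor M))
    (M : Type u) [AddCommGroup M] [Module R M] : Function.Exact (f.rTensor M) (g.rTensor M) := by
  classical
  intro z
  refine ⟨fun hz => ?_, ?_⟩
  swap
  · rintro ⟨y, rfl⟩
    rw [← LinearMap.rTensor_comp_apply, hgf, LinearMap.rTensor_zero]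
    simp
  let π : (M →₀ R) →ₗ[R] M := Finsupp.linearCombination R (id : M → M)
  have hπ : Function.Surjective π := fun m => ⟨Finsupp.single m 1, by simp [π]⟩
  obtain ⟨z', rfl⟩ := LinearMap.lTensor_surjective B hπ z
  have hw : π.lTensor C (g.rTensor _ z') = 0 := by
    rw [← LinearMap.comp_apply, LinearMap.lTensor_comp_rTensor, ← LinearMap.rTensor_comp_lTensor]
    exact hz
  have hex : Function.Exact (LinearMap.ker π).subtype π := LinearMap.exact_subtype_ker_map π
  obtain ⟨w, hw'⟩ := (lTensor_exact (R := R) (M := ↥(LinearMap.ker π)) (N := M →₀ R) (P := M) C hex hπ _).1 hw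
  -- finitely generated pieces carrying `z'` and `w`
  obtain ⟨J, hJ, y, hy⟩ := Submodule.exists_fg_le_eq_rTensor_subtype (TensorProduct.comm R _ _ z')
  obtain ⟨N, hN, hNle, v, hv⟩ := Submodule.exists_fg_le_eq_rTensor_inclusion
    (I := LinearMap.ker π) (TensorProduct.comm R _ _ w)
  obtain ⟨G, hG⟩ := hJ.sup hN
  let s : Finset M := G.sup Finsupp.support
  have hs : J ⊔ N ≤ Finsupp.supported R R (s : Set M) := by
    rw [← hG, Submodule.span_le]
    intro x hx
    exact (Finsupp.mem_supported R x).2 (by exact_mod_cast Finset.le_sup (f := Finsupp.support) hx)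
  let r : (M →₀ R) →ₗ[R] (↥(s : Set M) →₀ R) := Finsupp.lcomapDomain Subtype.val Subtype.val_injective
  let k : (↥(s : Set M) →₀ R) →ₗ[R] (M →₀ R) := Finsupp.lmapDomain R R Subtype.val
  have hkr : ∀ x ∈ Finsupp.supported R R (s : Set M), k (r x) = x := fun x hx =>
    Finsupp.mapDomain_comapDomain _ Subtype.val_injective x (by
      rw [Subtype.range_coe]; exact (Finsupp.mem_supported R x).1 hx)
  let M0 := (↥(s : Set M) →₀ R) ⧸ (N.map r)
  haveI : Module.Finite R (↥(s : Set M) →₀ R) := inferInstance
  have hfp : Module.FinitePresentation R M0 :=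
    Module.finitePresentation_of_surjective _ (N.map r).mkQ_surjective (by
      rw [Submodule.ker_mkQ]; exact hN.map r)
  let φ : M0 →ₗ[R] M := (N.map r).liftQ (π ∘ₗ k) (by
    rintro _ ⟨x, hx, rfl⟩
    rw [LinearMap.mem_ker, LinearMap.comp_apply, hkr x (hs (le_sup_right (a := J) hx))]
    exact hNle hx)
  let ψ : (M →₀ R) →ₗ[R] M0 := (N.map r).mkQ ∘ₗ r
  have hψJ : (φ ∘ₗ ψ) ∘ₗ J.subtype = π ∘ₗ J.subtype := by
    refine LinearMap.ext fun ⟨x, hx⟩ => ?_
    show π (k (r x)) = π x
    rw [hkr x (hs (le_sup_left (b := N) hx))]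
  have hψN : (ψ ∘ₗ (LinearMap.ker π).subtype) ∘ₗ Submodule.inclusion hNle = 0 := by
    ext ⟨x, hx⟩
    exact (Submodule.Quotient.mk_eq_zero _).2 ⟨x, hx, rfl⟩
  have hz' : z' = J.subtype.lTensor B (TensorProduct.comm R _ _ y) := by
    apply (TensorProduct.comm R B (M →₀ R)).injective
    rw [hy, LinearMap.lTensor_def, LinearMap.rTensor_def, TensorProduct.map_comm]
    simp
  have hw'' : w = (Submodule.inclusion hNle).lTensor C (TensorProduct.comm R _ _ v) := by
    apply (TensorProduct.comm R C _).injective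
    rw [hv, LinearMap.lTensor_def, LinearMap.rTensor_def, TensorProduct.map_comm]
    simp
  have hcyc : g.rTensor M0 (ψ.lTensor B z') = 0 := by
    rw [← LinearMap.comp_apply, LinearMap.rTensor_comp_lTensor, ← LinearMap.lTensor_comp_rTensor,
      LinearMap.comp_apply, ← hw', hw'', ← LinearMap.lTensor_comp_apply, ← LinearMap.lTensor_comp_apply,
      hψN, LinearMap.lTensor_zero, LinearMap.zero_apply]
  obtain ⟨a, ha⟩ := (h M0 hfp _).1 hcyc
  refine ⟨φ.lTensor A a, ?_⟩
  rw [← LinearMap.comp_apply, LinearMap.rTensor_comp_lTensor, ← LinearMap.lTensor_comp_rTensor,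
    LinearMap.comp_apply, ha, hz', ← LinearMap.lTensor_comp_apply, ← LinearMap.lTensor_comp_apply,
    ← LinearMap.lTensor_comp_apply, hψJ]

/-- The hypothesis: the termwise tensor product with every module is acyclic. -/
def PA (K : DRing.Cx R) : Prop := ∀ M : ModuleCat.{u} R, (DRing.tensorCx K M).Acyclic

theorem pa_of_finitePresentation (K : DRing.Cx R)
    (h : ∀ (M : Type u) [AddCommGroup M] [Module R M], Module.FinitePresentation R M →
      (DRing.tensorCx K (ModuleCat.of R M)).Acyclic) : PA K := fun M n => by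
  rw [HomologicalComplex.exactAt_iff' _ (n - 1) n (n + 1) (by simp) (by simp),
    ShortComplex.ShortExact.moduleCat_exact_iff_function_exact]
  refine exact_rTensor (K.d (n - 1) n).hom (K.d n (n + 1)).hom ?_ ?_ M
  · rw [← ModuleCat.hom_comp, K.d_comp_d, ModuleCat.hom_zero]
  · intro N _ _ hN
    have h' := h N hN n
    rw [HomologicalComplex.exactAt_iff' _ (n - 1) n (n + 1) (by simp) (by simp),
      ShortComplex.ShortExact.moduleCat_exact_iff_function_exact] at h'
    exact h'

variable (K : DRing.Cx R)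

/-- The total complex as a functor of the first variable. -/
noncomputable abbrev tF : DRing.Cx R ⥤ DRing.Cx R :=
  (Functor.map₂CochainComplex (curriedTensor (ModuleCat.{u} R))).flip.obj K

lemma acyclic_of_iso {X Y : DRing.Cx R} (e : X ≅ Y) (h : X.Acyclic) : Y.Acyclic :=
  fun i => (h i).of_iso e

lemma acyclic_single (hK : PA K) (j : ℤ) (M : ModuleCat.{u} R) :
    ((tF K).obj ((HomologicalComplex.single _ (ComplexShape.up ℤ) j).obj M)).Acyclic := by
  refine acyclic_of_iso ((flipIso (curriedTensor (ModuleCat.{u} R)) K).app _).symm ?_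
  intro n
  rw [HomologicalComplex.exactAt_iff' _ (n - 1) n (n + 1) (by simp) (by simp)]
  refine (ShortComplex.exact_iff_of_iso (ShortComplex.isoMk
      (S₁ := (K.sc' (n - 1 - j) (n - j) (n + 1 - j)).map ((Functor.flip (Functor.flip (curriedTensor (ModuleCat.{u} R)))).obj M))
      (S₂ := (((Functor.flip (curriedTensor (ModuleCat.{u} R))).map₂CochainComplex.obj K).obj
        ((HomologicalComplex.single _ (ComplexShape.up ℤ) j).obj M)).sc' (n - 1) n (n + 1))
      (@asIso _ _ _ _ (singleSummand (T := Functor.flip (curriedTensor (ModuleCat.{u} R))) K M j (n - 1 - j) (n - 1) (show n - 1 - j + j = n - 1 by omega))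
        (isIso_singleSummand K M j _ _ _))
      (@asIso _ _ _ _ (singleSummand (T := Functor.flip (curriedTensor (ModuleCat.{u} R))) K M j (n - j) n (show n - j + j = n by omega))
        (isIso_singleSummand K M j _ _ _))
      (@asIso _ _ _ _ (singleSummand (T := Functor.flip (curriedTensor (ModuleCat.{u} R))) K M j (n + 1 - j) (n + 1) (show n + 1 - j + j = n + 1 by omega))
        (isIso_singleSummand K M j _ _ _))
      (singleSummand_d (T := Functor.flip (curriedTensor (ModuleCat.{u} R))) K M j _ _ _ _ _ _ (show n - 1 - j + 1 = n - j by omega))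
      (singleSummand_d (T := Functor.flip (curriedTensor (ModuleCat.{u} R))) K M j _ _ _ _ _ _ (show n - j + 1 = n + 1 - j by omega)))).1 ?_
  refine (ShortComplex.exact_iff_of_iso
    ((K.sc' (n - 1 - j) (n - j) (n + 1 - j)).mapNatIso (BraidedCategory.tensorLeftIsoTensorRight M))).2 ?_
  exact ((HomologicalComplex.exactAt_iff' (DRing.tensorCx K M) (n - 1 - j) (n - j) (n + 1 - j)
    (by simp; omega) (by simp; omega)).1 (hK M (n - j)))

lemma sigma_splitting (F : DRing.Cx R) (m n : ℤ) :
    Nonempty ((sigmaSES F m).map (HomologicalComplex.eval _ (ComplexShape.up ℤ) n)).Splitting := by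
  have h := (sigmaSES_shortExact F m).map_of_exact (HomologicalComplex.eval _ (ComplexShape.up ℤ) n)
  by_cases hn : m ≤ n
  · haveI := h.mono_f
    haveI : Epi ((sigmaSES F m).map (HomologicalComplex.eval _ (ComplexShape.up ℤ) n)).g := h.epi_g
    haveI := isStrictlyLE_sigmaSES_X₃ F m
    exact ⟨ShortComplex.Splitting.ofIsIsoOfIsZero _ (isIso_sigmaGEι_f F m n hn)
      (CochainComplex.isZero_of_isStrictlyLE (sigmaSES F m).X₃ (m - 1) n (by omega))⟩
  · have hz := isZero_stupidTrunc_of_lt F m n (by omega)
    haveI : Mono ((sigmaSES F m).map (HomologicalComplex.eval _ (ComplexShape.up ℤ) n)).g :=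
      h.exact.mono_g (hz.eq_of_src _ _)
    haveI : Epi ((sigmaSES F m).map (HomologicalComplex.eval _ (ComplexShape.up ℤ) n)).g := h.epi_g
    exact ⟨ShortComplex.Splitting.ofIsZeroOfIsIso _ hz (isIso_of_mono_of_epi _)⟩

theorem acyclic_bounded (hK : PA K) (a : ℤ) : ∀ (k : ℕ) (L : DRing.Cx R), L.IsStrictlyGE a →
    L.IsStrictlyLE (a + k) → ((tF K).obj L).Acyclic := by
  intro k
  induction k with
  | zero =>
    intro L h1 h2
    haveI := h1
    haveI : L.IsStrictlyLE a := by simpa using h2
    obtain ⟨M, ⟨e⟩⟩ := L.exists_iso_single a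
    exact acyclic_of_iso ((tF K).mapIso e.symm) (acyclic_single K hK a M)
  | succ k ih =>
    intro L h1 h2
    haveI := h1
    haveI := h2
    let b : ℤ := a + (k + 1 : ℕ)
    have hS := sigmaSES_shortExact L b
    have hX1 : ((tF K).obj (sigmaSES L b).X₁).Acyclic := by
      haveI : CochainComplex.IsStrictlyGE (sigmaSES L b).X₁ b :=
        (CochainComplex.isStrictlyGE_iff _ _).2 fun n hn => isZero_stupidTrunc_of_lt L b n hn
      haveI : CochainComplex.IsStrictlyLE (sigmaSES L b).X₁ b :=
        (CochainComplex.isStrictlyLE_iff _ _).2 fun n hn =>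
          (L.isZero_of_isStrictlyLE b n hn).of_iso (@asIso _ _ _ _ ((sigmaGEι L b).f n) (isIso_sigmaGEι_f L b n hn.le))
      obtain ⟨M, ⟨e⟩⟩ := CochainComplex.exists_iso_single (sigmaSES L b).X₁ b
      exact acyclic_of_iso ((tF K).mapIso e.symm) (acyclic_single K hK b M)
    have hX3 : ((tF K).obj (sigmaSES L b).X₃).Acyclic := by
      refine ih _ ((CochainComplex.isStrictlyGE_iff _ _).2 fun n hn => ?_)
        ((CochainComplex.isStrictlyLE_iff _ _).2 fun n hn => ?_)
      · obtain ⟨e⟩ := nonempty_sigmaSES_X₃_iso L b n (by omega)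
        exact (L.isZero_of_isStrictlyGE a n hn).of_iso e.symm
      · haveI := isStrictlyLE_sigmaSES_X₃ L b
        exact CochainComplex.isZero_of_isStrictlyLE (sigmaSES L b).X₃ (b - 1) n (by omega)
    exact (shortExact₁_of_splitting K (sigmaSES L b) (sigma_splitting L b)).acyclic_X₂ hX1 hX3

section Window

variable (L : DRing.Cx R)

/-- The bounded subcomplex equal to `L` in degrees `[-k, k]`. -/
noncomputable def S (k : ℕ) (n : ℤ) : Submodule R (L.X n) :=
  if -(k : ℤ) ≤ n ∧ n ≤ k then ⊤
  else if n = (k : ℤ) + 1 then LinearMap.range (L.d (k : ℤ) n).hom else ⊥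

lemma d_mem (k : ℕ) (i j : ℤ) (x : L.X i) (hx : x ∈ S L k i) : (L.d i j).hom x ∈ S L k j := by
  by_cases hij : i + 1 = j
  swap
  · rw [L.shape i j (by simpa using hij)]
    exact Submodule.zero_mem _
  subst hij
  by_cases h : -(k : ℤ) ≤ i + 1 ∧ i + 1 ≤ k
  · rw [S, if_pos h]; trivial
  rw [S, if_neg h]
  by_cases h' : i + 1 = (k : ℤ) + 1
  · rw [if_pos h']
    obtain rfl : i = k := by omega
    exact ⟨x, rfl⟩
  · rw [if_neg h']
    rw [S] at hx
    have hni : ¬ (-(k : ℤ) ≤ i ∧ i ≤ k) := by omega
    rw [if_neg hni] at hx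
    by_cases h'' : i = (k : ℤ) + 1
    · rw [if_pos h''] at hx
      obtain ⟨y, rfl⟩ := hx
      rw [Submodule.mem_bot, ← ModuleCat.comp_apply, L.d_comp_d]
      rfl
    · rw [if_neg h''] at hx
      rw [(Submodule.mem_bot R).1 hx, map_zero]
      exact Submodule.zero_mem _

lemma S_mono {k l : ℕ} (h : k ≤ l) (n : ℤ) : S L k n ≤ S L l n := by
  intro x hx
  by_cases hl : -(l : ℤ) ≤ n ∧ n ≤ l
  · rw [S, if_pos hl]; trivial
  rw [S] at hx
  rw [if_neg (by omega)] at hx
  by_cases hk : n = (k : ℤ) + 1
  · rw [if_pos hk] at hx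
    obtain rfl : k = l := by omega
    rw [S, if_neg hl, if_pos hk]
    exact hx
  · rw [if_neg hk] at hx
    rw [(Submodule.mem_bot R).1 hx]
    exact Submodule.zero_mem _

/-- The window as a complex. -/
noncomputable def win (k : ℕ) : DRing.Cx R where
  X n := ModuleCat.of R (S L k n)
  d i j := ModuleCat.ofHom ((L.d i j).hom.restrict (d_mem L k i j))
  shape i j h := by ext x; simp [L.shape i j h]
  d_comp_d' i j l _ _ := by
    ext x
    exact LinearMap.congr_fun (congrArg ModuleCat.Hom.hom (L.d_comp_d i j l)) x.1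

/-- The windows form a sequence. -/
noncomputable def winFunctor : ℕ ⥤ DRing.Cx R where
  obj := win L
  map {k l} h := { f := fun n => ModuleCat.ofHom (Submodule.inclusion (S_mono L h.le n))
                   comm' := fun i j _ => rfl }

/-- The cocone on the windows. -/
noncomputable def winCocone : Cocone (winFunctor L) where
  pt := L
  ι := { app := fun k => { f := fun n => ModuleCat.ofHom (S L k n).subtype
                           comm' := fun i j _ => rfl } }

lemma isIso_map {k l : ℕ} (h : k ⟶ l) (n : ℤ) (hn : n.natAbs ≤ k) :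
    IsIso (((winFunctor L).map h).f n) :=
  (ConcreteCategory.isIso_iff_bijective _).2 ⟨Submodule.inclusion_injective (S_mono L (leOfHom h) n), fun x =>
    ⟨⟨x.1, by rw [S, if_pos (by omega)]; trivial⟩, rfl⟩⟩

/-- `L` is the colimit of its windows. -/
noncomputable def isColimitWinCocone : IsColimit (winCocone L) :=
  HomologicalComplex.isColimitOfEval _ _ fun n =>
    haveI : IsIso (((HomologicalComplex.eval _ (ComplexShape.up ℤ) n).mapCocone (winCocone L)).ι.app n.natAbs) :=
      (ConcreteCategory.isIso_iff_bijective _).2 ⟨Subtype.val_injective, fun x =>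
        ⟨⟨x, by rw [S, if_pos (by omega)]; trivial⟩, rfl⟩⟩
    Functor.IsEventuallyConstantFrom.isColimitOfIsIso
      (F := winFunctor L ⋙ HomologicalComplex.eval _ (ComplexShape.up ℤ) n) (i₀ := n.natAbs)
      (fun _ f => isIso_map L f n le_rfl) _

lemma isZero_win (k : ℕ) (n : ℤ) (hn : n < -(k : ℤ) ∨ (k : ℤ) + 1 < n) : IsZero ((win L k).X n) := by
  haveI : Subsingleton (win L k |>.X n) := by
    show Subsingleton (S L k n)
    rw [S, if_neg (by omega), if_neg (by omega)]
    infer_instance
  exact ModuleCat.isZero_of_subsingleton _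

end Window

/-- Tensoring with such a complex kills every complex. -/
theorem acyclic_tensor (hK : PA K) (L : DRing.Cx R) : ((tF K).obj L).Acyclic := by
  haveI : ∀ Y : ModuleCat.{u} R, PreservesColimitsOfShape ℕ ((Functor.flip (curriedTensor (ModuleCat.{u} R))).obj Y) := fun Y =>
    preservesColimitsOfShape_of_natIso (BraidedCategory.tensorLeftIsoTensorRight Y)
  haveI := preservesColimitsOfShape₁ (curriedTensor (ModuleCat.{u} R)) ℕ K
  refine acyclic_of_isColimit' (isColimitOfPreserves (tF K) (isColimitWinCocone L)) fun k => ?_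
  refine acyclic_bounded K hK (-(k : ℤ)) (2 * k + 1) _
    ((CochainComplex.isStrictlyGE_iff _ _).2 fun n hn => isZero_win L k n (Or.inl hn))
    ((CochainComplex.isStrictlyLE_iff _ _).2 fun n hn => isZero_win L k n (Or.inr (by omega)))

end Groth.Agent.H9Misc.PureAcyclic
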