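import Groth.Agent.AlgSpLib.AffineDescProps
import Groth.Agent.AlgStLib.OverSpace
import Groth.Agent.AmpleX.QAHom
import Groth.Agent.ConsPropLib.QuasiAffine
import Groth.Prelude.Def_Mor2
import Groth.Agent.AlgSpPts.Descent

/-!
# Composites of quasi-affine morphisms of sheaves
-/

set_option autoImplicit false
set_option linter.style.haveILetI false
set_option backward.isDefEq.respectTransparency false
set_option backward.isDefEq.respectTransparency.types false

universe u

open CategoryTheory CategoryTheory.Limits AlgebraicGeometry AlgSp Groth.Agent.AlgSpLib Groth.Agent.AlgStLib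

namespace Groth.Agent.H9Misc.QAComp

variable {S : Scheme.{u}}

/-- A base change of a quasi-affine morphism to a scheme is quasi-affine. -/
theorem isQuasiAffine_of_isPullback {F G : Sp S} {f : F ⟶ G} (hf : IsQuasiAffineMor f) {T W : Over S}
    {g : (yon S).obj T ⟶ G} {fst : (yon S).obj W ⟶ F} {i : W ⟶ T} (sq : IsPullback fst ((yon S).map i) f g) :
    Mor2.IsQuasiAffine i.left := by
  refine ⟨((repWith_of_isQuasiAffineMor hf).2 g fst i sq).2, fun V hV => ?_⟩
  let TU : Over S := Over.mk (V.ι ≫ T.hom)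
  let inc : TU ⟶ T := Over.homMk V.ι rfl
  let WU : Over S := Over.mk ((i.left ⁻¹ᵁ V).ι ≫ W.hom)
  let r : WU ⟶ TU := Over.homMk (i.left ∣_ V) (by
    show _ ≫ V.ι ≫ T.hom = _ ≫ W.hom
    rw [← Category.assoc, (isPullback_morphismRestrict i.left V).w, Category.assoc, Over.w i])
  let k : WU ⟶ W := Over.homMk (i.left ⁻¹ᵁ V).ι rfl
  have hw : k ≫ i = r ≫ inc := Over.OverMorphism.ext (isPullback_morphismRestrict i.left V).w.symm
  have sqk : IsPullback k r i inc :=
    IsPullback.of_map (Over.forget S) hw (isPullback_morphismRestrict i.left V).flip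
  have sq₁ : IsPullback ((yon S).map k ≫ fst) ((yon S).map r) f ((yon S).map inc ≫ g) :=
    (sqk.map (yon S)).paste_horiz sq
  obtain ⟨W', i', fst', sq₂, hW'⟩ := hf (Z := TU) hV ((yon S).map inc ≫ g)
  let e : WU ≅ W' := (yon S).preimageIso (sq₁.isoIsPullback _ _ sq₂)
  haveI : IsIso e.hom.left := inferInstanceAs (IsIso ((Over.forget S).map e.hom))
  exact Scheme.IsQuasiAffine.of_isAffineHom (e.hom.left : _ ⟶ W'.left)

theorem stableBC_isQuasiAffineMor : StableBC (IsQuasiAffineMor (S := S)) :=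
  fun _ _ _ _ _ _ _ _ _ _ _ _ sq h => isQuasiAffineMor_of_isPullback sq h

theorem stableComp_isQuasiAffineMor : StableComp (IsQuasiAffineMor (S := S)) := by
  intro X Y Z _ _ _ a b ha hb T hT g
  obtain ⟨W, i, fst, sq, hW⟩ := hb hT g
  obtain ⟨W', i', fst', sq'⟩ := AlgSpDec.representable_of_isQuasiAffineMor ha fst
  refine ⟨W', i' ≫ i, fst', by rw [Functor.map_comp]; exact (sq'.flip.paste_horiz sq.flip).flip, ?_⟩
  haveI : IsAffine T.left := hT
  haveI := hW
  have h1 : Mor2.IsQuasiAffine i'.left := isQuasiAffine_of_isPullback ha sq'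
  have h2 : Mor2.IsQuasiAffine i.left := isQuasiAffine_of_isPullback hb sq
  exact (Groth.Agent.ConsPropLib.qa_iff_of_isAffine (i'.left ≫ i.left)).1 (Groth.Agent.AmpleX.isQuasiAffine_comp i'.left i.left h1 h2)

theorem isQuasiAffineMor_of_isAffineMor {F G : Sp S} {f : F ⟶ G} (h : IsAffineMor f) : IsQuasiAffineMor f :=
  fun Z hZ g => by
    obtain ⟨W, i, fst, sq, hW⟩ := h hZ g
    exact ⟨W, i, fst, sq, haveI := hW; inferInstance⟩

theorem isQuasiAffineMor_of_repWith_qcImmersion {F G : Sp S} {f : F ⟶ G}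
    (h : RepWith ((@IsImmersion ⊓ @QuasiCompact : MorphismProperty Scheme.{u})) f) : IsQuasiAffineMor f := fun Z hZ g => by
  haveI : IsAffine Z.left := hZ
  let W := h.rep.pullback g
  haveI : IsImmersion (h.rep.snd g).left := (h.property_snd g).1
  haveI : QuasiCompact (h.rep.snd g).left := (h.property_snd g).2
  haveI : CompactSpace (h.rep.pullback g).left := QuasiCompact.compactSpace_of_compactSpace (h.rep.snd g).left
  exact ⟨W, h.rep.snd g, h.rep.fst g, h.rep.isPullback g, Scheme.IsQuasiAffine.of_isImmersion (h.rep.snd g).left⟩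

theorem diag_of_qs (X : Over S) [QuasiSeparated X.hom] : IsQuasiAffineMor (Limits.diag ((yon S).obj X)) := by
  obtain ⟨k, hk⟩ : ∃ k : X ⟶ Over.mk (𝟙 S), k.left = X.hom := ⟨Over.homMk X.hom (Category.comp_id _), rfl⟩
  haveI : QuasiSeparated k.left := hk ▸ ‹_›
  have h : ∀ j : (yon S).obj X ⟶ (yon S).obj (Over.mk (𝟙 S)), (yon S).map k = j →
      RepWith ((@IsImmersion ⊓ @QuasiCompact : MorphismProperty Scheme.{u})) (pullback.diagonal j) := fun j e => by
    subst e
    exact (repWith_diagonal_yon_map_iff _ k).2 ⟨inferInstance, inferInstance⟩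
  exact isQuasiAffineMor_of_repWith_qcImmersion ((AlgSpPts.repWith_diag_iff _ _).2
    (h _ ((AlgSpPts.isTerminalYon S).hom_ext _ _)))

end Groth.Agent.H9Misc.QAComp
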