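import Groth.Agent.KFlatLib.Scheme.RGammaPush

/-! Maps out of the structure sheaf are computed by `RΓ`. -/

set_option autoImplicit false
set_option linter.style.haveILetI false
set_option backward.isDefEq.respectTransparency false
set_option backward.isDefEq.respectTransparency.types false

universe u

open CategoryTheory CategoryTheory.Limits AlgebraicGeometry Opposite

attribute [local instance] HasDerivedCategory.standard

noncomputable section

namespace Groth.Agent.H9Misc.RGammaHom

open Groth.Agent KFlatLib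

variable {X : Scheme.{u}}

theorem quotient_map_eq_zero (J : CochainComplex X.Modules ℤ) (h : ((mapCx (DCoh.gammaAb X)).obj J).ExactAt 0)
    (f : (HomologicalComplex.single X.Modules (ComplexShape.up ℤ) 0).obj (Coh.structureModule X) ⟶ J) :
    (HomotopyCategory.quotient X.Modules (ComplexShape.up ℤ)).map f = 0 := by
  let c := ComplexShape.up ℤ
  let O := Coh.structureModule X
  let o := HomologicalComplex.singleObjXSelf c 0 O
  let σ := o.inv ≫ f.f 0
  have hσ : σ ≫ J.d 0 1 = 0 := by
    rw [Category.assoc, f.comm, HomologicalComplex.single_obj_d, zero_comp, comp_zero]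
  rw [HomologicalComplex.exactAt_iff' _ (-1) 0 1 (by simp) (by simp), ShortComplex.ab_exact_iff] at h
  obtain ⟨t, ht⟩ := h (topEquiv _ σ) ((topEquiv_naturality σ _).symm.trans
    ((congrArg (topEquiv _) hσ).trans (topEquiv_zero _)))
  obtain ⟨η, rfl⟩ := (topEquiv (J.X (-1))).surjective t
  have hη : η ≫ J.d (-1) 0 = σ := (topEquiv _).injective ((topEquiv_naturality η _).trans ht)
  let g : ∀ i j, c.Rel j i → (((HomologicalComplex.single X.Modules c 0).obj O).X i ⟶ J.X j) := fun i j _ =>
    if hh : i = 0 ∧ j = -1 then (HomologicalComplex.singleObjXIsoOfEq c 0 O i hh.1).hom ≫ η ≫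
      (J.XIsoOfEq hh.2.symm).hom else 0
  rw [← Functor.map_zero (HomotopyCategory.quotient X.Modules c)]
  refine HomotopyCategory.eq_of_homotopy _ _ (Homotopy.trans (Homotopy.ofEq ?_) (Homotopy.nullHomotopy' g))
  apply HomologicalComplex.from_single_hom_ext
  rw [Homotopy.nullHomotopicMap'_f (show c.Rel (-1) 0 by simp [c]) (show c.Rel 0 1 by simp [c]),
    HomologicalComplex.single_obj_d, zero_comp, zero_add]
  simp [g, HomologicalComplex.XIsoOfEq_rfl, hη, σ, o]
  rfl

theorem hom_eq_zero_of_RΓ [DCoh.HasRΓ X] (W : CochainComplex X.Modules ℤ) (i : ℤ)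
    (h : IsZero ((DerivedCategory.homologyFunctor AddCommGrpCat.{u} i).obj
      ((DCoh.RΓ X).obj (DerivedCategory.Q.obj W))))
    (φ : DCoh.inD X (Coh.structureModule X) ⟶ (shiftFunctor (DCoh.D X) i).obj (DerivedCategory.Q.obj W)) :
    φ = 0 := by
  let c := ComplexShape.up ℤ
  obtain ⟨I, s, hI, hs⟩ := exists_kInjective_res W
  haveI := hI
  haveI := hs
  haveI := isIso_Q_map s hs
  haveI := isIso_rightDerivedUnit_of_kInjective (DCoh.gammaKh X) I
  let G := mapCx (DCoh.gammaAb X)
  let eR : DerivedCategory.Q.obj (G.obj I) ≅ (DCoh.RΓ X).obj (DerivedCategory.Q.obj I) :=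
    (DerivedCategory.quotientCompQhIso AddCommGrpCat.{u}).symm.app (G.obj I) ≪≫
      asIso (((DCoh.gammaKh X).totalRightDerivedUnit DerivedCategory.Qh
        (HomotopyCategory.quasiIso X.Modules c)).app ((HomotopyCategory.quotient X.Modules c).obj I)) ≪≫
      (DCoh.RΓ X).mapIso ((DerivedCategory.quotientCompQhIso X.Modules).app I)
  have hz : IsZero ((G.obj I).homology i) :=
    h.of_iso (((DerivedCategory.homologyFunctorFactors AddCommGrpCat.{u} i).app _).symm ≪≫
      (DerivedCategory.homologyFunctor AddCommGrpCat.{u} i).mapIso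
        (eR ≪≫ (DCoh.RΓ X).mapIso (asIso (DerivedCategory.Q.map s)).symm))
  let J : CochainComplex X.Modules ℤ := I⟦i⟧
  haveI : J.IsKInjective := inferInstanceAs ((shiftFunctor (CochainComplex X.Modules ℤ) i).obj I).IsKInjective
  have hJ : (G.obj J).ExactAt 0 := by
    rw [HomologicalComplex.exactAt_iff_isZero_homology]
    exact hz.of_iso ((HomologicalComplex.homologyFunctor AddCommGrpCat.{u} c 0).mapIso
      (((DCoh.gammaAb X).mapHomologicalComplex c).commShiftIso i |>.app I) ≪≫
      (((HomologicalComplex.homologyFunctor AddCommGrpCat.{u} c 0).shiftIso i 0 i (by omega)).app (G.obj I)))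
  let eM : (shiftFunctor (DCoh.D X) i).obj (DerivedCategory.Q.obj W) ≅
      DerivedCategory.Qh.obj ((HomotopyCategory.quotient X.Modules c).obj J) :=
    (shiftFunctor (DCoh.D X) i).mapIso (asIso (DerivedCategory.Q.map s)) ≪≫
      ((DerivedCategory.Q.commShiftIso i).app I).symm ≪≫
      (DerivedCategory.quotientCompQhIso X.Modules).symm.app J
  let eO : DCoh.inD X (Coh.structureModule X) ≅ DerivedCategory.Qh.obj ((HomotopyCategory.quotient X.Modules c).obj
      ((HomologicalComplex.single X.Modules c 0).obj (Coh.structureModule X))) :=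
    (DerivedCategory.singleFunctorIsoCompQ X.Modules 0).app _ ≪≫
      (DerivedCategory.quotientCompQhIso X.Modules).symm.app _
  obtain ⟨f, hf⟩ := (CochainComplex.IsKInjective.Qh_map_bijective _ J).2 (eO.inv ≫ φ ≫ eM.hom)
  obtain ⟨f, rfl⟩ := (HomotopyCategory.quotient X.Modules c).map_surjective f
  rw [quotient_map_eq_zero J hJ f, Functor.map_zero] at hf
  exact zero_of_comp_mono eM.hom (zero_of_epi_comp eO.inv hf.symm)

end Groth.Agent.H9Misc.RGammaHom
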