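import Groth.Agent.H9Misc.RelExtShift
import Mathlib.Algebra.Homology.Augment

/-! Relative Ext sheaves from acyclic resolutions. -/

set_option linter.style.haveILetI false
set_option backward.isDefEq.respectTransparency false
set_option backward.isDefEq.respectTransparency.types false

universe u

open CategoryTheory CategoryTheory.Limits AlgebraicGeometry

noncomputable section

namespace Groth.Agent.H9Misc.RelAcyclicRes

open SheafHomX RelExtShift

variable {X Y : Scheme.{u}} (f : X ⟶ Y)

/-- The shifted resolution. -/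
abbrev shift (E : ChainComplex X.Modules ℕ) : ChainComplex X.Modules ℕ := ChainComplex.truncate.obj E

variable {G : X.Modules}

/-- The kernel of `f_* hom` of a presentation. -/
def kerIso {E₁ E₀ F : X.Modules} (d : E₁ ⟶ E₀) (π : E₀ ⟶ F) [Epi π] (w : d ≫ π = 0)
    (hex : (ShortComplex.mk d π w).Exact) {C₀ C₁ : Y.Modules}
    (a₀ : C₀ ≅ (Scheme.Modules.pushforward f).obj ((hom E₀).obj G))
    (a₁ : C₁ ≅ (Scheme.Modules.pushforward f).obj ((hom E₁).obj G)) (δ : C₀ ⟶ C₁)
    (hδ : δ ≫ a₁.hom = a₀.hom ≫ (Scheme.Modules.pushforward f).map ((homMap d).app G)) :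
    IsLimit (KernelFork.ofι ((Scheme.Modules.pushforward f).map ((homMap π).app G) ≫ a₀.inv)
      (show ((Scheme.Modules.pushforward f).map ((homMap π).app G) ≫ a₀.inv) ≫ δ = 0 by
      rw [← cancel_mono a₁.hom, zero_comp, Category.assoc, Category.assoc, hδ, Iso.inv_hom_id_assoc,
        ← Functor.map_comp, ← homMap_comp, w, homMap_zero, Functor.map_zero])) := by
  haveI : Epi (ShortComplex.mk d π w).g := ‹Epi π›
  have h := push_homMap_exact f hex G
  haveI : Mono ((Scheme.Modules.pushforward f).map ((homMap π).app G)) := h.choose_spec.1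
  refine KernelFork.IsLimit.ofι' _ _ fun {Z} k hk => ?_
  have hk' : (k ≫ a₀.hom) ≫ (Scheme.Modules.pushforward f).map ((homMap d).app G) = 0 := by
    rw [Category.assoc, ← hδ, ← Category.assoc, hk, zero_comp]
  refine ⟨h.choose_spec.2.lift (k ≫ a₀.hom) hk', ?_⟩
  rw [← Category.assoc, ShortComplex.Exact.lift_f, Category.assoc, Iso.hom_inv_id, Category.comp_id]

/-- An acyclic presentation computes the relative Ext sheaves. -/
theorem nonempty_iso (I : InjectiveResolution G) : ∀ (i : ℕ) (E : ChainComplex X.Modules ℕ) (F : X.Modules)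
    (π : E.X 0 ⟶ F) [Epi π] (hπ : E.d 1 0 ≫ π = 0)
    (_ : (ShortComplex.mk (E.d 1 0) π hπ).Exact) (_ : ∀ j : ℕ, E.ExactAt (j + 1))
    (_ : ∀ j q : ℕ, IsZero ((pcx f I (E.X j)).homology (q + 1)))
    (C : CochainComplex Y.Modules ℕ) (a : ∀ j : ℕ, C.X j ≅ (Scheme.Modules.pushforward f).obj ((hom (E.X j)).obj G))
    (_ : ∀ j : ℕ, C.d j (j + 1) ≫ (a (j + 1)).hom =
      (a j).hom ≫ (Scheme.Modules.pushforward f).map ((homMap (E.d (j + 1) j)).app G)),
    Nonempty (C.homology i ≅ (pcx f I F).homology i) := by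
  intro i
  induction i with
  | zero =>
    intro E F π _ hπ hex0 hex hE C a hC
    exact ⟨(CochainComplex.isoHomologyπ₀ C).symm ≪≫
      IsLimit.conePointUniqueUpToIso (C.cyclesIsKernel 0 1 (by simp))
        (kerIso f (E.d 1 0) π hπ hex0 (a 0) (a 1) (C.d 0 1) (hC 0)) ≪≫ zeroIso f I F⟩
  | succ i ih =>
    intro E F π _ hπ hex0 hex hE C a hC
    let S : ShortComplex X.Modules := ShortComplex.mk (kernel.ι π) π (kernel.condition π)
    have hS : S.ShortExact := { exact := ShortComplex.exact_of_f_is_kernel _ (kernelIsKernel π) }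
    let π' : (shift E).X 0 ⟶ kernel π := kernel.lift π (E.d 1 0) hπ
    haveI : Epi π' := hex0.epi_kernelLift
    have hπ' : (shift E).d 1 0 ≫ π' = 0 := by
      rw [← cancel_mono (kernel.ι π), Category.assoc, kernel.lift_ι, zero_comp]
      exact E.d_comp_d 2 1 0
    have hex0' : (ShortComplex.mk ((shift E).d 1 0) π' hπ').Exact := by
      have h1 : (ShortComplex.mk (E.d 2 1) (E.d 1 0) (E.d_comp_d 2 1 0)).Exact :=
        (HomologicalComplex.exactAt_iff' E 2 1 0 (by simp) (by simp)).1 (hex 0)
      let φ : ShortComplex.mk ((shift E).d 1 0) π' hπ' ⟶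
          ShortComplex.mk (E.d 2 1) (E.d 1 0) (E.d_comp_d 2 1 0) :=
        { τ₁ := 𝟙 _
          τ₂ := 𝟙 _
          τ₃ := kernel.ι π
          comm₁₂ := (Category.id_comp _).trans (Category.comp_id _).symm
          comm₂₃ := (Category.id_comp _).trans (kernel.lift_ι π (E.d 1 0) hπ).symm }
      haveI : Epi φ.τ₁ := by dsimp [φ]; infer_instance
      haveI : IsIso φ.τ₂ := by dsimp [φ]; infer_instance
      haveI : Mono φ.τ₃ := by dsimp [φ]; infer_instance
      exact (ShortComplex.exact_iff_of_epi_of_isIso_of_mono φ).2 h1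
    have hex' : ∀ j, (shift E).ExactAt (j + 1) := fun j => by
      rw [HomologicalComplex.exactAt_iff' _ (j + 2) (j + 1) j (by simp) (by simp)]
      exact (HomologicalComplex.exactAt_iff' E (j + 3) (j + 2) (j + 1) (by simp) (by simp)).1 (hex (j + 1))
    let C' : CochainComplex Y.Modules ℕ := CochainComplex.truncate.obj C
    have hC' : ∀ j : ℕ, C'.d j (j + 1) ≫ (a (j + 2)).hom =
        (a (j + 1)).hom ≫ (Scheme.Modules.pushforward f).map ((homMap (E.d (j + 2) (j + 1))).app G) :=
      fun j => hC (j + 1)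
    obtain ⟨w, hc⟩ := exists_shortExact f I hS
    rcases i with _ | i
    · -- degree one
      haveI : Epi (hc.δ 0 1 rfl) :=
        (hc.homology_exact₁ 0 1 rfl).epi_f ((hE 0 0).eq_of_tgt _ _)
      have hcok := (hc.homology_exact₃ 0 1 rfl).gIsCokernel
      let z : C.cycles 1 ≅ (Scheme.Modules.pushforward f).obj ((hom (kernel π)).obj G) :=
        IsLimit.conePointUniqueUpToIso (C.cyclesIsKernel 1 2 (by simp))
          (kerIso f ((shift E).d 1 0) π' hπ' hex0' (a 1) (a 2) (C.d 1 2) (hC 1))
      have hz : z.hom ≫ (Scheme.Modules.pushforward f).map ((homMap π').app G) ≫ (a 1).inv = C.iCycles 1 :=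
        IsLimit.conePointUniqueUpToIso_hom_comp (C.cyclesIsKernel 1 2 (by simp))
          (kerIso f ((shift E).d 1 0) π' hπ' hex0' (a 1) (a 2) (C.d 1 2) (hC 1)) WalkingParallelPair.zero
      haveI : Mono ((Scheme.Modules.pushforward f).map ((homMap π').app G)) :=
        (push_homMap_exact f hex0' G).choose_spec.1
      have hsq : C.toCycles 0 1 ≫ z.hom =
          (a 0).hom ≫ (Scheme.Modules.pushforward f).map ((homMap (kernel.ι π)).app G) := by
        rw [← cancel_mono ((Scheme.Modules.pushforward f).map ((homMap π').app G) ≫ (a 1).inv), Category.assoc, hz,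
          HomologicalComplex.toCycles_i, Category.assoc]
        rw [← Category.assoc ((Scheme.Modules.pushforward f).map ((homMap (kernel.ι π)).app G)),
          ← Functor.map_comp, ← homMap_comp, kernel.lift_ι,
          ← Category.assoc, ← hC 0, Category.assoc, Iso.hom_inv_id, Category.comp_id]
      have hn := zeroIso_naturality f I (kernel.ι π)
      let e₁ : C.homology 1 ≅ cokernel (C.toCycles 0 1) :=
        (C.homologyIsCokernel 0 1 (by simp)).coconePointUniqueUpToIso
          (colimit.isColimit (parallelPair (C.toCycles 0 1) 0))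
      let e₂ : cokernel (C.toCycles 0 1) ≅ cokernel (HomologicalComplex.homologyMap (pcxMap f I (kernel.ι π)) 0) :=
        cokernel.mapIso _ _ (a 0 ≪≫ zeroIso f I (E.X 0)) (z ≪≫ zeroIso f I (kernel π)) (by
          simp only [Iso.trans_hom]
          rw [← Category.assoc, hsq, Category.assoc, hn, Category.assoc])
      exact ⟨e₁ ≪≫ e₂ ≪≫ IsColimit.coconePointUniqueUpToIso (cokernelIsCokernel _) hcok⟩
    · -- higher degrees
      obtain ⟨b⟩ := ih (shift E) (kernel π) π' hπ' hex0' hex' (fun j => hE (j + 1)) C' (fun j => a (j + 1)) hC'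
      exact ⟨ShortComplex.homologyMapIso (C.isoSc' (i + 1) (i + 2) (i + 3) (by simp) (by simp) ≪≫
          (C'.isoSc' i (i + 1) (i + 2) (by simp) (by simp)).symm) ≪≫ b ≪≫
        hc.δIso (i + 1) (i + 2) rfl (hE 0 i) (hE 0 (i + 1))⟩

end Groth.Agent.H9Misc.RelAcyclicRes
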