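import Groth.Agent.H9Misc.RelExtShift

/-! The relative Ext sheaves of the prelude are computed by `RelExtShift.pcx`. -/

set_option linter.style.haveILetI false
set_option backward.isDefEq.respectTransparency false
set_option backward.isDefEq.respectTransparency.types false

universe u

open CategoryTheory CategoryTheory.Limits AlgebraicGeometry

noncomputable section

namespace Groth.Agent.H9Misc.RelExtIso

open SheafHomX ExtShShift RelExtShift

variable {X Y : Scheme.{u}} (f : X ⟶ Y)

/-- The functor `f_* ℋom(M, -)` of the prelude. -/
abbrev relHom (M : X.Modules) [ModSite.HasSheafHom (O := X.sheaf) M] : X.Modules ⥤ Y.Modules :=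
  ModSite.sheafHom (O := X.sheaf) M ⋙ Scheme.Modules.pushforward f

/-- Comparison with the internal hom used here. -/
def relHomIso (M : X.Modules) [ModSite.HasSheafHom (O := X.sheaf) M] :
    relHom f M ≅ hom M ⋙ Scheme.Modules.pushforward f :=
  Functor.isoWhiskerRight (SheafHomY.sheafHomIso M) (Scheme.Modules.pushforward f)

variable {G : X.Modules} (I : InjectiveResolution G)

/-- The complexes agree. -/
def cxIso (M : X.Modules) [ModSite.HasSheafHom (O := X.sheaf) M] [(relHom f M).Additive] :
    ((relHom f M).mapHomologicalComplex (ComplexShape.up ℕ)).obj I.cocomplex ≅ pcx f I M :=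
  HomologicalComplex.Hom.isoOfComponents (fun j => (relHomIso f M).app (I.cocomplex.X j)) fun j k _ =>
    ((relHomIso f M).hom.naturality (I.cocomplex.d j k)).symm

variable [HasInjectiveResolutions X.Modules]

/-- The relative Ext sheaves as homology. -/
def relExtIso (M : X.Modules) [ModSite.HasSheafHom (O := X.sheaf) M] [(relHom f M).Additive] (p : ℕ) :
    ((relHom f M).rightDerived p).obj G ≅ (pcx f I M).homology p :=
  I.isoRightDerivedObj (relHom f M) p ≪≫ HomologicalComplex.homologyMapIso (cxIso f I M) p

theorem relExtIso_naturality {M M' : X.Modules} (g : M ⟶ M') [ModSite.HasSheafHom (O := X.sheaf) M]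
    [ModSite.HasSheafHom (O := X.sheaf) M'] [(relHom f M).Additive] [(relHom f M').Additive] (p : ℕ) :
    (NatTrans.rightDerived (F := relHom f M') (G := relHom f M)
      (Functor.whiskerRight (ExtSupp.sheafHomMap (O := X.sheaf) g) (Scheme.Modules.pushforward f)) p).app G ≫
      (relExtIso f I M p).hom =
    (relExtIso f I M' p).hom ≫ HomologicalComplex.homologyMap (pcxMap f I g) p := by
  rw [I.rightDerived_app_eq]
  simp only [relExtIso, Iso.trans_hom, Category.assoc, Iso.inv_hom_id_assoc,
    HomologicalComplex.homologyMapIso_hom]
  congr 1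
  rw [HomologicalComplex.homologyFunctor_map, ← HomologicalComplex.homologyMap_comp,
    ← HomologicalComplex.homologyMap_comp]
  congr 1
  ext j : 1
  show (Scheme.Modules.pushforward f).map _ ≫ (Scheme.Modules.pushforward f).map _ =
    (Scheme.Modules.pushforward f).map _ ≫ (Scheme.Modules.pushforward f).map _
  rw [← Functor.map_comp, ← Functor.map_comp]
  exact congrArg _ (SheafHomCompare.sheafHomIso_map g (I.cocomplex.X j))

end Groth.Agent.H9Misc.RelExtIso
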