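import Groth.Agent.Lib.ExtShShift
import Groth.Agent.SheafHomY.Ext
import Groth.Agent.H9Misc.SheafHomCompare

/-! Relative Ext sheaves: dimension shifting in the first variable. -/

set_option linter.style.haveILetI false
set_option linter.unusedSectionVars false
set_option backward.isDefEq.respectTransparency false
set_option backward.isDefEq.respectTransparency.types false

universe u

open CategoryTheory CategoryTheory.Limits AlgebraicGeometry

noncomputable section

namespace Groth.Agent.H9Misc.RelExtShift

open SheafHomX ExtShShift KFlatLib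

variable {X Y : Scheme.{u}}

/-- A map onto on morphisms out of every open is onto on sections. -/
theorem surjective_app_of_sections {A B : X.Modules} (v : A ⟶ B)
    (h : ∀ U : X.Opens, Function.Surjective
      fun a : (lsh U.ι).obj (Coh.structureModule (U : Scheme.{u})) ⟶ A => a ≫ v) (W : X.Opens) :
    Function.Surjective (v.app W) := by
  intro s
  obtain ⟨W, rfl⟩ : ∃ W' : X.Opens, W'.ι ''ᵁ ⊤ = W := ⟨W, W.ι_image_top⟩
  obtain ⟨a, ha⟩ := (HomSections.surjective_postcomp_iff W.ι v).1 (h W) (InvX.ofSect s)
  refine ⟨InvX.one a, ?_⟩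
  have h1 : InvX.one (a ≫ (Scheme.Modules.restrictFunctor W.ι).map v) = s := by
    rw [show a ≫ (Scheme.Modules.restrictFunctor W.ι).map v = _ from ha, InvX.one_ofSect]
  exact h1

/-- Into an injective, monomorphisms give maps of internal homs which are onto on sections. -/
theorem surjective_homMap_injective {M M' : X.Modules} (g : M ⟶ M') [Mono g] (I : X.Modules) [Injective I]
    (W : X.Opens) : Function.Surjective (((homMap g).app I).app W) := by
  refine surjective_app_of_sections _ (fun U => ?_) W
  rw [HomSections.surjective_homMap_iff]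
  haveI : Injective ((Scheme.Modules.restrictFunctor U.ι).obj I) :=
    Injective.injective_of_adjoint (lshAdj U.ι) I
  haveI : PreservesLimitsOfSize.{0, 0} (Scheme.Modules.restrictFunctor U.ι) :=
    (lshAdj U.ι).rightAdjoint_preservesLimits
  intro ψ
  exact ⟨Injective.factorThru ψ ((Scheme.Modules.restrictFunctor U.ι).map g), Injective.comp_factorThru _ _⟩

theorem epi_of_surjective_app {A B : X.Modules} (v : A ⟶ B) (h : ∀ W : X.Opens, Function.Surjective (v.app W)) :
    Epi v := by
  refine Preadditive.epi_of_cancel_zero _ fun {Z} g hg => Scheme.Modules.hom_ext _ _ fun W => ?_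
  ext s
  obtain ⟨a, rfl⟩ := h W s
  show (v ≫ g).app W a = _
  rw [hg]
  rfl

variable (f : X ⟶ Y)

theorem epi_push_homMap_injective {M M' : X.Modules} (g : M ⟶ M') [Mono g] (I : X.Modules) [Injective I] :
    Epi ((Scheme.Modules.pushforward f).map ((homMap g).app I)) :=
  epi_of_surjective_app _ fun W => surjective_homMap_injective g I (f ⁻¹ᵁ W)

instance : (Scheme.Modules.pushforward f).Additive :=
  (Scheme.Modules.pullbackPushforwardAdjunction f).right_adjoint_additive

theorem preservesLimits_push : PreservesLimitsOfSize.{0, 0} (Scheme.Modules.pushforward f) :=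
  (Scheme.Modules.pullbackPushforwardAdjunction f).rightAdjoint_preservesLimits

/-- The push forward of the internal hom is left exact in the first variable. -/
theorem push_homMap_exact {S : ShortComplex X.Modules} (hS : S.Exact) [Epi S.g] (N : X.Modules) :
    ∃ w, Mono ((Scheme.Modules.pushforward f).map ((homMap S.g).app N)) ∧
      (ShortComplex.mk ((Scheme.Modules.pushforward f).map ((homMap S.g).app N))
        ((Scheme.Modules.pushforward f).map ((homMap S.f).app N)) w).Exact := by
  obtain ⟨w, h1, h2⟩ := homMap_exact hS N
  haveI := preservesLimits_push f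
  haveI := h1
  refine ⟨by rw [← Functor.map_comp, w, Functor.map_zero], inferInstance, ?_⟩
  exact h2.map_of_mono_of_preservesKernel (Scheme.Modules.pushforward f) ‹_› inferInstance

variable {L : X.Modules} (I : InjectiveResolution L)

/-- The complex computing the relative Ext sheaves. -/
abbrev pcx (M : X.Modules) : CochainComplex Y.Modules ℕ :=
  ((Scheme.Modules.pushforward f).mapHomologicalComplex _).obj (cx I M)

/-- Its functoriality. -/
abbrev pcxMap {M M' : X.Modules} (g : M ⟶ M') : pcx f I M' ⟶ pcx f I M :=
  ((Scheme.Modules.pushforward f).mapHomologicalComplex _).map (cxMap I g)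

theorem exists_shortExact {S : ShortComplex X.Modules} (hS : S.ShortExact) :
    ∃ w, (ShortComplex.mk (pcxMap f I S.g) (pcxMap f I S.f) w).ShortExact := by
  haveI := hS.mono_f
  haveI := hS.epi_g
  refine ⟨HomologicalComplex.hom_ext _ _ fun i => (push_homMap_exact f hS.exact (I.cocomplex.X i)).choose, ?_⟩
  refine HomologicalComplex.shortExact_of_degreewise_shortExact _ fun i => ?_
  haveI : Injective (I.cocomplex.X i) := I.injective i
  obtain ⟨w, h1, h2⟩ := push_homMap_exact f hS.exact (I.cocomplex.X i)
  exact { exact := h2, mono_f := h1, epi_g := epi_push_homMap_injective f S.f (I.cocomplex.X i) }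

/-- The augmentation into the degree zero cycles. -/
def toCycles (M : X.Modules) : (Scheme.Modules.pushforward f).obj ((hom M).obj L) ⟶ (pcx f I M).cycles 0 :=
  (pcx f I M).liftCycles ((Scheme.Modules.pushforward f).map ((hom M).map (I.ι.f 0))) 1 (by simp) (by
    show (Scheme.Modules.pushforward f).map _ ≫
      (Scheme.Modules.pushforward f).map ((hom M).map (I.cocomplex.d 0 1)) = 0
    rw [← Functor.map_comp, ← Functor.map_comp]
    have := I.ι_f_zero_comp_complex_d
    rw [this, Functor.map_zero, Functor.map_zero])

theorem toCycles_i (M : X.Modules) : toCycles f I M ≫ (pcx f I M).iCycles 0 =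
    (Scheme.Modules.pushforward f).map ((hom M).map (I.ι.f 0)) :=
  HomologicalComplex.liftCycles_i _ _ _ _ _

theorem isIso_toCycles (M : X.Modules) : IsIso (toCycles f I M) := by
  haveI : PreservesLimitsOfSize.{0, 0} (hom M) := (adj M).rightAdjoint_preservesLimits
  haveI := preservesLimits_push f
  haveI : Mono (I.ι.f 0) := inferInstance
  have w : I.ι.f 0 ≫ I.cocomplex.d 0 1 = 0 := I.ι_f_zero_comp_complex_d
  have hk := KernelFork.mapIsLimit (KernelFork.ofι (I.ι.f 0) w) I.exact₀.fIsKernel
    (hom M ⋙ Scheme.Modules.pushforward f)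
  let e := IsLimit.conePointUniqueUpToIso hk ((pcx f I M).cyclesIsKernel 0 1 (by simp))
  suffices toCycles f I M = e.hom by rw [this]; infer_instance
  rw [← cancel_mono ((pcx f I M).iCycles 0), toCycles_i]
  exact (IsLimit.conePointUniqueUpToIso_hom_comp hk ((pcx f I M).cyclesIsKernel 0 1 (by simp))
    WalkingParallelPair.zero).symm

/-- Degree zero. -/
def zeroIso (M : X.Modules) : (Scheme.Modules.pushforward f).obj ((hom M).obj L) ≅ (pcx f I M).homology 0 :=
  haveI := isIso_toCycles f I M
  asIso (toCycles f I M) ≪≫ CochainComplex.isoHomologyπ₀ (pcx f I M)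

theorem zeroIso_naturality {M M' : X.Modules} (g : M ⟶ M') :
    (Scheme.Modules.pushforward f).map ((homMap g).app L) ≫ (zeroIso f I M).hom =
      (zeroIso f I M').hom ≫ HomologicalComplex.homologyMap (pcxMap f I g) 0 := by
  show (Scheme.Modules.pushforward f).map _ ≫ toCycles f I M ≫ (pcx f I M).homologyπ 0 =
    (toCycles f I M' ≫ (pcx f I M').homologyπ 0) ≫ HomologicalComplex.homologyMap (pcxMap f I g) 0
  rw [Category.assoc, HomologicalComplex.homologyπ_naturality, ← Category.assoc, ← Category.assoc]
  congr 1
  rw [← cancel_mono ((pcx f I M).iCycles 0), Category.assoc, Category.assoc, toCycles_i,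
    HomologicalComplex.cyclesMap_i, ← Category.assoc, toCycles_i, ← Functor.map_comp]
  exact (congrArg (Scheme.Modules.pushforward f).map ((homMap g).naturality (I.ι.f 0)).symm).trans
    (Functor.map_comp _ _ _)

theorem mono_homologyMap_zero {S : ShortComplex X.Modules} (hS : S.ShortExact) :
    Mono (HomologicalComplex.homologyMap (pcxMap f I S.g) 0) := by
  haveI := hS.epi_g
  haveI := (push_homMap_exact f hS.exact L).choose_spec.1
  have h : HomologicalComplex.homologyMap (pcxMap f I S.g) 0 =
      (zeroIso f I S.X₃).inv ≫ (Scheme.Modules.pushforward f).map ((homMap S.g).app L) ≫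
        (zeroIso f I S.X₂).hom := by rw [zeroIso_naturality, Iso.inv_hom_id_assoc]
  rw [h]
  infer_instance

end Groth.Agent.H9Misc.RelExtShift
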