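import Groth.Agent.H9Misc.GradedTail
import Groth.Agent.RelTildeX.ExistsBase

/-!
# The tail comparison on a relative `Proj`, uniformly over the affine opens of the base
-/

noncomputable section

set_option autoImplicit false
set_option backward.isDefEq.respectTransparency false
set_option backward.isDefEq.respectTransparency.types false
set_option linter.unusedSectionVars false

universe u

open CategoryTheory CategoryTheory.Limits AlgebraicGeometry TopologicalSpace Opposite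
open scoped HomogeneousIdeal

namespace Groth.Agent.H9Misc.RelTail

open Groth.Agent.GrModX (Deg ext_val mk_eq_zero_iff deg_of_mem)
open Groth.Agent.RelTildeX.Exists

variable {Y : Scheme.{u}} {𝒮 : RelProj.QCGrAlg Y} {ℳ : RelProj.GrModule 𝒮}

abbrev Data (ℳ : RelProj.GrModule 𝒮) (U : Y.Opens) (hU : IsAffineOpen U) (N : ℕ) : Prop :=
  GradedTail.TailData (𝒮.deg U hU) (ℳ.deg U hU) N

lemma cst_mem {U : Y.Opens} (hU : IsAffineOpen U) (r : Γ(Y, U)) (k : ℕ) :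
    cst 𝒮 r ^ k ∈ 𝒮.deg U hU 0 := by
  have := SetLike.pow_mem_graded k (𝒮.str_mem U hU r)
  rwa [smul_zero] at this

lemma cst_smul_mem {U : Y.Opens} (hU : IsAffineOpen U) (r : Γ(Y, U)) (k : ℕ) {i : ℕ}
    {m : ℳ.mod.val.obj (op U)} (hm : m ∈ ℳ.deg U hU i) : cst 𝒮 r ^ k • m ∈ ℳ.deg U hU i := by
  have := SetLike.GradedSMul.smul_mem (A := 𝒮.deg U hU) (cst_mem hU r k) hm
  rwa [vadd_eq_add, zero_add] at this

lemma isUnit_res_cst {U : Y.Opens} (hU : IsAffineOpen U) (r : Γ(Y, U)) (k : ℕ) :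
    IsUnit ((𝒮.res hU (hU.basicOpen r) (Y.basicOpen_le r)) (cst 𝒮 r ^ k)) := by
  rw [res_cst 𝒮 hU r k]
  exact (((Y.toRingedSpace.isUnit_res_basicOpen r)).pow k).map (𝒮.str.app (op (Y.basicOpen r))).hom

lemma exists_lift (hloc : IsLoc 𝒮 ℳ) {U : Y.Opens} (hU : IsAffineOpen U) (r : Γ(Y, U)) {i : ℕ}
    (m' : ℳ.mod.val.obj (op (Y.basicOpen r))) (hm' : m' ∈ ℳ.deg (Y.basicOpen r) (hU.basicOpen r) i) :
    ∃ (k : ℕ), ∃ m ∈ ℳ.deg U hU i, ℳ.res hU (hU.basicOpen r) (Y.basicOpen_le r) m =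
      (𝒮.res hU (hU.basicOpen r) (Y.basicOpen_le r)) (cst 𝒮 r ^ k) • m' := by
  classical
  obtain ⟨k, m, hm⟩ := hloc.surj U hU r m'
  refine ⟨k, (DirectSum.decompose (ℳ.deg U hU) m i : ℳ.mod.val.obj (op U)), SetLike.coe_mem _, ?_⟩
  have h1 : (𝒮.res hU (hU.basicOpen r) (Y.basicOpen_le r)) (cst 𝒮 r ^ k) • m' ∈
      ℳ.deg (Y.basicOpen r) (hU.basicOpen r) i := by
    have := SetLike.GradedSMul.smul_mem (A := 𝒮.deg (Y.basicOpen r) (hU.basicOpen r))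
      ((𝒮.res hU (hU.basicOpen r) (Y.basicOpen_le r)).map_mem (cst_mem hU r k)) hm'
    rwa [vadd_eq_add, zero_add] at this
  rw [RelTildeX.res_decompose ℳ hU (hU.basicOpen r) (Y.basicOpen_le r), hm,
    DirectSum.decompose_of_mem_same _ h1]

/-- The data pass to basic opens. -/
lemma data_basicOpen (hloc : IsLoc 𝒮 ℳ) {U : Y.Opens} (hU : IsAffineOpen U) (r : Γ(Y, U))
    (hfg : (HomogeneousIdeal.irrelevant (𝒮.deg U hU)).toIdeal.FG) {N : ℕ} (h : Data ℳ U hU N) :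
    Data ℳ (Y.basicOpen r) (hU.basicOpen r) N := by
  classical
  obtain ⟨d, x, hd, hx, hreg, htail⟩ := h
  let ψ := 𝒮.res hU (hU.basicOpen r) (Y.basicOpen_le r)
  let v := ℳ.res hU (hU.basicOpen r) (Y.basicOpen_le r)
  have hv : ∀ (a : 𝒮.presheaf.obj (op U)) (m : ℳ.mod.val.obj (op U)), v (a • m) = ψ a • v m :=
    fun a m => v.map_smulₛₗ a m
  refine ⟨d, ψ x, hd, ψ.map_mem hx, fun i hi m' hm' h0 => ?_, fun i hi m' hm' htors => ?_⟩
  · obtain ⟨k, m, hm, hres⟩ := exists_lift hloc hU r m' hm'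
    change v m = ψ (cst 𝒮 r ^ k) • m' at hres
    have h1 : v (x • m) = 0 := by rw [hv, hres, smul_comm, h0, smul_zero]
    obtain ⟨l, hl⟩ := hloc.inj U hU r _ h1
    rw [smul_comm] at hl
    have h2 : v (cst 𝒮 r ^ l • m) = 0 := by
      rw [hreg i hi _ (cst_smul_mem hU r l hm) hl, map_zero]
    rw [hv, hres, (isUnit_res_cst hU r l).smul_eq_zero, (isUnit_res_cst hU r k).smul_eq_zero] at h2
    exact h2
  · obtain ⟨k, m, hm, hres⟩ := exists_lift hloc hU r m' hm'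
    change v m = ψ (cst 𝒮 r ^ k) • m' at hres
    obtain ⟨s, hs, hspan⟩ := Proj16.exists_finset_irrelevant_eq_span _ hfg
    have hb : ∀ g : s, ∃ q p : ℕ, ∃ w, (g : 𝒮.presheaf.obj (op U)) ^ p • cst 𝒮 r ^ q • m = x • w := by
      intro g
      obtain ⟨e, he, hge⟩ := hs _ g.2
      obtain ⟨p, m2', hp⟩ := htors e (ψ g) he (ψ.map_mem hge)
      rw [LinearMap.lsmul_apply] at hp
      obtain ⟨k2, m2, hm2⟩ := hloc.surj U hU r m2'
      change v m2 = ψ (cst 𝒮 r ^ k2) • m2' at hm2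
      have h1 : v (cst 𝒮 r ^ k2 • (g : 𝒮.presheaf.obj (op U)) ^ p • m - cst 𝒮 r ^ k • x • m2) = 0 := by
        rw [map_sub, hv, hv, hv, hv, hres, hm2, map_pow ψ (g : 𝒮.presheaf.obj (op U)) p, sub_eq_zero,
          smul_comm (ψ (g : 𝒮.presheaf.obj (op U)) ^ p) (ψ (cst 𝒮 r ^ k)), ← hp]
        simp only [smul_smul]
        congr 1
        ring
      obtain ⟨l, hl⟩ := hloc.inj U hU r _ h1
      rw [smul_sub, sub_eq_zero] at hl
      refine ⟨l + k2, p, cst 𝒮 r ^ l • cst 𝒮 r ^ k • m2, ?_⟩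
      rw [pow_add, mul_smul, smul_comm ((g : 𝒮.presheaf.obj (op U)) ^ p),
        smul_comm ((g : 𝒮.presheaf.obj (op U)) ^ p), hl, smul_comm (cst 𝒮 r ^ k) x,
        smul_comm (cst 𝒮 r ^ l) x]
    choose q p w hw using hb
    obtain ⟨Q, hQ⟩ : ∃ Q, ∀ g : s, q g ≤ Q :=
      ⟨∑ g, q g, fun g => Finset.single_le_sum (fun _ _ => Nat.zero_le _) (Finset.mem_univ g)⟩
    let I : Ideal (𝒮.presheaf.obj (op U)) :=
      Submodule.comap (LinearMap.toSpanSingleton _ _ (cst 𝒮 r ^ Q • m))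
        (LinearMap.range (LinearMap.lsmul (𝒮.presheaf.obj (op U)) (ℳ.mod.val.obj (op U)) x))
    have hI : (HomogeneousIdeal.irrelevant (𝒮.deg U hU)).toIdeal ≤ I.radical := by
      rw [hspan, Ideal.span_le]
      intro g hg
      refine ⟨p ⟨g, hg⟩, cst 𝒮 r ^ (Q - q ⟨g, hg⟩) • w ⟨g, hg⟩, ?_⟩
      rw [LinearMap.lsmul_apply, LinearMap.toSpanSingleton_apply, smul_comm x, ← hw ⟨g, hg⟩,
        smul_comm (cst 𝒮 r ^ (Q - q ⟨g, hg⟩)), smul_smul (cst 𝒮 r ^ (Q - q ⟨g, hg⟩)), ← pow_add,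
        Nat.sub_add_cancel (hQ ⟨g, hg⟩)]
    obtain ⟨z, hz⟩ := htail i hi _ (cst_smul_mem hU r Q hm) fun e f he hf =>
      hI (HomogeneousIdeal.mem_irrelevant_of_mem _ he hf)
    rw [LinearMap.lsmul_apply] at hz
    have h2 := congrArg v hz
    rw [hv, hv, hres, smul_smul (ψ (cst 𝒮 r ^ Q))] at h2
    obtain ⟨b, hb⟩ := (((isUnit_res_cst hU r Q).mul (isUnit_res_cst hU r k))).exists_left_inv
    refine ⟨(b : 𝒮.presheaf.obj (op (Y.basicOpen r))) • v z, ?_⟩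
    rw [LinearMap.lsmul_apply, smul_comm, h2, smul_smul, hb, one_smul]

/-- Near every point of an affine open there is a basic open with the data. -/
lemma data_of_isBasic (hloc : IsLoc 𝒮 ℳ) {U D : Y.Opens} (hU : IsAffineOpen U) (hD : IsAffineOpen D)
    (h : IsBasic U D) (hfg : (HomogeneousIdeal.irrelevant (𝒮.deg U hU)).toIdeal.FG) {N : ℕ}
    (hdata : Data ℳ U hU N) : Data ℳ D hD N := by
  obtain ⟨r, rfl⟩ := h
  exact data_basicOpen hloc hU r hfg hdata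

/-- Points over a basic open. -/
lemma exists_pt_of_notMem {U : Y.Opens} (hU : IsAffineOpen U) (r : Γ(Y, U))
    (z : ProjectiveSpectrum (𝒮.deg U hU)) (hz : cst 𝒮 r ∉ z.asHomogeneousIdeal) :
    ∃ w, pt hU (hU.basicOpen r) (⟨r, rfl⟩ : IsBasic U (Y.basicOpen r)) w = z := by
  let ψ := 𝒮.res hU (hU.basicOpen r) (Y.basicOpen_le r)
  let _ := (𝒮.presheaf.map (homOfLE (Y.basicOpen_le r)).op).hom.toAlgebra
  haveI : IsLocalization.Away (cst 𝒮 r) (𝒮.presheaf.obj (op (Y.basicOpen r))) := 𝒮.isQC U hU r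
  have hd : Disjoint (Submonoid.powers (cst 𝒮 r) : Set (𝒮.presheaf.obj (op U)))
      (z.asHomogeneousIdeal.toIdeal : Set (𝒮.presheaf.obj (op U))) := by
    rw [Set.disjoint_left]
    rintro _ ⟨k, rfl⟩ h
    exact hz (z.isPrime.mem_of_pow_mem k h)
  have hp := IsLocalization.isPrime_of_isPrime_disjoint (Submonoid.powers (cst 𝒮 r))
    (𝒮.presheaf.obj (op (Y.basicOpen r))) _ z.isPrime hd
  have hc := IsLocalization.comap_map_of_isPrime_disjoint (Submonoid.powers (cst 𝒮 r))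
    (𝒮.presheaf.obj (op (Y.basicOpen r))) z.isPrime hd
  let J : HomogeneousIdeal (𝒮.deg (Y.basicOpen r) (hU.basicOpen r)) := z.asHomogeneousIdeal.map ψ
  have hJ : J.toIdeal = Ideal.map (algebraMap (𝒮.presheaf.obj (op U)) _) z.asHomogeneousIdeal.toIdeal := rfl
  refine ⟨⟨J, by rw [hJ]; exact hp, fun hle => ?_⟩, ?_⟩
  · obtain ⟨e, f, he, hf, hfz⟩ := GradedTail.exists_pos_homogeneous_notMem _ z
    have h1 : ψ f ∈ J.toIdeal := hle (HomogeneousIdeal.mem_irrelevant_of_mem _ he (ψ.map_mem hf))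
    rw [hJ] at h1
    exact hfz (hc.le h1)
  · refine ProjectiveSpectrum.ext (HomogeneousIdeal.toIdeal_injective ?_)
    exact hc

variable (hloc : IsLoc 𝒮 ℳ)

include hloc in
lemma bijective_of_local {V : Y.Opens} (hV : IsAffineOpen V) (s : Finset Γ(Y, V))
    (hspan : Ideal.span (s : Set Γ(Y, V)) = ⊤) {N : ℕ}
    (hdata : ∀ r ∈ s, Data ℳ (Y.basicOpen r) (hV.basicOpen r) N)
    (hdata₂ : ∀ r ∈ s, ∀ r' ∈ s, Data ℳ (Y.basicOpen (r * r')) (hV.basicOpen (r * r')) N)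
    (n : ℕ) (hn : N ≤ n) : Function.Bijective (GrMod.alpha (𝒮.deg V hV) (ℳ.deg V hV) n) := by
  classical
  -- annihilation is detected on the cover
  have hkill : ∀ (r : Γ(Y, V)), Data ℳ (Y.basicOpen r) (hV.basicOpen r) N → ∀ m ∈ ℳ.deg V hV n,
      (∀ y : ProjectiveSpectrum (𝒮.deg V hV), cst 𝒮 r ∉ y.asHomogeneousIdeal →
        (LocalizedModule.mk m 1 : GrMod.LocMod (𝒮.deg V hV) (M := ℳ.mod.val.obj (op V)) y) = 0) →
      ∃ k : ℕ, cst 𝒮 r ^ k • m = 0 := by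
    intro r hr m hm h0
    refine hloc.inj V hV r m ((GradedTail.tail_of_data _ _ hr n hn).1 _
      (ℳ.res_mem hV (hV.basicOpen r) (Y.basicOpen_le r) n m hm) fun y => ?_)
    have hz := h0 (pt hV (hV.basicOpen r) (⟨r, rfl⟩ : IsBasic V (Y.basicOpen r)) y)
      (by simpa using cst_notMem hV r y 1)
    obtain ⟨c, hc, hcm⟩ := (mk_eq_zero_iff (𝒮.deg V hV) _ _ _).mp hz
    refine (mk_eq_zero_iff _ _ _ _).mpr ⟨𝒮.res hV (hV.basicOpen r) (Y.basicOpen_le r) c, hc, ?_⟩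
    rw [← map_zero (ℳ.res hV (hV.basicOpen r) (Y.basicOpen_le r)), ← hcm]
    exact ((ℳ.res hV (hV.basicOpen r) (Y.basicOpen_le r)).map_smulₛₗ c m).symm
  have hone : ∀ P : ℕ, ∃ a : Γ(Y, V) → 𝒮.presheaf.obj (op V), (∀ r, a r ∈ 𝒮.deg V hV 0) ∧
      ∑ r ∈ s, a r * cst 𝒮 r ^ P = 1 := by
    intro P
    have h1 := Ideal.span_pow_eq_top _ hspan P
    rw [Ideal.eq_top_iff_one] at h1
    obtain ⟨f, hf⟩ := (Submodule.mem_span_image_finset_iff_exists_fun' (R := Γ(Y, V))).mp (by simpa using h1 :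
      (1 : Γ(Y, V)) ∈ Submodule.span Γ(Y, V) ((fun r => r ^ P) '' (s : Set Γ(Y, V))))
    refine ⟨fun r => cst 𝒮 (f r), fun r => 𝒮.str_mem V hV _, ?_⟩
    have h2 := congrArg (𝒮.str.app (op V)).hom hf
    simpa [map_sum, map_mul, map_pow] using h2
  have hmem : ∀ (r : Γ(Y, V)) {a : 𝒮.presheaf.obj (op V)}, a ∈ 𝒮.deg V hV 0 →
      ∀ {m}, m ∈ ℳ.deg V hV n → a • m ∈ ℳ.deg V hV n := fun r a ha m hm => by
    have := SetLike.GradedSMul.smul_mem (A := 𝒮.deg V hV) ha hm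
    rwa [vadd_eq_add, zero_add] at this
  refine ⟨(injective_iff_map_eq_zero _).mpr fun m hm => Subtype.ext ?_, fun sec => ?_⟩
  · have hv : ∀ y, (LocalizedModule.mk (m : ℳ.mod.val.obj (op V)) 1 :
        GrMod.LocMod (𝒮.deg V hV) (M := ℳ.mod.val.obj (op V)) y) = 0 := fun y =>
      congrArg (fun t : Γ(GrMod.tilde (𝒮.deg V hV) (ℳ.deg V hV) (n : ℤ), (⊤ : (Proj (𝒮.deg V hV)).Opens)) =>
        GrMod.val t (⟨y, trivial⟩ : (⊤ : (Proj (𝒮.deg V hV)).Opens))) hm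
    choose k hk using fun r : s => hkill r.1 (hdata r.1 r.2) _ m.2 fun y _ => hv y
    obtain ⟨a, -, ha⟩ := hone (∑ r, k r)
    rw [← one_smul (𝒮.presheaf.obj (op V)) (m : ℳ.mod.val.obj (op V)), ← ha, Finset.sum_smul]
    refine Finset.sum_eq_zero fun r hr => ?_
    obtain ⟨j, hj⟩ := Nat.exists_eq_add_of_le'
      (Finset.single_le_sum (f := k) (fun _ _ => Nat.zero_le _) (Finset.mem_univ ⟨r, hr⟩))
    rw [mul_smul, hj, pow_add, mul_smul, hk ⟨r, hr⟩, smul_zero, smul_zero]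
  -- local fractions
  have hfrac : ∀ r : s, ∃ k : ℕ, ∃ m ∈ ℳ.deg V hV n,
      ∀ (y : (⊤ : (Proj (𝒮.deg V hV)).Opens)) (hy : cst 𝒮 r.1 ∉ y.1.asHomogeneousIdeal),
        GrMod.val sec y = LocalizedModule.mk m ⟨cst 𝒮 r.1 ^ k, GrModX.pow_notMem y.1.isPrime hy k⟩ := by
    intro r
    let hb : IsBasic V (Y.basicOpen r.1) := ⟨r.1, rfl⟩
    let t : Γ(GrMod.tilde (𝒮.deg (Y.basicOpen r.1) (hV.basicOpen r.1))
        (ℳ.deg (Y.basicOpen r.1) (hV.basicOpen r.1)) (n : ℤ),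
        (⊤ : (Proj (𝒮.deg (Y.basicOpen r.1) (hV.basicOpen r.1))).Opens)) :=
      (GrMod.comap (𝒮.res hV (hV.basicOpen r.1) hb.le) (irr 𝒮 hV (hV.basicOpen r.1) hb)
        (ℳ.res hV (hV.basicOpen r.1) hb.le) (ℳ.res_mem hV (hV.basicOpen r.1) hb.le) (n : ℤ)).app ⊤ sec
    obtain ⟨m', hm', ht⟩ := (GradedTail.tail_of_data _ _ (hdata r.1 r.2) n hn).2 n rfl t
    obtain ⟨k, m, hm, hres⟩ := exists_lift hloc hV r.1 m' hm'
    refine ⟨k, m, hm, ?_⟩
    rintro ⟨z, -⟩ hy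
    obtain ⟨w, hwz⟩ := exists_pt_of_notMem hV r.1 z hy
    subst hwz
    refine lm_injective hloc hV (hV.basicOpen r.1) hb w _ rfl ?_
    rw [lm_mk, lm_rfl]
    refine (ht ⟨w, trivial⟩).trans ?_
    rw [LocalizedModule.mk_eq]
    refine ⟨1, ?_⟩
    simp only [one_smul, Submonoid.smul_def, OneMemClass.coe_one]
    exact hres.symm
  choose k m hm hval using hfrac
  have hagree : ∀ a b : s, ∃ P : ℕ, (cst 𝒮 a.1 * cst 𝒮 b.1) ^ P •
      (cst 𝒮 b.1 ^ k b • m a - cst 𝒮 a.1 ^ k a • m b) = 0 := by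
    intro a b
    obtain ⟨P, hP⟩ := hkill (a.1 * b.1) (hdata₂ a.1 a.2 b.1 b.2)
      (cst 𝒮 b.1 ^ k b • m a - cst 𝒮 a.1 ^ k a • m b)
      (sub_mem (cst_smul_mem hV b.1 _ (hm a)) (cst_smul_mem hV a.1 _ (hm b))) fun y hy => by
        rw [cst, map_mul] at hy
        have hya : cst 𝒮 a.1 ∉ y.asHomogeneousIdeal := fun h =>
          hy (y.asHomogeneousIdeal.toIdeal.mul_mem_right _ h)
        have hyb : cst 𝒮 b.1 ∉ y.asHomogeneousIdeal := fun h =>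
          hy (y.asHomogeneousIdeal.toIdeal.mul_mem_left _ h)
        have h1 := (hval a ⟨y, trivial⟩ hya).symm.trans (hval b ⟨y, trivial⟩ hyb)
        rw [LocalizedModule.mk_eq] at h1
        obtain ⟨u, hu⟩ := h1
        simp only [Submonoid.smul_def] at hu
        exact (mk_eq_zero_iff _ _ _ _).mpr ⟨u.1, u.2, by rw [smul_sub, hu, sub_self]⟩
    rw [cst, map_mul] at hP
    exact ⟨P, hP⟩
  choose P hP using hagree
  obtain ⟨P₀, hP₀'⟩ : ∃ P₀, ∀ a b : s, P a b ≤ P₀ :=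
    ⟨∑ a : s, ∑ b : s, P a b, fun a b =>
      (Finset.single_le_sum (f := fun b => P a b) (fun _ _ => Nat.zero_le _) (Finset.mem_univ b)).trans
        (Finset.single_le_sum (f := fun a => ∑ b : s, P a b) (fun _ _ => Nat.zero_le _) (Finset.mem_univ a))⟩
  have hP₀ : ∀ a b : s, cst 𝒮 b.1 ^ (k b + P₀) • cst 𝒮 a.1 ^ P₀ • m a =
      cst 𝒮 a.1 ^ (k a + P₀) • cst 𝒮 b.1 ^ P₀ • m b := by
    intro a b
    obtain ⟨j, hj⟩ := Nat.exists_eq_add_of_le' (hP₀' a b)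
    have h : (cst 𝒮 a.1 * cst 𝒮 b.1) ^ P₀ • (cst 𝒮 b.1 ^ k b • m a - cst 𝒮 a.1 ^ k a • m b) = 0 := by
      rw [hj, pow_add, mul_smul, hP a b, smul_zero]
    rw [smul_sub, sub_eq_zero, smul_smul, smul_smul] at h
    rw [smul_smul, smul_smul]
    convert h using 2 <;> ring
  obtain ⟨c, hc0, hc⟩ := hone ((∑ a, k a) + P₀)
  let c' : s → 𝒮.presheaf.obj (op V) := fun a => c a.1 * cst 𝒮 a.1 ^ ((∑ a, k a) - k a)
  have hk : ∀ a : s, k a ≤ ∑ a, k a := fun a =>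
    Finset.single_le_sum (fun _ _ => Nat.zero_le _) (Finset.mem_univ a)
  have hc' : ∑ a, c' a * cst 𝒮 a.1 ^ (k a + P₀) = 1 := by
    rw [← hc, ← Finset.sum_coe_sort s (fun r => c r * cst 𝒮 r ^ ((∑ a, k a) + P₀))]
    refine Finset.sum_congr rfl fun a _ => ?_
    simp only [c']
    rw [mul_assoc, ← pow_add, ← add_assoc, Nat.sub_add_cancel (hk a)]
  have hM : ∑ a, c' a • cst 𝒮 a.1 ^ P₀ • m a ∈ ℳ.deg V hV n := sum_mem fun a _ => by
    refine hmem a.1 ?_ (cst_smul_mem hV a.1 P₀ (hm a))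
    have := SetLike.mul_mem_graded (hc0 a.1) (cst_mem hV a.1 ((∑ a, k a) - k a))
    rwa [zero_add] at this
  refine ⟨⟨_, hM⟩, ext_val _ _ fun y => ?_⟩
  obtain ⟨b, hb⟩ : ∃ b : s, cst 𝒮 b.1 ∉ y.1.asHomogeneousIdeal := by
    by_contra! h
    apply y.1.isPrime.ne_top
    rw [Ideal.eq_top_iff_one]
    obtain ⟨a, -, ha⟩ := hone 1
    rw [← ha]
    exact Ideal.sum_mem _ fun r hr => Ideal.mul_mem_left _ _ (by simpa using h ⟨r, hr⟩)
  refine Eq.trans ?_ (hval b y hb).symm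
  refine Eq.trans (b := (LocalizedModule.mk (∑ a, c' a • cst 𝒮 a.1 ^ P₀ • m a) 1 :
    GrMod.LocMod (𝒮.deg V hV) (M := ℳ.mod.val.obj (op V)) y.1)) rfl ?_
  rw [LocalizedModule.mk_eq]
  refine ⟨⟨cst 𝒮 b.1 ^ P₀, GrModX.pow_notMem y.1.isPrime hb P₀⟩, ?_⟩
  simp only [one_smul, Submonoid.smul_def]
  rw [smul_smul, ← pow_add, Nat.add_comm P₀, Finset.smul_sum]
  conv_rhs => rw [← one_smul (𝒮.presheaf.obj (op V)) (cst 𝒮 b.1 ^ P₀ • m b), ← hc', Finset.sum_smul]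
  refine Finset.sum_congr rfl fun a _ => ?_
  rw [smul_comm (cst 𝒮 b.1 ^ (k b + P₀)) (c' a), hP₀ a b]
  simp only [c', smul_smul, mul_assoc]

/-- The uniform bound. -/
theorem exists_uniform [AlgebraicGeometry.IsNoetherian Y]
    (hft : ∀ (U : Y.Opens) (hU : IsAffineOpen U), (𝒮.str.app (op U)).hom.FiniteType)
    (hℳ : Coh.IsQCoh ((AMod.toOS 𝒮.toQCAlg).obj ℳ.mod)) (hTF : ℳ.IsTF) :
    ∃ N : ℕ, ∀ n : ℕ, N ≤ n → ∀ (U : Y.Opens) (hU : IsAffineOpen U),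
      Function.Bijective (GrMod.alpha (𝒮.deg U hU) (ℳ.deg U hU) n) := by
  classical
  have hloc := isLoc_of_isQCoh 𝒮 ℳ hℳ
  have hnoeth : ∀ U : Y.affineOpens, IsNoetherianRing (𝒮.presheaf.obj (op U.1)) := fun U => by
    haveI : IsNoetherianRing Γ(Y, U.1) := IsLocallyNoetherian.component_noetherian U
    letI : Algebra Γ(Y, U.1) (𝒮.presheaf.obj (op U.1)) := (𝒮.str.app (op U.1)).hom.toAlgebra
    haveI : Algebra.FiniteType Γ(Y, U.1) (𝒮.presheaf.obj (op U.1)) := hft U.1 U.2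
    exact Algebra.FiniteType.isNoetherianRing Γ(Y, U.1) _
  obtain ⟨k, hk⟩ := hTF
  have hdata : ∀ U : Y.affineOpens, ∃ N, Data ℳ U.1 U.2 N := fun U =>
    haveI := hnoeth U
    GradedTail.exists_tailData _ _ ⟨k, hk U.1 U.2⟩
  choose N hN using hdata
  obtain ⟨T, hT⟩ := (isCompact_univ : IsCompact (Set.univ : Set Y)).elim_finite_subcover
    (fun U : Y.affineOpens => (U.1 : Set Y)) (fun U => U.1.2) fun x _ => by
      obtain ⟨U, hU, hxU, -⟩ := exists_isAffineOpen_mem_and_subset (U := (⊤ : Y.Opens)) (x := x) trivial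
      exact Set.mem_iUnion.mpr ⟨⟨U, hU⟩, hxU⟩
  refine ⟨∑ U ∈ T, N U, fun n hn V hV => ?_⟩
  let G : Set Γ(Y, V) := {r | Data ℳ (Y.basicOpen r) (hV.basicOpen r) (∑ U ∈ T, N U)}
  have hG : Ideal.span G = ⊤ := by
    rw [← hV.self_le_iSup_basicOpen_iff]
    intro x hx
    obtain ⟨U, hUT, hxU⟩ := Set.mem_iUnion₂.mp (hT (Set.mem_univ x))
    obtain ⟨D, hD, hUD, ⟨r, hr⟩, hxD⟩ := exists_common U.2 hV (show x ∈ U.1 ⊓ V from ⟨hxU, hx⟩)
    subst hr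
    haveI := hnoeth U
    refine Opens.mem_iSup.mpr ⟨⟨r, ?_⟩, hxD⟩
    exact data_of_isBasic hloc U.2 _ hUD (IsNoetherian.noetherian _)
      ((hN U).mono _ _ (Finset.single_le_sum (fun _ _ => Nat.zero_le _) hUT))
  obtain ⟨s, hs, hspan⟩ := (Ideal.span_eq_top_iff_finite _).mp hG
  haveI := hnoeth
  refine bijective_of_local hloc hV s hspan (fun r hr => hs hr) (fun r hr r' hr' => ?_) n hn
  haveI := hnoeth ⟨_, hV.basicOpen r⟩
  refine data_of_isBasic hloc (hV.basicOpen r) _ ⟨Y.presheaf.map (homOfLE (Y.basicOpen_le r)).op r', ?_⟩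
    (IsNoetherian.noetherian _) (hs hr)
  rw [Scheme.basicOpen_res, Scheme.basicOpen_mul]

end Groth.Agent.H9Misc.RelTail
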