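import Groth.Prelude.Def_PerfAux
import Groth.Agent.SymOmega.SqAlg
import Groth.Agent.S8268
import Groth.Agent.S8269
import Groth.Agent.S8267
import Groth.Agent.S8270
import Groth.Agent.QCoh.LocFree

/-!
# The resolution property and affine schemes of finite type over the base
-/

set_option autoImplicit false
set_option backward.isDefEq.respectTransparency false
set_option backward.isDefEq.respectTransparency.types false
set_option linter.style.haveILetI false

universe u

open CategoryTheory CategoryTheory.Limits AlgebraicGeometry TopologicalSpace Opposite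

noncomputable section

namespace Groth.Agent.H9Misc.ResPropAffine

open Groth.Agent Groth.Agent.SymOmega

variable {S : Scheme.{u}}

theorem epi_of_affine_surjective {E F : S.Modules} (hE : Coh.IsQCoh E) (hF : Coh.IsQCoh F) (v : E ⟶ F)
    (h : ∀ U : S.affineOpens, Function.Surjective (v.app U.1)) : Epi v := by
  have hC : Coh.IsQCoh (cokernel v) := QCoh.isQCoh_cokernel hE hF v
  refine Preadditive.epi_of_isZero_cokernel v (QCoh.isZero_of_cover hC (fun U : S.affineOpens => U.1) (fun U => U.2)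
    (fun x => ?_) fun U => subsingleton_of_forall_eq 0 fun y => ?_)
  · obtain ⟨W, hW, hxW, -⟩ := exists_isAffineOpen_mem_and_subset (X := S) (x := x) (U := ⊤) trivial
    exact ⟨⟨W, hW⟩, hxW⟩
  · obtain ⟨z, rfl⟩ := QCoh.app_surjective_of_epi hF hC (cokernel.π v) U.2 y
    obtain ⟨w, rfl⟩ := h U z
    exact congr(($(cokernel.condition v)).app U.1 w)

variable {F : S.Modules}

/-- The square zero extension of the structure sheaf by a module. -/
abbrev sq (hF : Coh.IsQCoh F) : RelSpec.QCAlg S := sqAlg (𝟙 S) F hF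

/-- The inclusion of the module. -/
def inr (hF : Coh.IsQCoh F) : F ⟶ (sq hF).toModule :=
  ⟨PresheafOfModules.homMk
    { app := fun U => AddCommGrpCat.ofHom (AddMonoidHom.mk'
        (fun t => (⟨0, t⟩ : SqExt Γ(S, U.unop) Γ(F, U.unop)))
        (fun a b => SqExt.ext (add_zero (0 : Γ(S, U.unop))).symm rfl))
      naturality := fun U V i => by
        ext t
        refine SqExt.ext ?_ rfl
        exact (map_zero (S.presheaf.map i).hom).symm }
    fun U r t => by
      show (⟨0, (show Γ(S, U.unop) from r) • t⟩ : SqExt Γ(S, U.unop) Γ(F, U.unop)) =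
        SqExt.inl (show Γ(S, U.unop) from r) * ⟨0, t⟩
      rw [SqExt.inl_mul, mul_zero]⟩

/-- The second projection. -/
def sndMap (hF : Coh.IsQCoh F) : (sq hF).toModule ⟶ F :=
  ⟨PresheafOfModules.homMk
    { app := fun U => AddCommGrpCat.ofHom (AddMonoidHom.mk'
        (fun x : SqExt Γ(S, U.unop) Γ(F, U.unop) => x.snd) (fun a b => rfl))
      naturality := fun U V i => rfl }
    fun U r x => by
      show (SqExt.inl (show Γ(S, U.unop) from r) * (show SqExt Γ(S, U.unop) Γ(F, U.unop) from x)).snd = _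
      rw [SqExt.inl_mul]
      rfl⟩

theorem exists_sym_to_sq (hF : Coh.IsQCoh F) {A : RelSpec.QCAlg S} {j : F ⟶ A.toModule}
    (hA : RelSpec.IsSymAlg F A j) :
    ∃ ψ : A ⟶ sq hF, ∀ U : S.affineOpens, Function.Surjective (ψ.hom.app (op U.1)) := by
  obtain ⟨ψ, hψ, -⟩ := hA (sq hF) (inr hF)
  refine ⟨ψ, fun U y => ?_⟩
  have h1 : ψ.hom.app (op U.1) (A.str.app (op U.1) (show SqExt Γ(S, U.1) Γ(F, U.1) from y).fst) =
      (sq hF).str.app (op U.1) (show SqExt Γ(S, U.1) Γ(F, U.1) from y).fst :=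
    ConcreteCategory.congr_hom (NatTrans.congr_app ψ.comm (op U.1)) _
  refine ⟨A.str.app (op U.1) (show SqExt Γ(S, U.1) Γ(F, U.1) from y).fst +
    SymAlgX.jv A j U.1 (show SqExt Γ(S, U.1) Γ(F, U.1) from y).snd, ?_⟩
  refine (map_add (ψ.hom.app (op U.1)).hom _ _).trans ?_
  refine (congrArg₂ (fun a b : (sq hF).presheaf.obj (op U.1) => a + b) h1 (congrArg (fun β : F ⟶ (sq hF).toModule =>
    β.app U.1 (show SqExt Γ(S, U.1) Γ(F, U.1) from y).snd) hψ)).trans ?_
  exact SqExt.ext (add_zero _) (zero_add _)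

/-- The algebra map of a morphism of spectra over the base. -/
theorem exists_algMap {A B : RelSpec.QCAlg S} (i : B.spec ⟶ A.spec) [IsClosedImmersion i] (hi : i ≫ A.π = B.π) :
    ∃ χ : A ⟶ B, ∀ U : S.affineOpens, Function.Surjective (χ.hom.app (op U.1)) := by
  haveI hIA : IsIso A.gammaMap := RelSpecX.isIso_gammaMap A
  haveI hIB : IsIso B.gammaMap := RelSpecX.isIso_gammaMap B
  let t := AffAlg.algHom A.π B.π i hi
  refine ⟨⟨inv A.gammaMap ≫ t ≫ B.gammaMap, ?_⟩, fun U => ?_⟩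
  · rw [← A.π_c_gammaMap, Category.assoc, IsIso.hom_inv_id_assoc, ← Category.assoc, AffAlg.algHom_comm,
      B.π_c_gammaMap]
  · have h1 : Function.Surjective ((inv A.gammaMap).app (op U.1)) :=
      (ConcreteCategory.bijective_of_isIso ((inv A.gammaMap).app (op U.1))).2
    have h2 : Function.Surjective (t.app (op U.1)) := by
      have h3 := i.app_surjective (A.π ⁻¹ᵁ U.1) (U.2.preimage A.π)
      rw [RelSpecX.algHom_app]
      have key : ∀ (V : B.spec.Opens) (hV : V = i ⁻¹ᵁ (A.π ⁻¹ᵁ U.1)),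
          Function.Surjective (i.appLE (A.π ⁻¹ᵁ U.1) V hV.le) := by
        rintro _ rfl
        rw [← Scheme.Hom.app_eq_appLE]
        exact h3
      exact key _ (RelSpecX.preimage_eq A.π B.π i hi U.1)
    have h4 : Function.Surjective (B.gammaMap.app (op U.1)) :=
      (ConcreteCategory.bijective_of_isIso (B.gammaMap.app (op U.1))).2
    exact (h4.comp h2).comp h1

theorem exists_epi_of_surjective {E : S.Modules} (hE : Coh.IsQCoh E) (hF : Coh.IsQCoh F)
    {A : RelSpec.QCAlg S} {j : E ⟶ A.toModule} (hA : RelSpec.IsSymAlg E A j) (χ : A ⟶ sq hF)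
    (hχ : ∀ U : S.affineOpens, Function.Surjective (χ.hom.app (op U.1))) :
    ∃ π : E ⟶ F, Epi π := by
  let π : E ⟶ F := j ≫ RelSpec.QCAlg.Hom.toModuleMap χ ≫ sndMap hF
  refine ⟨π, epi_of_affine_surjective hE hF π fun U m => ?_⟩
  let R : Subring (A.presheaf.obj (op U.1)) :=
    { carrier := {x | (show SqExt Γ(S, U.1) Γ(F, U.1) from χ.hom.app (op U.1) x).snd ∈ Set.range (π.app U.1)}
      zero_mem' := ⟨0, by
        rw [map_zero, map_zero]
        rfl⟩
      one_mem' := ⟨0, by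
        rw [map_zero, map_one]
        rfl⟩
      add_mem' := by
        rintro x y ⟨a, ha⟩ ⟨b, hb⟩
        exact ⟨a + b, ((map_add (π.app U.1).hom a b).trans (congrArg₂ (· + ·) ha hb)).trans
          (congrArg SqExt.snd (map_add (χ.hom.app (op U.1)).hom x y)).symm⟩
      neg_mem' := by
        rintro x ⟨a, ha⟩
        exact ⟨-a, ((map_neg (π.app U.1).hom a).trans (congrArg (- ·) ha)).trans
          (congrArg SqExt.snd (map_neg (χ.hom.app (op U.1)).hom x)).symm⟩
      mul_mem' := by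
        rintro x y ⟨a, ha⟩ ⟨b, hb⟩
        let X' : SqExt Γ(S, U.1) Γ(F, U.1) := χ.hom.app (op U.1) x
        let Y' : SqExt Γ(S, U.1) Γ(F, U.1) := χ.hom.app (op U.1) y
        refine ⟨X'.fst • b + Y'.fst • a, ?_⟩
        refine Eq.trans ?_ (congrArg SqExt.snd (map_mul (χ.hom.app (op U.1)).hom x y)).symm
        show π.app U.1 (X'.fst • b + Y'.fst • a) = X'.fst • Y'.snd + Y'.fst • X'.snd
        rw [map_add, Scheme.Modules.Hom.app_smul, Scheme.Modules.Hom.app_smul, ha, hb] }
  obtain ⟨x, hx⟩ := hχ U (show SqExt Γ(S, U.1) Γ(F, U.1) from ⟨0, m⟩)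
  have hb : x ∈ SymAlgX.genAt A j U.1 := by
    rw [SymAlgX.genAt_eq_top hE hA U.2]; exact Subring.mem_top x
  have hxR : x ∈ R := by
    refine (Subring.closure_le (t := R)).2 ?_ hb
    rintro z (⟨r, rfl⟩ | ⟨e, rfl⟩)
    · refine ⟨0, (map_zero (π.app U.1).hom).trans ?_⟩
      exact (congrArg SqExt.snd (ConcreteCategory.congr_hom (NatTrans.congr_app χ.comm (op U.1)) r)).symm
    · exact ⟨e, rfl⟩
  obtain ⟨a, ha⟩ := hxR
  exact ⟨a, ha.trans (congrArg SqExt.snd hx)⟩

theorem main [IsNoetherian S] :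
    PerfAux.HasResolutionProperty S ↔
      ∀ (X : Scheme.{u}) (f : X ⟶ S) [IsAffineHom f] [LocallyOfFiniteType f],
        ∃ (E : S.Modules) (A : RelSpec.QCAlg S) (j : E ⟶ A.toModule) (i : X ⟶ A.spec),
          Coh.IsQCoh E ∧ FlatMod.IsFinLocFree E ∧ RelSpec.IsSymAlg E A j ∧ IsClosedImmersion i ∧ i ≫ A.π = f := by
  constructor
  · intro h X f _ _
    obtain ⟨F, hF, B, k, hB, i, hi, hif⟩ := Groth.Agent.S8269.result (Or.inr inferInstance) f
    obtain ⟨E, π, hE, hπ⟩ := h F hF.1 hF.2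
    have hEq : Coh.IsQCoh E := QCoh.isQCoh_of_isFinLocFree hE
    obtain ⟨A, j, hA⟩ := Groth.Agent.S8270.result E hEq
    obtain ⟨ψ, hψ, -⟩ := hA B (π ≫ k)
    haveI := hπ
    haveI := hi
    haveI := Groth.Agent.S8268.result E F hEq hF.1 π A B j k hA hB ψ hψ
    refine ⟨E, A, j, i ≫ RelSpec.QCAlg.specMap ψ, hEq, hE, hA, inferInstance, ?_⟩
    rw [Category.assoc, RelSpec.QCAlg.specMap_π, hif]
  · intro h F hF hFt
    obtain ⟨B, k, hB⟩ := Groth.Agent.S8270.result F hF
    haveI : LocallyOfFiniteType B.π := Groth.Agent.S8267.result F ⟨hF, hFt⟩ B k hB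
    obtain ⟨E, A, j, i, hE, hEf, hA, hi, hiπ⟩ := h B.spec B.π
    haveI := hi
    obtain ⟨χ₁, hχ₁⟩ := exists_algMap i hiπ
    obtain ⟨χ₂, hχ₂⟩ := exists_sym_to_sq hF hB
    obtain ⟨π, hπ⟩ := exists_epi_of_surjective hE hF hA (χ₁ ≫ χ₂) fun U => (hχ₂ U).comp (hχ₁ U)
    exact ⟨E, π, hEf, hπ⟩

end Groth.Agent.H9Misc.ResPropAffine
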