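import Groth.Prelude.Def_DDual2
import Groth.Agent.H9Misc.AdjDescend
import Groth.Agent.TriCat.KInjRes
import Groth.Agent.TriCat.DerivedOfAdjunction
import Mathlib.Algebra.Category.ModuleCat.AB
import Mathlib.Algebra.Category.ModuleCat.ChangeOfRings

/-! Orthogonality and restriction of scalars on derived categories of rings. -/

universe w u

open CategoryTheory Category Limits DerivedCategory

attribute [local instance] HasDerivedCategory.standard

namespace Groth.Agent.H9Misc.RingOrth

section

variable (R : Type u) [CommRing R]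

/-- An object with no maps from shifts of `R` is zero. -/
theorem isZero_of_forall (X : DerivedCategory (ModuleCat.{u} R))
    (h : ∀ (n : ℤ) (f : Q.obj ((HomologicalComplex.single (ModuleCat.{u} R) (ComplexShape.up ℤ) n).obj
      (ModuleCat.of R R)) ⟶ X), f = 0) : IsZero X := by
  have := Localization.essSurj (Q (C := ModuleCat.{u} R)) (HomologicalComplex.quasiIso _ (ComplexShape.up ℤ))
  obtain ⟨K, ⟨e⟩⟩ : ∃ K, Nonempty (Q.obj K ≅ X) := ⟨_, ⟨Q.objObjPreimageIso X⟩⟩
  refine ((FinDimDerived.isZero_Q_obj_iff K).2 fun n => ?_).of_iso e.symm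
  rw [HomologicalComplex.exactAt_iff_isZero_homology, IsZero.iff_id_eq_zero,
    ← cancel_epi (K.homologyπ n), comp_zero, comp_id]
  apply ModuleCat.hom_ext
  apply LinearMap.ext
  intro z
  let φ : ModuleCat.of R R ⟶ K.cycles n := ModuleCat.ofHom (LinearMap.toSpanSingleton R _ z)
  let f : (HomologicalComplex.single (ModuleCat.{u} R) (ComplexShape.up ℤ) n).obj (ModuleCat.of R R) ⟶ K :=
    HomologicalComplex.mkHomFromSingle (φ ≫ K.iCycles n) (fun i hi => by simp)
  have hz : Q.map f = 0 := by
    have := h n (Q.map f ≫ e.hom)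
    rwa [← cancel_mono e.hom, zero_comp]
  have hH : HomologicalComplex.homologyMap f n = 0 := by
    have h' := (homologyFunctorFactors (ModuleCat.{u} R) n).hom.naturality f
    rw [Functor.comp_map, hz, Functor.map_zero, zero_comp] at h'
    exact (cancel_epi ((homologyFunctorFactors (ModuleCat.{u} R) n).hom.app _)).1 (h'.symm.trans comp_zero.symm)
  have hl : ((HomologicalComplex.single (ModuleCat.{u} R) (ComplexShape.up ℤ) n).obj (ModuleCat.of R R)).liftCycles
      (HomologicalComplex.singleObjXSelf _ n _).inv (n + 1) (by simp) (by simp) ≫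
      HomologicalComplex.cyclesMap f n = φ := by
    rw [← cancel_mono (K.iCycles n)]
    simp [f, HomologicalComplex.mkHomFromSingle_f]
  have : φ ≫ K.homologyπ n = 0 := by
    rw [← hl, assoc, ← HomologicalComplex.homologyπ_naturality, hH, comp_zero, comp_zero]
  have h1 := congrArg (fun g => g (1 : R)) this
  simp [φ] at h1
  exact ((congrArg _ (one_smul R z).symm).trans h1)

end

variable {A B : Type u} [CommRing A] [CommRing B] (φ : A →+* B)

/-- The module `B` over `A`, shifted, as a restriction. -/
lemma nonempty_iso_single (n : ℤ) (M : ModuleCat.{u} A) (e : (ModuleCat.restrictScalars φ).obj (ModuleCat.of B B) ≅ M) :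
    Nonempty ((DRing.restrictD φ).obj (Q.obj ((HomologicalComplex.single (ModuleCat.{u} B)
      (ComplexShape.up ℤ) n).obj (ModuleCat.of B B))) ≅ ((singleFunctor (ModuleCat.{u} A) 0).obj M)⟦-n⟧) :=
  ⟨(DRing.restrictD φ).mapIso ((singleFunctorIsoCompQ (ModuleCat.{u} B) n).symm.app _) ≪≫
    ((ModuleCat.restrictScalars.{u} φ).mapDerivedCategorySingleFunctor n).app _ ≪≫
    (singleFunctor (ModuleCat.{u} A) n).mapIso e ≪≫
    (((singleFunctors (ModuleCat.{u} A)).shiftIso (-n) n 0 (by omega)).app M).symm⟩

/-- Orthogonality to the shifts of `B` propagates to all restrictions from `D(B)`. -/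
theorem restrictD_orth (M : ModuleCat.{u} A) (e : (ModuleCat.restrictScalars φ).obj (ModuleCat.of B B) ≅ M)
    (K : DerivedCategory (ModuleCat.{u} A))
    (h : ∀ n : ℤ, Subsingleton ((singleFunctor (ModuleCat.{u} A) 0).obj M ⟶ K⟦n⟧))
    (E : DerivedCategory (ModuleCat.{u} B)) :
    Subsingleton ((DRing.restrictD φ).obj E ⟶ K) := by
  have := TriCat.qh_isLeftAdjoint_of_exists_resolution (A := ModuleCat.{u} A) fun L => by
    obtain ⟨I, f, hI, hf, -, -⟩ := TriCat.exists_kInjective_resolution' L
    exact ⟨I, f, hI, hf⟩
  let adjQ := Adjunction.ofIsLeftAdjoint (Qh (C := ModuleCat.{u} A))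
  have : (ModuleCat.coextendScalars.{u, u} φ).Additive :=
    (ModuleCat.restrictCoextendScalarsAdj.{u} φ).right_adjoint_additive
  let a : DRing.restrictD φ ⊣ _ :=
    AdjDescend.derivedAdj (ModuleCat.restrictCoextendScalarsAdj.{u} φ) adjQ
  let N := (((Qh (C := ModuleCat.{u} A)).rightAdjoint ⋙
    (ModuleCat.coextendScalars.{u, u} φ).mapHomotopyCategory (ComplexShape.up ℤ)) ⋙ Qh).obj K
  have hN : IsZero N := isZero_of_forall B N fun n f => by
    obtain ⟨i⟩ := nonempty_iso_single φ n M e
    have h1 : Subsingleton (((singleFunctor (ModuleCat.{u} A) 0).obj M)⟦-n⟧ ⟶ K) :=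
      @Equiv.subsingleton _ _ ((shiftEquiv' (DerivedCategory (ModuleCat.{u} A)) (-n) n
        (neg_add_cancel n)).toAdjunction.homEquiv _ _) (h n)
    have h2 := @Equiv.subsingleton _ _ i.homFromEquiv h1
    exact (@Equiv.subsingleton _ _ (a.homEquiv _ _).symm h2).elim _ _
  exact @Equiv.subsingleton _ _ (a.homEquiv E K) ⟨fun x y => hN.eq_of_tgt x y⟩

theorem orth_of_restrictD (M : ModuleCat.{u} A) (e : (ModuleCat.restrictScalars φ).obj (ModuleCat.of B B) ≅ M)
    (K : DerivedCategory (ModuleCat.{u} A))
    (h : ∀ E : DerivedCategory (ModuleCat.{u} B), Subsingleton ((DRing.restrictD φ).obj E ⟶ K)) (n : ℤ) :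
    Subsingleton ((singleFunctor (ModuleCat.{u} A) 0).obj M ⟶ K⟦n⟧) := by
  obtain ⟨i⟩ := nonempty_iso_single φ n M e
  exact @Equiv.subsingleton _ _ ((shiftEquiv' (DerivedCategory (ModuleCat.{u} A)) (-n) n
    (neg_add_cancel n)).toAdjunction.homEquiv _ _).symm (@Equiv.subsingleton _ _ i.symm.homFromEquiv (h _))

/-- A localization as a restricted module. -/
noncomputable def awayIso (f : A) :
    (ModuleCat.restrictScalars (algebraMap A (Localization.Away f))).obj
      (ModuleCat.of (Localization.Away f) (Localization.Away f)) ≅ ModuleCat.of A (Localization.Away f) :=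
  (({ toFun := fun x => x
      invFun := fun x => x
      map_add' := fun _ _ => rfl
      map_smul' := fun r x => (Algebra.smul_def r (show Localization.Away f from x)).symm
      left_inv := fun _ => rfl
      right_inv := fun _ => rfl } :
    ((ModuleCat.restrictScalars (algebraMap A (Localization.Away f))).obj
      (ModuleCat.of (Localization.Away f) (Localization.Away f))) ≃ₗ[A]
      (ModuleCat.of A (Localization.Away f)))).toModuleIso

end Groth.Agent.H9Misc.RingOrth

namespace Groth.Agent.H9Misc.RingOrth

variable {A : Type u} [CommRing A] (f : A)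

lemma bijective_eval (M : ModuleCat.{u} A) (hM : Function.Bijective (fun x : M => f • x)) :
    IsIso ((ModuleCat.restrictCoextendScalarsAdj.{u} (algebraMap A (Localization.Away f))).counit.app M) := by
  rw [ConcreteCategory.isIso_iff_bijective]
  let S := Submonoid.powers f
  have hp : ∀ n : ℕ, Function.Bijective (fun x : M => f ^ n • x) := fun n => by
    induction n with
    | zero => simp only [pow_zero, one_smul]; exact Function.bijective_id
    | succ n ih =>
      have h : (fun x : M => f ^ (n + 1) • x) = (fun x : M => f • x) ∘ (fun x : M => f ^ n • x) := by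
        funext x; simp [pow_succ', mul_smul]
      rw [h]; exact hM.comp ih
  have hu : ∀ x : S, IsUnit (algebraMap A (Module.End A M) x) := by
    rintro ⟨_, n, rfl⟩
    rw [Module.End.isUnit_iff]
    exact hp n
  let s := ModuleCat.CoextendScalars.equiv (algebraMap A (Localization.Away f)) M
  let el := (awayIso f).toLinearEquiv
  let G : (ModuleCat.coextendScalars (algebraMap A (Localization.Away f))).obj M →
      (Localization.Away f →ₗ[A] M) := fun g => (s g).comp el.symm.toLinearMap
  have hG : Function.Injective G := fun g g' h => s.injective (LinearMap.ext fun x =>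
    LinearMap.congr_fun h (el x))
  have eq_of : ∀ g g' : (ModuleCat.coextendScalars (algebraMap A (Localization.Away f))).obj M,
      G g 1 = G g' 1 → g = g' := fun g g' hg => hG (LinearMap.ext fun x => by
    obtain ⟨⟨a, ⟨_, n, rfl⟩⟩, ht⟩ := IsLocalization.surj S (S := Localization.Away f) x
    have key : ∀ h : Localization.Away f →ₗ[A] M, f ^ n • h x = a • h 1 := fun h => by
      rw [← map_smul, ← map_smul, Algebra.smul_def, Algebra.smul_def, mul_one, mul_comm]
      exact congrArg h ht
    exact (hp n).1 ((key (G g)).trans ((congrArg (a • ·) hg).trans (key (G g')).symm)))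
  refine ⟨fun g g' hg => eq_of g g' hg, fun m => ?_⟩
  let l : Localization.Away f →ₗ[A] M :=
    IsLocalizedModule.lift S (Algebra.linearMap A (Localization.Away f)) (LinearMap.toSpanSingleton A M m) hu
  have hl : l 1 = m := by
    have := IsLocalizedModule.lift_apply S (Algebra.linearMap A (Localization.Away f))
      (LinearMap.toSpanSingleton A M m) hu 1
    simpa using this
  refine ⟨s.symm (l.comp el.toLinearMap), ?_⟩
  show G (s.symm (l.comp el.toLinearMap)) 1 = m
  show (s (s.symm (l.comp el.toLinearMap))) (el.symm 1) = m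
  erw [LinearEquiv.apply_symm_apply]
  show l (el (el.symm 1)) = m
  rw [LinearEquiv.apply_symm_apply]
  exact hl

lemma nonempty_iso_restrictD (K : CochainComplex (ModuleCat.{u} A) ℤ)
    (hK : ∀ i : ℤ, Function.Bijective (fun x : K.X i => f • x)) :
    ∃ E, Nonempty ((DRing.restrictD (algebraMap A (Localization.Away f))).obj E ≅ Q.obj K) := by
  let φ := algebraMap A (Localization.Away f)
  let adj := ModuleCat.restrictCoextendScalarsAdj.{u} φ
  have : (ModuleCat.coextendScalars.{u, u} φ).Additive := adj.right_adjoint_additive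
  let s : ((ModuleCat.restrictScalars.{u} φ).mapHomologicalComplex (ComplexShape.up ℤ)).obj
      (((ModuleCat.coextendScalars.{u, u} φ).mapHomologicalComplex (ComplexShape.up ℤ)).obj K) ⟶ K :=
    { f := fun i => adj.counit.app (K.X i)
      comm' := fun i j _ => (adj.counit.naturality (K.d i j)).symm }
  have : ∀ i, IsIso (s.f i) := fun i => bijective_eval f _ (hK i)
  have := HomologicalComplex.Hom.isIso_of_components s
  exact ⟨_, ⟨(ModuleCat.restrictScalars.{u} φ).mapDerivedCategoryFactors.app _ ≪≫ Q.mapIso (asIso s)⟩⟩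

end Groth.Agent.H9Misc.RingOrth
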