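import Mathlib
import Groth.Prelude.Def_DCoh2
import Groth.Agent.H9Misc.KInjAB4Star
import Groth.Agent.TriCat.DerivedProducts
import Groth.Agent.TriCat.KInjRes

/-! Derived functors and derived limits of towers. -/

set_option linter.style.haveILetI false
set_option backward.defeqAttrib.useBackward true

universe w w' v v' u u'

open CategoryTheory CategoryTheory.Limits HomologicalComplex

namespace Groth.Agent.H9Misc.RlimDerived

section Exact

variable {B : Type u} [Category.{v} B] [Abelian B] [HasLimitsOfShape (Discrete ℕ) B]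
  [(lim : (Discrete ℕ ⥤ B) ⥤ B).PreservesEpimorphisms]

lemma hasExactLimits : HasExactLimitsOfShape (Discrete ℕ) B := by
  haveI : (lim : (Discrete ℕ ⥤ B) ⥤ B).IsRightAdjoint := constLimAdj.isRightAdjoint
  haveI : (lim : (Discrete ℕ ⥤ B) ⥤ B).Additive := Functor.additive_of_preserves_binary_products _
  haveI : (lim : (Discrete ℕ ⥤ B) ⥤ B).PreservesHomology :=
    Functor.preservesHomology_of_preservesEpis_and_kernels _
  exact ⟨Functor.preservesFiniteColimits_of_preservesHomology _⟩

lemma quasiIso_piMap {Q Q' : ℕ → CochainComplex B ℤ} (t : ∀ n, Q n ⟶ Q' n) (ht : ∀ n, QuasiIso (t n)) :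
    QuasiIso (Limits.Pi.map t) := by
  haveI := hasExactLimits (B := B)
  rw [quasiIso_iff]
  intro i
  rw [quasiIsoAt_iff_isIso_homologyMap]
  haveI := KInjAB4Star.isIso_hom Q i
  haveI := KInjAB4Star.isIso_hom Q' i
  haveI : ∀ n, IsIso (homologyMap (t n) i) := fun n => by
    haveI := ht n
    infer_instance
  have h : homologyMap (Limits.Pi.map t) i ≫ KInjAB4Star.hom Q' i =
      KInjAB4Star.hom Q i ≫ Limits.Pi.map fun n => homologyMap (t n) i := by
    refine Limits.Pi.hom_ext _ _ fun n => ?_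
    simp [KInjAB4Star.hom, ← homologyMap_comp]
  haveI : IsIso (homologyMap (Limits.Pi.map t) i ≫ KInjAB4Star.hom Q' i) := by rw [h]; infer_instance
  exact IsIso.of_isIso_comp_right _ (KInjAB4Star.hom Q' i)

end Exact

section Homotopy

variable {A : Type u} [Category.{v} A] [Abelian A] [HasLimitsOfShape (Discrete ℕ) A]

/-- Products of complexes are products in the homotopy category. -/
noncomputable def isLimitQFan (L : ℕ → CochainComplex A ℤ) :
    IsLimit (Fan.mk ((HomotopyCategory.quotient A (ComplexShape.up ℤ)).obj (∏ᶜ L))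
      fun n => (HomotopyCategory.quotient A (ComplexShape.up ℤ)).map (Limits.Pi.π L n)) := by
  have hlift : ∀ (s : Fan fun n => (HomotopyCategory.quotient A (ComplexShape.up ℤ)).obj (L n)),
      ∃ l : s.pt ⟶ (HomotopyCategory.quotient A (ComplexShape.up ℤ)).obj (∏ᶜ L),
      (∀ n, l ≫ (HomotopyCategory.quotient A (ComplexShape.up ℤ)).map (Limits.Pi.π L n) = s.proj n) ∧
        ∀ m, (∀ n, m ≫ (HomotopyCategory.quotient A (ComplexShape.up ℤ)).map (Limits.Pi.π L n) = s.proj n) →
          m = l := by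
    intro s
    obtain ⟨K, hK⟩ := HomotopyCategory.quotient_obj_surjective s.pt
    let q := HomotopyCategory.quotient A (ComplexShape.up ℤ)
    let e : q.obj K ≅ s.pt := eqToIso hK
    choose f hf using fun n => q.map_surjective (e.hom ≫ s.proj n)
    refine ⟨e.inv ≫ q.map (Limits.Pi.lift f), fun n => ?_, fun m hm => ?_⟩
    · rw [Category.assoc, ← q.map_comp, Limits.Pi.lift_π, hf, e.inv_hom_id_assoc]
    · obtain ⟨g, hg⟩ := q.map_surjective (e.hom ≫ m)
      rw [Iso.eq_inv_comp, ← hg]
      refine TriCat.quotient_hom_ext_pi _ _ fun n => ?_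
      show q.map _ = q.map _
      rw [q.map_comp, hg, Limits.Pi.lift_π, hf, Category.assoc, hm]
  exact Fan.IsLimit.mk _ (fun s => (hlift s).choose) (fun s n => (hlift s).choose_spec.1 n)
    (fun s m hm => (hlift s).choose_spec.2 m hm)

variable [(lim : (Discrete ℕ ⥤ A) ⥤ A).PreservesEpimorphisms] [HasDerivedCategory.{w} A]

/-- With exact countable products, products of complexes are products in the derived category. -/
noncomputable def isLimitDFan (L : ℕ → CochainComplex A ℤ) :
    IsLimit (Fan.mk (DerivedCategory.Qh.obj ((HomotopyCategory.quotient A (ComplexShape.up ℤ)).obj (∏ᶜ L)))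
      fun n => DerivedCategory.Qh.map
        ((HomotopyCategory.quotient A (ComplexShape.up ℤ)).map (Limits.Pi.π L n))) := by
  have hlift : ∀ (s : Fan fun n =>
      DerivedCategory.Qh.obj ((HomotopyCategory.quotient A (ComplexShape.up ℤ)).obj (L n))),
      ∃ l : s.pt ⟶ DerivedCategory.Qh.obj ((HomotopyCategory.quotient A (ComplexShape.up ℤ)).obj (∏ᶜ L)),
      (∀ n, l ≫ DerivedCategory.Qh.map
        ((HomotopyCategory.quotient A (ComplexShape.up ℤ)).map (Limits.Pi.π L n)) = s.proj n) ∧
        ∀ m, (∀ n, m ≫ DerivedCategory.Qh.map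
          ((HomotopyCategory.quotient A (ComplexShape.up ℤ)).map (Limits.Pi.π L n)) = s.proj n) → m = l := by
    intro s
    let q := HomotopyCategory.quotient A (ComplexShape.up ℤ)
    let Qh : HomotopyCategory A (ComplexShape.up ℤ) ⥤ DerivedCategory A := DerivedCategory.Qh
    let W := HomotopyCategory.quasiIso A (ComplexShape.up ℤ)
    haveI : Qh.EssSurj := Localization.essSurj Qh W
    haveI : W.HasLeftCalculusOfFractions := by
      rw [show W = (HomotopyCategory.subcategoryAcyclic A).trW from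
        HomotopyCategory.quasiIso_eq_trW_subcategoryAcyclic A]
      infer_instance
    haveI : W.HasRightCalculusOfFractions := by
      rw [show W = (HomotopyCategory.subcategoryAcyclic A).trW from
        HomotopyCategory.quasiIso_eq_trW_subcategoryAcyclic A]
      infer_instance
    haveI : Qh.Additive := inferInstanceAs (DerivedCategory.Qh (C := A)).Additive
    obtain ⟨K, hK⟩ := HomotopyCategory.quotient_obj_surjective (Qh.objPreimage s.pt)
    let e : Qh.obj (q.obj K) ≅ s.pt := Qh.mapIso (eqToIso hK) ≪≫ Qh.objObjPreimageIso s.pt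
    -- uniqueness
    have huniq : ∀ (a b : Qh.obj (q.obj K) ⟶ Qh.obj (q.obj (∏ᶜ L))),
        (∀ n, a ≫ Qh.map (q.map (Limits.Pi.π L n)) = b ≫ Qh.map (q.map (Limits.Pi.π L n))) → a = b := by
      intro a b hab
      obtain ⟨φ, hφ⟩ := Localization.exists_rightFraction Qh W (a - b)
      obtain ⟨X, hX⟩ := HomotopyCategory.quotient_obj_surjective φ.X'
      haveI := Localization.inverts Qh W φ.s φ.hs
      obtain ⟨g, hg⟩ := q.map_surjective (eqToHom hX ≫ φ.f)
      have hg0 : ∀ n, ∃ (M : CochainComplex A ℤ) (ρ : L n ⟶ M), QuasiIso ρ ∧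
          q.map ((g ≫ Limits.Pi.π L n) ≫ ρ) = q.map 0 := fun n => by
        have h0 : Qh.map (q.map (g ≫ Limits.Pi.π L n)) = Qh.map 0 := by
          have := congrArg (fun z => Qh.map φ.s ≫ z ≫ Qh.map (q.map (Limits.Pi.π L n))) hφ
          simp only [Preadditive.sub_comp, hab n, sub_self, comp_zero,
            MorphismProperty.RightFraction.map_s_comp_map_assoc] at this
          rw [q.map_comp, hg, Category.assoc, Qh.map_comp, Qh.map_comp, ← this, comp_zero, Qh.map_zero]
        obtain ⟨Z, σ, hσ, h1⟩ := (MorphismProperty.map_eq_iff_postcomp Qh W _ _).1 h0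
        obtain ⟨M, hM⟩ := HomotopyCategory.quotient_obj_surjective Z
        obtain ⟨ρ, hρ⟩ := q.map_surjective (σ ≫ eqToHom hM.symm)
        refine ⟨M, ρ, ?_, ?_⟩
        · rw [← DerivedCategory.isIso_Q_map_iff_quasiIso,
            ← NatIso.isIso_map_iff (DerivedCategory.quotientCompQhIso A)]
          show IsIso (Qh.map (q.map ρ))
          haveI := Localization.inverts Qh W σ hσ
          rw [hρ, Qh.map_comp]; infer_instance
        · rw [q.map_comp (g ≫ _) ρ, hρ, ← Category.assoc, h1, zero_comp, zero_comp, q.map_zero]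
      choose M ρ hρ h1 using hg0
      haveI : IsIso (Qh.map (q.map (Limits.Pi.map ρ))) := by
        haveI := quasiIso_piMap ρ hρ
        exact (NatIso.isIso_map_iff (DerivedCategory.quotientCompQhIso A) _).2 inferInstance
      have h2 : q.map (g ≫ Limits.Pi.map ρ) = q.map 0 := TriCat.quotient_hom_ext_pi _ _ fun n => by
        rw [Category.assoc, Limits.Pi.map_π, ← Category.assoc, h1 n, zero_comp]
      have h3 : Qh.map (q.map g) = 0 := by
        rw [← cancel_mono (Qh.map (q.map (Limits.Pi.map ρ))), ← Qh.map_comp, ← q.map_comp, h2, q.map_zero,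
          Qh.map_zero, zero_comp]
      have h4 : Qh.map φ.f = 0 := by
        rw [hg, Qh.map_comp] at h3
        exact (cancel_epi (Qh.map (eqToHom hX))).1 (h3.trans comp_zero.symm)
      rw [← sub_eq_zero, hφ, ← cancel_epi (Qh.map φ.s), MorphismProperty.RightFraction.map_s_comp_map, h4,
        comp_zero]
    -- existence
    choose φ hφ using fun n => Localization.exists_leftFraction Qh W (e.hom ≫ s.proj n)
    choose M hM using fun n => HomotopyCategory.quotient_obj_surjective (φ n).Y'
    choose f hf using fun n => q.map_surjective ((φ n).f ≫ eqToHom (hM n).symm)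
    choose t ht using fun n => q.map_surjective ((φ n).s ≫ eqToHom (hM n).symm)
    have htq : ∀ n, QuasiIso (t n) := fun n => by
      rw [← DerivedCategory.isIso_Q_map_iff_quasiIso,
        ← NatIso.isIso_map_iff (DerivedCategory.quotientCompQhIso A)]
      show IsIso (Qh.map (q.map (t n)))
      haveI := Localization.inverts Qh W (φ n).s (φ n).hs
      rw [ht n, Qh.map_comp]; infer_instance
    haveI : IsIso (Qh.map (q.map (Limits.Pi.map t))) := by
      haveI := quasiIso_piMap t htq
      exact (NatIso.isIso_map_iff (DerivedCategory.quotientCompQhIso A) _).2 inferInstance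
    let l := Qh.map (q.map (Limits.Pi.lift f)) ≫ inv (Qh.map (q.map (Limits.Pi.map t)))
    have hl : ∀ n, l ≫ Qh.map (q.map (Limits.Pi.π L n)) = e.hom ≫ s.proj n := fun n => by
      haveI : IsIso (Qh.map (q.map (t n))) := by
        haveI := htq n
        exact (NatIso.isIso_map_iff (DerivedCategory.quotientCompQhIso A) _).2 inferInstance
      rw [← cancel_mono (Qh.map (q.map (t n))), Category.assoc, ← Qh.map_comp, ← q.map_comp, ← Limits.Pi.map_π,
        q.map_comp, Qh.map_comp]
      simp only [l, Category.assoc, IsIso.inv_hom_id_assoc]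
      rw [← Qh.map_comp, ← q.map_comp, Limits.Pi.lift_π, hf, ht, ← Category.assoc e.hom, hφ, Qh.map_comp,
        Qh.map_comp, MorphismProperty.LeftFraction.map_comp_map_s_assoc]
    refine ⟨e.inv ≫ l, fun n => ?_, fun m hm => ?_⟩
    · show (e.inv ≫ l) ≫ Qh.map (q.map (Limits.Pi.π L n)) = _
      rw [Category.assoc, hl, Iso.inv_hom_id_assoc]
    · rw [Iso.eq_inv_comp]
      refine huniq _ _ fun n => ?_
      rw [hl, Category.assoc]
      exact congrArg (e.hom ≫ ·) (hm n)
  exact Fan.IsLimit.mk _ (fun s => (hlift s).choose) (fun s n => (hlift s).choose_spec.1 n)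
    (fun s m hm => (hlift s).choose_spec.2 m hm)

end Homotopy

section Main

variable {A : Type u} [Category.{v} A] [Abelian A] {B : Type u'} [Category.{v'} B] [Abelian B]
  [HasDerivedCategory.{w'} B] [HasLimitsOfShape (Discrete ℕ) A] [HasLimitsOfShape (Discrete ℕ) B]
  [(lim : (Discrete ℕ ⥤ B) ⥤ B).PreservesEpimorphisms] (F : A ⥤ B) [F.Additive]
  [PreservesLimitsOfShape (Discrete ℕ) F]

lemma preservesLimit_mapKh (Y : ℕ → HomotopyCategory A (ComplexShape.up ℤ)) :
    PreservesLimit (Discrete.functor Y) (F.mapHomotopyCategory (ComplexShape.up ℤ) ⋙ DerivedCategory.Qh) := by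
  choose L hL using fun n => HomotopyCategory.quotient_obj_surjective (Y n)
  obtain rfl : Y = fun n => (HomotopyCategory.quotient A (ComplexShape.up ℤ)).obj (L n) :=
    funext fun n => (hL n).symm
  let FC : CochainComplex A ℤ ⥤ CochainComplex B ℤ := F.mapHomologicalComplex (ComplexShape.up ℤ)
  haveI : PreservesLimit (Discrete.functor L) FC :=
    preservesLimit_of_preserves_limit_cone (productIsProduct L)
      (HomologicalComplex.isLimitOfEval _ (FC.mapCone (Fan.mk (∏ᶜ L) (Limits.Pi.π L))) fun i =>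
        isLimitOfPreserves F (isLimitOfPreserves (HomologicalComplex.eval A (ComplexShape.up ℤ) i) (productIsProduct L)))
  let e : FC.obj (∏ᶜ L) ≅ ∏ᶜ fun n => FC.obj (L n) := PreservesProduct.iso FC L
  have he : ∀ n, e.hom ≫ Limits.Pi.π (fun n => FC.obj (L n)) n = FC.map (Limits.Pi.π L n) := fun n =>
    piComparison_comp_π FC L n
  refine preservesLimit_of_preserves_limit_cone (isLimitQFan L) ((Fan.isLimitMapConeEquiv _ _ _).symm ?_)
  refine IsLimit.ofIsoLimit (isLimitDFan fun n => FC.obj (L n)) (Fan.ext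
    ((HomotopyCategory.quotient B (ComplexShape.up ℤ) ⋙ DerivedCategory.Qh).mapIso e.symm) fun n => ?_)
  show _ = (DerivedCategory.Qh.map ((HomotopyCategory.quotient B (ComplexShape.up ℤ)).map e.inv)) ≫
    DerivedCategory.Qh.map ((F.mapHomotopyCategory (ComplexShape.up ℤ)).map
      ((HomotopyCategory.quotient A (ComplexShape.up ℤ)).map (Limits.Pi.π L n)))
  rw [← Functor.map_comp]
  show DerivedCategory.Qh.map ((HomotopyCategory.quotient B (ComplexShape.up ℤ)).map
      (Limits.Pi.π (fun n => FC.obj (L n)) n)) =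
    DerivedCategory.Qh.map ((HomotopyCategory.quotient B (ComplexShape.up ℤ)).map e.inv ≫
      (HomotopyCategory.quotient B (ComplexShape.up ℤ)).map (FC.map (Limits.Pi.π L n)))
  refine congrArg (fun z => DerivedCategory.Qh.map z) ?_
  rw [← Functor.map_comp, ← he n, Iso.inv_hom_id_assoc]

theorem totalRightDerived_isRlim [IsGrothendieckAbelian.{v} A] [HasDerivedCategory.{w} A]
    [(F.mapHomotopyCategory (ComplexShape.up ℤ) ⋙ DerivedCategory.Qh).HasRightDerivedFunctor
      (HomotopyCategory.quasiIso A (ComplexShape.up ℤ))]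
    (K : ℕ → DerivedCategory A) (t : ∀ n, K (n + 1) ⟶ K n) (L : DerivedCategory A) [HasProduct K]
    [HasProduct fun n => ((F.mapHomotopyCategory (ComplexShape.up ℤ) ⋙ DerivedCategory.Qh).totalRightDerived
      DerivedCategory.Qh (HomotopyCategory.quasiIso A (ComplexShape.up ℤ))).obj (K n)]
    (hL : DCoh.IsRlim K t L) :
    DCoh.IsRlim
      (fun n => ((F.mapHomotopyCategory (ComplexShape.up ℤ) ⋙ DerivedCategory.Qh).totalRightDerived
        DerivedCategory.Qh (HomotopyCategory.quasiIso A (ComplexShape.up ℤ))).obj (K n))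
      (fun n => ((F.mapHomotopyCategory (ComplexShape.up ℤ) ⋙ DerivedCategory.Qh).totalRightDerived
        DerivedCategory.Qh (HomotopyCategory.quasiIso A (ComplexShape.up ℤ))).map (t n))
      (((F.mapHomotopyCategory (ComplexShape.up ℤ) ⋙ DerivedCategory.Qh).totalRightDerived
        DerivedCategory.Qh (HomotopyCategory.quasiIso A (ComplexShape.up ℤ))).obj L) := by
  let W := HomotopyCategory.quasiIso A (ComplexShape.up ℤ)
  let Φ := F.mapHomotopyCategory (ComplexShape.up ℤ) ⋙ DerivedCategory.Qh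
  haveI : (DerivedCategory.Qh (C := A)).IsLeftAdjoint :=
    TriCat.qh_isLeftAdjoint_of_exists_resolution fun K => by
      obtain ⟨I, f, h1, h2, -, -⟩ := TriCat.exists_kInjective_resolution'.{v} K
      exact ⟨I, f, h1, h2⟩
  let R := Functor.rightAdjoint (DerivedCategory.Qh (C := A))
  let adj : DerivedCategory.Qh ⊣ R := Adjunction.ofIsLeftAdjoint _
  haveI : (R ⋙ Φ).IsRightDerivedFunctor (L := DerivedCategory.Qh)
      (Functor.whiskerRight adj.unit Φ : Φ ⟶ DerivedCategory.Qh ⋙ R ⋙ Φ) W :=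
    TriCat.isRightDerivedFunctor_of_adjunction adj W Φ
  let RF := Φ.totalRightDerived DerivedCategory.Qh W
  let φ : RF ≅ R ⋙ Φ := Functor.rightDerivedUnique RF (R ⋙ Φ) (Φ.totalRightDerivedUnit DerivedCategory.Qh W)
    (Functor.whiskerRight adj.unit Φ : Φ ⟶ DerivedCategory.Qh ⋙ R ⋙ Φ) W
  letI : R.CommShift ℤ := adj.rightAdjointCommShift ℤ
  haveI : adj.CommShift ℤ := adj.commShift_of_leftAdjoint ℤ
  haveI : R.IsTriangulated := adj.isTriangulated_rightAdjoint
  haveI : PreservesLimit (Discrete.functor K) (R ⋙ Φ) := by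
    haveI : PreservesLimit (Discrete.functor K ⋙ R) Φ :=
      haveI := preservesLimit_mapKh F fun n => R.obj (K n)
      preservesLimit_of_iso_diagram Φ (Discrete.natIso fun _ => Iso.refl _ :
        Discrete.functor (fun n => R.obj (K n)) ≅ Discrete.functor K ⋙ R)
    infer_instance
  haveI : HasProduct fun n => (R ⋙ Φ).obj (K n) :=
    ⟨⟨⟨_, isLimitFanMkObjOfIsLimit (R ⋙ Φ) K (Limits.Pi.π K) (productIsProduct K)⟩⟩⟩
  obtain ⟨a, c, hT⟩ := hL
  have hT' := (R ⋙ Φ).map_distinguished _ hT
  let μ : (∏ᶜ fun n => (R ⋙ Φ).obj (K n)) ≅ ∏ᶜ fun n => RF.obj (K n) :=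
    { hom := Limits.Pi.map fun n => φ.inv.app (K n)
      inv := Limits.Pi.map fun n => φ.hom.app (K n)
      hom_inv_id := Limits.Pi.hom_ext _ _ fun n => by simp
      inv_hom_id := Limits.Pi.hom_ext _ _ fun n => by simp }
  let ψ : (R ⋙ Φ).obj (∏ᶜ K) ≅ ∏ᶜ fun n => RF.obj (K n) := PreservesProduct.iso (R ⋙ Φ) K ≪≫ μ
  have hψ : ∀ n, ψ.hom ≫ Limits.Pi.π (fun n => RF.obj (K n)) n =
      (R ⋙ Φ).map (Limits.Pi.π K n) ≫ φ.inv.app (K n) := fun n => by
    simp only [ψ, μ, Iso.trans_hom, Category.assoc, Limits.Pi.map_π, PreservesProduct.iso_hom]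
    exact piComparison_comp_π_assoc _ _ _ _
  have hν : (R ⋙ Φ).map (Limits.Pi.lift fun n => Limits.Pi.π K n - Limits.Pi.π K (n + 1) ≫ t n) ≫ ψ.hom =
      ψ.hom ≫ Limits.Pi.lift fun n => Limits.Pi.π (fun n => RF.obj (K n)) n -
        Limits.Pi.π (fun n => RF.obj (K n)) (n + 1) ≫ RF.map (t n) := by
    refine Limits.Pi.hom_ext _ _ fun n => ?_
    rw [Category.assoc, hψ, ← Category.assoc, ← Functor.map_comp, Limits.Pi.lift_π, Functor.map_sub,
      Functor.map_comp, Preadditive.sub_comp, Category.assoc, Category.assoc, Limits.Pi.lift_π, Preadditive.comp_sub,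
      hψ, reassoc_of% hψ]
    exact congrArg (fun z => _ - (R ⋙ Φ).map _ ≫ z) (φ.inv.naturality (t n))
  refine ⟨φ.hom.app L ≫ (R ⋙ Φ).map a ≫ ψ.hom, ψ.inv ≫ (R ⋙ Φ).map c ≫
    ((R ⋙ Φ).commShiftIso (1 : ℤ)).hom.app L ≫ (φ.inv.app L)⟦(1 : ℤ)⟧', ?_⟩
  refine Pretriangulated.isomorphic_distinguished _ hT' _ ?_
  refine Pretriangulated.Triangle.isoMk _ _ (φ.app L) ψ.symm ψ.symm ?_ ?_ ?_
  · show (φ.hom.app L ≫ (R ⋙ Φ).map a ≫ ψ.hom) ≫ ψ.inv = φ.hom.app L ≫ (R ⋙ Φ).map a
    simp only [Category.assoc, Iso.hom_inv_id, Category.comp_id]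
  · exact (Iso.comp_inv_eq _).2 (((Iso.eq_inv_comp _).2 hν.symm).trans (Category.assoc _ _ _).symm)
  · show (ψ.inv ≫ (R ⋙ Φ).map c ≫ ((R ⋙ Φ).commShiftIso (1 : ℤ)).hom.app L ≫ (φ.inv.app L)⟦(1 : ℤ)⟧') ≫
      (φ.hom.app L)⟦(1 : ℤ)⟧' = ψ.inv ≫ (R ⋙ Φ).map c ≫ ((R ⋙ Φ).commShiftIso (1 : ℤ)).hom.app L
    simp only [Category.assoc, ← Functor.map_comp, Iso.inv_hom_id_app]
    erw [CategoryTheory.Functor.map_id, Category.comp_id]

end Main

end Groth.Agent.H9Misc.RlimDerived
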