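import Groth.Agent.H9Misc.SSBasic

/-! Dimensions in spectral sequences of vector spaces. -/

universe v u

open CategoryTheory CategoryTheory.Limits

namespace Groth.Agent.H9Misc.SSFinrank

variable {K : Type u} [Field K]

lemma finite_finrank_homology (S : ShortComplex (ModuleCat.{v} K)) [Module.Finite K S.X₂] :
    Module.Finite K S.homology ∧ Module.finrank K S.homology ≤ Module.finrank K S.X₂ ∧
      (Module.finrank K S.homology = Module.finrank K S.X₂ → S.f = 0 ∧ S.g = 0) := by
  have hi : Function.Injective S.iCycles.hom := (ModuleCat.mono_iff_injective _).1 inferInstance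
  have hπ : Function.Surjective S.homologyπ.hom := (ModuleCat.epi_iff_surjective _).1 inferInstance
  haveI : Module.Finite K S.cycles := Module.Finite.of_injective _ hi
  haveI : Module.Finite K S.homology := Module.Finite.of_surjective _ hπ
  have h₁ := LinearMap.finrank_le_finrank_of_injective hi
  have h₂ : Module.finrank K S.homology ≤ Module.finrank K S.cycles := LinearMap.finrank_le_finrank_of_surjective hπ
  refine ⟨inferInstance, h₂.trans h₁, fun h => ?_⟩
  have hi' : Function.Surjective S.iCycles.hom :=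
    (LinearMap.injective_iff_surjective_of_finrank_eq_finrank (by omega)).1 hi
  have hπ' : Function.Injective S.homologyπ.hom :=
    (LinearMap.injective_iff_surjective_of_finrank_eq_finrank (by omega)).2 hπ
  haveI : Epi S.iCycles := (ModuleCat.epi_iff_surjective _).2 hi'
  haveI : Mono S.homologyπ := (ModuleCat.mono_iff_injective _).2 hπ'
  refine ⟨?_, ?_⟩
  · rw [← S.toCycles_i, (cancel_mono S.homologyπ).1 (S.toCycles_comp_homologyπ.trans zero_comp.symm), zero_comp]
  · rw [← cancel_epi S.iCycles, S.iCycles_g, comp_zero]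

variable {r₀ : ℤ} (E : CohomologicalSpectralSequence (ModuleCat.{v} K) r₀)

lemma succ (r : ℤ) (hr : r₀ ≤ r) (pq : ℤ × ℤ) [Module.Finite K ((E.page r hr).X pq)] :
    Module.Finite K ((E.page (r + 1) (by lia)).X pq) ∧
      Module.finrank K ((E.page (r + 1) (by lia)).X pq) ≤ Module.finrank K ((E.page r hr).X pq) ∧
      (Module.finrank K ((E.page (r + 1) (by lia)).X pq) = Module.finrank K ((E.page r hr).X pq) →
        (E.page r hr).d (pq - (r, 1 - r)) pq = 0 ∧ (E.page r hr).d pq (pq + (r, 1 - r)) = 0) := by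
  haveI : Module.Finite K ((E.page r hr).sc pq).X₂ := ‹_›
  obtain ⟨h₁, h₂, h₃⟩ := finite_finrank_homology ((E.page r hr).sc pq)
  let e : ((E.page r hr).sc pq).homology ≅ (E.page (r + 1) (by lia)).X pq := E.iso r (r + 1) pq
  have he := e.toLinearEquiv.finrank_eq
  refine ⟨Module.Finite.equiv e.toLinearEquiv, he.symm.le.trans h₂, fun h => ?_⟩
  obtain ⟨hf, hg⟩ := h₃ (he.trans h)
  refine ⟨?_, ?_⟩
  · rw [← SSBasic.prev_eq r pq]; exact hf
  · rw [← SSBasic.next_eq r pq]; exact hg

lemma le_page (pq : ℤ × ℤ) [Module.Finite K ((E.page r₀ le_rfl).X pq)] (k : ℕ) :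
    Module.Finite K ((E.page (r₀ + k) (by lia)).X pq) ∧
    ∀ j : ℕ, j ≤ k → Module.finrank K ((E.page (r₀ + k) (by lia)).X pq) ≤
      Module.finrank K ((E.page (r₀ + j) (by lia)).X pq) := by
  induction k with
  | zero =>
    refine ⟨Module.Finite.equiv (E.pageXIsoOfEq pq r₀ (r₀ + ((0 : ℕ) : ℤ)) (by simp) le_rfl).toLinearEquiv, fun j hj => ?_⟩
    obtain rfl : j = 0 := by omega
    exact le_rfl
  | succ k ih =>
    obtain ⟨hfin, ih⟩ := ih
    obtain ⟨h₁, h₂, -⟩ := succ E (r₀ + k) (Int.le_add_of_nonneg_right (Int.natCast_nonneg k)) pq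
    let e := E.pageXIsoOfEq pq (r₀ + k + 1) (r₀ + ((k + 1 : ℕ) : ℤ)) (by omega) (by lia)
    refine ⟨Module.Finite.equiv e.toLinearEquiv, fun j hj => ?_⟩
    rcases eq_or_lt_of_le hj with rfl | hlt
    · exact le_rfl
    · exact e.toLinearEquiv.finrank_eq.symm.le.trans (h₂.trans (ih j (by omega)))

/-- If the dimension does not drop, the position is stationary. -/
theorem stationary_of_le (pq : ℤ × ℤ) [Module.Finite K ((E.page r₀ le_rfl).X pq)] (r : ℤ)
    (hst : SpSeq.StationaryAt E pq r)
    (h : Module.finrank K ((E.page r₀ le_rfl).X pq) ≤ Module.finrank K ((E.page r hst.1).X pq)) :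
    SpSeq.StationaryAt E pq r₀ := by
  refine ⟨le_rfl, fun r' h₀ _ => ?_⟩
  rcases le_or_gt r r' with hle | hlt
  · exact hst.2 r' h₀ hle
  obtain ⟨k, rfl⟩ := Int.le.dest h₀
  obtain ⟨m, rfl⟩ := Int.le.dest hst.1
  haveI := (le_page E pq k).1
  refine (succ E (r₀ + k) h₀ pq).2.2 (le_antisymm (succ E (r₀ + k) h₀ pq).2.1 ?_)
  have h0 : Module.finrank K ((E.page (r₀ + k) h₀).X pq) ≤ Module.finrank K ((E.page r₀ le_rfl).X pq) :=
    ((le_page E pq k).2 0 (Nat.zero_le _)).trans
      (E.pageXIsoOfEq pq (r₀ + ((0 : ℕ) : ℤ)) r₀ (by simp) (by lia)).toLinearEquiv.finrank_eq.le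
  have h1 := (le_page E pq m).2 (k + 1) (by lia)
  let e := E.pageXIsoOfEq pq (r₀ + k + 1) (r₀ + ((k + 1 : ℕ) : ℤ)) (by omega) (by lia)
  exact (h0.trans h).trans (h1.trans e.toLinearEquiv.finrank_eq.symm.le)

lemma finrank_gr {X : ModuleCat.{v} K} [Module.Finite K X] (F : ℤ → Subobject X) (hF : Antitone F) (p : ℤ) :
    (Module.finrank K (SpSeq.grPiece F hF p : ModuleCat.{v} K) : ℤ) =
      Module.finrank K (F p : ModuleCat.{v} K) - Module.finrank K (F (p + 1) : ModuleCat.{v} K) := by
  have hfin : ∀ q, Module.Finite K (F q : ModuleCat.{v} K) := fun q =>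
    Module.Finite.of_injective _ ((ModuleCat.mono_iff_injective (F q).arrow).1 inferInstance)
  haveI := hfin p
  haveI := hfin (p + 1)
  let f := (F (p + 1)).ofLE (F p) (hF (Int.le_add_one le_rfl))
  let e : SpSeq.grPiece F hF p ≅ ModuleCat.of K ((F p : ModuleCat.{v} K) ⧸ LinearMap.range f.hom) :=
    ModuleCat.cokernelIsoRangeQuotient f
  have hinj : Function.Injective f.hom := (ModuleCat.mono_iff_injective f).1 inferInstance
  have h1 : Module.finrank K (ModuleCat.of K ((F p : ModuleCat.{v} K) ⧸ LinearMap.range f.hom)) +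
      Module.finrank K (LinearMap.range f.hom) = Module.finrank K (F p : ModuleCat.{v} K) :=
    (LinearMap.range f.hom).finrank_quotient_add_finrank
  have h2 := LinearMap.finrank_range_of_inj hinj
  rw [e.toLinearEquiv.finrank_eq]
  omega

end Groth.Agent.H9Misc.SSFinrank
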