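import Groth.Agent.H9Misc.SSBasic

/-! Euler characteristics of pages by lengths. -/

universe v u

open CategoryTheory CategoryTheory.Limits

namespace Groth.Agent.H9Misc.SSLength

variable {A : Type u} [Ring A]

/-- Natural-number length. -/
noncomputable abbrev len (M : Type*) [AddCommGroup M] [Module A M] : ℤ := ((Module.length A M).toNat : ℤ)

lemma homology_length (S : ShortComplex (ModuleCat.{v} A)) (h : Module.length A S.X₂ ≠ ⊤) :
    Module.length A S.homology ≠ ⊤ ∧
      len (A := A) S.homology = len (A := A) S.X₂ - len (A := A) (LinearMap.range S.f.hom) -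
        len (A := A) (LinearMap.range S.g.hom) := by
  let K := LinearMap.ker S.g.hom
  let t := S.moduleCatToCycles
  have h1 : Module.length A S.X₂ = Module.length A K + Module.length A (LinearMap.range S.g.hom) :=
    Module.length_eq_add_of_exact K.subtype S.g.hom.rangeRestrict Subtype.val_injective
      S.g.hom.surjective_rangeRestrict (by
        rw [LinearMap.exact_iff, LinearMap.ker_rangeRestrict, Submodule.range_subtype])
  have h2 : Module.length A K = Module.length A (LinearMap.range t) + Module.length A (K ⧸ LinearMap.range t) :=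
    Module.length_eq_add_of_exact (LinearMap.range t).subtype (LinearMap.range t).mkQ Subtype.val_injective
      (Submodule.mkQ_surjective _) (LinearMap.exact_subtype_mkQ _)
  have h3 : Module.length A (LinearMap.range t) = Module.length A (LinearMap.range S.f.hom) := by
    refine LinearEquiv.length_eq ((Submodule.equivMapOfInjective K.subtype Subtype.val_injective _).trans
      (LinearEquiv.ofEq _ _ ?_))
    rw [← LinearMap.range_comp]
    rfl
  have h4 : Module.length A S.homology = Module.length A (K ⧸ LinearMap.range t) :=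
    LinearEquiv.length_eq S.moduleCatHomologyIso.toLinearEquiv
  rw [h2, h3, ← h4] at h1
  have hne := h1 ▸ h
  simp only [WithTop.add_ne_top, ne_eq] at hne
  obtain ⟨⟨ha, hb⟩, hc⟩ : (Module.length A (LinearMap.range S.f.hom) ≠ ⊤ ∧ Module.length A S.homology ≠ ⊤) ∧
      Module.length A (LinearMap.range S.g.hom) ≠ ⊤ := ⟨⟨fun e => h (by rw [h1, e]; simp),
        fun e => h (by rw [h1, e]; simp)⟩, fun e => h (by rw [h1, e]; simp)⟩
  refine ⟨hb, ?_⟩
  lift Module.length A (LinearMap.range S.f.hom) to ℕ using ha with a ea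
  lift Module.length A S.homology to ℕ using hb with b eb
  lift Module.length A (LinearMap.range S.g.hom) to ℕ using hc with c ec
  simp only [len, h1, ← ea, ← eb, ← ec, ENat.toNat_coe, ← Nat.cast_add]
  push_cast
  ring

lemma len_range_eq_zero {M N : ModuleCat.{v} A} {f : M ⟶ N} (h : f = 0) :
    len (A := A) (LinearMap.range f.hom) = 0 := by
  subst h
  haveI : Subsingleton (LinearMap.range (0 : M ⟶ N).hom) := ⟨fun ⟨a, x, hx⟩ ⟨b, y, hy⟩ => by
    apply Subtype.ext
    show a = b
    rw [← hx, ← hy]
    rfl⟩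
  simp [len, Module.length_eq_zero]

variable {r₀ : ℤ} (E : CohomologicalSpectralSequence (ModuleCat.{v} A) r₀)

/-- The sign of a position. -/
def sgn (x : ℤ × ℤ) : ℤ := ((x.1 + x.2).negOnePow : ℤˣ)

theorem euler_succ (r : ℤ) (hr : r₀ ≤ r) (s : Finset (ℤ × ℤ))
    (hs : ∀ x, x ∉ s → IsZero ((E.page r hr).X x)) (hfl : ∀ x, Module.length A ((E.page r hr).X x) ≠ ⊤) :
    (∀ x, Module.length A ((E.page (r + 1) (by lia)).X x) ≠ ⊤) ∧
      ∑ x ∈ s, sgn x * len (A := A) ((E.page (r + 1) (by lia)).X x) = ∑ x ∈ s, sgn x * len (A := A) ((E.page r hr).X x) := by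
  let v : ℤ × ℤ := (r, 1 - r)
  let I : ℤ × ℤ → ℤ := fun x => len (A := A) (LinearMap.range ((E.page r hr).d x (x + v)).hom)
  have key : ∀ x, Module.length A ((E.page (r + 1) (by lia)).X x) ≠ ⊤ ∧
      len (A := A) ((E.page (r + 1) (by lia)).X x) = len (A := A) ((E.page r hr).X x) - I (x - v) - I x := by
    intro x
    obtain ⟨h₁, h₂⟩ := homology_length ((E.page r hr).sc x) (hfl x)
    let e : ((E.page r hr).sc x).homology ≅ (E.page (r + 1) (by lia)).X x := E.iso r (r + 1) x
    have he := e.toLinearEquiv.length_eq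
    have hf : len (A := A) (LinearMap.range ((E.page r hr).sc x).f.hom) = I (x - v) := by
      show len (A := A) (LinearMap.range ((E.page r hr).d
        ((ComplexShape.up' (⟨r, 1 - r⟩ : ℤ × ℤ)).prev x) x).hom) = _
      rw [SSBasic.prev_eq]
      simp only [I, v]
      rw [sub_add_cancel]
    have hg : len (A := A) (LinearMap.range ((E.page r hr).sc x).g.hom) = I x := by
      show len (A := A) (LinearMap.range ((E.page r hr).d x
        ((ComplexShape.up' (⟨r, 1 - r⟩ : ℤ × ℤ)).next x)).hom) = _
      rw [SSBasic.next_eq]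
    rw [hf, hg] at h₂
    refine ⟨he ▸ h₁, ?_⟩
    refine Eq.trans ?_ h₂
    simp only [len, he]
  refine ⟨fun x => (key x).1, ?_⟩
  have hI : ∀ x, I x ≠ 0 → x ∈ s ∧ x + v ∈ s := by
    intro x hx
    refine ⟨by_contra fun h => hx ?_, by_contra fun h => hx ?_⟩
    · have h0 : (E.page r hr).d x (x + v) = 0 := (hs x h).eq_of_src _ _
      exact len_range_eq_zero h0
    · have h0 : (E.page r hr).d x (x + v) = 0 := (hs _ h).eq_of_tgt _ _
      exact len_range_eq_zero h0
  have hv : ∀ x, sgn (x + v) = -sgn x := fun x => by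
    simp only [sgn, v, Prod.fst_add, Prod.snd_add]
    rw [show x.1 + r + (x.2 + (1 - r)) = x.1 + x.2 + 1 by ring, Int.negOnePow_succ]
    simp
  have hshift : ∑ x ∈ s, sgn x * I (x - v) = -∑ x ∈ s, sgn x * I x := by
    rw [← Finset.sum_neg_distrib]
    refine Finset.sum_bij_ne_zero (fun x _ _ => x - v) (fun x _ hx => (hI _ (right_ne_zero_of_mul hx)).1)
      (fun x₁ _ _ x₂ _ _ h => sub_left_injective h) (fun y hy hy0 => ?_) (fun x _ _ => ?_)
    · have hy' : I y ≠ 0 := fun h => hy0 (by simp [h])
      refine ⟨y + v, (hI y hy').2, ?_, add_sub_cancel_right _ _⟩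
      rw [add_sub_cancel_right, hv]
      simpa using hy0
    · have := hv (x - v)
      rw [sub_add_cancel] at this
      rw [this]
      ring
  calc _ = ∑ x ∈ s, (sgn x * len (A := A) ((E.page r hr).X x) - sgn x * I (x - v) - sgn x * I x) :=
        Finset.sum_congr rfl fun x _ => by rw [(key x).2]; ring
    _ = _ := by rw [Finset.sum_sub_distrib, Finset.sum_sub_distrib, hshift]; ring

end Groth.Agent.H9Misc.SSLength
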