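import Groth.Agent.H9Misc.SSBasic

/-! A property of objects passes from the second page of a first quadrant spectral sequence to its abutment. -/

set_option linter.style.haveILetI false

universe v u

open CategoryTheory CategoryTheory.Limits

namespace Groth.Agent.H9Misc.SSProp

variable {C : Type u} [Category.{v} C] [Abelian C] {E : E₂CohomologicalSpectralSequence C} {H : ℤ → C}
  (Q : C → Prop) (hzero : ∀ X : C, IsZero X → Q X) (hiso : ∀ {X Y : C}, (X ≅ Y) → Q X → Q Y)
  (hker : ∀ {X Y : C} (f : X ⟶ Y), Q X → Q Y → Q (kernel f))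
  (hcok : ∀ {X Y : C} (f : X ⟶ Y), Q X → Q Y → Q (cokernel f))
  (hext : ∀ S : ShortComplex C, S.ShortExact → Q S.X₁ → Q S.X₃ → Q S.X₂)

include hiso hker hcok in
lemma homology (S : ShortComplex C) (h₁ : Q S.X₁) (h₂ : Q S.X₂) (h₃ : Q S.X₃) : Q S.homology := by
  have hcyc : Q S.cycles := hiso S.cyclesIsoKernel.symm (hker S.g h₂ h₃)
  exact hiso (IsColimit.coconePointUniqueUpToIso (colimit.isColimit _) S.homologyIsCokernel)
    (hcok S.toCycles h₁ hcyc)

variable (n : ℤ)

/-- The positions where the property is known on page `r`. -/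
def Good (r : ℤ) (x : ℤ × ℤ) : Prop := x.2 ≤ n ∧ (x.1 + x.2 ≤ n + 1 ∨ x.2 + (x.1 + x.2 - n - 1) * (r - 1) ≤ n)

include hzero hiso hker hcok in
lemma good_page (hquad : ∀ x : ℤ × ℤ, x.1 < 0 ∨ x.2 < 0 → IsZero ((E.page 2 le_rfl).X x))
    (h2 : ∀ x : ℤ × ℤ, x.2 ≤ n → Q ((E.page 2 le_rfl).X x)) (r : ℤ) (hr : 2 ≤ r) (x : ℤ × ℤ)
    (hx : Good n r x) : Q ((E.page r hr).X x) := by
  obtain ⟨k, rfl⟩ := Int.le.dest hr
  induction k generalizing x with
  | zero => exact hiso (E.pageXIsoOfEq x 2 (2 + ((0 : ℕ) : ℤ)) (by simp) le_rfl) (h2 x hx.1)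
  | succ k ih =>
    have key : ∀ y : ℤ × ℤ, (0 ≤ y.1 → 0 ≤ y.2 → Good n (2 + (k : ℤ)) y) → Q ((E.page (2 + (k : ℤ)) (by lia)).X y) := by
      intro y hy
      rcases lt_or_ge y.1 0 with h1 | h1
      · exact hzero _ (SSBasic.isZero_le E 2 _ le_rfl (by lia) y (hquad y (Or.inl h1)))
      rcases lt_or_ge y.2 0 with h2' | h2'
      · exact hzero _ (SSBasic.isZero_le E 2 _ le_rfl (by lia) y (hquad y (Or.inr h2')))
      exact ih y (by lia) (hy h1 h2')
    refine hiso (E.pageXIsoOfEq x (2 + (k : ℤ) + 1) (2 + ((k + 1 : ℕ) : ℤ)) (by push_cast; ring) (by lia)) ?_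
    refine hiso (E.iso (2 + (k : ℤ)) (2 + (k : ℤ) + 1) x rfl (by lia)) ?_
    obtain ⟨hx1, hx2⟩ := hx
    push_cast at hx2
    refine homology Q hiso hker hcok _ ?_ ?_ ?_
    · show Q ((E.page (2 + (k : ℤ)) (by lia)).X ((ComplexShape.up' (⟨2 + (k : ℤ), 1 - (2 + (k : ℤ))⟩ : ℤ × ℤ)).prev x))
      rw [SSBasic.prev_eq]
      refine key _ fun h1 h2' => ?_
      simp only [Good, Prod.fst_sub, Prod.snd_sub] at h1 h2' ⊢
      refine ⟨?_, ?_⟩
      · rcases hx2 with h | h
        · lia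
        · rcases le_or_gt (x.1 + x.2) (n + 1) with h' | h'
          · lia
          · nlinarith
      · rcases hx2 with h | h
        · exact Or.inl (by lia)
        · rcases le_or_gt (x.1 + x.2) (n + 2) with h' | h'
          · exact Or.inl (by lia)
          · exact Or.inr (by nlinarith)
    · refine key x fun h1 h2' => ⟨hx1, ?_⟩
      rcases hx2 with h | h
      · exact Or.inl h
      · rcases le_or_gt (x.1 + x.2) (n + 1) with h' | h'
        · exact Or.inl h'
        · exact Or.inr (by nlinarith)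
    · show Q ((E.page (2 + (k : ℤ)) (by lia)).X ((ComplexShape.up' (⟨2 + (k : ℤ), 1 - (2 + (k : ℤ))⟩ : ℤ × ℤ)).next x))
      rw [SSBasic.next_eq]
      refine key _ fun h1 h2' => ?_
      simp only [Good, Prod.fst_add, Prod.snd_add] at h1 h2' ⊢
      refine ⟨by lia, ?_⟩
      rcases le_or_gt (x.1 + x.2) n with h' | h'
      · exact Or.inl (by lia)
      · refine Or.inr ?_
        rcases hx2 with h | h <;> nlinarith

include hzero hiso hker hcok hext in
/-- If the terms in rows `≤ n` of the second page have the property, so does the abutment in degree `n`. -/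
theorem abutment (a : SpSeq.Abutment E H) (hfin : a.IsFinite n)
    (hquad : ∀ x : ℤ × ℤ, x.1 < 0 ∨ x.2 < 0 → IsZero ((E.page 2 le_rfl).X x))
    (h2 : ∀ x : ℤ × ℤ, x.2 ≤ n → Q ((E.page 2 le_rfl).X x)) : Q (H n) := by
  have hgr : ∀ p : ℤ, Q (SpSeq.grPiece (a.fil n) (a.anti n) p) := by
    intro p
    have hm : ∀ m, m = n → Nonempty (SpSeq.grPiece (a.fil m) (a.anti m) p ≅
        SpSeq.grPiece (a.fil n) (a.anti n) p) := by rintro m rfl; exact ⟨Iso.refl _⟩
    obtain ⟨i⟩ := hm (p + (n - p)) (by ring)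
    refine hiso (a.β (p, n - p) ≪≫ i) ?_
    rcases lt_or_ge p 0 with h | h
    · exact hzero _ (SSBasic.isZero_le E 2 _ le_rfl (a.stat (p, n - p)).1 _ (hquad _ (Or.inl h)))
    · exact good_page Q hzero hiso hker hcok n hquad h2 _ _ _ ⟨by simp; lia, Or.inl (by simp)⟩
  obtain ⟨⟨lo, hlo⟩, ⟨hi, hhi⟩⟩ := hfin
  replace hlo : a.fil n lo = ⊤ := hlo
  replace hhi : a.fil n hi = ⊥ := hhi
  have hstep : ∀ k : ℕ, Q (a.fil n (hi - k) : C) := by
    intro k
    induction k with
    | zero =>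
      refine hzero _ ?_
      simp only [Nat.cast_zero, sub_zero, hhi]
      exact (isZero_zero C).of_iso Subobject.botCoeIsoZero
    | succ k ih =>
      have hle : a.fil n (hi - (k : ℤ)) ≤ a.fil n (hi - ((k + 1 : ℕ) : ℤ)) := a.anti n (by lia)
      let S := ShortComplex.mk (Subobject.ofLE _ _ hle) (cokernel.π (Subobject.ofLE _ _ hle)) (cokernel.condition _)
      have hS : S.ShortExact :=
        { exact := ShortComplex.exact_of_g_is_cokernel S (cokernelIsCokernel _) }
      have hm : ∀ q, q = hi - (k : ℤ) → ∀ h : a.fil n q ≤ a.fil n (hi - ((k + 1 : ℕ) : ℤ)),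
          Nonempty (cokernel (Subobject.ofLE _ _ h) ≅ S.X₃) := by rintro q rfl h; exact ⟨Iso.refl _⟩
      obtain ⟨i⟩ := hm (hi - ((k + 1 : ℕ) : ℤ) + 1) (by push_cast; ring) (a.anti n (Int.le_add_one le_rfl))
      exact hext S hS ih (hiso i (hgr _))
  have hb : a.fil n (hi - ((hi - lo).toNat : ℤ)) = ⊤ :=
    top_le_iff.1 (hlo.symm.le.trans (a.anti n (by lia)))
  haveI : IsIso (a.fil n (hi - ((hi - lo).toNat : ℤ))).arrow := by rw [hb]; infer_instance
  exact hiso (asIso (a.fil n (hi - ((hi - lo).toNat : ℤ))).arrow) (hstep _)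

end Groth.Agent.H9Misc.SSProp
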