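import Groth.Agent.H9Misc.SSBasic
import Groth.Agent.DiffTame.Basic
import Mathlib

/-! Traces of an endomorphism along a spectral sequence. -/

set_option linter.style.haveILetI false

universe u

open CategoryTheory CategoryTheory.Limits Polynomial ZeroObject

namespace Groth.Agent.H9Misc.SSTrace

/-- Underlying complex vector spaces. -/
noncomputable abbrev RS : ModuleCat.{u} ℂ[X] ⥤ ModuleCat.{u} ℂ :=
  ModuleCat.restrictScalars (algebraMap ℂ ℂ[X])

/-- Multiplication by `X`. -/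
noncomputable abbrev act (M : ModuleCat.{u} ℂ[X]) : Module.End ℂ (RS.obj M) :=
  (RS.map ((X : ℂ[X]) • 𝟙 M)).hom

/-- The trace of `X`. -/
noncomputable abbrev tr (M : ModuleCat.{u} ℂ[X]) : ℂ := LinearMap.trace ℂ _ (act M)

/-- The complex dimension. -/
noncomputable abbrev dim (M : ModuleCat.{u} ℂ[X]) : ℕ := Module.finrank ℂ (RS.obj M)

/-- Finite dimensionality. -/
abbrev Fin (M : ModuleCat.{u} ℂ[X]) : Prop := Module.Finite ℂ (RS.obj M)

/-- All eigenvalues are bounded. -/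
def Bound (M : ModuleCat.{u} ℂ[X]) (β : ℝ) : Prop := ∀ μ : ℂ, (act M).HasEigenvalue μ → ‖μ‖ ≤ β

lemma act_natural {M N : ModuleCat.{u} ℂ[X]} (f : M ⟶ N) :
    (act N) ∘ₗ (RS.map f).hom = (RS.map f).hom ∘ₗ (act M) := by
  show (RS.map f ≫ RS.map ((X : ℂ[X]) • 𝟙 N)).hom = (RS.map ((X : ℂ[X]) • 𝟙 M) ≫ RS.map f).hom
  rw [← RS.map_comp, ← RS.map_comp, Linear.comp_smul, Category.comp_id, Linear.smul_comp, Category.id_comp]

lemma aeval_act (M : ModuleCat.{u} ℂ[X]) (p : ℂ[X]) (x : RS.obj M) :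
    aeval (act M) p x = (p • (show M from x) : M) := by
  induction p using Polynomial.induction_on' with
  | add p q hp hq => rw [map_add, LinearMap.add_apply, hp, hq]; exact (add_smul p q (show M from x)).symm
  | monomial n a =>
    rw [aeval_monomial, Module.End.mul_apply, Module.algebraMap_end_apply]
    have h : ∀ n, ((act M) ^ n) x = ((X : ℂ[X]) ^ n • (show M from x) : M) := fun n => by
      induction n with
      | zero => simp
      | succ n ih =>
        rw [pow_succ', Module.End.mul_apply, ih, pow_succ', mul_smul]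
        rfl
    rw [h]
    show (algebraMap ℂ ℂ[X] a • ((X : ℂ[X]) ^ n • (show M from x)) : M) = _
    rw [smul_smul, ← C_mul_X_pow_eq_monomial]
    rfl

lemma bound_of_annihilated {M N : ModuleCat.{u} ℂ[X]} [Fin M] [Fin N] {β : ℝ} (h : Bound M β)
    (hann : ∀ p : ℂ[X], (∀ x : M, p • x = 0) → ∀ y : N, p • y = 0) : Bound N β := by
  intro μ hμ
  refine h μ (Module.End.hasEigenvalue_of_isRoot ?_)
  obtain ⟨v, hv⟩ := hμ.exists_hasEigenvector
  have h0 : ∀ x : M, minpoly ℂ (act M) • x = 0 := fun x => by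
    rw [← aeval_act M _ x, minpoly.aeval]
    rfl
  have h1 := Module.End.aeval_apply_of_hasEigenvector (p := minpoly ℂ (act M)) hv
  rw [aeval_act N _ v, hann _ h0] at h1
  exact (smul_eq_zero.1 h1.symm).resolve_right hv.2

lemma norm_tr_le {M : ModuleCat.{u} ℂ[X]} [Fin M] {β : ℝ} (h : Bound M β) : ‖tr M‖ ≤ dim M * β := by
  have hs : (LinearMap.charpoly (act M)).Splits := IsAlgClosed.splits _
  have hb : ∀ x ∈ (LinearMap.charpoly (act M)).roots.map (‖·‖), x ≤ β := fun x hx => by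
    obtain ⟨μ, hμ, rfl⟩ := Multiset.mem_map.1 hx
    exact h μ ((Module.End.hasEigenvalue_iff_isRoot_charpoly _ _).2 (isRoot_of_mem_roots hμ))
  have hcard : (LinearMap.charpoly (act M)).roots.card = dim M := by
    rw [← hs.natDegree_eq_card_roots, LinearMap.charpoly_natDegree]
  show ‖LinearMap.trace ℂ _ (act M)‖ ≤ _
  rw [Module.End.trace_eq_sum_roots_charpoly_of_splits hs]
  refine (norm_multiset_sum_le _).trans ((Multiset.sum_le_card_nsmul _ _ hb).trans ?_)
  rw [Multiset.card_map, hcard, nsmul_eq_mul]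

theorem of_shortExact (S : ShortComplex (ModuleCat.{u} ℂ[X])) (hS : S.ShortExact) [Fin S.X₂] :
    Fin S.X₁ ∧ Fin S.X₃ ∧ tr S.X₂ = tr S.X₁ + tr S.X₃ ∧ dim S.X₂ = dim S.X₁ + dim S.X₃ ∧
      ∀ β, Bound S.X₂ β → Bound S.X₁ β ∧ Bound S.X₃ β := by
  haveI := hS.mono_f
  haveI := hS.epi_g
  have hi : Function.Injective S.f.hom := (ModuleCat.mono_iff_injective _).1 inferInstance
  have hq : Function.Surjective S.g.hom := (ModuleCat.epi_iff_surjective _).1 inferInstance
  have hex : Function.Exact S.f.hom S.g.hom :=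
    (ShortComplex.ShortExact.moduleCat_exact_iff_function_exact S).1 hS.exact
  haveI h₁ : Fin S.X₁ := Module.Finite.of_injective (RS.map S.f).hom hi
  haveI h₃ : Fin S.X₃ := Module.Finite.of_surjective (RS.map S.g).hom hq
  have hex' : LinearMap.range (RS.map S.f).hom = LinearMap.ker (RS.map S.g).hom :=
    (LinearMap.exact_iff.1 (show Function.Exact (RS.map S.f).hom (RS.map S.g).hom from hex)).symm
  refine ⟨h₁, h₃, DiffTame.trace_of_exact (RS.map S.f).hom (RS.map S.g).hom hi hq hex'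
    (act_natural S.f) (act_natural S.g), ?_, fun β hβ => ⟨?_, ?_⟩⟩
  · have h := (RS.map S.g).hom.finrank_range_add_finrank_ker
    rw [← hex', LinearMap.finrank_range_of_inj (f := (RS.map S.f).hom) hi, LinearMap.range_eq_top.2 (show Function.Surjective (RS.map S.g).hom from hq), finrank_top] at h
    show Module.finrank ℂ (RS.obj S.X₂) = _
    rw [← h, add_comm]
  · exact bound_of_annihilated hβ fun p hp x => hi (by rw [map_smul, hp, map_zero])
  · exact bound_of_annihilated hβ fun p hp y => by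
      obtain ⟨x, rfl⟩ := hq y
      rw [← map_smul, hp, map_zero]

lemma fin_of_shortExact (S : ShortComplex (ModuleCat.{u} ℂ[X])) (hS : S.ShortExact) (h₁ : Fin S.X₁)
    (h₃ : Fin S.X₃) : Fin S.X₂ := by
  haveI := h₁
  haveI := h₃
  have hex : Function.Exact (RS.map S.f).hom (RS.map S.g).hom :=
    (ShortComplex.ShortExact.moduleCat_exact_iff_function_exact S).1 hS.exact
  let N := LinearMap.range (RS.map S.f).hom
  have hN : N = LinearMap.ker (RS.map S.g).hom := (LinearMap.exact_iff.1 hex).symm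
  haveI : Module.Finite ℂ N := Module.Finite.range _
  haveI : Module.Finite ℂ (RS.obj S.X₂ ⧸ N) := Module.Finite.of_injective (N.liftQ (RS.map S.g).hom hN.le)
    (LinearMap.ker_eq_bot.1 (Submodule.ker_liftQ_eq_bot _ _ _ hN.ge))
  exact Module.Finite.of_submodule_quotient N

lemma of_isZero {M : ModuleCat.{u} ℂ[X]} (h : IsZero M) : Fin M ∧ tr M = 0 ∧ dim M = 0 := by
  haveI : Subsingleton (RS.obj M) := (ModuleCat.subsingleton_of_isZero h : Subsingleton M)
  have h0 : act M = 0 := Subsingleton.elim _ _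
  exact ⟨inferInstance, by rw [tr, h0, map_zero], Module.finrank_zero_of_subsingleton⟩

lemma of_iso {M N : ModuleCat.{u} ℂ[X]} (e : M ≅ N) [Fin M] :
    Fin N ∧ tr N = tr M ∧ dim N = dim M ∧ ∀ β, Bound M β → Bound N β := by
  let T : ShortComplex (ModuleCat.{u} ℂ[X]) := ShortComplex.mk (0 : (0 : ModuleCat.{u} ℂ[X]) ⟶ M) e.hom zero_comp
  have hT : T.ShortExact :=
    { exact := (T.exact_iff_mono rfl).2 (inferInstanceAs (Mono e.hom))
      mono_f := ⟨fun g h _ => (isZero_zero _).eq_of_tgt g h⟩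
      epi_g := inferInstanceAs (Epi e.hom) }
  haveI : Fin T.X₂ := ‹_›
  obtain ⟨-, h₃, ht, hd, hb⟩ := of_shortExact T hT
  obtain ⟨-, t0, d0⟩ := of_isZero (isZero_zero (ModuleCat.{u} ℂ[X]))
  refine ⟨h₃, ?_, ?_, fun β h => (hb β h).2⟩
  · rw [show tr T.X₁ = 0 from t0, zero_add] at ht; exact ht.symm
  · rw [show dim T.X₁ = 0 from d0, zero_add] at hd; exact hd.symm

/-- Linear maps as short exact sequences. -/
theorem of_linear {L M N : ModuleCat.{u} ℂ[X]} (i : L →ₗ[ℂ[X]] M) (q : M →ₗ[ℂ[X]] N)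
    (hi : Function.Injective i) (hq : Function.Surjective q) (hex : Function.Exact i q) [Fin M] :
    Fin L ∧ Fin N ∧ tr M = tr L + tr N ∧ dim M = dim L + dim N ∧
      ∀ β, Bound M β → Bound L β ∧ Bound N β := by
  let T : ShortComplex (ModuleCat.{u} ℂ[X]) := ShortComplex.mk (ModuleCat.ofHom i) (ModuleCat.ofHom q)
    (ModuleCat.hom_ext (LinearMap.ext fun x => hex.apply_apply_eq_zero x))
  haveI : Fin T.X₂ := ‹_›
  exact of_shortExact T
    { exact := (ShortComplex.ShortExact.moduleCat_exact_iff_function_exact T).2 hex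
      mono_f := (ModuleCat.mono_iff_injective _).2 hi
      epi_g := (ModuleCat.epi_iff_surjective _).2 hq }

/-- The image of a map. -/
noncomputable abbrev im {M N : ModuleCat.{u} ℂ[X]} (f : M ⟶ N) : ModuleCat.{u} ℂ[X] :=
  ModuleCat.of ℂ[X] (LinearMap.range f.hom)

lemma im_bound {M N : ModuleCat.{u} ℂ[X]} (f : M ⟶ N) [Fin M] :
    Fin (im f) ∧ dim (im f) ≤ dim M ∧ ∀ β, Bound M β → Bound (im f) β := by
  obtain ⟨-, h, -, hd, hb⟩ := of_linear (L := ModuleCat.of ℂ[X] (LinearMap.ker f.hom)) (M := M) (N := im f)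
    (LinearMap.ker f.hom).subtype f.hom.rangeRestrict Subtype.val_injective f.hom.surjective_rangeRestrict
    (by rw [LinearMap.exact_iff, LinearMap.ker_rangeRestrict, Submodule.range_subtype])
  exact ⟨h, by omega, fun β hβ => (hb β hβ).2⟩

theorem homology_tr (S : ShortComplex (ModuleCat.{u} ℂ[X])) [Fin S.X₂] :
    Fin S.homology ∧ dim S.homology ≤ dim S.X₂ ∧ (∀ β, Bound S.X₂ β → Bound S.homology β) ∧
      tr S.homology = tr S.X₂ - tr (im S.f) - tr (im S.g) := by
  let K := LinearMap.ker S.g.hom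
  let t := S.moduleCatToCycles
  obtain ⟨hK, -, ht₁, hd₁, hb₁⟩ := of_linear (L := ModuleCat.of ℂ[X] K) (M := S.X₂) (N := im S.g)
    K.subtype S.g.hom.rangeRestrict Subtype.val_injective S.g.hom.surjective_rangeRestrict
    (by rw [LinearMap.exact_iff, LinearMap.ker_rangeRestrict, Submodule.range_subtype])
  haveI := hK
  obtain ⟨hR, hH, ht₂, hd₂, hb₂⟩ := of_linear (L := ModuleCat.of ℂ[X] (LinearMap.range t))
    (M := ModuleCat.of ℂ[X] K) (N := ModuleCat.of ℂ[X] (K ⧸ LinearMap.range t))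
    (LinearMap.range t).subtype (LinearMap.range t).mkQ Subtype.val_injective
    (Submodule.mkQ_surjective _) (LinearMap.exact_subtype_mkQ _)
  let e₁ : ModuleCat.of ℂ[X] (LinearMap.range t) ≅ im S.f :=
    ((Submodule.equivMapOfInjective K.subtype Subtype.val_injective _).trans
      (LinearEquiv.ofEq _ _ (by rw [← LinearMap.range_comp]; rfl))).toModuleIso
  let e₂ : ModuleCat.of ℂ[X] (K ⧸ LinearMap.range t) ≅ S.homology := S.moduleCatHomologyIso.symm
  haveI := hR
  haveI := hH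
  obtain ⟨-, hf, -, -⟩ := of_iso e₁
  obtain ⟨hfin, hh, hdh, hbh⟩ := of_iso e₂
  refine ⟨hfin, by omega, fun β h => hbh β (hb₂ β (hb₁ β h).1).2, ?_⟩
  rw [hh, ht₁, ht₂, hf]
  ring

section Page

variable (E : E₂CohomologicalSpectralSequence (ModuleCat.{u} ℂ[X]))

/-- The boundedness condition. -/
def Cond (r : ℤ) (hr : 2 ≤ r) (N : ℕ) (a c : ℕ → ℝ) (b d : ℕ → ℕ) : Prop :=
  (∀ pq : ℤ × ℤ, pq.1 < 0 ∨ pq.2 < 0 → IsZero ((E.page r hr).X pq)) ∧
    (∀ pq : ℤ × ℤ, Fin ((E.page r hr).X pq)) ∧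
    (∀ p q : ℕ, N < q → IsZero ((E.page r hr).X ((p : ℤ), (q : ℤ)))) ∧
    (∀ (p q : ℕ) (μ : ℂ), (act ((E.page r hr).X ((p : ℤ), (q : ℤ)))).HasEigenvalue μ → ‖μ‖ ≤ a q * c p) ∧
    (∀ p q : ℕ, dim ((E.page r hr).X ((p : ℤ), (q : ℤ))) ≤ b q * d p)

/-- The summands. -/
noncomputable def T (r : ℤ) (hr : 2 ≤ r) (x : ℕ × ℕ) : ℂ :=
  (-1 : ℂ) ^ (x.1 + x.2) * tr ((E.page r hr).X ((x.1 : ℤ), (x.2 : ℤ)))

variable {E} {r : ℤ} {hr : 2 ≤ r} {N : ℕ} {a c : ℕ → ℝ} {b d : ℕ → ℕ}
  (ha : ∀ q, 0 ≤ a q) (hc : ∀ p, 0 ≤ c p) (hsum : Summable fun p : ℕ => c p * (d p : ℝ))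

/-- The majorant. -/
noncomputable def G (N : ℕ) (a c : ℕ → ℝ) (b d : ℕ → ℕ) (x : ℕ × ℕ) : ℝ :=
  (c x.1 * (d x.1 : ℝ)) * (if x.2 ≤ N then a x.2 * (b x.2 : ℝ) else 0)

include ha hc hsum in
lemma summable_G : Summable (G N a c b d) := by
  refine Summable.mul_of_nonneg hsum (g := fun q => if q ≤ N then a q * (b q : ℝ) else 0) ?_
    (fun p => mul_nonneg (hc p) (Nat.cast_nonneg _)) fun q => by
      dsimp only
      split_ifs
      · exact mul_nonneg (ha q) (Nat.cast_nonneg _)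
      · exact le_rfl
  exact summable_of_ne_finset_zero (s := Finset.range (N + 1)) fun q hq => if_neg (by simpa using hq)

include ha hc in
lemma norm_le (h : Cond E r hr N a c b d) (x : ℕ × ℕ) (M : ModuleCat.{u} ℂ[X]) [Fin M]
    (hd : dim M ≤ dim ((E.page r hr).X ((x.1 : ℤ), (x.2 : ℤ))))
    (hb : ∀ β, Bound ((E.page r hr).X ((x.1 : ℤ), (x.2 : ℤ))) β → Bound M β) : ‖tr M‖ ≤ G N a c b d x := by
  obtain ⟨-, -, hN, hev, hdim⟩ := h
  refine (norm_tr_le (hb _ (fun μ hμ => hev x.1 x.2 μ hμ))).trans ?_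
  unfold G
  split_ifs with hq
  · have : (dim M : ℝ) ≤ (b x.2 : ℝ) * (d x.1 : ℝ) := by exact_mod_cast hd.trans (hdim x.1 x.2)
    calc (dim M : ℝ) * (a x.2 * c x.1) ≤ (b x.2 : ℝ) * (d x.1 : ℝ) * (a x.2 * c x.1) :=
          mul_le_mul_of_nonneg_right this (mul_nonneg (ha _) (hc _))
      _ = _ := by ring
  · have : dim M = 0 := Nat.le_zero.1 (hd.trans (of_isZero (hN x.1 x.2 (by omega))).2.2.le)
    simp [this]

include ha hc hsum in
lemma summable_T (h : Cond E r hr N a c b d) : Summable fun x => ‖T E r hr x‖ :=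
  Summable.of_nonneg_of_le (fun _ => norm_nonneg _) (fun x => by
    haveI := h.2.1 ((x.1 : ℤ), (x.2 : ℤ))
    simpa [T] using norm_le ha hc h x _ le_rfl fun β hβ => hβ) (summable_G ha hc hsum)

include ha hc hsum in
theorem page_succ (h : Cond E r hr N a c b d) :
    Cond E (r + 1) (Int.le_add_one hr) N a c b d ∧
      ∑' x, T E (r + 1) (Int.le_add_one hr) x = ∑' x, T E r hr x := by
  let v : ℤ × ℤ := (r, 1 - r)
  have key : ∀ x : ℤ × ℤ, Fin ((E.page (r + 1) (Int.le_add_one hr)).X x) ∧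
      dim ((E.page (r + 1) (Int.le_add_one hr)).X x) ≤ dim ((E.page r hr).X x) ∧
      (∀ β, Bound ((E.page r hr).X x) β → Bound ((E.page (r + 1) (Int.le_add_one hr)).X x) β) ∧
      tr ((E.page (r + 1) (Int.le_add_one hr)).X x) = tr ((E.page r hr).X x) -
        tr (im ((E.page r hr).d (x - v) x)) - tr (im ((E.page r hr).d x (x + v))) := by
    intro x
    haveI : Fin ((E.page r hr).sc x).X₂ := h.2.1 x
    obtain ⟨h₁, h₂, h₃, h₄⟩ := homology_tr ((E.page r hr).sc x)
    haveI := h₁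
    let e : ((E.page r hr).sc x).homology ≅ (E.page (r + 1) (Int.le_add_one hr)).X x := E.iso r (r + 1) x
    obtain ⟨f₁, f₂, f₃, f₄⟩ := of_iso e
    have hf : tr (im ((E.page r hr).sc x).f) = tr (im ((E.page r hr).d (x - v) x)) := by
      show tr (im ((E.page r hr).d ((ComplexShape.up' (⟨r, 1 - r⟩ : ℤ × ℤ)).prev x) x)) = _
      rw [SSBasic.prev_eq]
    have hg : tr (im ((E.page r hr).sc x).g) = tr (im ((E.page r hr).d x (x + v))) := by
      show tr (im ((E.page r hr).d x ((ComplexShape.up' (⟨r, 1 - r⟩ : ℤ × ℤ)).next x))) = _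
      rw [SSBasic.next_eq]
    exact ⟨f₁, f₃.le.trans h₂, fun β hβ => f₄ β (h₃ β hβ), by rw [f₂, h₄, hf, hg]; rfl⟩
  obtain ⟨hquad, hfin, hN, hev, hdim⟩ := h
  have hcond : Cond E (r + 1) (Int.le_add_one hr) N a c b d :=
    ⟨fun x hx => SSBasic.isZero_succ E r hr x (hquad x hx), fun x => (key x).1,
      fun p q hq => SSBasic.isZero_succ E r hr _ (hN p q hq),
      fun p q μ hμ => (key (p, q)).2.2.1 _ (hev p q) μ hμ,
      fun p q => (key (p, q)).2.1.trans (hdim p q)⟩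
  refine ⟨hcond, ?_⟩
  let ι : ℕ × ℕ → ℤ × ℤ := fun x => ((x.1 : ℤ), (x.2 : ℤ))
  let sg : ℤ × ℤ → ℂ := fun x => ((x.1 + x.2).negOnePow : ℤˣ)
  have hsg : ∀ x : ℕ × ℕ, sg (ι x) = (-1 : ℂ) ^ (x.1 + x.2) := fun x => by
    show ((((x.1 : ℤ) + (x.2 : ℤ)).negOnePow : ℤˣ) : ℂ) = _
    rw [← Nat.cast_add, Int.negOnePow_def, zpow_natCast]
    simp
  let Fo : ℕ × ℕ → ℂ := fun x => sg (ι x) * tr (im ((E.page r hr).d (ι x) (ι x + v)))
  let Fi : ℕ × ℕ → ℂ := fun x => sg (ι x) * tr (im ((E.page r hr).d (ι x - v) (ι x)))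
  have hFo : Summable Fo := Summable.of_norm_bounded (summable_G (N := N) (b := b) ha hc hsum) fun x => by
    haveI := hfin (ι x)
    obtain ⟨i₁, i₂, i₃⟩ := im_bound ((E.page r hr).d (ι x) (ι x + v))
    simpa [Fo, hsg] using norm_le ha hc ⟨hquad, hfin, hN, hev, hdim⟩ x _ i₂ i₃
  have hneg : ∀ x : ℤ × ℤ, sg (x + v) = - sg x := fun x => by
    simp only [sg, v, Prod.fst_add, Prod.snd_add]
    rw [show x.1 + r + (x.2 + (1 - r)) = x.1 + x.2 + 1 by ring, Int.negOnePow_succ]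
    simp
  have hz : ∀ {x y : ℤ × ℤ}, tr (im ((E.page r hr).d x y)) ≠ 0 → (0 ≤ x.1 ∧ 0 ≤ x.2) ∧ (0 ≤ y.1 ∧ 0 ≤ y.2) := by
    intro x y hne
    have h0 : (E.page r hr).d x y ≠ 0 := fun h0 => hne (by
      refine (of_isZero ?_).2.1
      haveI : Subsingleton (LinearMap.range ((E.page r hr).d x y).hom) := by
        rw [h0]
        exact ⟨fun ⟨a, z, hz⟩ ⟨b, w, hw⟩ => Subtype.ext (show a = b by rw [← hz, ← hw]; rfl)⟩
      exact ModuleCat.isZero_of_subsingleton _)
    constructor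
    · by_contra hx
      exact h0 ((hquad x (by omega)).eq_of_src _ _)
    · by_contra hy
      exact h0 ((hquad y (by omega)).eq_of_tgt _ _)
  have hw : ∀ x : Function.support (fun x => -Fo x), ∃ y : ℕ × ℕ, ι y = ι x.1 + v := fun x => by
    have hx : tr (im ((E.page r hr).d (ι x.1) (ι x.1 + v))) ≠ 0 := fun h => x.2 (by simp [Fo, h])
    obtain ⟨-, h₁, h₂⟩ := hz hx
    exact ⟨((ι x.1 + v).1.toNat, (ι x.1 + v).2.toNat), Prod.ext (Int.toNat_of_nonneg h₁) (Int.toNat_of_nonneg h₂)⟩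
  choose w hw using hw
  have hιinj : Function.Injective ι := fun x y hxy => by
    simp only [ι, Prod.mk.injEq, Nat.cast_inj] at hxy
    exact Prod.ext hxy.1 hxy.2
  have hFiw : ∀ x, Fi (w x) = -Fo x.1 := fun x => by
    simp only [Fi, Fo]
    rw [hw, add_sub_cancel_right, hneg, neg_mul]
  have hwinj : Function.Injective w := fun x y hxy =>
    Subtype.ext (hιinj (add_right_cancel ((hw x).symm.trans ((congrArg ι hxy).trans (hw y)))))
  have hwsurj : Function.support Fi ⊆ Set.range w := fun y hy => by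
    have hy' : tr (im ((E.page r hr).d (ι y - v) (ι y))) ≠ 0 := fun h => hy (by simp [Fi, h])
    obtain ⟨⟨h₁, h₂⟩, -⟩ := hz hy'
    let x : ℕ × ℕ := ((ι y - v).1.toNat, (ι y - v).2.toNat)
    have hx : ι x = ι y - v := Prod.ext (Int.toNat_of_nonneg h₁) (Int.toNat_of_nonneg h₂)
    have hxs : x ∈ Function.support (fun x => -Fo x) := by
      simp only [Function.mem_support, ne_eq, neg_eq_zero, Fo, mul_eq_zero, not_or]
      refine ⟨by simp [hsg], ?_⟩
      rw [hx, sub_add_cancel]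
      exact hy'
    exact ⟨⟨x, hxs⟩, hιinj (by rw [hw, hx, sub_add_cancel])⟩
  have hT := summable_T ha hc hsum (E := E) (r := r) (hr := hr) ⟨hquad, hfin, hN, hev, hdim⟩
  have hFi : Summable Fi := Summable.of_norm_bounded (summable_G (N := N) (b := b) ha hc hsum) fun x => by
    haveI := hfin (ι x)
    have hsub := of_linear (L := im ((E.page r hr).d (ι x - v) (ι x))) (M := (E.page r hr).X (ι x))
      (N := ModuleCat.of ℂ[X] (((E.page r hr).X (ι x)) ⧸ LinearMap.range ((E.page r hr).d (ι x - v) (ι x)).hom))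
      (LinearMap.range ((E.page r hr).d (ι x - v) (ι x)).hom).subtype
      (LinearMap.range ((E.page r hr).d (ι x - v) (ι x)).hom).mkQ Subtype.val_injective
      (Submodule.mkQ_surjective _) (LinearMap.exact_subtype_mkQ _)
    haveI := hsub.1
    simpa [Fi, hsg] using norm_le ha hc ⟨hquad, hfin, hN, hev, hdim⟩ x _
      (by have := hsub.2.2.2.1; exact le_of_le_of_eq (Nat.le_add_right _ _) this.symm) fun β hβ => (hsub.2.2.2.2 β hβ).1
  have hsplit : ∀ x, T E (r + 1) (Int.le_add_one hr) x = T E r hr x - Fi x - Fo x := fun x => by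
    simp only [T, Fi, Fo, hsg]
    rw [(key (ι x)).2.2.2]
    ring
  have hbij : ∑' x, Fi x = ∑' x, -Fo x := tsum_eq_tsum_of_ne_zero_bij w hwinj hwsurj hFiw
  rw [tsum_congr hsplit, (hT.of_norm.sub hFi).tsum_sub hFo, hT.of_norm.tsum_sub hFi, hbij, tsum_neg]
  ring

end Page

section Abutment

lemma tr_filtration {M : ModuleCat.{u} ℂ[X]} (F : ℤ → Subobject M) (hF : Antitone F) (n : ℤ) (hbot : F (n + 1) = ⊥)
    (hgr : ∀ p, Fin (SpSeq.grPiece F hF p : ModuleCat.{u} ℂ[X])) (k : ℕ) :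
    Fin (F (n + 1 - k) : ModuleCat.{u} ℂ[X]) ∧ tr (F (n + 1 - k) : ModuleCat.{u} ℂ[X]) =
      ∑ j ∈ Finset.range k, tr (SpSeq.grPiece F hF (n - j) : ModuleCat.{u} ℂ[X]) := by
  induction k with
  | zero =>
    have hz : IsZero (F (n + 1 - ((0 : ℕ) : ℤ)) : ModuleCat.{u} ℂ[X]) := by
      rw [Nat.cast_zero, sub_zero, hbot]
      exact (isZero_zero _).of_iso Subobject.botCoeIsoZero
    exact ⟨(of_isZero hz).1, by rw [Finset.range_zero, Finset.sum_empty]; exact (of_isZero hz).2.1⟩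
  | succ k ih =>
    rw [show n + 1 - ((k + 1 : ℕ) : ℤ) = n - k by push_cast; ring, Finset.sum_range_succ, ← ih.2]
    have hle : F (n + 1 - k) ≤ F (n - k) := hF (by lia)
    let f := (F (n + 1 - k)).ofLE (F (n - k)) hle
    have he : Nonempty (cokernel f ≅ (SpSeq.grPiece F hF (n - k) : ModuleCat.{u} ℂ[X])) := by
      have hq : n - (k : ℤ) + 1 = n + 1 - k := by ring
      revert hle
      intro hle f
      have : ∀ q (hq : n - (k : ℤ) + 1 = q) (hle : F q ≤ F (n - k)),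
          Nonempty (cokernel ((F q).ofLE (F (n - k)) hle) ≅ (SpSeq.grPiece F hF (n - k) : ModuleCat.{u} ℂ[X])) := by
        rintro q rfl hle
        exact ⟨Iso.refl _⟩
      exact this _ hq hle
    haveI := hgr (n - k)
    obtain ⟨i⟩ := he
    obtain ⟨hc, htc, -, -⟩ := of_iso i.symm
    haveI := hc
    haveI := ih.1
    have hfin : Fin (F (n - k) : ModuleCat.{u} ℂ[X]) :=
      fin_of_shortExact (ShortComplex.mk f (cokernel.π f) (cokernel.condition f))
        { exact := ShortComplex.exact_cokernel f } ih.1 hc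
    haveI := hfin
    let T := ShortComplex.mk f (cokernel.π f) (cokernel.condition f)
    haveI : Fin T.X₂ := hfin
    obtain ⟨-, -, ht, -, -⟩ := of_shortExact T { exact := ShortComplex.exact_cokernel f }
    exact ⟨hfin, ht.trans (by rw [show tr T.X₃ = _ from htc])⟩

end Abutment

end Groth.Agent.H9Misc.SSTrace
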