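import Groth.Agent.H9Misc.SSTrace

/-! The trace formula for abutments. -/

set_option linter.style.haveILetI false

universe u

open CategoryTheory CategoryTheory.Limits Polynomial

namespace Groth.Agent.H9Misc.SSTrace

variable {E : E₂CohomologicalSpectralSequence (ModuleCat.{u} ℂ[X])} {N : ℕ} {a c : ℕ → ℝ} {b d : ℕ → ℕ}
  (ha : ∀ q, 0 ≤ a q) (hc : ∀ p, 0 ≤ c p) (hsum : Summable fun p : ℕ => c p * (d p : ℝ))

include ha hc hsum in
lemma iterate (h : Cond E 2 le_rfl N a c b d) (k : ℕ) :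
    Cond E (2 + k) (by lia) N a c b d ∧ ∑' x, T E (2 + k) (by lia) x = ∑' x, T E 2 le_rfl x := by
  induction k with
  | zero =>
    have hk : ∀ (r : ℤ) (hr : 2 ≤ r), r = 2 → Cond E r hr N a c b d ∧ ∑' x, T E r hr x = ∑' x, T E 2 le_rfl x := by
      rintro r hr rfl
      exact ⟨h, rfl⟩
    exact hk _ _ (by simp)
  | succ k ih =>
    obtain ⟨h₁, h₂⟩ := page_succ ha hc hsum ih.1
    have hk : ∀ (r : ℤ) (hr : 2 ≤ r), r = 2 + k + 1 → Cond E r hr N a c b d ∧ ∑' x, T E r hr x = ∑' x, T E 2 le_rfl x := by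
      rintro r hr rfl
      exact ⟨h₁, h₂.trans ih.2⟩
    exact hk _ _ (by omega)

lemma stationary_of_cond {r : ℤ} {hr : 2 ≤ r} (h : Cond E r hr N a c b d) (hN : (N : ℤ) + 2 ≤ r) (x : ℤ × ℤ) :
    SpSeq.StationaryAt E x r := by
  refine ⟨hr, fun r' h₀ hle => ?_⟩
  have hz : ∀ y : ℤ × ℤ, (y.2 < 0 ∨ (N : ℤ) < y.2) → IsZero ((E.page r' h₀).X y) := fun y hy => by
    refine SSBasic.isZero_le E r r' hr hle y ?_
    rcases lt_or_ge y.2 0 with h2 | h2
    · exact h.1 y (Or.inr h2)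
    rcases lt_or_ge y.1 0 with h1 | h1
    · exact h.1 y (Or.inl h1)
    obtain ⟨p, hp⟩ := Int.eq_ofNat_of_zero_le h1
    obtain ⟨q, hq⟩ := Int.eq_ofNat_of_zero_le h2
    have := h.2.2.1 p q (by omega)
    rwa [← hp, ← hq] at this
  rcases lt_or_ge x.2 0 with h2 | h2
  · exact ⟨(hz x (Or.inl h2)).eq_of_tgt _ _, (hz x (Or.inl h2)).eq_of_src _ _⟩
  rcases lt_or_ge (N : ℤ) x.2 with h3 | h3
  · exact ⟨(hz x (Or.inr h3)).eq_of_tgt _ _, (hz x (Or.inr h3)).eq_of_src _ _⟩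
  exact ⟨(hz _ (Or.inr (by simp; omega))).eq_of_src _ _, (hz _ (Or.inl (by simp; omega))).eq_of_tgt _ _⟩

variable {H : ℤ → ModuleCat.{u} ℂ[X]} (abut : SpSeq.Abutment E H)

theorem tr_abutment {r : ℤ} {hr : 2 ≤ r} (h : Cond E r hr N a c b d) (hst : ∀ x, SpSeq.StationaryAt E x r)
    (n : ℕ) (hfin : abut.IsFinite n) :
    tr (H n) = ∑ j ∈ Finset.range (n + 1), tr ((E.page r hr).X ((n : ℤ) - j, (j : ℤ))) := by
  have hgr : ∀ p q : ℤ, p + q = n →
      Fin (SpSeq.grPiece (abut.fil n) (abut.anti n) p : ModuleCat.{u} ℂ[X]) ∧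
      tr (SpSeq.grPiece (abut.fil n) (abut.anti n) p : ModuleCat.{u} ℂ[X]) = tr ((E.page r hr).X (p, q)) ∧
      ((p < 0 ∨ q < 0) → IsZero (SpSeq.grPiece (abut.fil n) (abut.anti n) p : ModuleCat.{u} ℂ[X])) := by
    intro p q hpq
    obtain ⟨e⟩ := SSBasic.nonempty_iso_of_stationary E (hst (p, q)) (abut.stat (p, q))
    haveI : Fin ((E.page r (hst (p, q)).1).X (p, q)) := h.2.1 (p, q)
    obtain ⟨f₁, f₂, -, -⟩ := of_iso (e ≪≫ abut.β (p, q))
    have hm : ∀ m, m = (n : ℤ) → Nonempty ((SpSeq.grPiece (abut.fil m) (abut.anti m) p : ModuleCat.{u} ℂ[X]) ≅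
        SpSeq.grPiece (abut.fil n) (abut.anti n) p) := by rintro m rfl; exact ⟨Iso.refl _⟩
    obtain ⟨i⟩ := hm _ hpq
    haveI := f₁
    obtain ⟨g₁, g₂, -, -⟩ := of_iso i
    exact ⟨g₁, g₂.trans f₂, fun hneg => (h.1 (p, q) hneg).of_iso (e ≪≫ abut.β (p, q) ≪≫ i).symm⟩
  obtain ⟨⟨lo, hlo⟩, ⟨hi, hhi⟩⟩ := hfin
  replace hlo : abut.fil n lo = ⊤ := hlo
  replace hhi : abut.fil n hi = ⊥ := hhi
  have hz : ∀ p : ℤ, p < 0 ∨ (n : ℤ) < p →
      IsZero (SpSeq.grPiece (abut.fil n) (abut.anti n) p : ModuleCat.{u} ℂ[X]) := fun p hp =>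
    (hgr p (n - p) (by ring)).2.2 (hp.imp id fun h => by omega)
  have hF0 : abut.fil n 0 = ⊤ := by
    rcases le_or_gt lo 0 with h | h
    · rw [← SSBasic.const_of_isZero_gr (abut.fil n) (abut.anti n) lo 0 h fun p _ hp => hz p (Or.inl hp)]
      exact hlo
    · exact top_le_iff.1 (hlo.symm.le.trans (abut.anti n h.le))
  have hFn : abut.fil n ((n : ℤ) + 1) = ⊥ := by
    rcases le_or_gt hi ((n : ℤ) + 1) with h | h
    · exact le_bot_iff.1 ((abut.anti n h).trans hhi.le)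
    · rw [SSBasic.const_of_isZero_gr (abut.fil n) (abut.anti n) ((n : ℤ) + 1) hi h.le fun p hp _ => hz p (Or.inr (by omega))]
      exact hhi
  obtain ⟨t₁, t₂⟩ := tr_filtration (abut.fil n) (abut.anti n) n hFn
    (fun p => (hgr p (n - p) (by ring)).1) (n + 1)
  have h0 : (n : ℤ) + 1 - ((n + 1 : ℕ) : ℤ) = 0 := by omega
  rw [h0] at t₁ t₂
  haveI : IsIso (abut.fil n 0).arrow := by rw [hF0]; infer_instance
  haveI := t₁
  obtain ⟨-, g₂, -, -⟩ := of_iso (asIso (abut.fil n 0).arrow)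
  rw [g₂, t₂]
  exact Finset.sum_congr rfl fun j _ => (hgr _ _ (by ring)).2.1

include ha hc hsum in
theorem formula (h : Cond E 2 le_rfl N a c b d) (hfin : ∀ n, abut.IsFinite n) :
    Summable (fun n : ℕ => ‖tr (H n)‖) ∧
      ∑' n : ℕ, (-1 : ℂ) ^ n * tr (H n) = ∑' x, T E 2 le_rfl x := by
  obtain ⟨hR, heq⟩ := iterate ha hc hsum h N
  have hst := stationary_of_cond hR (by omega)
  rw [← heq]
  have hs := summable_T ha hc hsum hR
  let R := (2 : ℤ) + N
  have key : ∀ n : ℕ, (-1 : ℂ) ^ n * tr (H n) = ∑ x ∈ Finset.HasAntidiagonal.antidiagonal n, T E (2 + N) (by lia) x := by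
    intro n
    rw [tr_abutment abut hR hst n (hfin n), Finset.mul_sum, ← Finset.Nat.sum_antidiagonal_swap,
      Finset.Nat.sum_antidiagonal_eq_sum_range_succ_mk]
    refine Finset.sum_congr rfl fun j hj => ?_
    have hj' : j ≤ n := by simpa using hj
    simp only [T, Prod.swap_prod_mk]
    rw [Nat.sub_add_cancel hj', Nat.cast_sub hj']
  have hσ : Summable (fun z : Σ n : ℕ, Finset.HasAntidiagonal.antidiagonal n => ‖T E (2 + N) (by lia) (z.2 : ℕ × ℕ)‖) :=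
    (Equiv.summable_iff Finset.HasAntidiagonal.sigmaAntidiagonalEquivProd).2 hs
  constructor
  · refine Summable.of_nonneg_of_le (fun _ => norm_nonneg _) (fun n => ?_) hσ.sigma
    rw [tsum_fintype, Finset.sum_coe_sort (Finset.HasAntidiagonal.antidiagonal n) (fun x => ‖T E (2 + N) (by lia) x‖)]
    have := norm_sum_le (Finset.HasAntidiagonal.antidiagonal n) (T E (2 + N) (by lia))
    rw [← key] at this
    simpa using this
  · have hσ' : Summable (fun z : Σ n : ℕ, Finset.HasAntidiagonal.antidiagonal n =>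
        T E (2 + N) (by lia) (z.2 : ℕ × ℕ)) := hσ.of_norm
    rw [← Finset.HasAntidiagonal.sigmaAntidiagonalEquivProd.tsum_eq (T E (2 + N) (by lia))]
    refine Eq.trans ?_ (Summable.tsum_sigma' (fun n => Summable.of_finite) hσ').symm
    refine tsum_congr fun n => ?_
    rw [key, tsum_fintype]
    exact (Finset.sum_coe_sort (Finset.HasAntidiagonal.antidiagonal n) (T E (2 + N) (by lia))).symm

end Groth.Agent.H9Misc.SSTrace
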