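import Groth.Agent.H9Misc.SpecHomExtTilde
import Groth.Agent.QCoh.PullbackBC

/-! Sections of local Ext sheaves over affine opens. -/

set_option linter.style.haveILetI false
set_option linter.unusedSectionVars false
set_option backward.isDefEq.respectTransparency false
set_option backward.isDefEq.respectTransparency.types false

universe u

open CategoryTheory CategoryTheory.Limits AlgebraicGeometry Opposite

noncomputable section

namespace Groth.Agent.H9Misc.SectionsExtSh

open Groth.Agent

variable {X : Scheme.{u}} {U : X.Opens} (hU : IsAffineOpen U)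

/-- Sections over an affine open are global sections on the chart. -/
def chartIso (M : X.Modules) : ModuleCat.of Γ(X, U) (M.val.obj (op U)) ≅
    (moduleSpecΓFunctor (R := Γ(X, U))).obj (M.restrict hU.fromSpec) :=
  ({ AddEquiv.ofBijective (AddMonoidHom.mk' (QCoh.toChart hU M) (QCoh.toChart_add hU M))
        (QCoh.bijective_toChart hU M) with
      map_smul' := fun r x => QCoh.toChart_smul hU M r x } :
    (ModuleCat.of Γ(X, U) (M.val.obj (op U))) ≃ₗ[Γ(X, U)]
      ((moduleSpecΓFunctor (R := Γ(X, U))).obj (M.restrict hU.fromSpec))).toModuleIso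

include hU in
theorem nonempty_sections [IsLocallyNoetherian X] {F G : X.Modules} (hF : Coh.IsCoh F) (hG : Coh.IsQCoh G)
    [ModSite.HasSheafHom (O := X.sheaf) F] [HasInjectiveResolutions (ModSite.Mod X.sheaf)] (q : ℕ) :
    Nonempty (((ModSite.extSh (O := X.sheaf) F q).obj G).val.obj (op U) ≃ₗ[Γ(X, U)]
      Abelian.Ext.{u} (ModuleCat.of Γ(X, U) (F.val.obj (op U))) (ModuleCat.of Γ(X, U) (G.val.obj (op U))) q) := by
  let j : Spec Γ(X, U) ⟶ X := hU.fromSpec
  haveI : IsLocallyNoetherian (Spec Γ(X, U)) := LocallyOfFiniteType.isLocallyNoetherian j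
  haveI : IsNoetherianRing Γ(X, U) := isLocallyNoetherian_Spec.1 ‹_›
  haveI : HasInjectiveResolutions X.Modules := ‹HasInjectiveResolutions (ModSite.Mod X.sheaf)›
  let I : InjectiveResolution (C := X.Modules) G := InjectiveResolution.of G
  obtain ⟨a⟩ := ExtShShift.nonempty_extSh_iso I F q
  obtain ⟨b⟩ := ExtShCoh.nonempty_homology_restrict j I F q
  obtain ⟨c⟩ := SpecHomExt.nonempty_gamma_ext (QCoh.isQCoh_restrict j hG) (ExtShLocal.restrictRes j I)
    (SheafHomX.isCoh_restrict j hF) q
  let d := chartIso hU ((ModSite.extSh (O := X.sheaf) F q).obj G) ≪≫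
    (moduleSpecΓFunctor (R := Γ(X, U))).mapIso ((Scheme.Modules.restrictFunctor j).mapIso a ≪≫ b) ≪≫ c
  exact ⟨d.toLinearEquiv.trans (LC.extCongr (chartIso hU F).symm (chartIso hU G).symm q)⟩

end Groth.Agent.H9Misc.SectionsExtSh
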