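import Mathlib.CategoryTheory.Triangulated.Triangulated
import Mathlib.CategoryTheory.Linear.LinearFunctor
import Mathlib.CategoryTheory.Linear.Basic
import Mathlib.LinearAlgebra.Dual.Lemmas
import Mathlib.CategoryTheory.Shift.Basic

/-!
# Serre functors are exact
-/

universe v u w

open CategoryTheory CategoryTheory.Category CategoryTheory.Limits CategoryTheory.Pretriangulated

namespace Groth.Agent.H9Misc.SerreExact

variable {k : Type w} [Field k] {T : Type u} [Category.{v} T] [Preadditive T] [Linear k T] [HasZeroObject T]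
  [HasShift T ℤ] [∀ n : ℤ, (shiftFunctor T n).Additive] [∀ n : ℤ, (shiftFunctor T n).Linear k] [Pretriangulated T]
  [∀ X Y : T, Module.Finite k (X ⟶ Y)] (S : T ≌ T) [S.functor.Additive] [S.functor.Linear k]
  (c : ∀ X Y : T, (X ⟶ Y) ≃ₗ[k] Module.Dual k (Y ⟶ S.functor.obj X))

/-- The trace. -/
noncomputable def tr (X : T) : Module.Dual k (X ⟶ S.functor.obj X) := c X X (𝟙 X)

/-- The pairing identifies maps to `S X` with functionals. -/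
noncomputable def rep (X Y : T) : (Y ⟶ S.functor.obj X) ≃ₗ[k] Module.Dual k (X ⟶ Y) :=
  (Module.evalEquiv k (Y ⟶ S.functor.obj X)).trans (c X Y).dualMap

lemma rep_apply (X Y : T) (g : Y ⟶ S.functor.obj X) (f : X ⟶ Y) : rep S c X Y g f = c X Y f g := rfl

/-- The shift on morphisms. -/
noncomputable def shiftEquiv₁ (X Y : T) : (X ⟶ Y) ≃ₗ[k] (X⟦(1 : ℤ)⟧ ⟶ Y⟦(1 : ℤ)⟧) :=
  LinearEquiv.ofBijective ((shiftFunctor T (1 : ℤ)).mapLinearMap k)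
    ⟨(shiftFunctor T (1 : ℤ)).map_injective, (shiftFunctor T (1 : ℤ)).map_surjective⟩

variable (hc₁ : ∀ (X Y Y' : T) (f : X ⟶ Y) (g : Y ⟶ Y'),
    c X Y' (f ≫ g) = (c X Y f) ∘ₗ Linear.leftComp k (S.functor.obj X) g)
  (hc₂ : ∀ (X' X Y : T) (a : X' ⟶ X) (f : X ⟶ Y),
    c X' Y (a ≫ f) = (c X Y f) ∘ₗ Linear.rightComp k Y (S.functor.map a))

include hc₁ in
lemma c_eq {X Y : T} (f : X ⟶ Y) (g : Y ⟶ S.functor.obj X) : c X Y f g = tr S c X (f ≫ g) := by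
  have h := LinearMap.congr_fun (hc₁ X X Y (𝟙 X) f) g
  rw [id_comp] at h
  exact h

include hc₁ hc₂ in
lemma tr_comm {X Y : T} (f : X ⟶ Y) (g : Y ⟶ S.functor.obj X) :
    tr S c X (f ≫ g) = tr S c Y (g ≫ S.functor.map f) := by
  rw [← c_eq S c hc₁]
  have h := LinearMap.congr_fun (hc₂ X Y Y f (𝟙 Y)) g
  rw [comp_id] at h
  exact h

include hc₁ in
lemma ext_tr {X Y : T} {g g' : Y ⟶ S.functor.obj X} (h : ∀ f : X ⟶ Y, tr S c X (f ≫ g) = tr S c X (f ≫ g')) :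
    g = g' := by
  refine (rep S c X Y).injective (LinearMap.ext fun f => ?_)
  rw [rep_apply, rep_apply, c_eq S c hc₁, c_eq S c hc₁, h]

/-- The comparison `(S X)⟦1⟧ ⟶ S (X⟦1⟧)`. -/
noncomputable def dApp (X : T) : (S.functor.obj X)⟦(1 : ℤ)⟧ ⟶ S.functor.obj (X⟦(1 : ℤ)⟧) :=
  (rep S c (X⟦(1 : ℤ)⟧) ((S.functor.obj X)⟦(1 : ℤ)⟧)).symm (-(tr S c X ∘ₗ (shiftEquiv₁ (k := k) X (S.functor.obj X)).symm.toLinearMap))

include hc₁ in
lemma tr_dApp {X : T} (z : X ⟶ S.functor.obj X) :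
    tr S c (X⟦(1 : ℤ)⟧) (z⟦(1 : ℤ)⟧' ≫ dApp S c X) = -tr S c X z := by
  rw [← c_eq S c hc₁, ← rep_apply, dApp, LinearEquiv.apply_symm_apply]
  show -(tr S c X ((shiftEquiv₁ (k := k) X (S.functor.obj X)).symm (shiftEquiv₁ (k := k) X (S.functor.obj X) z))) = _
  rw [LinearEquiv.symm_apply_apply]

include hc₁ in
lemma bijective_dApp (X Y : T) :
    Function.Bijective fun g : Y⟦(1 : ℤ)⟧ ⟶ (S.functor.obj X)⟦(1 : ℤ)⟧ => g ≫ dApp S c X := by
  refine ⟨fun a b hab => ?_, fun h => ?_⟩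
  · obtain ⟨a, rfl⟩ := (shiftFunctor T (1 : ℤ)).map_surjective a
    obtain ⟨b, rfl⟩ := (shiftFunctor T (1 : ℤ)).map_surjective b
    refine congrArg (fun t => t⟦(1 : ℤ)⟧') (ext_tr S c hc₁ fun f => ?_)
    rw [← neg_inj, ← tr_dApp S c hc₁, ← tr_dApp S c hc₁, Functor.map_comp, Functor.map_comp, assoc, assoc]
    exact congrArg (fun t => tr S c _ (f⟦(1 : ℤ)⟧' ≫ t)) hab
  · let g' := (rep S c X Y).symm (-((tr S c (X⟦(1 : ℤ)⟧)) ∘ₗ
      (Linear.rightComp k (X⟦(1 : ℤ)⟧) h) ∘ₗ (shiftEquiv₁ (k := k) X Y).toLinearMap))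
    refine ⟨g'⟦(1 : ℤ)⟧', ext_tr S c hc₁ fun f => ?_⟩
    obtain ⟨f, rfl⟩ := (shiftFunctor T (1 : ℤ)).map_surjective f
    rw [← assoc, ← Functor.map_comp, tr_dApp S c hc₁, ← c_eq S c hc₁, ← rep_apply, LinearEquiv.apply_symm_apply]
    exact neg_neg _

include hc₁ in
theorem isIso_dApp (X : T) : IsIso (dApp S c X) := by
  let Y := (shiftFunctor T (1 : ℤ)).objPreimage (S.functor.obj (X⟦(1 : ℤ)⟧))
  let i : Y⟦(1 : ℤ)⟧ ≅ S.functor.obj (X⟦(1 : ℤ)⟧) := (shiftFunctor T (1 : ℤ)).objObjPreimageIso _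
  obtain ⟨g, hg⟩ := (bijective_dApp S c hc₁ X Y).2 i.hom
  have h1 : (i.inv ≫ g) ≫ dApp S c X = 𝟙 _ := by
    rw [assoc, show g ≫ dApp S c X = i.hom from hg, i.inv_hom_id]
  refine ⟨i.inv ≫ g, (bijective_dApp S c hc₁ X (S.functor.obj X)).1 ?_, h1⟩
  show (dApp S c X ≫ i.inv ≫ g) ≫ dApp S c X = 𝟙 _ ≫ dApp S c X
  rw [assoc, h1, comp_id, id_comp]

include hc₁ hc₂ in
lemma dApp_natural {X X' : T} (a : X ⟶ X') :
    (S.functor.map a)⟦(1 : ℤ)⟧' ≫ dApp S c X' = dApp S c X ≫ S.functor.map (a⟦(1 : ℤ)⟧') := by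
  refine ext_tr S c hc₁ fun f => ?_
  obtain ⟨z, rfl⟩ := (shiftFunctor T (1 : ℤ)).map_surjective f
  rw [← assoc, ← Functor.map_comp, tr_dApp S c hc₁]
  refine Eq.trans ?_ (congrArg (tr S c _) (assoc _ _ _))
  rw [← tr_comm S c hc₁ hc₂ (a⟦(1 : ℤ)⟧'), ← assoc, ← Functor.map_comp, tr_dApp S c hc₁, tr_comm S c hc₁ hc₂ a z]

/-- `S` commutes with the shift. -/
noncomputable def eIso : shiftFunctor T (1 : ℤ) ⋙ S.functor ≅ S.functor ⋙ shiftFunctor T (1 : ℤ) :=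
  (NatIso.ofComponents (F := S.functor ⋙ shiftFunctor T (1 : ℤ)) (G := shiftFunctor T (1 : ℤ) ⋙ S.functor)
    (fun X => @asIso _ _ _ _ (dApp S c X) (isIso_dApp S c hc₁ X))
    fun a => dApp_natural S c hc₁ hc₂ a).symm

include hc₁ hc₂ in
theorem distinguished (T' : Triangle T) (hT : T' ∈ distTriang T) :
    Triangle.mk (S.functor.map T'.mor₁) (S.functor.map T'.mor₂)
      (S.functor.map T'.mor₃ ≫ (eIso S c hc₁ hc₂).hom.app T'.obj₁) ∈ distTriang T := by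
  obtain ⟨Z, u, v, hZ⟩ := distinguished_cocone_triangle (S.functor.map T'.mor₁)
  let A := T'.obj₁
  let B := T'.obj₂
  let C := T'.obj₃
  let d := dApp S c A
  haveI hd : IsIso d := isIso_dApp S c hc₁ A
  have he : (eIso S c hc₁ hc₂).hom.app A = inv d := rfl
  let ψ : ((C ⟶ S.functor.obj B) × (A⟦(1 : ℤ)⟧ ⟶ Z)) →ₗ[k] (C ⟶ Z) :=
    (Linear.rightComp k C u).coprod (Linear.leftComp k Z T'.mor₃)
  let L : Module.Dual k ((C ⟶ S.functor.obj B) × (A⟦(1 : ℤ)⟧ ⟶ Z)) :=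
    (tr S c C ∘ₗ Linear.rightComp k C (S.functor.map T'.mor₂)).coprod
      (tr S c (A⟦(1 : ℤ)⟧) ∘ₗ Linear.rightComp k (A⟦(1 : ℤ)⟧) (v ≫ d))
  have hker : LinearMap.ker ψ ≤ LinearMap.ker L := by
    rintro ⟨k₁, r⟩ hkr
    have hkr' : k₁ ≫ u + T'.mor₃ ≫ r = 0 := hkr
    have h0 : (T'.mor₂ ≫ k₁) ≫ u = 0 := by
      have := congrArg (T'.mor₂ ≫ ·) hkr'
      simp only [Preadditive.comp_add, comp_zero] at this
      rwa [comp_distTriang_mor_zero₂₃_assoc T' hT, zero_comp, add_zero, ← assoc] at this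
    obtain ⟨q, hq⟩ : ∃ q : B ⟶ S.functor.obj A, T'.mor₂ ≫ k₁ = q ≫ S.functor.map T'.mor₁ :=
      Triangle.coyoneda_exact₂ _ hZ (T'.mor₂ ≫ k₁) h0
    obtain ⟨r'', hr₁, hr₂⟩ := complete_distinguished_triangle_morphism T'.rotate _ (rot_of_distTriang _ hT) hZ q k₁ hq
    obtain ⟨r', rfl⟩ : ∃ x : A⟦(1 : ℤ)⟧ ⟶ Z, x = r'' := ⟨r'', rfl⟩
    change T'.mor₃ ≫ r' = k₁ ≫ u at hr₁
    have hr₂' : r' ≫ v = -((T'.mor₁ ≫ q)⟦(1 : ℤ)⟧') := by
      rw [Functor.map_comp]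
      exact hr₂.symm.trans (Preadditive.neg_comp _ _)
    obtain ⟨j, hj⟩ : ∃ j : B⟦(1 : ℤ)⟧ ⟶ Z, r + r' = (-(T'.mor₁⟦(1 : ℤ)⟧')) ≫ j :=
      Triangle.yoneda_exact₂ _ (rot_of_distTriang _ (rot_of_distTriang _ hT)) (r + r') (by
        show T'.mor₃ ≫ (r + r') = 0
        rw [Preadditive.comp_add, hr₁, add_comm, hkr'])
    have h1 : tr S c _ ((r + r') ≫ v ≫ d) = 0 := by
      rw [hj, Preadditive.neg_comp, Preadditive.neg_comp, map_neg, neg_eq_zero, assoc,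
        tr_comm S c hc₁ hc₂ (T'.mor₁⟦(1 : ℤ)⟧'), assoc, assoc,
        ← dApp_natural S c hc₁ hc₂, ← assoc v, show v ≫ (S.functor.map T'.mor₁)⟦(1 : ℤ)⟧' = 0 from
          comp_distTriang_mor_zero₃₁ _ hZ, zero_comp, comp_zero, map_zero]
    have h2 : tr S c _ (r' ≫ v ≫ d) = tr S c C (k₁ ≫ S.functor.map T'.mor₂) := by
      rw [← assoc r', hr₂', Preadditive.neg_comp, map_neg,
        tr_dApp S c hc₁, neg_neg, tr_comm S c hc₁ hc₂, ← hq, tr_comm S c hc₁ hc₂]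
    rw [Preadditive.add_comp, map_add, h2, add_comm] at h1
    exact h1
  obtain ⟨L', hL'⟩ := LinearMap.exists_extend (p := LinearMap.range ψ)
    ((Submodule.liftQ (LinearMap.ker ψ) L hker) ∘ₗ ψ.quotKerEquivRange.symm.toLinearMap)
  have hL : ∀ x, L' (ψ x) = L x := fun x => by
    have h := LinearMap.congr_fun hL' ⟨ψ x, LinearMap.mem_range_self ψ x⟩
    refine h.trans ?_
    show Submodule.liftQ _ L hker (ψ.quotKerEquivRange.symm ⟨ψ x, _⟩) = L x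
    rw [show ψ.quotKerEquivRange.symm ⟨ψ x, LinearMap.mem_range_self ψ x⟩ = Submodule.Quotient.mk x from
      (LinearEquiv.symm_apply_eq _).2 (Subtype.ext (ψ.quotKerEquivRange_apply_mk x).symm)]
    rfl
  let ξ : Z ⟶ S.functor.obj C := (rep S c C Z).symm L'
  have hξ : ∀ x : C ⟶ Z, tr S c C (x ≫ ξ) = L' x := fun x => by
    rw [← c_eq S c hc₁, ← rep_apply, LinearEquiv.apply_symm_apply]
  have hu : u ≫ ξ = S.functor.map T'.mor₂ := ext_tr S c hc₁ fun x => by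
    rw [← assoc, hξ]
    have := hL (x, 0)
    simpa [ψ, L] using this
  have hv' : ξ ≫ S.functor.map T'.mor₃ = v ≫ d := ext_tr S c hc₁ fun r => by
    rw [← assoc, ← tr_comm S c hc₁ hc₂, ← assoc, hξ]
    have := hL (0, r)
    simpa [ψ, L] using this
  have hv : ξ ≫ S.functor.map T'.mor₃ ≫ inv d = v := by rw [← assoc, hv', assoc, IsIso.hom_inv_id, comp_id]
  have exS : ∀ {A B D : T} (a : A ⟶ B) (b : B ⟶ D),
      (∀ (Y : T) (x : Y ⟶ B), x ≫ b = 0 → ∃ y, x = y ≫ a) →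
      ∀ (Y : T) (x : Y ⟶ S.functor.obj B), x ≫ S.functor.map b = 0 → ∃ y, x = y ≫ S.functor.map a := by
    intro A B D a b h Y x hx
    let i := S.functor.objObjPreimageIso Y
    obtain ⟨x₀, hx₀⟩ := S.functor.map_surjective (i.hom ≫ x)
    obtain ⟨y, hy⟩ := h _ x₀ (S.functor.map_injective (by
      rw [Functor.map_comp, hx₀, assoc, hx, comp_zero, Functor.map_zero]))
    exact ⟨i.inv ≫ S.functor.map y, by rw [assoc, ← Functor.map_comp, ← hy, hx₀, i.inv_hom_id_assoc]⟩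
  have hbij : ∀ Y : T, Function.Bijective fun x : Y ⟶ Z => x ≫ ξ := by
    intro Y
    refine ⟨fun a b hab => sub_eq_zero.1 ?_, fun x => ?_⟩
    · have h0 : (a - b) ≫ ξ = 0 := by rw [Preadditive.sub_comp, sub_eq_zero]; exact hab
      obtain ⟨y, hy⟩ : ∃ y : Y ⟶ S.functor.obj T'.obj₂, a - b = y ≫ u :=
        Triangle.coyoneda_exact₃ _ hZ (a - b) (by
          show (a - b) ≫ v = 0
          rw [← hv, ← assoc, h0, zero_comp])
      obtain ⟨p, hp⟩ := exS T'.mor₁ T'.mor₂ (fun W x hx => Triangle.coyoneda_exact₂ T' hT x hx) Y y (by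
        rw [← hu, ← assoc, ← hy, h0])
      rw [hy, hp]
      refine (assoc _ _ _).trans ?_
      rw [show S.functor.map T'.mor₁ ≫ u = 0 from comp_distTriang_mor_zero₁₂ _ hZ, comp_zero]
    · let x' : Y ⟶ (S.functor.obj A)⟦(1 : ℤ)⟧ := x ≫ S.functor.map T'.mor₃ ≫ inv d
      obtain ⟨r, hr⟩ : ∃ r : Y ⟶ Z, x' = r ≫ v := Triangle.coyoneda_exact₁ _ hZ x' (by
        show (x ≫ S.functor.map T'.mor₃ ≫ inv d) ≫ (S.functor.map T'.mor₁)⟦(1 : ℤ)⟧' = 0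
        have hn : inv d ≫ (S.functor.map T'.mor₁)⟦(1 : ℤ)⟧' =
            S.functor.map (T'.mor₁⟦(1 : ℤ)⟧') ≫ (eIso S c hc₁ hc₂).hom.app B :=
          ((eIso S c hc₁ hc₂).hom.naturality T'.mor₁).symm
        rw [assoc, assoc, hn, ← assoc (S.functor.map T'.mor₃), ← Functor.map_comp,
          comp_distTriang_mor_zero₃₁ T' hT, Functor.map_zero, zero_comp, comp_zero])
      change x ≫ S.functor.map T'.mor₃ ≫ inv d = r ≫ v at hr
      obtain ⟨y, hy⟩ := exS T'.mor₂ T'.mor₃ (fun W x hx => Triangle.coyoneda_exact₃ T' hT x hx) Y (x - r ≫ ξ) (by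
        rw [← cancel_mono (inv d), zero_comp, Preadditive.sub_comp, Preadditive.sub_comp, assoc, assoc, assoc,
          hv, hr, sub_self])
      refine ⟨r + y ≫ u, ?_⟩
      show (r + y ≫ u) ≫ ξ = x
      rw [Preadditive.add_comp, assoc, hu, ← hy]
      abel
  have : IsIso ξ := by
    obtain ⟨g, hg⟩ := (hbij _).2 (𝟙 _)
    refine ⟨g, (hbij _).1 ?_, hg⟩
    show (ξ ≫ g) ≫ ξ = 𝟙 _ ≫ ξ
    rw [assoc, show g ≫ ξ = 𝟙 _ from hg, comp_id, id_comp]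
  refine isomorphic_distinguished _ hZ _ (Triangle.isoMk _ _ (Iso.refl _) (Iso.refl _) (asIso ξ).symm ?_ ?_ ?_)
  · exact (comp_id _).trans (id_comp _).symm
  · show S.functor.map T'.mor₂ ≫ inv ξ = 𝟙 _ ≫ u
    rw [id_comp, IsIso.comp_inv_eq, hu]
  · show (S.functor.map T'.mor₃ ≫ (eIso S c hc₁ hc₂).hom.app T'.obj₁) ≫ (𝟙 _)⟦(1 : ℤ)⟧' = inv ξ ≫ v
    rw [CategoryTheory.Functor.map_id]
    refine (comp_id _).trans ?_
    rw [IsIso.eq_inv_comp]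
    exact hv

end Groth.Agent.H9Misc.SerreExact
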