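import Groth.Agent.QCoh.Serre
import Groth.Agent.QCoh.GodHH

/-! Serre's criterion through extensions of ideals by free modules. -/

universe u

open CategoryTheory CategoryTheory.Limits CategoryTheory.Abelian AlgebraicGeometry TopologicalSpace Opposite

namespace Groth.Agent.H9Misc.SerreExtCriterion

open QCoh

variable {X : Scheme.{u}}

/-- Vanishing of `H¹` from lifting of sections along an acyclic extension. -/
theorem subsingleton_HH_one {S : ShortComplex X.Modules} (hS : S.ShortExact)
    (h₂ : Subsingleton (Coh.HH X S.X₂ 1)) (h : Function.Surjective (S.g.app ⊤)) :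
    Subsingleton (Coh.HH X S.X₁ 1) := by
  let T := S.map (toAbFunctor X)
  have hT : T.ShortExact := toAb_shortExact hS
  refine subsingleton_of_forall_eq 0 fun c => ?_
  obtain ⟨q, hq⟩ := Ext.covariant_sequence_exact₁ _ hT c
    (h₂.elim _ _) (zero_add 1)
  obtain ⟨y, hy⟩ := h (Sheaf.H.equiv₀ T.X₃ isTerminalTop q)
  have : q = Sheaf.H.map T.g 0 ((Sheaf.H.equiv₀ T.X₂ isTerminalTop).symm y) := by
    apply (Sheaf.H.equiv₀ T.X₃ isTerminalTop).injective
    rw [← Sheaf.H.equiv₀_naturality, AddEquiv.apply_symm_apply]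
    exact hy.symm
  rw [← hq, this]
  refine (Ext.comp_assoc_of_second_deg_zero _ (Ext.mk₀ T.g) hT.extClass (zero_add 1)).trans ?_
  rw [hT.comp_extClass, Ext.comp_zero]
  rfl

/-- A global section as a morphism from the structure sheaf. -/
noncomputable def secHom {M : X.Modules} (q : Γ(M, ⊤)) : Coh.structureModule X ⟶ M :=
  M.unitHomEquiv.symm ⟨fun U => M.presheaf.map (homOfLE (le_top : U.unop ≤ ⊤)).op q, fun {U V} i => by
    show M.presheaf.map i _ = _
    rw [← ConcreteCategory.comp_apply, ← M.presheaf.map_comp]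
    rfl⟩

theorem secHom_app {M : X.Modules} (q : Γ(M, ⊤)) :
    (secHom q).app ⊤ (show Γ(Coh.structureModule X, ⊤) from (1 : Γ(X, ⊤))) = q := by
  refine (SheafOfModules.unitHomEquiv_apply_coe M (secHom q) (op ⊤)).symm.trans ?_
  rw [secHom, Equiv.apply_symm_apply]
  show M.presheaf.map (homOfLE le_top).op q = q
  rw [show (homOfLE le_top : (⊤ : X.Opens) ⟶ ⊤).op = 𝟙 _ from rfl, M.presheaf.map_id]
  rfl

theorem subAcyclic
    (h : ∀ (S : ShortComplex X.Modules) (n : ℕ)
      (j : S.X₁ ⟶ ∏ᶜ (fun _ : Fin n => Coh.structureModule X)),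
      S.ShortExact → Mono j → Coh.IsQCoh S.X₁ → Coh.IsQCoh S.X₂ → Coh.IsQCoh S.X₃ →
        Function.Surjective (S.g.app ⊤)) :
    SubAcyclic (Coh.structureModule X) := by
  intro F i hi hF
  let G := godSES F 0
  have hG : G.ShortExact := godSES_shortExact F 0
  have hGod : Subsingleton (Coh.HH X (God (godQ F 0)) 1) := subsingleton_HH_God _ 0
  refine (subsingleton_HH_one hG hGod fun q => ?_ : Subsingleton (Coh.HH X G.X₁ 1))
  haveI : Epi G.g := hG.epi_g
  haveI : Mono G.f := hG.mono_f
  let a := secHom (M := G.X₃) q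
  let E := pullback G.g a
  let f' : G.X₁ ⟶ E := pullback.lift G.f 0 (by rw [G.zero, zero_comp])
  let S : ShortComplex X.Modules := ShortComplex.mk f' (pullback.snd G.g a) (pullback.lift_snd _ _ _)
  have hf' : f' ≫ pullback.fst G.g a = G.f := pullback.lift_fst _ _ _
  have hS : S.ShortExact := by
    haveI : Mono S.f := mono_of_mono_fac hf'
    haveI : Epi S.g := inferInstanceAs (Epi (pullback.snd G.g a))
    refine ShortComplex.ShortExact.mk (ShortComplex.exact_of_f_is_kernel _
      (KernelFork.IsLimit.ofι' _ _ fun k hk => ⟨hG.fIsKernel.lift (KernelFork.ofι (k ≫ pullback.fst G.g a) (by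
          rw [Category.assoc, pullback.condition, ← Category.assoc, hk, zero_comp])), ?_⟩))
    have hl := hG.fIsKernel.fac (KernelFork.ofι (k ≫ pullback.fst G.g a) (by
          rw [Category.assoc, pullback.condition, ← Category.assoc, hk, zero_comp]))
      WalkingParallelPair.zero
    apply pullback.hom_ext
    · rw [Category.assoc, hf']
      exact hl
    · rw [Category.assoc, show f' ≫ pullback.snd G.g a = 0 from pullback.lift_snd _ _ _, comp_zero, hk]
  have h₁ : Coh.IsQCoh S.X₁ := hF
  haveI := hi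
  haveI : Mono (Pi.lift fun _ : Fin 1 => i) :=
    mono_of_mono_fac (Pi.lift_π (fun _ : Fin 1 => i) 0)
  obtain ⟨e, he⟩ := h S 1 (Pi.lift fun _ => (i : S.X₁ ⟶ _)) hS ‹_› h₁
    (isQCoh_X₂ hS h₁ isQCoh_structureModule) isQCoh_structureModule
    (show Γ(Coh.structureModule X, ⊤) from (1 : Γ(X, ⊤)))
  refine ⟨(pullback.fst G.g a).app ⊤ e, ?_⟩
  calc G.g.app ⊤ ((pullback.fst G.g a).app ⊤ e) = (pullback.fst G.g a ≫ G.g).app ⊤ e := rfl
    _ = (pullback.snd G.g a ≫ a).app ⊤ e := by rw [pullback.condition]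
    _ = a.app ⊤ ((pullback.snd G.g a).app ⊤ e) := rfl
    _ = q := by rw [show (pullback.snd G.g a).app ⊤ e = _ from he]; exact secHom_app q

end Groth.Agent.H9Misc.SerreExtCriterion
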