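import Mathlib.CategoryTheory.Abelian.SerreClass.Localization
import Mathlib.Algebra.Homology.HomologicalComplex
import Mathlib.Algebra.Homology.Additive

/-! Complexes in an exact quotient by a Serre class lift to complexes. -/

universe v v' u u'

open CategoryTheory Category Limits ZeroObject ObjectProperty

namespace Groth.Agent.H9Misc.SerreLift

variable {A : Type u} [Category.{v} A] [Abelian A] (P : ObjectProperty A) [P.IsSerreClass]
  {Q : Type u'} [Category.{v'} Q] [Preadditive Q]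
  (L : A ⥤ Q) [L.IsLocalization P.isoModSerre] [L.Additive]

include P

lemma step {W X : A} {D D' : Q} (p : W ⟶ X) (e : L.obj X ≅ D) (δ : D ⟶ D')
    (h : L.map p ≫ e.hom ≫ δ = 0) :
    ∃ (Y : A) (f : X ⟶ Y) (e' : L.obj Y ≅ D'), p ≫ f = 0 ∧ L.map f ≫ e'.hom = e.hom ≫ δ := by
  have := Localization.essSurj L P.isoModSerre
  obtain ⟨φ, hφ⟩ := Localization.exists_leftFraction L P.isoModSerre
    (e.hom ≫ δ ≫ (L.objObjPreimageIso D').inv)
  have := Localization.inverts L P.isoModSerre φ.s φ.hs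
  have hf : L.map φ.f = (e.hom ≫ δ ≫ (L.objObjPreimageIso D').inv) ≫ L.map φ.s := by
    rw [hφ, MorphismProperty.LeftFraction.map_comp_map_s]
  have h0 : L.map (p ≫ φ.f) = 0 := by
    rw [L.map_comp, hf]
    simp [reassoc_of% h]
  have hπ : P.isoModSerre (cokernel.π (p ≫ φ.f)) := by
    rw [isoModSerre_iff_of_epi]
    exact (SerreClassLocalization.map_eq_zero_iff L P _).1 h0
  have := Localization.inverts L P.isoModSerre _ hπ
  refine ⟨_, φ.f ≫ cokernel.π (p ≫ φ.f),
    (asIso (L.map φ.s ≫ L.map (cokernel.π (p ≫ φ.f)))).symm ≪≫ L.objObjPreimageIso D',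
    by rw [← assoc, cokernel.condition], ?_⟩
  rw [L.map_comp, hf]
  simp [asIso]

lemma costep {X V : A} {D D' : Q} (q : X ⟶ V) (e : L.obj X ≅ D) (δ : D' ⟶ D)
    (h : δ ≫ e.inv ≫ L.map q = 0) :
    ∃ (U : A) (g : U ⟶ X) (e' : L.obj U ≅ D'), g ≫ q = 0 ∧ L.map g ≫ e.hom = e'.hom ≫ δ := by
  have := Localization.essSurj L P.isoModSerre
  obtain ⟨φ, hφ⟩ := Localization.exists_rightFraction L P.isoModSerre
    ((L.objObjPreimageIso D').hom ≫ δ ≫ e.inv)
  have := Localization.inverts L P.isoModSerre φ.s φ.hs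
  have hf : L.map φ.f = L.map φ.s ≫ (L.objObjPreimageIso D').hom ≫ δ ≫ e.inv := by
    rw [hφ, MorphismProperty.RightFraction.map_s_comp_map]
  have h0 : L.map (φ.f ≫ q) = 0 := by
    rw [L.map_comp, hf]
    simp [h]
  have hι : P.isoModSerre (kernel.ι (φ.f ≫ q)) := by
    rw [isoModSerre_iff_of_mono]
    exact P.prop_of_iso (Abelian.coimageIsoImage _).symm
      ((SerreClassLocalization.map_eq_zero_iff L P _).1 h0)
  have := Localization.inverts L P.isoModSerre _ hι
  refine ⟨_, kernel.ι (φ.f ≫ q) ≫ φ.f,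
    asIso (L.map (kernel.ι (φ.f ≫ q))) ≪≫ asIso (L.map φ.s) ≪≫ L.objObjPreimageIso D',
    by rw [assoc, kernel.condition], ?_⟩
  rw [L.map_comp, hf]
  simp

omit [L.IsLocalization P.isoModSerre] P in
lemma zero_of_square {X V : A} {D D' D'' : Q} {g : X ⟶ V} (e : L.obj V ≅ D) (e' : L.obj X ≅ D')
    {δ : D' ⟶ D} {δ' : D'' ⟶ D'} (h : L.map g ≫ e.hom = e'.hom ≫ δ) (hδ : δ' ≫ δ = 0) :
    δ' ≫ e'.inv ≫ L.map g = 0 := by
  rw [← cancel_mono e.hom, assoc, assoc, h, Iso.inv_hom_id_assoc, hδ, zero_comp]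

variable (C : CochainComplex Q ℤ)

/-- A stage of the construction towards the right. -/
structure RSt (n : ℕ) where
  W : A
  X : A
  p : W ⟶ X
  e : L.obj X ≅ C.X (n : ℤ)
  h : L.map p ≫ e.hom ≫ C.d (n : ℤ) ((n + 1 : ℕ) : ℤ) = 0

/-- A stage of the construction towards the left. -/
structure LSt (n : ℕ) where
  X : A
  V : A
  q : X ⟶ V
  e : L.obj X ≅ C.X (-(n : ℤ))
  h : C.d (-((n + 1 : ℕ) : ℤ)) (-(n : ℤ)) ≫ e.inv ≫ L.map q = 0

noncomputable def rSt : ∀ n, RSt L C n
  | 0 => { W := 0, X := (have := Localization.essSurj L P.isoModSerre; L.objPreimage (C.X 0)), p := 0,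
           e := (have := Localization.essSurj L P.isoModSerre; L.objObjPreimageIso (C.X 0)), h := by simp }
  | n + 1 =>
    let s := step P L (rSt n).p (rSt n).e (C.d (n : ℤ) ((n + 1 : ℕ) : ℤ)) (rSt n).h
    { W := (rSt n).X, X := s.choose, p := s.choose_spec.choose, e := s.choose_spec.choose_spec.choose,
      h := by rw [← assoc, s.choose_spec.choose_spec.choose_spec.2, assoc, C.d_comp_d, comp_zero] }

lemma rSt_spec (n : ℕ) : (rSt P L C n).p ≫ (rSt P L C (n + 1)).p = 0 ∧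
    L.map (rSt P L C (n + 1)).p ≫ (rSt P L C (n + 1)).e.hom =
      (rSt P L C n).e.hom ≫ C.d (n : ℤ) ((n + 1 : ℕ) : ℤ) :=
  (step P L (rSt P L C n).p (rSt P L C n).e (C.d (n : ℤ) ((n + 1 : ℕ) : ℤ)) (rSt P L C n).h).choose_spec.choose_spec.choose_spec

noncomputable def lSt : ∀ n, LSt L C n
  | 0 => { X := (rSt P L C 0).X, V := (rSt P L C 1).X, q := (rSt P L C 1).p, e := (rSt P L C 0).e,
           h := by
            have h2 := (rSt_spec P L C 0).2
            rw [← cancel_mono (rSt P L C 1).e.hom, zero_comp, assoc, assoc]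
            refine Eq.trans ?_ (C.d_comp_d (-((0 + 1 : ℕ) : ℤ)) 0 1)
            exact congrArg (_ ≫ ·) ((congrArg (_ ≫ ·) h2).trans (Iso.inv_hom_id_assoc _ _)) }
  | n + 1 =>
    let s := costep P L (lSt n).q (lSt n).e (C.d (-((n + 1 : ℕ) : ℤ)) (-(n : ℤ))) (lSt n).h
    { X := s.choose, V := (lSt n).X, q := s.choose_spec.choose, e := s.choose_spec.choose_spec.choose,
      h := by
        have h2 := s.choose_spec.choose_spec.choose_spec.2
        exact zero_of_square L (lSt n).e _ h2 (C.d_comp_d _ _ _) }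

lemma lSt_spec (n : ℕ) : (lSt P L C (n + 1)).q ≫ (lSt P L C n).q = 0 ∧
    L.map (lSt P L C (n + 1)).q ≫ (lSt P L C n).e.hom =
      (lSt P L C (n + 1)).e.hom ≫ C.d (-((n + 1 : ℕ) : ℤ)) (-(n : ℤ)) :=
  (costep P L (lSt P L C n).q (lSt P L C n).e (C.d (-((n + 1 : ℕ) : ℤ)) (-(n : ℤ))) (lSt P L C n).h).choose_spec.choose_spec.choose_spec

noncomputable def obj : ℤ → A
  | Int.ofNat n => (rSt P L C n).X
  | Int.negSucc m => (lSt P L C (m + 1)).X

noncomputable def diff : ∀ i, obj P L C i ⟶ obj P L C (i + 1)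
  | Int.ofNat n => (rSt P L C (n + 1)).p
  | Int.negSucc 0 => (lSt P L C 1).q
  | Int.negSucc (m + 1) => (lSt P L C (m + 2)).q

lemma diff_sq : ∀ i, diff P L C i ≫ diff P L C (i + 1) = 0
  | Int.ofNat n => (rSt_spec P L C (n + 1)).1
  | Int.negSucc 0 => (lSt_spec P L C 0).1
  | Int.negSucc 1 => (lSt_spec P L C 1).1
  | Int.negSucc (m + 2) => (lSt_spec P L C (m + 2)).1

noncomputable def objIso : ∀ i, L.obj (obj P L C i) ≅ C.X i
  | Int.ofNat n => (rSt P L C n).e
  | Int.negSucc m => (lSt P L C (m + 1)).e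

lemma diff_comm : ∀ i, (objIso P L C i).hom ≫ C.d i (i + 1) =
    L.map (diff P L C i) ≫ (objIso P L C (i + 1)).hom
  | Int.ofNat n => ((rSt_spec P L C n).2).symm
  | Int.negSucc 0 => ((lSt_spec P L C 0).2).symm
  | Int.negSucc (m + 1) => ((lSt_spec P L C (m + 1)).2).symm

/-- The lift. -/
noncomputable def lift : CochainComplex A ℤ :=
  CochainComplex.of (obj P L C) (diff P L C) (diff_sq P L C)

/-- The lift maps to the given complex. -/
noncomputable def liftIso : (L.mapHomologicalComplex (ComplexShape.up ℤ)).obj (lift P L C) ≅ C :=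
  HomologicalComplex.Hom.isoOfComponents (objIso P L C) (by
    rintro i _ rfl
    refine (diff_comm P L C i).trans ?_
    exact congrArg (fun t => L.map t ≫ _) (CochainComplex.of_d (obj P L C) (diff P L C) i).symm)

end Groth.Agent.H9Misc.SerreLift
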