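import Mathlib

/-! Representing objects for duals of Hom spaces (Serre functors). -/

universe w v u

open CategoryTheory

namespace Groth.Agent.H9Misc.SerreRep

variable {k : Type w} [Field k] {T : Type u} [Category.{v} T] [Preadditive T] [Linear k T]

/-- Transpose of a bijective map to a dual. -/
lemma bijective_flip {V W : Type*} [AddCommGroup V] [Module k V] [AddCommGroup W] [Module k W] [Module.Finite k W]
    (B : V →ₗ[k] Module.Dual k W) (hB : Function.Bijective B) : Function.Bijective B.flip := by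
  have : B.flip = B.dualMap ∘ₗ (Module.Dual.eval k W) := by ext; rfl
  rw [this]
  exact (LinearEquiv.ofBijective B hB).dualMap.bijective.comp (Module.evalEquiv k W).bijective

/-- The pairing `(f, h) ↦ t (h ≫ f)`. -/
noncomputable def pairing {Z A : T} (t : (Z ⟶ A) →ₗ[k] k) (Y : T) : (Y ⟶ A) →ₗ[k] Module.Dual k (Z ⟶ Y) :=
  LinearMap.mk₂ k (fun f h => t (h ≫ f)) (fun f f' h => by simp) (fun r f h => by simp)
    (fun f h h' => by simp) (fun r f h => by simp)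

@[simp] lemma pairing_apply {Z A : T} (t : (Z ⟶ A) →ₗ[k] k) {Y : T} (f : Y ⟶ A) (h : Z ⟶ Y) :
    pairing t Y f h = t (h ≫ f) := rfl

/-- `t` exhibits `A` as representing `Y ↦ Hom(Z, Y)^∨`. -/
def IsRep {Z A : T} (t : (Z ⟶ A) →ₗ[k] k) : Prop := ∀ Y : T, Function.Bijective (pairing t Y)

variable {Z A B : T} {t : (Z ⟶ A) →ₗ[k] k} {t' : (Z ⟶ B) →ₗ[k] k}

lemma IsRep.ext (ht : IsRep t) {Y : T} {f g : Y ⟶ A} (h : ∀ x : Z ⟶ Y, t (x ≫ f) = t (x ≫ g)) : f = g :=
  (ht Y).1 (LinearMap.ext h)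

lemma IsRep.exists_hom (ht : IsRep t) {Y : T} (s : (Z ⟶ Y) →ₗ[k] k) : ∃ f : Y ⟶ A, ∀ x, t (x ≫ f) = s x := by
  obtain ⟨f, hf⟩ := (ht Y).2 s
  exact ⟨f, fun x => LinearMap.congr_fun hf x⟩

lemma IsRep.exists_iso (ht : IsRep t) (ht' : IsRep t') : ∃ e : A ≅ B, ∀ x, t' (x ≫ e.hom) = t x := by
  obtain ⟨m, hm⟩ := ht'.exists_hom t
  obtain ⟨n, hn⟩ := ht.exists_hom t'
  refine ⟨⟨m, n, ht.ext fun x => ?_, ht'.ext fun x => ?_⟩, hm⟩
  · rw [← Category.assoc, hn, hm, Category.comp_id]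
  · rw [← Category.assoc, hm, hn, Category.comp_id]

lemma exists_isRep (e : ∀ Y : T, (Y ⟶ A) ≃ₗ[k] Module.Dual k (Z ⟶ Y))
    (he : ∀ (Y Y' : T) (g : Y' ⟶ Y) (f : Y ⟶ A), e Y' (g ≫ f) = (e Y f) ∘ₗ Linear.rightComp k Z g) :
    IsRep (e A (𝟙 A)) := by
  intro Y
  have : pairing (e A (𝟙 A)) Y = (e Y).toLinearMap := by
    refine LinearMap.ext fun f => ?_
    have h := he A Y f (𝟙 A)
    rw [Category.comp_id] at h
    exact h.symm
  rw [this]; exact (e Y).bijective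

section Serre

variable [∀ X Y : T, Module.Finite k (X ⟶ Y)]
variable (S : T → T) (c : ∀ X Y : T, (X ⟶ Y) ≃ₗ[k] Module.Dual k (Y ⟶ S X))
  (hc₁ : ∀ (X Y Y' : T) (f : X ⟶ Y) (g : Y ⟶ Y'), c X Y' (f ≫ g) = (c X Y f) ∘ₗ Linear.leftComp k (S X) g)

/-- The trace attached to a family of Serre pairings. -/
noncomputable def trace (X : T) : (X ⟶ S X) →ₗ[k] k := (c X (S X)).toLinearMap.flip (𝟙 (S X))

include hc₁ in
lemma trace_comp {X Y : T} (f : X ⟶ Y) (ψ : Y ⟶ S X) : trace S c X (f ≫ ψ) = c X Y f ψ := by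
  show c X (S X) (f ≫ ψ) (𝟙 _) = _
  rw [hc₁]
  simp

include hc₁ in
lemma isRep_trace (X : T) : IsRep (trace S c X) := by
  intro Y
  have : pairing (trace S c X) Y = (c X Y).toLinearMap.flip := by
    refine LinearMap.ext fun f => LinearMap.ext fun h => ?_
    exact trace_comp S c hc₁ h f
  rw [this]; exact bijective_flip _ (c X Y).bijective

end Serre

end Groth.Agent.H9Misc.SerreRep
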