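import Mathlib.CategoryTheory.Triangulated.Triangulated
import Mathlib.CategoryTheory.Linear.LinearFunctor
import Mathlib.CategoryTheory.Linear.Basic
import Mathlib.LinearAlgebra.Dual.Lemmas
import Mathlib.CategoryTheory.Shift.Basic
import Groth.Agent.H9Misc.SerreRep

/-!
# Right Serre functors: fully faithful, exact, and essentially surjective when the image has no orthogonal
-/

set_option linter.unusedSectionVars false
set_option backward.isDefEq.respectTransparency false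
set_option backward.isDefEq.respectTransparency.types false

universe v u w

open CategoryTheory CategoryTheory.Category CategoryTheory.Limits CategoryTheory.Pretriangulated
open Groth.Agent.H9Misc.SerreRep

namespace Groth.Agent.H9Misc.SerreRight

/-- A right Serre datum. -/
structure Data (k : Type w) [Field k] (T : Type u) [Category.{v} T] [Preadditive T] [Linear k T] where
  obj : T → T
  t : ∀ X : T, (X ⟶ obj X) →ₗ[k] k
  isRep : ∀ X, IsRep (t X)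

variable {k : Type w} [Field k] {T : Type u} [Category.{v} T] [Preadditive T] [Linear k T]

/-- The functor of a datum. -/
noncomputable def Data.map (d₀ : Data k T) {X X' : T} (a : X ⟶ X') : d₀.obj X ⟶ d₀.obj X' :=
  ((d₀.isRep X').exists_hom ((d₀.t X) ∘ₗ Linear.leftComp k (d₀.obj X) a)).choose

lemma Data.trace_map' (d₀ : Data k T) {X X' : T} (a : X ⟶ X') (x : X' ⟶ d₀.obj X) :
    d₀.t X' (x ≫ d₀.map a) = d₀.t X (a ≫ x) :=
  ((d₀.isRep X').exists_hom ((d₀.t X) ∘ₗ Linear.leftComp k (d₀.obj X) a)).choose_spec x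

/-- The Serre functor. -/
noncomputable def Data.S (d₀ : Data k T) : T ⥤ T where
  obj := d₀.obj
  map a := d₀.map a
  map_id X := (d₀.isRep X).ext fun x => by
    refine (d₀.trace_map' _ _).trans ?_
    rw [id_comp, comp_id]
  map_comp {X X' X''} a b := (d₀.isRep X'').ext fun x => by
    refine (d₀.trace_map' _ _).trans ?_
    rw [assoc, ← assoc x]
    exact ((d₀.trace_map' b _).trans ((congrArg _ (assoc b x (d₀.map a)).symm).trans (d₀.trace_map' a _))).symm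

lemma Data.trace_map (d₀ : Data k T) {X X' : T} (a : X ⟶ X') (x : X' ⟶ d₀.S.obj X) :
    d₀.t X' (x ≫ d₀.S.map a) = d₀.t X (a ≫ x) :=
  d₀.trace_map' a x

instance (d₀ : Data k T) : d₀.S.Additive :=
  ⟨fun {X X'} {a b} => (d₀.isRep X').ext fun x => by
    show d₀.t X' (x ≫ d₀.S.map (a + b)) = d₀.t X' (x ≫ (d₀.S.map a + d₀.S.map b))
    rw [d₀.trace_map, Preadditive.comp_add, map_add, d₀.trace_map, d₀.trace_map, Preadditive.add_comp, map_add]⟩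

instance (d₀ : Data k T) : d₀.S.Linear k :=
  ⟨fun {X X'} a r => (d₀.isRep X').ext fun x => by
    show d₀.t X' (x ≫ d₀.S.map (r • a)) = d₀.t X' (x ≫ (r • d₀.S.map a))
    rw [d₀.trace_map, Linear.smul_comp, map_smul, Linear.comp_smul, map_smul, d₀.trace_map]⟩

lemma Data.map_bijective [∀ X Y : T, Module.Finite k (X ⟶ Y)] (d₀ : Data k T) (X X' : T) :
    Function.Bijective (d₀.S.map : (X ⟶ X') → _) := by
  have h2 : Function.Bijective ((pairing (d₀.t X) X').flip) := bijective_flip _ (d₀.isRep X X')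
  have h3 := d₀.isRep X' (d₀.obj X)
  refine ⟨fun a b h => h2.1 (LinearMap.ext fun x => ?_), fun m => ?_⟩
  · show d₀.t X (a ≫ x) = d₀.t X (b ≫ x)
    rw [← d₀.trace_map' a x, ← d₀.trace_map' b x]
    exact congrArg (fun m => d₀.t X' (x ≫ m)) h
  · obtain ⟨a, ha⟩ := h2.2 (pairing (d₀.t X') (d₀.obj X) m)
    exact ⟨a, h3.1 (LinearMap.ext fun x => (d₀.trace_map' a x).trans (LinearMap.congr_fun ha x))⟩

variable [HasZeroObject T] [HasShift T ℤ] [∀ n : ℤ, (shiftFunctor T n).Additive]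
  [∀ n : ℤ, (shiftFunctor T n).Linear k] [Pretriangulated T]
  [∀ X Y : T, Module.Finite k (X ⟶ Y)] (d₀ : Data k T)

/-- The trace. -/
noncomputable def tr (X : T) : Module.Dual k (X ⟶ d₀.S.obj X) := d₀.t X

/-- The pairing identifies maps to `S X` with functionals. -/
noncomputable def rep (X Y : T) : (Y ⟶ d₀.S.obj X) ≃ₗ[k] Module.Dual k (X ⟶ Y) :=
  LinearEquiv.ofBijective (pairing (d₀.t X) Y) (d₀.isRep X Y)

lemma rep_apply (X Y : T) (g : Y ⟶ d₀.S.obj X) (f : X ⟶ Y) : rep d₀ X Y g f = tr d₀ X (f ≫ g) := rfl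

/-- The shift on morphisms. -/
noncomputable def shiftEquiv₁ (X Y : T) : (X ⟶ Y) ≃ₗ[k] (X⟦(1 : ℤ)⟧ ⟶ Y⟦(1 : ℤ)⟧) :=
  LinearEquiv.ofBijective ((shiftFunctor T (1 : ℤ)).mapLinearMap k)
    ⟨(shiftFunctor T (1 : ℤ)).map_injective, (shiftFunctor T (1 : ℤ)).map_surjective⟩

lemma tr_comm {X Y : T} (f : X ⟶ Y) (g : Y ⟶ d₀.S.obj X) :
    tr d₀ X (f ≫ g) = tr d₀ Y (g ≫ d₀.S.map f) :=
  (d₀.trace_map f g).symm

lemma ext_tr {X Y : T} {g g' : Y ⟶ d₀.S.obj X} (h : ∀ f : X ⟶ Y, tr d₀ X (f ≫ g) = tr d₀ X (f ≫ g')) :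
    g = g' := by
  refine (rep d₀ X Y).injective (LinearMap.ext fun f => ?_)
  rw [rep_apply, rep_apply, h]

/-- The comparison `(S X)⟦1⟧ ⟶ S (X⟦1⟧)`. -/
noncomputable def dApp (X : T) : (d₀.S.obj X)⟦(1 : ℤ)⟧ ⟶ d₀.S.obj (X⟦(1 : ℤ)⟧) :=
  (rep d₀ (X⟦(1 : ℤ)⟧) ((d₀.S.obj X)⟦(1 : ℤ)⟧)).symm (-(tr d₀ X ∘ₗ (shiftEquiv₁ (k := k) X (d₀.S.obj X)).symm.toLinearMap))

lemma tr_dApp {X : T} (z : X ⟶ d₀.S.obj X) :
    tr d₀ (X⟦(1 : ℤ)⟧) (z⟦(1 : ℤ)⟧' ≫ dApp d₀ X) = -tr d₀ X z := by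
  rw [← rep_apply, dApp, LinearEquiv.apply_symm_apply]
  show -(tr d₀ X ((shiftEquiv₁ (k := k) X (d₀.S.obj X)).symm (shiftEquiv₁ (k := k) X (d₀.S.obj X) z))) = _
  rw [LinearEquiv.symm_apply_apply]

lemma bijective_dApp (X Y : T) :
    Function.Bijective fun g : Y⟦(1 : ℤ)⟧ ⟶ (d₀.S.obj X)⟦(1 : ℤ)⟧ => g ≫ dApp d₀ X := by
  refine ⟨fun a b hab => ?_, fun h => ?_⟩
  · obtain ⟨a, rfl⟩ := (shiftFunctor T (1 : ℤ)).map_surjective a
    obtain ⟨b, rfl⟩ := (shiftFunctor T (1 : ℤ)).map_surjective b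
    refine congrArg (fun t => t⟦(1 : ℤ)⟧') (ext_tr d₀ fun f => ?_)
    rw [← neg_inj, ← tr_dApp d₀, ← tr_dApp d₀, Functor.map_comp, Functor.map_comp, assoc, assoc]
    exact congrArg (fun t => tr d₀ _ (f⟦(1 : ℤ)⟧' ≫ t)) hab
  · let g' := (rep d₀ X Y).symm (-((tr d₀ (X⟦(1 : ℤ)⟧)) ∘ₗ
      (Linear.rightComp k (X⟦(1 : ℤ)⟧) h) ∘ₗ (shiftEquiv₁ (k := k) X Y).toLinearMap))
    refine ⟨g'⟦(1 : ℤ)⟧', ext_tr d₀ fun f => ?_⟩
    obtain ⟨f, rfl⟩ := (shiftFunctor T (1 : ℤ)).map_surjective f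
    rw [← assoc, ← Functor.map_comp, tr_dApp d₀, ← rep_apply, LinearEquiv.apply_symm_apply]
    exact neg_neg _

theorem isIso_dApp (X : T) : IsIso (dApp d₀ X) := by
  let Y := (shiftFunctor T (1 : ℤ)).objPreimage (d₀.S.obj (X⟦(1 : ℤ)⟧))
  let i : Y⟦(1 : ℤ)⟧ ≅ d₀.S.obj (X⟦(1 : ℤ)⟧) := (shiftFunctor T (1 : ℤ)).objObjPreimageIso _
  obtain ⟨g, hg⟩ := (bijective_dApp d₀ X Y).2 i.hom
  have h1 : (i.inv ≫ g) ≫ dApp d₀ X = 𝟙 _ := by
    rw [assoc, show g ≫ dApp d₀ X = i.hom from hg, i.inv_hom_id]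
  refine ⟨i.inv ≫ g, (bijective_dApp d₀ X (d₀.S.obj X)).1 ?_, h1⟩
  show (dApp d₀ X ≫ i.inv ≫ g) ≫ dApp d₀ X = 𝟙 _ ≫ dApp d₀ X
  rw [assoc, h1, comp_id, id_comp]

lemma dApp_natural {X X' : T} (a : X ⟶ X') :
    (d₀.S.map a)⟦(1 : ℤ)⟧' ≫ dApp d₀ X' = dApp d₀ X ≫ d₀.S.map (a⟦(1 : ℤ)⟧') := by
  refine ext_tr d₀ fun f => ?_
  obtain ⟨z, rfl⟩ := (shiftFunctor T (1 : ℤ)).map_surjective f
  rw [← assoc, ← Functor.map_comp, tr_dApp d₀]
  refine Eq.trans ?_ (congrArg (tr d₀ _) (assoc _ _ _))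
  rw [← tr_comm d₀ (a⟦(1 : ℤ)⟧'), ← assoc, ← Functor.map_comp, tr_dApp d₀, tr_comm d₀ a z]

/-- `S` commutes with the shift. -/
noncomputable def eIso : shiftFunctor T (1 : ℤ) ⋙ d₀.S ≅ d₀.S ⋙ shiftFunctor T (1 : ℤ) :=
  (NatIso.ofComponents (F := d₀.S ⋙ shiftFunctor T (1 : ℤ)) (G := shiftFunctor T (1 : ℤ) ⋙ d₀.S)
    (fun X => @asIso _ _ _ _ (dApp d₀ X) (isIso_dApp d₀ X))
    fun a => dApp_natural d₀ a).symm

/-- Duals of exact sequences are exact. -/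
lemma exact_of_exact {A B D : T} (a : A ⟶ B) (b : B ⟶ D)
    (h : ∀ (Y : T) (f : B ⟶ Y), a ≫ f = 0 → ∃ g, f = b ≫ g)
    (Y : T) (x : Y ⟶ d₀.S.obj B) (hx : x ≫ d₀.S.map b = 0) : ∃ y, x = y ≫ d₀.S.map a := by
  let ψ : (B ⟶ Y) →ₗ[k] (A ⟶ Y) := Linear.leftComp k Y a
  let L : Module.Dual k (B ⟶ Y) := tr d₀ B ∘ₗ Linear.rightComp k B x
  have hker : LinearMap.ker ψ ≤ LinearMap.ker L := fun f (hf : a ≫ f = 0) => by
    obtain ⟨g, rfl⟩ := h Y f hf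
    show tr d₀ B ((b ≫ g) ≫ x) = 0
    rw [assoc, tr_comm d₀, assoc, hx, comp_zero, map_zero]
  obtain ⟨L', hL'⟩ := LinearMap.exists_extend (p := LinearMap.range ψ)
    ((Submodule.liftQ (LinearMap.ker ψ) L hker) ∘ₗ ψ.quotKerEquivRange.symm.toLinearMap)
  refine ⟨(rep d₀ A Y).symm L', ext_tr d₀ fun f => ?_⟩
  have h1 := LinearMap.congr_fun hL' ⟨ψ f, LinearMap.mem_range_self ψ f⟩
  rw [← assoc f, ← tr_comm d₀, ← assoc, ← rep_apply d₀ A Y, LinearEquiv.apply_symm_apply]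
  refine Eq.symm (h1.trans ?_)
  show Submodule.liftQ _ L hker (ψ.quotKerEquivRange.symm ⟨ψ f, _⟩) = L f
  rw [show ψ.quotKerEquivRange.symm ⟨ψ f, LinearMap.mem_range_self ψ f⟩ = Submodule.Quotient.mk f from
    (LinearEquiv.symm_apply_eq _).2 (Subtype.ext (ψ.quotKerEquivRange_apply_mk f).symm)]
  rfl

theorem distinguished (T' : Triangle T) (hT : T' ∈ distTriang T) :
    Triangle.mk (d₀.S.map T'.mor₁) (d₀.S.map T'.mor₂)
      (d₀.S.map T'.mor₃ ≫ (eIso d₀).hom.app T'.obj₁) ∈ distTriang T := by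
  obtain ⟨Z, u, v, hZ⟩ := distinguished_cocone_triangle (d₀.S.map T'.mor₁)
  let A := T'.obj₁
  let B := T'.obj₂
  let C := T'.obj₃
  let d := dApp d₀ A
  haveI hd : IsIso d := isIso_dApp d₀ A
  have he : (eIso d₀).hom.app A = inv d := rfl
  let ψ : ((C ⟶ d₀.S.obj B) × (A⟦(1 : ℤ)⟧ ⟶ Z)) →ₗ[k] (C ⟶ Z) :=
    (Linear.rightComp k C u).coprod (Linear.leftComp k Z T'.mor₃)
  let L : Module.Dual k ((C ⟶ d₀.S.obj B) × (A⟦(1 : ℤ)⟧ ⟶ Z)) :=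
    (tr d₀ C ∘ₗ Linear.rightComp k C (d₀.S.map T'.mor₂)).coprod
      (tr d₀ (A⟦(1 : ℤ)⟧) ∘ₗ Linear.rightComp k (A⟦(1 : ℤ)⟧) (v ≫ d))
  have hker : LinearMap.ker ψ ≤ LinearMap.ker L := by
    rintro ⟨k₁, r⟩ hkr
    have hkr' : k₁ ≫ u + T'.mor₃ ≫ r = 0 := hkr
    have h0 : (T'.mor₂ ≫ k₁) ≫ u = 0 := by
      have := congrArg (T'.mor₂ ≫ ·) hkr'
      simp only [Preadditive.comp_add, comp_zero] at this
      rwa [comp_distTriang_mor_zero₂₃_assoc T' hT, zero_comp, add_zero, ← assoc] at this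
    obtain ⟨q, hq⟩ : ∃ q : B ⟶ d₀.S.obj A, T'.mor₂ ≫ k₁ = q ≫ d₀.S.map T'.mor₁ :=
      Triangle.coyoneda_exact₂ _ hZ (T'.mor₂ ≫ k₁) h0
    obtain ⟨r'', hr₁, hr₂⟩ := complete_distinguished_triangle_morphism T'.rotate _ (rot_of_distTriang _ hT) hZ q k₁ hq
    obtain ⟨r', rfl⟩ : ∃ x : A⟦(1 : ℤ)⟧ ⟶ Z, x = r'' := ⟨r'', rfl⟩
    change T'.mor₃ ≫ r' = k₁ ≫ u at hr₁
    have hr₂' : r' ≫ v = -((T'.mor₁ ≫ q)⟦(1 : ℤ)⟧') := by
      rw [Functor.map_comp]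
      exact hr₂.symm.trans (Preadditive.neg_comp _ _)
    obtain ⟨j, hj⟩ : ∃ j : B⟦(1 : ℤ)⟧ ⟶ Z, r + r' = (-(T'.mor₁⟦(1 : ℤ)⟧')) ≫ j :=
      Triangle.yoneda_exact₂ _ (rot_of_distTriang _ (rot_of_distTriang _ hT)) (r + r') (by
        show T'.mor₃ ≫ (r + r') = 0
        rw [Preadditive.comp_add, hr₁, add_comm, hkr'])
    have h1 : tr d₀ _ ((r + r') ≫ v ≫ d) = 0 := by
      rw [hj, Preadditive.neg_comp, Preadditive.neg_comp, map_neg, neg_eq_zero, assoc,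
        tr_comm d₀ (T'.mor₁⟦(1 : ℤ)⟧'), assoc, assoc,
        ← dApp_natural d₀, ← assoc v, show v ≫ (d₀.S.map T'.mor₁)⟦(1 : ℤ)⟧' = 0 from
          comp_distTriang_mor_zero₃₁ _ hZ, zero_comp, comp_zero, map_zero]
    have h2 : tr d₀ _ (r' ≫ v ≫ d) = tr d₀ C (k₁ ≫ d₀.S.map T'.mor₂) := by
      rw [← assoc r', hr₂', Preadditive.neg_comp, map_neg,
        tr_dApp d₀, neg_neg, tr_comm d₀, ← hq, tr_comm d₀]
    rw [Preadditive.add_comp, map_add, h2, add_comm] at h1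
    exact h1
  obtain ⟨L', hL'⟩ := LinearMap.exists_extend (p := LinearMap.range ψ)
    ((Submodule.liftQ (LinearMap.ker ψ) L hker) ∘ₗ ψ.quotKerEquivRange.symm.toLinearMap)
  have hL : ∀ x, L' (ψ x) = L x := fun x => by
    have h := LinearMap.congr_fun hL' ⟨ψ x, LinearMap.mem_range_self ψ x⟩
    refine h.trans ?_
    show Submodule.liftQ _ L hker (ψ.quotKerEquivRange.symm ⟨ψ x, _⟩) = L x
    rw [show ψ.quotKerEquivRange.symm ⟨ψ x, LinearMap.mem_range_self ψ x⟩ = Submodule.Quotient.mk x from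
      (LinearEquiv.symm_apply_eq _).2 (Subtype.ext (ψ.quotKerEquivRange_apply_mk x).symm)]
    rfl
  let ξ : Z ⟶ d₀.S.obj C := (rep d₀ C Z).symm L'
  have hξ : ∀ x : C ⟶ Z, tr d₀ C (x ≫ ξ) = L' x := fun x => by
    rw [← rep_apply, LinearEquiv.apply_symm_apply]
  have hu : u ≫ ξ = d₀.S.map T'.mor₂ := ext_tr d₀ fun x => by
    rw [← assoc, hξ]
    have := hL (x, 0)
    change L' (x ≫ u + T'.mor₃ ≫ (0 : A⟦(1 : ℤ)⟧ ⟶ Z)) = tr d₀ C (x ≫ d₀.S.map T'.mor₂) +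
      tr d₀ (A⟦(1 : ℤ)⟧) ((0 : A⟦(1 : ℤ)⟧ ⟶ Z) ≫ v ≫ d) at this
    rwa [comp_zero, add_zero, zero_comp, map_zero, add_zero] at this
  have hv' : ξ ≫ d₀.S.map T'.mor₃ = v ≫ d := ext_tr d₀ fun r => by
    rw [← assoc, ← tr_comm d₀, ← assoc, hξ]
    have := hL (0, r)
    change L' ((0 : C ⟶ d₀.S.obj B) ≫ u + T'.mor₃ ≫ r) = tr d₀ C ((0 : C ⟶ d₀.S.obj B) ≫ d₀.S.map T'.mor₂) +
      tr d₀ (A⟦(1 : ℤ)⟧) (r ≫ v ≫ d) at this
    rwa [zero_comp, zero_add, zero_comp, map_zero, zero_add] at this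
  have hv : ξ ≫ d₀.S.map T'.mor₃ ≫ inv d = v := by rw [← assoc, hv', assoc, IsIso.hom_inv_id, comp_id]
  have exS : ∀ {A B D : T} (a : A ⟶ B) (b : B ⟶ D),
      (∀ (Y : T) (f : B ⟶ Y), a ≫ f = 0 → ∃ g, f = b ≫ g) →
      ∀ (Y : T) (x : Y ⟶ d₀.S.obj B), x ≫ d₀.S.map b = 0 → ∃ y, x = y ≫ d₀.S.map a := by
    intro A B D a b h Y x hx
    exact exact_of_exact d₀ a b h Y x hx
  have hbij : ∀ Y : T, Function.Bijective fun x : Y ⟶ Z => x ≫ ξ := by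
    intro Y
    refine ⟨fun a b hab => sub_eq_zero.1 ?_, fun x => ?_⟩
    · have h0 : (a - b) ≫ ξ = 0 := by rw [Preadditive.sub_comp, sub_eq_zero]; exact hab
      obtain ⟨y, hy⟩ : ∃ y : Y ⟶ d₀.S.obj T'.obj₂, a - b = y ≫ u :=
        Triangle.coyoneda_exact₃ _ hZ (a - b) (by
          show (a - b) ≫ v = 0
          rw [← hv, ← assoc, h0, zero_comp])
      obtain ⟨p, hp⟩ := exS T'.mor₁ T'.mor₂ (fun W x hx => Triangle.yoneda_exact₂ T' hT x hx) Y y (by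
        rw [← hu, ← assoc, ← hy, h0])
      rw [hy, hp]
      refine (assoc _ _ _).trans ?_
      rw [show d₀.S.map T'.mor₁ ≫ u = 0 from comp_distTriang_mor_zero₁₂ _ hZ, comp_zero]
    · let x' : Y ⟶ (d₀.S.obj A)⟦(1 : ℤ)⟧ := x ≫ d₀.S.map T'.mor₃ ≫ inv d
      obtain ⟨r, hr⟩ : ∃ r : Y ⟶ Z, x' = r ≫ v := Triangle.coyoneda_exact₁ _ hZ x' (by
        show (x ≫ d₀.S.map T'.mor₃ ≫ inv d) ≫ (d₀.S.map T'.mor₁)⟦(1 : ℤ)⟧' = 0
        have hn : inv d ≫ (d₀.S.map T'.mor₁)⟦(1 : ℤ)⟧' =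
            d₀.S.map (T'.mor₁⟦(1 : ℤ)⟧') ≫ (eIso d₀).hom.app B :=
          ((eIso d₀).hom.naturality T'.mor₁).symm
        rw [assoc, assoc, hn, ← assoc (d₀.S.map T'.mor₃), ← Functor.map_comp,
          comp_distTriang_mor_zero₃₁ T' hT, Functor.map_zero, zero_comp, comp_zero])
      change x ≫ d₀.S.map T'.mor₃ ≫ inv d = r ≫ v at hr
      obtain ⟨y, hy⟩ := exS T'.mor₂ T'.mor₃ (fun W x hx => Triangle.yoneda_exact₃ T' hT x hx) Y (x - r ≫ ξ) (by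
        rw [← cancel_mono (inv d), zero_comp, Preadditive.sub_comp, Preadditive.sub_comp, assoc, assoc, assoc,
          hv, hr, sub_self])
      refine ⟨r + y ≫ u, ?_⟩
      show (r + y ≫ u) ≫ ξ = x
      rw [Preadditive.add_comp, assoc, hu, ← hy]
      abel
  have : IsIso ξ := by
    obtain ⟨g, hg⟩ := (hbij _).2 (𝟙 _)
    refine ⟨g, (hbij _).1 ?_, hg⟩
    show (ξ ≫ g) ≫ ξ = 𝟙 _ ≫ ξ
    rw [assoc, show g ≫ ξ = 𝟙 _ from hg, comp_id, id_comp]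
  refine isomorphic_distinguished _ hZ _ (Triangle.isoMk _ _ (Iso.refl _) (Iso.refl _) (asIso ξ).symm ?_ ?_ ?_)
  · exact (comp_id _).trans (id_comp _).symm
  · show d₀.S.map T'.mor₂ ≫ inv ξ = 𝟙 _ ≫ u
    rw [id_comp, IsIso.comp_inv_eq, hu]
  · show (d₀.S.map T'.mor₃ ≫ (eIso d₀).hom.app T'.obj₁) ≫ (𝟙 _)⟦(1 : ℤ)⟧' = inv ξ ≫ v
    rw [CategoryTheory.Functor.map_id]
    refine (comp_id _).trans ?_
    rw [IsIso.eq_inv_comp]
    exact hv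

/-- A universal map from the image is an isomorphism when the image has no orthogonal. -/
theorem isIso_of_universal {K L : T} (ε : d₀.S.obj L ⟶ K)
    (hε : ∀ A : T, Function.Bijective fun a : A ⟶ L => d₀.S.map a ≫ ε)
    (horth : ∀ C : T, (∀ (A : T) (f : d₀.S.obj A ⟶ C), f = 0) → IsZero C) : IsIso ε := by
  obtain ⟨C, q, δ, hT⟩ := distinguished_cocone_triangle ε
  suffices IsZero C from (Triangle.isZero₃_iff_isIso₁ _ hT).1 this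
  refine horth C fun A g => ?_
  let A' := A⟦(-1 : ℤ)⟧
  let e : A'⟦(1 : ℤ)⟧ ≅ A := (shiftFunctorCompIsoId T (-1 : ℤ) 1 (by simp)).app A
  haveI := isIso_dApp d₀ A'
  let m : (d₀.S.obj A')⟦(1 : ℤ)⟧ ≅ d₀.S.obj A := asIso (dApp d₀ A') ≪≫ d₀.S.mapIso e
  obtain ⟨ψ, hψ⟩ := (shiftFunctor T (1 : ℤ)).map_surjective (m.hom ≫ g ≫ δ)
  have h1 : ψ ≫ ε = 0 := (shiftFunctor T (1 : ℤ)).map_injective (by
    rw [Functor.map_comp, hψ, assoc, assoc,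
      show δ ≫ ε⟦(1 : ℤ)⟧' = 0 from comp_distTriang_mor_zero₃₁ _ hT, comp_zero, comp_zero, Functor.map_zero])
  obtain ⟨a, rfl⟩ := (d₀.map_bijective A' L).2 ψ
  have h2 : a = 0 := (hε A').1 (by
    show d₀.S.map a ≫ ε = d₀.S.map 0 ≫ ε
    rw [h1, Functor.map_zero, zero_comp])
  rw [h2, Functor.map_zero, Functor.map_zero] at hψ
  obtain ⟨h, hh⟩ : ∃ h : d₀.S.obj A ⟶ K, g = h ≫ q :=
    Triangle.coyoneda_exact₃ _ hT g ((cancel_epi m.hom).1 (hψ.symm.trans comp_zero.symm))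
  obtain ⟨b, rfl⟩ := (hε A).2 h
  rw [hh, assoc, show ε ≫ q = 0 from comp_distTriang_mor_zero₁₂ _ hT, comp_zero]

end Groth.Agent.H9Misc.SerreRight
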