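import Mathlib.CategoryTheory.Triangulated.Functor
import Mathlib.CategoryTheory.HomCongr

/-!
# Bijectivity of a triangulated functor on morphisms
-/

set_option linter.style.haveILetI false
set_option maxHeartbeats 400000

universe v v' u u'

open CategoryTheory CategoryTheory.Category CategoryTheory.Limits CategoryTheory.Pretriangulated
open scoped ZeroObject

namespace Groth.Agent.H9Misc.SibGen

variable {C : Type u} [Category.{v} C] [Preadditive C] [HasZeroObject C] [HasShift C ℤ]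
  [∀ n : ℤ, (shiftFunctor C n).Additive] [Pretriangulated C]
  {D : Type u'} [Category.{v'} D] [Preadditive D] [HasZeroObject D] [HasShift D ℤ]
  [∀ n : ℤ, (shiftFunctor D n).Additive] [Pretriangulated D]
  (F : C ⥤ D) [F.CommShift ℤ] [F.IsTriangulated]

/-- The functor is bijective on the morphisms from `K` to `L`. -/
def B (K L : C) : Prop := Function.Bijective (fun f : K ⟶ L => F.map f)

variable {F}

omit [Preadditive C] [HasZeroObject C] [HasShift C ℤ] [∀ n : ℤ, (shiftFunctor C n).Additive] [Pretriangulated C]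
  [Preadditive D] [HasZeroObject D] [HasShift D ℤ] [∀ n : ℤ, (shiftFunctor D n).Additive] [Pretriangulated D]
  [F.CommShift ℤ] [F.IsTriangulated] in
lemma B.of_iso {K K' L L' : C} (h : B F K L) (a : K ≅ K') (b : L ≅ L') : B F K' L' := by
  refine ⟨fun f f' hf => ?_, fun ω => ?_⟩
  · have h1 : a.hom ≫ f ≫ b.inv = a.hom ≫ f' ≫ b.inv := h.1 (by
      simp only [Functor.map_comp]
      exact congrArg (fun t => F.map a.hom ≫ t ≫ F.map b.inv) hf)
    simpa using h1
  · obtain ⟨f, hf⟩ := h.2 (F.map a.hom ≫ ω ≫ F.map b.inv)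
    refine ⟨a.inv ≫ f ≫ b.hom, ?_⟩
    simp only [Functor.map_comp, show F.map f = _ from hf]
    simp [← Functor.map_comp_assoc, ← Functor.map_comp]

omit [Preadditive C] [HasZeroObject C] [∀ n : ℤ, (shiftFunctor C n).Additive] [Pretriangulated C]
  [Preadditive D] [HasZeroObject D] [∀ n : ℤ, (shiftFunctor D n).Additive] [Pretriangulated D]
  [F.IsTriangulated] in
lemma B.shift {K L : C} (h : B F K L) (n : ℤ) : B F (K⟦n⟧) (L⟦n⟧) := by
  let e := F.commShiftIso n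
  have hC : Function.Bijective fun f : K ⟶ L => f⟦n⟧' :=
    (Functor.FullyFaithful.ofFullyFaithful (shiftFunctor C n)).map_bijective K L
  have hD : Function.Bijective fun f : F.obj K ⟶ F.obj L => f⟦n⟧' :=
    (Functor.FullyFaithful.ofFullyFaithful (shiftFunctor D n)).map_bijective _ _
  refine (Function.Bijective.of_comp_iff _ hC).1 ?_
  have he : ((fun g : K⟦n⟧ ⟶ L⟦n⟧ => F.map g) ∘ fun f : K ⟶ L => f⟦n⟧') =
      (Iso.homCongr ((e.app K).symm) ((e.app L).symm)) ∘ (fun f : F.obj K ⟶ F.obj L => f⟦n⟧') ∘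
        fun f : K ⟶ L => F.map f := by
    funext f
    show F.map (f⟦n⟧') = e.hom.app K ≫ (F.map f)⟦n⟧' ≫ e.inv.app L
    have h2 : F.map (f⟦n⟧') ≫ e.hom.app L = e.hom.app K ≫ (F.map f)⟦n⟧' := e.hom.naturality f
    rw [← assoc, ← h2, assoc, e.hom_inv_id_app]
    exact (comp_id _).symm
  rw [he]
  exact (Iso.homCongr _ _).bijective.comp (hD.comp h)

/-- Extensions in the second variable. -/
lemma B.of_triangle_right {K : C} (T : Triangle C) (hT : T ∈ distTriang C) (h1 : B F K T.obj₁) (h3 : B F K T.obj₃)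
    (h0 : B F K T.invRotate.obj₁) (h4 : B F K (T.obj₁⟦(1 : ℤ)⟧)) : B F K T.obj₂ := by
  have hT' := inv_rot_of_distTriang _ hT
  refine ⟨(injective_iff_map_eq_zero (F.mapAddHom : (K ⟶ T.obj₂) →+ _)).2 fun f hf => ?_, fun ω => ?_⟩
  · change F.map f = 0 at hf
    obtain ⟨g, rfl⟩ := Triangle.coyoneda_exact₂ _ hT f (h3.1 (by simp [hf]))
    obtain ⟨z, hz⟩ := Triangle.coyoneda_exact₂ _ (F.map_distinguished _ hT') (F.map g) (by
      show F.map g ≫ F.map T.mor₁ = 0
      rw [← Functor.map_comp, hf])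
    obtain ⟨z₀, rfl⟩ := h0.2 z
    obtain rfl : g = z₀ ≫ T.invRotate.mor₁ := h1.1 (by
      show F.map g = F.map (z₀ ≫ T.invRotate.mor₁)
      rw [Functor.map_comp]; exact hz)
    exact (assoc _ _ _).trans ((congrArg (z₀ ≫ ·) (comp_distTriang_mor_zero₁₂ _ hT')).trans comp_zero)
  · obtain ⟨h, hh⟩ := h3.2 (ω ≫ F.map T.mor₂)
    change F.map h = _ at hh
    obtain ⟨f, rfl⟩ := Triangle.coyoneda_exact₃ _ hT h (h4.1 (by
      show F.map (h ≫ T.mor₃) = F.map 0
      rw [Functor.map_comp, hh, assoc, ← Functor.map_comp, comp_distTriang_mor_zero₂₃ _ hT]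
      simp))
    obtain ⟨z, hz⟩ := Triangle.coyoneda_exact₂ _ (F.map_distinguished _ hT) (ω - F.map f) (by
      show (ω - F.map f) ≫ F.map T.mor₂ = 0
      rw [Preadditive.sub_comp, ← hh, Functor.map_comp, sub_self])
    obtain ⟨z₀, rfl⟩ := h1.2 z
    refine ⟨f + z₀ ≫ T.mor₁, ?_⟩
    show F.map (f + z₀ ≫ T.mor₁) = ω
    rw [Functor.map_add, Functor.map_comp, show F.map z₀ ≫ F.map T.mor₁ = ω - F.map f from hz.symm, add_sub_cancel]

/-- Extensions in the first variable. -/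
lemma B.of_triangle_left {L : C} (T : Triangle C) (hT : T ∈ distTriang C) (h1 : B F T.obj₁ L) (h3 : B F T.obj₃ L)
    (h0 : B F T.invRotate.obj₁ L) (h4 : B F (T.obj₁⟦(1 : ℤ)⟧) L) : B F T.obj₂ L := by
  have hT' := inv_rot_of_distTriang _ hT
  have hT'' := rot_of_distTriang _ hT
  refine ⟨(injective_iff_map_eq_zero (F.mapAddHom : (T.obj₂ ⟶ L) →+ _)).2 fun f hf => ?_, fun ω => ?_⟩
  · change F.map f = 0 at hf
    obtain ⟨g, rfl⟩ := Triangle.yoneda_exact₂ _ hT f (h1.1 (by simp [hf]))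
    obtain ⟨z, hz⟩ := Triangle.yoneda_exact₂ _ (F.map_distinguished _ hT'') (F.map g) (by
      show F.map T.mor₂ ≫ F.map g = 0
      rw [← Functor.map_comp, hf])
    obtain ⟨z₀, rfl⟩ := h4.2 z
    obtain rfl : g = T.mor₃ ≫ z₀ := h3.1 (by
      show F.map g = F.map (T.mor₃ ≫ z₀)
      rw [Functor.map_comp]; exact hz)
    rw [← assoc, comp_distTriang_mor_zero₂₃ _ hT, zero_comp]
  · obtain ⟨h, hh⟩ := h1.2 (F.map T.mor₁ ≫ ω)
    change F.map h = _ at hh
    let m : T.invRotate.obj₁ ⟶ T.obj₁ := T.invRotate.mor₁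
    have h5 : m ≫ h = 0 := h0.1 (by
      show F.map (m ≫ h) = F.map 0
      rw [Functor.map_comp, hh, ← assoc, ← Functor.map_comp]
      refine (congrArg (fun t => F.map t ≫ ω) (?_ : _ = (0 : T.invRotate.obj₁ ⟶ T.obj₂))).trans
        (by rw [Functor.map_zero, Functor.map_zero]; exact zero_comp)
      exact comp_distTriang_mor_zero₁₂ _ hT')
    obtain ⟨f, hf⟩ : ∃ f : T.obj₂ ⟶ L, h = T.mor₁ ≫ f := Triangle.yoneda_exact₂ _ hT' h h5
    obtain ⟨z, hz⟩ := Triangle.yoneda_exact₂ _ (F.map_distinguished _ hT) (ω - F.map f) (by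
      show F.map T.mor₁ ≫ (ω - F.map f) = 0
      rw [Preadditive.comp_sub, ← hh, hf, Functor.map_comp, sub_self])
    obtain ⟨z₀, rfl⟩ := h3.2 z
    refine ⟨f + T.mor₂ ≫ z₀, ?_⟩
    show F.map (f + T.mor₂ ≫ z₀) = ω
    rw [Functor.map_add, Functor.map_comp, show F.map T.mor₂ ≫ F.map z₀ = ω - F.map f from hz.symm, add_sub_cancel]

/-- Injectivity by effacement. -/
lemma inj_eff (T : Triangle C) (hT : T ∈ distTriang C) {L : C} (h3 : B F T.obj₃ L) (h4 : B F (T.obj₁⟦(1 : ℤ)⟧) L)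
    (ξ : T.obj₂ ⟶ L) (hξ : T.mor₁ ≫ ξ = 0) (hFξ : F.map ξ = 0) : ξ = 0 := by
  obtain ⟨η, rfl⟩ := Triangle.yoneda_exact₂ _ hT ξ hξ
  obtain ⟨z, hz⟩ := Triangle.yoneda_exact₂ _ (F.map_distinguished _ (rot_of_distTriang _ hT)) (F.map η) (by
    show F.map T.mor₂ ≫ F.map η = 0
    rw [← Functor.map_comp, hFξ])
  obtain ⟨z₀, rfl⟩ := h4.2 z
  obtain rfl : η = T.mor₃ ≫ z₀ := h3.1 (by
    show F.map η = F.map (T.mor₃ ≫ z₀)
    rw [Functor.map_comp]; exact hz)
  rw [← assoc, comp_distTriang_mor_zero₂₃ _ hT, zero_comp]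

/-- Surjectivity by effacement. -/
lemma surj_eff (T : Triangle C) (hT : T ∈ distTriang C) {L : C} (h3 : B F T.obj₃ L)
    (ω : F.obj T.obj₂ ⟶ F.obj L) (hω : F.map T.mor₁ ≫ ω = 0) : ∃ ξ, F.map ξ = ω := by
  obtain ⟨z, hz⟩ := Triangle.yoneda_exact₂ _ (F.map_distinguished _ hT) ω hω
  obtain ⟨z₀, rfl⟩ := h3.2 z
  exact ⟨T.mor₂ ≫ z₀, by rw [Functor.map_comp]; exact hz.symm⟩

end Groth.Agent.H9Misc.SibGen
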