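import Groth.Agent.Lib.AVSkyDual
import Mathlib.AlgebraicGeometry.ResidueField

/-! The derived dual of the skyscraper at a closed point of a regular scheme. -/

set_option autoImplicit false
set_option linter.style.haveILetI false
set_option linter.unusedSectionVars false
set_option backward.isDefEq.respectTransparency false
set_option backward.isDefEq.respectTransparency.types false
set_option maxHeartbeats 1000000

universe u

open CategoryTheory CategoryTheory.Limits AlgebraicGeometry
open RingTheory.Sequence Opposite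

attribute [local instance] HasDerivedCategory.standard

noncomputable section

namespace Groth.Agent.H9Misc.SkyDual

open Groth.Agent

/-- A closed point of a regular scheme is a regular immersion. -/
theorem isRegularImmersion_point {X : Scheme.{u}} [IsLocallyNoetherian X] (hreg : Models.IsRegularScheme X)
    {x : X} (hx : IsClosed ({x} : Set X)) {d : ℕ} (hd : ringKrullDim (X.presheaf.stalk x) = d) :
    RegImm.IsRegularImmersionOfCodim RegImm.Kind.regular d (X.fromSpecResidueField x) := by
  let e := X.fromSpecResidueField x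
  let K := X.residueField x
  haveI : IsClosedImmersion e := isClosed_singleton_iff_isClosedImmersion.mp hx
  refine ⟨inferInstance, fun z => ?_⟩
  have hez : e z = x := X.fromSpecResidueField_apply x z
  obtain ⟨D, hD, hxD, -⟩ := exists_isAffineOpen_mem_and_subset (x := e z) (U := ⊤) trivial
  obtain ⟨hD', hDs⟩ := Synt29.surjective_app_of_isClosedImmersion_restrict e D hD
  haveI := KRegLib.isRegularRing_sections (X := X) hreg hD
  haveI := KRegLib.isRegularRing_sections (X := Spec K)
    (fun q => GrpSchLib.isRegularLocalRing_stalk_of_smooth (𝟙 (Spec (CommRingCat.of (X.residueField x)))) q) hD'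
  have hk := KRegLib.kReg_of_regular (e.app D).hom hDs (hD'.primeIdealOf ⟨z, hxD⟩).asIdeal
  have hc := congrArg PrimeSpectrum.asIdeal
    (IsAffineOpen.comap_primeIdealOf_appLE (f := e) D hD (e ⁻¹ᵁ D) hD' le_rfl hxD)
  have he' : (e.appLE D (e ⁻¹ᵁ D) le_rfl).hom = (e.app D).hom := by rw [Scheme.Hom.app_eq_appLE]
  rw [PrimeSpectrum.comap_asIdeal, he'] at hc
  rw [hc] at hk
  obtain ⟨U, hxU, hcl, rs, hrs, hker⟩ := KRegLib.regImmAt_of_kReg RegImm.Kind.regular e z hD hxD hk
  refine ⟨U, hxU, hcl, rs, ?_, hrs, hker⟩
  obtain ⟨rs', hlen, hseq, hker'⟩ := H23.DiagReg.exists_stalk_seq e U z hxU rs hrs.toIsWeaklyRegular hker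
  have h1 := ringKrullDim_add_length_eq_ringKrullDim_of_isRegular rs' hseq
  haveI : Subsingleton ↥(Spec K) := inferInstanceAs (Subsingleton (PrimeSpectrum (X.residueField x)))
  have hK : ringKrullDim ((Spec K).presheaf.stalk z) = (0 : ℕ) := by
    refine H23.DiagReg.dim_stalk_closed (𝟙 (Spec (CommRingCat.of (X.residueField x)))) (le_antisymm ?_ ?_)
      (isClosed_discrete _)
    · exact topologicalKrullDim_zero_of_discreteTopology _
    · haveI : Nonempty (TopologicalSpace.IrreducibleCloseds ↥(Spec (CommRingCat.of (X.residueField x)))) :=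
        ⟨⟨{z}, isIrreducible_singleton, isClosed_discrete _⟩⟩
      exact Order.krullDim_nonneg
  have hdz : ringKrullDim (X.presheaf.stalk (e z)) = d := by rw [hez]; exact hd
  rw [← hker', ringKrullDim_eq_of_ringEquiv (RingHom.quotientKerEquivOfSurjective (e.stalkMap_surjective z)),
    hK, hdz, hlen] at h1
  have h2 : 0 + rs.length = d := by exact_mod_cast h1
  omega

/-- `RHom(κ(x), O) ≅ κ(x)[-d]`. -/
theorem nonempty_dual_point {X : Scheme.{u}} [IsLocallyNoetherian X] (hreg : Models.IsRegularScheme X)
    {x : X} (hx : IsClosed ({x} : Set X)) {d : ℕ} (hd : ringKrullDim (X.presheaf.stalk x) = d)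
    (P : X.Modules) (eP : P ≅ (Scheme.Modules.pushforward (X.fromSpecResidueField x)).obj (Coh.structureModule _))
    [DCoh.HasLTensorCx ((HomologicalComplex.single X.Modules (ComplexShape.up ℤ) 0).obj P)]
    [DCoh.HasRSheafHom ((HomologicalComplex.single X.Modules (ComplexShape.up ℤ) 0).obj P)] :
    Nonempty ((DCoh.RSheafHom ((HomologicalComplex.single X.Modules (ComplexShape.up ℤ) 0).obj P)).obj
        (DCoh.inD X (Coh.structureModule X)) ≅ (DerivedCategory.singleFunctor X.Modules (d : ℤ)).obj P) := by
  let e := X.fromSpecResidueField x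
  let K := X.residueField x
  have hreg' := isRegularImmersion_point hreg hx hd
  haveI : IsClosedImmersion e := isClosed_singleton_iff_isClosedImmersion.mp hx
  obtain ⟨L, -, hL⟩ := H28.ExtSh.exists_extPow (m := d) (RegConormal.isFinLocFree_conormal_h1 e
    (H28.DefRel.toKind e hreg' .h1))
  obtain ⟨φ, hφ⟩ := id hL
  have hLi : PicF.IsInvertible L := RegExtFormula.isInvertible_L e φ hreg' hφ
  haveI : Dual3.HasHomO e := (ClosedShriek.shriekAdj e).isLeftAdjoint
  haveI : HasInjectiveResolutions X.Modules := KFlatLib.hasInjectiveResolutions_modules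
  haveI : EnoughInjectives X.Modules := SpObjSS.enoughInjectives_of_hasInjectiveResolutions
  haveI := ClosedShriek.preservesFiniteColimits_push e
  haveI : PreservesFiniteLimits (Scheme.Modules.pushforward e) := by
    haveI := (Scheme.Modules.pullbackPushforwardAdjunction e).isRightAdjoint
    infer_instance
  haveI : Subsingleton ↥(Spec K) := inferInstanceAs (Subsingleton (PrimeSpectrum (X.residueField x)))
  obtain ⟨eL⟩ := AVSkyDual.nonempty_iso_structure_of_subsingleton hLi (IsLocalRing.closedPoint (X.residueField x))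
  let OD : DCoh.D X := DCoh.inD X (Coh.structureModule X)
  haveI : OD.IsGE 0 := inferInstanceAs (((DerivedCategory.singleFunctor X.Modules 0).obj _).IsGE 0)
  let O : DerivedCategory.Plus X.Modules := ⟨OD, 0, inferInstanceAs (OD.IsGE 0)⟩
  obtain ⟨hz, ⟨eH⟩⟩ := KExact.RegShriek.main e hreg' hL O (Iso.refl _)
  haveI : IsIso (DivisorExt.toHomUnit (Coh.structureModule (Spec K))) := DivisorExt.isIso_toHomUnit _
  let eO : (SheafHomX.hom L).obj (Coh.structureModule (Spec K)) ≅ Coh.structureModule (Spec K) :=
    ({ hom := (SheafHomX.homMap eL.inv).app _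
       inv := (SheafHomX.homMap eL.hom).app _
       hom_inv_id := by rw [← SheafHomX.homMap_comp, Iso.hom_inv_id, SheafHomX.homMap_id]
       inv_hom_id := by rw [← SheafHomX.homMap_comp, Iso.inv_hom_id, SheafHomX.homMap_id] } :
      (SheafHomX.hom L).obj (Coh.structureModule (Spec K)) ≅ _) ≪≫
      (asIso (DivisorExt.toHomUnit (Coh.structureModule (Spec K)))).symm
  obtain ⟨es⟩ := AVPoincareD.nonempty_iso_single ((Dual3.RHomOPlus e).obj O).obj (d : ℤ) _ hz (eH ≪≫ eO)
  obtain ⟨ep⟩ := KExact.RHomO.nonempty_pushD_RHomOPlus_iso e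
    ((HomologicalComplex.single X.Modules (ComplexShape.up ℤ) 0).obj P)
    (((DerivedCategory.singleFunctorIsoCompQ X.Modules 0).app P).symm ≪≫
      (DerivedCategory.singleFunctor X.Modules 0).mapIso eP)
  exact ⟨(ep.app O).symm ≪≫ (Dual3.pushD e).mapIso es ≪≫
    ((Scheme.Modules.pushforward e).mapDerivedCategorySingleFunctor (d : ℤ)).app _ ≪≫
    (DerivedCategory.singleFunctor X.Modules (d : ℤ)).mapIso eP.symm⟩

end Groth.Agent.H9Misc.SkyDual
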