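import Groth.Agent.H9Misc.GammaHomExt
import Groth.Agent.H9Misc.ExtSemilinear
import Groth.Agent.Lib.ExtShCoh

/-! Local Ext sheaves on noetherian affine spectra. -/

set_option linter.style.haveILetI false
set_option linter.unusedSectionVars false
set_option backward.isDefEq.respectTransparency false
set_option backward.isDefEq.respectTransparency.types false

universe u

open CategoryTheory CategoryTheory.Limits AlgebraicGeometry

noncomputable section

namespace Groth.Agent.H9Misc.SpecHomExt

open Groth.Agent Groth.Agent.SheafHomX ExtShShift ExtShLocal GammaPairing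

attribute [local instance] QCoh.hasFiniteBiproducts

variable {R : CommRingCat.{u}} [IsNoetherianRing R]

theorem isQCoh_cx {L : (Spec R).Modules} (hL : Coh.IsQCoh L) (I : InjectiveResolution L) : ∀ (q : ℕ)
    {M : (Spec R).Modules}, Coh.IsCoh M → Coh.IsQCoh ((ExtShShift.cx I M).homology q) := by
  haveI : IsLocallyNoetherian (Spec R) := isLocallyNoetherian_Spec.2 ‹_›
  intro q
  induction q with
  | zero => intro M hM; exact KFlatLib.isQCoh_of_iso (ExtShShift.zeroIso I M) (isQCoh_hom hM hL)
  | succ q ih =>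
    intro M hM
    obtain ⟨n, p, hp⟩ := GammaPairing.exists_free_epi (X := Spec R) hM
    let S : ShortComplex (Spec R).Modules := ShortComplex.mk (kernel.ι p) p (kernel.condition p)
    have hS : S.ShortExact := { exact := ShortComplex.exact_kernel p, epi_g := hp }
    have hP : Coh.IsCoh S.X₂ := CurveDeg.isCoh_of_isFinLocFree (KFlatLib.isFinLocFree_freeMod n)
    have hK : Coh.IsCoh S.X₁ := QCoh.isCoh_kernel hP hM p
    have hz : IsZero ((ExtShShift.cx I S.X₂).homology (q + 1)) :=
      ExtShShift.isZero_of_exact I S.X₂ (fun u hu => by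
        haveI := SheafHomY.preservesFiniteColimits_hom (KFlatLib.isFinLocFree_freeMod (X := Spec R) n)
        haveI := hu
        infer_instance) q
    obtain ⟨w, hc⟩ := ExtShShift.exists_shortExact I hS
    have hex := hc.homology_exact₃ q (q + 1) rfl
    haveI : Epi (hc.δ q (q + 1) rfl) := (hc.homology_exact₁ q (q + 1) rfl).epi_f (hz.eq_of_tgt _ _)
    exact KFlatLib.isQCoh_of_iso (IsColimit.coconePointUniqueUpToIso (cokernelIsCokernel _) hex.gIsCokernel)
      (QCoh.isQCoh_cokernel (ih hP) (ih hK) _)

/-- The ring of global functions of a spectrum. -/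
def topEquiv : R ≃+* Γ(Spec R, ⊤) := (Scheme.ΓSpecIso R).symm.commRingCatIsoToRingEquiv

theorem algebraMap_eq (r : R) : algebraMap R Γ(Spec R, ⊤) r = topEquiv r := by
  change ((Spec R).presheaf.map (⊤ : (Spec R).Opens).leTop.op) ((Scheme.ΓSpecIso R).inv r) = _
  rw [Subsingleton.elim (⊤ : (Spec R).Opens).leTop (𝟙 _), op_id, CategoryTheory.Functor.map_id]
  rfl

/-- The two functors of global sections. -/
def gammaIso (M : (Spec R).Modules) : (moduleSpecΓFunctor (R := R)).obj M ≅
    (ModuleCat.restrictScalars.{u} (topEquiv (R := R)).toRingHom).obj ((gammaTop (Spec R)).obj M) :=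
  ({ AddEquiv.refl Γ(M, ⊤) with
      map_smul' := fun r m => by
        show algebraMap R Γ(Spec R, ⊤) r • (show Γ(M, ⊤) from m) = topEquiv r • (show Γ(M, ⊤) from m)
        rw [algebraMap_eq] } :
    ((moduleSpecΓFunctor (R := R)).obj M : ModuleCat.{u} R) ≃ₗ[R]
      ((ModuleCat.restrictScalars.{u} (topEquiv (R := R)).toRingHom).obj
        ((gammaTop (Spec R)).obj M))).toModuleIso

/-- Sections of the local Ext sheaves are Ext of sections. -/
theorem nonempty_gamma_ext {L : (Spec R).Modules} (hL : Coh.IsQCoh L) (I : InjectiveResolution L)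
    {M : (Spec R).Modules} (hM : Coh.IsCoh M) (q : ℕ) :
    Nonempty ((moduleSpecΓFunctor (R := R)).obj ((cx I M).homology q) ≅
      ModuleCat.of R (Abelian.Ext.{u} ((moduleSpecΓFunctor (R := R)).obj M)
        ((moduleSpecΓFunctor (R := R)).obj L) q)) := by
  haveI : IsLocallyNoetherian (Spec R) := isLocallyNoetherian_Spec.2 ‹_›
  obtain ⟨a⟩ := GammaHomExt.nonempty_ext I hL (fun A hA i => isQCoh_cx hL I i hA) M hM q
  obtain ⟨c⟩ := ExtSemilinear.nonempty_restrict_ext_iso (topEquiv (R := R)) ((gammaTop (Spec R)).obj M)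
    ((gammaTop (Spec R)).obj L) q
  exact ⟨gammaIso _ ≪≫ (ModuleCat.restrictScalars.{u} (topEquiv (R := R)).toRingHom).mapIso a ≪≫ c ≪≫
    (LC.extCongr (gammaIso M).symm (gammaIso L).symm q).toModuleIso⟩

end Groth.Agent.H9Misc.SpecHomExt
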