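import Groth.Agent.H9Misc.SpecHomExt
import Groth.Agent.QCoh.FT

/-! Local Ext sheaves of tilde modules. -/

set_option linter.style.haveILetI false
set_option linter.unusedSectionVars false
set_option backward.isDefEq.respectTransparency false
set_option backward.isDefEq.respectTransparency.types false

universe u

open CategoryTheory CategoryTheory.Limits AlgebraicGeometry

noncomputable section

namespace Groth.Agent.H9Misc.SpecHomExt

open Groth.Agent

variable {R : CommRingCat.{u}} [IsNoetherianRing R]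

/-- `M ≅ Γ(M~)`. -/
def unitGamma (M : ModuleCat.{u} R) : M ≅ (moduleSpecΓFunctor (R := R)).obj (tilde M) :=
  tilde.toTildeΓNatIso.app M

theorem nonempty_cx_tilde (M N : ModuleCat.{u} R) [Module.Finite R M]
    (I : InjectiveResolution (C := (Spec R).Modules) (tilde N)) (q : ℕ) :
    Nonempty ((ExtShShift.cx I (tilde M)).homology q ≅
      tilde (ModuleCat.of R (Abelian.Ext.{u} M N q))) := by
  haveI : IsLocallyNoetherian (Spec R) := isLocallyNoetherian_Spec.2 ‹_›
  have hN : Coh.IsQCoh (tilde N) := inferInstanceAs (tilde N).IsQuasicoherent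
  have hM : Coh.IsCoh (tilde M) :=
    ⟨inferInstanceAs (tilde M).IsQuasicoherent, (QCoh.isFT_tilde_iff M).mpr ‹_›⟩
  obtain ⟨b⟩ := nonempty_gamma_ext hN I hM q
  let H := (ExtShShift.cx I (tilde M)).homology q
  haveI : IsIso H.fromTildeΓ :=
    (isQuasicoherent_iff_isIso_fromTildeΓ H).1 (isQCoh_cx hN I q hM)
  exact ⟨(asIso H.fromTildeΓ).symm ≪≫ (tilde.functor R).mapIso (b ≪≫
    (LC.extCongr (unitGamma M).symm (unitGamma N).symm q).toModuleIso)⟩

theorem nonempty_extSh_tilde (M N : ModuleCat.{u} R) [Module.Finite R M]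
    [ModSite.HasSheafHom (O := (Spec R).sheaf) (tilde M)]
    [HasInjectiveResolutions (ModSite.Mod (Spec R).sheaf)] (q : ℕ) :
    Nonempty (((ModSite.extSh (O := (Spec R).sheaf) (tilde M) q).obj (tilde N)) ≅
      tilde (ModuleCat.of R (Abelian.Ext.{u} M N q))) := by
  haveI : HasInjectiveResolutions (Spec R).Modules := ‹HasInjectiveResolutions (ModSite.Mod (Spec R).sheaf)›
  let I : InjectiveResolution (C := (Spec R).Modules) (tilde N) := InjectiveResolution.of _
  obtain ⟨a⟩ := ExtShShift.nonempty_extSh_iso I (tilde M) q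
  obtain ⟨b⟩ := nonempty_cx_tilde M N I q
  exact ⟨a ≪≫ b⟩

end Groth.Agent.H9Misc.SpecHomExt
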