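import Groth.Prelude.Def_DRing2
import Mathlib.Algebra.Homology.DerivedCategory.KProjective
import Mathlib.Algebra.Homology.HomotopyCategory.MappingCone
import Mathlib.Algebra.Homology.HomologicalComplexBiprod
import Mathlib.Algebra.Homology.HomologicalComplexAbelian
import Mathlib.Algebra.Category.ModuleCat.Biproducts
import Mathlib.Algebra.Category.ModuleCat.Projective
import Mathlib.RingTheory.Localization.Free
import Mathlib.RingTheory.Finiteness.Prod
import Mathlib.RingTheory.Localization.Away.Basic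
import Mathlib.RingTheory.Localization.BaseChange
import Mathlib.Algebra.Category.ModuleCat.ChangeOfRings
import Mathlib.RingTheory.LocalRing.Module
import Mathlib.Data.Int.Interval
import Groth.Agent.FlatCxLib.Field

/-! Complexes of finite projective modules isomorphic in the derived category are stably isomorphic locally. -/

universe u

open CategoryTheory CategoryTheory.Limits
open scoped TensorProduct

attribute [local instance] HasDerivedCategory.standard

namespace Groth.Agent.H9Misc.StablyIso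

variable {R : Type u} [CommRing R]

open CochainComplex

/-- Bounded complexes of finite projectives. -/
structure Good (M : DRing.Cx R) : Prop where
  bdd : ∃ a b : ℤ, DRing.VanishesOutside M a b
  fp : DRing.TermwiseFiniteProjective M

lemma Good.isKProjective {M : DRing.Cx R} (h : Good M) : M.IsKProjective := by
  obtain ⟨a, b, hz⟩ := h.bdd
  haveI : M.IsStrictlyLE b := (M.isStrictlyLE_iff b).2 fun i hi => hz i (Or.inr hi)
  haveI : ∀ n, Projective (M.X n) := fun n => by
    haveI := (h.fp n).2
    exact (IsProjective.iff_projective (R := R) (M.X n)).mp inferInstance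
  exact CochainComplex.isKProjective_of_projective M b

lemma exists_quasiIso {M N : DRing.Cx R} (hM : Good M) (e : DerivedCategory.Q.obj M ≅ DerivedCategory.Q.obj N) :
    ∃ φ : M ⟶ N, QuasiIso φ := by
  haveI := hM.isKProjective
  obtain ⟨g, hg⟩ := (CochainComplex.IsKProjective.Qh_map_bijective M ((HomotopyCategory.quotient _ _).obj N)).2
    ((DerivedCategory.quotientCompQhIso (ModuleCat.{u} R)).hom.app M ≫ e.hom ≫
      (DerivedCategory.quotientCompQhIso (ModuleCat.{u} R)).inv.app N)
  obtain ⟨φ, rfl⟩ := (HomotopyCategory.quotient _ _).map_surjective g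
  refine ⟨φ, (DerivedCategory.isIso_Q_map_iff_quasiIso _ φ).1 ?_⟩
  have := (DerivedCategory.quotientCompQhIso (ModuleCat.{u} R)).hom.naturality φ
  rw [Functor.comp_map, hg] at this
  have h2 : DerivedCategory.Q.map φ = e.hom := by
    rw [← cancel_epi ((DerivedCategory.quotientCompQhIso (ModuleCat.{u} R)).hom.app M), ← this]
    simp
  rw [h2]
  infer_instance

lemma module_projective_of_projective (X : ModuleCat.{u} R) [Projective X] : Module.Projective R X :=
  (IsProjective.iff_projective (R := R) X).mpr inferInstance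

lemma fp_of_iso {X Y : ModuleCat.{u} R} (e : X ≅ Y) (h : Module.Finite R X ∧ Module.Projective R X) :
    Module.Finite R Y ∧ Module.Projective R Y := by
  haveI := h.1; haveI := h.2
  exact ⟨Module.Finite.equiv e.toLinearEquiv, Module.Projective.of_equiv e.toLinearEquiv⟩

lemma biprod_fp {X Y : ModuleCat.{u} R} (hX : Module.Finite R X ∧ Module.Projective R X)
    (hY : Module.Finite R Y ∧ Module.Projective R Y) :
    Module.Finite R (X ⊞ Y : ModuleCat.{u} R) ∧ Module.Projective R (X ⊞ Y : ModuleCat.{u} R) := by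
  haveI := hX.1; haveI := hX.2; haveI := hY.1; haveI := hY.2
  exact fp_of_iso (ModuleCat.biprodIsoProd X Y).symm ⟨inferInstanceAs (Module.Finite R (↑X × ↑Y)),
    inferInstanceAs (Module.Projective R (↑X × ↑Y))⟩

lemma Good.biprod {M N : DRing.Cx R} (hM : Good M) (hN : Good N) : Good (M ⊞ N) := by
  obtain ⟨a, b, hz⟩ := hM.bdd
  obtain ⟨a', b', hz'⟩ := hN.bdd
  let e := fun i => (HomologicalComplex.eval (ModuleCat.{u} R) (ComplexShape.up ℤ) i).mapBiprod M N
  refine ⟨⟨min a a', max b b', fun i hi => IsZero.of_iso ((biprod_isZero_iff _ _).2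
    ⟨hz i (by omega), hz' i (by omega)⟩) (e i)⟩, fun i => ?_⟩
  exact fp_of_iso (e i).symm (biprod_fp (hM.fp i) (hN.fp i))

lemma good_coneId {M : DRing.Cx R} (hM : Good M) : Good (CochainComplex.mappingCone (𝟙 M)) := by
  obtain ⟨a, b, hz⟩ := hM.bdd
  let e := fun i => HomologicalComplex.homotopyCofiber.XIsoBiprod (𝟙 M) i (i + 1) rfl
  refine ⟨⟨a - 1, b, fun i hi => IsZero.of_iso ((biprod_isZero_iff _ _).2
    ⟨hz (i + 1) (by omega), hz i (by omega)⟩) (e i)⟩, fun i => ?_⟩
  exact fp_of_iso (e i).symm (biprod_fp (hM.fp (i + 1)) (hM.fp i))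

/-- The contractibility of the cone of the identity. -/
noncomputable def coneIdHomotopy (M : DRing.Cx R) : Homotopy (𝟙 (CochainComplex.mappingCone (𝟙 M))) 0 :=
  CochainComplex.mappingCone.liftHomotopy _ _ _ (CochainComplex.mappingCone.snd _) 0 (by simp) (by simp)

lemma exists_decomposition {M N : DRing.Cx R} (hM : Good M) (hN : Good N) (φ : M ⟶ N) [QuasiIso φ] :
    ∃ P Q : DRing.Cx R, (Good P ∧ Nonempty (Homotopy (𝟙 P) 0)) ∧ (Good Q ∧ Nonempty (Homotopy (𝟙 Q) 0)) ∧
      Nonempty (M ⊞ P ≅ N ⊞ Q) := by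
  let C := CochainComplex.mappingCone (𝟙 M)
  have hC : Good C := good_coneId hM
  let Z : DRing.Cx R := N ⊞ C
  have hZ : Good Z := hN.biprod hC
  let ψ : M ⟶ Z := biprod.lift φ (CochainComplex.mappingCone.inr (𝟙 M))
  have hr : ∀ p, ψ.f p ≫ ((biprod.snd : Z ⟶ C).f p ≫ (CochainComplex.mappingCone.snd (𝟙 M)).v p p (add_zero p)) = 𝟙 _ := by
    intro p
    rw [← Category.assoc, ← HomologicalComplex.comp_f, biprod.lift_snd]
    exact CochainComplex.mappingCone.inr_f_snd_v (𝟙 M) p
  haveI : Mono ψ := HomologicalComplex.mono_of_mono_f ψ fun p => mono_of_mono_fac (hr p)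
  let S : ShortComplex (DRing.Cx R) := ShortComplex.mk ψ (cokernel.π ψ) (cokernel.condition ψ)
  have hS : S.ShortExact := { exact := ShortComplex.exact_of_g_is_cokernel _ (cokernelIsCokernel ψ) }
  have hSp := fun p => hS.map_of_exact (HomologicalComplex.eval (ModuleCat.{u} R) (ComplexShape.up ℤ) p)
  let σ : ∀ p, (S.map (HomologicalComplex.eval (ModuleCat.{u} R) (ComplexShape.up ℤ) p)).Splitting := fun p =>
    ShortComplex.Splitting.ofExactOfRetraction _ (hSp p).exact _ (hr p) (hSp p).epi_g
  let X := cokernel ψ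
  let t : ∀ p, X.X p ⟶ Z.X p := fun p => (σ p).s
  have ht : ∀ p, t p ≫ (cokernel.π ψ).f p = 𝟙 _ := fun p => (σ p).s_g
  have hX : Good X := by
    obtain ⟨a, b, hz⟩ := hZ.bdd
    refine ⟨⟨a, b, fun i hi => ?_⟩, fun i => ?_⟩
    · rw [IsZero.iff_id_eq_zero, ← ht i, (hz i hi).eq_of_tgt (t i) 0, zero_comp]
    · haveI := (hZ.fp i).1; haveI := (hZ.fp i).2
      refine ⟨Module.Finite.of_surjective ((cokernel.π ψ).f i).hom fun x => ⟨(t i).hom x, ?_⟩,
        Module.Projective.of_split (t i).hom ((cokernel.π ψ).f i).hom ?_⟩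
      · exact congr($(ht i).hom x)
      · exact congrArg ModuleCat.Hom.hom (ht i)
  haveI : QuasiIso ψ := by
    have hp : QuasiIso (biprod.fst : Z ⟶ N) := by
      let h₀ := coneIdHomotopy M
      let e : HomotopyEquiv Z N :=
        { hom := biprod.fst
          inv := biprod.inl
          homotopyInvHomId := Homotopy.ofEq biprod.inl_fst
          homotopyHomInvId := ((Homotopy.ofEq (biprod.total (X := N) (Y := C)).symm).trans
            (((Homotopy.refl ((biprod.fst : Z ⟶ N) ≫ (biprod.inl : N ⟶ Z))).add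
              ((Homotopy.ofEq (by simp [Z] : (biprod.snd : Z ⟶ C) ≫ biprod.inr = biprod.snd ≫ 𝟙 C ≫ biprod.inr)).trans
                ((((h₀.compRight (biprod.inr : C ⟶ Z))).compLeft (biprod.snd : Z ⟶ C)).trans
                  (Homotopy.ofEq (by simp [Z] : (biprod.snd : Z ⟶ C) ≫ (0 : C ⟶ C) ≫ biprod.inr = (0 : Z ⟶ Z)))))).trans
              (Homotopy.ofEq (add_zero _)))).symm }
      exact HomotopyEquiv.quasiIso_hom e
    haveI := hp
    haveI : QuasiIso (ψ ≫ (biprod.fst : Z ⟶ N)) := by simpa [ψ, Z] using (inferInstance : QuasiIso φ)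
    exact quasiIso_of_comp_right ψ (biprod.fst : Z ⟶ N)
  have hXac : HomologicalComplex.Acyclic X := hS.acyclic_X₃ inferInstance
  haveI := hX.isKProjective
  obtain ⟨h⟩ := CochainComplex.IsKProjective.nonempty_homotopy_zero (𝟙 X) hXac
  let q : ∀ i j, X.X i ⟶ Z.X j := fun i j => h.hom i j ≫ t j
  let s : X ⟶ Z := Homotopy.nullHomotopicMap q
  have hs : s ≫ cokernel.π ψ = 𝟙 X := by
    rw [Homotopy.nullHomotopicMap_comp]
    simp only [q, Category.assoc, ht, Category.comp_id]
    ext i : 1
    rw [h.comm i, HomologicalComplex.zero_f, add_zero]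
    rfl
  let sp : S.Splitting := ShortComplex.Splitting.ofExactOfSection S hS.exact s hs hS.mono_f
  exact ⟨X, C, ⟨hX, ⟨h⟩⟩, ⟨hC, ⟨coneIdHomotopy M⟩⟩, ⟨sp.isoBinaryBiproduct.symm⟩⟩

lemma obj_free_aux {B : Type u} [CommRing B] (φ : R →+* B) (N : ModuleCat.{u} R) (inst : Algebra R B)
    (hinst : inst = φ.toAlgebra) [Module.Finite R N] (h : letI := inst; Module.Free B (B ⊗[R] N)) :
    Module.Finite B ((ModuleCat.extendScalars φ).obj N) ∧ Module.Free B ((ModuleCat.extendScalars φ).obj N) := by
  subst hinst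
  let := φ.toAlgebra
  have := h
  exact ⟨inferInstanceAs (Module.Finite B (B ⊗[R] N)), inferInstanceAs (Module.Free B (B ⊗[R] N))⟩

lemma exists_free_away (p : Ideal R) [p.IsPrime] (M : Type u) [AddCommGroup M] [Module R M] [Module.Finite R M]
    [Module.Projective R M] : ∃ g, g ∉ p ∧ Module.Free (Localization.Away g) (Localization.Away g ⊗[R] M) := by
  haveI : Module.FinitePresentation R M := Module.finitePresentation_of_projective R M
  let L := Localization.AtPrime p
  haveI : IsLocalizedModule p.primeCompl (TensorProduct.mk R L M 1) :=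
    (isLocalizedModule_iff_isBaseChange p.primeCompl L _).2 (TensorProduct.isBaseChange R M L)
  haveI : Module.Free L (L ⊗[R] M) := Module.free_of_flat_of_isLocalRing
  obtain ⟨r, hr, h, -⟩ := Module.FinitePresentation.exists_free_localizedModule_powers p.primeCompl
    (TensorProduct.mk R L M 1) L
  haveI := h
  exact ⟨r, hr, Module.Free.of_equiv (LocalizedModule.equivTensorProduct (Submonoid.powers r) M)⟩

lemma free_away_of_dvd {M : Type u} [AddCommGroup M] [Module R M] {g f : R} (hgf : g ∣ f)
    [Module.Free (Localization.Away g) (Localization.Away g ⊗[R] M)] :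
    Module.Free (Localization.Away f) (Localization.Away f ⊗[R] M) := by
  have hu : IsUnit (algebraMap R (Localization.Away f) g) :=
    isUnit_of_dvd_unit (map_dvd _ hgf) (IsLocalization.Away.algebraMap_isUnit f)
  letI : Algebra (Localization.Away g) (Localization.Away f) := (IsLocalization.Away.lift g hu).toAlgebra
  haveI : IsScalarTower R (Localization.Away g) (Localization.Away f) :=
    IsScalarTower.of_algebraMap_eq' (IsLocalization.Away.lift_comp g hu).symm
  exact Module.Free.of_equiv
    (TensorProduct.AlgebraTensorModule.cancelBaseChange R (Localization.Away g) (Localization.Away f) (Localization.Away f) M)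

/-- Localization of complexes. -/
noncomputable abbrev away (f : R) : DRing.Cx R ⥤ DRing.Cx (Localization.Away f) :=
  (ModuleCat.extendScalars (algebraMap R (Localization.Away f))).mapHomologicalComplex (ComplexShape.up ℤ)

/-- Being a trivial complex. -/
def Trivial {A : Type u} [CommRing A] (P : DRing.Cx A) : Prop :=
  (∃ a' b' : ℤ, DRing.VanishesOutside P a' b') ∧ DRing.TermwiseFiniteFree P ∧
    (∀ i : ℤ, Module.Free A (LinearMap.range (P.d i (i + 1)).hom)) ∧ Nonempty (Homotopy (𝟙 P) 0)

lemma range_free_aux {B : Type u} [CommRing B] (φ : R →+* B) {X Y : ModuleCat.{u} R} (d : X ⟶ Y)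
    (π : Y →ₗ[R] LinearMap.range d.hom) (hπ : π.comp (LinearMap.range d.hom).subtype = LinearMap.id)
    (inst : Algebra R B) (hinst : inst = φ.toAlgebra)
    (h : letI := inst; Module.Free B (B ⊗[R] LinearMap.range d.hom)) :
    Module.Free B (LinearMap.range ((ModuleCat.extendScalars φ).map d).hom) := by
  subst hinst
  let := φ.toAlgebra
  have := h
  show Module.Free B (LinearMap.range (d.hom.baseChange B))
  have hsub : Function.Injective ((LinearMap.range d.hom).subtype.baseChange B) := by
    refine Function.LeftInverse.injective (g := π.baseChange B) fun x => ?_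
    rw [← LinearMap.comp_apply, ← LinearMap.baseChange_comp, hπ, LinearMap.baseChange_id]
    rfl
  have e1 : d.hom.baseChange B =
      ((LinearMap.range d.hom).subtype.baseChange B).comp (d.hom.rangeRestrict.baseChange B) := by
    rw [← LinearMap.baseChange_comp]
    rfl
  have hs : Function.Surjective (d.hom.rangeRestrict.baseChange B) :=
    LinearMap.lTensor_surjective B d.hom.surjective_rangeRestrict
  rw [e1, LinearMap.range_comp_of_range_eq_top _ (LinearMap.range_eq_top.2 hs)]
  exact Module.Free.of_equiv (LinearEquiv.ofInjective _ hsub)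

theorem exists_trivial_away (p : Ideal R) [p.IsPrime] {X : DRing.Cx R} (hX : Good X) (h : Homotopy (𝟙 X) 0) :
    ∃ g, g ∉ p ∧ ∀ f, g ∣ f → Trivial ((away f).obj X) := by
  classical
  obtain ⟨a, b, hz⟩ := hX.bdd
  have hdhd : ∀ i : ℤ, X.d i (i + 1) ≫ h.hom (i + 1) i ≫ X.d i (i + 1) = X.d i (i + 1) := by
    intro i
    have h1 := h.comm (i + 1)
    rw [dNext_eq _ (show (ComplexShape.up ℤ).Rel (i + 1) (i + 1 + 1) by simp),
      prevD_eq _ (show (ComplexShape.up ℤ).Rel i (i + 1) by simp), HomologicalComplex.zero_f, add_zero,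
      HomologicalComplex.id_f] at h1
    conv_rhs => rw [← Category.comp_id (X.d i (i + 1)), h1]
    simp
  let π : ∀ i : ℤ, X.X (i + 1) →ₗ[R] LinearMap.range (X.d i (i + 1)).hom := fun i =>
    (X.d i (i + 1)).hom.rangeRestrict.comp (h.hom (i + 1) i).hom
  have hπ : ∀ i : ℤ, (π i).comp (LinearMap.range (X.d i (i + 1)).hom).subtype = LinearMap.id := by
    intro i
    ext ⟨y, x, rfl⟩
    exact congr($(hdhd i).hom x)
  have hfr : ∀ i : ℤ, Module.Finite R (LinearMap.range (X.d i (i + 1)).hom) ∧
      Module.Projective R (LinearMap.range (X.d i (i + 1)).hom) := fun i => by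
    haveI := (hX.fp (i + 1)).1; haveI := (hX.fp (i + 1)).2
    exact ⟨Module.Finite.of_surjective (π i) fun y => ⟨y, congr($(hπ i) y)⟩,
      Module.Projective.of_split (LinearMap.range (X.d i (i + 1)).hom).subtype (π i) (hπ i)⟩
  choose g hg₁ hg₂ using fun i => (haveI := (hX.fp i).1; haveI := (hX.fp i).2; exists_free_away p (X.X i) :
    ∃ g, g ∉ p ∧ Module.Free (Localization.Away g) (Localization.Away g ⊗[R] X.X i))
  choose k hk₁ hk₂ using fun i => (haveI := (hfr i).1; haveI := (hfr i).2;
    exists_free_away p (LinearMap.range (X.d i (i + 1)).hom) :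
    ∃ g, g ∉ p ∧ Module.Free (Localization.Away g) (Localization.Away g ⊗[R] LinearMap.range (X.d i (i + 1)).hom))
  refine ⟨∏ i ∈ Finset.Icc (a - 1) b, g i * k i, fun hmem => ?_, fun f hf => ?_⟩
  · obtain ⟨i, -, hi⟩ := (Ideal.IsPrime.prod_mem_iff (p := p)).1 hmem
    exact ((Ideal.IsPrime.mem_or_mem inferInstance hi).elim (hg₁ i) (hk₁ i))
  let φ := algebraMap R (Localization.Away f)
  have hdvd : ∀ i, a - 1 ≤ i → i ≤ b → g i ∣ f ∧ k i ∣ f := fun i h1 h2 =>
    have := (Finset.dvd_prod_of_mem (fun i => g i * k i) (Finset.mem_Icc.2 ⟨h1, h2⟩)).trans hf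
    ⟨(dvd_mul_right _ _).trans this, (dvd_mul_left _ _).trans this⟩
  have hzf : ∀ i, i < a ∨ b < i → IsZero (((away f).obj X).X i) := fun i hi =>
    (ModuleCat.extendScalars φ).map_isZero (hz i hi)
  refine ⟨⟨a, b, hzf⟩, fun i => ?_, fun i => ?_, ⟨((ModuleCat.extendScalars φ).mapHomotopy h).trans (Homotopy.ofEq (by simp)) |> fun H =>
    (Homotopy.ofEq (((away f).map_id X).symm)).trans H⟩⟩
  · by_cases hi : i < a ∨ b < i
    · haveI := ModuleCat.subsingleton_of_isZero (hzf i hi)
      exact ⟨inferInstance, inferInstance⟩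
    · haveI := (hX.fp i).1
      haveI := hg₂ i
      haveI := free_away_of_dvd (M := X.X i) (hdvd i (by omega) (by omega)).1
      exact obj_free_aux φ (X.X i) inferInstance (Algebra.algebra_ext _ _ fun _ => rfl) inferInstance
  · by_cases hi : i + 1 < a ∨ b < i + 1
    · haveI := ModuleCat.subsingleton_of_isZero (hzf (i + 1) hi)
      infer_instance
    · haveI := hk₂ i
      haveI := free_away_of_dvd (M := LinearMap.range (X.d i (i + 1)).hom) (hdvd i (by omega) (by omega)).2
      exact range_free_aux φ (X.d i (i + 1)) (π i) (hπ i) inferInstance (Algebra.algebra_ext _ _ fun _ => rfl) inferInstance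

theorem main (p : Ideal R) [p.IsPrime] {M N : DRing.Cx R} (hM : Good M) (hN : Good N)
    (e : DerivedCategory.Q.obj M ≅ DerivedCategory.Q.obj N) :
    ∃ f : R, f ∉ p ∧ ∃ P Q : DRing.Cx (Localization.Away f), Trivial P ∧ Trivial Q ∧
      Nonempty ((away f).obj M ⊞ P ≅ (away f).obj N ⊞ Q) := by
  obtain ⟨φ, hφ⟩ := exists_quasiIso hM e
  obtain ⟨P, Q, ⟨hP, ⟨hP'⟩⟩, ⟨hQ, ⟨hQ'⟩⟩, ⟨d⟩⟩ := exists_decomposition hM hN φ
  obtain ⟨g₁, hg₁, h₁⟩ := exists_trivial_away p hP hP'
  obtain ⟨g₂, hg₂, h₂⟩ := exists_trivial_away p hQ hQ'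
  haveI : (away (g₁ * g₂)).Additive := inferInstance
  haveI := preservesBinaryBiproducts_of_preservesBiproducts (away (g₁ * g₂))
  refine ⟨g₁ * g₂, fun h => (Ideal.IsPrime.mem_or_mem inferInstance h).elim hg₁ hg₂, _, _,
    h₁ _ (dvd_mul_right _ _), h₂ _ (dvd_mul_left _ _),
    ⟨((away (g₁ * g₂)).mapBiprod M P).symm ≪≫ (away (g₁ * g₂)).mapIso d ≪≫ (away (g₁ * g₂)).mapBiprod N Q⟩⟩

end Groth.Agent.H9Misc.StablyIso
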