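import Mathlib.Algebra.Homology.Refinements
import Mathlib.Algebra.Homology.Embedding.CochainComplex
import Mathlib.Algebra.Homology.QuasiIso
import Mathlib.Algebra.Homology.Additive
import Mathlib.CategoryTheory.Abelian.SerreClass.Basic
import Mathlib.CategoryTheory.Abelian.Refinements
import Mathlib.CategoryTheory.Preadditive.AdditiveFunctor
import Mathlib.CategoryTheory.Subobject.Lattice

/-! Bounded above complexes with cohomology in a Serre class contain quasi-isomorphic subcomplexes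
with terms in the class. -/

universe v u

open CategoryTheory Category Limits ZeroObject

namespace Groth.Agent.H9Misc.SubcomplexP

variable {A : Type u} [Category.{v} A] [Abelian A] (P : ObjectProperty A) [P.IsSerreClass]
  (hlift : ∀ (X Y : A) (π : X ⟶ Y), Epi π → P Y → ∃ (X' : A) (i : X' ⟶ X), Mono i ∧ P X' ∧ Epi (i ≫ π))
  (K : CochainComplex A ℤ) (hH : ∀ n, P (K.homology n))

/-- A term of the subcomplex in degree `n`. -/
structure Sub (n : ℤ) where
  X : A
  i : X ⟶ K.X n
  mono : Mono i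
  mem : P X

attribute [instance] Sub.mono

omit [P.IsSerreClass] in
@[reassoc]
lemma imgFac {X Y : A} (f : X ⟶ Y) : Abelian.factorThruImage f ≫ Abelian.image.ι f = f :=
  Abelian.image.fac f

/-- The conditions linking two consecutive terms. -/
def Good {n n' : ℤ} (S : Sub P K n') (T : Sub P K n) : Prop :=
  (∃ e : T.X ⟶ S.X, e ≫ S.i = T.i ≫ K.d n n') ∧
  (∀ ⦃T₀ : A⦄ (y : T₀ ⟶ S.X) (z : T₀ ⟶ K.X n), y ≫ S.i = z ≫ K.d n n' →
    ∃ (T₁ : A) (π : T₁ ⟶ T₀) (_ : Epi π) (x : T₁ ⟶ T.X), π ≫ y ≫ S.i = x ≫ T.i ≫ K.d n n') ∧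
  (∀ ⦃T₀ : A⦄ (z : T₀ ⟶ K.X n), z ≫ K.d n n' = 0 →
    ∃ (T₁ : A) (π : T₁ ⟶ T₀) (_ : Epi π) (x : T₁ ⟶ T.X) (_ : x ≫ T.i ≫ K.d n n' = 0)
      (c : T₁ ⟶ K.X (n - 1)), π ≫ z = x ≫ T.i + c ≫ K.d (n - 1) n)

include hlift hH in
lemma exists_good {n n' : ℤ} (h : n + 1 = n') (S : Sub P K n') : ∃ T : Sub P K n, Good P K S T := by
  let W := pullback (K.d n n') S.i
  let p : W ⟶ S.X := pullback.snd _ _
  obtain ⟨X₁, i₁, hi₁, hX₁, hep₁⟩ := hlift W (Abelian.image p) (Abelian.factorThruImage p)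
    inferInstance (P.prop_of_mono (Abelian.image.ι p) S.mem)
  obtain ⟨X₂, i₂, hi₂, hX₂, hep₂⟩ := hlift _ _ (K.homologyπ n) inferInstance (hH n)
  let j₂ : X₂ ⟶ W := pullback.lift (i₂ ≫ K.iCycles n) 0 (by simp)
  have hj₂ : j₂ ≫ pullback.fst (K.d n n') S.i = i₂ ≫ K.iCycles n := pullback.lift_fst _ _ _
  let q : X₁ ⊞ X₂ ⟶ W := biprod.desc i₁ j₂
  let T : Sub P K n :=
    { X := Abelian.image q
      i := Abelian.image.ι q ≫ pullback.fst _ _
      mono := inferInstance
      mem := P.prop_of_epi (Abelian.factorThruImage q)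
        (P.prop_X₂_of_shortExact (S := ShortComplex.mk (biprod.inl : X₁ ⟶ X₁ ⊞ X₂) biprod.snd (by simp))
          (ShortComplex.Splitting.ofHasBinaryBiproduct X₁ X₂).shortExact hX₁ hX₂) }
  refine ⟨T, ⟨Abelian.image.ι q ≫ p, ?_⟩, fun T₀ y z hyz => ?_, fun T₀ z hz => ?_⟩
  · show (_ ≫ pullback.snd _ _) ≫ _ = (_ ≫ pullback.fst _ _) ≫ _
    simp only [assoc, pullback.condition]
  · obtain ⟨T₁, π, hπ, x, hx⟩ := surjective_up_to_refinements_of_epi (i₁ ≫ Abelian.factorThruImage p)
      (pullback.lift z y hyz.symm ≫ Abelian.factorThruImage p)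
    refine ⟨T₁, π, hπ, x ≫ biprod.inl ≫ Abelian.factorThruImage q, ?_⟩
    have e := congrArg (· ≫ Abelian.image.ι p ≫ S.i) hx
    simp only [assoc, imgFac_assoc] at e
    simp only [pullback.lift_snd_assoc, p] at e
    simp [T, q, imgFac_assoc, pullback.condition, e]
  · obtain ⟨T₁, π, hπ, x, hx⟩ := surjective_up_to_refinements_of_epi (i₂ ≫ K.homologyπ n)
      (K.liftCycles z n' (by simp [h]) hz ≫ K.homologyπ n)
    have e : (π ≫ K.liftCycles z n' (by simp [h]) hz) ≫ K.homologyπ n =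
        (x ≫ i₂) ≫ K.homologyπ n := by simpa using hx
    obtain ⟨T₂, π', hπ', c, hc⟩ :=
      (K.comp_homologyπ_eq_iff_up_to_refinements (n - 1) n (by simp) _ _).1 e
    refine ⟨T₂, π' ≫ π, inferInstance, π' ≫ x ≫ biprod.inr ≫ Abelian.factorThruImage q, ?_, c, ?_⟩
    · simp [T, q, imgFac_assoc, reassoc_of% hj₂]
    · have := congrArg (· ≫ K.iCycles n) hc
      simp at this
      simp [T, q, imgFac_assoc, hj₂, this]

variable (b : ℤ) [K.IsStrictlyLE b]

/-- The family of approximations. -/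
noncomputable def fam : ℕ → ∀ n : ℤ, Sub P K n
  | 0, n => { X := 0, i := 0, mono := ⟨fun _ _ _ => (isZero_zero A).eq_of_tgt _ _⟩, mem := P.prop_of_isZero (isZero_zero A) }
  | k + 1, n => (exists_good P hlift K hH (rfl : n + 1 = n + 1) (fam k (n + 1))).choose

/-- The chosen term in degree `n`. -/
noncomputable def term (n : ℤ) : Sub P K n := fam P hlift K hH (Int.toNat (b + 1 - n)) n

lemma good_term (n : ℤ) : Good P K (term P hlift K hH b (n + 1)) (term P hlift K hH b n) := by
  by_cases hn : n ≤ b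
  · have e : Int.toNat (b + 1 - n) = Int.toNat (b + 1 - (n + 1)) + 1 := by omega
    unfold term
    rw [e]
    exact (exists_good P hlift K hH (rfl : n + 1 = n + 1) (fam P hlift K hH _ (n + 1))).choose_spec
  · have hz := K.isZero_of_isStrictlyLE b n (by omega)
    have hz' := K.isZero_of_isStrictlyLE b (n + 1) (by omega)
    refine ⟨⟨0, hz'.eq_of_tgt _ _⟩, fun T₀ y z _ => ⟨T₀, 𝟙 _, inferInstance, 0, hz'.eq_of_tgt _ _⟩,
      fun T₀ z _ => ⟨T₀, 𝟙 _, inferInstance, 0, by simp, 0, hz.eq_of_tgt _ _⟩⟩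

/-- The subcomplex. -/
noncomputable def subcx : CochainComplex P.FullSubcategory ℤ :=
  CochainComplex.of (fun n => ⟨(term P hlift K hH b n).X, (term P hlift K hH b n).mem⟩)
    (fun n => ObjectProperty.homMk (good_term P hlift K hH b n).1.choose)
    (fun n => by
      apply ObjectProperty.hom_ext
      have e₁ := (good_term P hlift K hH b n).1.choose_spec
      have e₂ := (good_term P hlift K hH b (n + 1)).1.choose_spec
      show (good_term P hlift K hH b n).1.choose ≫ (good_term P hlift K hH b (n + 1)).1.choose = 0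
      rw [← cancel_mono (term P hlift K hH b (n + 1 + 1)).i, assoc, e₂, reassoc_of% e₁, K.d_comp_d,
        comp_zero, zero_comp])

instance : (subcx P hlift K hH b).IsStrictlyLE b := by
  rw [CochainComplex.isStrictlyLE_iff]
  intro n hn
  rw [IsZero.iff_id_eq_zero]
  apply ObjectProperty.hom_ext
  show 𝟙 (term P hlift K hH b n).X = 0
  rw [← cancel_mono (term P hlift K hH b n).i]
  exact (K.isZero_of_isStrictlyLE b n hn).eq_of_tgt _ _

/-- The inclusion of the subcomplex. -/
noncomputable def inclusion :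
    (P.ι.mapHomologicalComplex (ComplexShape.up ℤ)).obj (subcx P hlift K hH b) ⟶ K where
  f n := (term P hlift K hH b n).i
  comm' n m h := by
    obtain rfl : n + 1 = m := h
    refine (good_term P hlift K hH b n).1.choose_spec.symm.trans ?_
    simp [subcx]
    rfl

theorem quasiIso_inclusion : QuasiIso (inclusion P hlift K hH b) := by
  refine ⟨fun n => ?_⟩
  rw [quasiIsoAt_iff_isIso_homologyMap]
  have hd : ∀ m, ((P.ι.mapHomologicalComplex (ComplexShape.up ℤ)).obj (subcx P hlift K hH b)).d m (m + 1) ≫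
      (term P hlift K hH b (m + 1)).i = (term P hlift K hH b m).i ≫ K.d m (m + 1) := fun m =>
    ((inclusion P hlift K hH b).comm m (m + 1)).symm
  have : Mono (HomologicalComplex.homologyMap (inclusion P hlift K hH b) n) := by
    obtain ⟨m, rfl⟩ : ∃ m, n = m + 1 := ⟨n - 1, by omega⟩
    rw [HomologicalComplex.mono_homologyMap_iff_up_to_refinements _ m (m + 1) (m + 1 + 1) (by simp) (by simp)]
    intro T₀ x₂ _ z hz
    obtain ⟨T₁, π, hπ, x, hx⟩ := (good_term P hlift K hH b m).2.1 x₂ z hz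
    refine ⟨T₁, π, hπ, x, ?_⟩
    refine (cancel_mono (term P hlift K hH b (m + 1)).i).1 ?_
    exact (assoc _ _ _).trans (hx.trans ((congrArg (x ≫ ·) (hd m)).symm.trans (assoc _ _ _).symm))
  have : Epi (HomologicalComplex.homologyMap (inclusion P hlift K hH b) n) := by
    rw [HomologicalComplex.epi_homologyMap_iff_up_to_refinements _ (n - 1) n (n + 1) (by simp) (by simp)]
    intro T₀ y₂ hy
    obtain ⟨T₁, π, hπ, x, hx, c, hc⟩ := (good_term P hlift K hH b n).2.2 y₂ hy
    refine ⟨T₁, π, hπ, x, ?_, c, hc⟩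
    refine (cancel_mono (term P hlift K hH b (n + 1)).i).1 (Eq.trans ?_ zero_comp.symm)
    exact (assoc _ _ _).trans ((congrArg (x ≫ ·) (hd n)).trans hx)
  exact isIso_of_mono_of_epi _

end Groth.Agent.H9Misc.SubcomplexP
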