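import Groth.Agent.ARLib.SubobjLattice
import Mathlib.CategoryTheory.Simple
import Mathlib.Order.JordanHolder
import Mathlib.Order.OrderIsoNat

/-! Jordan–Hölder theory for subobjects in abelian categories. -/

universe v u

open CategoryTheory Limits Groth.Agent.SubLat

namespace Groth.Agent.H9Misc

variable {C : Type u} [Category.{v} C] [Abelian C] {X : C}

lemma lift_comp_π {S T : Subobject X} (h : S ≤ T) {B : C} (t : B ⟶ (T : C))
    (hx : S.Factors (t ≫ T.arrow)) : t ≫ cokernel.π (Subobject.ofLE S T h) = 0 := by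
  have : t = S.factorThru _ hx ≫ Subobject.ofLE S T h := by
    rw [← cancel_mono T.arrow, Category.assoc, Subobject.ofLE_arrow, Subobject.factorThru_arrow]
  rw [this, Category.assoc, cokernel.condition, comp_zero]

lemma factors_of_comp_π {S T : Subobject X} (h : S ≤ T) {B : C} (t : B ⟶ (T : C))
    (ht : t ≫ cokernel.π (Subobject.ofLE S T h) = 0) : S.Factors (t ≫ T.arrow) := by
  obtain ⟨w, hw⟩ := KernelFork.IsLimit.lift'
    (Abelian.monoIsKernelOfCokernel _ (cokernelIsCokernel (Subobject.ofLE S T h))) t ht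
  rw [← hw]
  show S.Factors ((w ≫ Subobject.ofLE S T h) ≫ T.arrow)
  rw [Category.assoc, Subobject.ofLE_arrow]
  exact Subobject.factors_of_factors_right _ (Subobject.factors_self S)

lemma bot_factors_iff_eq_zero {Y B : C} (y : B ⟶ Y) : (⊥ : Subobject Y).Factors y ↔ y = 0 :=
  Subobject.bot_factors_iff_zero y

lemma simple_cokernel_iff_covBy {S T : Subobject X} (h : S ≤ T) :
    Simple (cokernel (Subobject.ofLE S T h)) ↔ S ⋖ T := by
  set π := cokernel.π (Subobject.ofLE S T h) with hπ
  constructor
  · intro hs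
    have hne : S ≠ T := by
      rintro rfl
      have : Subobject.ofLE S S h = 𝟙 _ := Subobject.ofLE_refl S
      have : Epi (Subobject.ofLE S S h) := by rw [this]; infer_instance
      exact Simple.not_isZero (cokernel (Subobject.ofLE S S h))
        (isZero_cokernel_of_epi (Subobject.ofLE S S h))
    refine ⟨lt_of_le_of_ne h hne, fun U hSU hUT => ?_⟩
    rcases IsSimpleOrder.eq_bot_or_eq_top (push π (pull T.arrow U)) with hP | hP
    · refine hSU.not_ge (le_iff_factors.2 fun B x hx => ?_)
      have hxT := Subobject.factors_of_le x hUT.le hx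
      have h1 : (push π (pull T.arrow U)).Factors (T.factorThru x hxT ≫ π) :=
        (push_factors_iff _).2 ⟨B, 𝟙 B, inferInstance, T.factorThru x hxT,
          (pull_factors_iff _).2 (by rwa [Subobject.factorThru_arrow]), Category.id_comp _⟩
      rw [hP, bot_factors_iff_eq_zero] at h1
      have := factors_of_comp_π h _ h1
      rwa [Subobject.factorThru_arrow] at this
    · refine hUT.not_ge (le_iff_factors.2 fun B x hx => ?_)
      have h1 : (push π (pull T.arrow U)).Factors (T.factorThru x hx ≫ π) := by
        rw [hP]; exact Subobject.top_factors _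
      obtain ⟨B', e, _, s, hs', he⟩ := (push_factors_iff _).1 h1
      have h2 : S.Factors ((e ≫ T.factorThru x hx - s) ≫ T.arrow) :=
        factors_of_comp_π h _ (by rw [Preadditive.sub_comp, Category.assoc, he, sub_self])
      have h3 := Subobject.factors_add _ _ (Subobject.factors_of_le _ hSU.le h2)
        ((pull_factors_iff _).1 hs')
      rw [← Preadditive.add_comp, sub_add_cancel, Category.assoc, Subobject.factorThru_arrow] at h3
      exact factors_of_epi e x h3
  · intro hcov
    have hne : ¬ IsZero (cokernel (Subobject.ofLE S T h)) := fun hz => by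
      refine hcov.lt.not_ge (le_iff_factors.2 fun B x hx => ?_)
      have := factors_of_comp_π h (T.factorThru x hx) (hz.eq_of_tgt _ _)
      rwa [Subobject.factorThru_arrow] at this
    have : Nontrivial (Subobject (cokernel (Subobject.ofLE S T h))) := ⟨⟨⊥, ⊤, fun e => hne (by
      rw [IsZero.iff_id_eq_zero]
      exact (bot_factors_iff_eq_zero _).1 (e ▸ Subobject.top_factors _))⟩⟩
    have : IsSimpleOrder (Subobject (cokernel (Subobject.ofLE S T h))) := ⟨fun P => by
      have h1 : S ≤ push T.arrow (pull π P) := le_iff_factors.2 fun B x hx => by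
        refine (push_factors_iff _).2 ⟨B, 𝟙 B, inferInstance,
          S.factorThru x hx ≫ Subobject.ofLE S T h, (pull_factors_iff _).2 ?_, by simp⟩
        rw [hπ, Category.assoc, cokernel.condition, comp_zero]
        exact Subobject.factors_zero
      have h2 : push T.arrow (pull π P) ≤ T := le_iff_factors.2 fun B x hx => by
        obtain ⟨B', e, _, s, -, he⟩ := (push_factors_iff _).1 hx
        refine factors_of_epi e x ?_
        rw [he]
        exact Subobject.factors_of_factors_right _ (Subobject.factors_self T)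
      rcases hcov.eq_or_eq h1 h2 with e | e
      · refine Or.inl (le_bot_iff.1 (le_iff_factors.2 fun B y hy => ?_))
        obtain ⟨B', q, _, t, ht⟩ := surjective_up_to_refinements_of_epi π y
        refine factors_of_epi q y ((bot_factors_iff_eq_zero _).2 ?_)
        rw [ht]
        refine lift_comp_π h t ?_
        refine Subobject.factors_of_le _ e.le ((push_factors_iff _).2
          ⟨B', 𝟙 B', inferInstance, t, (pull_factors_iff _).2 ?_, Category.id_comp _⟩)
        rw [← ht]
        exact Subobject.factors_of_factors_right _ hy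
      · refine Or.inr (top_le_iff.1 (le_iff_factors.2 fun B y _ => ?_))
        obtain ⟨B', q, _, t, ht⟩ := surjective_up_to_refinements_of_epi π y
        obtain ⟨B'', q', _, s, hs, he⟩ := (push_factors_iff _).1
          (Subobject.factors_of_le _ e.ge
            (Subobject.factors_of_factors_right t (Subobject.factors_self T)))
        refine factors_of_epi q y (factors_of_epi q' _ ?_)
        rw [ht, ← Category.assoc, show q' ≫ t = s from by
          rw [← cancel_mono T.arrow, Category.assoc]; exact he]
        exact (pull_factors_iff _).1 hs⟩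
    exact simple_of_isSimpleOrder_subobject _

/-- The quotient attached to an interval. -/
noncomputable def qt (p : Subobject X × Subobject X) : C :=
  cokernel (Subobject.ofLE (p.1 ⊓ p.2) p.2 inf_le_right)

/-- Transport of quotients. -/
noncomputable def quotIso {S S' T : Subobject X} (e : S = S') (h : S ≤ T) (h' : S' ≤ T) :
    cokernel (Subobject.ofLE S T h) ≅ cokernel (Subobject.ofLE S' T h') :=
  cokernelIsoOfEq rfl ≪≫ eqToIso (by subst e; rfl)

lemma nonempty_qt_iso {S T : Subobject X} (h : S ≤ T) :
    Nonempty (qt (S, T) ≅ cokernel (Subobject.ofLE S T h)) :=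
  ⟨quotIso (inf_eq_left.2 h) _ _⟩

/-- The second isomorphism theorem. -/
lemma nonempty_secondIso (x y : Subobject X) :
    Nonempty (cokernel (Subobject.ofLE x (x ⊔ y) le_sup_left) ≅
      cokernel (Subobject.ofLE (x ⊓ y) y inf_le_right)) := by
  let φ : cokernel (Subobject.ofLE (x ⊓ y) y inf_le_right) ⟶
      cokernel (Subobject.ofLE x (x ⊔ y) le_sup_left) :=
    cokernel.map _ _ (Subobject.ofLE (x ⊓ y) x inf_le_left) (Subobject.ofLE y (x ⊔ y) le_sup_right)
      (by simp)
  have hφ : cokernel.π (Subobject.ofLE (x ⊓ y) y inf_le_right) ≫ φ =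
      Subobject.ofLE y (x ⊔ y) le_sup_right ≫ cokernel.π _ := cokernel.π_desc _ _ _
  have : Mono φ := Preadditive.mono_of_cancel_zero _ fun {B} z hz => by
    obtain ⟨B', q, _, t, ht⟩ := surjective_up_to_refinements_of_epi
      (cokernel.π (Subobject.ofLE (x ⊓ y) y inf_le_right)) z
    rw [← cancel_epi q, comp_zero, ht]
    refine lift_comp_π _ t ((Subobject.inf_factors _).2 ⟨?_,
      Subobject.factors_of_factors_right _ (Subobject.factors_self y)⟩)
    have h1 : (t ≫ Subobject.ofLE y (x ⊔ y) le_sup_right) ≫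
        cokernel.π (Subobject.ofLE x (x ⊔ y) le_sup_left) = 0 := by
      rw [Category.assoc, ← hφ, ← Category.assoc, ← ht, Category.assoc, hz, comp_zero]
    have h2 := factors_of_comp_π _ _ h1
    rwa [Category.assoc, Subobject.ofLE_arrow] at h2
  have : Epi φ := epi_iff_surjective_up_to_refinements _ |>.2 fun {B} z => by
    obtain ⟨B', q, _, w, hw⟩ := surjective_up_to_refinements_of_epi
      (cokernel.π (Subobject.ofLE x (x ⊔ y) le_sup_left)) z
    obtain ⟨B'', q', _, s, t, hs, ht, e⟩ := (sup_factors_iff (w ≫ (x ⊔ y).arrow)).1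
      (Subobject.factors_of_factors_right _ (Subobject.factors_self _))
    refine ⟨B'', q' ≫ q, inferInstance,
      y.factorThru t ht ≫ cokernel.π (Subobject.ofLE (x ⊓ y) y inf_le_right), ?_⟩
    rw [Category.assoc, hw, Category.assoc, hφ, ← Category.assoc, ← Category.assoc, ← sub_eq_zero,
      ← Preadditive.sub_comp]
    refine lift_comp_π _ _ ?_
    rw [Preadditive.sub_comp, Category.assoc, e, Category.assoc, Subobject.ofLE_arrow,
      Subobject.factorThru_arrow, add_sub_cancel_right]
    exact hs
  have : IsIso φ := isIso_of_mono_of_epi φ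
  exact ⟨(asIso φ).symm⟩

lemma nonempty_iso_of_iso {p q : Subobject X × Subobject X} (h : JordanHolderLattice.Iso p q) :
    Nonempty (qt p ≅ qt q) := by
  refine JordanHolderLattice.Iso.rel (fun p q => Nonempty (qt p ≅ qt q)) ⟨Iso.refl _⟩
    (fun ⟨e⟩ => ⟨e.symm⟩) (fun ⟨e⟩ ⟨e'⟩ => ⟨e ≪≫ e'⟩) (fun {x y} _ => ?_) h
  obtain ⟨e1⟩ := nonempty_qt_iso (show x ≤ x ⊔ y from le_sup_left)
  obtain ⟨e2⟩ := nonempty_qt_iso (show x ⊓ y ≤ y from inf_le_right)
  obtain ⟨e⟩ := nonempty_secondIso x y
  exact ⟨e1 ≪≫ e ≪≫ e2.symm⟩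

end Groth.Agent.H9Misc

namespace Groth.Agent.H9Misc

variable {C : Type u} [Category.{v} C] [Abelian C]

lemma artinian_noetherian_of_simple (X : C) [Simple X] : IsArtinianObject X ∧ IsNoetherianObject X := by
  have : Finite (Subobject X) := by
    classical
    exact IsSimpleOrder.instFinite
  exact ⟨(isArtinianObject_iff_antitone_chain_condition X).2 fun f =>
      WellFoundedGT.monotone_chain_condition
        (α := (Subobject X)ᵒᵈ) ⟨f, f.monotone⟩,
    (isNoetherianObject_iff_monotone_chain_condition X).2 fun f =>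
      WellFoundedGT.monotone_chain_condition f⟩

lemma artinian_noetherian_of_chain {X : C} (n : ℕ) (F : Fin (n + 1) → Subobject X) (hF : Monotone F)
    (h0 : F 0 = ⊥) (hn : F (Fin.last n) = ⊤)
    (hs : ∀ i : Fin n, Simple (cokernel (Subobject.ofLE (F (Fin.castSucc i)) (F (Fin.succ i))
      (hF (Fin.castSucc_lt_succ (i := i)).le)))) :
    IsArtinianObject X ∧ IsNoetherianObject X := by
  have key : ∀ i : Fin (n + 1), IsArtinianObject (F i : C) ∧ IsNoetherianObject (F i : C) := by
    intro i
    induction i using Fin.induction with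
    | zero =>
      have hz : IsZero ((F 0 : Subobject X) : C) := by
        rw [h0]; exact (isZero_zero C).of_iso Subobject.botCoeIsoZero
      exact ⟨isArtinianObject_of_isZero hz, isNoetherianObject_of_isZero hz⟩
    | succ i ih =>
      let S := ShortComplex.mk (Subobject.ofLE _ _ (hF (Fin.castSucc_lt_succ (i := i)).le))
        (cokernel.π _) (cokernel.condition _)
      have hS : S.ShortExact := { exact := ShortComplex.exact_of_g_is_cokernel _ (cokernelIsCokernel _) }
      have := ih.1
      have := ih.2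
      have h := hs i
      have := (artinian_noetherian_of_simple S.X₃).1
      have := (artinian_noetherian_of_simple S.X₃).2
      exact ⟨isArtinianObject_of_shortExact hS, isNoetherianObject_of_shortExact hS⟩
  obtain ⟨h1, h2⟩ := key (Fin.last n)
  have : Epi (F (Fin.last n)).arrow := by
    have : IsIso (F (Fin.last n)).arrow := by rw [Subobject.isIso_arrow_iff_eq_top]; exact hn
    infer_instance
  exact ⟨isArtinianObject_of_epi (F (Fin.last n)).arrow, isNoetherianObject_of_epi (F (Fin.last n)).arrow⟩

lemma exists_chain (X : C) [IsArtinianObject X] [IsNoetherianObject X] :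
    ∃ (n : ℕ) (F : Fin (n + 1) → Subobject X) (hF : Monotone F), F 0 = ⊥ ∧ F (Fin.last n) = ⊤ ∧
      ∀ i : Fin n, Simple (cokernel (Subobject.ofLE (F (Fin.castSucc i)) (F (Fin.succ i))
        (hF (Fin.castSucc_lt_succ (i := i)).le))) := by
  obtain ⟨a, ha, n, hn, hc⟩ := exists_covBy_seq_of_wellFoundedLT_wellFoundedGT_of_le
    (show (⊥ : Subobject X) ≤ ⊤ from bot_le)
  refine ⟨n, fun i => a i, Fin.monotone_iff_le_succ.2 fun i => (hc i i.2).le, ha, hn, fun i => ?_⟩
  exact (simple_cokernel_iff_covBy _).2 (hc i i.2)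

lemma jordanHolder {X : C}
    (n : ℕ) (F : Fin (n + 1) → Subobject X) (hF : Monotone F) (hF0 : F 0 = ⊥)
    (hFn : F (Fin.last n) = ⊤)
    (hFs : ∀ i : Fin n, Simple (cokernel (Subobject.ofLE (F (Fin.castSucc i)) (F (Fin.succ i))
      (hF (Fin.castSucc_lt_succ (i := i)).le))))
    (m : ℕ) (G : Fin (m + 1) → Subobject X) (hG : Monotone G) (hG0 : G 0 = ⊥)
    (hGm : G (Fin.last m) = ⊤)
    (hGs : ∀ j : Fin m, Simple (cokernel (Subobject.ofLE (G (Fin.castSucc j)) (G (Fin.succ j))
      (hG (Fin.castSucc_lt_succ (i := j)).le)))) :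
    ∃ (e : n = m) (σ : Equiv.Perm (Fin m)), ∀ i : Fin n,
      Nonempty (cokernel (Subobject.ofLE (F (Fin.castSucc i)) (F (Fin.succ i))
          (hF (Fin.castSucc_lt_succ (i := i)).le)) ≅
        cokernel (Subobject.ofLE (G (Fin.castSucc (σ (Fin.cast e i)))) (G (Fin.succ (σ (Fin.cast e i))))
          (hG (Fin.castSucc_lt_succ (i := σ (Fin.cast e i))).le))) := by
  let s₁ : CompositionSeries (Subobject X) :=
    ⟨n, F, fun i => (simple_cokernel_iff_covBy _).1 (hFs i)⟩
  let s₂ : CompositionSeries (Subobject X) :=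
    ⟨m, G, fun i => (simple_cokernel_iff_covBy _).1 (hGs i)⟩
  obtain ⟨f, hf⟩ := CompositionSeries.jordan_holder s₁ s₂ (hF0.trans hG0.symm) (hFn.trans hGm.symm)
  have e : n = m := by simpa using Fintype.card_congr f
  subst e
  refine ⟨rfl, f, fun i => ?_⟩
  obtain ⟨e⟩ := nonempty_iso_of_iso (hf i)
  obtain ⟨e1⟩ := nonempty_qt_iso (hF (Fin.castSucc_lt_succ (i := i)).le)
  obtain ⟨e2⟩ := nonempty_qt_iso (hG (Fin.castSucc_lt_succ (i := f i)).le)
  exact ⟨e1.symm ≪≫ e ≪≫ e2⟩

end Groth.Agent.H9Misc
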