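import Mathlib

/-! The cokernel of `ad x` on `sl_{n+1}` for the standard subregular nilpotent `x`. -/

universe u

open Finset

namespace Groth.Agent.H9Misc.SubregAd

variable {O : Type u} [CommRing O] {n : ℕ}

/-- Matrix entries with natural-number indices, zero out of range. -/
def e (M : Matrix (Fin (n + 1)) (Fin (n + 1)) O) (a b : ℕ) : O :=
  if h : a < n + 1 ∧ b < n + 1 then M ⟨a, h.1⟩ ⟨b, h.2⟩ else 0

lemma e_val (M : Matrix (Fin (n + 1)) (Fin (n + 1)) O) (i j : Fin (n + 1)) : e M i.val j.val = M i j :=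
  dif_pos ⟨i.2, j.2⟩

lemma e_add (M N : Matrix (Fin (n + 1)) (Fin (n + 1)) O) (a b : ℕ) : e (M + N) a b = e M a b + e N a b := by
  unfold e; split_ifs <;> simp

lemma e_smul (c : O) (M : Matrix (Fin (n + 1)) (Fin (n + 1)) O) (a b : ℕ) : e (c • M) a b = c * e M a b := by
  unfold e; split_ifs <;> simp

/-- The functionals cutting out the image. -/
def phi : Matrix (Fin (n + 1)) (Fin (n + 1)) O →ₗ[O] (Fin n → O) × O × O where
  toFun M := (fun k => ∑ i ∈ range (n - k.val), e M (i + k.val) i, e M n 0, e M (n - 1) n)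
  map_add' M N := by
    simp only [e_add, Finset.sum_add_distrib, Prod.mk_add_mk]
    rfl
  map_smul' c M := by
    simp only [e_smul, ← Finset.mul_sum, RingHom.id_apply, Prod.smul_mk, smul_eq_mul]
    rfl

variable (x : Matrix (Fin (n + 1)) (Fin (n + 1)) O)
  (hx : ∀ i j : Fin (n + 1), x i j = if j.val = i.val + 1 ∧ j.val < n then 1 else 0)

include hx

lemma comm_apply (M : Matrix (Fin (n + 1)) (Fin (n + 1)) O) (i j : Fin (n + 1)) :
    (x * M - M * x) i j = (if i.val + 1 < n then e M (i.val + 1) j.val else 0) -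
      (if 1 ≤ j.val ∧ j.val < n then e M i.val (j.val - 1) else 0) := by
  rw [Matrix.sub_apply, Matrix.mul_apply, Matrix.mul_apply]
  refine congrArg₂ (· - ·) ?_ ?_
  · split_ifs with h
    · rw [Finset.sum_eq_single (⟨i.val + 1, by omega⟩ : Fin (n + 1))]
      · rw [hx, if_pos ⟨rfl, h⟩, one_mul]; exact (e_val M _ j).symm
      · intro b _ hb
        rw [hx, if_neg (fun h' => hb (Fin.ext h'.1)), zero_mul]
      · intro h'; exact absurd (Finset.mem_univ _) h'
    · exact Finset.sum_eq_zero fun b _ => by rw [hx, if_neg (by omega), zero_mul]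
  · split_ifs with h
    · rw [Finset.sum_eq_single (⟨j.val - 1, by omega⟩ : Fin (n + 1))]
      · rw [hx, if_pos ⟨by simp only; omega, h.2⟩, mul_one]; exact (e_val M i _).symm
      · intro b _ hb
        rw [hx, if_neg (fun h' => hb (Fin.ext (by simp only; omega))), mul_zero]
      · intro h'; exact absurd (Finset.mem_univ _) h'
    · exact Finset.sum_eq_zero fun b _ => by rw [hx, if_neg (by omega), mul_zero]

lemma e_comm (M : Matrix (Fin (n + 1)) (Fin (n + 1)) O) (a b : ℕ) (ha : a < n + 1) (hb : b < n + 1) :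
    e (x * M - M * x) a b = (if a + 1 < n then e M (a + 1) b else 0) -
      (if 1 ≤ b ∧ b < n then e M a (b - 1) else 0) := by
  rw [← comm_apply x hx M ⟨a, ha⟩ ⟨b, hb⟩]
  exact e_val _ ⟨a, ha⟩ ⟨b, hb⟩

lemma phi_comm (hn : 1 ≤ n) (M : Matrix (Fin (n + 1)) (Fin (n + 1)) O) : phi (x * M - M * x) = 0 := by
  refine Prod.ext (funext fun k => ?_) (Prod.ext ?_ ?_)
  · show ∑ i ∈ range (n - k.val), e (x * M - M * x) (i + k.val) i = 0
    let g : ℕ → O := fun i => if 1 ≤ i ∧ i + k.val < n then e M (i + k.val) (i - 1) else 0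
    have : ∀ i ∈ range (n - k.val), e (x * M - M * x) (i + k.val) i = g (i + 1) - g i := fun i hi => by
      have hi' : i < n - k.val := Finset.mem_range.1 hi
      rw [e_comm x hx M _ _ (by omega) (by omega)]
      refine congrArg₂ (· - ·) ?_ ?_
      · simp only [g]
        rcases Classical.em (i + k.val + 1 < n) with h | h
        · rw [if_pos h, if_pos ⟨by omega, by omega⟩, Nat.add_sub_cancel, Nat.add_right_comm]
        · rw [if_neg h, if_neg (by omega)]
      · simp only [g]
        rcases Classical.em (1 ≤ i) with h | h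
        · rw [if_pos ⟨h, by omega⟩, if_pos ⟨h, by omega⟩]
        · rw [if_neg (by omega), if_neg (by omega)]
    rw [Finset.sum_congr rfl this, Finset.sum_range_sub]
    simp only [g]
    rw [if_neg (by omega), if_neg (by omega), sub_zero]
  · show e (x * M - M * x) n 0 = 0
    rw [e_comm x hx M _ _ (by omega) (by omega), if_neg (by omega), if_neg (by omega), sub_zero]
  · show e (x * M - M * x) (n - 1) n = 0
    rw [e_comm x hx M _ _ (by omega) (by omega), if_neg (by omega), if_neg (by omega), sub_zero]

omit hx in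
/-- A primitive of a matrix killed by `phi`. -/
def prim (M : Matrix (Fin (n + 1)) (Fin (n + 1)) O) : Matrix (Fin (n + 1)) (Fin (n + 1)) O :=
  fun i j =>
    if i.val = n then (if j.val + 1 < n then - e M n (j.val + 1) else 0)
    else if j.val = n then (if 1 ≤ i.val then e M (i.val - 1) n else 0)
    else if 1 ≤ i.val then ∑ t ∈ range (min (i.val - 1) j.val + 1), e M (i.val - 1 - t) (j.val - t) else 0

lemma comm_prim (hn : 1 ≤ n) (M : Matrix (Fin (n + 1)) (Fin (n + 1)) O) (hM : phi M = 0)
    (hnn : e M n n = 0) : x * prim M - prim M * x = M := by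
  have h1 : ∀ k, k < n → ∑ i ∈ range (n - k), e M (i + k) i = 0 := fun k hk =>
    congrFun (congrArg Prod.fst hM) ⟨k, hk⟩
  have h2 : e M n 0 = 0 := congrArg (fun y => y.2.1) hM
  have h3 : e M (n - 1) n = 0 := congrArg (fun y => y.2.2) hM
  have he : ∀ a b, a < n + 1 → b < n + 1 → e (prim M) a b =
      if a = n then (if b + 1 < n then - e M n (b + 1) else 0)
      else if b = n then (if 1 ≤ a then e M (a - 1) n else 0)
      else if 1 ≤ a then ∑ t ∈ range (min (a - 1) b + 1), e M (a - 1 - t) (b - t) else 0 := fun a b ha hb => by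
    rw [e, dif_pos ⟨ha, hb⟩]; rfl
  refine Matrix.ext fun i j => ?_
  rw [comm_apply x hx, ← e_val M i j]
  obtain ⟨a, ha⟩ := i
  obtain ⟨b, hb⟩ := j
  simp only
  by_cases hAn : a = n
  · subst hAn
    rw [if_neg (by omega)]
    by_cases hb1 : 1 ≤ b ∧ b < a
    · rw [if_pos hb1, he _ _ (by omega) (by omega), if_pos rfl, if_pos (by omega),
        show b - 1 + 1 = b by omega]
      ring
    · rw [if_neg hb1, sub_zero]
      rcases Classical.em (b = 0) with rfl | hb0
      · exact h2.symm
      · rw [show b = a by omega]; exact hnn.symm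
  by_cases hBn : b = n
  · subst hBn
    rw [if_neg (show ¬ (1 ≤ b ∧ b < b) by omega), sub_zero]
    by_cases ha1 : a + 1 < b
    · rw [if_pos ha1, he _ _ (by omega) (by omega), if_neg (by omega), if_pos rfl, if_pos (by omega),
        Nat.add_sub_cancel]
    · rw [if_neg ha1, show a = b - 1 by omega]; exact h3.symm
  have hS : ∀ (c d : ℕ), c < n → d < n → 1 ≤ c →
      e (prim M) c d = ∑ t ∈ range (min (c - 1) d + 1), e M (c - 1 - t) (d - t) := fun c d hc hd hc1 => by
    rw [he _ _ (by omega) (by omega), if_neg (by omega), if_neg (by omega), if_pos hc1]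
  have hleft : (if a + 1 < n then e (prim M) (a + 1) b else 0) =
      ∑ t ∈ range (min a b + 1), e M (a - t) (b - t) := by
    split_ifs with ha1
    · rw [hS _ _ ha1 (by omega) (by omega), Nat.add_sub_cancel]
    · have hab : a = n - 1 := by omega
      rw [min_eq_right (by omega), ← Finset.sum_range_reflect]
      refine Eq.trans (h1 (n - 1 - b) (by omega)).symm ?_
      rw [show n - (n - 1 - b) = b + 1 by omega]
      refine Finset.sum_congr rfl fun t ht => ?_
      have ht' : t < b + 1 := Finset.mem_range.1 ht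
      rw [show b + 1 - 1 - t = b - t by omega]
      refine congrArg₂ (e M) ?_ ?_ <;> omega
  rw [hleft]
  by_cases hb1 : 1 ≤ b
  · rw [if_pos ⟨hb1, by omega⟩]
    by_cases ha0 : 1 ≤ a
    · rw [hS _ _ (by omega) (by omega) ha0, Finset.sum_range_succ' _ (min a b),
        show min (a - 1) (b - 1) + 1 = min a b by omega]
      simp only [Nat.sub_zero]
      rw [add_comm, add_sub_assoc, sub_eq_zero.2 (Finset.sum_congr rfl fun t _ => ?_), add_zero]
      refine congrArg₂ (e M) ?_ ?_ <;> omega
    · rw [he _ _ (by omega) (by omega), if_neg (by omega), if_neg (by omega), if_neg ha0, sub_zero,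
        show min a b = 0 by omega, Finset.sum_range_one, Nat.sub_zero, Nat.sub_zero]
  · rw [if_neg (fun h => hb1 h.1), sub_zero, show min a b = 0 by omega, Finset.sum_range_one, Nat.sub_zero,
      Nat.sub_zero]

omit hx in
lemma trace_eq (M : Matrix (Fin (n + 1)) (Fin (n + 1)) O) :
    M.trace = ∑ i ∈ range n, e M i i + e M n n := by
  rw [← Finset.sum_range_succ (fun i => e M i i), Finset.sum_range, Matrix.trace]
  exact Finset.sum_congr rfl fun i _ => (e_val M i i).symm

end Groth.Agent.H9Misc.SubregAd
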