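import Groth.Prelude.Def_ExtSupp
import Groth.Agent.QCoh.ToSheaf
import Mathlib.Algebra.Category.ModuleCat.Presheaf.Submodule
import Mathlib.Algebra.Category.ModuleCat.Sheaf.Limits
import Mathlib.CategoryTheory.Preadditive.Injective.Preserves
import Mathlib.CategoryTheory.Adjunction.Additive
import Mathlib.Algebra.Homology.ShortComplex.ModuleCat

/-!
# Modules supported in the closed complement of an object: kernel of the projection, adjunction
-/

universe u

open CategoryTheory CategoryTheory.Limits Opposite

namespace Groth.Agent.SuppCore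

variable {C : Type u} [SmallCategory C] {J : GrothendieckTopology C} {O : Sheaf J CommRingCat.{u}}

/-- Restriction of sections. -/
noncomputable def res (M : ModSite.Mod O) {W' W : C} (g : W' ⟶ W) :
    ModSite.sect M W →+ ModSite.sect M W' :=
  ((ModSite.toAb M).obj.map g.op).hom

lemma res_comp (M : ModSite.Mod O) {W'' W' W : C} (f : W'' ⟶ W') (g : W' ⟶ W)
    (s : ModSite.sect M W) : res M (f ≫ g) s = res M f (res M g s) := by
  show ((ModSite.toAb M).obj.map (g.op ≫ f.op)).hom s = _
  rw [Functor.map_comp]
  rfl

lemma res_id (M : ModSite.Mod O) {W : C} (s : ModSite.sect M W) : res M (𝟙 W) s = s := by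
  show ((ModSite.toAb M).obj.map (𝟙 (op W))).hom s = _
  rw [CategoryTheory.Functor.map_id]
  rfl

lemma res_app {M N : ModSite.Mod O} (φ : M ⟶ N) {W' W : C} (g : W' ⟶ W) (s : ModSite.sect M W) :
    res N g ((φ.val.app (op W)).hom s) = (φ.val.app (op W')).hom (res M g s) :=
  (PresheafOfModules.naturality_apply φ.val g.op s).symm

lemma res_smul (M : ModSite.Mod O) {W' W : C} (g : W' ⟶ W) (r : (ModSite.ringSh O).obj.obj (op W))
    (s : ModSite.sect M W) :
    res M g (r • s) = ((ModSite.ringSh O).obj.map g.op).hom r • res M g s :=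
  PresheafOfModules.map_smul M.val g.op r s

lemma eq_of_res {M : ModSite.Mod O} {W : C} {S : Sieve W} (hS : S ∈ J W) {a b : ModSite.sect M W}
    (h : ∀ ⦃W' : C⦄ (g : W' ⟶ W), S g → res M g a = res M g b) : a = b := by
  have hsh : Presieve.IsSheaf J ((ModSite.toAb M).obj ⋙ CategoryTheory.forget AddCommGrpCat.{u}) :=
    (isSheaf_iff_isSheaf_of_type J _).1
      ((sheafCompose J (CategoryTheory.forget AddCommGrpCat.{u})).obj (ModSite.toAb M)).property
  exact ((hsh S hS).isSeparatedFor).ext fun W' g hg => h g hg

variable (U : C)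

/-- The arrows on which a section vanishes or lives over `U`. -/
def locOverSieve (M : ModSite.Mod O) {W : C} (s : ModSite.sect M W) : Sieve W where
  arrows W' g := Nonempty (W' ⟶ U) ∨ res M g s = 0
  downward_closed {W' W''} g hg f := by
    rcases hg with h | h
    · exact Or.inl (h.map (f ≫ ·))
    · exact Or.inr (by rw [res_comp, h, map_zero])

/-- The sections which locally vanish or live over `U`. -/
noncomputable def locOver (M : ModSite.Mod O) : M.val.Submodule where
  obj X :=
    { carrier := {s : ModSite.sect M X.unop | locOverSieve U M s ∈ J X.unop}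
      zero_mem' := J.superset_covering (S := ⊤) (fun _ g _ => Or.inr (map_zero _)) (J.top_mem _)
      add_mem' := fun {a b} ha hb => J.superset_covering (S := locOverSieve U M a ⊓ locOverSieve U M b)
        (fun W' g hg => by
        obtain ⟨h₁, h₂⟩ := hg
        rcases h₁ with h | h
        · exact Or.inl h
        rcases h₂ with h' | h'
        · exact Or.inl h'
        · exact Or.inr ((map_add (res M g) a b).trans (by rw [h, h', add_zero])))
        (J.intersection_covering ha hb)
      smul_mem' := fun r s hs => J.superset_covering (S := locOverSieve U M s) (fun W' g hg => hg.imp id fun h => by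
        refine (res_smul M g r s).trans ?_
        rw [h, smul_zero]) hs }
  map {X Y} f := fun s hs => by
    refine J.superset_covering (fun W' g hg => ?_) (J.pullback_stable f.unop hs)
    rcases hg with h | h
    · exact Or.inl h
    · exact Or.inr ((res_comp M g f.unop s).symm.trans h)

lemma mem_locOver_iff {M : ModSite.Mod O} {W : C} (s : ModSite.sect M W) :
    s ∈ (locOver U M).obj (op W) ↔ locOverSieve U M s ∈ J W := Iff.rfl

lemma isSheaf_locOver (M : ModSite.Mod O) :
    Presheaf.IsSheaf J (locOver U M).toPresheafOfModules.presheaf := by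
  rw [Presheaf.isSheaf_iff_isSheaf_forget J _ (CategoryTheory.forget AddCommGrpCat.{u}),
    isSheaf_iff_isSheaf_of_type]
  intro W S hS x hx
  have hsh : Presieve.IsSheaf J ((ModSite.toAb M).obj ⋙ CategoryTheory.forget AddCommGrpCat.{u}) :=
    (isSheaf_iff_isSheaf_of_type J _).1
      ((sheafCompose J (CategoryTheory.forget AddCommGrpCat.{u})).obj (ModSite.toAb M)).property
  let y : Presieve.FamilyOfElements ((ModSite.toAb M).obj ⋙ CategoryTheory.forget AddCommGrpCat.{u})
    S.arrows := fun W' g hg => (x g hg).1
  have hy : y.Compatible := fun A B Z g₁ g₂ f₁ f₂ h₁ h₂ w =>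
    congrArg Subtype.val (hx g₁ g₂ h₁ h₂ w)
  obtain ⟨t, ht, huniq⟩ := hsh S hS y hy
  have htv : ∀ ⦃W' : C⦄ (g : W' ⟶ W) (hg : S g), res M g t = (x g hg).1 := fun W' g hg => ht g hg
  have hmem : t ∈ (locOver U M).obj (op W) := by
    refine J.transitive hS _ fun W' g hg => ?_
    refine J.superset_covering (fun W'' f hf => ?_) (x g hg).2
    rcases hf with h | h
    · exact Or.inl h
    · exact Or.inr ((res_comp M f g t).trans ((congrArg (res M f) (htv g hg)).trans h))
  exact ⟨⟨t, hmem⟩, fun W' g hg => Subtype.ext (ht g hg), fun z hz =>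
    Subtype.ext (huniq z.1 fun W' g hg => congrArg Subtype.val (hz g hg))⟩

/-- The sheaf of modules of sections which locally vanish or live over `U`. -/
noncomputable def locOverMod (M : ModSite.Mod O) : ModSite.Mod O :=
  ⟨(locOver U M).toPresheafOfModules, isSheaf_locOver U M⟩

/-- The inclusion of `locOverMod`. -/
noncomputable def locOverι (M : ModSite.Mod O) : locOverMod U M ⟶ M := ⟨(locOver U M).ι⟩

instance mono_locOverι (M : ModSite.Mod O) : Mono (locOverι U M) :=
  (SheafOfModules.forget (ModSite.ringSh O)).mono_of_mono_map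
    (show Mono (locOver U M).ι from inferInstance)

lemma mem_of_hom {M : ModSite.Mod O} {W : C} (k : W ⟶ U) (s : ModSite.sect M W) :
    s ∈ (locOver U M).obj (op W) :=
  J.superset_covering (S := ⊤) (fun _ g _ => Or.inl ⟨g ≫ k⟩) (J.top_mem _)

instance isIso_restr_locOverι (M : ModSite.Mod O) :
    IsIso ((ModSite.restr O U).map (locOverι U M)) := by
  suffices h : IsIso ((SheafOfModules.forget (ModSite.ringSh (O.over U))).map
      ((ModSite.restr O U).map (locOverι U M))) from
    isIso_of_fully_faithful (SheafOfModules.forget (ModSite.ringSh (O.over U))) _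
  suffices h : IsIso ((PresheafOfModules.toPresheaf _).map
      ((SheafOfModules.forget (ModSite.ringSh (O.over U))).map
        ((ModSite.restr O U).map (locOverι U M)))) from
    isIso_of_reflects_iso _ (PresheafOfModules.toPresheaf _)
  refine @NatIso.isIso_of_isIso_app _ _ _ _ _ _ _ fun Y => ?_
  refine (ConcreteCategory.isIso_iff_bijective _).2 ⟨fun a b h => Subtype.ext h, fun s => ?_⟩
  exact ⟨⟨s, mem_of_hom U Y.unop.hom s⟩, rfl⟩

/-- The counit factors through the sections which locally vanish or live over `U`. -/
lemma exists_counit_fac (M : ModSite.Mod O) :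
    ∃ k : ExtSupp.openMod U M ⟶ locOverMod U M,
      k ≫ locOverι U M = (ModSite.extZeroAdj O U).counit.app M := by
  refine ⟨((ModSite.extZeroAdj O U).homEquiv _ _).symm (inv ((ModSite.restr O U).map (locOverι U M))), ?_⟩
  rw [← Adjunction.homEquiv_naturality_right_symm, IsIso.inv_hom_id, Adjunction.homEquiv_counit,
    CategoryTheory.Functor.map_id, Category.id_comp]

/-- Sections over objects mapping to `U` come from `M_U`. -/
lemma exists_counit_eq {M : ModSite.Mod O} {W : C} (k : W ⟶ U) (s : ModSite.sect M W) :
    ∃ x : ModSite.sect (ExtSupp.openMod U M) W,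
      (((ModSite.extZeroAdj O U).counit.app M).val.app (op W)).hom x = s :=
  ⟨(((ModSite.extZeroAdj O U).unit.app ((ModSite.restr O U).obj M)).val.app (op (Over.mk k))).hom s,
    congrArg (fun φ : (ModSite.restr O U).obj M ⟶ (ModSite.restr O U).obj M =>
      (φ.val.app (op (Over.mk k))).hom s) ((ModSite.extZeroAdj O U).right_triangle_components M)⟩

/-- Vanishing on `U` of a morphism, on sections. -/
lemma mem_homZ_iff_app {M N : ModSite.Mod O} (φ : M ⟶ N) :
    φ ∈ ExtSupp.homZ U M N ↔
      ∀ ⦃W : C⦄ (_ : W ⟶ U) (s : ModSite.sect M W), (φ.val.app (op W)).hom s = 0 := by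
  constructor
  · intro h W k s
    exact congrArg (fun ψ : (ModSite.restr O U).obj M ⟶ (ModSite.restr O U).obj N =>
      (ψ.val.app (op (Over.mk k))).hom s) h
  · intro h
    show (ModSite.restr O U).map φ = 0
    apply (SheafOfModules.toSheaf _).map_injective
    ext Y m
    exact h (unop Y).hom m

lemma π_app_of_hom {M : ModSite.Mod O} {W : C} (k : W ⟶ U) (s : ModSite.sect M W) :
    (((ModSite.quotOnπ O U).app M).val.app (op W)).hom s = 0 :=
  (mem_homZ_iff_app U _).1 ((ExtSupp.mem_homZ_iff U ((ModSite.quotOnπ O U).app M)).2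
    (cokernel.condition _)) k s

lemma locOverι_π (M : ModSite.Mod O) : locOverι U M ≫ (ModSite.quotOnπ O U).app M = 0 := by
  apply SheafOfModules.hom_ext
  apply PresheafOfModules.hom_ext
  intro X
  ext ⟨s, hs⟩
  refine eq_of_res hs fun W' g hg => ?_
  refine ((res_app ((ModSite.quotOnπ O U).app M) g s).trans ?_).trans (map_zero _).symm
  rcases hg with h | h
  · exact h.elim fun k => π_app_of_hom U k _
  · exact (congrArg _ h).trans (map_zero _)

/-- The kernel of `M ⟶ M/M_U`: sections which locally vanish or live over `U`. -/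
theorem π_app_eq_zero_iff {M : ModSite.Mod O} {W : C} (s : ModSite.sect M W) :
    (((ModSite.quotOnπ O U).app M).val.app (op W)).hom s = 0 ↔ locOverSieve U M s ∈ J W := by
  constructor
  · intro h
    let S : ShortComplex (ModSite.Mod O) :=
      ShortComplex.mk (locOverι U M) ((ModSite.quotOnπ O U).app M) (locOverι_π U M)
    have hS : S.Exact := by
      obtain ⟨k, hk⟩ := exists_counit_fac U M
      let φ : ExtSupp.openSeq U M ⟶ S := ShortComplex.homMk k (𝟙 _) (𝟙 _)
        (hk.trans (Category.comp_id _).symm) ((Category.id_comp _).trans (Category.comp_id _).symm)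
      exact ShortComplex.exact_of_g_is_cokernel _ (CokernelCofork.IsColimit.ofπ _ _
        (fun {Z} g hg => cokernel.desc _ g (by
          rw [← hk, Category.assoc]
          exact (congrArg (k ≫ ·) hg).trans comp_zero))
        (fun {Z} g hg => cokernel.π_desc _ _ _)
        (fun {Z} g hg m hm => coequalizer.hom_ext (hm.trans (cokernel.π_desc _ _ _).symm)))
    have : Mono S.f := mono_locOverι U M
    have : (SheafOfModules.evaluation (ModSite.ringSh O) (op W)).PreservesZeroMorphisms :=
      ⟨fun _ _ => rfl⟩
    have hker := hS.map_of_mono_of_preservesKernel (SheafOfModules.evaluation (ModSite.ringSh O) (op W))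
      inferInstance inferInstance
    rw [ShortComplex.moduleCat_exact_iff] at hker
    obtain ⟨x, hx⟩ := hker s h
    have hmem : ((locOverι U M).val.app (op W)).hom x ∈ (locOver U M).obj (op W) := x.2
    exact (mem_locOver_iff U s).1 (hx ▸ hmem)
  · intro hs
    exact congrArg (fun φ : locOverMod U M ⟶ _ => (φ.val.app (op W)).hom ⟨s, hs⟩) (locOverι_π U M)

/-- Epimorphisms of modules are locally surjective on sections. -/
lemma exists_cover_lift {M N : ModSite.Mod O} (f : M ⟶ N) [Epi f] {W : C} (z : ModSite.sect N W) :
    ∃ S ∈ J W, ∀ ⦃W' : C⦄ (g : W' ⟶ W), S g →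
      ∃ x : ModSite.sect M W', (f.val.app (op W')).hom x = res N g z :=
  ⟨_, ((Sheaf.isLocallySurjective_iff_epi' _ ((SheafOfModules.toSheaf (ModSite.ringSh O)).map f)).2
    inferInstance).imageSieve_mem z, fun _ _ hg => hg⟩

instance mono_quotOn_map {A B : ModSite.Mod O} (a : A ⟶ B) [Mono a] :
    Mono ((ModSite.quotOn O U).map a) := by
  apply (SheafOfModules.forget (ModSite.ringSh O)).mono_of_mono_map
  refine PresheafOfModules.mono_of_injective fun X => (injective_iff_map_eq_zero _).2 fun z hz => ?_
  have : Epi ((ModSite.quotOnπ O U).app A) :=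
    inferInstanceAs (Epi (cokernel.π ((ModSite.extZeroAdj O U).counit.app A)))
  obtain ⟨S, hS, hlift⟩ := exists_cover_lift ((ModSite.quotOnπ O U).app A) z
  refine eq_of_res hS fun W' g hg => ?_
  obtain ⟨x, hx⟩ := hlift g hg
  refine Eq.trans ?_ (map_zero (res _ g)).symm
  refine hx.symm.trans ((π_app_eq_zero_iff U _).2 ?_)
  have hax : (((ModSite.quotOnπ O U).app B).val.app (op W')).hom ((a.val.app (op W')).hom x) = 0 := by
    refine (congrArg (fun φ : A ⟶ (ModSite.quotOn O U).obj B => (φ.val.app (op W')).hom x)
      ((ModSite.quotOnπ O U).naturality a)).trans ?_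
    refine (congrArg (((ModSite.quotOn O U).map a).val.app (op W')).hom hx).trans ?_
    refine (res_app ((ModSite.quotOn O U).map a) g z).symm.trans ?_
    exact (congrArg (res _ g) hz).trans (map_zero _)
  have hinj : ∀ V, Function.Injective (a.val.app V).hom := fun V =>
    (ModuleCat.mono_iff_injective _).1
      (inferInstanceAs (Mono ((SheafOfModules.evaluation (ModSite.ringSh O) V).map a)))
  refine J.superset_covering (fun W'' f hf => ?_) ((π_app_eq_zero_iff U _).1 hax)
  rcases hf with h | h
  · exact Or.inl h
  · exact Or.inr (hinj _ (((res_app a f x).symm.trans h).trans (map_zero _).symm))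

instance preservesMonomorphisms_quotOn : (ModSite.quotOn O U).PreservesMonomorphisms :=
  ⟨fun a _ => mono_quotOn_map U a⟩

instance quotOn_additive : (ModSite.quotOn O U).Additive where
  map_add {M N φ ψ} := by
    apply coequalizer.hom_ext
    refine (cokernel.π_desc _ _ _).trans ?_
    refine Eq.trans ?_ (Preadditive.comp_add _ _ _ _ _ _).symm
    refine (Preadditive.add_comp _ _ _ _ _ _).trans ?_
    exact (congrArg₂ (· + ·) (cokernel.π_desc _ _ _) (cokernel.π_desc _ _ _)).symm

variable [ModSite.HasPushOver O U]

/-- A morphism into the sections with supports is a morphism vanishing on `U`. -/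
lemma comp_unit_eq_zero_iff {M N : ModSite.Mod O} (φ : M ⟶ N) :
    φ ≫ (ModSite.restrPushOverAdj O U).unit.app N = 0 ↔ φ ∈ ExtSupp.homZ U M N := by
  let adj := ModSite.restrPushOverAdj O U
  have key : adj.homEquiv M _ ((ModSite.restr O U).map φ) = φ ≫ adj.unit.app N :=
    (adj.homEquiv_unit _ _ _).trans (adj.unit.naturality φ).symm
  have key0 : adj.homEquiv M ((ModSite.restr O U).obj N) 0 = 0 := by
    rw [adj.homEquiv_unit, Functor.map_zero, comp_zero]
  change _ ↔ (ModSite.restr O U).map φ = 0
  rw [← key]
  exact ⟨fun h => (adj.homEquiv M _).injective (h.trans key0.symm), fun h => by rw [h, key0]⟩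

/-- `quotOn` is left adjoint to sections with supports. -/
noncomputable def quotSectAdj : ModSite.quotOn O U ⊣ ModSite.sectOn O U :=
  Adjunction.mkOfHomEquiv
    { homEquiv := fun M N =>
        { toFun := fun ψ => kernel.lift _ ((ModSite.quotOnπ O U).app M ≫ ψ)
            ((comp_unit_eq_zero_iff U _).2 ((ExtSupp.mem_homZ_iff U _).2 (by
              rw [← Category.assoc]
              exact (congrArg (· ≫ ψ) (cokernel.condition _)).trans zero_comp)))
          invFun := fun χ => cokernel.desc _ (χ ≫ (ModSite.sectOnι O U).app N)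
            ((ExtSupp.mem_homZ_iff U _).1 ((comp_unit_eq_zero_iff U _).1 (by
              rw [Category.assoc]
              exact (congrArg (χ ≫ ·) (kernel.condition _)).trans comp_zero)))
          left_inv := fun ψ => coequalizer.hom_ext ((cokernel.π_desc _ _ _).trans (kernel.lift_ι _ _ _))
          right_inv := fun χ => equalizer.hom_ext ((kernel.lift_ι _ _ _).trans (cokernel.π_desc _ _ _)) }
      homEquiv_naturality_left_symm := fun {M' M N} f g => coequalizer.hom_ext (by
        refine (cokernel.π_desc _ _ _).trans ?_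
        refine Eq.trans ?_ (Category.assoc _ _ _)
        refine Eq.trans ?_ (congrArg (· ≫ _) (cokernel.π_desc _ _ _).symm)
        refine Eq.trans ?_ (Category.assoc _ _ _).symm
        refine Eq.trans ?_ (congrArg (f ≫ ·) (cokernel.π_desc _ _ _).symm)
        exact Category.assoc _ _ _)
      homEquiv_naturality_right := fun {M N N'} f g => equalizer.hom_ext (by
        refine (kernel.lift_ι _ _ _).trans ?_
        refine Eq.trans ?_ (Category.assoc _ _ _).symm
        refine Eq.trans ?_ (congrArg (_ ≫ ·) (kernel.lift_ι _ _ _).symm)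
        refine Eq.trans ?_ (Category.assoc _ _ _)
        refine Eq.trans ?_ (congrArg (· ≫ g) (kernel.lift_ι _ _ _).symm)
        exact (Category.assoc _ _ _).symm) }

instance isLeftAdjoint_quotOn : (ModSite.quotOn O U).IsLeftAdjoint := (quotSectAdj U).isLeftAdjoint

instance isRightAdjoint_sectOn : (ModSite.sectOn O U).IsRightAdjoint := (quotSectAdj U).isRightAdjoint

/-- Sections with supports preserve injectives. -/
lemma injective_sectOn (Q : ModSite.Mod O) [Injective Q] : Injective ((ModSite.sectOn O U).obj Q) :=
  Injective.injective_of_adjoint (quotSectAdj U) Q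

end Groth.Agent.SuppCore
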