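import Groth.Agent.H9Misc.RestrExt

/-!
# Excision for Ext with supports on a ringed site
-/

universe w' w u

open CategoryTheory CategoryTheory.Limits Opposite Abelian

namespace Groth.Agent.SuppCore

variable {C : Type u} [SmallCategory C] {J : GrothendieckTopology C} {O : Sheaf J CommRingCat.{u}}

section Extend

variable {U V : C} (hV : ∀ X : C, Subsingleton (X ⟶ V))
  (hUV : J.CoversTop (fun b : Bool => cond b U V)) {Q X : ModSite.Mod O}

include hUV in
lemma cover_mem (W : C) : Sieve.ofObjects (fun b : Bool => cond b U V) W ∈ J W := hUV W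

include hUV in
lemma eq_of_res_cover {W : C} {a b : ModSite.sect X W}
    (h₁ : ∀ ⦃W' : C⦄ (g : W' ⟶ W), (W' ⟶ U) → res X g a = res X g b)
    (h₂ : ∀ ⦃W' : C⦄ (g : W' ⟶ W), (W' ⟶ V) → res X g a = res X g b) : a = b :=
  eq_of_res (cover_mem hUV W) fun W' g hg => by
    obtain ⟨i, ⟨k⟩⟩ := hg
    cases i
    · exact h₂ g k
    · exact h₁ g k

include hUV in
lemma app_zero_of_restr {φ : Q ⟶ X} (hQ : ∀ ⦃W : C⦄ (_ : W ⟶ U) (s : ModSite.sect Q W), s = 0)
    (h : (ModSite.restr O V).map φ = 0) : φ = 0 := by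
  apply SheafOfModules.hom_ext
  apply PresheafOfModules.hom_ext
  intro W
  ext s
  refine eq_of_res_cover (W := W.unop) hUV (fun W' g k => ?_) (fun W' g k => ?_)
  · refine (res_app φ g s).trans ?_
    rw [show res Q g s = 0 from hQ k _]
    exact (map_zero _).trans (map_zero _).symm
  · refine (res_app φ g s).trans (Eq.trans ?_ (map_zero _).symm)
    exact (mem_homZ_iff_app V φ).1 h k _

open Classical in
/-- The local values of the extension. -/
noncomputable def extVal (ψ : (ModSite.restr O V).obj Q ⟶ (ModSite.restr O V).obj X) {W : C}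
    (s : ModSite.sect Q W) : ModSite.sect X W :=
  if h : Nonempty (W ⟶ V) then (ψ.val.app (op (Over.mk h.some))).hom s else 0

variable (ψ : (ModSite.restr O V).obj Q ⟶ (ModSite.restr O V).obj X)

include hV in
lemma extVal_eq {W : C} (k : W ⟶ V) (s : ModSite.sect Q W) :
    extVal ψ s = (ψ.val.app (op (Over.mk k))).hom s := by
  have h : Nonempty (W ⟶ V) := ⟨k⟩
  refine (dif_pos h).trans ?_
  have e : h.some = k := (hV W).elim _ _
  exact e ▸ rfl

lemma extVal_neg {W : C} (h : ¬ Nonempty (W ⟶ V)) (s : ModSite.sect Q W) : extVal ψ s = 0 := dif_neg h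

include hV in
lemma res_extVal (hQ : ∀ ⦃W : C⦄ (_ : W ⟶ U) (s : ModSite.sect Q W), s = 0) {W' W : C} (f : W' ⟶ W)
    (hW : Nonempty (W ⟶ U) ∨ Nonempty (W ⟶ V)) (s : ModSite.sect Q W) :
    res X f (extVal ψ s) = extVal ψ (res Q f s) := by
  by_cases h : Nonempty (W ⟶ V)
  · obtain ⟨k⟩ := h
    rw [extVal_eq hV ψ k, extVal_eq hV ψ (f ≫ k)]
    exact (PresheafOfModules.naturality_apply ψ.val
      (Over.homMk f rfl : Over.mk (f ≫ k) ⟶ Over.mk k).op s).symm
  · obtain ⟨k⟩ := hW.resolve_right h
    rw [extVal_neg ψ h, map_zero, hQ k s, map_zero]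
    by_cases h' : Nonempty (W' ⟶ V)
    · obtain ⟨k'⟩ := h'
      rw [extVal_eq hV ψ k']
      exact (map_zero _).symm
    · exact (extVal_neg ψ h' _).symm

include hV in
lemma extVal_add {W : C} (a b : ModSite.sect Q W) : extVal ψ (a + b) = extVal ψ a + extVal ψ b := by
  by_cases h : Nonempty (W ⟶ V)
  · obtain ⟨k⟩ := h
    rw [extVal_eq hV ψ k, extVal_eq hV ψ k, extVal_eq hV ψ k]
    exact map_add _ _ _
  · rw [extVal_neg ψ h, extVal_neg ψ h, extVal_neg ψ h, add_zero]

include hV in
lemma extVal_smul {W : C} (r : (ModSite.ringSh O).obj.obj (op W)) (a : ModSite.sect Q W) :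
    extVal ψ (r • a) = r • extVal ψ a := by
  by_cases h : Nonempty (W ⟶ V)
  · obtain ⟨k⟩ := h
    rw [extVal_eq hV ψ k, extVal_eq hV ψ k]
    exact (ψ.val.app (op (Over.mk k))).hom.map_smul r a
  · rw [extVal_neg ψ h, extVal_neg ψ h, smul_zero]

include hV hUV in
lemma existsUnique_ext (hQ : ∀ ⦃W : C⦄ (_ : W ⟶ U) (s : ModSite.sect Q W), s = 0) {W : C}
    (s : ModSite.sect Q W) :
    ∃! t : ModSite.sect X W, ∀ ⦃W' : C⦄ (g : W' ⟶ W),
      Sieve.ofObjects (fun b : Bool => cond b U V) W g → res X g t = extVal ψ (res Q g s) := by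
  have hsh : Presieve.IsSheaf J ((ModSite.toAb X).obj ⋙ CategoryTheory.forget AddCommGrpCat.{u}) :=
    (isSheaf_iff_isSheaf_of_type J _).1
      ((sheafCompose J (CategoryTheory.forget AddCommGrpCat.{u})).obj (ModSite.toAb X)).property
  let S := Sieve.ofObjects (fun b : Bool => cond b U V) W
  let x : Presieve.FamilyOfElements ((ModSite.toAb X).obj ⋙ CategoryTheory.forget AddCommGrpCat.{u})
    S.arrows := fun W' g _ => extVal ψ (res Q g s)
  have hx : x.Compatible := by
    rw [Presieve.compatible_iff_sieveCompatible]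
    intro W' W'' g f hg
    refine Eq.trans ?_ (res_extVal (U := U) (X := X) hV ψ hQ f ?_ (res Q g s)).symm
    · exact congrArg (extVal ψ) (res_comp Q f g s)
    · obtain ⟨i, h⟩ := hg
      cases i
      · exact Or.inr h
      · exact Or.inl h
  exact hsh S (cover_mem hUV W) x hx

include hV hUV in
/-- A morphism over `V` out of a module null on `U` extends. -/
theorem exists_ext (hQ : ∀ ⦃W : C⦄ (_ : W ⟶ U) (s : ModSite.sect Q W), s = 0) :
    ∃ φ : Q ⟶ X, (ModSite.restr O V).map φ = ψ := by
  choose t ht huniq using fun (W : Cᵒᵖ) (s : ModSite.sect Q W.unop) => existsUnique_ext hV hUV ψ hQ s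
  have hadd : ∀ W a b, t W (a + b) = t W a + t W b := fun W a b => (huniq W (a + b) _ fun W' g hg => by
    rw [map_add, map_add, ht W a g hg, ht W b g hg, extVal_add hV]).symm
  have hsmul : ∀ W r a, t W (r • a) = r • t W a := fun W r a => (huniq W (r • a) _ fun W' g hg => by
    refine (res_smul X g r (t W a)).trans ?_
    rw [ht W a g hg, ← extVal_smul hV]
    exact congrArg (extVal ψ) (res_smul Q g r a).symm).symm
  let φ : Q.val ⟶ X.val :=
    { app := fun W => ModuleCat.ofHom
        { toFun := t W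
          map_add' := hadd W
          map_smul' := hsmul W }
      naturality := fun {W W'} f => by
        ext s
        refine (huniq W' (res Q f.unop s) (res X f.unop (t W s)) fun W'' g hg => ?_).symm
        refine (res_comp X g f.unop (t W s)).symm.trans ((ht W s (g ≫ f.unop) ?_).trans ?_)
        · obtain ⟨i, h⟩ := hg
          exact ⟨i, h⟩
        · exact congrArg (extVal ψ) (res_comp Q g f.unop s) }
  refine ⟨⟨φ⟩, ?_⟩
  apply SheafOfModules.hom_ext
  apply PresheafOfModules.hom_ext
  intro Y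
  ext s
  refine (huniq (op Y.unop.left) s ((ψ.val.app Y).hom s) fun W' g hg => ?_).symm
  refine Eq.trans ?_ (extVal_eq hV ψ (g ≫ Y.unop.hom) _).symm
  exact (PresheafOfModules.naturality_apply ψ.val
    (Over.homMk g rfl : Over.mk (g ≫ Y.unop.hom) ⟶ Y.unop).op s).symm

end Extend

section Excision

variable [HasBinaryProducts C] (U V : C) (M : ModSite.Mod O)

/-- The product, as an object over `V`. -/
noncomputable abbrev prodOver : Over V := Over.mk (prod.snd : U ⨯ V ⟶ V)

lemma locOverSieve_prodOver {W : Over V} {s : ModSite.sect ((ModSite.restr O V).obj M) W}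
    (h : locOverSieve U M (W := W.left) s ∈ J W.left) :
    locOverSieve (prodOver U V) ((ModSite.restr O V).obj M) s ∈ J.over V W := by
  rw [GrothendieckTopology.mem_over_iff]
  refine J.superset_covering (fun W' g hg => (Sieve.overEquiv_iff _ g).2 ?_) h
  rcases hg with hg | hg
  · exact Or.inl (hg.map fun k => Over.homMk (prod.lift k (g ≫ W.hom)) (prod.lift_snd _ _))
  · exact Or.inr hg

/-- `(M/M_U)|_V ≅ (M|_V)/(M|_V)_{U × V}`. -/
theorem nonempty_restr_quotOn_iso :
    Nonempty ((ModSite.quotOn (O.over V) (prodOver U V)).obj ((ModSite.restr O V).obj M) ≅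
      (ModSite.restr O V).obj ((ModSite.quotOn O U).obj M)) := by
  have := preservesFiniteColimits_restr (O := O) V
  let ε := (ModSite.extZeroAdj O U).counit.app M
  let p : (ModSite.restr O V).obj M ⟶ (ModSite.restr O V).obj ((ModSite.quotOn O U).obj M) :=
    (ModSite.restr O V).map ((ModSite.quotOnπ O U).app M)
  let π' := (ModSite.quotOnπ (O.over V) (prodOver U V)).app ((ModSite.restr O V).obj M)
  have hp : p ∈ ExtSupp.homZ (prodOver U V) _ _ :=
    (mem_homZ_iff_app (prodOver U V) p).2 fun Y k s => π_app_of_hom U (k.left ≫ prod.fst) s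
  have hc := CokernelCofork.mapIsColimit _ (cokernelIsCokernel ε) (ModSite.restr O V)
  have hw : (ModSite.restr O V).map ε ≫ π' = 0 := by
    apply SheafOfModules.hom_ext
    apply PresheafOfModules.hom_ext
    intro Y
    ext z
    refine (π_app_eq_zero_iff (prodOver U V) (W := Y.unop) _).2 (locOverSieve_prodOver U V M ?_)
    obtain ⟨k, hk⟩ := exists_counit_fac U M
    refine (mem_locOver_iff U (W := Y.unop.left) ((ε.val.app (op Y.unop.left)).hom z)).1 ?_
    rw [show ε = k ≫ locOverι U M from hk.symm]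
    exact ((k.val.app (op Y.unop.left)).hom z).2
  obtain ⟨l, hl⟩ := CokernelCofork.IsColimit.desc' hc π' hw
  have hl' : p ≫ l = π' := hl
  let r := cokernel.desc _ p ((ExtSupp.mem_homZ_iff (prodOver U V) p).1 hp)
  have hr : π' ≫ r = p := cokernel.π_desc _ _ _
  have : Epi π' := inferInstanceAs
    (Epi (cokernel.π ((ModSite.extZeroAdj (O.over V) (prodOver U V)).counit.app ((ModSite.restr O V).obj M))))
  have : Epi p := Cofork.IsColimit.epi hc
  exact ⟨{ hom := r
           inv := l
           hom_inv_id := (cancel_epi π').1 (((Category.assoc _ _ _).symm.trans (congrArg (· ≫ l) hr)).trans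
             (hl'.trans (Category.comp_id _).symm))
           inv_hom_id := (cancel_epi p).1 (((Category.assoc _ _ _).symm.trans (congrArg (· ≫ r) hl')).trans
             (hr.trans (Category.comp_id _).symm)) }⟩

/-- Excision. -/
theorem nonempty_extZ_addEquiv_extZover [HasExt.{w} (ModSite.Mod O)] [HasExt.{w'} (ModSite.Mod (O.over V))]
    (hV : ∀ X : C, Subsingleton (X ⟶ V)) (hUV : J.CoversTop (fun b : Bool => cond b U V)) (N : ModSite.Mod O)
    (i : ℕ) :
    Nonempty (ExtSupp.ExtZ U M N i ≃+ ExtSupp.ExtZover V (prodOver U V) M N i) := by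
  have := preservesFiniteColimits_restr (O := O) V
  have : PreservesLimitsOfSize.{0, 0} (ModSite.restr O V) :=
    (ModSite.extZeroAdj O V).rightAdjoint_preservesLimits
  have : PreservesFiniteLimits (ModSite.restr O V) := ⟨fun _ => inferInstance⟩
  have : (ModSite.extZero O V).PreservesMonomorphisms := ⟨fun f _ => ModTensor.mono_extZero_map O V f⟩
  obtain ⟨e'⟩ := nonempty_restr_quotOn_iso U V M (O := O)
  have hQ : ∀ ⦃W : C⦄ (_ : W ⟶ U) (s : ModSite.sect ((ModSite.quotOn O U).obj M) W), s = 0 :=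
    (ExtSupp.isNullOn_iff O U _).1 (ExtSupp.isNullOn_quotOn O U M)
  refine SiteBase.nonempty_ext_addEquiv (ModSite.restr O V) ((ModSite.quotOn O U).obj M) _
    (fun E hE => hE.map_of_exact (ModSite.restr O V))
    (fun I hI q => haveI := Injective.injective_of_adjoint (ModSite.extZeroAdj O V) I
      Ext.subsingleton_of_injective _ _ q)
    (fun X => AddEquiv.ofBijective
      (AddMonoidHom.mk' (fun φ => e'.hom ≫ (ModSite.restr O V).map φ)
        (fun _ _ => by rw [Functor.map_add, Preadditive.comp_add]))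
      ⟨(injective_iff_map_eq_zero _).2 fun φ hφ => app_zero_of_restr hUV hQ
        ((cancel_epi e'.hom).1 (hφ.trans comp_zero.symm)), fun ψ => ?_⟩)
    (fun X Y φ g => ?_) i N
  · obtain ⟨φ, hφ⟩ := exists_ext hV hUV (e'.inv ≫ ψ) hQ
    refine ⟨φ, ?_⟩
    show e'.hom ≫ (ModSite.restr O V).map φ = ψ
    rw [hφ, Iso.hom_inv_id_assoc]
  · show e'.hom ≫ (ModSite.restr O V).map (φ ≫ g) = (e'.hom ≫ (ModSite.restr O V).map φ) ≫ _
    rw [Functor.map_comp, Category.assoc]

end Excision

end Groth.Agent.SuppCore
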