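import Groth.Agent.H9Misc.SupportsTensor
import Groth.Agent.SiteBase.ExtMod
import Groth.Agent.SiteBase.MonoExtend
import Groth.Agent.SpObjSS.SiteLeray

/-!
# Cohomology with supports as Ext groups out of `O/O_U`; acyclicity
-/

universe u

open CategoryTheory CategoryTheory.Limits Opposite Abelian
open Groth.Agent.SiteBase

namespace Groth.Agent.SuppCore

variable {C : Type u} [SmallCategory C] {J : GrothendieckTopology C}

/-- The underlying sheaf of sets. -/
noncomputable abbrev setSh (F : Sheaf J AddCommGrpCat.{u}) : Sheaf J (Type u) :=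
  (sheafCompose J (CategoryTheory.forget AddCommGrpCat.{u})).obj F

/-- The terminal sheaf of sets has one section over each object. -/
noncomputable instance uniqueTop (W : Cᵒᵖ) : Unique ((⊤_ (Sheaf J (Type u))).obj.obj W) :=
  (Types.isTerminalEquivUnique _)
    (IsTerminal.isTerminalObj (sheafToPresheaf J (Type u) ⋙ (evaluation Cᵒᵖ (Type u)).obj W) _
      terminalIsTerminal)

/-- Higher Ext out of `Z/Z_V` into a totally acyclic sheaf vanishes. -/
theorem subsingleton_ext_quotZ {F : Sheaf J AddCommGrpCat.{u}} (hF : CohCx.IsTotallyAcyclic F)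
    (V : Sheaf J (Type u)) (q : ℕ) :
    Subsingleton (Ext.{u} (ToposFin.quotZ V) F (q + 1)) := by
  let Φ := Sheaf.composeAndSheafify J AddCommGrpCat.free.{u}
  let ι := Sheaf.imageι (terminal.from V)
  have : Mono (Φ.map ι) := mono_free_map ι
  have : Φ.IsLeftAdjoint := (Sheaf.adjunction J AddCommGrpCat.adj).isLeftAdjoint
  have : Epi (Φ.map (Sheaf.toImage (terminal.from V))) := inferInstance
  let π : freeSh (⊤_ (Sheaf J (Type u))) ⟶ ToposFin.quotZ V := cokernel.π _
  have hw : Φ.map (terminal.from V) ≫ π = 0 := cokernel.condition _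
  have hfac : Φ.map (Sheaf.toImage (terminal.from V)) ≫ Φ.map ι = Φ.map (terminal.from V) := by
    rw [← Functor.map_comp, Sheaf.toImage_ι]
  let S := ShortComplex.mk (Φ.map ι) π ((cancel_epi (Φ.map (Sheaf.toImage (terminal.from V)))).1
    ((Category.assoc _ _ _).symm.trans ((congrArg (· ≫ π) hfac).trans (hw.trans comp_zero.symm))))
  have hS : S.ShortExact :=
    { exact := ShortComplex.exact_of_g_is_cokernel _ (CokernelCofork.IsColimit.ofπ _ _
        (fun {Z} g hg => cokernel.desc _ g (by
          refine (congrArg (· ≫ g) hfac.symm).trans ?_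
          rw [Category.assoc]
          exact (congrArg (_ ≫ ·) hg).trans comp_zero))
        (fun {Z} g hg => cokernel.π_desc _ _ _)
        (fun {Z} g hg m hm => coequalizer.hom_ext (hm.trans (cokernel.π_desc _ _ _).symm)))
      mono_f := inferInstanceAs (Mono (Φ.map ι))
      epi_g := inferInstanceAs (Epi (cokernel.π (Φ.map (terminal.from V)))) }
  refine subsingleton_of_forall_eq 0 fun x => ?_
  obtain ⟨y, hy⟩ := Ext.contravariant_sequence_exact₃ hS F x
    ((hF (⊤_ (Sheaf J (Type u))) q).elim _ _) (n₀ := q) (by omega)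
  rcases q with _ | q
  · obtain ⟨φ, rfl⟩ := (Ext.mk₀_bijective S.X₁ F).2 y
    obtain ⟨ψ, hψ⟩ := exists_extend_of_isTotallyAcyclic hF ι φ
    rw [← hy, show φ = S.f ≫ ψ from hψ.symm, ← Ext.mk₀_comp_mk₀, ← Ext.comp_assoc_of_third_deg_zero,
      hS.extClass_comp, Ext.zero_comp]
  · have : y = 0 := (hF (Sheaf.image (terminal.from V)) q).elim _ _
    rw [← hy, this, Ext.comp_zero]

variable {O : Sheaf J CommRingCat.{u}} (U : C)

/-- The sections of `X`, as maps from the terminal sheaf of sets. -/
noncomputable def topHom (X : ModSite.Mod O) (s : X.sections) :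
    (⊤_ (Sheaf J (Type u))) ⟶ setSh (ModSite.toAb X) :=
  ⟨{ app := fun W => TypeCat.ofHom fun _ => s.val W
     naturality := fun V W f => by ext a; exact (s.property f).symm }⟩

/-- A map from the terminal sheaf of sets gives sections. -/
noncomputable def topSec (X : ModSite.Mod O) (t : (⊤_ (Sheaf J (Type u))) ⟶ setSh (ModSite.toAb X)) :
    X.sections :=
  ⟨fun W => t.hom.app W default, fun {V W} f => by
    refine (NatTrans.naturality_apply t.hom f default).symm.trans ?_
    exact congrArg (t.hom.app W) (Subsingleton.elim _ _)⟩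

lemma topHom_topSec (X : ModSite.Mod O) (t : (⊤_ (Sheaf J (Type u))) ⟶ setSh (ModSite.toAb X)) :
    topHom X (topSec X t) = t := by
  apply CategoryTheory.Sheaf.hom_ext
  ext W a
  exact congrArg (t.hom.app W) (Subsingleton.elim _ _)

/-- The sections of `O/O_U` given by the class of `1`. -/
noncomputable def oneSec : ((ModSite.quotOn O U).obj (ModSite.unit O)).sections :=
  ((ModSite.quotOn O U).obj (ModSite.unit O)).unitHomEquiv ((ModSite.quotOnπ O U).app (ModSite.unit O))

lemma secT_terminal_comp {F : Sheaf J AddCommGrpCat.{u}} (t : (⊤_ (Sheaf J (Type u))) ⟶ setSh F) :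
    secT U (setSh F) (terminal.from (ToposFin.eps J U) ≫ t) = t.hom.app (op U) default :=
  (secT_comp U (terminal.from (ToposFin.eps J U)) t).trans (congrArg (t.hom.app (op U)) (Subsingleton.elim _ _))

lemma secT_freeShEquiv_zero (F : Sheaf J AddCommGrpCat.{u}) :
    secT U (setSh F) (freeShEquiv (ToposFin.eps J U) F 0) = (0 : F.obj.obj (op U)) := by
  rw [show (0 : freeSh (ToposFin.eps J U) ⟶ F) = 0 ≫ (0 : F ⟶ F) from comp_zero.symm, freeShEquiv_comp,
    secT_comp]
  generalize secT U _ (freeShEquiv (ToposFin.eps J U) F 0) = x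
  show ((0 : F ⟶ F).hom.app (op U)).hom x = (0 : F.obj.obj (op U))
  rw [show (0 : F ⟶ F).hom.app (op U) = 0 from rfl]
  rfl

lemma comp_freeSh_eq_zero_iff {F : Sheaf J AddCommGrpCat.{u}} (φ : freeSh (⊤_ (Sheaf J (Type u))) ⟶ F) :
    (Sheaf.composeAndSheafify J AddCommGrpCat.free.{u}).map (terminal.from (ToposFin.eps J U)) ≫ φ = 0 ↔
      (freeShEquiv _ F φ).hom.app (op U) default = (0 : F.obj.obj (op U)) := by
  rw [← secT_terminal_comp U, ← (freeShEquiv _ F).injective.eq_iff, freeShEquiv_precomp,
    ← (secT U (setSh F)).injective.eq_iff, secT_freeShEquiv_zero]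

lemma oneSec_val : (oneSec (O := O) U).val (op U) = 0 :=
  π_app_of_hom U (𝟙 U) _

/-- The comparison map from `Z/Z_U` to `O/O_U`. -/
noncomputable def quotZTo :
    ToposFin.quotZ (ToposFin.eps J U) ⟶ ModSite.toAb ((ModSite.quotOn O U).obj (ModSite.unit O)) :=
  cokernel.desc _ ((freeShEquiv _ _).symm (topHom _ (oneSec U))) (by
    refine (comp_freeSh_eq_zero_iff U _).2 ?_
    rw [Equiv.apply_symm_apply]
    exact oneSec_val U)

/-- The sections attached to a morphism out of `Z/Z_U`. -/
noncomputable def secOf (X : ModSite.Mod O) (q : ToposFin.quotZ (ToposFin.eps J U) ⟶ ModSite.toAb X) :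
    X.sections :=
  topSec X (freeShEquiv _ _ (cokernel.π _ ≫ q))

lemma secOf_injective (X : ModSite.Mod O) : Function.Injective (secOf U X) := fun a b h => by
  have h' := congrArg (topHom X) h
  rw [secOf, secOf, topHom_topSec, topHom_topSec] at h'
  exact coequalizer.hom_ext ((freeShEquiv _ _).injective h')

lemma secOf_quotZTo {X : ModSite.Mod O} (ψ : (ModSite.quotOn O U).obj (ModSite.unit O) ⟶ X) :
    secOf U X (quotZTo U ≫ (SheafOfModules.toSheaf (ModSite.ringSh O)).map ψ) =
      X.unitHomEquiv ((ModSite.quotOnπ O U).app (ModSite.unit O) ≫ ψ) := by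
  have h : cokernel.π _ ≫ quotZTo (O := O) U = (freeShEquiv _ _).symm (topHom _ (oneSec U)) :=
    cokernel.π_desc _ _ _
  refine Subtype.ext (funext fun W => ?_)
  refine (congrArg (fun t : (⊤_ (Sheaf J (Type u))) ⟶ setSh (ModSite.toAb X) => t.hom.app W default)
    ((congrArg (freeShEquiv _ _) ((Category.assoc _ _ _).symm.trans (congrArg (· ≫ _) h))).trans
      ((freeShEquiv_comp _ _).trans (congrArg (· ≫ _) (Equiv.apply_symm_apply _ _))))).trans ?_
  rfl

theorem quotZTo_bijective (X : ModSite.Mod O) :
    Function.Bijective fun ψ : (ModSite.quotOn O U).obj (ModSite.unit O) ⟶ X =>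
      quotZTo U ≫ (SheafOfModules.toSheaf (ModSite.ringSh O)).map ψ := by
  constructor
  · intro a b h
    have h' := congrArg (secOf U X) h
    simp only [secOf_quotZTo] at h'
    exact coequalizer.hom_ext (X.unitHomEquiv.injective h')
  · intro q
    let φ : ModSite.unit O ⟶ X := X.unitHomEquiv.symm (secOf U X q)
    have h0 : (secOf U X q).val (op U) = 0 := by
      refine (comp_freeSh_eq_zero_iff U _).1 ?_
      exact ((Category.assoc _ _ _).symm.trans (congrArg (· ≫ q) (cokernel.condition _))).trans zero_comp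
    have hφ : φ ∈ ExtSupp.homZ U (ModSite.unit O) X := by
      refine (mem_homZ_iff_app U φ).2 fun W k r => ?_
      have h1 : (φ.val.app (op W)).hom (1 : O.obj.obj (op W)) = 0 := by
        refine ((congrArg (fun s : X.sections => s.val (op W))
          (X.unitHomEquiv.apply_symm_apply (secOf U X q))).trans ?_)
        exact ((secOf U X q).property k.op).symm.trans
          ((congrArg (X.val.map k.op).hom h0).trans (map_zero _))
      let r' : (ModSite.ringSh O).obj.obj (op W) := r
      have hr : r = r' • (show ModSite.sect (ModSite.unit O) W from (1 : (ModSite.ringSh O).obj.obj (op W))) :=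
        (mul_one r').symm
      refine (congrArg (φ.val.app (op W)).hom hr).trans ?_
      refine ((φ.val.app (op W)).hom.map_smul _ _).trans ?_
      exact (congrArg (r' • ·) h1).trans (smul_zero _)
    refine ⟨cokernel.desc _ φ ((ExtSupp.mem_homZ_iff U φ).1 hφ), secOf_injective U X ?_⟩
    refine (secOf_quotZTo U _).trans ((congrArg X.unitHomEquiv (cokernel.π_desc _ _ _)).trans ?_)
    exact X.unitHomEquiv.apply_symm_apply _

variable [HasExt.{u} (ModSite.Mod O)]

/-- Cohomology with supports is Ext out of `O/O_U`. -/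
theorem nonempty_ext_quotUnit_addEquiv_HZ (X : ModSite.Mod O) (n : ℕ) :
    Nonempty (Ext.{u} ((ModSite.quotOn O U).obj (ModSite.unit O)) X n ≃+ ModSite.HZ U X n) :=
  nonempty_ext_addEquiv (SheafOfModules.toSheaf (ModSite.ringSh O))
    ((ModSite.quotOn O U).obj (ModSite.unit O)) (ToposFin.quotZ (ToposFin.eps J U))
    (fun _ hE => hE.map_of_exact (SheafOfModules.toSheaf (ModSite.ringSh O)))
    (fun I hI q => subsingleton_ext_quotZ (@isTotallyAcyclic_toSheaf_injective _ _ _ (ModSite.ringSh O) I hI) _ q)
    (fun Y => AddEquiv.ofBijective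
      (AddMonoidHom.mk' (fun ψ => quotZTo U ≫ (SheafOfModules.toSheaf (ModSite.ringSh O)).map ψ)
        (fun _ _ => by rw [Functor.map_add, Preadditive.comp_add]))
      (quotZTo_bijective U Y))
    (fun Y Z φ g => by
      show quotZTo U ≫ (SheafOfModules.toSheaf (ModSite.ringSh O)).map (φ ≫ g) = (quotZTo U ≫ _) ≫ _
      rw [Functor.map_comp, Category.assoc]) n X

omit [HasExt.{u} (ModSite.Mod O)] in
/-- Cohomology with supports of a totally acyclic module vanishes. -/
theorem subsingleton_HZ (X : ModSite.Mod O) (hX : CohCx.IsTotallyAcyclic (ModSite.toAb X)) (n : ℕ) :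
    Subsingleton (ModSite.HZ U X (n + 1)) :=
  subsingleton_ext_quotZ hX _ n

end Groth.Agent.SuppCore
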