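import Groth.Agent.H9Misc.SupportsCore
import Groth.Agent.ModTensor.Flat
import Groth.Agent.ModTensor.SheafHom

/-!
# Tensor products and the quotient supported in the closed complement
-/

universe u

open CategoryTheory CategoryTheory.Limits Opposite MonoidalCategory TensorProduct
open Groth.Agent.ModTensor

namespace Groth.Agent.SuppCore

variable {C : Type u} [SmallCategory C] {J : GrothendieckTopology C} {O : Sheaf J CommRingCat.{u}}

/-- The tensor product of two sheaves of modules. -/
noncomputable abbrev tens (X M : ModSite.Mod O) : ModSite.Mod O := ((ModSite.tensorBi O).obj X).obj M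

instance additive_tensorBi_obj (X : ModSite.Mod O) : ((ModSite.tensorBi O).obj X).Additive :=
  Functor.additive_of_iso ((tensorFlipIso O).app X)

variable (U : C) {X M Q : ModSite.Mod O}

/-- The presheaf map of a morphism out of a tensor product. -/
noncomputable abbrev adjunct (φ : tens X M ⟶ Q) : ((fg O).obj X ⊗ (fg O).obj M : P₀ O) ⟶ (fg O).obj Q :=
  (shAdj O).homEquiv _ _ φ

/-- A morphism out of a tensor product vanishes on `U` if and only if it kills elementary tensors over `U`. -/
lemma mem_homZ_tens_iff (φ : tens X M ⟶ Q) :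
    φ ∈ ExtSupp.homZ U (tens X M) Q ↔
      ∀ ⦃W : C⦄ (_ : W ⟶ U) (x : ((fg O).obj X).obj (op W)) (m : ((fg O).obj M).obj (op W)),
        (adjunct φ).app (op W) (tm x m) = 0 := by
  rw [mem_homZ_iff_app]
  constructor
  · intro h W k x m
    exact h k (((shAdj O).unit.app ((fg O).obj X ⊗ (fg O).obj M)).app (op W) (tm x m))
  · intro h W k s
    let η := (shAdj O).unit.app ((fg O).obj X ⊗ (fg O).obj M)
    have hz : ∀ {W' : C} (_ : W' ⟶ U) (p : ((fg O).obj X ⊗ (fg O).obj M : P₀ O).obj (op W')),
        (adjunct φ).app (op W') p = 0 := fun {W'} k' p => by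
      induction p using TensorProduct.induction_on with
      | zero => exact map_zero ((adjunct φ).app (op W')).hom
      | tmul x m => exact h k' x m
      | add a b ha hb =>
        exact (map_add ((adjunct φ).app (op W')).hom a b).trans
          ((congrArg₂ (· + ·) ha hb).trans (add_zero _))
    refine eq_of_res (Presheaf.imageSieve_mem J ((PresheafOfModules.toPresheaf _).map η) s)
      fun W' g hg => ?_
    obtain ⟨p, hp⟩ := hg
    refine ((res_app φ g s).trans ?_).trans (map_zero _).symm
    refine (congrArg (φ.val.app (op W')).hom hp.symm).trans ?_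
    exact hz (g ≫ k) p

/-- The adjunct of zero is zero. -/
lemma adjunct_zero {P : P₀ O} : (shAdj O).homEquiv P Q 0 = 0 := by
  rw [Adjunction.homEquiv_unit]
  exact (congrArg ((shAdj O).unit.app P ≫ ·) ((fg O).map_zero _ _)).trans comp_zero

/-- A morphism vanishing on `U` kills tensors with a left factor locally zero or over `U`. -/
lemma adjunct_tm_left_eq_zero {φ : tens X M ⟶ Q} (h : φ ∈ ExtSupp.homZ U (tens X M) Q) {W : C}
    (x : ((fg O).obj X).obj (op W)) (hx : locOverSieve U X (W := W) x ∈ J W)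
    (m : ((fg O).obj M).obj (op W)) : (adjunct φ).app (op W) (tm x m) = 0 := by
  refine eq_of_res (M := Q) hx fun W' g hg => ?_
  refine ((app_rs (adjunct φ) g.op (tm x m)).symm.trans ?_).trans (map_zero _).symm
  rw [rs_tm]
  rcases hg with hg | hg
  · exact hg.elim fun k' => (mem_homZ_tens_iff U φ).1 h k' _ _
  · refine (congrArg (fun y => (adjunct φ).app (op W') (tm y _)) hg).trans ?_
    exact (congrArg ((adjunct φ).app (op W')).hom (TensorProduct.zero_tmul _ _)).trans (map_zero _)

/-- A morphism vanishing on `U` kills tensors with a right factor locally zero or over `U`. -/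
lemma adjunct_tm_right_eq_zero {φ : tens X M ⟶ Q} (h : φ ∈ ExtSupp.homZ U (tens X M) Q) {W : C}
    (x : ((fg O).obj X).obj (op W)) (m : ((fg O).obj M).obj (op W))
    (hm : locOverSieve U M (W := W) m ∈ J W) : (adjunct φ).app (op W) (tm x m) = 0 := by
  refine eq_of_res (M := Q) hm fun W' g hg => ?_
  refine ((app_rs (adjunct φ) g.op (tm x m)).symm.trans ?_).trans (map_zero _).symm
  rw [rs_tm]
  rcases hg with hg | hg
  · exact hg.elim fun k' => (mem_homZ_tens_iff U φ).1 h k' _ _
  · refine (congrArg (fun y => (adjunct φ).app (op W') (tm _ y)) hg).trans ?_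
    exact (congrArg ((adjunct φ).app (op W')).hom (TensorProduct.tmul_zero _ _)).trans (map_zero _)

/-- A section coming from `M_U` is locally zero or over `U`. -/
lemma locOverSieve_counit (M : ModSite.Mod O) {W : C}
    (z : ((fg O).obj (ExtSupp.openMod U M)).obj (op W)) :
    locOverSieve U M (W := W) ((((ModSite.extZeroAdj O U).counit.app M).val.app (op W)).hom z) ∈ J W := by
  obtain ⟨k, hk⟩ := exists_counit_fac U M
  rw [← hk]
  exact ((k.val.app (op W)).hom z).2

lemma sh_map_comp_eq_zero_iff {P P' : P₀ O} (g : P' ⟶ P) (φ : (sh O).obj P ⟶ Q) :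
    (sh O).map g ≫ φ = 0 ↔ g ≫ (shAdj O).homEquiv _ _ φ = 0 := by
  rw [← ((shAdj O).homEquiv _ _).injective.eq_iff, Adjunction.homEquiv_naturality_left, adjunct_zero]

lemma map_left_comp_eq_zero_iff {X' : ModSite.Mod O} (f : X' ⟶ X) (φ : tens X M ⟶ Q) :
    ((ModSite.tensorBi O).flip.obj M).map f ≫ φ = 0 ↔
      ∀ (Y : Cᵒᵖ) (z : ((fg O).obj X').obj Y) (m : ((fg O).obj M).obj Y),
        (adjunct φ).app Y (tm (((fg O).map f).app Y z) m) = 0 := by
  change (sh O).map ((fg O).map f ▷ (fg O).obj M) ≫ φ = 0 ↔ _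
  refine (sh_map_comp_eq_zero_iff _ φ).trans ?_
  exact ⟨fun h Y z m => congrArg (fun t => t.app Y (tm z m)) h, fun h => hom_ext_tm h⟩

lemma map_right_comp_eq_zero_iff {M' : ModSite.Mod O} (f : M' ⟶ M) (φ : tens X M ⟶ Q) :
    ((ModSite.tensorBi O).obj X).map f ≫ φ = 0 ↔
      ∀ (Y : Cᵒᵖ) (x : ((fg O).obj X).obj Y) (z : ((fg O).obj M').obj Y),
        (adjunct φ).app Y (tm x (((fg O).map f).app Y z)) = 0 := by
  change (sh O).map ((fg O).obj X ◁ (fg O).map f) ≫ φ = 0 ↔ _
  refine (sh_map_comp_eq_zero_iff _ φ).trans ?_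
  exact ⟨fun h Y x z => congrArg (fun t => t.app Y (tm x z)) h, fun h => hom_ext_tm h⟩

/-- Killing `(X_U) ⊗ M` is vanishing on `U`. -/
lemma whiskerRight_counit_comp_eq_zero_iff (φ : tens X M ⟶ Q) :
    ((ModSite.tensorBi O).flip.obj M).map ((ModSite.extZeroAdj O U).counit.app X) ≫ φ = 0 ↔
      φ ∈ ExtSupp.homZ U (tens X M) Q := by
  refine (map_left_comp_eq_zero_iff _ φ).trans ⟨fun h => ?_, fun h Y z m => ?_⟩
  · refine (mem_homZ_tens_iff U φ).2 fun W k x m => ?_
    obtain ⟨z, hz⟩ := exists_counit_eq U k x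
    exact (congrArg (fun y => (adjunct φ).app (op W) (tm y m)) hz.symm).trans (h (op W) z m)
  · exact adjunct_tm_left_eq_zero U h _ (locOverSieve_counit U X z) m

/-- Killing `X ⊗ (M_U)` is vanishing on `U`. -/
lemma whiskerLeft_counit_comp_eq_zero_iff (φ : tens X M ⟶ Q) :
    ((ModSite.tensorBi O).obj X).map ((ModSite.extZeroAdj O U).counit.app M) ≫ φ = 0 ↔
      φ ∈ ExtSupp.homZ U (tens X M) Q := by
  refine (map_right_comp_eq_zero_iff _ φ).trans ⟨fun h => ?_, fun h Y x z => ?_⟩
  · refine (mem_homZ_tens_iff U φ).2 fun W k x m => ?_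
    obtain ⟨z, hz⟩ := exists_counit_eq U k m
    exact (congrArg (fun y => (adjunct φ).app (op W) (tm x y)) hz.symm).trans (h (op W) x z)
  · exact adjunct_tm_right_eq_zero U h x _ (locOverSieve_counit U M z)

variable (X M)

/-- `X ⊗ M ⟶ (X/X_U) ⊗ M`. -/
noncomputable abbrev projLeft : tens X M ⟶ tens ((ModSite.quotOn O U).obj X) M :=
  ((ModSite.tensorBi O).flip.obj M).map ((ModSite.quotOnπ O U).app X)

/-- `X ⊗ M ⟶ X ⊗ (M/M_U)`. -/
noncomputable abbrev projRight : tens X M ⟶ tens X ((ModSite.quotOn O U).obj M) :=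
  ((ModSite.tensorBi O).obj X).map ((ModSite.quotOnπ O U).app M)

/-- `(X/X_U) ⊗ M` is a cokernel. -/
noncomputable def isColimitProjLeft :=
  CokernelCofork.mapIsColimit _ (cokernelIsCokernel ((ModSite.extZeroAdj O U).counit.app X))
    ((ModSite.tensorBi O).flip.obj M)

/-- `X ⊗ (M/M_U)` is a cokernel. -/
noncomputable def isColimitProjRight :=
  CokernelCofork.mapIsColimit _ (cokernelIsCokernel ((ModSite.extZeroAdj O U).counit.app M))
    ((ModSite.tensorBi O).obj X)

lemma projLeft_mem : projLeft U X M ∈ ExtSupp.homZ U _ _ := by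
  rw [← whiskerRight_counit_comp_eq_zero_iff, ← Functor.map_comp]
  exact (congrArg _ (cokernel.condition _)).trans (Functor.map_zero _ _ _)

lemma projRight_mem : projRight U X M ∈ ExtSupp.homZ U _ _ := by
  rw [← whiskerLeft_counit_comp_eq_zero_iff, ← Functor.map_comp]
  exact (congrArg _ (cokernel.condition _)).trans (Functor.map_zero _ _ _)

instance epi_projLeft : Epi (projLeft U X M) :=
  Cofork.IsColimit.epi (isColimitProjLeft U X M)

instance epi_projRight : Epi (projRight U X M) :=
  Cofork.IsColimit.epi (isColimitProjRight U X M)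

/-- `(X/X_U) ⊗ M ≅ X ⊗ (M/M_U)`. -/
noncomputable def tensQuotIso :
    tens ((ModSite.quotOn O U).obj X) M ≅ tens X ((ModSite.quotOn O U).obj M) :=
  let l := CokernelCofork.IsColimit.desc' (isColimitProjLeft U X M) (projRight U X M)
    ((whiskerRight_counit_comp_eq_zero_iff U _).2 (projRight_mem U X M))
  let r := CokernelCofork.IsColimit.desc' (isColimitProjRight U X M) (projLeft U X M)
    ((whiskerLeft_counit_comp_eq_zero_iff U _).2 (projLeft_mem U X M))
  { hom := l.1
    inv := r.1
    hom_inv_id := (cancel_epi (projLeft U X M)).1 (by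
      refine (Category.assoc _ _ _).symm.trans ?_
      exact ((congrArg (· ≫ r.1) l.2).trans r.2).trans (Category.comp_id _).symm)
    inv_hom_id := (cancel_epi (projRight U X M)).1 (by
      refine (Category.assoc _ _ _).symm.trans ?_
      exact ((congrArg (· ≫ l.1) r.2).trans l.2).trans (Category.comp_id _).symm) }

lemma projLeft_tensQuotIso : projLeft U X M ≫ (tensQuotIso U X M).hom = projRight U X M :=
  (CokernelCofork.IsColimit.desc' (isColimitProjLeft U X M) (projRight U X M)
    ((whiskerRight_counit_comp_eq_zero_iff U _).2 (projRight_mem U X M))).2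

variable {X M}

lemma tensQuotIso_naturality_left {X' : ModSite.Mod O} (f : X ⟶ X') (M : ModSite.Mod O) :
    ((ModSite.tensorBi O).flip.obj M).map ((ModSite.quotOn O U).map f) ≫ (tensQuotIso U X' M).hom =
      (tensQuotIso U X M).hom ≫ ((ModSite.tensorBi O).flip.obj ((ModSite.quotOn O U).obj M)).map f := by
  rw [← cancel_epi (projLeft U X M), ← Category.assoc, ← Category.assoc, projLeft_tensQuotIso,
    ← Functor.map_comp, ← (ModSite.quotOnπ O U).naturality f, Functor.map_comp, Category.assoc]
  refine (congrArg _ (projLeft_tensQuotIso U X' M)).trans ?_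
  exact ((ModSite.tensorBi O).map f).naturality ((ModSite.quotOnπ O U).app M) |>.symm

/-- The natural isomorphism `(X / X_U) ⊗ M ≅ X ⊗ (M / M_U)`. -/
noncomputable def quotTensorIso (M : ModSite.Mod O) :
    ModSite.quotOn O U ⋙ (ModSite.tensorBi O).flip.obj M ≅
      (ModSite.tensorBi O).flip.obj ((ModSite.quotOn O U).obj M) :=
  NatIso.ofComponents (fun X => tensQuotIso U X M) fun f => tensQuotIso_naturality_left U f M

variable (O) in
/-- `O ⊗ M ≅ M`. -/
noncomputable def unitTensIso : (ModSite.tensorBi O).obj (ModSite.unit O) ≅ 𝟭 (ModSite.Mod O) :=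
  Functor.isoWhiskerLeft (fg O) (Functor.isoWhiskerRight
    (MonoidalCategory.leftUnitorNatIso (P₀ O)) (sh O)) ≪≫ counitIso O

/-- `(O/O_U) ⊗ M ≅ M/M_U`. -/
noncomputable def quotUnitTensIso (M : ModSite.Mod O) :
    tens ((ModSite.quotOn O U).obj (ModSite.unit O)) M ≅ (ModSite.quotOn O U).obj M :=
  tensQuotIso U (ModSite.unit O) M ≪≫ (unitTensIso O).app _

variable [ModSite.HasPushOver O U]

/-- `Γ_Z(ℋom(M, -)) ≅ ℋom(M/M_U, -)`. -/
noncomputable def sheafHomSectIso (M : ModSite.Mod O) [ModSite.HasSheafHom M]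
    [ModSite.HasSheafHom ((ModSite.quotOn O U).obj M)] :
    ModSite.sheafHom M ⋙ ModSite.sectOn O U ≅ ModSite.sheafHom ((ModSite.quotOn O U).obj M) :=
  (((quotSectAdj U).comp (ModSite.sheafHomAdj M)).ofNatIsoLeft (quotTensorIso U M)).rightAdjointUniq
    (ModSite.sheafHomAdj _)

end Groth.Agent.SuppCore
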