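import Groth.Agent.H9Misc.TBMod
import Mathlib.RingTheory.Ideal.Quotient.Operations
import Mathlib.RingTheory.Henselian
import Mathlib.RingTheory.Polynomial.Basic
import Mathlib.Algebra.Polynomial.Identities
import Mathlib.Algebra.Polynomial.Div

/-! Rings which are derived complete as modules over themselves. -/

universe u v

namespace Groth.Agent.H9Misc.TBRing

open Groth.Agent.H9Misc.TBMod

variable {A : Type u} [CommRing A]

lemma mul_eq_zero_of_divisible {f : A} (h : TBm A f) {a b : A}
    (ha : ∀ n : ℕ, f ^ n ∣ a) (hb : ∀ n : ℕ, f ^ n ∣ b) : a * b = 0 := by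
  choose p hp using ha
  choose q hq using hb
  have key : ∀ n, b * p n = f • (b * p (n + 1)) := fun n => by
    have hz : f ^ n * (p n - f * p (n + 1)) = 0 := by
      rw [mul_sub, ← mul_assoc, ← pow_succ, ← hp, ← hp, sub_self]
    show b * p n = f * (b * p (n + 1))
    linear_combination (p n - f * p (n + 1)) * hq n + q n * hz
  have h0 := h.eq_zero (fun n => b * p n) key 0
  rw [hp 0, pow_zero, one_mul, mul_comm]
  exact h0

lemma tbm_quotient_span {f g : A} (n : ℕ) (h : TBm A g) :
    TBm (A ⧸ Ideal.span {f ^ n}) (Ideal.Quotient.mk (Ideal.span {f ^ n}) g) := by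
  let u : A →ₗ[A] A := f ^ n • LinearMap.id
  have hq := (TBm.ker_coker u h h).2
  have hr : LinearMap.range u = Ideal.span {f ^ n} := by
    ext x
    rw [Ideal.mem_span_singleton']
    exact ⟨fun ⟨y, hy⟩ => ⟨y, (mul_comm y _).trans hy⟩, fun ⟨y, hy⟩ => ⟨y, (mul_comm _ y).trans hy⟩⟩
  exact TelBij.tb_of_injective_surjective (Submodule.quotEquivOfEq _ _ hr).toAddEquiv (fun x => by
    show Submodule.quotEquivOfEq _ _ hr (g • x) = Ideal.Quotient.mk (Ideal.span {f ^ n}) g • _
    rw [LinearEquiv.map_smul]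
    exact (algebraMap_smul (A ⧸ Ideal.span {f ^ n}) g _).symm) hq

lemma iInf_pow_pow_eq_bot : ∀ (k : ℕ) (A : Type u) [CommRing A] (l : List A), l.length = k →
    (∀ g ∈ l, TBm A g) → (⨅ n : ℕ, Ideal.ofList l ^ n) ^ (2 ^ k) = ⊥
  | 0, A, _, l, hl, _ => by
    obtain rfl := List.length_eq_zero_iff.1 hl
    rw [pow_zero, pow_one, eq_bot_iff]
    exact (iInf_le _ 1).trans (by rw [pow_one, Ideal.ofList_nil])
  | k + 1, A, _, [], hl, _ => by simp at hl
  | k + 1, A, _, f :: l, hl, h => by
    let J : Ideal A := ⨅ n : ℕ, Ideal.ofList (f :: l) ^ n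
    have hJ : ∀ n : ℕ, J ^ (2 ^ k) ≤ Ideal.span {f ^ n} := by
      intro n
      let π := Ideal.Quotient.mk (Ideal.span {f ^ n})
      have ih := iInf_pow_pow_eq_bot k (A ⧸ Ideal.span {f ^ n}) (l.map π)
        (by rw [List.length_map]; simpa using hl) (fun g hg => by
          obtain ⟨g', hg', rfl⟩ := List.mem_map.1 hg
          exact tbm_quotient_span n (h g' (List.mem_cons_of_mem _ hg')))
      have hle : J.map π ≤ ⨅ m : ℕ, Ideal.ofList (l.map π) ^ m := le_iInf fun m => by
        have h1 : J ≤ Ideal.span {f} ^ n ⊔ Ideal.ofList l ^ m := (iInf_le _ (n + m)).trans (by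
          rw [Ideal.ofList_cons]; exact Ideal.sup_pow_add_le_pow_sup_pow)
        refine (Ideal.map_mono h1).trans ?_
        rw [Ideal.map_sup, Ideal.map_pow, Ideal.map_pow, Ideal.map_ofList]
        refine sup_le ?_ le_rfl
        rw [← Ideal.map_pow, Ideal.span_singleton_pow, Ideal.map_quotient_self]
        exact bot_le
      have h2 : (J ^ (2 ^ k)).map π ≤ ⊥ := by
        rw [Ideal.map_pow]
        exact (Ideal.pow_right_mono hle _).trans ih.le
      intro x hx
      exact Ideal.Quotient.eq_zero_iff_mem.1 (by simpa using h2 (Ideal.mem_map_of_mem π hx))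
    rw [pow_succ, pow_mul, pow_two, eq_bot_iff, Ideal.mul_le]
    intro a ha b hb
    exact mul_eq_zero_of_divisible (h f List.mem_cons_self)
      (fun n => Ideal.mem_span_singleton.1 (hJ n ha)) (fun n => Ideal.mem_span_singleton.1 (hJ n hb))

lemma mem_jacobson (I : Ideal A) (h : ∀ f ∈ I, TBm A f) : I ≤ Ideal.jacobson ⊥ := by
  intro f hf
  rw [Ideal.mem_jacobson_bot]
  intro y
  have hg : TBm A (-(f * y)) := h _ (I.neg_mem (I.mul_mem_right y hf))
  obtain ⟨x, hx⟩ := hg.exists_seq fun _ => (1 : A)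
  have hc : x 0 - x 1 = 0 := hg.eq_zero (fun k => x k - x (k + 1))
    (fun k => by rw [hx k, hx (k + 1)]; simp only [smul_eq_mul]; ring) 0
  refine IsUnit.of_mul_eq_one (x 0) ?_
  have h0 := hx 0
  simp only [smul_eq_mul] at h0
  linear_combination h0 + (f * y) * hc

/-- Derived complete rings are henselian. -/
theorem henselianRing (I : Ideal A) (h : ∀ f ∈ I, TBm A f) : HenselianRing A I where
  jac := mem_jacobson I h
  is_henselian := fun F _ a₀ ha₀ hu => by
    let g := F.eval a₀
    have hjac : ∀ x y : A, x - y ∈ I → IsUnit y → IsUnit x := fun x y hxy hy => by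
      obtain ⟨w, rfl⟩ := hy
      have := Ideal.mem_jacobson_bot.1 (mem_jacobson I h hxy) (↑w⁻¹ : A)
      rw [sub_mul, Units.mul_inv, sub_add_cancel] at this
      exact isUnit_of_mul_isUnit_left this
    obtain ⟨v, hv⟩ : ∃ v, F.derivative.eval a₀ * v = 1 := by
      obtain ⟨w, hw⟩ := hu.exists_right_inv
      obtain ⟨w', rfl⟩ := Ideal.Quotient.mk_surjective w
      refine IsUnit.exists_right_inv (isUnit_of_mul_isUnit_left (y := w') ?_)
      refine hjac _ 1 ?_ isUnit_one
      rw [← Ideal.Quotient.eq_zero_iff_mem, map_sub, map_mul, map_one, hw, sub_self]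
    let a : ℕ → A := fun n => Nat.rec (motive := fun _ => A) a₀ (fun _ b => b - F.eval b * v) n
    have hstep : ∀ n, g ^ (n + 1) ∣ F.eval (a n) ∧ g ∣ a n - a₀ := by
      intro n
      induction n with
      | zero => exact ⟨by simp [a, g], by simp [a]⟩
      | succ n ih =>
        obtain ⟨⟨c, hc⟩, hd⟩ := ih
        obtain ⟨r, hr⟩ := F.binomExpansion (a n) (-(F.eval (a n) * v))
        obtain ⟨e, he⟩ := hd.trans (Polynomial.sub_dvd_eval_sub (a n) a₀ F.derivative)
        have hn : a (n + 1) = a n + -(F.eval (a n) * v) := sub_eq_add_neg _ _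
        refine ⟨?_, ?_⟩
        · refine ⟨- e * v * c + r * c ^ 2 * v ^ 2 * g ^ n, ?_⟩
          rw [hn, hr, hc]
          linear_combination (g ^ (n + 1) * c) * (-hv) - (g ^ (n + 1) * c * v) * he
        · have h1 : g ∣ F.eval (a n) := (dvd_pow_self g (Nat.succ_ne_zero n)).trans ⟨c, hc⟩
          rw [hn, add_comm, add_sub_assoc]
          exact dvd_add ((dvd_mul_of_dvd_left h1 v).neg_right) hd
    obtain ⟨S, hS⟩ := exists_sum (M := A) [g] (fun x hx => by
      rw [List.mem_singleton] at hx
      exact hx ▸ h _ ha₀) (fun n => a (n + 1) - a n) fun n => by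
        rw [Ideal.ofList_singleton, Ideal.span_singleton_pow, smul_eq_mul, Ideal.mul_top,
          Ideal.mem_span_singleton]
        show g ^ n ∣ (a n - F.eval (a n) * v) - a n
        rw [sub_sub_cancel_left, dvd_neg]
        exact dvd_mul_of_dvd_left ((pow_dvd_pow g (Nat.le_succ n)).trans (hstep n).1) v
    have hS' : ∀ N, g ^ N ∣ (a₀ + S) - a N := fun N => by
      have := hS N
      rw [Finset.sum_range_sub a, Ideal.ofList_singleton, Ideal.span_singleton_pow, smul_eq_mul,
        Ideal.mul_top, Ideal.mem_span_singleton] at this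
      rw [show a₀ + S - a N = S - (a N - a 0) by show _ = S - (a N - a₀); ring]
      exact this
    have hk : ∀ N, g ^ N ∣ F.eval (a₀ + S) := fun N => by
      have h1 := (hS' N).trans (Polynomial.sub_dvd_eval_sub (a₀ + S) (a N) F)
      have h2 : g ^ N ∣ F.eval (a N) := (pow_dvd_pow g (Nat.le_succ N)).trans (hstep N).1
      simpa using dvd_add h1 h2
    have hsub : g ∣ (a₀ + S) - a₀ := by
      have := dvd_add (by simpa using hS' 1) (hstep 1).2
      simpa using this
    obtain ⟨w, hw⟩ : ∃ w, F.derivative.eval (a₀ + S) * w = 1 := by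
      refine (hjac _ _ ?_ (IsUnit.of_mul_eq_one v hv)).exists_right_inv
      obtain ⟨e, he⟩ := hsub.trans (Polynomial.sub_dvd_eval_sub (a₀ + S) a₀ F.derivative)
      rw [he]
      exact I.mul_mem_right e ha₀
    obtain ⟨r, hr⟩ := F.binomExpansion (a₀ + S) (-(F.eval (a₀ + S) * w))
    have hsq := mul_eq_zero_of_divisible (h _ ha₀) hk hk
    refine ⟨a₀ + S + -(F.eval (a₀ + S) * w), ?_, ?_⟩
    · show F.eval _ = 0
      rw [hr]
      linear_combination (-(F.eval (a₀ + S))) * hw + (r * w ^ 2) * hsq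
    · obtain ⟨e, he⟩ := hsub
      obtain ⟨e', he'⟩ : g ∣ F.eval (a₀ + S) := by simpa using hk 1
      rw [show a₀ + S + -(F.eval (a₀ + S) * w) - a₀ = g * (e - e' * w) by linear_combination he - w * he']
      exact I.mul_mem_right _ ha₀

lemma tbm_pi {n : ℕ} {f : A} (h : TBm A f) : TBm (Fin n → A) f := by
  refine ⟨fun x y hxy => funext fun k => funext fun j => ?_, fun y => ?_⟩
  · exact congrFun (h.1 (a₁ := fun i => x i j) (a₂ := fun i => y i j)
      (funext fun i => congrFun (congrFun hxy i) j)) k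
  · choose z hz using fun j => h.exists_seq fun i => y i j
    refine ⟨fun i j => z j i, funext fun i => funext fun j => ?_⟩
    show z j i - f • z j (i + 1) = y i j
    rw [hz j i, add_sub_cancel_right]

end Groth.Agent.H9Misc.TBRing
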