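import Mathlib.CategoryTheory.Abelian.RightDerived
import Mathlib.CategoryTheory.Abelian.Injective.Resolution
import Mathlib.Algebra.Homology.Augment
import Mathlib.Algebra.Homology.HomologicalComplexAbelian
import Mathlib.Algebra.Homology.ShortComplex.ExactFunctor
import Mathlib.CategoryTheory.Abelian.Refinements

/-! Dimension shifting for right derived functors along an embedding in an injective object,
natural in the embedding. -/

universe v v' u u'

open CategoryTheory Category Limits HomologicalComplex

namespace Groth.Agent.H9Misc.Theta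

variable {A : Type u} [Category.{v} A] [Abelian A] [EnoughInjectives A]
  {B : Type u'} [Category.{v'} B] [Abelian B] (F : A ⥤ B) [F.Additive]

variable {X I C : A} (f : X ⟶ I) (g : I ⟶ C) (R : InjectiveResolution C)

/-- The augmentation of a resolution, as a map of objects. -/
noncomputable def r0 : C ⟶ R.cocomplex.X 0 := R.ι.f 0

omit [EnoughInjectives A] in
lemma r0_d : r0 R ≫ R.cocomplex.d 0 1 = 0 := R.ι_f_zero_comp_complex_d

omit [EnoughInjectives A] in
lemma exact_r0 : (ShortComplex.mk (r0 R) (R.cocomplex.d 0 1) (r0_d R)).Exact := R.exact₀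

omit [EnoughInjectives A] in
lemma mono_r0 : Mono (r0 R) := inferInstanceAs (Mono (R.ι.f 0))

/-- The concatenated complex. -/
noncomputable def augCx : CochainComplex A ℕ :=
  R.cocomplex.augment (g ≫ r0 R) (by rw [assoc, r0_d, comp_zero])

/-- The concatenated resolution. -/
noncomputable def augRes (w : f ≫ g = 0) (hex : (ShortComplex.mk f g w).Exact) [Mono f] [Epi g]
    [Injective I] : InjectiveResolution X where
  cocomplex := augCx g R
  injective
    | 0 => ‹Injective I›
    | n + 1 => R.injective n
  ι := (CochainComplex.fromSingle₀Equiv (augCx g R) X).symm ⟨f,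
    show f ≫ g ≫ r0 R = 0 by rw [reassoc_of% w, zero_comp]⟩
  quasiIso := ⟨fun n => by
    have := mono_r0 R
    rcases n with _ | n
    · rw [CochainComplex.quasiIsoAt₀_iff, ShortComplex.quasiIso_iff_of_zeros]
      · have hw : f ≫ g ≫ r0 R = 0 := by rw [reassoc_of% w, zero_comp]
        refine (ShortComplex.exact_and_mono_f_iff_of_iso ?_).2
          (show (ShortComplex.mk f (g ≫ r0 R) hw).Exact ∧ Mono f from ⟨?_, inferInstance⟩)
        · exact ShortComplex.isoMk (Iso.refl _) (Iso.refl _) (Iso.refl _)
            (by simp; exact (id_comp _).trans (comp_id _).symm)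
            (by simp [augCx]; exact (id_comp _).trans (comp_id _).symm)
        · rw [ShortComplex.exact_iff_exact_up_to_refinements]
          intro T x hx
          exact hex.exact_up_to_refinements x ((cancel_mono (r0 R)).1
            (((assoc x g (r0 R)).trans hx).trans zero_comp.symm))
      all_goals rfl
    · rw [quasiIsoAt_iff_exactAt]
      · rw [HomologicalComplex.exactAt_iff' _ n (n + 1) (n + 2) (by simp) (by simp)]
        rcases n with _ | n
        · rw [ShortComplex.exact_iff_exact_up_to_refinements]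
          intro T x hx
          obtain ⟨T1, p1, _, y, hy⟩ := (exact_r0 R).exact_up_to_refinements x hx
          obtain ⟨T2, p2, _, z, hz⟩ := surjective_up_to_refinements_of_epi g y
          refine ⟨T2, p2 ≫ p1, inferInstance, z, ?_⟩
          show (p2 ≫ p1) ≫ x = z ≫ g ≫ r0 R
          rw [assoc, ← reassoc_of% hz]
          exact congrArg (p2 ≫ ·) hy
        · exact R.exact_succ n
      · exact CochainComplex.exactAt_succ_single_obj _ _⟩

variable [PreservesFiniteLimits F] (w : f ≫ g = 0) (hex : (ShortComplex.mk f g w).Exact) [Mono f]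
  [Epi g] [Injective I]

/-- The derived functor by the concatenated resolution. -/
noncomputable def isoAug (n : ℕ) : (F.rightDerived n).obj X ≅
    ((F.mapHomologicalComplex _).obj (augCx g R)).homology n :=
  (augRes f g R w hex).isoRightDerivedObj F n

/-- The derived functor by a resolution. -/
noncomputable def isoRes (n : ℕ) : (F.rightDerived n).obj C ≅
    ((F.mapHomologicalComplex _).obj R.cocomplex).homology n :=
  R.isoRightDerivedObj F n

/-- Lifting to one-cocycles. -/
noncomputable def lift1 : F.obj C ⟶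
    ((F.mapHomologicalComplex _).obj (augCx g R)).cycles 1 :=
  ((F.mapHomologicalComplex _).obj (augCx g R)).liftCycles
    (show F.obj C ⟶ F.obj (R.cocomplex.X 0) from F.map (r0 R)) 2 (by simp)
    (show F.map (r0 R) ≫ F.map (R.cocomplex.d 0 1) = 0 by rw [← F.map_comp, r0_d, F.map_zero])

omit [EnoughInjectives A] [Epi g] [Injective I] in
lemma isIso_lift1 : IsIso (lift1 F g R) := by
  let K := (F.mapHomologicalComplex _).obj (augCx g R)
  have := mono_r0 R
  have := mono_of_isLimit_fork (F := F)
  have hE : (ShortComplex.mk (F.map (r0 R)) (F.map (R.cocomplex.d 0 1))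
      (by rw [← F.map_comp, r0_d, F.map_zero])).Exact :=
    (exact_r0 R).map_of_mono_of_preservesKernel F (mono_r0 R) inferInstance
  have : Mono (F.map (r0 R)) := inferInstance
  have h1 : lift1 F g R ≫ K.iCycles 1 = F.map (r0 R) := K.liftCycles_i _ _ _ _
  let l := hE.lift (K.iCycles 1) (K.iCycles_d 1 2)
  have hl : l ≫ F.map (r0 R) = K.iCycles 1 := hE.lift_f _ _
  refine ⟨l, ?_, ?_⟩
  · rw [← cancel_mono (F.map (r0 R)), assoc]
    exact (congrArg (lift1 F g R ≫ ·) hl).trans (h1.trans (id_comp _).symm)
  · rw [← cancel_mono (K.iCycles 1), assoc]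
    exact (congrArg (l ≫ ·) h1).trans (hl.trans (id_comp _).symm)
where
  mono_of_isLimit_fork {F : A ⥤ B} [PreservesFiniteLimits F] : F.PreservesMonomorphisms := inferInstance

/-- The first connecting map. -/
noncomputable def rho : F.obj C ⟶ (F.rightDerived 1).obj X :=
  lift1 F g R ≫ ((F.mapHomologicalComplex _).obj (augCx g R)).homologyπ 1 ≫
    (isoAug F f g R w hex 1).inv

lemma epi_rho : Epi (rho F f g R w hex) := by
  have := isIso_lift1 F g R
  unfold rho
  exact epi_comp _ _

lemma map_g_lift1 : F.map g ≫ lift1 F g R =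
    ((F.mapHomologicalComplex _).obj (augCx g R)).toCycles 0 1 :=
  (cancel_mono (((F.mapHomologicalComplex _).obj (augCx g R)).iCycles 1)).1
    ((assoc _ _ _).trans ((congrArg (F.map g ≫ ·) (HomologicalComplex.liftCycles_i _ _ _ _ _)).trans
      ((F.map_comp g (r0 R)).symm.trans (HomologicalComplex.toCycles_i
        ((F.mapHomologicalComplex _).obj (augCx g R)) 0 1).symm)))

lemma map_g_rho : F.map g ≫ rho F f g R w hex = 0 :=
  (assoc _ _ _).symm.trans ((congrArg (· ≫ _) (map_g_lift1 F g R)).trans
    ((assoc _ _ _).symm.trans ((congrArg (· ≫ _)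
      (HomologicalComplex.toCycles_comp_homologyπ _ _ _)).trans zero_comp)))

lemma exact_rho : (ShortComplex.mk (F.map g) (rho F f g R w hex) (map_g_rho F f g R w hex)).Exact := by
  have := isIso_lift1 F g R
  let K := (F.mapHomologicalComplex _).obj (augCx g R)
  have hK : (ShortComplex.mk (K.toCycles 0 1) (K.homologyπ 1) (K.toCycles_comp_homologyπ 0 1)).Exact :=
    ShortComplex.exact_of_g_is_cokernel _ (K.homologyIsCokernel 0 1 (by simp))
  exact ShortComplex.exact_of_iso
    (show ShortComplex.mk (K.toCycles 0 1) (K.homologyπ 1) (K.toCycles_comp_homologyπ 0 1) ≅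
        ShortComplex.mk (F.map g) (rho F f g R w hex) (map_g_rho F f g R w hex) from
      ShortComplex.isoMk (Iso.refl _) (asIso (lift1 F g R)).symm
        (isoAug F f g R w hex 1).symm
        (by
          show 𝟙 _ ≫ F.map g = K.toCycles 0 1 ≫ inv (lift1 F g R)
          refine (id_comp _).trans (Eq.trans ?_ (congrArg (· ≫ inv (lift1 F g R)) (map_g_lift1 F g R)))
          exact ((assoc _ _ _).trans ((congrArg (F.map g ≫ ·) (IsIso.hom_inv_id _)).trans (comp_id _))).symm)
        (by
          show inv (lift1 F g R) ≫ lift1 F g R ≫ _ = _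
          exact IsIso.inv_hom_id_assoc _ _)) hK

/-- The comparison of short complexes in higher degrees. -/
noncomputable def scIso (j : ℕ) :
    (HomologicalComplex.shortComplexFunctor B _ (j + 1)).obj ((F.mapHomologicalComplex _).obj R.cocomplex) ≅
      (HomologicalComplex.shortComplexFunctor B _ (j + 2)).obj ((F.mapHomologicalComplex _).obj (augCx g R)) :=
  (HomologicalComplex.natIsoSc' B (ComplexShape.up ℕ) j (j + 1) (j + 2) (by simp) (by simp)).app _ ≪≫
    (show (HomologicalComplex.shortComplexFunctor' B (ComplexShape.up ℕ) j (j + 1) (j + 2)).obj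
          ((F.mapHomologicalComplex _).obj R.cocomplex) ≅
        (HomologicalComplex.shortComplexFunctor B _ (j + 2)).obj ((F.mapHomologicalComplex _).obj (augCx g R)) from
      ((HomologicalComplex.natIsoSc' B (ComplexShape.up ℕ) (j + 1) (j + 2) (j + 3) (by simp) (by simp)).app
        ((F.mapHomologicalComplex _).obj (augCx g R))).symm)

/-- The connecting isomorphism. -/
noncomputable def theta (j : ℕ) :
    (F.rightDerived (j + 1)).obj C ≅ (F.rightDerived (j + 2)).obj X :=
  isoRes F R (j + 1) ≪≫
    (show ((F.mapHomologicalComplex _).obj R.cocomplex).homology (j + 1) ≅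
        ((F.mapHomologicalComplex _).obj (augCx g R)).homology (j + 2) from
      ShortComplex.homologyMapIso (scIso F g R j)) ≪≫
    (isoAug F f g R w hex (j + 2)).symm

omit [EnoughInjectives A] in
lemma paste {E : Type*} [Category E] {a₀ a₁ b₀ b₁ c₀ c₁ : E} {k : a₀ ⟶ a₁} {m : b₀ ⟶ b₁}
    {h : c₀ ⟶ c₁} {p : a₀ ⟶ b₀} {p' : a₁ ⟶ b₁} {q : b₀ ⟶ c₀} {q' : b₁ ⟶ c₁}
    (h₁ : k ≫ p' = p ≫ m) (h₂ : m ≫ q' = q ≫ h) : k ≫ p' ≫ q' = (p ≫ q) ≫ h := by
  rw [reassoc_of% h₁, h₂, assoc]

omit [EnoughInjectives A] in
lemma hmap_sq {S₁ S₂ T₁ T₂ : ShortComplex B} {k : S₁ ⟶ S₂} {h : T₁ ⟶ T₂} {p : S₁ ⟶ T₁} {p' : S₂ ⟶ T₂}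
    (e : k ≫ p' = p ≫ h) : ShortComplex.homologyMap k ≫ ShortComplex.homologyMap p' =
      ShortComplex.homologyMap p ≫ ShortComplex.homologyMap h := by
  rw [← ShortComplex.homologyMap_comp, ← ShortComplex.homologyMap_comp, e]

section Natural

variable {X' I' C' : A} (f' : X' ⟶ I') (g' : I' ⟶ C') (R' : InjectiveResolution C')
  (w' : f' ≫ g' = 0) (hex' : (ShortComplex.mk f' g' w').Exact) [Mono f'] [Epi g'] [Injective I']
  (x : X ⟶ X') (a : I ⟶ I') (c : C ⟶ C') (e₁ : f ≫ a = x ≫ f') (e₂ : g ≫ c = a ≫ g')

/-- The map of concatenated complexes. -/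
noncomputable def augMap : augCx g R ⟶ augCx g' R' where
  f
    | 0 => a
    | n + 1 => (InjectiveResolution.desc c R' R).f n
  comm'
    | 0, j, (h : 0 + 1 = j) => by
      subst h
      show a ≫ g' ≫ r0 R' = (g ≫ r0 R) ≫ (InjectiveResolution.desc c R' R).f 0
      refine Eq.trans ?_ ((congrArg (g ≫ ·) (InjectiveResolution.desc_commutes_zero c R' R)).symm.trans
        (assoc g (r0 R) _).symm)
      exact ((assoc g c (r0 R')).symm.trans ((congrArg (· ≫ r0 R') e₂).trans (assoc a g' (r0 R')))).symm
    | i + 1, 0, (h : i + 1 + 1 = 0) => by omega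
    | i + 1, j + 1, _ => (InjectiveResolution.desc c R' R).comm i j

include e₁ e₂

lemma isoAug_natural (n : ℕ) :
    (isoAug F f g R w hex n).inv ≫ (F.rightDerived n).map x =
      homologyMap ((F.mapHomologicalComplex _).map (augMap g R g' R' a c e₂)) n ≫
        (isoAug F f' g' R' w' hex' n).inv :=
  InjectiveResolution.isoRightDerivedObj_inv_naturality x (augRes f g R w hex)
    (augRes f' g' R' w' hex') (augMap g R g' R' a c e₂) (by
      simp [augRes, augMap]
      exact e₁) F n

lemma rho_natural :
    F.map c ≫ rho F f' g' R' w' hex' = rho F f g R w hex ≫ (F.rightDerived 1).map x := by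
  have hl : F.map c ≫ lift1 F g' R' =
      lift1 F g R ≫ cyclesMap ((F.mapHomologicalComplex _).map (augMap g R g' R' a c e₂)) 1 := by
    rw [← cancel_mono (((F.mapHomologicalComplex _).obj (augCx g' R')).iCycles 1), assoc, assoc,
      cyclesMap_i]
    refine (congrArg (F.map c ≫ ·) (HomologicalComplex.liftCycles_i _ _ _ _ _)).trans ?_
    refine Eq.trans ?_ (((assoc _ _ _).symm.trans (congrArg (· ≫ _) (HomologicalComplex.liftCycles_i _ _ _ _ _))).symm)
    show F.map c ≫ F.map (r0 R') = F.map (r0 R) ≫ F.map ((InjectiveResolution.desc c R' R).f 0)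
    exact (F.map_comp c (r0 R')).symm.trans
      ((congrArg F.map (InjectiveResolution.desc_commutes_zero c R' R).symm).trans (F.map_comp (r0 R) _))
  simp only [rho, assoc]
  rw [reassoc_of% hl, isoAug_natural F f g R w hex f' g' R' w' hex' x a c e₁ e₂,
    homologyπ_naturality_assoc]

lemma theta_natural (j : ℕ) :
    (F.rightDerived (j + 1)).map c ≫ (theta F f' g' R' w' hex' j).hom =
      (theta F f g R w hex j).hom ≫ (F.rightDerived (j + 2)).map x := by
  let ψ := InjectiveResolution.desc c R' R
  have hR : (F.rightDerived (j + 1)).map c ≫ (isoRes F R' (j + 1)).hom =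
      (isoRes F R (j + 1)).hom ≫ homologyMap ((F.mapHomologicalComplex _).map ψ) (j + 1) :=
    InjectiveResolution.isoRightDerivedObj_hom_naturality c R R' ψ
      (InjectiveResolution.desc_commutes_zero c R' R) F (j + 1)
  have hsc : (HomologicalComplex.shortComplexFunctor B _ (j + 1)).map
        ((F.mapHomologicalComplex _).map ψ) ≫ (scIso F g' R' j).hom =
      (scIso F g R j).hom ≫ (HomologicalComplex.shortComplexFunctor B _ (j + 2)).map
        ((F.mapHomologicalComplex _).map (augMap g R g' R' a c e₂)) := by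
    let α := HomologicalComplex.natIsoSc' B (ComplexShape.up ℕ) j (j + 1) (j + 2) (by simp) (by simp)
    let β := HomologicalComplex.natIsoSc' B (ComplexShape.up ℕ) (j + 1) (j + 2) (j + 3) (by simp) (by simp)
    have hα := α.hom.naturality ((F.mapHomologicalComplex _).map ψ)
    have hβ := β.inv.naturality ((F.mapHomologicalComplex _).map (augMap g R g' R' a c e₂))
    show (HomologicalComplex.shortComplexFunctor B _ (j + 1)).map ((F.mapHomologicalComplex _).map ψ) ≫
        α.hom.app _ ≫ β.inv.app ((F.mapHomologicalComplex _).obj (augCx g' R')) =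
      (α.hom.app _ ≫ β.inv.app ((F.mapHomologicalComplex _).obj (augCx g R))) ≫
        (HomologicalComplex.shortComplexFunctor B _ (j + 2)).map
          ((F.mapHomologicalComplex _).map (augMap g R g' R' a c e₂))
    exact paste hα hβ
  have hs : ShortComplex.homologyMap ((HomologicalComplex.shortComplexFunctor B _ (j + 1)).map
        ((F.mapHomologicalComplex _).map ψ)) ≫ ShortComplex.homologyMap (scIso F g' R' j).hom =
      ShortComplex.homologyMap (scIso F g R j).hom ≫ ShortComplex.homologyMap
        ((HomologicalComplex.shortComplexFunctor B _ (j + 2)).map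
          ((F.mapHomologicalComplex _).map (augMap g R g' R' a c e₂))) :=
    hmap_sq hsc
  simp only [theta, Iso.trans_hom, Iso.symm_hom, assoc]
  rw [isoAug_natural F f g R w hex f' g' R' w' hex' x a c e₁ e₂, reassoc_of% hR]
  exact congrArg ((isoRes F R (j + 1)).hom ≫ ·)
    ((assoc _ _ _).symm.trans ((congrArg (· ≫ (isoAug F f' g' R' w' hex' (j + 2)).inv) hs).trans (assoc _ _ _)))

end Natural

end Groth.Agent.H9Misc.Theta
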