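import Groth.Agent.TriCat.Resolve
import Mathlib.Algebra.Homology.Additive
import Mathlib.CategoryTheory.EssentialImage
import Mathlib.CategoryTheory.Limits.Preserves.Shapes.Kernels
import Mathlib.CategoryTheory.Limits.Preserves.Shapes.Zero
import Mathlib.CategoryTheory.Abelian.Exact
import Mathlib.CategoryTheory.Preadditive.Injective.Basic

/-! Complexes with cohomology in a thick subcategory with enough relative injectives. -/

universe v v' u u'

open CategoryTheory Category Limits HomologicalComplex ZeroObject Groth.Agent.TriCat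

attribute [local simp] pushout.inl_desc pushout.inr_desc pushout.inl_desc_assoc pushout.inr_desc_assoc

namespace Groth.Agent.H9Misc.ThickLift

variable {A' : Type u'} [Category.{v'} A'] [Abelian A'] {A : Type u} [Category.{v} A] [Abelian A]
  (ι : A' ⥤ A) [ι.Additive] [PreservesFiniteLimits ι] [PreservesFiniteColimits ι] [ι.Full] [ι.Faithful]

lemma essImage_cokernel {X Y : A} (f : X ⟶ Y) (hX : ι.essImage X) (hY : ι.essImage Y) :
    ι.essImage (cokernel f) := by
  obtain ⟨X', ⟨eX⟩⟩ := hX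
  obtain ⟨Y', ⟨eY⟩⟩ := hY
  refine ⟨cokernel (ι.preimage (eX.hom ≫ f ≫ eY.inv)),
    ⟨PreservesCokernel.iso ι _ ≪≫ cokernelIsoOfEq (ι.map_preimage _) ≪≫ cokernelEpiComp _ _ ≪≫
      cokernelCompIsIso _ _⟩⟩

lemma essImage_kernel {X Y : A} (f : X ⟶ Y) (hX : ι.essImage X) (hY : ι.essImage Y) :
    ι.essImage (kernel f) := by
  obtain ⟨X', ⟨eX⟩⟩ := hX
  obtain ⟨Y', ⟨eY⟩⟩ := hY
  refine ⟨kernel (ι.preimage (eX.hom ≫ f ≫ eY.inv)),
    ⟨PreservesKernel.iso ι _ ≪≫ kernelIsoOfEq (ι.map_preimage _) ≪≫ kernelIsIsoComp _ _ ≪≫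
      kernelCompMono _ _⟩⟩

variable {ι}
  (hext : ∀ S : ShortComplex A, S.ShortExact → ι.essImage S.X₁ → ι.essImage S.X₃ → ι.essImage S.X₂)
  (hinj : ∀ X' : A', ∃ (Y' : A') (i : X' ⟶ Y'), Mono i ∧ Injective (ι.obj Y'))

variable {K : CochainComplex A ℤ} (hH : ∀ i, ι.essImage (K.homology i))

variable (ι K) in
/-- The state of the construction in degree `n`. -/
structure Stage (n : ℤ) where
  Y : A'
  C : A
  f : K.X n ⟶ ι.obj Y
  q : ι.obj Y ⟶ C
  e : K.opcycles n ⟶ C
  inj : Injective (ι.obj Y)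
  essC : ι.essImage C
  monoE : ∀ ⦃T : A⦄ (w : T ⟶ K.opcycles n), w ≫ K.fromOpcycles n (n + 1) = 0 → w ≫ e = 0 → w = 0
  fac : K.pOpcycles n ≫ e = f ≫ q

variable {n : ℤ} (s : Stage ι K n)

/-- The pushout from which the next object is built. -/
noncomputable abbrev nextP : A := pushout (K.fromOpcycles n (n + 1)) s.e

@[simp, reassoc]
lemma fromOp_pOp (K : CochainComplex A ℤ) (n : ℤ) : K.fromOpcycles n (n + 1) ≫ K.pOpcycles (n + 1) = 0 := by
  rw [← cancel_epi (K.pOpcycles n), HomologicalComplex.p_fromOpcycles_assoc, HomologicalComplex.d_pOpcycles, comp_zero]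

/-- The map from the pushout to the next term of `K`. -/
noncomputable def pd : nextP s ⟶ K.X (n + 1 + 1) :=
  pushout.desc (K.d (n + 1) (n + 1 + 1)) 0 (by simp)

/-- The part of the pushout of cocycles. -/
noncomputable abbrev P' : A := kernel (pd s)

/-- The map from the incoming cokernel. -/
noncomputable def rIn : s.C ⟶ P' s := kernel.lift _ (pushout.inr _ _) (pushout.inr_desc _ _ _)

/-- The map to cohomology. -/
noncomputable def qOut : P' s ⟶ K.homology (n + 1) :=
  (KernelFork.IsLimit.lift' (K.homologyIsKernel (n + 1) (n + 1 + 1) (by simp))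
    (kernel.ι (pd s) ≫ pushout.desc (K.pOpcycles (n + 1)) 0 (by simp))
    (by
      have : pushout.desc (K.pOpcycles (n + 1)) 0 (by simp) ≫ K.fromOpcycles (n + 1) (n + 1 + 1) = pd s := by
        apply pushout.hom_ext <;> simp [pd]
      rw [assoc, this, kernel.condition])).1

@[reassoc]
lemma qOut_ι : qOut s ≫ K.homologyι (n + 1) =
    kernel.ι (pd s) ≫ pushout.desc (K.pOpcycles (n + 1)) 0 (by simp) :=
  (KernelFork.IsLimit.lift' (K.homologyIsKernel (n + 1) (n + 1 + 1) (by simp)) _ _).2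

lemma rIn_qOut : rIn s ≫ qOut s = 0 := by
  rw [← cancel_mono (K.homologyι (n + 1)), assoc, qOut_ι, rIn, kernel.lift_ι_assoc, pushout.inr_desc, zero_comp]

lemma exact_qOut : (ShortComplex.mk _ _ (rIn_qOut s)).Exact := by
  rw [ShortComplex.exact_iff_exact_up_to_refinements]
  intro T x hx
  have : Epi (biprod.desc (pushout.inl (K.fromOpcycles n (n + 1)) s.e) (pushout.inr _ _)) :=
    (IsPushout.of_hasPushout (K.fromOpcycles n (n + 1)) s.e).epi_shortComplex_g
  obtain ⟨T₁, π, hπ, yz, hyz⟩ := surjective_up_to_refinements_of_epi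
    (biprod.desc (pushout.inl (K.fromOpcycles n (n + 1)) s.e) (pushout.inr _ _)) (x ≫ kernel.ι (pd s))
  have hy : (yz ≫ biprod.fst) ≫ K.pOpcycles (n + 1) = 0 := by
    have := congrArg (· ≫ pushout.desc (K.pOpcycles (n + 1)) 0 (by simp)) hyz
    simp only [assoc, ← qOut_ι, reassoc_of% hx, zero_comp, comp_zero] at this
    rw [assoc, this]
    congr 1
    ext <;> simp
  obtain ⟨T₂, π', hπ', z, hz⟩ := (comp_pOpcycles_eq_zero_iff_up_to_refinements K _ n (by simp)).1 hy
  refine ⟨T₂, π' ≫ π, inferInstance, π' ≫ yz ≫ biprod.snd + z ≫ K.pOpcycles n ≫ s.e, ?_⟩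
  rw [← cancel_mono (kernel.ι (pd s))]
  dsimp
  simp only [assoc, rIn, kernel.lift_ι, Preadditive.add_comp]
  rw [hyz, ← pushout.condition]
  simp only [HomologicalComplex.p_fromOpcycles_assoc]
  rw [← reassoc_of% hz, ← Preadditive.comp_add, ← Preadditive.comp_add]
  congr 2
  ext <;> simp

instance : Epi (qOut s) := by
  rw [epi_iff_surjective_up_to_refinements]
  intro T γ
  obtain ⟨T₁, π, hπ, z, hz, e⟩ := K.eq_liftCycles_homologyπ_up_to_refinements γ (n + 1 + 1) (by simp)
  refine ⟨T₁, π, hπ, kernel.lift _ (z ≫ pushout.inl _ _) (by simp [pd, hz]), ?_⟩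
  rw [← cancel_mono (K.homologyι (n + 1))]
  simp [e, qOut_ι]

lemma rIn_w : (K.homologyι n ≫ s.e) ≫ rIn s = 0 := by
  rw [← cancel_mono (kernel.ι (pd s)), assoc, assoc, rIn, kernel.lift_ι, ← pushout.condition,
    homologyι_comp_fromOpcycles_assoc, zero_comp, zero_comp]

/-- The kernel of `rIn` is the cohomology below. -/
lemma exact_rIn : (ShortComplex.mk (K.homologyι n ≫ s.e) (rIn s) (rIn_w s)).Exact := by
  rw [ShortComplex.exact_iff_exact_up_to_refinements]
  intro T c hc
  dsimp at c hc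
  have hc' : (0 : T ⟶ K.X (n + 1)) ≫ pushout.inl (K.fromOpcycles n (n + 1)) s.e = c ≫ pushout.inr _ _ := by
    rw [zero_comp]
    have := congrArg (· ≫ kernel.ι (pd s)) hc
    simpa [rIn] using this.symm
  obtain ⟨T₁, π, hπ, w, hw₁, hw₂⟩ := pushout_eq_up_to_refinements _ _ _ _ hc'
  rw [comp_zero] at hw₁
  obtain ⟨l, hl⟩ := KernelFork.IsLimit.lift' (K.homologyIsKernel n (n + 1) (by simp)) w hw₁.symm
  refine ⟨T₁, π, hπ, l, ?_⟩
  dsimp
  rw [hw₂, ← reassoc_of% hl]
  rfl

include hext hH in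
lemma essImage_P' : ι.essImage (P' s) := by
  have h₁ : ι.essImage (Abelian.image (rIn s)) := by
    let T := ShortComplex.mk (K.homologyι n ≫ s.e) (Abelian.factorThruImage (rIn s)) (by
      rw [← cancel_mono (Abelian.image.ι (rIn s)), assoc, kernel.lift_ι, zero_comp, rIn_w])
    have hT : T.Exact := by
      have h := exact_rIn s
      let φ : T ⟶ ShortComplex.mk _ _ (rIn_w s) :=
        { τ₁ := 𝟙 _, τ₂ := 𝟙 _, τ₃ := Abelian.image.ι (rIn s)
          comm₁₂ := by simp [T]
          comm₂₃ := by simp [T] }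
      exact (ShortComplex.exact_iff_of_epi_of_isIso_of_mono φ).2 h
    have : Epi T.g := inferInstanceAs (Epi (Abelian.factorThruImage (rIn s)))
    exact (Functor.essImage ι).prop_of_iso
      (IsColimit.coconePointUniqueUpToIso (cokernelIsCokernel T.f) hT.gIsCokernel)
      (essImage_cokernel ι _ (hH n) s.essC)
  let S := ShortComplex.mk (Abelian.image.ι (rIn s)) (qOut s) (by
    rw [← cancel_epi (Abelian.factorThruImage (rIn s)), kernel.lift_ι_assoc, rIn_qOut, comp_zero])
  have hS : S.Exact := by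
    let φ : ShortComplex.mk _ _ (rIn_qOut s) ⟶ S :=
      { τ₁ := Abelian.factorThruImage (rIn s), τ₂ := 𝟙 _, τ₃ := 𝟙 _ }
    exact (ShortComplex.exact_iff_of_epi_of_isIso_of_mono φ).1 (exact_qOut s)
  have : Mono S.f := inferInstanceAs (Mono (Abelian.image.ι (rIn s)))
  have : Epi S.g := inferInstanceAs (Epi (qOut s))
  exact hext S { exact := hS } h₁ (hH (n + 1))

include hext hinj hH in
lemma exists_next : ∃ (Y : A') (j : nextP s ⟶ ι.obj Y), Injective (ι.obj Y) ∧ Mono (kernel.ι (pd s) ≫ j) := by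
  obtain ⟨X', ⟨e⟩⟩ := essImage_P' hext hH s
  obtain ⟨Y, i, hi, hY⟩ := hinj X'
  have := hY
  refine ⟨Y, Injective.factorThru (e.inv ≫ ι.map i) (kernel.ι (pd s)), hY, ?_⟩
  rw [Injective.comp_factorThru]
  infer_instance

/-- The next object. -/
noncomputable def nextY : A' := (exists_next hext hinj hH s).choose

/-- The map from the pushout to the next object. -/
noncomputable def nextι : nextP s ⟶ ι.obj (nextY hext hinj hH s) :=
  (exists_next hext hinj hH s).choose_spec.choose

lemma inj_nextY : Injective (ι.obj (nextY hext hinj hH s)) :=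
  (exists_next hext hinj hH s).choose_spec.choose_spec.1

lemma eq_zero_of_comp_nextι {T : A} (x : T ⟶ nextP s) (h₁ : x ≫ pd s = 0)
    (h₂ : x ≫ nextι hext hinj hH s = 0) : x = 0 := by
  have : Mono (kernel.ι (pd s) ≫ nextι hext hinj hH s) := (exists_next hext hinj hH s).choose_spec.choose_spec.2
  have : kernel.lift (pd s) x h₁ = 0 := by
    rw [← cancel_mono (kernel.ι (pd s) ≫ nextι hext hinj hH s), kernel.lift_ι_assoc, h₂, zero_comp]
  rw [← kernel.lift_ι (pd s) x h₁, this, zero_comp]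

/-- The next differential. -/
noncomputable def nextD : ι.obj s.Y ⟶ ι.obj (nextY hext hinj hH s) :=
  s.q ≫ pushout.inr _ _ ≫ nextι hext hinj hH s

@[reassoc]
lemma f_nextD : s.f ≫ nextD hext hinj hH s =
    K.d n (n + 1) ≫ pushout.inl _ _ ≫ nextι hext hinj hH s := by
  rw [nextD, ← assoc, ← s.fac, assoc, ← assoc s.e, ← pushout.condition, assoc,
    HomologicalComplex.p_fromOpcycles_assoc]

/-- The next stage. -/
noncomputable def next (n' : ℤ) (h : n + 1 = n') : Stage ι K n' :=
  h ▸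
  { Y := nextY hext hinj hH s
    C := cokernel (nextD hext hinj hH s)
    f := pushout.inl _ _ ≫ nextι hext hinj hH s
    q := cokernel.π _
    e := K.descOpcycles (pushout.inl _ _ ≫ nextι hext hinj hH s ≫ cokernel.π _) n (by simp) (by
      rw [← f_nextD_assoc hext hinj hH s, cokernel.condition, comp_zero])
    inj := inj_nextY hext hinj hH s
    essC := essImage_cokernel ι _ ⟨s.Y, ⟨Iso.refl _⟩⟩ ⟨_, ⟨Iso.refl _⟩⟩
    monoE := by
      intro T x hxd hx
      obtain ⟨T', π, hπ, y, hy⟩ := surjective_up_to_refinements_of_epi (K.pOpcycles (n + 1)) x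
      rw [← cancel_epi π, comp_zero, hy]
      have hyd : y ≫ K.d (n + 1) (n + 1 + 1) = 0 := by
        rw [← HomologicalComplex.p_fromOpcycles, ← reassoc_of% hy, hxd, comp_zero]
      have hy' : (y ≫ pushout.inl _ _ ≫ nextι hext hinj hH s) ≫ cokernel.π (nextD hext hinj hH s) = 0 := by
        have := congrArg (π ≫ ·) hx
        rw [reassoc_of% hy, HomologicalComplex.p_descOpcycles, comp_zero] at this
        simpa using this
      obtain ⟨T'', ρ, hρ, z, hz⟩ := ShortComplex.Exact.exact_up_to_refinements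
        (S := ShortComplex.mk (nextD hext hinj hH s) (cokernel.π _) (cokernel.condition _))
        (ShortComplex.exact_of_g_is_cokernel _ (cokernelIsCokernel _)) _ hy'
      change ρ ≫ y ≫ _ ≫ _ = z ≫ nextD hext hinj hH s at hz
      have hz' : (ρ ≫ y) ≫ pushout.inl (K.fromOpcycles n (n + 1)) s.e =
          (z ≫ s.q) ≫ pushout.inr (K.fromOpcycles n (n + 1)) s.e := by
        rw [← sub_eq_zero]
        refine eq_zero_of_comp_nextι hext hinj hH s _ ?_ ?_
        · simp [Preadditive.sub_comp, pd, hyd]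
        · rw [Preadditive.sub_comp, sub_eq_zero]
          simp only [assoc]
          exact hz
      obtain ⟨T₃, τ, hτ, w, hw₁, hw₂⟩ := pushout_eq_up_to_refinements _ _ _ _ hz'
      obtain ⟨T₄, σ, hσ, u, hu⟩ := surjective_up_to_refinements_of_epi (K.pOpcycles n) w
      rw [← cancel_epi ρ, ← cancel_epi τ, ← cancel_epi σ]
      simp only [comp_zero]
      replace hw₁ : τ ≫ ρ ≫ y = w ≫ K.fromOpcycles n (n + 1) := hw₁
      rw [reassoc_of% hw₁, reassoc_of% hu, HomologicalComplex.p_fromOpcycles_assoc,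
        HomologicalComplex.d_pOpcycles, comp_zero]
    fac := by simp }

variable (K) (a : ℤ) [K.IsStrictlyGE (a + 1)]

/-- The initial stage. -/
noncomputable def base (m : ℤ) (hm : m = a) : Stage ι K m where
  Y := 0
  C := ι.obj 0
  f := 0
  q := 𝟙 _
  e := 0
  inj := ((ι.map_isZero (isZero_zero A'))).injective
  essC := ⟨0, ⟨Iso.refl _⟩⟩
  monoE := fun T w _ _ => by
    subst hm
    have : IsZero (K.opcycles m) :=
      IsZero.of_epi_eq_zero (K.pOpcycles m) ((K.isZero_of_isStrictlyGE (m + 1) m (by omega)).eq_of_src _ _)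
    exact this.eq_of_tgt _ _
  fac := by simp

/-- The stages. -/
noncomputable def st : ∀ k : ℕ, Stage ι K (a + k)
  | 0 => base K a (a + ((0 : ℕ) : ℤ)) (by simp)
  | k + 1 => next hext hinj hH (st k) (a + (k + 1 : ℕ)) (by push_cast; omega)

/-- The differential between consecutive stages. -/
noncomputable def stepD' (k : ℕ) : ι.obj (st hext hinj K hH a k).Y ⟶ ι.obj (st hext hinj K hH a (k + 1)).Y :=
  let s := st hext hinj K hH a k
  nextD hext hinj hH s ≫ eqToHom (by
    have : ∀ (n' : ℤ) (h : a + k + 1 = n'), (next hext hinj hH s n' h).Y = nextY hext hinj hH s := by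
      rintro n' rfl; rfl
    exact congrArg ι.obj (this _ (by push_cast; omega)).symm)

lemma st_succ_prop (k : ℕ) :
    let s := st hext hinj K hH a k
    let t := st hext hinj K hH a (k + 1)
    s.f ≫ stepD' hext hinj K hH a k = K.d (a + k) (a + (k + 1 : ℕ)) ≫ t.f ∧
    (∃ r, stepD' hext hinj K hH a k = s.q ≫ r) ∧
    ∃ (w : stepD' hext hinj K hH a k ≫ t.q = 0), (ShortComplex.mk _ _ w).Exact ∧
      ∀ {T : A} (y : T ⟶ ι.obj s.Y), y ≫ stepD' hext hinj K hH a k = 0 →
        (y ≫ s.q) ≫ pushout.inr (K.fromOpcycles (a + k) (a + k + 1)) s.e = 0 := by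
  intro s t
  have key : ∀ (n' : ℤ) (h : a + (k : ℤ) + 1 = n') (D : ι.obj s.Y ⟶ ι.obj (next hext hinj hH s n' h).Y)
      (hD : ∀ e, D = nextD hext hinj hH s ≫ eqToHom e),
      s.f ≫ D = K.d (a + k) n' ≫ (next hext hinj hH s n' h).f ∧
      (∃ r, D = s.q ≫ r) ∧
      ∃ (w : D ≫ (next hext hinj hH s n' h).q = 0), (ShortComplex.mk _ _ w).Exact ∧
        ∀ {T : A} (y : T ⟶ ι.obj s.Y), y ≫ D = 0 →
          (y ≫ s.q) ≫ pushout.inr (K.fromOpcycles (a + k) (a + k + 1)) s.e = 0 := by
    rintro n' rfl D hD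
    have hD' : D = nextD hext hinj hH s := (hD rfl).trans (comp_id _)
    subst hD'
    refine ⟨f_nextD hext hinj hH s, ⟨_, rfl⟩, cokernel.condition _,
      ShortComplex.exact_of_g_is_cokernel _ (cokernelIsCokernel _), fun y hy => ?_⟩
    refine eq_zero_of_comp_nextι hext hinj hH s _ (by simp [pd]) ?_
    simp only [assoc]
    exact hy
  exact key _ _ (stepD' hext hinj K hH a k) (fun e => rfl)

@[reassoc]
lemma f_stepD' (k : ℕ) : (st hext hinj K hH a k).f ≫ stepD' hext hinj K hH a k =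
    K.d (a + k) (a + (k + 1 : ℕ)) ≫ (st hext hinj K hH a (k + 1)).f :=
  (st_succ_prop hext hinj K hH a k).1

@[reassoc]
lemma stepD'_q (k : ℕ) : stepD' hext hinj K hH a k ≫ (st hext hinj K hH a (k + 1)).q = 0 :=
  (st_succ_prop hext hinj K hH a k).2.2.1

lemma stepD'_exact (k : ℕ) : (ShortComplex.mk _ _ (stepD'_q hext hinj K hH a k)).Exact :=
  (st_succ_prop hext hinj K hH a k).2.2.2.1

lemma stepD'_comp (k : ℕ) : stepD' hext hinj K hH a k ≫ stepD' hext hinj K hH a (k + 1) = 0 := by
  obtain ⟨r, hr⟩ := (st_succ_prop hext hinj K hH a (k + 1)).2.1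
  rw [hr, stepD'_q_assoc, zero_comp]

/-- The resolution, indexed by natural numbers. -/
noncomputable def Lnat : CochainComplex A' ℕ :=
  CochainComplex.of (fun k => (st hext hinj K hH a k).Y) (fun k => ι.preimage (stepD' hext hinj K hH a k))
    (fun k => ι.map_injective (by simp [stepD'_comp]))

/-- The resolution. -/
noncomputable def L' : CochainComplex A' ℤ :=
  (Lnat hext hinj K hH a).extend (ComplexShape.embeddingUpIntGE a)

/-- Its image in `A`. -/
noncomputable abbrev L : CochainComplex A ℤ :=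
  (ι.mapHomologicalComplex (ComplexShape.up ℤ)).obj (L' hext hinj K hH a)

/-- The objects of the resolution in degrees at least `a`. -/
noncomputable def xIso (k : ℕ) (n : ℤ) (h : a + k = n) :
    (L hext hinj K hH a).X n ≅ ι.obj (st hext hinj K hH a k).Y :=
  ι.mapIso ((Lnat hext hinj K hH a).extendXIso (ComplexShape.embeddingUpIntGE a) h)

lemma L_d (k : ℕ) (n n' : ℤ) (h : a + k = n) (h' : a + (k + 1 : ℕ) = n') :
    (L hext hinj K hH a).d n n' = (xIso hext hinj K hH a k n h).hom ≫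
      stepD' hext hinj K hH a k ≫ (xIso hext hinj K hH a (k + 1) n' h').inv := by
  have e := congrArg ι.map
    (HomologicalComplex.extend_d_eq (Lnat hext hinj K hH a) (ComplexShape.embeddingUpIntGE a) h h')
  refine e.trans ?_
  have hd : (Lnat hext hinj K hH a).d k (k + 1) = ι.preimage (stepD' hext hinj K hH a k) := by simp [Lnat]
  simp only [Functor.map_comp, hd]
  exact congrArg (fun t => _ ≫ t ≫ _) (ι.map_preimage _)

open Classical in
/-- The components of the comparison map. -/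
noncomputable def αf (n : ℤ) : K.X n ⟶ (L hext hinj K hH a).X n :=
  if h : ∃ k : ℕ, a + k = n then
    eqToHom (by rw [h.choose_spec]) ≫ (st hext hinj K hH a h.choose).f ≫
      (xIso hext hinj K hH a h.choose n h.choose_spec).inv
  else 0

lemma αf_eq (k : ℕ) : αf hext hinj K hH a (a + k) =
    (st hext hinj K hH a k).f ≫ (xIso hext hinj K hH a k (a + k) rfl).inv := by
  have h : ∃ k' : ℕ, a + k' = a + k := ⟨k, rfl⟩
  rw [αf, dif_pos h]
  have : ∀ (k' : ℕ) (hk' : a + k' = a + (k : ℤ)), eqToHom (by rw [hk']) ≫ (st hext hinj K hH a k').f ≫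
      (xIso hext hinj K hH a k' (a + k) hk').inv =
        (st hext hinj K hH a k).f ≫ (xIso hext hinj K hH a k (a + k) rfl).inv := by
    intro k' hk'
    obtain rfl : k' = k := by omega
    simp
  exact this _ h.choose_spec

/-- The comparison map. -/
noncomputable def α : K ⟶ L hext hinj K hH a where
  f := αf hext hinj K hH a
  comm' i j hij := by
    obtain rfl : i + 1 = j := hij
    by_cases h : a ≤ i
    · obtain ⟨k, rfl⟩ : ∃ k : ℕ, a + k = i := ⟨(i - a).toNat, by omega⟩
      obtain ⟨j, hj⟩ : ∃ j : ℤ, a + (k : ℤ) + 1 = j := ⟨_, rfl⟩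
      rw [hj]
      obtain rfl : a + ((k + 1 : ℕ) : ℤ) = j := by push_cast; omega
      rw [αf_eq, αf_eq, L_d hext hinj K hH a k (a + k) (a + (k + 1 : ℕ)) rfl rfl, assoc,
        Iso.inv_hom_id_assoc, f_stepD'_assoc]
    · exact (K.isZero_of_isStrictlyGE (a + 1) i (by omega)).eq_of_src _ _

lemma isZero_L'_X (n : ℤ) (hn : n < a) : IsZero ((L' hext hinj K hH a).X n) :=
  (Lnat hext hinj K hH a).isZero_extend_X (ComplexShape.embeddingUpIntGE a) n (fun k hk => by
    simp at hk; omega)

lemma comp_q_eq_zero_iff (k : ℕ) {T : A} (y : T ⟶ ι.obj (st hext hinj K hH a k).Y) :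
    y ≫ (st hext hinj K hH a k).q = 0 ↔ ∃ (T' : A) (π : T' ⟶ T) (_ : Epi π)
      (z : T' ⟶ (L hext hinj K hH a).X (a + k - 1)),
      π ≫ y ≫ (xIso hext hinj K hH a k (a + k) rfl).inv = z ≫ (L hext hinj K hH a).d (a + k - 1) (a + k) := by
  cases k with
  | zero =>
    have h0 : IsZero (ι.obj (st hext hinj K hH a 0).Y) := ι.map_isZero (isZero_zero A')
    constructor
    · intro _
      exact ⟨T, 𝟙 T, inferInstance, 0, by simp [h0.eq_of_tgt y 0]⟩
    · intro _
      rw [h0.eq_of_tgt y 0, zero_comp]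
  | succ k =>
    have hd := L_d hext hinj K hH a k (a + (k + 1 : ℕ) - 1) (a + (k + 1 : ℕ)) (by push_cast; omega) rfl
    rw [hd]
    constructor
    · intro h
      obtain ⟨T', π, hπ, z, hz⟩ := (stepD'_exact hext hinj K hH a k).exact_up_to_refinements y h
      dsimp at hz
      refine ⟨T', π, hπ, z ≫ (xIso hext hinj K hH a k _ (by push_cast; omega)).inv, ?_⟩
      rw [assoc, Iso.inv_hom_id_assoc, reassoc_of% hz]
    · rintro ⟨T', π, hπ, z, hz⟩
      simp only [← assoc, cancel_mono] at hz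
      rw [← cancel_epi π, comp_zero, ← assoc, hz, assoc]
      rw [stepD'_q, comp_zero]

lemma quasiIsoAt_α (n : ℤ) : QuasiIsoAt (α hext hinj K hH a) n := by
  by_cases h : a ≤ n
  swap
  · rw [quasiIsoAt_iff_exactAt]
    · exact ShortComplex.exact_of_isZero_X₂ _ (ι.map_isZero (isZero_L'_X hext hinj K hH a n (by omega)))
    · exact ShortComplex.exact_of_isZero_X₂ (K.sc n) (K.isZero_of_isStrictlyGE (a + 1) n (by omega))
  obtain ⟨k, rfl⟩ : ∃ k : ℕ, a + k = n := ⟨(n - a).toNat, by omega⟩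
  have hn' : a + (k : ℤ) + 1 = a + ((k + 1 : ℕ) : ℤ) := by push_cast; omega
  rw [quasiIsoAt_iff_isIso_homologyMap]
  have : Mono (homologyMap (α hext hinj K hH a) (a + k)) := by
    rw [mono_homologyMap_iff_up_to_refinements _ (a + k - 1) (a + k) (a + k + 1)
      (by simp) (by simp)]
    intro T x hx y hy
    have h1 : (x ≫ (st hext hinj K hH a k).f) ≫ (st hext hinj K hH a k).q = 0 := by
      refine (comp_q_eq_zero_iff hext hinj K hH a k _).2 ⟨T, 𝟙 T, inferInstance, y, ?_⟩
      simpa [α, αf_eq] using hy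
    rw [assoc, ← (st hext hinj K hH a k).fac, ← assoc] at h1
    have h2 : x ≫ K.pOpcycles (a + k) = 0 :=
      (st hext hinj K hH a k).monoE _ (by rw [assoc, HomologicalComplex.p_fromOpcycles, hx]) h1
    exact (comp_pOpcycles_eq_zero_iff_up_to_refinements K x (a + k - 1) (by simp)).1 h2
  have : Epi (homologyMap (α hext hinj K hH a) (a + k)) := by
    rw [epi_homologyMap_iff_up_to_refinements _ (a + k - 1) (a + k) (a + k + 1)
      (by simp) (by simp)]
    intro T y hy
    let y' := y ≫ (xIso hext hinj K hH a k (a + k) rfl).hom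
    rw [L_d hext hinj K hH a k (a + k) (a + k + 1) rfl hn'.symm] at hy
    have hy' := (st_succ_prop hext hinj K hH a k).2.2.2.2 y' (by
      rw [← cancel_mono (xIso hext hinj K hH a (k + 1) (a + k + 1) hn'.symm).inv, zero_comp]
      simpa [y'] using hy)
    obtain ⟨T₁, π₁, hπ₁, w, hw1, hw3⟩ := pushout_eq_up_to_refinements
      (K.fromOpcycles (a + k) (a + k + 1)) (st hext hinj K hH a k).e 0 (y' ≫ (st hext hinj K hH a k).q)
      (by rw [hy', zero_comp])
    rw [comp_zero] at hw1
    obtain ⟨T₂, π₂, hπ₂, x, hx⟩ := surjective_up_to_refinements_of_epi (K.pOpcycles (a + k)) w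
    have hxd : x ≫ K.d (a + k) (a + k + 1) = 0 := by
      rw [← HomologicalComplex.p_fromOpcycles, ← reassoc_of% hx, ← hw1, comp_zero]
    have h1 : ((π₂ ≫ π₁) ≫ y' - x ≫ (st hext hinj K hH a k).f) ≫ (st hext hinj K hH a k).q = 0 := by
      simp only [Preadditive.sub_comp, assoc, ← (st hext hinj K hH a k).fac, hw3, reassoc_of% hx,
        sub_self]
    obtain ⟨T₃, π₃, hπ₃, z, hz⟩ := (comp_q_eq_zero_iff hext hinj K hH a k _).1 h1
    refine ⟨T₃, π₃ ≫ π₂ ≫ π₁, inferInstance, π₃ ≫ x, by rw [assoc, hxd, comp_zero], z, ?_⟩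
    simp only [y', Preadditive.sub_comp, Preadditive.comp_sub, assoc, Iso.hom_inv_id, comp_id,
      sub_eq_iff_eq_add] at hz
    simp only [α, αf_eq, assoc]
    rw [hz]
    abel
  exact isIso_of_mono_of_epi _

lemma injective_L_X (n : ℤ) : Injective ((L hext hinj K hH a).X n) := by
  by_cases h : a ≤ n
  · obtain ⟨k, rfl⟩ : ∃ k : ℕ, a + k = n := ⟨(n - a).toNat, by omega⟩
    exact Injective.of_iso (xIso hext hinj K hH a k _ rfl).symm (st hext hinj K hH a k).inj
  · exact (ι.map_isZero (isZero_L'_X hext hinj K hH a n (by omega))).injective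

include hext hinj hH in
theorem exists_lift :
    ∃ (I : CochainComplex A' ℤ) (α : K ⟶ (ι.mapHomologicalComplex (ComplexShape.up ℤ)).obj I),
      I.IsStrictlyGE (a + 1) ∧ (∀ n, Injective (ι.obj (I.X n))) ∧ QuasiIso α := by
  refine ⟨L' hext hinj K hH a, α hext hinj K hH a, ?_, injective_L_X hext hinj K hH a,
    ⟨quasiIsoAt_α hext hinj K hH a⟩⟩
  rw [CochainComplex.isStrictlyGE_iff]
  intro i hi
  by_cases h : a ≤ i
  · obtain rfl : a + ((0 : ℕ) : ℤ) = i := by simp; omega
    exact (isZero_zero A').of_iso ((Lnat hext hinj K hH a).extendXIso (ComplexShape.embeddingUpIntGE a) rfl)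
  · exact isZero_L'_X hext hinj K hH a i (by omega)

end Groth.Agent.H9Misc.ThickLift
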