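import Groth.Agent.H9Misc.ThickLift
import Groth.Agent.TriCat.Resolve
import Mathlib.Algebra.Homology.DerivedCategory.ExactFunctor
import Mathlib.Algebra.Homology.DerivedCategory.KInjective
import Mathlib.Algebra.Homology.DerivedCategory.TStructure
import Mathlib.Algebra.Homology.DerivedCategory.Fractions

/-! Derived categories of thick subcategories with enough relative injectives. -/

universe w w' v v' u u'

open CategoryTheory Category Limits DerivedCategory ZeroObject

namespace Groth.Agent.H9Misc.ThickMain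

variable {A' : Type u'} [Category.{v'} A'] [Abelian A'] [HasDerivedCategory.{w'} A']
  {A : Type u} [Category.{v} A] [Abelian A] [HasDerivedCategory.{w} A]
  (ι : A' ⥤ A) [ι.Additive] [PreservesFiniteLimits ι] [PreservesFiniteColimits ι] [ι.Full] [ι.Faithful]

omit [HasDerivedCategory.{w'} A'] [HasDerivedCategory.{w} A] [PreservesFiniteLimits ι] [PreservesFiniteColimits ι] in
lemma htpy_bijective (M N : HomotopyCategory A' (ComplexShape.up ℤ)) :
    Function.Bijective ((ι.mapHomotopyCategory (ComplexShape.up ℤ)).map : (M ⟶ N) → _) := by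
  constructor
  · intro f g h
    obtain ⟨f, rfl⟩ := (HomotopyCategory.quotient _ _).map_surjective f
    obtain ⟨g, rfl⟩ := (HomotopyCategory.quotient _ _).map_surjective g
    have h' : (HomotopyCategory.quotient A _).map ((ι.mapHomologicalComplex (ComplexShape.up ℤ)).map f) =
        (HomotopyCategory.quotient A _).map ((ι.mapHomologicalComplex (ComplexShape.up ℤ)).map g) := h
    let H := HomotopyCategory.homotopyOfEq _ _ h'
    refine HomotopyCategory.eq_of_homotopy _ _
      { hom := fun i j => ι.preimage (H.hom i j)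
        zero := fun i j hij => ι.map_injective (by rw [ι.map_preimage, H.zero i j hij, ι.map_zero]; rfl)
        comm := fun n => ?_ }
    apply ι.map_injective
    refine (H.comm n).trans ?_
    simp [dNext, prevD]
    rfl
  · intro g
    obtain ⟨g, rfl⟩ := (HomotopyCategory.quotient _ _).map_surjective g
    exact ⟨(HomotopyCategory.quotient _ _).map
      { f := fun n => ι.preimage (g.f n)
        comm' := fun i j _ => ι.map_injective (by
          rw [ι.map_comp, ι.map_comp, ι.map_preimage, ι.map_preimage]; exact g.comm i j) },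
      congrArg (HomotopyCategory.quotient A _).map (HomologicalComplex.hom_ext _ _ fun n => ι.map_preimage _)⟩

theorem bijective (hinj : ∀ X' : A', ∃ (Y' : A') (i : X' ⟶ Y'), Mono i ∧ Injective (ι.obj Y'))
    (X Y : DerivedCategory A') (b : ℤ) [Y.IsGE b] :
    Function.Bijective (fun f : X ⟶ Y => ι.mapDerivedCategory.map f) := by
  obtain ⟨C, hC, ⟨eY⟩⟩ := Y.exists_iso_Q_obj_of_isGE b
  obtain ⟨I, α, hI, hIinj, -, hα⟩ := Groth.Agent.TriCat.exists_quasiIso_resolution
    (fun Y' : A' => Injective (ι.obj Y'))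
    ⟨0, isZero_zero _, (ι.map_isZero (isZero_zero A')).injective⟩
    (fun X' => by obtain ⟨Y', i, hi, hY⟩ := hinj X'; exact ⟨Y', i, hY, hi⟩) C b
  have hI' : ∀ n, Injective (I.X n) := fun n => by
    have := hIinj n
    exact ⟨fun {P Q} g f hf => ⟨ι.preimage (Injective.factorThru (ι.map g) (ι.map f)),
      ι.map_injective (by rw [ι.map_comp, ι.map_preimage, Injective.comp_factorThru])⟩⟩
  have : I.IsKInjective := CochainComplex.isKInjective_of_injective I b
  let ιI : CochainComplex A ℤ := (ι.mapHomologicalComplex (ComplexShape.up ℤ)).obj I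
  have : ιI.IsStrictlyGE b := (CochainComplex.isStrictlyGE_iff _ _).2 fun i hi =>
    ι.map_isZero (I.isZero_of_isStrictlyGE b i hi)
  have : ∀ n, Injective (ιI.X n) := hIinj
  have : ιI.IsKInjective := CochainComplex.isKInjective_of_injective ιI b
  have := Localization.essSurj (Qh (C := A')) (HomotopyCategory.quasiIso A' (ComplexShape.up ℤ))
  obtain ⟨M, ⟨eX⟩⟩ : ∃ M, Nonempty (Qh.obj M ≅ X) := ⟨_, ⟨Qh.objObjPreimageIso X⟩⟩
  let qI := (HomotopyCategory.quotient A' (ComplexShape.up ℤ)).obj I
  have := (isIso_Q_map_iff_quasiIso (φ := α)).2 hα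
  let eY' : Qh.obj qI ≅ Y := (quotientCompQhIso A').app I ≪≫ (asIso (Q.map α)).symm ≪≫ eY.symm
  let E := ι.mapDerivedCategoryFactorsh
  have h₁ : Function.Bijective (fun g : M ⟶ qI => ι.mapDerivedCategory.map (Qh.map g)) := by
    have e : (fun g : M ⟶ qI => ι.mapDerivedCategory.map (Qh.map g)) =
        ((E.app M).homCongr (E.app qI)).symm ∘ (fun g => Qh.map g) ∘
          (fun g : M ⟶ qI => (ι.mapHomotopyCategory (ComplexShape.up ℤ)).map g) := by
      funext g
      exact (Equiv.eq_symm_apply _).2 (by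
        simp only [Iso.homCongr_apply, Iso.app_hom, Iso.app_inv, Function.comp_apply]
        exact ((Iso.app E M).inv_comp_eq).2 (E.hom.naturality g))
    rw [e]
    exact (Equiv.bijective _).comp ((CochainComplex.IsKInjective.Qh_map_bijective _ ιI).comp (htpy_bijective ι M qI))
  have h₂ : Function.Bijective (fun f : Qh.obj M ⟶ Qh.obj qI => ι.mapDerivedCategory.map f) :=
    (Function.Bijective.of_comp_iff _ (CochainComplex.IsKInjective.Qh_map_bijective M I)).1 h₁
  have e : (fun f : X ⟶ Y => ι.mapDerivedCategory.map f) =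
      ((ι.mapDerivedCategory.mapIso eX).homCongr (ι.mapDerivedCategory.mapIso eY')) ∘
        (fun f => ι.mapDerivedCategory.map f) ∘ (eX.homCongr eY').symm := by
    funext f
    simp [← Functor.map_comp]
  rw [e]
  exact (Equiv.bijective _).comp (h₂.comp (Equiv.bijective _))

theorem exists_preimage
    (hext : ∀ S : ShortComplex A, S.ShortExact → ι.essImage S.X₁ → ι.essImage S.X₃ → ι.essImage S.X₂)
    (hinj : ∀ X' : A', ∃ (Y' : A') (i : X' ⟶ Y'), Mono i ∧ Injective (ι.obj Y'))
    (Z : DerivedCategory A) (a : ℤ) [Z.IsGE a]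
    (hZ : ∀ i : ℤ, ι.essImage ((DerivedCategory.homologyFunctor A i).obj Z)) :
    ∃ (I : CochainComplex A' ℤ), I.IsStrictlyGE a ∧ (∀ n : ℤ, Injective (ι.obj (I.X n))) ∧
      Nonempty (ι.mapDerivedCategory.obj (Q.obj I) ≅ Z) := by
  obtain ⟨K, hK, ⟨e⟩⟩ := Z.exists_iso_Q_obj_of_isGE a
  have : K.IsStrictlyGE (a - 1 + 1) := by simpa using hK
  obtain ⟨I, α, hI, hIinj, hα⟩ := ThickLift.exists_lift hext hinj K (fun i => Functor.essImage.ofIso
    ((DerivedCategory.homologyFunctor A i).mapIso e ≪≫ (homologyFunctorFactors A i).app K) (hZ i)) (a - 1)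
  refine ⟨I, by simpa using hI, hIinj, ⟨ι.mapDerivedCategoryFactors.app I ≪≫ ?_⟩⟩
  have := (isIso_Q_map_iff_quasiIso (φ := α)).2 hα
  exact (asIso (Q.map α)).symm ≪≫ e.symm

end Groth.Agent.H9Misc.ThickMain
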