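import Groth.Agent.KFlatLib.Scheme.Pullback
import Groth.Agent.QCoh.Stalk
import Groth.Agent.QCoh.ClosedPush
import Groth.Agent.LC.InjNoeth
import Groth.Agent.LC.InjBasic
import Mathlib.AlgebraicGeometry.Modules.Tilde

/-! Tilde of a module concentrated at a prime is a skyscraper. -/

set_option linter.style.haveILetI false
set_option linter.unusedSectionVars false
set_option backward.isDefEq.respectTransparency false
set_option backward.isDefEq.respectTransparency.types false

universe u

open CategoryTheory CategoryTheory.Limits AlgebraicGeometry TopologicalSpace Opposite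

noncomputable section

namespace Groth.Agent.H9Misc.TildeSky

open Groth.Agent KFlatLib

variable {X : Scheme.{u}}

/-- The map from a module to the skyscraper of its stalk. -/
def toSky (M : X.Modules) (y : X) : M ⟶ (sky y).obj ((DerSch.stalkFunctor X y).obj M) :=
  ⟨{ app := fun U => ModuleCat.ofHom (Y := skyObj y ((DerSch.stalkFunctor X y).obj M) U)
      { toFun := fun s h => (M.presheaf.germ U.unop y h.down s : M.presheaf.stalk y)
        map_add' := fun s t => funext fun h => map_add (M.presheaf.germ U.unop y h.down).hom s t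
        map_smul' := fun r s => funext fun h => QCoh.germ_smul' M h.down r s }
     naturality := fun {U V} i => ModuleCat.hom_ext (LinearMap.ext fun s => funext fun h =>
       TopCat.Presheaf.germ_res_apply M.presheaf i.unop y h.down s) }⟩

theorem injective_sky (y : X) (N : ModuleCat.{u} (X.presheaf.stalk y)) [Injective N] :
    Injective ((sky y).obj N) :=
  Injective.injective_of_adjoint (skyAdj y) N

variable {R : CommRingCat.{u}} {E : ModuleCat.{u} R} {p : Spec R}

theorem bijective_of_localized {A B : Type u} [AddCommGroup A] [Module R A] [AddCommGroup B] [Module R B]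
    (S : Submonoid R) (φ : A →ₗ[R] B) [IsLocalizedModule S φ]
    (h : ∀ s : S, Function.Bijective fun a : A => (s : R) • a) : Function.Bijective φ := by
  refine ⟨fun a a' haa' => ?_, fun b => ?_⟩
  · obtain ⟨s, hs⟩ := IsLocalizedModule.exists_of_eq (S := S) haa'
    exact (h s).1 hs
  · obtain ⟨⟨m, s⟩, hm⟩ := IsLocalizedModule.surj S φ b
    obtain ⟨a, ha⟩ := (h s).2 m
    refine ⟨a, ?_⟩
    have : (s : R) • φ a = (s : R) • b := by
      rw [← map_smul, show (s : R) • a = m from ha]
      exact hm.symm
    exact ((Module.End.isUnit_iff _).1 (IsLocalizedModule.map_units φ s)).1 this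

theorem subsingleton_of_localized {A B : Type u} [AddCommGroup A] [Module R A] [AddCommGroup B] [Module R B]
    (f : R) (φ : A →ₗ[R] B) [IsLocalizedModule (Submonoid.powers f) φ]
    (h : ∀ a : A, ∃ n : ℕ, f ^ n • a = 0) : Subsingleton B := by
  refine subsingleton_of_forall_eq 0 fun b => ?_
  obtain ⟨⟨m, s⟩, hm⟩ := IsLocalizedModule.surj (Submonoid.powers f) φ b
  obtain ⟨n, hn⟩ := h m
  have h0 : (((⟨f ^ n, n, rfl⟩ : Submonoid.powers f) * s : Submonoid.powers f) : R) • b = 0 := by
    show (f ^ n * (s : R)) • b = 0
    rw [mul_smul]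
    refine (congrArg (f ^ n • ·) hm).trans ?_
    show f ^ n • φ m = 0
    rw [← map_smul, hn, map_zero]
  exact ((Module.End.isUnit_iff _).1 (IsLocalizedModule.map_units φ _)).1 (h0.trans (smul_zero _).symm)

theorem isEpi_of_localization {A : Type u} [CommRing A] [Algebra R A] (S : Submonoid R) [IsLocalization S A] :
    Algebra.IsEpi R A := by
  refine (Algebra.isEpi_iff_forall_one_tmul_eq R A).2 fun a => ?_
  obtain ⟨⟨r, s⟩, hrs⟩ := IsLocalization.surj S a
  have hu : IsUnit (algebraMap R A (s : R)) := IsLocalization.map_units A s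
  have key : ∀ x y : TensorProduct R A A, (s : R) • x = (s : R) • y → x = y := fun x y h => by
    rw [← algebraMap_smul A (s : R) x, ← algebraMap_smul A (s : R) y] at h
    exact hu.smul_left_cancel.1 h
  refine key _ _ ?_
  have e : (s : R) • a = r • (1 : A) := by
    rw [Algebra.smul_def, Algebra.smul_def, mul_one, mul_comm]
    exact hrs
  rw [← TensorProduct.tmul_smul, TensorProduct.smul_tmul' (s : R) a 1, e, TensorProduct.smul_tmul]

variable (htors : ∀ (f : R), f ∈ p.asIdeal → ∀ x : E, ∃ n : ℕ, f ^ n • x = 0)
  (hbij : ∀ s : R, s ∉ p.asIdeal → Function.Bijective fun x : E => s • x)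

include hbij in
theorem bijective_toStalk : Function.Bijective (tilde.toStalk E p).hom :=
  bijective_of_localized p.asIdeal.primeCompl _ fun s => hbij s s.2

include htors hbij in
theorem isIso_toSky : IsIso (toSky (tilde E) p) := by
  refine QCoh.isIso_of_isBasis _ (B := Set.range fun f : R => PrimeSpectrum.basicOpen f)
    PrimeSpectrum.isBasis_basic_opens ?_
  rintro _ ⟨f, rfl⟩
  by_cases hf : f ∈ p.asIdeal
  · haveI := (inferInstance : IsLocalizedModule.Away f (tilde.toOpen E (PrimeSpectrum.basicOpen f)).hom)
    haveI h1 : Subsingleton Γ(tilde E, PrimeSpectrum.basicOpen f) :=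
      subsingleton_of_localized f (tilde.toOpen E (PrimeSpectrum.basicOpen f)).hom (htors f hf)
    refine ⟨fun a b _ => Subsingleton.elim a b, fun b => ⟨0, ?_⟩⟩
    exact funext fun h => absurd hf h.down
  · haveI := (inferInstance : IsLocalizedModule.Away f (tilde.toOpen E (PrimeSpectrum.basicOpen f)).hom)
    have h1 : Function.Bijective (tilde.toOpen E (PrimeSpectrum.basicOpen f)).hom :=
      bijective_of_localized (Submonoid.powers f) _ fun s => by
        obtain ⟨_, n, rfl⟩ := s
        exact hbij _ fun hn => hf (p.2.mem_of_pow_mem n hn)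
    have h2 := bijective_toStalk hbij
    have hp : p ∈ PrimeSpectrum.basicOpen f := hf
    have key : ∀ x : E, (tilde E).presheaf.germ (PrimeSpectrum.basicOpen f) p hp
        ((tilde.toOpen E (PrimeSpectrum.basicOpen f)).hom x) = (tilde.toStalk E p).hom x := fun x => by
      refine (congrArg _ (show (tilde.toOpen E (PrimeSpectrum.basicOpen f)).hom x = (tilde E).presheaf.map
        (homOfLE (le_top : PrimeSpectrum.basicOpen f ≤ (⊤ : (Spec R).Opens))).op ((tilde.toOpen E ⊤).hom x) from rfl)).trans ?_
      refine (TopCat.Presheaf.germ_res_apply (tilde E).presheaf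
        (homOfLE (le_top : PrimeSpectrum.basicOpen f ≤ (⊤ : (Spec R).Opens))) p hp _).trans ?_
      rfl
    refine ⟨fun a b hab => ?_, fun b => ?_⟩
    · obtain ⟨x, rfl⟩ := h1.2 a
      obtain ⟨y, rfl⟩ := h1.2 b
      have := congrFun hab ⟨hp⟩
      exact congrArg _ (h2.1 ((key x).symm.trans (this.trans (key y))))
    · obtain ⟨x, hx⟩ := h2.2 (b ⟨hp⟩)
      exact ⟨(tilde.toOpen E (PrimeSpectrum.basicOpen f)).hom x, funext fun _ => (key x).trans hx⟩

include htors hbij in
/-- Tilde of an injective module concentrated at a prime is injective. -/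
theorem injective_tilde (hE : Module.Injective R E) : Injective (tilde E) := by
  let φ : R →+* (Spec R).presheaf.stalk p := (StructureSheaf.toStalk R p).hom
  letI alg : Algebra R ((Spec R).presheaf.stalk p) := φ.toAlgebra
  haveI : IsLocalization.AtPrime ((Spec R).presheaf.stalk p) p.asIdeal := StructureSheaf.IsLocalization.to_stalk R p
  haveI : Algebra.IsEpi R ((Spec R).presheaf.stalk p) :=
    isEpi_of_localization p.asIdeal.primeCompl
  let N := (DerSch.stalkFunctor (Spec R) p).obj (tilde E)
  letI modR : Module R ((tilde E).presheaf.stalk p) := Module.compHom ((tilde E).presheaf.stalk p) φ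
  haveI : IsScalarTower R ((Spec R).presheaf.stalk p) ((tilde E).presheaf.stalk p) :=
    IsScalarTower.of_algebraMap_smul fun _ _ => rfl
  let L : E →ₗ[R] (tilde E).presheaf.stalk p :=
    { toFun := fun x => (tilde.toStalk E p).hom x
      map_add' := fun a b => map_add _ a b
      map_smul' := fun r x => by
        refine (congrArg ((tilde E).presheaf.germ ⊤ p trivial) ((tilde.toOpen E ⊤).hom.map_smul r x)).trans ?_
        refine (QCoh.germ_smul' (tilde E) (U := ⊤) (x := p) trivial _ _).trans ?_
        rfl }
  haveI : Module.Injective R ((tilde E).presheaf.stalk p) :=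
    LC.injective_of_linearEquiv (LinearEquiv.ofBijective L (bijective_toStalk hbij))
  haveI : Module.Injective ((Spec R).presheaf.stalk p) ((tilde E).presheaf.stalk p) :=
    LC.injective_of_isEpi R ((tilde E).presheaf.stalk p)
  haveI : Injective N := Module.injective_object_of_injective_module _ _
  haveI := injective_sky p N
  haveI := isIso_toSky htors hbij
  exact Injective.of_iso (asIso (toSky (tilde E) p)).symm inferInstance

theorem smul_eq {N : ModuleCat.{u} R} (q : Spec R) (r : R) (y : (tilde N).presheaf.stalk q) :
    (Spec R).presheaf.germ ⊤ q trivial ((Scheme.ΓSpecIso R).inv r) • y = r • y := by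
  -- both sides act through `toStalk`
  rfl

end Groth.Agent.H9Misc.TildeSky
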