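import Groth.Agent.H9Misc.Tower
import Groth.Agent.H9Misc.Theta
import Groth.Agent.H9Misc.FinDimDerived

/-! The top derived functor and the total derived functor of a functor of finite dimension. -/

universe w w' v v' u u'

open CategoryTheory Category Limits HomologicalComplex ZeroObject

namespace Groth.Agent.H9Misc.TopDerived

open Groth.Agent.TriCat Groth.Agent.HorseLib Tower

variable {A : Type u} [Category.{v} A] [Abelian A] [EnoughInjectives A]
  {B : Type u'} [Category.{v'} B] [Abelian B] (F : A ⥤ B) [F.Additive] [PreservesFiniteLimits F]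

/-- The comparison of a component of an iterated cokernel with the derived functor. -/
noncomputable def xi : ∀ (k : ℕ) (K : CochainComplex A ℤ) (m : ℤ),
    F.obj ((CC k K).X m) ⟶ (F.rightDerived k).obj (K.X m)
  | 0, K, m => F.toRightDerivedZero.app (K.X m)
  | 1, K, m => (show F.obj ((Cok K).X m) ⟶ (F.rightDerived 1).obj (K.X m) from
      Theta.rho F ((emb K).f m) ((prj K).f m) (injectiveResolution ((Cok K).X m))
        (emb_prj_f K m) (exact_f K m))
  | k + 2, K, m => xi (k + 1) (Cok K) m ≫ (Theta.theta F ((emb K).f m) ((prj K).f m)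
      (injectiveResolution ((Cok K).X m)) (emb_prj_f K m) (exact_f K m) k).hom

lemma xi_natural : ∀ (k : ℕ) (K : CochainComplex A ℤ) (m : ℤ) (K' : CochainComplex A ℤ) (m' : ℤ)
    (x : K.X m ⟶ K'.X m') (c : (CC k K).X m ⟶ (CC k K').X m'), Lift k K m K' m' x c →
    F.map c ≫ xi F k K' m' = xi F k K m ≫ (F.rightDerived k).map x
  | 0, K, m, K', m', x, c, h => by
    obtain rfl : c = x := h
    exact F.toRightDerivedZero.naturality c
  | 1, K, m, K', m', x, c, ⟨a, c₁, ha, hc, hl⟩ => by
    obtain rfl : c = c₁ := hl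
    exact Theta.rho_natural F ((emb K).f m) ((prj K).f m) (injectiveResolution ((Cok K).X m))
      (emb_prj_f K m) (exact_f K m) ((emb K').f m') ((prj K').f m')
      (injectiveResolution ((Cok K').X m')) (emb_prj_f K' m') (exact_f K' m') x a c ha hc
  | k + 2, K, m, K', m', x, c, ⟨a, c₁, ha, hc, hl⟩ => by
    show F.map c ≫ xi F (k + 1) (Cok K') m' ≫ _ = (xi F (k + 1) (Cok K) m ≫ _) ≫ _
    exact Theta.paste (xi_natural (k + 1) (Cok K) m (Cok K') m' c₁ c hl)
      (Theta.theta_natural F _ _ _ _ _ _ _ _ _ _ x a c₁ ha hc k)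

/-- The comparison map of complexes. -/
noncomputable def Xi (k : ℕ) (K : CochainComplex A ℤ) :
    (F.mapHomologicalComplex (ComplexShape.up ℤ)).obj (CC k K) ⟶
      ((F.rightDerived k).mapHomologicalComplex (ComplexShape.up ℤ)).obj K where
  f m := xi F k K m
  comm' i j _ := (xi_natural F k K i K j _ _ (lift_d k K i j)).symm

section Acyclic

omit [EnoughInjectives A] [PreservesFiniteLimits F] in
lemma acyclic_map_discs (E : ℤ → A) :
    ((F.mapHomologicalComplex (ComplexShape.up ℤ)).obj (discs E)).Acyclic := fun i => by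
  have h := F.mapHomotopy (discsHomotopy E)
  rw [HomologicalComplex.exactAt_iff_isZero_homology, IsZero.iff_id_eq_zero]
  have e := h.homologyMap_eq i
  rw [CategoryTheory.Functor.map_id, CategoryTheory.Functor.map_zero, homologyMap_zero,
    homologyMap_id] at e
  exact e

omit [EnoughInjectives A] [F.Additive] [PreservesFiniteLimits F] in
/-- Four term exact sequences with acyclic first two terms. -/
lemma quasiIso_of_four {X₁ X₂ X₃ X₄ : CochainComplex B ℤ} (f : X₁ ⟶ X₂) (g : X₂ ⟶ X₃) (h : X₃ ⟶ X₄)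
    (w₁ : f ≫ g = 0) (w₂ : g ≫ h = 0) [Mono f] [Epi h] (e₁ : (ShortComplex.mk f g w₁).Exact)
    (e₂ : (ShortComplex.mk g h w₂).Exact) (a₁ : X₁.Acyclic) (a₂ : X₂.Acyclic) : QuasiIso h := by
  let T := cokernel f
  have hT : (ShortComplex.mk f (cokernel.π f) (cokernel.condition f)).ShortExact :=
    { exact := ShortComplex.exact_cokernel f }
  have qf : QuasiIso f := ⟨fun i => (quasiIsoAt_iff_exactAt _ i (a₁ i)).2 (a₂ i)⟩
  have aT : T.Acyclic := hT.acyclic_X₃ qf
  let t : T ⟶ X₃ := cokernel.desc f g w₁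
  have wt : t ≫ h = 0 := by
    rw [← cancel_epi (cokernel.π f), cokernel.π_desc_assoc, w₂, comp_zero]
  have hm : Mono t := by
    rw [Preadditive.mono_iff_cancel_zero]
    intro Z x hx
    obtain ⟨Z', p, _, y, hy⟩ := surjective_up_to_refinements_of_epi (cokernel.π f) x
    have hy' : y ≫ g = 0 := by
      rw [← cokernel.π_desc f g w₁, ← reassoc_of% hy]
      exact (congrArg (p ≫ ·) hx).trans comp_zero
    obtain ⟨Z'', q, _, z, hz⟩ := e₁.exact_up_to_refinements y hy'
    rw [← cancel_epi p, ← cancel_epi q, hy, comp_zero, comp_zero]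
    refine (assoc _ _ _).symm.trans ((congrArg (· ≫ cokernel.π f) hz).trans ?_)
    show (z ≫ f) ≫ cokernel.π f = 0
    rw [assoc, cokernel.condition, comp_zero]
  have hS : (ShortComplex.mk t h wt).ShortExact :=
    { exact := by
        rw [ShortComplex.exact_iff_exact_up_to_refinements]
        intro Z x hx
        obtain ⟨Z', p, _, y, hy⟩ := e₂.exact_up_to_refinements x hx
        exact ⟨Z', p, inferInstance, y ≫ cokernel.π f, hy.trans
          ((congrArg (y ≫ ·) (cokernel.π_desc f g w₁).symm).trans (assoc _ _ _).symm)⟩ }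
  refine ⟨fun i => ?_⟩
  rw [quasiIsoAt_iff_isIso_homologyMap]
  have z : ∀ j, IsZero (T.homology j) := fun j => (exactAt_iff_isZero_homology _ _).1 (aT j)
  have : Mono (homologyMap h i) := (hS.homology_exact₂ i).mono_g ((z _).eq_of_src _ _)
  have : Epi (homologyMap h i) :=
    (hS.homology_exact₃ i (i + 1) rfl).epi_f ((z _).eq_of_tgt _ _)
  exact isIso_of_mono_of_epi _

lemma quasiIso_Xi_one (K : CochainComplex A ℤ)
    (h0 : ((F.mapHomologicalComplex (ComplexShape.up ℤ)).obj K).Acyclic) : QuasiIso (Xi F 1 K) := by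
  let G := F.mapHomologicalComplex (ComplexShape.up ℤ)
  have hmono : Mono (G.map (emb K)) :=
    HomologicalComplex.mono_of_mono_f _ fun j => inferInstanceAs (Mono (F.map ((emb K).f j)))
  let h₁ : G.obj (Cok K) ⟶ ((F.rightDerived 1).mapHomologicalComplex (ComplexShape.up ℤ)).obj K := Xi F 1 K
  have hepi : Epi (h₁) :=
    HomologicalComplex.epi_of_epi_f _ fun j => Theta.epi_rho F ((emb K).f j) ((prj K).f j)
      (injectiveResolution ((Cok K).X j)) (emb_prj_f K j) (exact_f K j)
  have w₁ : G.map (emb K) ≫ G.map (prj K) = 0 := by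
    rw [← G.map_comp, emb_prj, Functor.map_zero]
  have w₂ : G.map (prj K) ≫ h₁ = 0 :=
    HomologicalComplex.hom_ext _ _ fun j => Theta.map_g_rho F ((emb K).f j) ((prj K).f j)
      (injectiveResolution ((Cok K).X j)) (emb_prj_f K j) (exact_f K j)
  refine quasiIso_of_four (G.map (emb K)) (G.map (prj K)) h₁ w₁ w₂ ?_ ?_ h0
    (acyclic_map_discs F _)
  · refine HomologicalComplex.exact_of_degreewise_exact _ fun j => ?_
    exact (exact_f K j).map_of_mono_of_preservesKernel F (inferInstanceAs (Mono ((emb K).f j))) inferInstance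
  · refine HomologicalComplex.exact_of_degreewise_exact _ fun j => ?_
    exact Theta.exact_rho F ((emb K).f j) ((prj K).f j)
      (injectiveResolution ((Cok K).X j)) (emb_prj_f K j) (exact_f K j)

/-- The connecting isomorphism of complexes. -/
noncomputable def thetaCx (k : ℕ) (K : CochainComplex A ℤ) :
    ((F.rightDerived (k + 1)).mapHomologicalComplex (ComplexShape.up ℤ)).obj (Cok K) ≅
      ((F.rightDerived (k + 2)).mapHomologicalComplex (ComplexShape.up ℤ)).obj K :=
  HomologicalComplex.Hom.isoOfComponents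
    (fun m => Theta.theta F ((emb K).f m) ((prj K).f m) (injectiveResolution ((Cok K).X m))
      (emb_prj_f K m) (exact_f K m) k)
    (fun i j _ => (Theta.theta_natural F _ _ _ _ _ _ _ _ _ _ (K.d i j) ((D K).d i j) ((Cok K).d i j)
      ((emb K).comm i j) ((prj K).comm i j) k).symm)

lemma isZero_rightDerived_Cok (i : ℕ) (K : CochainComplex A ℤ) (m : ℤ)
    (h : IsZero ((F.rightDerived (i + 2)).obj (K.X m))) :
    IsZero ((F.rightDerived (i + 1)).obj ((Cok K).X m)) :=
  h.of_iso (Theta.theta F ((emb K).f m) ((prj K).f m) (injectiveResolution ((Cok K).X m))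
      (emb_prj_f K m) (exact_f K m) i)

theorem quasiIso_Xi : ∀ (k : ℕ) (K : CochainComplex A ℤ),
    (∀ (m : ℤ) (i : ℕ), 1 ≤ i → i < k + 1 → IsZero ((F.rightDerived i).obj (K.X m))) →
    ((F.mapHomologicalComplex (ComplexShape.up ℤ)).obj K).Acyclic → QuasiIso (Xi F (k + 1) K)
  | 0, K, _, h0 => quasiIso_Xi_one F K h0
  | k + 1, K, h, h0 => by
    have q1 := quasiIso_Xi_one F K h0
    have hC : ((F.mapHomologicalComplex (ComplexShape.up ℤ)).obj (Cok K)).Acyclic := fun i => by
      have hz : (((F.rightDerived 1).mapHomologicalComplex (ComplexShape.up ℤ)).obj K).ExactAt i :=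
        ShortComplex.exact_of_isZero_X₂ _ (h i 1 le_rfl (by omega))
      exact (quasiIsoAt_iff_exactAt' (Xi F 1 K) i hz).1 inferInstance
    have q := quasiIso_Xi k (Cok K) (fun m i hi hi' => by
      obtain ⟨i, rfl⟩ : ∃ j, i = j + 1 := ⟨i - 1, by omega⟩
      exact isZero_rightDerived_Cok F i K m (h m (i + 2) (by omega) (by omega))) hC
    have e : Xi F (k + 2) K = Xi F (k + 1) (Cok K) ≫ (thetaCx F k K).hom := by
      ext m
      rfl
    rw [e]
    exact _root_.quasiIso_comp (hφ := q) (hφ' := inferInstance) _ _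

theorem quasiIso_Xi_of_concentrated (n : ℕ) (K : CochainComplex A ℤ)
    (h : ∀ (m : ℤ) (i : ℕ), i ≠ n → IsZero ((F.rightDerived i).obj (K.X m))) :
    QuasiIso (Xi F n K) := by
  rcases n with _ | k
  · have : ∀ m, IsIso ((Xi F 0 K).f m) := fun m =>
      inferInstanceAs (IsIso (F.toRightDerivedZero.app (K.X m)))
    have : IsIso (Xi F 0 K) := HomologicalComplex.Hom.isIso_of_components _
    infer_instance
  · refine quasiIso_Xi F k K (fun m i hi hi' => h m i (by omega)) fun i => ?_
    exact ShortComplex.exact_of_isZero_X₂ _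
      ((h i 0 (by omega)).of_iso (F.rightDerivedZeroIsoSelf.app (K.X i)).symm)

end Acyclic

end Groth.Agent.H9Misc.TopDerived
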