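import Mathlib.Algebra.Homology.DerivedCategory.TStructure
import Mathlib.Algebra.Homology.DerivedCategory.SingleTriangle
import Mathlib.Algebra.Category.ModuleCat.Abelian
import Mathlib.RingTheory.Nakayama

/-! Maps from a complex to a module in the top nonzero degree. -/

set_option linter.style.haveILetI false
set_option linter.unusedSectionVars false
set_option backward.isDefEq.respectTransparency false

universe w v u

open CategoryTheory CategoryTheory.Limits

namespace Groth.Agent.H9Misc.TopHom

variable {C : Type u} [Category.{v} C] [Abelian C] [HasDerivedCategory.{w} C]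

open DerivedCategory

theorem exists_nonzero_cx (L : CochainComplex C ℤ) (m : ℤ) [L.IsStrictlyLE m] {T : C}
    (φ : L.homology m ⟶ T) (hφ : φ ≠ 0) :
    ∃ f : Q.obj L ⟶ Q.obj ((HomologicalComplex.single C (ComplexShape.up ℤ) m).obj T), f ≠ 0 := by
  have hd : L.d m (m + 1) = 0 := (L.isZero_of_isStrictlyLE m (m + 1) (by omega)).eq_of_tgt _ _
  haveI := L.isIso_iCycles m (m + 1) (by simp) hd
  let f : L ⟶ (HomologicalComplex.single C (ComplexShape.up ℤ) m).obj T :=
    HomologicalComplex.mkHomToSingle (inv (L.iCycles m) ≫ L.homologyπ m ≫ φ) fun i hi => by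
      rw [← Category.assoc, ← cancel_mono (L.iCycles m) (g := L.toCycles i m) (h := L.d i m ≫ inv (L.iCycles m))
        |>.1 (by rw [HomologicalComplex.toCycles_i, Category.assoc, IsIso.inv_hom_id, Category.comp_id]),
        HomologicalComplex.toCycles_comp_homologyπ_assoc, zero_comp]
  refine ⟨Q.map f, fun h0 => hφ ?_⟩
  have h1 : HomologicalComplex.homologyMap f m = 0 := by
    have h2 := congrArg (homologyFunctor C m).map h0
    rw [Functor.map_zero] at h2
    have h3 := (homologyFunctorFactors C m).hom.naturality f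
    dsimp at h3
    rw [h2, zero_comp] at h3
    exact (cancel_epi ((homologyFunctorFactors C m).hom.app L)).1 (h3.symm.trans comp_zero.symm)
  have h4 : HomologicalComplex.cyclesMap f m = 0 := by
    have h5 := HomologicalComplex.homologyπ_naturality f m
    rw [h1, comp_zero] at h5
    haveI : IsIso (((HomologicalComplex.single C (ComplexShape.up ℤ) m).obj T).homologyπ m) :=
      HomologicalComplex.isIso_homologyπ _ (m - 1) m (by simp)
        ((HomologicalComplex.isZero_single_obj_X _ _ _ _ (by omega)).eq_of_src _ _)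
    exact zero_of_comp_mono _ h5.symm
  have h6 := HomologicalComplex.cyclesMap_i f m
  rw [h4, zero_comp, HomologicalComplex.mkHomToSingle_f] at h6
  rw [← cancel_epi (L.homologyπ m), comp_zero]
  have h7 := h6.symm
  rw [Category.assoc, IsIso.hom_inv_id_assoc] at h7
  exact zero_of_comp_mono _ h7

/-- A nonzero map out of the top homology gives a nonzero map in the derived category. -/
theorem exists_nonzero (K : DerivedCategory C) (m : ℤ) [K.IsLE m] {T : C}
    (φ : (homologyFunctor C m).obj K ⟶ T) (hφ : φ ≠ 0) :
    ∃ f : K ⟶ ((singleFunctor C 0).obj T)⟦-m⟧, f ≠ 0 := by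
  obtain ⟨L, hL, ⟨e⟩⟩ := DerivedCategory.exists_iso_Q_obj_of_isLE K m
  haveI := hL
  obtain ⟨f, hf⟩ := exists_nonzero_cx L m
    ((homologyFunctorFactors C m).inv.app L ≫ (homologyFunctor C m).map e.inv ≫ φ)
    (fun h => hφ (zero_of_epi_comp _ (zero_of_epi_comp _ h)))
  let e' : Q.obj ((HomologicalComplex.single C (ComplexShape.up ℤ) m).obj T) ≅
      ((singleFunctor C 0).obj T)⟦-m⟧ :=
    ((singleFunctorIsoCompQ C m).symm.app T) ≪≫
      (((singleFunctors C).shiftIso (-m) m 0 (by omega)).app T).symm
  exact ⟨e.hom ≫ f ≫ e'.hom, fun h => hf (zero_of_comp_mono e'.hom (zero_of_epi_comp e.hom h))⟩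

end Groth.Agent.H9Misc.TopHom
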