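import Mathlib
import Groth.Agent.TorBridge.KerNat
import Groth.Prelude.Def_DRing2

/-!
# `Tor` of a cokernel of a map of flat modules
-/

set_option maxHeartbeats 400000

universe u

open CategoryTheory CategoryTheory.Limits MonoidalCategory

namespace Groth.Agent.H9Misc.TorPresentation

open Groth.Agent.TorBridge.KerNat

variable {A : Type u} [CommRing A]

/-- The sequence attached to a submodule. -/
noncomputable abbrev subSeq {F : Type u} [AddCommGroup F] [Module A F] (S : Submodule A F) :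
    ShortComplex (ModuleCat.{u} A) :=
  ShortComplex.mk (ModuleCat.ofHom S.subtype) (ModuleCat.ofHom S.mkQ)
    (ModuleCat.hom_ext (LinearMap.ext fun x => (Submodule.Quotient.mk_eq_zero S).2 x.2))

theorem subSeq_shortExact {F : Type u} [AddCommGroup F] [Module A F] (S : Submodule A F) : (subSeq S).ShortExact :=
  { exact := (ShortComplex.ShortExact.moduleCat_exact_iff_function_exact _).2 (LinearMap.exact_subtype_mkQ S)
    mono_f := (ModuleCat.mono_iff_injective _).2 Subtype.val_injective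
    epi_g := (ModuleCat.epi_iff_surjective _).2 S.mkQ_surjective }

variable {M₁ M₂ M₃ : Type u} [AddCommGroup M₁] [Module A M₁] [AddCommGroup M₂] [Module A M₂]
  [AddCommGroup M₃] [Module A M₃]

theorem tor_one_equiv {S : ShortComplex (ModuleCat.{u} A)} (hS : S.ShortExact) [Module.Flat A S.X₂]
    (Y : Type u) [AddCommGroup Y] [Module A Y] :
    Nonempty (DRing.Tor A 1 S.X₃ Y ≃ₗ[A] LinearMap.ker (S.f.hom.rTensor Y)) := by
  let θ' := (θ hS (ModuleCat.of A Y)).hom
  have h : LinearMap.range θ' = LinearMap.ker (S.f.hom.rTensor Y) :=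
    (θ_range hS (ModuleCat.of A Y)).linearMap_ker_eq.symm
  exact ⟨(LinearEquiv.ofInjective θ' (θ_injective hS (ModuleCat.of A Y))).trans (LinearEquiv.ofEq _ _ h)⟩

theorem tor_two_equiv {S : ShortComplex (ModuleCat.{u} A)} (hS : S.ShortExact) [Module.Flat A S.X₂]
    (Y : Type u) [AddCommGroup Y] [Module A Y] :
    Nonempty (DRing.Tor A 2 S.X₃ Y ≃ₗ[A] DRing.Tor A 1 S.X₁ Y) := by
  let Q : ProjectiveResolution (ModuleCat.of A Y) := projectiveResolution (ModuleCat.of A Y)
  have hz : ∀ i : ℕ, IsZero ((((ten S.X₂).mapHomologicalComplex _).obj Q.complex).homology (i + 1)) := fun i => by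
    rw [← HomologicalComplex.exactAt_iff_isZero_homology,
      HomologicalComplex.exactAt_iff' _ (i + 2) (i + 1) i (by simp) (by simp),
      ShortComplex.ShortExact.moduleCat_exact_iff_function_exact]
    exact Module.Flat.lTensor_exact S.X₂
      ((ShortComplex.ShortExact.moduleCat_exact_iff_function_exact _).1 (Q.exact_succ i))
  have h := seq_shortExact hS Q
  haveI : Mono (h.δ 2 1 rfl) := (h.homology_exact₃ 2 1 rfl).mono_g ((hz 1).eq_of_src _ _)
  haveI : Epi (h.δ 2 1 rfl) := (h.homology_exact₁ 2 1 rfl).epi_f ((hz 0).eq_of_tgt _ _)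
  exact ⟨(Q.isoLeftDerivedObj (ten S.X₃) 2 ≪≫ @asIso _ _ _ _ _ (isIso_of_mono_of_epi (h.δ 2 1 rfl)) ≪≫
    (Q.isoLeftDerivedObj (ten S.X₁) 1).symm).toLinearEquiv⟩

theorem equiv_of_equiv {X X' : Type u} [AddCommGroup X] [Module A X] [AddCommGroup X'] [Module A X']
    (e : X ≃ₗ[A] X') (Y : Type u) [AddCommGroup Y] [Module A Y] (p : ℕ) :
    Nonempty (DRing.Tor A p X Y ≃ₗ[A] DRing.Tor A p X' Y) :=
  ⟨(((CategoryTheory.Tor (ModuleCat.{u} A) p).mapIso e.toModuleIso).app (ModuleCat.of A Y)).toLinearEquiv⟩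

theorem tor_one_sub {F : Type u} [AddCommGroup F] [Module A F] [Module.Flat A F] (S : Submodule A F)
    (Y : Type u) [AddCommGroup Y] [Module A Y] :
    Nonempty (DRing.Tor A 1 (F ⧸ S) Y ≃ₗ[A] LinearMap.ker (S.subtype.rTensor Y)) :=
  haveI : Module.Flat A (subSeq S).X₂ := ‹Module.Flat A F›
  tor_one_equiv (subSeq_shortExact S) Y

theorem tor_two_sub {F : Type u} [AddCommGroup F] [Module A F] [Module.Flat A F] (S : Submodule A F)
    (Y : Type u) [AddCommGroup Y] [Module A Y] :
    Nonempty (DRing.Tor A 2 (F ⧸ S) Y ≃ₗ[A] DRing.Tor A 1 S Y) :=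
  haveI : Module.Flat A (subSeq S).X₂ := ‹Module.Flat A F›
  tor_two_equiv (subSeq_shortExact S) Y

theorem quot_equiv {P Q : Type*} [AddCommGroup P] [Module A P] [AddCommGroup Q] [Module A Q]
    (g : P →ₗ[A] Q) (S : Submodule A P) (hk : LinearMap.ker g = S) (hg : Function.Surjective g) :
    Nonempty ((P ⧸ S) ≃ₗ[A] Q) :=
  ⟨(Submodule.quotEquivOfEq _ _ hk.symm).trans (g.quotKerEquivOfSurjective hg)⟩

theorem main [Module.Flat A M₁] [Module.Flat A M₂] (d : M₁ →ₗ[A] M₂) (Y : Type u) [AddCommGroup Y] [Module A Y] :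
    Nonempty (LinearMap.ker ((LinearMap.ker d).subtype.rTensor Y) ≃ₗ[A] DRing.Tor A 2 (M₂ ⧸ LinearMap.range d) Y) ∧
      LinearMap.range ((LinearMap.ker d).subtype.rTensor Y) ≤ LinearMap.ker (d.rTensor Y) ∧
      Nonempty ((↥(LinearMap.ker (d.rTensor Y)) ⧸ Submodule.comap (LinearMap.ker (d.rTensor Y)).subtype
          (LinearMap.range ((LinearMap.ker d).subtype.rTensor Y))) ≃ₗ[A]
        DRing.Tor A 1 (M₂ ⧸ LinearMap.range d) Y) := by
  have hex : Function.Exact ((LinearMap.ker d).subtype.rTensor Y) (d.rangeRestrict.rTensor Y) :=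
    rTensor_exact Y (LinearMap.exact_iff.2 (by
      rw [LinearMap.ker_rangeRestrict, Submodule.range_subtype])) d.surjective_rangeRestrict
  have hcomp : d.rTensor Y = (LinearMap.range d).subtype.rTensor Y ∘ₗ d.rangeRestrict.rTensor Y := by
    rw [← LinearMap.rTensor_comp]; rfl
  refine ⟨?_, ?_, ?_⟩
  · obtain ⟨a⟩ := tor_two_sub (LinearMap.range d) Y
    obtain ⟨b⟩ := tor_one_sub (LinearMap.ker d) Y
    obtain ⟨c⟩ := equiv_of_equiv (LinearMap.quotKerEquivRange d) Y 1
    exact ⟨(a.trans (c.symm.trans b)).symm⟩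
  · rintro _ ⟨z, rfl⟩
    rw [LinearMap.mem_ker, hcomp, LinearMap.comp_apply, hex.apply_apply_eq_zero, map_zero]
  · obtain ⟨a⟩ := tor_one_sub (LinearMap.range d) Y
    let K := LinearMap.ker ((LinearMap.range d).subtype.rTensor Y)
    let g : ↥(LinearMap.ker (d.rTensor Y)) →ₗ[A] K :=
      (d.rangeRestrict.rTensor Y ∘ₗ (LinearMap.ker (d.rTensor Y)).subtype).codRestrict K fun x => by
        have h0 : d.rTensor Y x.1 = 0 := LinearMap.mem_ker.1 x.2
        exact LinearMap.mem_ker.2 ((LinearMap.congr_fun hcomp x.1).symm.trans h0)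
    have hg : Function.Surjective g := fun y => by
      obtain ⟨z, hz⟩ := LinearMap.rTensor_surjective Y d.surjective_rangeRestrict y.1
      refine ⟨⟨z, ?_⟩, Subtype.ext hz⟩
      rw [LinearMap.mem_ker, hcomp, LinearMap.comp_apply, hz]
      exact y.2
    have hk : LinearMap.ker g = Submodule.comap (LinearMap.ker (d.rTensor Y)).subtype
        (LinearMap.range ((LinearMap.ker d).subtype.rTensor Y)) := by
      ext z
      rw [LinearMap.mem_ker, Submodule.mem_comap, LinearMap.mem_range]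
      exact Subtype.ext_iff.trans (hex z.1)
    obtain ⟨e1⟩ := quot_equiv (P := ↥(LinearMap.ker (d.rTensor Y))) (Q := ↥K) g _ hk hg
    exact ⟨e1.trans a.symm⟩

end Groth.Agent.H9Misc.TorPresentation
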