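import Mathlib.Algebra.Homology.TotalComplex
import Mathlib.Algebra.Homology.ComplexShapeSigns
import Mathlib.Algebra.Homology.HomotopyCategory.MappingCone
import Mathlib.Algebra.Homology.HomologySequenceLemmas
import Mathlib.Algebra.Homology.Refinements
import Mathlib.Algebra.Homology.HomologicalComplexAbelian
import Mathlib.Algebra.Homology.HomologicalComplexBiprod
import Mathlib.Data.Int.Interval

/-! Total complexes of uniformly bounded below double complexes preserve quasi-isomorphisms. -/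

universe v u

open CategoryTheory CategoryTheory.Category CategoryTheory.Limits HomologicalComplex₂

namespace Groth.Agent.H9Misc.TotalRowsQuasiIso

variable {A : Type u} [Category.{v} A] [Abelian A]

/-- Double cochain complexes. -/
abbrev DC (A : Type u) [Category.{v} A] [Abelian A] :=
  HomologicalComplex₂ A (ComplexShape.up ℤ) (ComplexShape.up ℤ)

/-- Vanishing below `(a, b)`. -/
def Bdd (K : DC A) (a b : ℤ) : Prop := ∀ p q : ℤ, p < a ∨ q < b → IsZero ((K.X p).X q)

lemma hasCoproduct_of_finite {J : Type} (X : J → A) (s : Finset J) (h : ∀ j, j ∉ s → IsZero (X j)) :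
    HasCoproduct X := by
  classical
  haveI : HasFiniteBiproducts A := Abelian.hasFiniteBiproducts
  let Y : s → A := fun j => X j
  let inj : ∀ j, X j ⟶ ⨁ Y := fun j => if hj : j ∈ s then biproduct.ι Y ⟨j, hj⟩ else 0
  refine ⟨⟨⟨Cofan.mk (⨁ Y) inj, Cofan.IsColimit.mk _
    (fun t => biproduct.desc fun j => t.inj j) (fun t j => ?_) (fun t m hm => ?_)⟩⟩⟩
  · show inj j ≫ _ = t.inj j
    by_cases hj : j ∈ s
    · simp only [inj, dif_pos hj]
      exact biproduct.ι_desc (fun j : s => t.inj j) (⟨j, hj⟩ : s)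
    · exact (h j hj).eq_of_src _ _
  · refine biproduct.hom_ext' _ _ fun ⟨j, hj⟩ => ?_
    have := hm j
    change inj j ≫ m = _ at this
    simp only [inj, dif_pos hj] at this
    rw [biproduct.ι_desc]
    exact this

lemma hasTotal_of_bdd {K : DC A} {a b : ℤ} (hK : Bdd K a b) : K.HasTotal (ComplexShape.up ℤ) := by
  classical
  intro n
  let s : Finset ((ComplexShape.π (ComplexShape.up ℤ) (ComplexShape.up ℤ) (ComplexShape.up ℤ)) ⁻¹' {n}) :=
    (Finset.Icc a (n - b)).image fun p => ⟨(p, n - p), show p + (n - p) = n by omega⟩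
  refine hasCoproduct_of_finite _ s fun ⟨⟨p, q⟩, hpq⟩ hj => hK p q ?_
  have hpq' : p + q = n := hpq
  by_contra hc
  apply hj
  refine Finset.mem_image.2 ⟨p, Finset.mem_Icc.2 ⟨by omega, by omega⟩, Subtype.ext ?_⟩
  exact Prod.ext rfl (show n - p = q by omega)

variable (K : DC A) [K.HasTotal (ComplexShape.up ℤ)]

open Classical in
/-- The comparison between two summands. -/
noncomputable def δc (i j p q : ℤ) : (K.X i).X j ⟶ (K.X p).X q :=
  if h : i = p ∧ j = q then (K.XXIsoOfEq _ _ _ h.1 h.2).hom else 0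

lemma δc_self (p q : ℤ) : δc K p q p q = 𝟙 _ := by simp [δc]

lemma δc_ne {i j p q : ℤ} (h : ¬ (i = p ∧ j = q)) : δc K i j p q = 0 := dif_neg h

/-- The projection to a summand. -/
noncomputable def prj (p q n : ℤ) : (K.total (ComplexShape.up ℤ)).X n ⟶ (K.X p).X q :=
  K.totalDesc fun i j _ => δc K i j p q

lemma ι_prj (i j p q n : ℤ) (h : i + j = n) :
    K.ιTotal (ComplexShape.up ℤ) i j n h ≫ prj K p q n = δc K i j p q := K.ι_totalDesc _ i j h

lemma d_prj (p q p' q' n n' : ℤ) (hn : n + 1 = n') (hpq : p + q = n') (hp : p' + 1 = p) (hq : q' + 1 = q) :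
    (K.total (ComplexShape.up ℤ)).d n n' ≫ prj K p q n' =
      ComplexShape.ε₁ (ComplexShape.up ℤ) (ComplexShape.up ℤ) (ComplexShape.up ℤ) (p', q) • (prj K p' q n ≫ (K.d p' p).f q) +
      ComplexShape.ε₂ (ComplexShape.up ℤ) (ComplexShape.up ℤ) (ComplexShape.up ℤ) (p, q') • (prj K p q' n ≫ (K.X p).d q' q) := by
  subst hp hq
  refine total.hom_ext (ComplexShape.up ℤ) fun i j hij => ?_
  have hij' : i + j = n := hij
  rw [HomologicalComplex₂.total_d, Preadditive.add_comp, Preadditive.comp_add, Preadditive.comp_add]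
  congr 1
  · rw [ι_D₁_assoc, K.d₁_eq _ (show (ComplexShape.up ℤ).Rel i (i + 1) from rfl) j n' (show i + 1 + j = n' by omega),
      Linear.units_smul_comp, assoc, ι_prj, Linear.comp_units_smul, ← assoc, ι_prj]
    by_cases h : i = p' ∧ j = q' + 1
    · obtain ⟨rfl, rfl⟩ := h
      rw [δc_self, δc_self]
      simp
    · rw [δc_ne K h, δc_ne K (show ¬ (i + 1 = p' + 1 ∧ j = q' + 1) by omega)]
      simp
  · rw [ι_D₂_assoc, K.d₂_eq _ i (show (ComplexShape.up ℤ).Rel j (j + 1) from rfl) n' (show i + (j + 1) = n' by omega),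
      Linear.units_smul_comp, assoc, ι_prj, Linear.comp_units_smul, ← assoc, ι_prj]
    by_cases h : i = p' + 1 ∧ j = q'
    · obtain ⟨rfl, rfl⟩ := h
      rw [δc_self, δc_self]
      simp
    · rw [δc_ne K h, δc_ne K (show ¬ (i = p' + 1 ∧ j + 1 = q' + 1) by omega)]
      simp

lemma eq_zero_of_prj {a b : ℤ} (hK : Bdd K a b) (n : ℤ) {T : A}
    (f : T ⟶ (K.total (ComplexShape.up ℤ)).X n) (h : ∀ p q, p + q = n → f ≫ prj K p q n = 0) : f = 0 := by
  classical
  have e : (∑ p ∈ Finset.Icc a (n - b), prj K p (n - p) n ≫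
      K.ιTotal (ComplexShape.up ℤ) p (n - p) n (show p + (n - p) = n by omega)) = 𝟙 _ := by
    refine total.hom_ext (ComplexShape.up ℤ) fun i j hij => ?_
    have hij' : i + j = n := hij
    rw [comp_id, Preadditive.comp_sum]
    by_cases hz : i < a ∨ j < b
    · exact (hK i j hz).eq_of_src _ _
    · obtain rfl : j = n - i := by omega
      rw [Finset.sum_eq_single i (fun p _ hp => by
        rw [← assoc, ι_prj, δc_ne K (show ¬ (i = p ∧ n - i = n - p) by omega), zero_comp])
        (fun h' => absurd (Finset.mem_Icc.2 ⟨by omega, by omega⟩) h'),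
        ← assoc, ι_prj, δc_self, id_comp]
  rw [← comp_id f, ← e, Preadditive.comp_sum]
  exact Finset.sum_eq_zero fun p _ => by rw [← assoc, h p (n - p) (by omega), zero_comp]

/-- Exact rows give an acyclic total complex. -/
theorem acyclic_total {a b : ℤ} (hK : Bdd K a b) (hacy : HomologicalComplex.Acyclic K) :
    (K.total (ComplexShape.up ℤ)).Acyclic := by
  intro n
  rw [HomologicalComplex.exactAt_iff_exact_up_to_refinements _ (n - 1) n (n + 1) (by simp) (by simp)]
  intro T w hw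
  have key : ∀ k : ℕ, ∃ (T' : A) (π : T' ⟶ T) (_ : Epi π) (z : T' ⟶ (K.total (ComplexShape.up ℤ)).X (n - 1)),
      ∀ p q, p + q = n → q < b + k →
        (π ≫ w - z ≫ (K.total (ComplexShape.up ℤ)).d (n - 1) n) ≫ prj K p q n = 0 := by
    intro k
    induction k with
    | zero => exact ⟨T, 𝟙 T, inferInstance, 0, fun p q _ hq => (hK p q (Or.inr (by omega))).eq_of_tgt _ _⟩
    | succ k ih =>
      obtain ⟨T', π, hπ, z, hz⟩ := ih
      let q₀ := b + (k : ℤ)
      let p₀ := n - q₀
      let v := π ≫ w - z ≫ (K.total (ComplexShape.up ℤ)).d (n - 1) n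
      have hvd : v ≫ (K.total (ComplexShape.up ℤ)).d n (n + 1) = 0 := by simp [v, hw]
      have hrow : (v ≫ prj K p₀ q₀ n) ≫ (K.d p₀ (p₀ + 1)).f q₀ = 0 := by
        have h1 := congrArg (fun t => t ≫ prj K (p₀ + 1) q₀ (n + 1)) hvd
        simp only [assoc, zero_comp, d_prj K (p₀ + 1) q₀ p₀ (q₀ - 1) n (n + 1) rfl (by omega) rfl (by omega),
          Preadditive.comp_add, Linear.comp_units_smul] at h1
        rw [← assoc v (prj K (p₀ + 1) (q₀ - 1) n), hz (p₀ + 1) (q₀ - 1) (by omega) (by omega), zero_comp, smul_zero,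
          add_zero, smul_eq_zero_iff_eq, ← assoc] at h1
        exact h1
      have hex : ((((HomologicalComplex.eval A (ComplexShape.up ℤ) q₀).mapHomologicalComplex _).obj K)).ExactAt p₀ := by
        rw [HomologicalComplex.exactAt_iff' _ (p₀ - 1) p₀ (p₀ + 1) (by simp) (by simp)]
        exact ((HomologicalComplex.exactAt_iff' K (p₀ - 1) p₀ (p₀ + 1) (by simp) (by simp)).1 (hacy p₀)).map
          (HomologicalComplex.eval A (ComplexShape.up ℤ) q₀)
      obtain ⟨T'', π', hπ', y, hy⟩ := ((HomologicalComplex.exactAt_iff_exact_up_to_refinements _ (p₀ - 1) p₀ (p₀ + 1)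
        (by simp) (by simp)).1 hex) (v ≫ prj K p₀ q₀ n) hrow
      change T'' ⟶ (K.X (p₀ - 1)).X q₀ at y
      change π' ≫ v ≫ prj K p₀ q₀ n = y ≫ (K.d (p₀ - 1) p₀).f q₀ at hy
      let e := ComplexShape.ε₁ (ComplexShape.up ℤ) (ComplexShape.up ℤ) (ComplexShape.up ℤ) (p₀ - 1, q₀)
      let z' : T'' ⟶ (K.total (ComplexShape.up ℤ)).X (n - 1) :=
        (e⁻¹ • y) ≫ K.ιTotal (ComplexShape.up ℤ) (p₀ - 1) q₀ (n - 1) (show p₀ - 1 + q₀ = n - 1 by omega)
      have hz' : ∀ i j, z' ≫ prj K i j (n - 1) = (e⁻¹ • y) ≫ δc K (p₀ - 1) q₀ i j := fun i j => by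
        simp only [z', assoc, ι_prj]
      refine ⟨T'', π' ≫ π, epi_comp _ _, π' ≫ z + z', fun p q hpq hq => ?_⟩
      have e1 : (π' ≫ π) ≫ w - (π' ≫ z + z') ≫ (K.total (ComplexShape.up ℤ)).d (n - 1) n =
          π' ≫ v - z' ≫ (K.total (ComplexShape.up ℤ)).d (n - 1) n := by
        simp only [v, Preadditive.add_comp, Preadditive.comp_sub, assoc]
        abel
      have e2 : z' ≫ (K.total (ComplexShape.up ℤ)).d (n - 1) n ≫ prj K p q n =
          π' ≫ v ≫ prj K p q n := by
        rw [d_prj K p q (p - 1) (q - 1) (n - 1) n (by omega) hpq (by omega) (by omega), Preadditive.comp_add, Linear.comp_units_smul, Linear.comp_units_smul,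
          ← assoc z', ← assoc z', hz', hz', δc_ne K (show ¬ (p₀ - 1 = p ∧ q₀ = q - 1) by omega), comp_zero, zero_comp,
          smul_zero, add_zero]
        by_cases hq' : q = q₀
        · subst hq'
          obtain rfl : p = p₀ := by omega
          rw [δc_self, comp_id, Linear.units_smul_comp, smul_smul, ← hy]
          simp [e]
        · rw [δc_ne K (show ¬ (p₀ - 1 = p - 1 ∧ q₀ = q) by omega), comp_zero, zero_comp, smul_zero,
            hz p q hpq (by omega), comp_zero]
      rw [e1, Preadditive.sub_comp, assoc, assoc, e2, sub_self]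
  obtain ⟨T', π, hπ, z, hz⟩ := key (n - a - b + 1).toNat
  refine ⟨T', π, hπ, z, sub_eq_zero.1 (eq_zero_of_prj K hK n _ fun p q hpq => ?_)⟩
  by_cases hp : p < a
  · exact (hK p q (Or.inl hp)).eq_of_tgt _ _
  · exact hz p q hpq (by omega)

omit [K.HasTotal (ComplexShape.up ℤ)]

section
variable {B : Type*} [Category B] [Abelian B] {S : ShortComplex (CochainComplex B ℤ)}

lemma isIso_g (hS : S.ShortExact) (i j : ℤ) (hij : i + 1 = j) (h₁ : IsZero (S.X₁.homology i))
    (h₂ : IsZero (S.X₁.homology j)) : IsIso (HomologicalComplex.homologyMap S.g i) := by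
  haveI : Mono (HomologicalComplex.homologyMap S.g i) := (hS.homology_exact₂ i).mono_g (h₁.eq_of_src _ _)
  haveI : Epi (HomologicalComplex.homologyMap S.g i) := (hS.homology_exact₃ i j hij).epi_f (h₂.eq_of_tgt _ _)
  exact isIso_of_mono_of_epi _

lemma isIso_f (hS : S.ShortExact) (i j : ℤ) (hij : i + 1 = j) (h₁ : IsZero (S.X₃.homology j))
    (h₂ : IsZero (S.X₃.homology i)) : IsIso (HomologicalComplex.homologyMap S.f j) := by
  haveI : Epi (HomologicalComplex.homologyMap S.f j) := (hS.homology_exact₂ j).epi_f (h₁.eq_of_tgt _ _)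
  haveI : Mono (HomologicalComplex.homologyMap S.f j) := (hS.homology_exact₁ i j hij).mono_g (h₂.eq_of_src _ _)
  exact isIso_of_mono_of_epi _

end

/-- The degreewise splitting of totals. -/
noncomputable def splitTotal {K₁ K₂ K₃ : DC A} [K₁.HasTotal (ComplexShape.up ℤ)] [K₂.HasTotal (ComplexShape.up ℤ)]
    [K₃.HasTotal (ComplexShape.up ℤ)] (f : K₁ ⟶ K₂) (g : K₂ ⟶ K₃) (r : ∀ i, K₂.X i ⟶ K₁.X i)
    (t : ∀ i, K₃.X i ⟶ K₂.X i) (hf : ∀ i j, (f.f i).f j ≫ (r i).f j = 𝟙 _)
    (hg : ∀ i j, (t i).f j ≫ (g.f i).f j = 𝟙 _)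
    (hid : ∀ i j, (r i).f j ≫ (f.f i).f j + (g.f i).f j ≫ (t i).f j = 𝟙 _) (n : ℤ)
    (w : total.map f (ComplexShape.up ℤ) ≫ total.map g (ComplexShape.up ℤ) = 0) :
    (ShortComplex.mk ((total.map f (ComplexShape.up ℤ)).f n) ((total.map g (ComplexShape.up ℤ)).f n)
      (by rw [← HomologicalComplex.comp_f, w]; rfl)).Splitting where
  r := K₂.totalDesc fun i j h => (r i).f j ≫ K₁.ιTotal (ComplexShape.up ℤ) i j n h
  s := K₃.totalDesc fun i j h => (t i).f j ≫ K₂.ιTotal (ComplexShape.up ℤ) i j n h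
  f_r := total.hom_ext (ComplexShape.up ℤ) fun i j h => by
    rw [ιTotal_map_assoc, ι_totalDesc, reassoc_of% hf i j, comp_id]
  s_g := total.hom_ext (ComplexShape.up ℤ) fun i j h => by
    rw [ι_totalDesc_assoc, assoc, ιTotal_map, reassoc_of% hg i j, comp_id]
  id := total.hom_ext (ComplexShape.up ℤ) fun i j h => by
    rw [Preadditive.comp_add, ι_totalDesc_assoc, assoc, ιTotal_map, ιTotal_map_assoc, ι_totalDesc,
      ← assoc, ← assoc ((g.f i).f j), ← Preadditive.add_comp, hid i j, id_comp, comp_id]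

/-- A short exact sequence of double complexes split in each first degree stays exact on totals. -/
theorem shortExact_total (S : ShortComplex (DC A)) [S.X₁.HasTotal (ComplexShape.up ℤ)]
    [S.X₂.HasTotal (ComplexShape.up ℤ)] [S.X₃.HasTotal (ComplexShape.up ℤ)]
    (σ : ∀ p, (S.map (HomologicalComplex.eval (CochainComplex A ℤ) (ComplexShape.up ℤ) p)).Splitting) :
    ∃ w, (ShortComplex.mk (total.map S.f (ComplexShape.up ℤ)) (total.map S.g (ComplexShape.up ℤ)) w).ShortExact := by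
  have w : total.map S.f (ComplexShape.up ℤ) ≫ total.map S.g (ComplexShape.up ℤ) = 0 := by
    ext n i j h
    rw [HomologicalComplex.comp_f, ιTotal_map_assoc, ιTotal_map, ← assoc, ← HomologicalComplex.comp_f,
      ← HomologicalComplex.comp_f, S.zero]
    simp
  refine ⟨w, HomologicalComplex.shortExact_of_degreewise_shortExact _ fun n => ?_⟩
  let r : ∀ i, S.X₂.X i ⟶ S.X₁.X i := fun i => (σ i).r
  let t : ∀ i, S.X₃.X i ⟶ S.X₂.X i := fun i => (σ i).s
  have hf : ∀ i j, (S.f.f i).f j ≫ (r i).f j = 𝟙 _ := fun i j =>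
    congrArg (fun φ : S.X₁.X i ⟶ S.X₁.X i => φ.f j) (σ i).f_r
  have hg : ∀ i j, (t i).f j ≫ (S.g.f i).f j = 𝟙 _ := fun i j =>
    congrArg (fun φ : S.X₃.X i ⟶ S.X₃.X i => φ.f j) (σ i).s_g
  have hid : ∀ i j, (r i).f j ≫ (S.f.f i).f j + (S.g.f i).f j ≫ (t i).f j = 𝟙 _ := fun i j =>
    congrArg (fun φ : S.X₂.X i ⟶ S.X₂.X i => φ.f j) (σ i).id
  exact (splitTotal S.f S.g r t hf hg hid n w).shortExact

/-- The degreewise bound of a biproduct. -/
lemma bdd_biprod {K L : DC A} {a b : ℤ} (hK : Bdd K a b) (hL : Bdd L a b) : Bdd (K ⊞ L) a b := fun p q h => by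
  refine IsZero.of_iso ?_ ((HomologicalComplex.eval A (ComplexShape.up ℤ) q).mapIso
    ((HomologicalComplex.eval (CochainComplex A ℤ) (ComplexShape.up ℤ) p).mapBiprod K L) ≪≫
    (HomologicalComplex.eval A (ComplexShape.up ℤ) q).mapBiprod (K.X p) (L.X p))
  rw [biprod_isZero_iff]
  exact ⟨hK p q h, hL p q h⟩

theorem quasiIso_total_map {K L : DC A} (φ : K ⟶ L) (a b : ℤ) (hK : Bdd K a b) (hL : Bdd L a b)
    [K.HasTotal (ComplexShape.up ℤ)] [L.HasTotal (ComplexShape.up ℤ)] (hφ : QuasiIso φ) :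
    QuasiIso (total.map φ (ComplexShape.up ℤ)) := by
  let C : DC A := CochainComplex.mappingCone (𝟙 K : (K : CochainComplex (CochainComplex A ℤ) ℤ) ⟶ K)
  have hC : Bdd C (a - 1) b := fun p q h => by
    refine IsZero.of_iso ?_ ((HomologicalComplex.eval A (ComplexShape.up ℤ) q).mapIso
      (HomologicalComplex.homotopyCofiber.XIsoBiprod (𝟙 K) p (p + 1) rfl) ≪≫
      (HomologicalComplex.eval A (ComplexShape.up ℤ) q).mapBiprod _ _)
    rw [biprod_isZero_iff]
    exact ⟨hK _ _ (by omega), hK _ _ (by omega)⟩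
  have hL' : Bdd L (a - 1) b := fun p q h => hL p q (by omega)
  let ι₀ : K ⟶ C := CochainComplex.mappingCone.inr (𝟙 K)
  let M : DC A := (L ⊞ C)
  let ψ : K ⟶ M := biprod.lift φ ι₀
  let pr : M ⟶ L := biprod.fst
  have hM : Bdd M (a - 1) b := bdd_biprod hL' hC
  haveI := hasTotal_of_bdd hC
  haveI := hasTotal_of_bdd hM
  have hCacy : HomologicalComplex.Acyclic C := fun i => by
    let h₀ : Homotopy (𝟙 (CochainComplex.mappingCone (𝟙 K))) 0 :=
      CochainComplex.mappingCone.liftHomotopy _ _ _ (CochainComplex.mappingCone.snd _) 0 (by simp) (by simp)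
    rw [HomologicalComplex.exactAt_iff_isZero_homology, IsZero.iff_id_eq_zero,
      ← HomologicalComplex.homologyMap_id]
    exact (h₀.homologyMap_eq i).trans (by simp)
  let S₂ : ShortComplex (DC A) := ShortComplex.mk (biprod.inr : C ⟶ M) pr biprod.inr_fst
  let σ₂ : ∀ p, (S₂.map (HomologicalComplex.eval (CochainComplex A ℤ) (ComplexShape.up ℤ) p)).Splitting := fun p =>
    { r := (biprod.snd : M ⟶ C).f p
      s := (biprod.inl : L ⟶ M).f p
      f_r := (congrArg (fun x : C ⟶ C => x.f p) (biprod.inr_snd : (biprod.inr : C ⟶ M) ≫ biprod.snd = 𝟙 C) :)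
      s_g := (congrArg (fun x : L ⟶ L => x.f p) (biprod.inl_fst : (biprod.inl : L ⟶ M) ≫ biprod.fst = 𝟙 L) :)
      id := (congrArg (fun x : M ⟶ M => x.f p) ((add_comm _ _).trans (biprod.total :
        (biprod.fst : M ⟶ L) ≫ biprod.inl + biprod.snd ≫ (biprod.inr : C ⟶ M) = 𝟙 M)) :) }
  haveI : QuasiIso pr := by
    have hS₂ : S₂.ShortExact :=
      HomologicalComplex.shortExact_of_degreewise_shortExact _ fun p => (σ₂ p).shortExact
    refine ⟨fun i => ?_⟩
    rw [quasiIsoAt_iff_isIso_homologyMap]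
    exact isIso_g hS₂ i (i + 1) rfl ((HomologicalComplex.exactAt_iff_isZero_homology _ _).1 (hCacy i))
      ((HomologicalComplex.exactAt_iff_isZero_homology _ _).1 (hCacy (i + 1)))
  haveI : QuasiIso (ψ ≫ pr) := by simpa [ψ, pr, M] using hφ
  haveI : QuasiIso ψ := quasiIso_of_comp_right ψ pr
  have hr : ∀ p, ψ.f p ≫ ((biprod.snd : M ⟶ C).f p ≫ (CochainComplex.mappingCone.snd (𝟙 K)).v p p (add_zero p)) = 𝟙 _ := by
    intro p
    rw [← assoc, ← HomologicalComplex.comp_f, biprod.lift_snd]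
    exact CochainComplex.mappingCone.inr_f_snd_v (𝟙 K) p
  haveI : Mono ψ := HomologicalComplex.mono_of_mono_f ψ fun p => mono_of_mono_fac (hr p)
  let S₁ : ShortComplex (DC A) := ShortComplex.mk ψ (cokernel.π ψ) (cokernel.condition ψ)
  have hS₁ : S₁.ShortExact := { exact := ShortComplex.exact_of_g_is_cokernel _ (cokernelIsCokernel ψ) }
  have hS₁p := fun p => hS₁.map_of_exact (HomologicalComplex.eval (CochainComplex A ℤ) (ComplexShape.up ℤ) p)
  let σ₁ : ∀ p, (S₁.map (HomologicalComplex.eval (CochainComplex A ℤ) (ComplexShape.up ℤ) p)).Splitting := fun p =>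
    ShortComplex.Splitting.ofExactOfRetraction _ (hS₁p p).exact _ (hr p) (hS₁p p).epi_g
  have hQ : Bdd (cokernel ψ) (a - 1) b := fun p q h => by
    haveI : Epi (((cokernel.π ψ).f p).f q) := inferInstanceAs (Epi ((HomologicalComplex.eval (CochainComplex A ℤ)
      (ComplexShape.up ℤ) p ⋙ HomologicalComplex.eval A (ComplexShape.up ℤ) q).map (cokernel.π ψ)))
    exact (hM p q h).of_epi (((cokernel.π ψ).f p).f q)
  haveI := hasTotal_of_bdd hQ
  have hQacy : HomologicalComplex.Acyclic (cokernel ψ) := hS₁.acyclic_X₃ inferInstance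
  obtain ⟨w₁, hT₁⟩ := shortExact_total S₁ σ₁
  obtain ⟨w₂, hT₂⟩ := shortExact_total S₂ σ₂
  haveI : QuasiIso (total.map ψ (ComplexShape.up ℤ)) := ⟨fun i => by
    rw [quasiIsoAt_iff_isIso_homologyMap]
    exact isIso_f hT₁ (i - 1) i (by simp)
      ((HomologicalComplex.exactAt_iff_isZero_homology _ _).1 (acyclic_total (cokernel ψ) hQ hQacy i))
      ((HomologicalComplex.exactAt_iff_isZero_homology _ _).1 (acyclic_total (cokernel ψ) hQ hQacy (i - 1)))⟩
  haveI : QuasiIso (total.map pr (ComplexShape.up ℤ)) := ⟨fun i => by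
    rw [quasiIsoAt_iff_isIso_homologyMap]
    exact isIso_g hT₂ i (i + 1) rfl
      ((HomologicalComplex.exactAt_iff_isZero_homology _ _).1 (acyclic_total C hC hCacy i))
      ((HomologicalComplex.exactAt_iff_isZero_homology _ _).1 (acyclic_total C hC hCacy (i + 1)))⟩
  have e : φ = ψ ≫ pr := by simp [ψ, pr, M]
  rw [e, total.map_comp]
  infer_instance

end Groth.Agent.H9Misc.TotalRowsQuasiIso
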