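import Groth.Agent.H9Misc.ClassRes
import Mathlib.CategoryTheory.Preadditive.Injective.Basic
import Mathlib.Algebra.Homology.HomotopyCategory.Shift
import Mathlib.Algebra.Homology.HomotopyCategory.ShiftSequence

/-! Iterated cokernels of embeddings into contractible complexes of injectives. -/

universe v u

open CategoryTheory Category Limits HomologicalComplex ZeroObject

namespace Groth.Agent.H9Misc.Tower

open Groth.Agent.HorseLib Groth.Agent.H9Misc.ClassRes

variable {A : Type u} [Category.{v} A] [Abelian A] [EnoughInjectives A]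

/-- The contractible complex of injectives. -/
noncomputable def D (K : CochainComplex A ℤ) : CochainComplex A ℤ :=
  discs fun j => Injective.under (K.X j)

/-- The embedding. -/
noncomputable def emb (K : CochainComplex A ℤ) : K ⟶ D K := toDiscs K fun j => Injective.ι (K.X j)

instance mono_emb_f (K : CochainComplex A ℤ) (j : ℤ) : Mono ((emb K).f j) :=
  mono_of_mono_fac (biprod.lift_fst (Injective.ι (K.X j)) (K.d j (j + 1) ≫ Injective.ι (K.X (j + 1))))

instance mono_emb (K : CochainComplex A ℤ) : Mono (emb K) := HomologicalComplex.mono_of_mono_f _ inferInstance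

instance injective_D (K : CochainComplex A ℤ) (j : ℤ) : Injective ((D K).X j) :=
  inferInstanceAs (Injective (Injective.under (K.X j) ⊞ Injective.under (K.X (j + 1))))

/-- The cokernel. -/
noncomputable def Cok (K : CochainComplex A ℤ) : CochainComplex A ℤ := cokernel (emb K)

/-- The projection. -/
noncomputable def prj (K : CochainComplex A ℤ) : D K ⟶ Cok K := cokernel.π (emb K)

lemma emb_prj (K : CochainComplex A ℤ) : emb K ≫ prj K = 0 := cokernel.condition _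

lemma emb_prj_f (K : CochainComplex A ℤ) (j : ℤ) : (emb K).f j ≫ (prj K).f j = 0 := by
  rw [← HomologicalComplex.comp_f, emb_prj, HomologicalComplex.zero_f]

instance epi_prj_f (K : CochainComplex A ℤ) (j : ℤ) : Epi ((prj K).f j) :=
  inferInstanceAs (Epi ((HomologicalComplex.eval A _ j).map (cokernel.π (emb K))))

lemma exact_f (K : CochainComplex A ℤ) (j : ℤ) :
    (ShortComplex.mk ((emb K).f j) ((prj K).f j) (emb_prj_f K j)).Exact :=
  (ShortComplex.exact_cokernel (emb K)).map (HomologicalComplex.eval A _ j)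

lemma exists_lift {K K' : CochainComplex A ℤ} (f : K ⟶ K') :
    ∃ (a : D K ⟶ D K') (c : Cok K ⟶ Cok K'), emb K ≫ a = f ≫ emb K' ∧ prj K ≫ c = a ≫ prj K' := by
  let g : ∀ j, Injective.under (K.X j) ⟶ Injective.under (K'.X j) := fun j =>
    Injective.factorThru (f.f j ≫ Injective.ι (K'.X j)) (Injective.ι (K.X j))
  have hg : ∀ j, Injective.ι (K.X j) ≫ g j = f.f j ≫ Injective.ι (K'.X j) := fun j => Injective.comp_factorThru _ _
  let a : D K ⟶ D K' :=
    { f := fun j => (biprod.map (g j) (g (j + 1)) :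
        Injective.under (K.X j) ⊞ Injective.under (K.X (j + 1)) ⟶
          Injective.under (K'.X j) ⊞ Injective.under (K'.X (j + 1)))
      comm' := fun i j (h : i + 1 = j) => by
        subst h
        show (biprod.map (g i) (g (i + 1)) : (D K).X i ⟶ (D K').X i) ≫
            (discs fun j => Injective.under (K'.X j)).d i (i + 1) =
          (discs fun j => Injective.under (K.X j)).d i (i + 1) ≫
            (biprod.map (g (i + 1)) (g (i + 1 + 1)) : (D K).X (i + 1) ⟶ (D K').X (i + 1))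
        rw [discs_d, discs_d]
        show (biprod.map (g i) (g (i + 1)) :
            Injective.under (K.X i) ⊞ Injective.under (K.X (i + 1)) ⟶ Injective.under (K'.X i) ⊞ Injective.under (K'.X (i + 1))) ≫
            (biprod.snd ≫ biprod.inl : Injective.under (K'.X i) ⊞ Injective.under (K'.X (i + 1)) ⟶
              Injective.under (K'.X (i + 1)) ⊞ Injective.under (K'.X (i + 1 + 1))) =
          (biprod.snd ≫ biprod.inl : Injective.under (K.X i) ⊞ Injective.under (K.X (i + 1)) ⟶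
              Injective.under (K.X (i + 1)) ⊞ Injective.under (K.X (i + 1 + 1))) ≫
            biprod.map (g (i + 1)) (g (i + 1 + 1))
        apply biprod.hom_ext <;> apply biprod.hom_ext' <;> simp }
  have ha : emb K ≫ a = f ≫ emb K' := by
    ext j
    show (biprod.lift (Injective.ι (K.X j)) (K.d j (j + 1) ≫ Injective.ι (K.X (j + 1))) :
        K.X j ⟶ Injective.under (K.X j) ⊞ Injective.under (K.X (j + 1))) ≫ biprod.map (g j) (g (j + 1)) =
      f.f j ≫ (biprod.lift (Injective.ι (K'.X j)) (K'.d j (j + 1) ≫ Injective.ι (K'.X (j + 1))) :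
        K'.X j ⟶ Injective.under (K'.X j) ⊞ Injective.under (K'.X (j + 1)))
    apply biprod.hom_ext <;> simp [hg]
  exact ⟨a, cokernel.map (emb K) (emb K') f a ha, ha, cokernel.π_desc _ _ _⟩

/-- The iterated cokernels. -/
noncomputable def CC : ℕ → CochainComplex A ℤ → CochainComplex A ℤ
  | 0, K => K
  | k + 1, K => CC k (Cok K)

/-- Compatible lifts of a map of components. -/
def Lift : ∀ (k : ℕ) (K : CochainComplex A ℤ) (m : ℤ) (K' : CochainComplex A ℤ) (m' : ℤ),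
    (K.X m ⟶ K'.X m') → ((CC k K).X m ⟶ (CC k K').X m') → Prop
  | 0, _, _, _, _, x, c => c = x
  | k + 1, K, m, K', m', x, c => ∃ (a : (D K).X m ⟶ (D K').X m') (c₁ : (Cok K).X m ⟶ (Cok K').X m'),
      (emb K).f m ≫ a = x ≫ (emb K').f m' ∧ (prj K).f m ≫ c₁ = a ≫ (prj K').f m' ∧
        Lift k (Cok K) m (Cok K') m' c₁ c

lemma lift_d : ∀ (k : ℕ) (K : CochainComplex A ℤ) (m m' : ℤ),
    Lift k K m K m' (K.d m m') ((CC k K).d m m')
  | 0, _, _, _ => rfl
  | k + 1, K, m, m' => ⟨(D K).d m m', (Cok K).d m m', (emb K).comm m m', (prj K).comm m m',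
      lift_d k (Cok K) m m'⟩

section Cocone

variable {D₁ Q₁ D₂ Q₂ : CochainComplex A ℤ} (π : D₁ ⟶ Q₁) (π' : D₂ ⟶ Q₂)

omit [EnoughInjectives A] in
/-- Functoriality of the cocone in both variables. -/
noncomputable def coconeMap2 (a : D₁ ⟶ D₂) (b : Q₁ ⟶ Q₂) (e : π ≫ b = a ≫ π') :
    coconeCx π ⟶ coconeCx π' where
  f n := (biprod.map (a.f n) (b.f (n - 1)) : coconeX D₁ Q₁ n ⟶ coconeX D₂ Q₂ n)
  comm' i j (h : i + 1 = j) := by
    subst h
    rw [coconeCx_d, coconeCx_d]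
    show (biprod.map (a.f i) (b.f (i - 1)) : coconeX D₁ Q₁ i ⟶ coconeX D₂ Q₂ i) ≫ coconeD π' i =
      coconeD π i ≫ (biprod.map (a.f (i + 1)) (b.f (i + 1 - 1)) : coconeX D₁ Q₁ (i + 1) ⟶ coconeX D₂ Q₂ (i + 1))
    have e' : ∀ n, a.f n ≫ π'.f n = π.f n ≫ b.f n := fun n => by
      rw [← HomologicalComplex.comp_f, ← e, HomologicalComplex.comp_f]
    unfold coconeD coconeX
    apply biprod.hom_ext
    · simp
    · apply biprod.hom_ext' <;>
        simp [Preadditive.comp_sub, Preadditive.sub_comp, map_xiso, map_xiso_assoc, e', reassoc_of% e']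

/-- The inclusion of the shifted second variable. -/
noncomputable def incl : (shiftFunctor (CochainComplex A ℤ) (-1 : ℤ)).obj Q₁ ⟶ coconeCx π where
  f m := ((Q₁.XIsoOfEq (show m + (-1 : ℤ) = m - 1 by lia)).hom ≫
    (biprod.inr : Q₁.X (m - 1) ⟶ coconeX D₁ Q₁ m) :)
  comm' i j (h : i + 1 = j) := by
    subst h
    rw [coconeCx_d]
    show ((Q₁.XIsoOfEq (show i + (-1 : ℤ) = i - 1 by lia)).hom ≫
        (biprod.inr : Q₁.X (i - 1) ⟶ coconeX D₁ Q₁ i)) ≫ coconeD π i =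
      ((-1 : ℤ).negOnePow • Q₁.d (i + (-1)) (i + 1 + (-1))) ≫ (Q₁.XIsoOfEq (show i + 1 + (-1 : ℤ) = i + 1 - 1 by lia)).hom ≫
        (biprod.inr : Q₁.X (i + 1 - 1) ⟶ coconeX D₁ Q₁ (i + 1))
    unfold coconeD coconeX
    apply biprod.hom_ext <;> simp [Preadditive.comp_sub]
    all_goals rfl

omit [EnoughInjectives A] in
lemma incl_natural (a : D₁ ⟶ D₂) (b : Q₁ ⟶ Q₂) (e : π ≫ b = a ≫ π') :
    (shiftFunctor (CochainComplex A ℤ) (-1 : ℤ)).map b ≫ incl π' = incl π ≫ coconeMap2 π π' a b e := by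
  ext m
  show b.f (m + (-1)) ≫ (Q₂.XIsoOfEq (show m + (-1 : ℤ) = m - 1 by lia)).hom ≫
      (biprod.inr : Q₂.X (m - 1) ⟶ coconeX D₂ Q₂ m) =
    ((Q₁.XIsoOfEq (show m + (-1 : ℤ) = m - 1 by lia)).hom ≫
      (biprod.inr : Q₁.X (m - 1) ⟶ coconeX D₁ Q₁ m)) ≫ biprod.map (a.f m) (b.f (m - 1))
  rw [map_xiso_assoc, assoc, biprod.inr_map]

/-- The projection to the first variable. -/
noncomputable def fstCx : coconeCx π ⟶ D₁ where
  f n := (biprod.fst : coconeX D₁ Q₁ n ⟶ _)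
  comm' i j (h : i + 1 = j) := by
    subst h
    rw [coconeCx_d]
    exact (biprod.lift_fst _ _).symm

omit [EnoughInjectives A] in
lemma toCocone_coconeMap2 {M M' : CochainComplex A ℤ} (ι : M ⟶ D₁) (ι' : M' ⟶ D₂) (w : ι ≫ π = 0)
    (w' : ι' ≫ π' = 0) (f : M ⟶ M') (a : D₁ ⟶ D₂) (b : Q₁ ⟶ Q₂) (e : π ≫ b = a ≫ π')
    (e' : ι ≫ a = f ≫ ι') :
    toCocone ι π w ≫ coconeMap2 π π' a b e = f ≫ toCocone ι' π' w' := by
  ext n
  have e'' : ι.f n ≫ a.f n = f.f n ≫ ι'.f n := by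
    rw [← HomologicalComplex.comp_f, e', HomologicalComplex.comp_f]
  show (biprod.lift (ι.f n) 0 : M.X n ⟶ coconeX D₁ Q₁ n) ≫ biprod.map (a.f n) (b.f (n - 1)) =
    f.f n ≫ (biprod.lift (ι'.f n) 0 : M'.X n ⟶ coconeX D₂ Q₂ n)
  apply biprod.hom_ext <;> simp [e'']

end Cocone

/-- The resolution by cocones. -/
noncomputable def LLp : ℕ → ∀ K : CochainComplex A ℤ, Σ L : CochainComplex A ℤ, K ⟶ L
  | 0, K => ⟨K, 𝟙 K⟩
  | k + 1, K => ⟨coconeCx (prj K ≫ (LLp k (Cok K)).2),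
      toCocone (emb K) (prj K ≫ (LLp k (Cok K)).2) (by rw [← assoc, emb_prj, zero_comp])⟩

/-- The resolution. -/
noncomputable abbrev LL (k : ℕ) (K : CochainComplex A ℤ) : CochainComplex A ℤ := (LLp k K).1

/-- The augmentation. -/
noncomputable abbrev ιL (k : ℕ) (K : CochainComplex A ℤ) : K ⟶ LL k K := (LLp k K).2

lemma ιL_spec : ∀ (k : ℕ) (K : CochainComplex A ℤ),
    (∀ j, Mono ((ιL k K).f j)) ∧ QuasiIso (ιL k K)
  | 0, K => ⟨fun j => inferInstanceAs (Mono (𝟙 (K.X j))), inferInstanceAs (QuasiIso (𝟙 K))⟩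
  | k + 1, K => by
    obtain ⟨hm, hq⟩ := ιL_spec k (Cok K)
    have h₁ := quasiIso_toCocone (emb K) (prj K) (emb_prj K) (exact_f K)
    have h₂ := quasiIso_coconeMap (prj K) (ιL k (Cok K))
    have e : ιL (k + 1) K = toCocone (emb K) (prj K) (emb_prj K) ≫ coconeMap (prj K) (ιL k (Cok K)) := by
      ext n
      show (biprod.lift ((emb K).f n) 0 : K.X n ⟶ coconeX (D K) (LL k (Cok K)) n) =
        (biprod.lift ((emb K).f n) 0 : K.X n ⟶ coconeX (D K) (Cok K) n) ≫
          biprod.map (𝟙 ((D K).X n)) ((ιL k (Cok K)).f (n - 1))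
      apply biprod.hom_ext <;> simp
    exact ⟨fun j => mono_of_mono_fac (biprod.lift_fst ((emb K).f j) 0), by rw [e]; exact _root_.quasiIso_comp (hφ := h₁) (hφ' := h₂) _ _⟩

/-- The comparison with the last cokernel. -/
noncomputable def J : ∀ (k : ℕ) (K : CochainComplex A ℤ),
    (shiftFunctor (CochainComplex A ℤ) (-(k : ℤ))).obj (CC k K) ⟶ LL k K
  | 0, K => (shiftFunctorZero' (CochainComplex A ℤ) (-((0 : ℕ) : ℤ)) (by simp)).hom.app K
  | k + 1, K =>
    (shiftFunctorAdd' (CochainComplex A ℤ) (-(k : ℤ)) (-1) (-((k + 1 : ℕ) : ℤ))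
        (by omega)).hom.app (CC k (Cok K)) ≫
      (shiftFunctor (CochainComplex A ℤ) (-1 : ℤ)).map (J k (Cok K)) ≫
      incl (prj K ≫ ιL k (Cok K))

lemma exists_lifts : ∀ (k : ℕ) {K K' : CochainComplex A ℤ} (f : K ⟶ K'),
    ∃ (c : CC k K ⟶ CC k K') (l : LL k K ⟶ LL k K'), ιL k K ≫ l = f ≫ ιL k K' ∧
      (shiftFunctor (CochainComplex A ℤ) (-(k : ℤ))).map c ≫ J k K' = J k K ≫ l ∧
      ∀ m, Lift k K m K' m (f.f m) (c.f m)
  | 0, K, K', f => ⟨f, f, (id_comp f).trans (comp_id f).symm, NatTrans.naturality _ f, fun _ => rfl⟩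
  | k + 1, K, K', f => by
    obtain ⟨a, c₁, ha, hc₁⟩ := exists_lift f
    obtain ⟨c, l, hl, hJ, hLift⟩ := exists_lifts k c₁
    have e : (prj K ≫ ιL k (Cok K)) ≫ l = a ≫ prj K' ≫ ιL k (Cok K') := by
      rw [assoc, hl, reassoc_of% hc₁]
    refine ⟨c, coconeMap2 _ _ a l e, toCocone_coconeMap2 _ _ (emb K) (emb K') (by rw [← assoc, emb_prj, zero_comp])
      (by rw [← assoc, emb_prj, zero_comp]) f a l e ha, ?_, fun m =>
      ⟨a.f m, c₁.f m, HomologicalComplex.congr_hom ha m, HomologicalComplex.congr_hom hc₁ m, hLift m⟩⟩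
    have h0 := (shiftFunctorAdd' (CochainComplex A ℤ) (-(k : ℤ)) (-1) (-((k + 1 : ℕ) : ℤ))
        (by omega)).hom.naturality c
    show (shiftFunctor (CochainComplex A ℤ) (-((k + 1 : ℕ) : ℤ))).map c ≫ _ ≫ _ ≫ _ = (_ ≫ _ ≫ _) ≫ _
    exact paste3 h0 (((shiftFunctor (CochainComplex A ℤ) (-1 : ℤ)).map_comp _ _).symm.trans
      ((congrArg (shiftFunctor (CochainComplex A ℤ) (-1 : ℤ)).map hJ).trans
        ((shiftFunctor (CochainComplex A ℤ) (-1 : ℤ)).map_comp _ _))) (incl_natural _ _ a l e)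
where
  paste3 {E : Type (max u v)} [Category.{v} E] {a₀ a₁ b₀ b₁ c₀ c₁ d₀ d₁ : E} {p : a₀ ⟶ a₁}
      {q : b₀ ⟶ b₁} {r : c₀ ⟶ c₁} {t : d₀ ⟶ d₁} {x : a₀ ⟶ b₀} {x' : a₁ ⟶ b₁} {y : b₀ ⟶ c₀}
      {y' : b₁ ⟶ c₁} {z : c₀ ⟶ d₀} {z' : c₁ ⟶ d₁}
      (h₁ : p ≫ x' = x ≫ q) (h₂ : q ≫ y' = y ≫ r) (h₃ : r ≫ z' = z ≫ t) :
      p ≫ x' ≫ y' ≫ z' = (x ≫ y ≫ z) ≫ t := by
    rw [reassoc_of% h₁, reassoc_of% h₂, h₃, assoc, assoc]

end Groth.Agent.H9Misc.Tower
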