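import Groth.Agent.QCoh.FlatFibre
import Groth.Agent.QCoh.LocalExchange
import Groth.Agent.FlatCxLib.BoundedFlat
import Mathlib.RingTheory.Flat.Localization
import Mathlib.RingTheory.LocalProperties.Submodule
import Mathlib.Algebra.Homology.Embedding.CochainComplex

/-! Trimming a complex computing the cohomology to the amplitude of the vanishing. -/

set_option autoImplicit false
set_option linter.style.haveILetI false
set_option linter.unusedSectionVars false
set_option backward.isDefEq.respectTransparency false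
set_option backward.isDefEq.respectTransparency.types false

universe u

open CategoryTheory CategoryTheory.Limits MonoidalCategory
open scoped TensorProduct

noncomputable section

namespace Groth.Agent.H9Misc.TrimModel

open Groth.Agent

variable {A : Type u} [CommRing A]

section Chain

variable {P : ChainComplex (ModuleCat.{u} A) ℤ}

theorem nonempty_coker_bc_aux {B : Type u} [CommRing B] (φ : A →+* B) (p q : ℤ) (inst : Algebra A B)
    (hinst : inst = φ.toAlgebra) :
    letI := inst
    Nonempty (FlatCxLib.Coker (CohIII.bcCx φ P) p q ≃ₗ[B] B ⊗[A] FlatCxLib.Coker P p q) := by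
  subst hinst
  letI := φ.toAlgebra
  let f : B ⊗[A] P.X p →ₗ[B] B ⊗[A] P.X q := (P.d p q).hom.baseChange B
  let g : B ⊗[A] P.X q →ₗ[B] B ⊗[A] FlatCxLib.Coker P p q := (LinearMap.range (P.d p q).hom).mkQ.baseChange B
  have hg : Function.Surjective g := LinearMap.lTensor_surjective _ (Submodule.mkQ_surjective _)
  have hex : LinearMap.ker g = LinearMap.range f := LinearMap.exact_iff.1
    (lTensor_exact B (P.d p q).hom.exact_map_mkQ_range (Submodule.mkQ_surjective _))
  exact ⟨(Submodule.quotEquivOfEq (LinearMap.range f) _ hex.symm).trans (g.quotKerEquivOfSurjective hg)⟩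

/-- The cokernel of a localised complex. -/
theorem nonempty_coker_locCx (x : PrimeSpectrum A) (p q : ℤ) :
    Nonempty (FlatCxLib.Coker (QCoh.locCx P x) p q ≃ₗ[Localization.AtPrime x.asIdeal]
      Localization.AtPrime x.asIdeal ⊗[A] FlatCxLib.Coker P p q) :=
  nonempty_coker_bc_aux (algebraMap A _) p q _ (Algebra.algebra_ext _ _ fun _ => rfl)

/-- Vanishing at every residue field gives vanishing and a flat cokernel. -/
theorem isZero_T_of_dRank [IsNoetherianRing A] (hfl : ∀ i, Module.Flat A (P.X i))
    (hfin : ∀ i, Module.Finite A (P.X i)) {q : ℤ} (h : ∀ x, CohIII.dRank P q x = 0)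
    (M : ModuleCat.{u} A) : IsZero (CohIII.T P q M) := by
  have hl : ∀ x : PrimeSpectrum A, (CohIII.TFun (QCoh.locCx P x) q).PreservesEpimorphisms ∧
      IsZero ((QCoh.locCx P x).homology q) := fun x => by
    haveI : IsNoetherianRing (Localization.AtPrime x.asIdeal) :=
      IsLocalization.isNoetherianRing x.asIdeal.primeCompl _ inferInstance
    obtain ⟨h1, -, h3⟩ := QCoh.epi_and_isZero_of_dRank (FlatCxLib.flat_bcCx_X P hfl)
      (QCoh.finite_bcCx_X_aux P _ hfin) ((QCoh.dRank_locCx_closedPoint P x q).trans (h x))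
    exact ⟨h1, h3⟩
  have hr : q - 1 + 1 = q := by omega
  haveI : Module.Flat A (FlatCxLib.Coker P q (q - 1)) := by
    refine Module.flat_of_localized_maximal (R := A) (M := FlatCxLib.Coker P q (q - 1)) (h := fun m hm => ?_)
    let x : PrimeSpectrum A := ⟨m, hm.isPrime⟩
    let B := Localization.AtPrime m
    obtain ⟨e⟩ := nonempty_coker_locCx (P := P) x q (q - 1)
    haveI := (FlatCxLib.preservesEpi_iff (FlatCxLib.flat_bcCx_X P hfl) hr).1 (hl x).1
    haveI : Module.Flat B (B ⊗[A] FlatCxLib.Coker P q (q - 1)) := Module.Flat.of_linearEquiv e.symm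
    haveI : Module.Flat A B := IsLocalization.flat B m.primeCompl
    haveI : Module.Flat A (B ⊗[A] FlatCxLib.Coker P q (q - 1)) := Module.Flat.trans A B _
    exact Module.Flat.of_linearEquiv
      ((LocalizedModule.equivTensorProduct m.primeCompl _).restrictScalars A)
  haveI : Subsingleton (P.homology q) := by
    refine Module.subsingleton_of_localization_maximal (fun (m : Ideal A) (_ : m.IsMaximal) => LocalizedModule m.primeCompl (P.homology q))
      (fun (m : Ideal A) (_ : m.IsMaximal) => LocalizedModule.mkLinearMap m.primeCompl (P.homology q)) fun m hm => ?_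
    obtain ⟨e⟩ := QCoh.nonempty_homology_locCx P ⟨m, hm.isPrime⟩ q
    haveI := ModuleCat.subsingleton_of_isZero (hl ⟨m, hm.isPrime⟩).2
    haveI := e.symm.toEquiv.subsingleton
    exact (LocalizedModule.equivTensorProduct m.primeCompl _).toEquiv.subsingleton
  let H := FlatCxLib.Hom' P (q + 1) q (q - 1)
  haveI : Subsingleton H := (FlatCxLib.hom'Equiv (P := P) (show q + 1 = q + 1 from rfl) hr).toEquiv.subsingleton
  haveI : Subsingleton (H ⊗[A] M) := by
    refine subsingleton_of_forall_eq 0 fun t => ?_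
    induction t using TensorProduct.induction_on with
    | zero => rfl
    | tmul h m => rw [Subsingleton.elim h 0, TensorProduct.zero_tmul]
    | add a b ha hb => rw [ha, hb, add_zero]
  exact ModuleCat.isZero_iff_subsingleton.2
    (FlatCxLib.hom'TensorEquiv (P := P) hfl (show q + 1 = q + 1 from rfl) hr M).symm.toEquiv.subsingleton

end Chain

section Cochain

variable [IsNoetherianRing A] {L : CochainComplex (ModuleCat.{u} A) ℤ}

theorem projective_of_flat (M : Type u) [AddCommGroup M] [Module A M] [Module.Finite A M] [Module.Flat A M] :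
    Module.Projective A M :=
  haveI := Module.finitePresentation_of_finite A M
  Module.Flat.projective_of_finitePresentation

/-- The cokernel before a degree with vanishing is flat. -/
theorem flat_coker_of_isZero (hfl : ∀ i, Module.Flat A (L.X i)) {i j : ℤ} (hij : i + 1 = j)
    (h : ∀ M, IsZero (CohIII.T L i M)) : Module.Flat A (L.X j ⧸ LinearMap.range (L.d i j).hom) := by
  let P := QCoh.revCx L
  have hz : ∀ M, IsZero ((CohIII.TFun P (-i)).obj M) := fun M => by
    obtain ⟨e⟩ := QCoh.nonempty_tfun_revCx L (-i)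
    refine IsZero.of_iso ?_ (e.app M)
    rw [neg_neg]
    exact h M
  have h1 : Module.Flat A (FlatCxLib.Coker P (-i) (-j)) :=
    (FlatCxLib.preservesEpi_iff (P := P) (fun k => hfl (-k)) (show -j + 1 = -i by omega)).1
      (QCoh.isExactT_of_isZero hz).2
  have key : ∀ i' j', i' = i → j' = j → Module.Flat A (L.X j' ⧸ LinearMap.range (L.d i' j').hom) →
      Module.Flat A (L.X j ⧸ LinearMap.range (L.d i j).hom) := by rintro _ _ rfl rfl h; exact h
  exact key _ _ (neg_neg i) (neg_neg j) h1

theorem projective_opcycles (hfin : ∀ i, Module.Finite A (L.X i)) (hfl : ∀ i, Module.Flat A (L.X i)) {i j : ℤ}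
    (hij : i + 1 = j) (h : ∀ M, IsZero (CohIII.T L i M)) :
    Module.Finite A (L.opcycles j) ∧ Module.Projective A (L.opcycles j) := by
  let e : (L.X j ⧸ LinearMap.range (L.d i j).hom) ≃ₗ[A] L.opcycles j :=
    ((ModuleCat.cokernelIsoRangeQuotient (L.d i j)).symm ≪≫
      (cokernelIsCokernel (L.d i j)).coconePointUniqueUpToIso
        (L.opcyclesIsCokernel i j (CochainComplex.prev _ _ |>.trans (by omega)))).toLinearEquiv
  haveI := hfin j
  haveI := flat_coker_of_isZero hfl hij h
  haveI := projective_of_flat (A := A) (L.X j ⧸ LinearMap.range (L.d i j).hom)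
  exact ⟨Module.Finite.equiv e, Module.Projective.of_equiv e⟩

theorem projective_cycles (hfin : ∀ i, Module.Finite A (L.X i)) (hfl : ∀ i, Module.Flat A (L.X i)) {c : ℤ}
    (hc : ∀ i, c < i → IsZero (L.X i)) (b : ℤ) (hac : ∀ i, b < i → L.ExactAt i) :
    Module.Finite A (L.cycles b) ∧ Module.Projective A (L.cycles b) := by
  let e : LinearMap.ker (L.d b (b + 1)).hom ≃ₗ[A] L.cycles b :=
    ((ModuleCat.kernelIsLimit (L.d b (b + 1))).conePointUniqueUpToIso
      (L.cyclesIsKernel b (b + 1) (CochainComplex.next _ _))).toLinearEquiv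
  haveI := hfin b
  haveI : IsNoetherian A (L.X b) := inferInstance
  haveI := FlatCxLib.flat_ker_of_boundedAbove L hfl hc b hac b le_rfl
  haveI := projective_of_flat (A := A) (LinearMap.ker (L.d b (b + 1)).hom)
  exact ⟨Module.Finite.equiv e, Module.Projective.of_equiv e⟩

theorem nonempty_T_iso {K : CochainComplex (ModuleCat.{u} A) ℤ} (hL : ∀ i, Module.Flat A (L.X i))
    (hK : ∀ i, Module.Flat A (K.X i)) {c : ℤ} (cL : ∀ i, c < i → IsZero (L.X i)) {c' : ℤ}
    (cK : ∀ i, c' < i → IsZero (K.X i)) (φ : L ⟶ K) [QuasiIso φ] (M : ModuleCat.{u} A) (i : ℤ) :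
    Nonempty (CohIII.T L i M ≅ CohIII.T K i M) := by
  have hq := FlatCxLib.quasiIso_tensorRight L K hL hK cL cK φ M
  exact ⟨@asIso _ _ _ _ (HomologicalComplex.homologyMap
    (((tensorRight M).mapHomologicalComplex (ComplexShape.up ℤ)).map φ) i)
    ((quasiIsoAt_iff_isIso_homologyMap _ _).1 (hq.quasiIsoAt i))⟩

theorem exactAt_of_isZero_T {i : ℤ} (h : ∀ M, IsZero (CohIII.T L i M)) : L.ExactAt i :=
  (HomologicalComplex.exactAt_iff_isZero_homology _ _).2
    ((h (ModuleCat.of A A)).of_iso ((HomologicalComplex.homologyFunctor _ _ i).mapIso (QCoh.tensorSelfIso L)).symm)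

/-- A complex with no homology outside `[a, b]` after every tensoring can be trimmed to `[a, b]`. -/
theorem exists_trim (hfin : ∀ i, Module.Finite A (L.X i)) (hfl : ∀ i, Module.Flat A (L.X i)) {c : ℤ}
    (hc : ∀ i, c < i → IsZero (L.X i)) (a b : ℤ) (hab : a ≤ b)
    (hT : ∀ i, i < a → ∀ M, IsZero (CohIII.T L i M)) (hac : ∀ i, b < i → L.ExactAt i) :
    ∃ K : CochainComplex (ModuleCat.{u} A) ℤ, (∀ i, Module.Finite A (K.X i) ∧ Module.Projective A (K.X i)) ∧
      (∀ i, i < a ∨ b < i → IsZero (K.X i)) ∧ ∀ i M, Nonempty (CohIII.T L i M ≅ CohIII.T K i M) := by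
  haveI : L.IsLE b := (CochainComplex.isLE_iff L b).2 fun i hi => hac i hi
  let L₁ := L.truncLE b
  have h₁ : ∀ i, Module.Finite A (L₁.X i) ∧ Module.Flat A (L₁.X i) := fun i => by
    rcases lt_trichotomy i b with h | rfl | h
    · haveI := hfin i; haveI := hfl i
      exact ⟨Module.Finite.equiv (L.truncLEXIso b i h).toLinearEquiv.symm,
        Module.Flat.of_linearEquiv (L.truncLEXIso b i h).toLinearEquiv⟩
    · obtain ⟨_, _⟩ := projective_cycles hfin hfl hc i hac
      exact ⟨Module.Finite.equiv (L.truncLEXIsoCycles i).toLinearEquiv.symm,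
        Module.Flat.of_linearEquiv (L.truncLEXIsoCycles i).toLinearEquiv⟩
    · haveI := ModuleCat.subsingleton_of_isZero (CochainComplex.isZero_of_isStrictlyLE L₁ b i h)
      exact ⟨inferInstance, inferInstance⟩
  have hc₁ : ∀ i, b < i → IsZero (L₁.X i) := fun i hi => CochainComplex.isZero_of_isStrictlyLE L₁ b i hi
  haveI : QuasiIso (L.ιTruncLE b) := (L.quasiIso_ιTruncLE_iff b).2 inferInstance
  have he₁ : ∀ i M, Nonempty (CohIII.T L₁ i M ≅ CohIII.T L i M) := fun i M =>
    nonempty_T_iso (fun k => (h₁ k).2) hfl hc₁ hc (L.ιTruncLE b) M i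
  have hT₁ : ∀ i, i < a → ∀ M, IsZero (CohIII.T L₁ i M) := fun i hi M =>
    (hT i hi M).of_iso (he₁ i M).some
  haveI : L₁.IsGE a := (CochainComplex.isGE_iff L₁ a).2 fun i hi => exactAt_of_isZero_T (hT₁ i hi)
  let K := L₁.truncGE a
  have hK : ∀ i, Module.Finite A (K.X i) ∧ Module.Projective A (K.X i) := fun i => by
    rcases lt_trichotomy a i with h | rfl | h
    · haveI := (h₁ i).1; haveI := (h₁ i).2
      haveI := projective_of_flat (A := A) (L₁.X i)
      exact ⟨Module.Finite.equiv (L₁.truncGEXIso a i h).toLinearEquiv.symm,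
        Module.Projective.of_equiv (L₁.truncGEXIso a i h).toLinearEquiv.symm⟩
    · obtain ⟨_, _⟩ := projective_opcycles (fun k => (h₁ k).1) (fun k => (h₁ k).2)
        (show a - 1 + 1 = a by omega) (hT₁ _ (by omega))
      exact ⟨Module.Finite.equiv (L₁.truncGEXIsoOpcycles a).toLinearEquiv.symm,
        Module.Projective.of_equiv (L₁.truncGEXIsoOpcycles a).toLinearEquiv.symm⟩
    · haveI := ModuleCat.subsingleton_of_isZero (CochainComplex.isZero_of_isStrictlyGE K a i h)
      exact ⟨inferInstance, inferInstance⟩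
  have hz : ∀ i, i < a ∨ b < i → IsZero (K.X i) := by
    rintro i (hi | hi)
    · exact CochainComplex.isZero_of_isStrictlyGE K a i hi
    · exact (hc₁ i hi).of_iso (L₁.truncGEXIso a i (lt_of_le_of_lt hab hi))
  refine ⟨K, hK, hz, fun i M => ?_⟩
  obtain ⟨e⟩ := nonempty_T_iso (fun k => (h₁ k).2) (fun k => haveI := (hK k).2; inferInstance) hc₁
    (fun k hk => hz k (Or.inr hk)) (L₁.πTruncGE a) M i
  exact ⟨(he₁ i M).some.symm ≪≫ e⟩

/-- A complex with no homology after every tensoring can be trimmed to zero. -/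
theorem isZero_T_of_exact (hfl : ∀ i, Module.Flat A (L.X i)) {c : ℤ} (hc : ∀ i, c < i → IsZero (L.X i))
    (hac : ∀ i, L.ExactAt i) (i : ℤ) (M : ModuleCat.{u} A) : IsZero (CohIII.T L i M) :=
  (HomologicalComplex.exactAt_iff_isZero_homology _ _).1
    (FlatCxLib.exactAt_tensorRight_of_acyclic L hfl hc hac M i)

end Cochain

end Groth.Agent.H9Misc.TrimModel
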