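import Groth.Agent.H9Misc.TrimModel

/-! A bounded complex of finite projective modules computing cohomology after base change, with sharp amplitude. -/

set_option autoImplicit false
set_option linter.style.haveILetI false
set_option linter.unusedSectionVars false
set_option backward.isDefEq.respectTransparency false
set_option backward.isDefEq.respectTransparency.types false

universe u

open CategoryTheory CategoryTheory.Limits AlgebraicGeometry MonoidalCategory

noncomputable section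

namespace Groth.Agent.H9Misc.TrimModel

open Groth.Agent

variable {A : Type u} [CommRing A] [IsNoetherianRing A] {X : Scheme.{u}} [X.Over (Spec (CommRingCat.of A))]
  [IsProper (X ↘ Spec (CommRingCat.of A))] {F : X.Modules}

theorem isBCModel_rev (hF : Coh.IsCoh F) {L : CochainComplex (ModuleCat.{u} A) ℤ}
    (h1 : ∀ i, Module.Finite A (L.X i) ∧ Module.Free A (L.X i)) (h2 : ∃ c : ℤ, ∀ i, c < i → IsZero (L.X i))
    (h3 : ∀ p : ℕ, Nonempty (CohIII.TFun L (p : ℤ) ⋙ forget₂ (ModuleCat.{u} A) AddCommGrpCat.{u} ≅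
      CohIII.tensorAFunctor A F ⋙ CohIII.HAb X p))
    (h4 : ∀ i : ℤ, i < 0 → ∀ M : ModuleCat.{u} A, IsZero (CohIII.T L i M)) :
    QCoh.IsBCModel F (QCoh.revCx L) := by
  haveI : CompactSpace X := QuasiCompact.compactSpace_of_compactSpace (X ↘ Spec (CommRingCat.of A))
  haveI : X.IsSeparated := ⟨by
    rw [← Limits.terminal.comp_from (X ↘ Spec (CommRingCat.of A))]
    infer_instance⟩
  obtain ⟨c, hc⟩ := h2
  have hP : ∀ p : ℕ, Nonempty (CohIII.TFun (QCoh.revCx L) (-(p : ℤ)) ⋙ forget₂ (ModuleCat.{u} A) AddCommGrpCat.{u} ≅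
      CohIII.tensorAFunctor A F ⋙ CohIII.HAb X p) := fun p => by
    obtain ⟨e⟩ := h3 p
    obtain ⟨r⟩ := QCoh.nonempty_tfun_revCx L (-(p : ℤ))
    exact ⟨Functor.isoWhiskerRight (r ≪≫ eqToIso (by rw [neg_neg])) _ ≪≫ e⟩
  refine ⟨fun i => (h1 _).1, fun i => (h1 _).2, ⟨-c, fun i hi => hc _ (by omega)⟩, fun q hq M => ?_, hP,
    fun B _ φ X' g pB h p => ?_⟩
  · obtain ⟨r⟩ := QCoh.nonempty_tfun_revCx L q
    exact (h4 (-q) (by omega) M).of_iso (r.app M)
  · letI : X'.Over (Spec (CommRingCat.of B)) := ⟨pB⟩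
    exact QCoh.bcCx_isBCModel_aux hF.1 _ hP φ g h p

theorem nonempty_T_neg (L : CochainComplex (ModuleCat.{u} A) ℤ) (i : ℤ) (M : ModuleCat.{u} A) :
    Nonempty (CohIII.T (QCoh.revCx L) (-i) M ≅ CohIII.T L i M) := by
  obtain ⟨r⟩ := QCoh.nonempty_tfun_revCx L (-i)
  exact ⟨r.app M ≪≫ eqToIso (by rw [neg_neg]; rfl)⟩

/-- Base change of the cohomology through the model. -/
theorem nonempty_HH_T {L : CochainComplex (ModuleCat.{u} A) ℤ} (hP : QCoh.IsBCModel F (QCoh.revCx L))
    (B : Type u) [CommRing B] [Algebra A B] {X' : Scheme.{u}} (g : X' ⟶ X) (pB : X' ⟶ Spec (CommRingCat.of B))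
    (h : IsPullback g pB (X ↘ Spec (CommRingCat.of A)) (Spec.map (CommRingCat.ofHom (algebraMap A B)))) (p : ℕ) :
    Nonempty (Coh.HH X' ((Scheme.Modules.pullback g).obj F) p ≃+ CohIII.T L (p : ℤ) (ModuleCat.of A B)) := by
  obtain ⟨e⟩ := hP.2.2.2.2.2 B (algebraMap A B) X' g pB h p
  obtain ⟨b⟩ := QCoh.nonempty_bcT_iso (QCoh.revCx L) (algebraMap A B) (-(p : ℤ))
  obtain ⟨n⟩ := nonempty_T_neg L (p : ℤ) (ModuleCat.of A B)
  let r₀ : (ModuleCat.restrictScalars (algebraMap A B)).obj (ModuleCat.of B B) ≃ₗ[A] ModuleCat.of A B :=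
    { toFun := fun x => (show B from x)
      invFun := fun x => (show B from x)
      map_add' := fun _ _ => rfl
      map_smul' := fun a x => (Algebra.smul_def a (show B from x)).symm
      left_inv := fun _ => rfl
      right_inv := fun _ => rfl }
  let r : (ModuleCat.restrictScalars (algebraMap A B)).obj (ModuleCat.of B B) ≅ ModuleCat.of A B :=
    r₀.toModuleIso
  letI := QCoh.modHH (Coh.toGlobal pB) ((Scheme.Modules.pullback g).obj F) p
  exact ⟨(e.toAddEquiv.trans ((HomologicalComplex.homologyFunctor _ _ (-(p : ℤ))).mapIso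
      (QCoh.tensorSelfIso _).symm).toLinearEquiv.toAddEquiv).trans
    ((b.app (ModuleCat.of B B)).addCommGroupIsoToAddEquiv.trans
      (((CohIII.TFun (QCoh.revCx L) (-(p : ℤ))).mapIso r).toLinearEquiv.toAddEquiv.trans n.toLinearEquiv.toAddEquiv))⟩

theorem nonempty_HH_T_self {L : CochainComplex (ModuleCat.{u} A) ℤ} (hP : QCoh.IsBCModel F (QCoh.revCx L)) (p : ℕ) :
    Nonempty (Coh.HH X F p ≃+ CohIII.T L (p : ℤ) (ModuleCat.of A A)) := by
  have hid : Spec.map (CommRingCat.ofHom (algebraMap A A)) = 𝟙 (Spec (CommRingCat.of A)) := Spec.map_id _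
  have h : IsPullback (𝟙 X) (X ↘ Spec (CommRingCat.of A)) (X ↘ Spec (CommRingCat.of A))
      (Spec.map (CommRingCat.ofHom (algebraMap A A))) := by
    rw [hid]
    exact IsPullback.of_horiz_isIso ⟨by simp⟩
  obtain ⟨e⟩ := nonempty_HH_T hP A (𝟙 X) (X ↘ Spec (CommRingCat.of A)) h p
  exact ⟨(((CohIII.HAb X p).mapIso ((Scheme.Modules.pullbackId X).app F)).addCommGroupIsoToAddEquiv).symm.trans e⟩

theorem main (hF : Coh.IsCoh F) (hfl : FlatMod.IsFlatOver (X ↘ Spec (CommRingCat.of A)) F) (d' d : ℕ)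
    (hd : ∀ p : ℕ, d < p → Subsingleton (Coh.HH X F p))
    (hd' : ∀ (y : ↑(Spec (CommRingCat.of A))) (p : ℕ), p < d' →
      Subsingleton (CohIII.fiberH (X ↘ Spec (CommRingCat.of A)) F y p)) :
    ∃ L : CochainComplex (ModuleCat.{u} A) ℤ,
      (∀ i, Module.Finite A (L.X i) ∧ Module.Projective A (L.X i)) ∧
      (∀ i : ℤ, i < (d' : ℤ) ∨ (d : ℤ) < i → IsZero (L.X i)) ∧
      ((∀ p : ℕ, Subsingleton (Coh.HH X F p)) → ∀ i, IsZero (L.X i)) ∧
      ∀ (B : Type u) [CommRing B] [Algebra A B] (p : ℕ),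
        Nonempty (Coh.HH (pullback (X ↘ Spec (CommRingCat.of A)) (Spec.map (CommRingCat.ofHom (algebraMap A B))))
            ((Scheme.Modules.pullback (pullback.fst (X ↘ Spec (CommRingCat.of A))
              (Spec.map (CommRingCat.ofHom (algebraMap A B))))).obj F) p ≃+
          CohIII.T L (p : ℤ) (ModuleCat.of A B)) := by
  obtain ⟨L, h1, ⟨c, hc⟩, h3, h4⟩ := QCoh.exists_finiteFree_model F hF hfl
  have hP := isBCModel_rev hF h1 ⟨c, hc⟩ h3 h4
  have hflat : ∀ i, Module.Flat A (L.X i) := fun i => haveI := (h1 i).2; inferInstance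
  have hlow : ∀ i : ℤ, i < d' → ∀ M, IsZero (CohIII.T L i M) := fun i hi M => by
    rcases lt_or_ge i 0 with h | h
    · exact h4 i h M
    obtain ⟨p, rfl⟩ := Int.eq_ofNat_of_zero_le h
    exact (isZero_T_of_dRank (P := QCoh.revCx L) (fun k => hflat (-k)) (fun k => (h1 (-k)).1)
      (q := -(p : ℤ)) (fun x => (QCoh.subsingleton_fibreH_iff hP x p).1 (hd' x p (by omega))) M).of_iso
        (nonempty_T_neg L (p : ℤ) M).some.symm
  have hac : ∀ p : ℕ, Subsingleton (Coh.HH X F p) → L.ExactAt (p : ℤ) := fun p hp => by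
    obtain ⟨e⟩ := nonempty_HH_T_self hP p
    haveI : Subsingleton (CohIII.T L (p : ℤ) (ModuleCat.of A A)) := e.symm.toEquiv.subsingleton
    exact (HomologicalComplex.exactAt_iff_isZero_homology _ _).2
      ((ModuleCat.isZero_of_subsingleton (CohIII.T L (p : ℤ) (ModuleCat.of A A))).of_iso
        ((HomologicalComplex.homologyFunctor _ _ (p : ℤ)).mapIso (QCoh.tensorSelfIso L)).symm)
  by_cases hall : ∀ p : ℕ, Subsingleton (Coh.HH X F p)
  · let O : CochainComplex (ModuleCat.{u} A) ℤ := HomologicalComplex.zero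
    have hO : ∀ i, IsZero (O.X i) := fun i =>
      (HomologicalComplex.eval (ModuleCat.{u} A) (ComplexShape.up ℤ) i).map_isZero HomologicalComplex.isZero_zero
    refine ⟨O, fun i => ?_, fun i _ => hO i, fun _ => hO, fun B _ _ p => ?_⟩
    · haveI := ModuleCat.subsingleton_of_isZero (hO i)
      exact ⟨inferInstance, inferInstance⟩
    have hex : ∀ i, L.ExactAt i := fun i => by
      rcases lt_or_ge i 0 with h | h
      · exact exactAt_of_isZero_T (h4 i h)
      · obtain ⟨q, rfl⟩ := Int.eq_ofNat_of_zero_le h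
        exact hac q (hall q)
    obtain ⟨e⟩ := nonempty_HH_T hP B _ _ (IsPullback.of_hasPullback _ _) p
    have hz : IsZero (CohIII.T O (p : ℤ) (ModuleCat.of A B)) :=
      (HomologicalComplex.exactAt_iff_isZero_homology _ _).1
        (HomologicalComplex.ExactAt.of_isZero ((tensorRight (ModuleCat.of A B)).map_isZero (hO _)))
    exact ⟨e.trans ((isZero_T_of_exact hflat hc hex (p : ℤ) (ModuleCat.of A B)).iso hz).toLinearEquiv.toAddEquiv⟩
  have hle : (d' : ℤ) ≤ d := by
    by_contra hlt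
    refine hall fun p => ?_
    by_cases hp : d < p
    · exact hd p hp
    obtain ⟨e⟩ := nonempty_HH_T_self hP p
    haveI := ModuleCat.subsingleton_of_isZero (hlow (p : ℤ) (by omega) (ModuleCat.of A A))
    exact e.toEquiv.subsingleton
  obtain ⟨K, hK, hz, he⟩ := exists_trim (fun i => (h1 i).1) hflat hc _ _ hle hlow fun i hi => by
    obtain ⟨p, rfl⟩ := Int.eq_ofNat_of_zero_le (show 0 ≤ i by omega)
    exact hac p (hd p (by omega))
  refine ⟨K, hK, hz, fun h => absurd h hall, fun B _ _ p => ?_⟩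
  obtain ⟨e⟩ := nonempty_HH_T hP B _ _ (IsPullback.of_hasPullback _ _) p
  exact ⟨e.trans (he (p : ℤ) (ModuleCat.of A B)).some.toLinearEquiv.toAddEquiv⟩

end Groth.Agent.H9Misc.TrimModel
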