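import Groth.Agent.KExact.AmpleTwist
import Groth.Agent.KExact.HomFinite
import Groth.Agent.Synt29.NullCorr

/-! Twisting by an invertible module is a linear autoequivalence of `D(X)`. -/

set_option autoImplicit false
set_option linter.style.haveILetI false
set_option backward.isDefEq.respectTransparency false
set_option backward.isDefEq.respectTransparency.types false

universe u

open CategoryTheory CategoryTheory.Limits AlgebraicGeometry Pretriangulated

attribute [local instance] HasDerivedCategory.standard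

noncomputable section

namespace Groth.Agent.H9Misc.TwistFF

open Groth.Agent KFlatLib

variable {k : Type u} [Field k] {X : Scheme.{u}} [X.Over (Spec (CommRingCat.of k))]

/-- Twisting preserves and reflects finiteness of maps. -/
theorem finite_twist_iff {D N : X.Modules} (hD : PicF.IsInvertible D)
    (eN : CohB1.tensorMod N D ≅ Coh.structureModule X) [DCoh.HasLTensorMod D] (K : DCoh.D X) (i : ℤ) :
    (Module.Finite k (DCoh.inD X (Coh.structureModule X) ⟶
        (shiftFunctor (DCoh.D X) i).obj ((DCoh.LTensorMod D).obj K)) ↔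
      Module.Finite k (DCoh.inD X N ⟶ (shiftFunctor (DCoh.D X) i).obj K)) ∧
    (Nontrivial (DCoh.inD X (Coh.structureModule X) ⟶
        (shiftFunctor (DCoh.D X) i).obj ((DCoh.LTensorMod D).obj K)) ↔
      Nontrivial (DCoh.inD X N ⟶ (shiftFunctor (DCoh.D X) i).obj K)) := by
  let F := DCoh.tensorRightMod D
  haveI := H23.Chern.isEquivalence_ten hD
  haveI : (DCoh.tensorBi.flip.obj D).IsEquivalence :=
    Functor.isEquivalence_of_iso ((tensorBiFlipIso X).app D).symm
  let eF : DCoh.tensorBi.flip.obj D ≅ F :=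
    NatIso.ofComponents (fun M => Iso.refl _) (fun f => (Category.comp_id _).trans (Category.id_comp _).symm)
  haveI : F.IsEquivalence := Functor.isEquivalence_of_iso eF
  haveI hlinF : (DCoh.tensorBi.flip.obj D).Linear k := ⟨fun {M N'} g a => by
    rw [KLin.smul_def, Functor.map_comp, KLin.smul_def]
    show (DCoh.tensorBi.flip.obj D).map (Formal.smulModΓ M _) ≫ _ = _
    rw [Synt29.NullCorr.tensor_map_smul']
    rfl⟩
  haveI : F.Linear k := Functor.linear_of_iso _ eF
  let E := F.asEquivalence
  let G := E.inverse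
  haveI : G.Additive := E.inverse.additive_of_preserves_binary_products
  haveI : PreservesFiniteLimits F := inferInstance
  haveI : PreservesFiniteColimits F := inferInstance
  haveI : PreservesFiniteLimits G := inferInstance
  haveI : PreservesFiniteColimits G := inferInstance
  let Fd := F.mapDerivedCategory
  let Gd := G.mapDerivedCategory
  let W₁ := HomologicalComplex.quasiIso X.Modules (ComplexShape.up ℤ)
  let eC : F.mapHomologicalComplex (ComplexShape.up ℤ) ⋙ G.mapHomologicalComplex (ComplexShape.up ℤ) ≅ 𝟭 _ :=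
    (NatIso.mapHomologicalComplex E.unitIso.symm (ComplexShape.up ℤ) :) ≪≫
      Functor.mapHomologicalComplexIdIso _ _
  let eC' : G.mapHomologicalComplex (ComplexShape.up ℤ) ⋙ F.mapHomologicalComplex (ComplexShape.up ℤ) ≅ 𝟭 _ :=
    (NatIso.mapHomologicalComplex E.counitIso (ComplexShape.up ℤ) :) ≪≫
      Functor.mapHomologicalComplexIdIso _ _
  letI : Localization.Lifting DerivedCategory.Q W₁ DerivedCategory.Q (Fd ⋙ Gd) :=
    ⟨Functor.isoWhiskerRight F.mapDerivedCategoryFactors Gd ≪≫
      Functor.isoWhiskerLeft (F.mapHomologicalComplex (ComplexShape.up ℤ)) G.mapDerivedCategoryFactors ≪≫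
      Functor.isoWhiskerRight eC DerivedCategory.Q⟩
  letI : Localization.Lifting DerivedCategory.Q W₁ DerivedCategory.Q (Gd ⋙ Fd) :=
    ⟨Functor.isoWhiskerRight G.mapDerivedCategoryFactors Fd ≪≫
      Functor.isoWhiskerLeft (G.mapHomologicalComplex (ComplexShape.up ℤ)) F.mapDerivedCategoryFactors ≪≫
      Functor.isoWhiskerRight eC' DerivedCategory.Q⟩
  letI : Localization.Lifting DerivedCategory.Q W₁ DerivedCategory.Q (𝟭 (DCoh.D X)) := ⟨Iso.refl _⟩
  let eI : Fd ⋙ Gd ≅ 𝟭 (DCoh.D X) :=
    Localization.liftNatIso DerivedCategory.Q W₁ DerivedCategory.Q DerivedCategory.Q (Fd ⋙ Gd) (𝟭 _) (Iso.refl _)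
  let eI' : Gd ⋙ Fd ≅ 𝟭 (DCoh.D X) :=
    Localization.liftNatIso DerivedCategory.Q W₁ DerivedCategory.Q DerivedCategory.Q (Gd ⋙ Fd) (𝟭 _) (Iso.refl _)
  haveI : Fd.IsEquivalence := (CategoryTheory.Equivalence.mk Fd Gd eI.symm eI').isEquivalence_functor
  haveI := Functor.isLeftDerivedFunctor_of_inverts (F := DCoh.tensorModKh D)
    (HomotopyCategory.quasiIso X.Modules (ComplexShape.up ℤ)) Fd
    (F.mapDerivedCategoryFactorsh)
  let eT : DCoh.LTensorMod D ≅ Fd :=
    Functor.leftDerivedUnique _ _
      ((DCoh.tensorModKh D).totalLeftDerivedCounit DerivedCategory.Qh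
        (HomotopyCategory.quasiIso X.Modules (ComplexShape.up ℤ))) F.mapDerivedCategoryFactorsh.hom
      (HomotopyCategory.quasiIso X.Modules (ComplexShape.up ℤ))
  let eO : Fd.obj (DCoh.inD X N) ≅ DCoh.inD X (Coh.structureModule X) :=
    (F.mapDerivedCategorySingleFunctor 0).app N ≪≫ (DerivedCategory.singleFunctor X.Modules 0).mapIso eN
  let M := (shiftFunctor (DCoh.D X) i).obj K
  let eM : Fd.obj M ≅ (shiftFunctor (DCoh.D X) i).obj ((DCoh.LTensorMod D).obj K) :=
    (Fd.commShiftIso i).app K ≪≫ (shiftFunctor (DCoh.D X) i).mapIso (eT.app K).symm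
  let l : (DCoh.inD X N ⟶ M) ≃ₗ[k] (DCoh.inD X (Coh.structureModule X) ⟶
      (shiftFunctor (DCoh.D X) i).obj ((DCoh.LTensorMod D).obj K)) :=
    (LinearEquiv.ofBijective (Fd.mapLinearMap k) ⟨Fd.map_injective, Fd.map_surjective⟩).trans
      (Linear.homCongr k eO eM)
  exact ⟨⟨fun h => haveI := h; Module.Finite.equiv l.symm, fun h => haveI := h; Module.Finite.equiv l⟩,
    ⟨fun h => @Equiv.nontrivial _ _ l.toEquiv h, fun h => @Equiv.nontrivial _ _ l.toEquiv.symm h⟩⟩

end Groth.Agent.H9Misc.TwistFF
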