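import Groth.Agent.GrLib8.SurfExt.Hartogs
import Groth.Agent.H23.DiagReg
import Groth.Agent.Lib.RegularResolution
import Groth.Agent.KExact.AmpleFamily
import Groth.Agent.ConsPropLib.FibreLocFree

/-!
# Resolutions away from a regular point of a surface extend over it
-/

set_option autoImplicit false
set_option linter.style.haveILetI false
set_option linter.unusedSectionVars false
set_option backward.isDefEq.respectTransparency false
set_option backward.isDefEq.respectTransparency.types false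

universe u

open CategoryTheory CategoryTheory.Limits AlgebraicGeometry TopologicalSpace Opposite

noncomputable section

attribute [local instance] Groth.Agent.QCoh.hasFiniteBiproducts

namespace Groth.Agent.H9Misc.TwoPunctures

/-- Reflexive finite modules over regular local rings of dimension at most two are free. -/
theorem free_of_reflexive {R M : Type u} [CommRing R] [IsRegularLocalRing R] [AddCommGroup M] [Module R M]
    [Module.Finite R M] [Module.IsReflexive R M] (hd : ringKrullDim R ≤ 2) : Module.Free R M := by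
  haveI := RegLoc6.isDomain_of_isRegularLocalRing R
  obtain ⟨n, m, f, g, hf, hfg⟩ := CAlgOdd.Refl.exists_exact_free (R := R) (M := M)
  have h2 : (IsLocalRing.maximalIdeal R).spanFinrank ≤ 2 := by
    have h1 := (IsRegularLocalRing.spanFinrank_maximalIdeal (R := R)).trans_le hd
    exact_mod_cast h1
  let q := (LinearMap.range g).mkQ
  have hQ : RegLoc6.PdLE R 2 ((Fin m → R) ⧸ LinearMap.range g) :=
    RegLoc6.pdLE_mono h2 (RegLoc6.pdLE_of_isRegularLocalRing _ _)
  rw [RegLoc6.pdLE_succ_iff q (Submodule.mkQ_surjective _)] at hQ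
  have hR : RegLoc6.PdLE R 1 (LinearMap.range g) :=
    RegLoc6.pdLE_of_equiv (LinearEquiv.ofEq _ _ (LinearMap.range g).ker_mkQ) hQ
  rw [RegLoc6.pdLE_succ_iff g.rangeRestrict g.surjective_rangeRestrict] at hR
  have hM : RegLoc6.PdLE R 0 M :=
    RegLoc6.pdLE_of_equiv
      ((LinearEquiv.ofEq _ _ ((LinearMap.ker_rangeRestrict g).trans hfg.linearMap_ker_eq)).trans
        (LinearEquiv.ofInjective f hf).symm) hR
  haveI := RegLoc6.pdLE_zero_iff.1 hM
  exact Module.free_of_flat_of_isLocalRing

variable {X : Scheme.{u}}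

theorem bijective_app_of_le {F G : X.Modules} (η : F ⟶ G) (W : X.Opens)
    [IsIso ((Scheme.Modules.restrictFunctor W.ι).map η)] {O : X.Opens} (h : O ≤ W) :
    Function.Bijective (η.app O) := by
  have h1 : Function.Bijective (((Scheme.Modules.restrictFunctor W.ι).map η).app (W.ι ⁻¹ᵁ O)) :=
    (ConcreteCategory.isIso_iff_bijective _).1 (Scheme.Modules.Hom.isIso_iff_isIso_app.1 inferInstance _)
  have h2 : Function.Bijective (η.app (W.ι ''ᵁ (W.ι ⁻¹ᵁ O))) := h1
  have e : W.ι ''ᵁ (W.ι ⁻¹ᵁ O) = O := by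
    rw [Scheme.Hom.image_preimage_eq_opensRange_inf, Scheme.Opens.opensRange_ι, inf_eq_right.2 h]
  rwa [e] at h2

variable [IsIntegral X] [IsLocallyNoetherian X]

/-- Sections extend across a small closed subset near which the module is reflexive. -/
theorem extendsAcross_of_reflexiveAt {F : X.Modules} (hF : Coh.IsCoh F) {U W : X.Opens}
    (hW : ∀ x ∈ W, RefHull.IsReflexiveAt F x) (hcov : ∀ x : X, x ∈ U ∨ x ∈ W)
    (hU : ∀ x : X, x ∉ U → (2 : ℕ∞) ≤ LocCoh.depth (X.presheaf.stalk x) (X.presheaf.stalk x)) :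
    RefX.ExtendsAcross U F := by
  have hG : Coh.IsCoh (RefHull.dual (RefHull.dual F)) := RefX.isCoh_dual (RefX.isCoh_dual hF)
  have hext := RefX.extendsAcross_reflexive hG
    ((RefX.isReflexive_iff hG).2 (RefX.isReflexiveAt_dual (RefX.isCoh_dual hF))) hU
  let η := RefHull.bidualMap F
  haveI := RefX.isIso_restrict_bidual hF W hW
  have hsplit : ∀ {V : X.Opens} (s t : Γ(F, V)),
      AModX.res F (inf_le_left : V ⊓ U ≤ V) s = AModX.res F (inf_le_left : V ⊓ U ≤ V) t → s = t := by
    intro V s t h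
    refine AModX.eq_of_locally _ _ fun x hx => ?_
    rcases hcov x with hxU | hxW
    · exact ⟨V ⊓ U, inf_le_left, ⟨hx, hxU⟩, h⟩
    · refine ⟨V ⊓ W, inf_le_left, ⟨hx, hxW⟩, (bijective_app_of_le η W inf_le_right).1 ((hext (V ⊓ W)).1 ?_)⟩
      have h' := congrArg (AModX.res F (inf_le_inf_right U inf_le_left : V ⊓ W ⊓ U ≤ V ⊓ U)) h
      simp only [AModX.res_res] at h'
      rw [← AModX.app_res, ← AModX.app_res, AModX.res_res, AModX.res_res]
      exact congrArg (η.app (V ⊓ W ⊓ U)) h'
  intro V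
  refine ⟨fun s t h => hsplit s t h, fun s => ?_⟩
  obtain ⟨g, hg⟩ := (hext (V ⊓ W)).2 (η.app (V ⊓ W ⊓ U) (AModX.res F (inf_le_inf_right U inf_le_left) s))
  obtain ⟨t, ht⟩ := (bijective_app_of_le η W (inf_le_right : V ⊓ W ≤ W)).2 g
  rw [← ht, ← AModX.app_res] at hg
  have hg' : AModX.res F (inf_le_left : V ⊓ W ⊓ U ≤ V ⊓ W) t = AModX.res F (inf_le_inf_right U inf_le_left) s :=
    (bijective_app_of_le η W (inf_le_left.trans inf_le_right)).1 hg
  let B : ULift.{u} Bool → X.Opens := fun b => bif b.down then V ⊓ W else V ⊓ U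
  have hB : ∀ b, B b ≤ V := fun b => by rcases b with ⟨_ | _⟩ <;> exact inf_le_left
  obtain ⟨r, hr, -⟩ := AModX.existsUnique_glue (M := F) (V := V) B hB
    (fun x hx => by
      rcases hcov x with hxU | hxW
      · exact ⟨⟨false⟩, ⟨hx, hxU⟩⟩
      · exact ⟨⟨true⟩, ⟨hx, hxW⟩⟩)
    (fun b => match b with
      | ⟨true⟩ => t
      | ⟨false⟩ => s)
    fun a b => by
      rcases a with ⟨_ | _⟩ <;> rcases b with ⟨_ | _⟩
      · rfl
      · refine hsplit _ _ ?_
        have h1 := congrArg (AModX.res F (le_inf (le_inf (inf_le_left.trans (inf_le_left.trans inf_le_left))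
          (inf_le_left.trans (inf_le_right.trans inf_le_right))) inf_le_right :
            (V ⊓ U) ⊓ (V ⊓ W) ⊓ U ≤ V ⊓ W ⊓ U)) hg'
        simp only [AModX.res_res] at h1
        rw [AModX.res_res, AModX.res_res]
        exact h1.symm
      · refine hsplit _ _ ?_
        have h1 := congrArg (AModX.res F (le_inf (le_inf (inf_le_left.trans (inf_le_left.trans inf_le_left))
          (inf_le_left.trans (inf_le_left.trans inf_le_right))) inf_le_right :
            (V ⊓ W) ⊓ (V ⊓ U) ⊓ U ≤ V ⊓ W ⊓ U)) hg'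
        simp only [AModX.res_res] at h1
        rw [AModX.res_res, AModX.res_res]
        exact h1
      · rfl
  exact ⟨r, hr ⟨false⟩⟩

/-- A resolution away from a regular point of dimension at most two gives a map from a locally free module. -/
theorem exists_lift {F : X.Modules} (hF : Coh.IsCoh F) {p : X} {U : X.Opens} (hU : (U : Set X) = {p}ᶜ)
    (hreg : IsRegularLocalRing (X.presheaf.stalk p)) (hdim : ringKrullDim (X.presheaf.stalk p) = 2)
    (hFp : ∃ W : X.Opens, p ∈ W ∧ FlatMod.IsFinLocFree (F.restrict W.ι))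
    (hp : ∃ (E : (↑U : Scheme.{u}).Modules) (π : E ⟶ F.restrict U.ι), FlatMod.IsFinLocFree E ∧ Epi π) :
    ∃ (A : X.Modules) (f : A ⟶ F), FlatMod.IsFinLocFree A ∧
      ∀ x ∈ U, Function.Surjective ((DerSch.stalkFunctor X x).map f) := by
  obtain ⟨W, hpW, hW⟩ := hFp
  obtain ⟨E, π, hE, hπ⟩ := hp
  have hmem : ∀ x : X, x ∉ U → x = p := fun x hx => by
    have h : x ∉ (U : Set X) := hx
    rw [hU] at h
    simpa using h
  have hdepth : ∀ x : X, x ∉ U → (2 : ℕ∞) ≤ LocCoh.depth (X.presheaf.stalk x) (X.presheaf.stalk x) := fun x hx => by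
    rw [hmem x hx]
    have h := S10834.depth_of_regular (X.presheaf.stalk p)
    rw [hdim] at h
    exact (WithBot.coe_le_coe.1 (le_of_eq h.symm) : _)
  have hEc := QCoh.isCoh_iff_isFP.2 (QCoh.isFP_of_isFinLocFree hE)
  have hEr : ∀ y, RefHull.IsReflexiveAt E y := GrLib8.SurfExt.isReflexive_stalk_of_finLocFree hE
  obtain ⟨hAc, hAr⟩ := RefX.reflexive_pushforward U hdepth hEc hEr
  let A := (Scheme.Modules.pushforward U.ι).obj E
  let ε := (Scheme.Modules.restrictAdjunction U.ι).counit
  have hA : FlatMod.IsFinLocFree A := by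
    refine QCoh.isFinLocFree_iff.2 ⟨QCoh.isCoh_iff_isFP.1 hAc, fun x => ?_⟩
    by_cases hx : x ∈ U
    · obtain ⟨y, rfl⟩ : ∃ y : (U : Scheme.{u}), U.ι.base y = x := ⟨⟨x, hx⟩, rfl⟩
      obtain ⟨e, he⟩ := RefX.exists_semilinear_restrict U.ι A y
      let σ : (U : Scheme.{u}).presheaf.stalk y ≃+* X.presheaf.stalk (U.ι.base y) :=
        (asIso (U.ι.stalkMap y)).commRingCatIsoToRingEquiv.symm
      haveI := RingHomInvPair.of_ringEquiv σ
      haveI := RingHomInvPair.symm (σ : (U : Scheme.{u}).presheaf.stalk y →+* X.presheaf.stalk (U.ι.base y)) σ.symm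
      haveI : Module.Free ((U : Scheme.{u}).presheaf.stalk y) ((A.restrict U.ι).presheaf.stalk y) :=
        QCoh.free_stalk_of_isFinLocFree ((ConsPropLib.isFinLocFree_iso (asIso (ε.app E))).2 hE :) y
      have hsm : ∀ (b : (U : Scheme.{u}).presheaf.stalk y) (m : (A.restrict U.ι).presheaf.stalk y),
          e (b • m) = σ b • e m := fun b m => by
        obtain ⟨a, rfl⟩ := (asIso (U.ι.stalkMap y)).commRingCatIsoToRingEquiv.surjective b
        show e _ = (asIso (U.ι.stalkMap y)).commRingCatIsoToRingEquiv.symm _ • e m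
        rw [RingEquiv.symm_apply_apply]
        exact he a m
      exact Module.Free.of_equiv (R := (U : Scheme.{u}).presheaf.stalk y)
        (e₂ := ({ e with map_smul' := hsm } :
          (A.restrict U.ι).presheaf.stalk y ≃ₛₗ[(σ : (U : Scheme.{u}).presheaf.stalk y →+* X.presheaf.stalk (U.ι.base y))]
            A.presheaf.stalk (U.ι.base y)))
    · obtain rfl := hmem x hx
      haveI := hreg
      haveI := QCoh.finite_stalk_of_isFT hAc.1 hAc.2 x
      haveI : Module.IsReflexive (X.presheaf.stalk x) (A.presheaf.stalk x) := hAr x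
      exact free_of_reflexive hdim.le
  have hWr : ∀ x ∈ W, RefHull.IsReflexiveAt F x := fun x hx =>
    (RefX.isReflexiveAt_restrict_iff W.ι ⟨x, hx⟩).1 (GrLib8.SurfExt.isReflexive_stalk_of_finLocFree hW _)
  haveI : IsIso ((Scheme.Modules.restrictAdjunction U.ι).unit.app F) :=
    RefX.isIso_unit_of_extendsAcross (extendsAcross_of_reflexiveAt hF hWr (fun x => (em (x ∈ U)).imp id fun h => by
      rw [hmem x h]; exact hpW) hdepth)
  let f : A ⟶ F := (Scheme.Modules.pushforward U.ι).map π ≫ inv ((Scheme.Modules.restrictAdjunction U.ι).unit.app F)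
  refine ⟨A, f, hA, fun x hx => ?_⟩
  have hr : (Scheme.Modules.restrictFunctor U.ι).map f = ε.app E ≫ π := by
    refine Eq.trans ?_ (ε.naturality π)
    show (Scheme.Modules.restrictFunctor U.ι).map (_ ≫ inv _) = _
    rw [Functor.map_comp, Functor.map_inv]
    refine congrArg (_ ≫ ·) ?_
    refine IsIso.inv_eq_of_hom_inv_id ?_
    exact (Scheme.Modules.restrictAdjunction U.ι).left_triangle_components F
  haveI : Epi ((Scheme.Modules.restrictFunctor U.ι).map f) := by
    haveI := hπ
    rw [hr]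
    infer_instance
  let y : (U : Scheme.{u}) := ⟨x, hx⟩
  let η := Scheme.Modules.restrictStalkNatIso U.ι y
  have h1 : Function.Surjective ((DerSch.stalkFunctor (U : Scheme.{u}) y).map
      ((Scheme.Modules.restrictFunctor U.ι).map f)) :=
    (ModuleCat.epi_iff_surjective _).1 inferInstance
  haveI : Epi ((Scheme.Modules.restrictFunctor U.ι ⋙ Scheme.Modules.toPresheaf _ ⋙
      TopCat.Presheaf.stalkFunctor _ y).map f) := ConcreteCategory.epi_of_surjective _ h1
  haveI h2 : Epi ((Scheme.Modules.toPresheaf X ⋙ TopCat.Presheaf.stalkFunctor _ (U.ι.base y)).map f) := by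
    rw [← NatIso.naturality_1 η f]
    infer_instance
  exact (AddCommGrpCat.epi_iff_surjective _).1 h2

/-- Two resolutions away from different regular points give one on the whole surface. -/
theorem exists_epi {F : X.Modules} (hF : Coh.IsCoh F) {p q : X} (hpq : p ≠ q) {Up Uq : X.Opens}
    (hUp : (Up : Set X) = {p}ᶜ) (hUq : (Uq : Set X) = {q}ᶜ)
    (hp : IsRegularLocalRing (X.presheaf.stalk p)) (hdp : ringKrullDim (X.presheaf.stalk p) = 2)
    (hq : IsRegularLocalRing (X.presheaf.stalk q)) (hdq : ringKrullDim (X.presheaf.stalk q) = 2)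
    (hFp : ∃ W : X.Opens, p ∈ W ∧ FlatMod.IsFinLocFree (F.restrict W.ι))
    (hFq : ∃ W : X.Opens, q ∈ W ∧ FlatMod.IsFinLocFree (F.restrict W.ι))
    (hp' : ∃ (E : (↑Up : Scheme.{u}).Modules) (π : E ⟶ F.restrict Up.ι), FlatMod.IsFinLocFree E ∧ Epi π)
    (hq' : ∃ (E : (↑Uq : Scheme.{u}).Modules) (π : E ⟶ F.restrict Uq.ι), FlatMod.IsFinLocFree E ∧ Epi π) :
    ∃ (E : X.Modules) (π : E ⟶ F), FlatMod.IsFinLocFree E ∧ Epi π := by
  obtain ⟨A, f, hA, hf⟩ := exists_lift hF hUp hp hdp hFp hp'
  obtain ⟨B, g, hB, hg⟩ := exists_lift hF hUq hq hdq hFq hq'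
  let T : Fin 2 → X.Modules := fun i => if i = 0 then A else B
  let φ : ∀ i, T i ⟶ F := fun i => match i with
    | ⟨0, _⟩ => f
    | ⟨1, _⟩ => g
  refine ⟨⨁ T, biproduct.desc φ, KExact.AmpleFamily.isFinLocFree_biproduct T (fun i => ?_), ?_⟩
  · match i with
    | ⟨0, _⟩ => exact hA
    | ⟨1, _⟩ => exact hB
  · refine Groth.Agent.RegularResolution.epi_of_stalk _ fun x => (ModuleCat.epi_iff_surjective _).2 ?_
    have key : ∀ (i : Fin 2), Function.Surjective ((DerSch.stalkFunctor X x).map (φ i)) →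
        Function.Surjective ((DerSch.stalkFunctor X x).map (biproduct.desc φ)) := fun i h y => by
      obtain ⟨a, ha⟩ := h y
      refine ⟨(DerSch.stalkFunctor X x).map (biproduct.ι T i) a, ?_⟩
      rw [← ConcreteCategory.comp_apply, ← Functor.map_comp, biproduct.ι_desc]
      exact ha
    by_cases hx : x ∈ Up
    · exact key ⟨0, by omega⟩ (hf x hx)
    · have h : x ∉ (Up : Set X) := hx
      rw [hUp] at h
      have hxp : x = p := by simpa using h
      refine key ⟨1, by omega⟩ (hg x ?_)
      show x ∈ (Uq : Set X)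
      rw [hUq, hxp]
      simpa using hpq

end Groth.Agent.H9Misc.TwoPunctures
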