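import Groth.Agent.H9Misc.TFactor

/-! A morphism inducing zero on two consecutive cohomologies. -/

universe w v u

open CategoryTheory CategoryTheory.Limits Pretriangulated DerivedCategory

namespace Groth.Agent.H9Misc

variable {C : Type u} [Category.{v} C] [Abelian C] [HasDerivedCategory.{w} C]

local notation "tS" => (DerivedCategory.TStructure.t (C := C))
local notation "H" => DerivedCategory.homologyFunctor C

lemma homologyMap_truncLT_map_eq_zero {X Y : DerivedCategory C} (f : X ⟶ Y) (m i : ℤ) (hi : i < m)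
    (h : (H i).map f = 0) : (H i).map (((tS).truncLT m).map f) = 0 := by
  have := isIso_map_truncLTι m i hi Y
  rw [← cancel_mono ((H i).map (((tS).truncLTι m).app Y)), zero_comp, ← Functor.map_comp]
  erw [((tS).truncLTι m).naturality f]
  rw [Functor.id_map, Functor.map_comp, h, comp_zero]

lemma homologyMap_truncGE_map_eq_zero {X Y : DerivedCategory C} (f : X ⟶ Y) (m i : ℤ) (hi : m ≤ i)
    (h : (H i).map f = 0) : (H i).map (((tS).truncGE m).map f) = 0 := by
  have := isIso_map_truncGEπ m i hi X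
  rw [← cancel_epi ((H i).map (((tS).truncGEπ m).app X)), comp_zero, ← Functor.map_comp]
  erw [← ((tS).truncGEπ m).naturality f]
  rw [Functor.id_map, Functor.map_comp, h, zero_comp]

lemma existsUnique_twoStep (q : ℤ) {W W' V' : DerivedCategory C} [W.IsLE q] [W'.IsLE q]
    [V'.IsLE (q - 1)] (n : V' ⟶ W') (hn : IsIso ((H (q - 1)).map n))
    (u : ((tS).truncGE (q - 1)).obj W ⟶ ((tS).truncGE (q - 1)).obj W')
    (h1 : (H (q - 1)).map u = 0) (h2 : (H q).map u = 0) :
    ∃! L : ((tS).truncGE q).obj W ⟶ ((tS).truncGE (q - 1)).obj V',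
      u = ((tS).natTransTruncGEOfLE (q - 1) q (sub_one_lt q).le).app W ≫ L ≫
        ((tS).truncGE (q - 1)).map n := by
  have : (((tS).truncGE (q - 1)).obj W').IsGE (q - 1) := (tS).isGE_truncGE_obj ..
  have : (((tS).truncGE (q - 1)).obj V').IsGE (q - 1) := (tS).isGE_truncGE_obj ..
  have : (((tS).truncGE (q - 1)).obj V').IsLE (q - 1) := inferInstanceAs ((tS).IsLE (((tS).truncGE (q - 1)).obj V') (q - 1))
  have : (((tS).truncGE (q - 1)).obj W').IsLE q := inferInstanceAs ((tS).IsLE (((tS).truncGE (q - 1)).obj W') q)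
  have : (((tS).truncGE (q - 1)).obj V').IsLE q := (tS).isLE_of_le (((tS).truncGE (q - 1)).obj V') (q - 1) q (by lia)
  have hHJ : IsIso ((H (q - 1)).map (((tS).truncGE (q - 1)).map n)) := by
    have := isIso_map_truncGEπ (q - 1) (q - 1) le_rfl V'
    have := isIso_map_truncGEπ (q - 1) (q - 1) le_rfl W'
    have e : (H (q - 1)).map n ≫ (H (q - 1)).map (((tS).truncGEπ (q - 1)).app W') =
        (H (q - 1)).map (((tS).truncGEπ (q - 1)).app V') ≫ (H (q - 1)).map (((tS).truncGE (q - 1)).map n) := by
      rw [← Functor.map_comp, ← Functor.map_comp]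
      exact congrArg _ (((tS).truncGEπ (q - 1)).naturality n)
    have : IsIso ((H (q - 1)).map (((tS).truncGEπ (q - 1)).app V') ≫ (H (q - 1)).map (((tS).truncGE (q - 1)).map n)) :=
      e ▸ inferInstance
    exact IsIso.of_isIso_comp_left ((H (q - 1)).map (((tS).truncGEπ (q - 1)).app V')) _
  obtain ⟨j, hj⟩ := exists_lift_truncLT q (((tS).truncGE (q - 1)).map n) ((isZero_of_isLE (((tS).truncGE (q - 1)).obj V') (q - 1) q (by lia)).eq_of_src _ _)
  have hjiso : IsIso j := by
    rw [DerivedCategory.isIso_iff]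
    intro i
    rcases lt_trichotomy i (q - 1) with hi | rfl | hi
    · have : ((((tS).truncLT q).obj (((tS).truncGE (q - 1)).obj W'))).IsGE (q - 1) := by
        rw [DerivedCategory.isGE_iff]
        intro k hk
        have := isIso_map_truncLTι q k (by lia) (((tS).truncGE (q - 1)).obj W')
        exact (isZero_of_isGE (((tS).truncGE (q - 1)).obj W') (q - 1) k hk).of_iso (asIso ((H k).map (((tS).truncLTι q).app (((tS).truncGE (q - 1)).obj W'))))
      exact isIso_of_source_target_iso_zero _ (isZero_of_isGE (((tS).truncGE (q - 1)).obj V') (q - 1) i hi).isoZero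
        (isZero_of_isGE _ (q - 1) i hi).isoZero
    · have := isIso_map_truncLTι q (q - 1) (by lia) (((tS).truncGE (q - 1)).obj W')
      have e : (H (q - 1)).map j ≫ (H (q - 1)).map (((tS).truncLTι q).app (((tS).truncGE (q - 1)).obj W')) = (H (q - 1)).map (((tS).truncGE (q - 1)).map n) := by
        rw [← Functor.map_comp, hj]
      have : IsIso ((H (q - 1)).map j ≫ (H (q - 1)).map (((tS).truncLTι q).app (((tS).truncGE (q - 1)).obj W'))) := e ▸ hHJ
      exact IsIso.of_isIso_comp_right _ ((H (q - 1)).map (((tS).truncLTι q).app (((tS).truncGE (q - 1)).obj W')))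
    · have : (((tS).truncLT q).obj (((tS).truncGE (q - 1)).obj W')).IsLE (q - 1) := (tS).isLE_truncLT_obj ..
      exact isIso_of_source_target_iso_zero _ (isZero_of_isLE (((tS).truncGE (q - 1)).obj V') (q - 1) i hi).isoZero
        (isZero_of_isLE _ (q - 1) i hi).isoZero
  have hu1 : (H (q - 1)).map (((tS).truncGEπ (q - 1)).app W ≫ u) = 0 := by
    rw [Functor.map_comp, h1, comp_zero]
  obtain ⟨v, hv⟩ := exists_desc_truncGE (q - 1) _ hu1
  have hw : ∃ v : ((tS).truncGE q).obj W ⟶ (((tS).truncGE (q - 1)).obj W'),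
      ((tS).truncGEπ q).app W ≫ v = ((tS).truncGEπ (q - 1)).app W ≫ u := by
    have e : q - 1 + 1 = q := by lia
    revert v
    rw [e]
    exact fun v hv => ⟨v, hv⟩
  obtain ⟨v, hv⟩ := hw
  have hvq : (H q).map v = 0 := by
    have := isIso_map_truncGEπ q q le_rfl W
    rw [← cancel_epi ((H q).map (((tS).truncGEπ q).app W)), comp_zero, ← Functor.map_comp, hv,
      Functor.map_comp, h2, comp_zero]
  have : (((tS).truncGE q).obj W).IsLE q := inferInstance
  obtain ⟨w, hw⟩ := exists_lift_truncLT q v hvq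
  have hP : ((tS).truncGEπ (q - 1)).app W ≫
      ((tS).natTransTruncGEOfLE (q - 1) q (sub_one_lt q).le).app W = ((tS).truncGEπ q).app W :=
    (tS).π_natTransTruncGEOfLE_app _ _ _ W
  refine ⟨w ≫ inv j, ?_, fun L hL => ?_⟩
  · refine (tS).from_truncGE_obj_ext ?_
    have e : inv j ≫ (((tS).truncGE (q - 1)).map n) = ((tS).truncLTι q).app (((tS).truncGE (q - 1)).obj W') := by rw [← hj, IsIso.inv_hom_id_assoc]
    rw [Category.assoc, e, hw, ← Category.assoc, hP, hv]
  · rw [← cancel_mono j, Category.assoc, IsIso.inv_hom_id, Category.comp_id]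
    refine cancel_truncLTι q ?_
    rw [Category.assoc, hj, hw]
    have : (((tS).truncGE (q - 1)).obj W').IsGE (q - 1) := (tS).isGE_truncGE_obj ..
    refine cancel_truncGEπ (Y := ((tS).truncGE (q - 1)).obj W') q ?_
    rw [hv, hL, ← hP]
    simp only [Category.assoc]

end Groth.Agent.H9Misc
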