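import Groth.Agent.H9Misc.FibreSectionLift
import Groth.Agent.SeesawX.PnSpec
import Groth.Agent.VAmpleX.Immersion
import Groth.Agent.VAmpleX.Segre
import Groth.Agent.Approx.FibreProper
import Groth.Agent.H23.Seesaw
import Groth.Agent.Lib.CurveDeg
import Groth.Agent.Lib.AVAmple
import Groth.Agent.KZ.LFRes
import Groth.Agent.PnCoh.Chow.Proper
import Groth.Agent.PicClLib.Basic
import Groth.Agent.S12481

/-! Relative very ampleness from the fibres. -/

set_option linter.style.haveILetI false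
set_option linter.unusedSectionVars false
set_option maxHeartbeats 400000
set_option backward.isDefEq.respectTransparency false
set_option backward.isDefEq.respectTransparency.types false

universe u

open CategoryTheory Limits AlgebraicGeometry TopologicalSpace Opposite

noncomputable section

namespace Groth.Agent.H9Misc.VeryAmpleFibre

open Groth.Agent Groth.Agent.H23 Groth.Agent.SeesawX.PnSpec

variable (n : ℕ)

/-- The projection to `P^n` over the integers. -/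
abbrev pZ (S : Scheme.{u}) : CohB1.ProjSpaceOver n S ⟶ CohB1.ProjSpace n Zu :=
  pullback.fst (CohB1.ProjSpace.toSpec n Zu) (specULiftZIsTerminal.from S)

/-- The projection to the base. -/
abbrev pB (S : Scheme.{u}) : CohB1.ProjSpaceOver n S ⟶ S :=
  pullback.snd (CohB1.ProjSpace.toSpec n Zu) (specULiftZIsTerminal.from S)

variable {n}

/-- A morphism to `P^n` over a base. -/
abbrev toP {X S : Scheme.{u}} (r : X ⟶ CohB1.ProjSpace n Zu) (q : X ⟶ S) : X ⟶ CohB1.ProjSpaceOver n S :=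
  pullback.lift r q (specULiftZIsTerminal.hom_ext _ _)

/-- Change of base of projective space. -/
abbrev bP {T S : Scheme.{u}} (j : T ⟶ S) : CohB1.ProjSpaceOver n T ⟶ CohB1.ProjSpaceOver n S :=
  toP (pZ n T) (pB n T ≫ j)

theorem isPullback_bP {T S : Scheme.{u}} (j : T ⟶ S) : IsPullback (bP (n := n) j) (pB n T) (pB n S) j := by
  refine IsPullback.of_right (h₁₂ := pZ n S) (v₁₃ := CohB1.ProjSpace.toSpec n Zu)
    (h₂₂ := specULiftZIsTerminal.from S) ?_ (pullback.lift_snd _ _ _) (IsPullback.of_hasPullback _ _)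
  rw [show bP j ≫ pZ n S = pZ n T from pullback.lift_fst _ _ _,
    specULiftZIsTerminal.hom_ext (j ≫ specULiftZIsTerminal.from S) (specULiftZIsTerminal.from T)]
  exact IsPullback.of_hasPullback _ _

theorem isPullback_toP {X S XT T : Scheme.{u}} (r : X ⟶ CohB1.ProjSpace n Zu) (q : X ⟶ S) {j : T ⟶ S}
    {gT : XT ⟶ X} {qT : XT ⟶ T} (sq : IsPullback gT qT q j) :
    IsPullback gT (toP (gT ≫ r) qT) (toP r q) (bP j) := by
  refine IsPullback.of_bot (v₂₁ := pB n T) (v₂₂ := pB n S) (h₃₁ := j) ?_ ?_ (isPullback_bP j)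
  · rw [show toP (gT ≫ r) qT ≫ pB n T = qT from pullback.lift_snd _ _ _,
      show toP r q ≫ pB n S = q from pullback.lift_snd _ _ _]
    exact sq
  · refine pullback.hom_ext ?_ ?_
    · simp only [Category.assoc, pullback.lift_fst]
    · simp only [Category.assoc, pullback.lift_snd, pullback.lift_snd_assoc]
      exact sq.w

/-- Closed immersion on a fibre, from a cartesian square over the residue field. -/
theorem isClosedImmersion_fiberMapOver {X P S XK PK : Scheme.{u}} (i : X ⟶ P) (q : X ⟶ S) (h : P ⟶ S)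
    (w : i ≫ h = q) (s : S) {iK : XK ⟶ PK} [IsClosedImmersion iK] {gK : XK ⟶ X} {b : PK ⟶ P}
    (sq : IsPullback gK iK i b) (z : h.fiber s ⟶ PK) (hz : z ≫ b = h.fiberι s) :
    IsClosedImmersion (CohIII.fiberMapOver i q h w s) := by
  have h1 : IsPullback (q.fiberι s) (CohIII.fiberMapOver i q h w s) i (z ≫ b) := by
    rw [hz]; exact Synt29.UnramFibre.isPullback_fiberMapOver i q h w s
  let l : q.fiber s ⟶ XK := sq.lift (q.fiberι s) (CohIII.fiberMapOver i q h w s ≫ z)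
    (by rw [Category.assoc]; exact h1.w)
  have hl : l ≫ gK = q.fiberι s := sq.lift_fst _ _ _
  have h2 : IsPullback l (CohIII.fiberMapOver i q h w s) iK z :=
    IsPullback.of_right (by rw [hl]; exact h1) (sq.lift_snd _ _ _) sq
  exact MorphismProperty.of_isPullback h2 ‹IsClosedImmersion iK›

/-- The square of restrictions. -/
theorem isPullback_restrict_homOfLE {X Y : Scheme.{u}} (f : X ⟶ Y) {V V' : Y.Opens} (h : V' ≤ V) :
    IsPullback (X.homOfLE (f.preimage_mono h)) (f ∣_ V') (f ∣_ V) (Y.homOfLE h) := by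
  refine IsPullback.of_right (h₁₂ := (f ⁻¹ᵁ V).ι) (v₁₃ := f) (h₂₂ := V.ι) ?_ ?_
    (isPullback_morphismRestrict f V).flip
  · simp only [Scheme.homOfLE_ι]
    exact (isPullback_morphismRestrict f V').flip
  · rw [← cancel_mono V.ι]
    simp

variable {X Y : Scheme.{u}} (f : X ⟶ Y) (L : X.Modules)

/-- A fibre inside the preimage of an open. -/
abbrev fibIn {V : Y.Opens} {y : Y} (hy : y ∈ V) : f.fiber y ⟶ ((f ⁻¹ᵁ V : X.Opens) : Scheme.{u}) :=
  IsOpenImmersion.lift (f ⁻¹ᵁ V).ι (f.fiberι y) (by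
    rw [Scheme.Hom.range_fiberι, Scheme.Opens.range_ι]
    intro x hx
    show f x ∈ V
    rw [show f x = y from hx]; exact hy)

/-- A residue field inside an open. -/
abbrev ptIn {V : Y.Opens} {y : Y} (hy : y ∈ V) : Spec (Y.residueField y) ⟶ (V : Scheme.{u}) :=
  IsOpenImmersion.lift V.ι (Y.fromSpecResidueField y) (by
    rw [Scheme.range_fromSpecResidueField, Scheme.Opens.range_ι]
    simpa using hy)

theorem isPullback_fibIn {V : Y.Opens} {y : Y} (hy : y ∈ V) :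
    IsPullback (fibIn f hy) (f.fiberToSpecResidueField y) (f ∣_ V) (ptIn hy) := by
  refine IsPullback.of_right (h₁₂ := (f ⁻¹ᵁ V).ι) (v₁₃ := f) (h₂₂ := V.ι) ?_ ?_
    (isPullback_morphismRestrict f V).flip
  · rw [IsOpenImmersion.lift_fac, IsOpenImmersion.lift_fac]
    exact IsPullback.of_hasPullback _ _
  · rw [← cancel_mono V.ι, Category.assoc, Category.assoc, morphismRestrict_ι,
      IsOpenImmersion.lift_fac_assoc, IsOpenImmersion.lift_fac]
    exact (f.fiber_fac y)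

theorem exists_affine_nhd {Y : Scheme.{u}} (y : Y) (U : Y.Opens) (hy : y ∈ U) :
    ∃ V : Y.Opens, IsAffineOpen V ∧ y ∈ V ∧ V ≤ U := by
  obtain ⟨_, ⟨V, hV, rfl⟩, hyV, hVU⟩ :=
    Y.isBasis_affineOpens.exists_subset_of_mem_open (a := y) (u := (U : Set Y)) hy U.2
  exact ⟨V, hV, hyV, hVU⟩

theorem exists_nhd_isRelVeryAmplePn [IsProper f] [Flat f] [IsLocallyNoetherian Y] (hL : PicF.IsInvertible L)
    (h1 : ∀ y : Y, Subsingleton (CohIII.fiberH f L y 1)) (y : Y)
    (hva : RelAmple.IsRelVeryAmplePn (f.fiberToSpecResidueField y) ((Scheme.Modules.pullback (f.fiberι y)).obj L)) :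
    ∃ V : Y.Opens, y ∈ V ∧ RelAmple.IsRelVeryAmplePn (f ∣_ V) (L.restrict (f ⁻¹ᵁ V).ι) := by
  haveI : IsLocallyNoetherian X := LocallyOfFiniteType.isLocallyNoetherian f
  have hcoh : Coh.IsCoh L := CurveDeg.isCoh_of_isInvertible hL
  obtain ⟨N, iy, hiy, hiyB, ⟨eL⟩⟩ := hva
  let ry : f.fiber y ⟶ CohB1.ProjSpace N Zu := iy ≫ pZ N _
  let O1 := Twist.twistProjSpace N Zu.{u} 1
  let τy : (Scheme.Modules.pullback ry).obj O1 ≅ (Scheme.Modules.pullback (f.fiberι y)).obj L :=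
    ((Scheme.Modules.pullbackComp iy (pZ N _)).app O1).symm ≪≫ eL.symm
  let c : Fin (N + 1) → ProjUP.Γm ((Scheme.Modules.pullback ry).obj O1) :=
    fun i => ProjUP.pullSec ry O1 (ProjUP.coord N Zu i)
  let t : Fin (N + 1) → ProjUP.Γm ((Scheme.Modules.pullback (f.fiberι y)).obj L) := fun i => τy.hom.app ⊤ (c i)
  choose W hyW hle s hs using fun i => FibreLift.exists_lift f L hcoh.1 (KZ.LFRes.isFP_of_isCoh hcoh)
    (Seesaw.isFlatOver_of_isInvertible f hL) h1 y (t i)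
  obtain ⟨_, ⟨V₀, hV₀, rfl⟩, hyV₀, hV₀W⟩ :=
    Y.isBasis_affineOpens.exists_subset_of_mem_open (a := y) (u := (⋂ i, (W i : Set Y)))
      (Set.mem_iInter.2 hyW) (isOpen_iInter_of_finite fun i => (W i).2)
  have hVW : ∀ i, V₀ ≤ W i := fun i x hx => Set.mem_iInter.1 (hV₀W hx) i
  let O₀ : X.Opens := f ⁻¹ᵁ V₀
  let M := (Scheme.Modules.pullback O₀.ι).obj L
  let S : Fin (N + 1) → ProjUP.Γm M := fun i => QCoh.pullSec O₀.ι L (V := O₀) (W := ⊤) O₀.ι_preimage_self.ge
    (L.presheaf.map (homOfLE (f.preimage_mono (hVW i))).op (s i))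
  let gy := fibIn f (V := V₀) hyV₀
  have hgy : gy ≫ O₀.ι = f.fiberι y := IsOpenImmersion.lift_fac _ _ _
  let e0 : (Scheme.Modules.pullback gy).obj M ≅ (Scheme.Modules.pullback (f.fiberι y)).obj L :=
    (Scheme.Modules.pullbackComp gy O₀.ι).app L ≪≫ (Scheme.Modules.pullbackCongr hgy).app L
  have hc0 : Carry e0 (fun i => ProjUP.pullSec gy M (S i)) t := fun i => by
    show ((Scheme.Modules.pullbackCongr hgy).hom.app L).app ⊤
      (((Scheme.Modules.pullbackComp gy O₀.ι).hom.app L).app ⊤ (ProjUP.pullSec gy M (S i))) = t i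
    rw [pullSec_eq]
    refine (congrArg (((Scheme.Modules.pullbackCongr hgy).hom.app L).app ⊤) (ExistEasy.pullSec_comp gy O₀.ι L
      (W := ⊤) (U := ⊤) (V := O₀) O₀.ι_preimage_self.ge le_rfl _)).trans ?_
    refine (ExistEasy.pullSec_congr hgy L _ _).trans ?_
    refine (ExistEasy.pullSec_res (f.fiberι y) L (f.preimage_mono (hVW i)) le_rfl (hle i) _ (s i)).symm.trans ?_
    rw [show homOfLE (le_rfl : (⊤ : (f.fiber y).Opens) ≤ ⊤) = 𝟙 _ from rfl, op_id]
    exact (QCoh.map_id' _ _).trans (hs i)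
  let τ0 : (Scheme.Modules.pullback ry).obj O1 ≅ (Scheme.Modules.pullback gy).obj M := τy ≪≫ e0.symm
  have hτ0 : Carry τ0 c (fun i => ProjUP.pullSec gy M (S i)) := Carry.trans (fun _ => rfl) hc0.symm
  have hM : PicF.IsInvertible M := PicClLib.isInvertible_pullback _ hL
  let G : ((O₀ : X.Opens) : Scheme.{u}).Opens := ⨆ i, TrivBasic.locus (S i)
  have hfib : ∀ z : f.fiber y, gy z ∈ G := fun z => by
    obtain ⟨j, hj⟩ := PnCoh.Chow.cov_coord (N := N) Zu.{u} (ry z)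
    refine Opens.mem_iSup.2 ⟨j.down, ?_⟩
    have h2 := (AmpleEmbed.preimage_chart ry τ0 j.down (hτ0 j.down)).le (show z ∈ ry ⁻¹ᵁ _ from hj)
    have h3 := TrivBasic.locus_pullElt hM gy (S j.down)
    exact h3.le h2
  obtain ⟨U₁, hyU₁, hU₁⟩ := Approx.FibreProper.exists_nhd_preimage_le f f.isClosedMap y (O₀.ι ''ᵁ G) fun x hx => by
    obtain ⟨z, rfl⟩ : x ∈ Set.range (f.fiberι y) := by rw [Scheme.Hom.range_fiberι]; exact hx
    exact ⟨gy z, hfib z, by show (gy ≫ O₀.ι) z = _; rw [hgy]⟩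
  obtain ⟨V₁, hV₁, hyV₁, hV₁U⟩ := exists_affine_nhd y (U₁ ⊓ V₀) ⟨hyU₁, hyV₀⟩
  have hV₁0 : V₁ ≤ V₀ := fun x hx => (hV₁U hx).2
  let O₁ : X.Opens := f ⁻¹ᵁ V₁
  let k := X.homOfLE (f.preimage_mono hV₁0)
  let M₁ := (Scheme.Modules.pullback k).obj M
  let S₁ : Fin (N + 1) → ProjUP.Γm M₁ := fun i => ProjUP.pullSec k M (S i)
  have hS₁ : ProjUP.GeneratedBy M₁ S₁ := AVAmple.generatedBy_of_locus _ fun x => by
    obtain ⟨x', hx', hxx⟩ := hU₁ (show (O₁.ι x : X) ∈ f ⁻¹ᵁ U₁ from (hV₁U x.2).1)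
    obtain rfl : x' = k x := O₀.ι.isOpenEmbedding.injective (by
      show O₀.ι x' = (k ≫ O₀.ι) x
      rw [Scheme.homOfLE_ι]
      exact hxx)
    obtain ⟨i, hi⟩ := Opens.mem_iSup.1 hx'
    exact ⟨i, (TrivBasic.locus_pullElt hM k (S i)).ge hi⟩
  obtain ⟨r, -, τr, hτr⟩ := S3572.result N (specULiftZIsTerminal.from _) M₁
    (PicClLib.isInvertible_pullback _ hM) S₁ hS₁
  have hcr : Carry τr (fun i => ProjUP.pullSec r O1 (ProjUP.coord N Zu i)) S₁ := hτr
  let g₁ := fibIn f (V := V₁) hyV₁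
  have hg₁ : g₁ ≫ k = gy := by
    rw [← cancel_mono O₀.ι, Category.assoc, Scheme.homOfLE_ι, IsOpenImmersion.lift_fac, hgy]
  have hr : g₁ ≫ r = ry := by
    let τ1 : (Scheme.Modules.pullback (g₁ ≫ r)).obj O1 ≅ (Scheme.Modules.pullback ry).obj O1 :=
      ((Scheme.Modules.pullbackComp g₁ r).app O1).symm ≪≫ (Scheme.Modules.pullback g₁).mapIso τr ≪≫
        (Scheme.Modules.pullbackComp g₁ k).app M ≪≫ (Scheme.Modules.pullbackCongr hg₁).app M ≪≫ τ0.symm
    refine S3573.result N _ _ (specULiftZIsTerminal.hom_ext _ _) τ1 ?_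
    exact ((carry_comp g₁ r O1 _).symm.trans ((hcr.pull g₁).trans ((carry_comp g₁ k M S).trans
      ((carry_congr hg₁ M S).trans hτ0.symm))))
  haveI : IsProper (CohB1.ProjSpace.toSpec N Zu.{u}) := PnCoh.Chow.isProper_toSpec N _
  let i₁ : (O₁ : Scheme.{u}) ⟶ CohB1.ProjSpaceOver N (V₁ : Scheme.{u}) := toP r (f ∣_ V₁)
  haveI : IsProper (pB N (V₁ : Scheme.{u})) := MorphismProperty.pullback_snd _ _ ‹_›
  haveI : IsClosedImmersion (toP (g₁ ≫ r) (f.fiberToSpecResidueField y)) := by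
    have : toP (g₁ ≫ r) (f.fiberToSpecResidueField y) = iy := by
      refine pullback.hom_ext ?_ ?_
      · rw [pullback.lift_fst, hr]
      · rw [pullback.lift_snd]; exact hiyB.symm
    rw [this]
    haveI : IsProper (pB N (Spec (Y.residueField y))) := MorphismProperty.pullback_snd _ _ ‹_›
    haveI : IsProper (f.fiberToSpecResidueField y) := MorphismProperty.pullback_snd _ _ ‹IsProper f›
    haveI : IsProper (iy ≫ pB N (Spec (Y.residueField y))) := by
      rw [show iy ≫ pB N (Spec (Y.residueField y)) = f.fiberToSpecResidueField y from hiyB]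
      infer_instance
    haveI : IsProper iy := IsProper.of_comp iy (pB N (Spec (Y.residueField y)))
    haveI : IsImmersion iy := hiy
    exact (IsClosedImmersion.iff_isProper_and_mono iy).2 ⟨inferInstance, inferInstance⟩
  let y₁ : (V₁ : Scheme.{u}) := ⟨y, hyV₁⟩
  let ρ : Spec ((V₁ : Scheme.{u}).residueField y₁) ⟶ Spec (Y.residueField y) :=
    Spec.map (V₁.ι.residueFieldMap y₁)
  have hρ : ρ ≫ ptIn (V := V₁) hyV₁ = (V₁ : Scheme.{u}).fromSpecResidueField y₁ := by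
    rw [← cancel_mono V₁.ι, Category.assoc, IsOpenImmersion.lift_fac]
    exact Scheme.Hom.SpecMap_residueFieldMap_fromSpecResidueField V₁.ι y₁
  let z : (pB N (V₁ : Scheme.{u})).fiber y₁ ⟶ CohB1.ProjSpaceOver N (Spec (Y.residueField y)) :=
    toP ((pB N (V₁ : Scheme.{u})).fiberι y₁ ≫ pZ N _) ((pB N (V₁ : Scheme.{u})).fiberToSpecResidueField y₁ ≫ ρ)
  haveI := isClosedImmersion_fiberMapOver i₁ (f ∣_ V₁) (pB N _) (pullback.lift_snd _ _ _) y₁
    (isPullback_toP r (f ∣_ V₁) (isPullback_fibIn f hyV₁)) z (by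
      refine pullback.hom_ext ?_ ?_
      · simp only [z, Category.assoc, pullback.lift_fst]
      · simp only [z, Category.assoc, pullback.lift_snd, pullback.lift_snd_assoc, hρ]
        exact (Scheme.Hom.fiber_fac _ _).symm)
  haveI : IsProper (f ∣_ V₁) := MorphismProperty.of_isPullback (isPullback_morphismRestrict f V₁).flip ‹IsProper f›
  obtain ⟨U₂, hyU₂, hU₂⟩ := Approx.FibreProper.exists_isClosedImmersion_nhd i₁ (f ∣_ V₁) (pB N _)
    (pullback.lift_snd _ _ _) y₁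
  obtain ⟨V, hV, hyV, hVU⟩ := exists_affine_nhd y (V₁.ι ''ᵁ U₂) ⟨y₁, hyU₂, rfl⟩
  have hV1 : V ≤ V₁ := fun x hx => by
    obtain ⟨x', -, rfl⟩ := hVU hx
    exact x'.2
  refine ⟨V, hyV, ?_⟩
  let k₂ := X.homOfLE (f.preimage_mono hV1)
  have sq := isPullback_toP r (f ∣_ V₁) (isPullback_restrict_homOfLE f hV1)
  let E : (CohB1.ProjSpaceOver N (V₁ : Scheme.{u})).Opens := pB N _ ⁻¹ᵁ U₂
  let b := bP (n := N) (Y.homOfLE hV1)
  let b' := IsOpenImmersion.lift E.ι b (by
    rw [Scheme.Opens.range_ι]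
    rintro _ ⟨w, rfl⟩
    show pB N _ (b w) ∈ U₂
    rw [← Scheme.Hom.comp_apply, show b ≫ pB N _ = pB N _ ≫ Y.homOfLE hV1 from pullback.lift_snd _ _ _,
      Scheme.Hom.comp_apply]
    obtain ⟨x', hx', hx2⟩ := hVU (pB N (V : Scheme.{u}) w).2
    obtain rfl : x' = Y.homOfLE hV1 (pB N (V : Scheme.{u}) w) := V₁.ι.isOpenEmbedding.injective (by
      show V₁.ι x' = (Y.homOfLE hV1 ≫ V₁.ι) (pB N (V : Scheme.{u}) w)
      rw [Scheme.homOfLE_ι]
      exact hx2)
    exact hx')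
  haveI : IsClosedImmersion (toP (k₂ ≫ r) (f ∣_ V)) := by
    have hR := (isPullback_morphismRestrict i₁ E).flip
    have h3 : IsPullback k₂ (toP (k₂ ≫ r) (f ∣_ V)) i₁ (b' ≫ E.ι) := by
      rw [IsOpenImmersion.lift_fac]; exact sq
    let l := hR.lift k₂ (toP (k₂ ≫ r) (f ∣_ V) ≫ b') (by rw [Category.assoc]; exact h3.w)
    exact MorphismProperty.of_isPullback
      (IsPullback.of_right (h₁₁ := l) (by rw [hR.lift_fst]; exact h3) (hR.lift_snd _ _ _) hR) hU₂
  let i₂ := toP (k₂ ≫ r) (f ∣_ V)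
  have hi₂ : i₂ ≫ pZ N (V : Scheme.{u}) = k₂ ≫ r := pullback.lift_fst _ _ _
  have hk : k₂ ≫ k ≫ O₀.ι = (f ⁻¹ᵁ V).ι := by rw [Scheme.homOfLE_ι, Scheme.homOfLE_ι]
  refine ⟨N, i₂, inferInstance, pullback.lift_snd _ _ _, ⟨?_⟩⟩
  exact ((Scheme.Modules.restrictFunctorIsoPullback (f ⁻¹ᵁ V).ι).app L) ≪≫
    ((Scheme.Modules.pullbackCongr hk).app L).symm ≪≫ ((Scheme.Modules.pullbackComp k₂ (k ≫ O₀.ι)).app L).symm ≪≫
    (Scheme.Modules.pullback k₂).mapIso (((Scheme.Modules.pullbackComp k O₀.ι).app L).symm ≪≫ τr.symm) ≪≫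
    (Scheme.Modules.pullbackComp k₂ r).app O1 ≪≫ ((Scheme.Modules.pullbackCongr hi₂).app O1).symm ≪≫
    ((Scheme.Modules.pullbackComp i₂ (pZ N (V : Scheme.{u}))).app O1).symm

/-- Relative very ampleness from the fibres. -/
theorem isRelVeryAmple [IsProper f] [Flat f] [IsLocallyNoetherian Y] (hL : PicF.IsInvertible L)
    (h1 : ∀ y : Y, Subsingleton (CohIII.fiberH f L y 1))
    (hva : ∀ y : Y, RelAmple.IsRelVeryAmplePn (f.fiberToSpecResidueField y)
      ((Scheme.Modules.pullback (f.fiberι y)).obj L)) :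
    RelProj.IsRelVeryAmple f L := by
  choose V hyV hV using fun y => exists_nhd_isRelVeryAmplePn f L hL h1 y (hva y)
  exact Groth.Agent.S12481.result f L hL V
    (top_le_iff.1 fun y _ => Opens.mem_iSup.2 ⟨y, hyV y⟩) hV

end Groth.Agent.H9Misc.VeryAmpleFibre
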