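import Mathlib
import Groth.Agent.KFlatLib.Ghost

/-! The lemma on way-out functors. -/

set_option linter.style.haveILetI false

universe w w' v v' u u'

open CategoryTheory CategoryTheory.Category CategoryTheory.Limits CategoryTheory.Pretriangulated
open DerivedCategory

namespace Groth.Agent.H9Misc.WayOut

section Diagram

variable {C : Type u} [Category.{v} C] [Abelian C]
variable {A₁ A₂ A₃ A₄ A₅ B₁ B₂ B₃ B₄ B₅ : C}
  {a : A₁ ⟶ A₂} {b : A₂ ⟶ A₃} {c : A₃ ⟶ A₄} {d : A₄ ⟶ A₅}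
  {a' : B₁ ⟶ B₂} {b' : B₂ ⟶ B₃} {c' : B₃ ⟶ B₄} {d' : B₄ ⟶ B₅}
  {α₁ : A₁ ⟶ B₁} {α₂ : A₂ ⟶ B₂} {α₃ : A₃ ⟶ B₃} {α₄ : A₄ ⟶ B₄} {α₅ : A₅ ⟶ B₅}

lemma four_mono (hb : a ≫ b = 0) {w' : a' ≫ b' = 0} {wc : b ≫ c = 0}
    (hA : (ShortComplex.mk b c wc).Exact) (hB : (ShortComplex.mk a' b' w').Exact)
    (s₁ : α₁ ≫ a' = a ≫ α₂) (s₂ : α₂ ≫ b' = b ≫ α₃) (s₃ : α₃ ≫ c' = c ≫ α₄)
    (h₁ : Epi α₁) (h₂ : Mono α₂) (h₄ : Mono α₄) : Mono α₃ := by
  refine Preadditive.mono_of_cancel_zero _ fun {P} t ht => ?_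
  have h1 : t ≫ c = 0 := by rw [← cancel_mono α₄, assoc, ← s₃, reassoc_of% ht, zero_comp, zero_comp]
  obtain ⟨P₁, π₁, _, s, hs⟩ := hA.exact_up_to_refinements t h1
  dsimp at s hs
  have h2 : (s ≫ α₂) ≫ b' = 0 := by rw [assoc, s₂, ← assoc, ← hs, assoc, ht, comp_zero]
  obtain ⟨P₂, π₂, _, r, hr⟩ := hB.exact_up_to_refinements (s ≫ α₂) h2
  dsimp at r hr
  obtain ⟨P₃, π₃, _, q, hq⟩ := surjective_up_to_refinements_of_epi α₁ r
  have h3 : π₃ ≫ π₂ ≫ s = q ≫ a := by
    rw [← cancel_mono α₂, assoc, assoc, hr, reassoc_of% hq, s₁, assoc]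
  rw [← cancel_epi π₁, comp_zero, ← cancel_epi π₂, comp_zero, ← cancel_epi π₃, comp_zero, hs,
    reassoc_of% h3, hb, comp_zero]

lemma four_epi {wc : c ≫ d = 0} {w' : b' ≫ c' = 0} (hd : c' ≫ d' = 0)
    (hA : (ShortComplex.mk c d wc).Exact) (hB : (ShortComplex.mk b' c' w').Exact)
    (s₂ : α₂ ≫ b' = b ≫ α₃) (s₃ : α₃ ≫ c' = c ≫ α₄) (s₄ : α₄ ≫ d' = d ≫ α₅)
    (h₂ : Epi α₂) (h₄ : Epi α₄) (h₅ : Mono α₅) : Epi α₃ := by
  rw [epi_iff_surjective_up_to_refinements]
  intro P x
  obtain ⟨P₁, π₁, _, y, hy⟩ := surjective_up_to_refinements_of_epi α₄ (x ≫ c')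
  have h1 : y ≫ d = 0 := by
    rw [← cancel_mono α₅, assoc, ← s₄, ← reassoc_of% hy, hd, comp_zero, comp_zero, zero_comp]
  obtain ⟨P₂, π₂, _, z, hz⟩ := hA.exact_up_to_refinements y h1
  dsimp at z hz
  have h2 : (π₂ ≫ π₁ ≫ x - z ≫ α₃) ≫ c' = 0 := by
    rw [Preadditive.sub_comp, assoc, assoc, hy, reassoc_of% hz, assoc, s₃, sub_self]
  obtain ⟨P₃, π₃, _, w, hw⟩ := hB.exact_up_to_refinements _ h2
  dsimp at w hw
  obtain ⟨P₄, π₄, _, v, hv⟩ := surjective_up_to_refinements_of_epi α₂ w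
  refine ⟨P₄, π₄ ≫ π₃ ≫ π₂ ≫ π₁, inferInstance, π₄ ≫ π₃ ≫ z + v ≫ b, ?_⟩
  rw [Preadditive.comp_sub, sub_eq_iff_eq_add] at hw
  simp only [assoc, hw, Preadditive.comp_add, Preadditive.add_comp, ← s₂, ← reassoc_of% hv]
  abel

end Diagram

variable {A : Type u} [Category.{v} A] [Abelian A] [HasDerivedCategory.{w} A]
    {B : Type u'} [Category.{v'} B] [Abelian B] [HasDerivedCategory.{w'} B]
    {F G : DerivedCategory A ⥤ DerivedCategory B} [F.CommShift ℤ] [G.CommShift ℤ]
    (η : F ⟶ G) [NatTrans.CommShift η ℤ]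

/-- The map of triangles induced by `η`. -/
noncomputable def mapT (T : Triangle (DerivedCategory A)) :
    F.mapTriangle.obj T ⟶ G.mapTriangle.obj T :=
  Triangle.homMk _ _ (η.app _) (η.app _) (η.app _) (η.naturality _) (η.naturality _) (by
    show (F.map T.mor₃ ≫ (F.commShiftIso (1 : ℤ)).hom.app T.obj₁) ≫ (η.app T.obj₁)⟦(1 : ℤ)⟧' =
      η.app T.obj₃ ≫ G.map T.mor₃ ≫ (G.commShiftIso (1 : ℤ)).hom.app T.obj₁
    rw [assoc, NatTrans.shift_app_comm η (1 : ℤ) T.obj₁, ← assoc, η.naturality, assoc])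

lemma isIso_of_iso {X Y : DerivedCategory A} (e : X ≅ Y) (h : IsIso (η.app X)) : IsIso (η.app Y) :=
  (NatTrans.isIso_app_iff_of_iso η e).1 h

lemma isIso_shift {X : DerivedCategory A} (h : IsIso (η.app X)) (n : ℤ) : IsIso (η.app (X⟦n⟧)) := by
  rw [NatTrans.app_shift η n X]
  infer_instance

lemma isIso₂ [F.IsTriangulated] [G.IsTriangulated] {T : Triangle (DerivedCategory A)}
    (hT : T ∈ distinguishedTriangles) (h₁ : IsIso (η.app T.obj₁)) (h₃ : IsIso (η.app T.obj₃)) :
    IsIso (η.app T.obj₂) :=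
  isIso₂_of_isIso₁₃ (mapT η T) (F.map_distinguished _ hT) (G.map_distinguished _ hT) h₁ h₃

variable (P : ObjectProperty A) [P.IsClosedUnderIsomorphisms]

lemma isIso_single (hη : ∀ X : A, P X → IsIso (η.app ((singleFunctor A 0).obj X))) (n : ℤ) (Y : A)
    (hY : P Y) : IsIso (η.app ((singleFunctor A n).obj Y)) :=
  isIso_of_iso η (((singleFunctors A).shiftIso (-n) n 0 (by omega)).app Y) (isIso_shift η (hη Y hY) (-n))

lemma isIso_H_truncGE (X : DerivedCategory A) (b i : ℤ) (hi : b ≤ i) :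
    IsIso ((homologyFunctor A i).map ((TStructure.t.truncGEπ b).app X)) := by
  let T := (TStructure.t.triangleLTGE b).obj X
  have hT : T ∈ distinguishedTriangles := TStructure.t.triangleLTGE_distinguished b X
  have hz : ∀ j, b ≤ j → IsZero ((homologyFunctor A j).obj T.obj₁) := fun j hj => by
    haveI : T.obj₁.IsLE (b - 1) :=
      inferInstanceAs (TStructure.t.IsLE ((TStructure.t.truncLT b).obj X) (b - 1))
    exact isZero_of_isLE _ (b - 1) j (by omega)
  haveI : Mono ((homologyFunctor A i).map T.mor₂) :=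
    (HomologySequence.mono_homologyMap_mor₂_iff T hT i).2 ((hz i hi).eq_of_src _ _)
  haveI : Epi ((homologyFunctor A i).map T.mor₂) :=
    (HomologySequence.epi_homologyMap_mor₂_iff T hT i (i + 1)).2 ((hz (i + 1) (by omega)).eq_of_tgt _ _)
  exact isIso_of_mono_of_epi ((homologyFunctor A i).map T.mor₂)

lemma P_truncLT {hP : ∀ Z : A, IsZero Z → P Z} {X : DerivedCategory A}
    (hX : ∀ i : ℤ, P ((homologyFunctor A i).obj X)) (b i : ℤ) :
    P ((homologyFunctor A i).obj ((TStructure.t.truncLT b).obj X)) := by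
  rcases lt_or_ge i b with hi | hi
  · haveI := KFlatLib.isIso_homology_truncLTι X b i hi
    exact P.prop_of_iso (asIso ((homologyFunctor A i).map ((TStructure.t.truncLTι b).app X))).symm (hX i)
  · haveI : DerivedCategory.IsLE ((TStructure.t.truncLT b).obj X) (b - 1) :=
      inferInstanceAs (TStructure.t.IsLE ((TStructure.t.truncLT b).obj X) (b - 1))
    exact hP _ (isZero_of_isLE _ (b - 1) i (by omega))

lemma P_truncGE {hP : ∀ Z : A, IsZero Z → P Z} {X : DerivedCategory A}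
    (hX : ∀ i : ℤ, P ((homologyFunctor A i).obj X)) (b i : ℤ) :
    P ((homologyFunctor A i).obj ((TStructure.t.truncGE b).obj X)) := by
  rcases lt_or_ge i b with hi | hi
  · haveI : DerivedCategory.IsGE ((TStructure.t.truncGE b).obj X) b :=
      inferInstanceAs (TStructure.t.IsGE ((TStructure.t.truncGE b).obj X) b)
    exact hP _ (isZero_of_isGE _ b i hi)
  · haveI := isIso_H_truncGE X b i hi
    exact P.prop_of_iso (asIso ((homologyFunctor A i).map ((TStructure.t.truncGEπ b).app X))) (hX i)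

section Main

variable [F.IsTriangulated] [G.IsTriangulated]
  (hη : ∀ X : A, P X → IsIso (η.app ((singleFunctor A 0).obj X)))
include hη

lemma isIso_bounded_aux (hP : ∀ Z : A, IsZero Z → P Z) :
    ∀ (k : ℕ) (X : DerivedCategory A) (a b : ℤ), b ≤ a + k → X.IsGE a → X.IsLE b →
      (∀ i : ℤ, P ((homologyFunctor A i).obj X)) → IsIso (η.app X) := by
  intro k
  induction k with
  | zero =>
    intro X a b hk hGE hLE hX
    haveI := hGE
    haveI : X.IsLE a := TStructure.t.isLE_of_le X b a (by omega)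
    obtain ⟨Y, ⟨e⟩⟩ := exists_iso_singleFunctor_obj_of_isGE_of_isLE X a
    refine isIso_of_iso η e.symm (isIso_single η P hη a Y ?_)
    exact P.prop_of_iso ((homologyFunctor A a).mapIso e ≪≫
      (singleFunctorCompHomologyFunctorIso A a).app Y) (hX a)
  | succ k ih =>
    intro X a b hk hGE hLE hX
    haveI := hGE; haveI := hLE
    let T := (TStructure.t.triangleLTGE (a + 1)).obj X
    have hT : T ∈ distinguishedTriangles := TStructure.t.triangleLTGE_distinguished (a + 1) X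
    refine isIso₂ η hT ?_ ?_
    · refine ih _ a a (by omega) (KFlatLib.isGE_truncLT X a (a + 1)) ?_ (P_truncLT P (hP := hP) hX (a + 1))
      exact inferInstanceAs (TStructure.t.IsLE ((TStructure.t.truncLT (a + 1)).obj X) a)
    · refine ih _ (a + 1) b (by omega)
        (inferInstanceAs (TStructure.t.IsGE ((TStructure.t.truncGE (a + 1)).obj X) (a + 1))) ?_
        (P_truncGE P (hP := hP) hX (a + 1))
      rw [isLE_iff]
      intro i hi
      rcases lt_or_ge i (a + 1) with h | h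
      · haveI : DerivedCategory.IsGE ((TStructure.t.truncGE (a + 1)).obj X) (a + 1) :=
          inferInstanceAs (TStructure.t.IsGE ((TStructure.t.truncGE (a + 1)).obj X) (a + 1))
        exact isZero_of_isGE _ (a + 1) i h
      · haveI := isIso_H_truncGE X (a + 1) i h
        exact (isZero_of_isLE X b i hi).of_iso
          (asIso ((homologyFunctor A i).map ((TStructure.t.truncGEπ (a + 1)).app X))).symm

lemma P_isZero_of {X : DerivedCategory A} {a : ℤ} [X.IsGE a]
    (hX : ∀ i : ℤ, P ((homologyFunctor A i).obj X)) : ∀ Z : A, IsZero Z → P Z := fun _ hZ =>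
  P.prop_of_iso ((isZero_of_isGE X a (a - 1) (by omega)).iso hZ) (hX (a - 1))

theorem isIso_bounded (X : DerivedCategory A) (a b : ℤ) [X.IsGE a] [X.IsLE b]
    (hX : ∀ i : ℤ, P ((homologyFunctor A i).obj X)) : IsIso (η.app X) :=
  isIso_bounded_aux η P hη (P_isZero_of η P hη (a := a) hX) (b - a).toNat X a b (by omega) inferInstance
    inferInstance hX

theorem isIso_of_wayOutRight
    (hF : ∀ n₁ : ℤ, ∃ n₂ : ℤ, ∀ Y : DerivedCategory A, Y.IsGE n₂ → (F.obj Y).IsGE n₁)
    (hG : ∀ n₁ : ℤ, ∃ n₂ : ℤ, ∀ Y : DerivedCategory A, Y.IsGE n₂ → (G.obj Y).IsGE n₁)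
    (X : DerivedCategory A) (a : ℤ) [X.IsGE a]
    (hX : ∀ i : ℤ, P ((homologyFunctor A i).obj X)) : IsIso (η.app X) := by
  rw [DerivedCategory.isIso_iff]
  intro i
  obtain ⟨m, hm⟩ := hF (i + 2)
  obtain ⟨m', hm'⟩ := hG (i + 2)
  obtain ⟨n, hn⟩ : ∃ n : ℤ, n = max m m' := ⟨_, rfl⟩
  let T := (TStructure.t.triangleLTGE n).obj X
  have hT : T ∈ distinguishedTriangles := TStructure.t.triangleLTGE_distinguished n X
  haveI hGE : TStructure.t.IsGE T.obj₃ n :=
    inferInstanceAs (TStructure.t.IsGE ((TStructure.t.truncGE n).obj X) n)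
  have e₁ : IsIso (η.app T.obj₁) := by
    haveI := KFlatLib.isGE_truncLT X a n
    haveI : DerivedCategory.IsLE ((TStructure.t.truncLT n).obj X) (n - 1) :=
      inferInstanceAs (TStructure.t.IsLE ((TStructure.t.truncLT n).obj X) (n - 1))
    exact isIso_bounded η P hη ((TStructure.t.truncLT n).obj X) a (n - 1)
      (P_truncLT P (hP := P_isZero_of η P hη (a := a) hX) hX n)
  have key : ∀ (H : DerivedCategory A ⥤ DerivedCategory B) [H.CommShift ℤ] [H.IsTriangulated],
      (H.obj T.obj₃).IsGE (i + 2) → IsIso ((homologyFunctor B i).map (H.map T.mor₁)) := by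
    intro H _ _ hH
    haveI := hH
    have hT' := H.map_distinguished _ hT
    haveI : Mono ((homologyFunctor B i).map (H.mapTriangle.obj T).mor₁) :=
      (HomologySequence.mono_homologyMap_mor₁_iff _ hT' (i - 1) i (by omega)).2
        ((isZero_of_isGE (H.obj T.obj₃) (i + 2) (i - 1) (by omega)).eq_of_src _ _)
    haveI : Epi ((homologyFunctor B i).map (H.mapTriangle.obj T).mor₁) :=
      (HomologySequence.epi_homologyMap_mor₁_iff _ hT' i).2
        ((isZero_of_isGE (H.obj T.obj₃) (i + 2) i (by omega)).eq_of_tgt _ _)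
    exact isIso_of_mono_of_epi ((homologyFunctor B i).map (H.mapTriangle.obj T).mor₁)
  haveI := key F (hm _ (TStructure.t.isGE_of_ge _ m n (by omega)))
  haveI := key G (hm' _ (TStructure.t.isGE_of_ge _ m' n (by omega)))
  haveI := e₁
  have hsq : (homologyFunctor B i).map (F.map T.mor₁) ≫ (homologyFunctor B i).map (η.app T.obj₂) =
      (homologyFunctor B i).map (η.app T.obj₁) ≫ (homologyFunctor B i).map (G.map T.mor₁) := by
    rw [← Functor.map_comp, ← Functor.map_comp, η.naturality]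
  change IsIso ((homologyFunctor B i).map (η.app T.obj₂))
  exact IsIso.of_isIso_fac_left (hh := inferInstance) hsq

theorem isIso_of_wayOutBoth (hP : ∀ Z : A, IsZero Z → P Z)
    (hF : ∀ n₁ : ℤ, ∃ n₂ : ℤ, ∀ Y : DerivedCategory A, Y.IsGE n₂ → (F.obj Y).IsGE n₁)
    (hF' : ∀ n₁ : ℤ, ∃ n₂ : ℤ, ∀ Y : DerivedCategory A, Y.IsLE n₂ → (F.obj Y).IsLE n₁)
    (hG : ∀ n₁ : ℤ, ∃ n₂ : ℤ, ∀ Y : DerivedCategory A, Y.IsGE n₂ → (G.obj Y).IsGE n₁)
    (hG' : ∀ n₁ : ℤ, ∃ n₂ : ℤ, ∀ Y : DerivedCategory A, Y.IsLE n₂ → (G.obj Y).IsLE n₁)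
    (X : DerivedCategory A) (hX : ∀ i : ℤ, P ((homologyFunctor A i).obj X)) : IsIso (η.app X) := by
  rw [DerivedCategory.isIso_iff]
  intro i
  obtain ⟨m, hm⟩ := hF' (i - 2)
  obtain ⟨m', hm'⟩ := hG' (i - 2)
  obtain ⟨n, hn⟩ : ∃ n : ℤ, n = min m m' + 1 := ⟨_, rfl⟩
  let T := (TStructure.t.triangleLTGE n).obj X
  have hT : T ∈ distinguishedTriangles := TStructure.t.triangleLTGE_distinguished n X
  haveI hLE : TStructure.t.IsLE T.obj₁ (n - 1) :=
    inferInstanceAs (TStructure.t.IsLE ((TStructure.t.truncLT n).obj X) (n - 1))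
  have e₃ : IsIso (η.app T.obj₃) := by
    haveI : DerivedCategory.IsGE ((TStructure.t.truncGE n).obj X) n :=
      inferInstanceAs (TStructure.t.IsGE ((TStructure.t.truncGE n).obj X) n)
    exact isIso_of_wayOutRight η P hη hF hG ((TStructure.t.truncGE n).obj X) n
      (P_truncGE P (hP := hP) hX n)
  have key : ∀ (H : DerivedCategory A ⥤ DerivedCategory B) [H.CommShift ℤ] [H.IsTriangulated],
      (H.obj T.obj₁).IsLE (i - 2) → IsIso ((homologyFunctor B i).map (H.map T.mor₂)) := by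
    intro H _ _ hH
    haveI := hH
    have hT' := H.map_distinguished _ hT
    haveI : Mono ((homologyFunctor B i).map (H.mapTriangle.obj T).mor₂) :=
      (HomologySequence.mono_homologyMap_mor₂_iff _ hT' i).2
        ((isZero_of_isLE (H.obj T.obj₁) (i - 2) i (by omega)).eq_of_src _ _)
    haveI : Epi ((homologyFunctor B i).map (H.mapTriangle.obj T).mor₂) :=
      (HomologySequence.epi_homologyMap_mor₂_iff _ hT' i (i + 1)).2
        ((isZero_of_isLE (H.obj T.obj₁) (i - 2) (i + 1) (by omega)).eq_of_tgt _ _)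
    exact isIso_of_mono_of_epi ((homologyFunctor B i).map (H.mapTriangle.obj T).mor₂)
  haveI := key F (hm _ (TStructure.t.isLE_of_le _ (n - 1) m (by omega)))
  haveI := key G (hm' _ (TStructure.t.isLE_of_le _ (n - 1) m' (by omega)))
  haveI := e₃
  have hsq : (homologyFunctor B i).map (η.app T.obj₂) ≫ (homologyFunctor B i).map (G.map T.mor₂) =
      (homologyFunctor B i).map (F.map T.mor₂) ≫ (homologyFunctor B i).map (η.app T.obj₃) := by
    rw [← Functor.map_comp, ← Functor.map_comp, η.naturality]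
  change IsIso ((homologyFunctor B i).map (η.app T.obj₂))
  exact IsIso.of_isIso_fac_right hsq

omit [P.IsClosedUnderIsomorphisms] in
theorem isIso_of_cogenerating (hP : ∀ X : A, ∃ (Y : A) (i : X ⟶ Y), P Y ∧ Mono i)
    (hF : ∀ n₁ : ℤ, ∃ n₂ : ℤ, ∀ Y : DerivedCategory A, Y.IsGE n₂ → (F.obj Y).IsGE n₁)
    (hG : ∀ n₁ : ℤ, ∃ n₂ : ℤ, ∀ Y : DerivedCategory A, Y.IsGE n₂ → (G.obj Y).IsGE n₁)
    (X : A) : IsIso (η.app ((singleFunctor A 0).obj X)) := by
  have bound : ∀ (H : DerivedCategory A ⥤ DerivedCategory B) [H.CommShift ℤ],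
      (∀ n₁ : ℤ, ∃ n₂ : ℤ, ∀ Y : DerivedCategory A, Y.IsGE n₂ → (H.obj Y).IsGE n₁) →
      ∃ c : ℤ, ∀ Y : A, (H.obj ((singleFunctor A 0).obj Y)).IsGE c := by
    intro H _ hH
    obtain ⟨n, hn⟩ := hH 0
    refine ⟨-n, fun Y => ?_⟩
    have h0 : TStructure.t.IsGE ((singleFunctor A 0).obj Y) 0 :=
      inferInstanceAs (DerivedCategory.IsGE ((singleFunctor A 0).obj Y) 0)
    haveI : TStructure.t.IsGE (H.obj (((singleFunctor A 0).obj Y)⟦-n⟧)) 0 :=
      hn _ (TStructure.t.isGE_shift _ 0 (-n) n (by omega))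
    haveI : TStructure.t.IsGE ((shiftFunctor (DerivedCategory A) (-n) ⋙ H).obj ((singleFunctor A 0).obj Y)) 0 :=
      hn _ (TStructure.t.isGE_shift _ 0 (-n) n (by omega))
    haveI : TStructure.t.IsGE ((H.obj ((singleFunctor A 0).obj Y))⟦-n⟧) 0 :=
      TStructure.t.isGE_of_iso ((H.commShiftIso (-n)).app ((singleFunctor A 0).obj Y)) 0
    exact (TStructure.t.isGE_shift_iff (H.obj ((singleFunctor A 0).obj Y)) (-n) (-n) 0 (by omega)).1 inferInstance
  obtain ⟨cF, hcF⟩ := bound F hF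
  obtain ⟨cG, hcG⟩ := bound G hG
  obtain ⟨c, hc⟩ : ∃ c, c = min cF cG := ⟨_, rfl⟩
  suffices ∀ (k : ℕ) (i : ℤ), i < c + k → ∀ X : A,
      IsIso ((homologyFunctor B i).map (η.app ((singleFunctor A 0).obj X))) by
    rw [DerivedCategory.isIso_iff]
    exact fun i => this (i + 1 - c).toNat i (by omega) X
  intro k
  induction k with
  | zero =>
    intro i hi X
    haveI := hcF X; haveI := hcG X
    exact ⟨0, (isZero_of_isGE (F.obj _) cF i (by omega)).eq_of_src _ _,
      (isZero_of_isGE (G.obj _) cG i (by omega)).eq_of_src _ _⟩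
  | succ k ih =>
    intro i hi
    rcases lt_or_ge i (c + k) with h | h
    · exact ih i h
    let H₁ := fun j : ℤ => homologyFunctor B j
    have data : ∀ X : A, ∃ (T : Triangle (DerivedCategory A)) (_ : T ∈ distinguishedTriangles) (Y : A),
        IsIso (η.app T.obj₂) ∧ Nonempty (T.obj₁ ≅ (singleFunctor A 0).obj X) ∧
          Nonempty (T.obj₃ ≅ (singleFunctor A 0).obj Y) := by
      intro X
      obtain ⟨Y, ι, hY, hι⟩ := hP X
      let S := ShortComplex.mk ι (cokernel.π ι) (cokernel.condition ι)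
      have hS : S.ShortExact := { exact := ShortComplex.exact_cokernel ι }
      exact ⟨hS.singleTriangle, hS.singleTriangle_distinguished, cokernel ι, hη Y hY,
        ⟨Iso.refl _⟩, ⟨Iso.refl _⟩⟩
    have prev : ∀ Z : DerivedCategory A, (∃ Y, Nonempty (Z ≅ (singleFunctor A 0).obj Y)) →
        IsIso ((H₁ (i - 1)).map (η.app Z)) := by
      rintro Z ⟨Y, ⟨e⟩⟩
      haveI := ih (i - 1) (by omega) Y
      exact (NatTrans.isIso_app_iff_of_iso (Functor.whiskerRight η (H₁ (i - 1))) e).2 (by exact this)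
    have hmono : ∀ X : A, Mono ((H₁ i).map (η.app ((singleFunctor A 0).obj X))) := by
      intro X
      obtain ⟨T, hT, Y, h₂, ⟨e₁⟩, ⟨e₃⟩⟩ := data X
      haveI := h₂
      haveI := prev T.obj₃ ⟨Y, ⟨e₃⟩⟩
      have : Mono ((H₁ i).map (η.app T.obj₁)) := by
        have hF' := F.map_distinguished _ hT
        have hG' := G.map_distinguished _ hT
        refine four_mono (α₁ := (H₁ (i - 1)).map (η.app T.obj₂)) (α₂ := (H₁ (i - 1)).map (η.app T.obj₃))
          (α₄ := (H₁ i).map (η.app T.obj₂)) (c' := (H₁ i).map (G.map T.mor₁))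
          (HomologySequence.comp_δ _ hF' (i - 1) i (by omega))
          (HomologySequence.exact₁ _ hF' (i - 1) i (by omega))
          (HomologySequence.exact₃ _ hG' (i - 1) i (by omega)) ?_ ?_ ?_ ?_ ?_ ?_
        · exact ((H₁ (i - 1)).map_comp _ _).symm.trans ((congrArg (H₁ (i - 1)).map (η.naturality T.mor₂).symm).trans ((H₁ (i - 1)).map_comp _ _))
        · exact (homologyFunctor B 0).homologySequenceδ_naturality _ _ (mapT η T) (i - 1) i (by omega)
        · exact ((H₁ i).map_comp _ _).symm.trans ((congrArg (H₁ i).map (η.naturality T.mor₁).symm).trans ((H₁ i).map_comp _ _))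
        · exact (inferInstance : Epi ((H₁ (i - 1)).map (η.app T.obj₂)))
        · exact (inferInstance : Mono ((H₁ (i - 1)).map (η.app T.obj₃)))
        · exact (inferInstance : Mono ((H₁ i).map (η.app T.obj₂)))
      exact (MorphismProperty.monomorphisms B).arrow_mk_iso_iff
        (Arrow.isoMk ((H₁ i).mapIso (F.mapIso e₁)) ((H₁ i).mapIso (G.mapIso e₁)) (by
          show (H₁ i).map (F.map e₁.hom) ≫ (H₁ i).map (η.app ((singleFunctor A 0).obj X)) =
            (H₁ i).map (η.app T.obj₁) ≫ (H₁ i).map (G.map e₁.hom)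
          rw [← Functor.map_comp, ← Functor.map_comp, η.naturality])) |>.1 this
    intro X
    obtain ⟨T, hT, Y, h₂, ⟨e₁⟩, ⟨e₃⟩⟩ := data X
    haveI := h₂
    haveI := prev T.obj₃ ⟨Y, ⟨e₃⟩⟩
    haveI : Mono ((H₁ i).map (η.app T.obj₃)) := by
      refine ((MorphismProperty.monomorphisms B).arrow_mk_iso_iff
        (Arrow.isoMk ((H₁ i).mapIso (F.mapIso e₃)) ((H₁ i).mapIso (G.mapIso e₃)) (by
          show (H₁ i).map (F.map e₃.hom) ≫ (H₁ i).map (η.app ((singleFunctor A 0).obj Y)) =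
            (H₁ i).map (η.app T.obj₃) ≫ (H₁ i).map (G.map e₃.hom)
          rw [← Functor.map_comp, ← Functor.map_comp, η.naturality]))).2 (hmono Y)
    haveI : Epi ((H₁ i).map (η.app T.obj₁)) := by
      have hF' := F.map_distinguished _ hT
      have hG' := G.map_distinguished _ hT
      refine four_epi (α₂ := (H₁ (i - 1)).map (η.app T.obj₃))
        (α₄ := (H₁ i).map (η.app T.obj₂)) (α₅ := (H₁ i).map (η.app T.obj₃))
        (b := HomologySequence.δ (F.mapTriangle.obj T) (i - 1) i (by omega))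
        (d' := (H₁ i).map (G.map T.mor₂))
        ?_ (HomologySequence.exact₂ _ hF' i) (HomologySequence.exact₁ _ hG' (i - 1) i (by omega)) ?_ ?_ ?_ ?_ ?_ ?_
      · exact ((H₁ i).map_comp _ _).symm.trans ((congrArg (H₁ i).map ((G.map_comp _ _).symm.trans
          ((congrArg G.map (comp_distTriang_mor_zero₁₂ T hT)).trans (G.map_zero _ _)))).trans
            ((H₁ i).map_zero _ _))
      · exact (homologyFunctor B 0).homologySequenceδ_naturality _ _ (mapT η T) (i - 1) i (by omega)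
      · exact ((H₁ i).map_comp _ _).symm.trans ((congrArg (H₁ i).map (η.naturality T.mor₁).symm).trans ((H₁ i).map_comp _ _))
      · exact ((H₁ i).map_comp _ _).symm.trans ((congrArg (H₁ i).map (η.naturality T.mor₂).symm).trans ((H₁ i).map_comp _ _))
      · exact (inferInstance : Epi ((H₁ (i - 1)).map (η.app T.obj₃)))
      · exact (inferInstance : Epi ((H₁ i).map (η.app T.obj₂)))
      · exact (inferInstance : Mono ((H₁ i).map (η.app T.obj₃)))
    haveI : Mono ((H₁ i).map (η.app T.obj₁)) := by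
      refine ((MorphismProperty.monomorphisms B).arrow_mk_iso_iff
        (Arrow.isoMk ((H₁ i).mapIso (F.mapIso e₁)) ((H₁ i).mapIso (G.mapIso e₁)) (by
          show (H₁ i).map (F.map e₁.hom) ≫ (H₁ i).map (η.app ((singleFunctor A 0).obj X)) =
            (H₁ i).map (η.app T.obj₁) ≫ (H₁ i).map (G.map e₁.hom)
          rw [← Functor.map_comp, ← Functor.map_comp, η.naturality]))).2 (hmono X)
    haveI := isIso_of_mono_of_epi ((H₁ i).map (η.app T.obj₁))
    exact (NatTrans.isIso_app_iff_of_iso (Functor.whiskerRight η (H₁ i)) e₁).1 (by exact this)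

end Main

end Groth.Agent.H9Misc.WayOut
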