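import Mathlib
import Groth.Agent.DeligneLib.Points

/-! The embedding of a small abelian category into sheaves for the regular topology. -/

set_option linter.style.haveILetI false

universe u

open CategoryTheory CategoryTheory.Limits Opposite

namespace Groth.Agent.H9Misc.YonedaSheafEmb

variable (A : Type u) [SmallCategory A] [Abelian A] [Preregular A]

lemma isSheaf (X : A) :
    Presheaf.IsSheaf (regularTopology A) ((preadditiveYoneda.obj X : Aᵒᵖ ⥤ AddCommGrpCat.{u})) := by
  rw [Presheaf.isSheaf_iff_isSheaf_forget (regularTopology A) _ (forget AddCommGrpCat.{u}),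
    isSheaf_iff_isSheaf_of_type]
  exact GrothendieckTopology.Subcanonical.isSheaf_of_isRepresentable (J := regularTopology A) (yoneda.obj X)

/-- The embedding. -/
noncomputable def emb : A ⥤ Sheaf (regularTopology A) AddCommGrpCat.{u} :=
  ObjectProperty.lift _ preadditiveYoneda (isSheaf A)

/-- The embedding is sheafified additive Yoneda. -/
noncomputable def embIso : preadditiveYoneda ⋙ presheafToSheaf (regularTopology A) AddCommGrpCat.{u} ≅ emb A :=
  haveI : IsIso (sheafificationAdjunction (regularTopology A) AddCommGrpCat.{u}).counit := inferInstance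
  Functor.isoWhiskerLeft (emb A) (asIso (sheafificationAdjunction (regularTopology A) AddCommGrpCat.{u}).counit) ≪≫
    (emb A).rightUnitor

instance : (emb A).Full :=
  inferInstanceAs (ObjectProperty.lift _ _ _).Full

instance : (emb A).Faithful :=
  inferInstanceAs (ObjectProperty.lift _ _ _).Faithful

instance : PreservesFiniteLimits (preadditiveYoneda : A ⥤ Aᵒᵖ ⥤ AddCommGrpCat.{u}) :=
  ⟨fun J _ _ => preservesLimitsOfShape_of_evaluation _ _ fun X => by
    have : PreservesLimits ((preadditiveCoyoneda.obj X : A ⥤ AddCommGrpCat.{u})) := inferInstance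
    exact inferInstanceAs (PreservesLimitsOfShape J (preadditiveCoyoneda.obj X : A ⥤ AddCommGrpCat.{u}))⟩

instance : PreservesFiniteLimits (emb A) :=
  haveI := comp_preservesFiniteLimits (preadditiveYoneda : A ⥤ Aᵒᵖ ⥤ AddCommGrpCat.{u})
    (presheafToSheaf (regularTopology A) AddCommGrpCat.{u})
  preservesFiniteLimits_of_natIso (embIso A)

lemma preservesEpi {X Y : A} (f : X ⟶ Y) [Epi f] : Epi ((emb A).map f) := by
  haveI : Sheaf.IsLocallySurjective ((emb A).map f) := ⟨fun {V} s => by
    refine regularTopology.mem_sieves_of_hasEffectiveEpi _ ⟨pullback f (s : V ⟶ Y), pullback.snd f s, ?_,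
      pullback.fst f (s : V ⟶ Y), ?_⟩
    · haveI : IsRegularEpi (pullback.snd f (s : V ⟶ Y)) := IsRegularEpiCategory.regularEpiOfEpi _
      infer_instance
    · exact pullback.condition⟩
  exact Sheaf.epi_of_isLocallySurjective _

instance : PreservesFiniteColimits (emb A) := by
  haveI : (emb A).PreservesEpimorphisms := ⟨fun f _ => preservesEpi A f⟩
  haveI : (emb A).Additive := ⟨fun {X Y f g} =>
    ObjectProperty.hom_ext _ (NatTrans.ext (funext fun Z => AddCommGrpCat.hom_ext (AddMonoidHom.ext fun z =>
      Preadditive.comp_add Z.unop X Y z f g)))⟩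
  haveI : (emb A).PreservesHomology := Functor.preservesHomology_of_preservesEpis_and_kernels _
  exact Functor.preservesFiniteColimits_of_preservesHomology _

theorem main :
    (preadditiveYoneda ⋙ presheafToSheaf (regularTopology A) AddCommGrpCat.{u}).Full ∧
    (preadditiveYoneda ⋙ presheafToSheaf (regularTopology A) AddCommGrpCat.{u}).Faithful ∧
    PreservesFiniteLimits (preadditiveYoneda ⋙ presheafToSheaf (regularTopology A) AddCommGrpCat.{u}) ∧
    PreservesFiniteColimits (preadditiveYoneda ⋙ presheafToSheaf (regularTopology A) AddCommGrpCat.{u}) ∧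
    GrothendieckTopology.HasEnoughPoints.{u, u, u} (regularTopology A) := by
  refine ⟨Functor.Full.of_iso (embIso A).symm, Functor.Faithful.of_iso (embIso A).symm,
    preservesFiniteLimits_of_natIso (embIso A).symm, preservesFiniteColimits_of_natIso (embIso A).symm,
    DeligneLib.hasEnoughPoints fun U S hS => ?_⟩
  obtain ⟨Y, π, hπ, hSπ⟩ := (regularTopology.mem_sieves_iff_hasEffectiveEpi S).1 hS
  exact ⟨1, fun _ => Y, fun _ => π, fun _ => hSπ,
    regularTopology.mem_sieves_of_hasEffectiveEpi _ ⟨Y, π, hπ, Sieve.ofArrows_mk _ _ 0⟩⟩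

end Groth.Agent.H9Misc.YonedaSheafEmb
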